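import Cfsg.Agent.Helper17.Fi23TC.Fin1

set_option autoImplicit false
set_option linter.all false
set_option maxRecDepth 100000

noncomputable section

namespace Cfsg.Agent.Helper17.Fi23TC

theorem N10001 : nd 10001 = n29009 := ndS (p := 8243) (l := 3) rfl N8243 D29009
theorem N10002 : nd 10002 = n29010 := ndS (p := 8243) (l := 9) rfl N8243 D29010
theorem N10003 : nd 10003 = n29011 := ndS (p := 8244) (l := 4) rfl N8244 D29011
theorem N10004 : nd 10004 = n29012 := ndS (p := 8244) (l := 9) rfl N8244 D29012
theorem N10005 : nd 10005 = n29013 := ndS (p := 8246) (l := 5) rfl N8246 D29013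
theorem N10006 : nd 10006 = n29014 := ndS (p := 8246) (l := 9) rfl N8246 D29014
theorem N10007 : nd 10007 = n29015 := ndS (p := 8247) (l := 8) rfl N8247 D29015
theorem N10008 : nd 10008 = n29016 := ndS (p := 8248) (l := 6) rfl N8248 D29016
theorem N10009 : nd 10009 = n29017 := ndS (p := 8248) (l := 9) rfl N8248 D29017
theorem N10010 : nd 10010 = n29018 := ndS (p := 8249) (l := 8) rfl N8249 D29018
theorem N10011 : nd 10011 = n29019 := ndS (p := 8251) (l := 6) rfl N8251 D29019
theorem N10012 : nd 10012 = n29020 := ndS (p := 8251) (l := 8) rfl N8251 D29020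
theorem N10013 : nd 10013 = n29021 := ndS (p := 8252) (l := 3) rfl N8252 D29021
theorem N10014 : nd 10014 = n29022 := ndS (p := 8252) (l := 9) rfl N8252 D29022
theorem N10015 : nd 10015 = n29023 := ndS (p := 8253) (l := 3) rfl N8253 D29023
theorem N10016 : nd 10016 = n29024 := ndS (p := 8253) (l := 9) rfl N8253 D29024
theorem N10017 : nd 10017 = n29025 := ndS (p := 8254) (l := 2) rfl N8254 D29025
theorem N10018 : nd 10018 = n29026 := ndS (p := 8254) (l := 9) rfl N8254 D29026
theorem N10019 : nd 10019 = n29027 := ndS (p := 8256) (l := 1) rfl N8256 D29027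
theorem N10020 : nd 10020 = n29028 := ndS (p := 8256) (l := 9) rfl N8256 D29028
theorem N10021 : nd 10021 = n29029 := ndS (p := 8257) (l := 8) rfl N8257 D29029
theorem N10022 : nd 10022 = n29030 := ndS (p := 8259) (l := 8) rfl N8259 D29030
theorem N10023 : nd 10023 = n29031 := ndS (p := 8260) (l := 3) rfl N8260 D29031
theorem N10024 : nd 10024 = n29032 := ndS (p := 8260) (l := 9) rfl N8260 D29032
theorem N10025 : nd 10025 = n29033 := ndS (p := 8261) (l := 2) rfl N8261 D29033
theorem N10026 : nd 10026 = n29034 := ndS (p := 8261) (l := 4) rfl N8261 D29034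
theorem N10027 : nd 10027 = n29035 := ndS (p := 8261) (l := 9) rfl N8261 D29035
theorem N10028 : nd 10028 = n29036 := ndS (p := 8263) (l := 2) rfl N8263 D29036
theorem N10029 : nd 10029 = n29037 := ndS (p := 8263) (l := 9) rfl N8263 D29037
theorem N10030 : nd 10030 = n29038 := ndS (p := 8265) (l := 1) rfl N8265 D29038
theorem N10031 : nd 10031 = n29039 := ndS (p := 8265) (l := 9) rfl N8265 D29039
theorem N10032 : nd 10032 = n29040 := ndS (p := 8266) (l := 8) rfl N8266 D29040
theorem N10033 : nd 10033 = n29041 := ndS (p := 8267) (l := 0) rfl N8267 D29041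
theorem N10034 : nd 10034 = n29042 := ndS (p := 8267) (l := 9) rfl N8267 D29042
theorem N10035 : nd 10035 = n29043 := ndS (p := 8268) (l := 8) rfl N8268 D29043
theorem N10036 : nd 10036 = n29044 := ndS (p := 8270) (l := 1) rfl N8270 D29044
theorem N10037 : nd 10037 = n29045 := ndS (p := 8270) (l := 5) rfl N8270 D29045
theorem N10038 : nd 10038 = n29046 := ndS (p := 8270) (l := 8) rfl N8270 D29046
theorem N10039 : nd 10039 = n29047 := ndS (p := 8271) (l := 4) rfl N8271 D29047
theorem N10040 : nd 10040 = n29048 := ndS (p := 8271) (l := 6) rfl N8271 D29048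
theorem N10041 : nd 10041 = n29049 := ndS (p := 8271) (l := 8) rfl N8271 D29049
theorem N10042 : nd 10042 = n29050 := ndS (p := 8272) (l := 9) rfl N8272 D29050
theorem N10043 : nd 10043 = n29051 := ndS (p := 8273) (l := 7) rfl N8273 D29051
theorem N10044 : nd 10044 = n29054 := ndS (p := 8274) (l := 8) rfl N8274 D29054
theorem N10045 : nd 10045 = n29055 := ndS (p := 8275) (l := 3) rfl N8275 D29055
theorem N10046 : nd 10046 = n29056 := ndS (p := 8275) (l := 9) rfl N8275 D29056
theorem N10047 : nd 10047 = n29058 := ndS (p := 8276) (l := 8) rfl N8276 D29058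
theorem N10048 : nd 10048 = n29059 := ndS (p := 8277) (l := 7) rfl N8277 D29059
theorem N10049 : nd 10049 = n29060 := ndS (p := 8277) (l := 8) rfl N8277 D29060
theorem N10050 : nd 10050 = n29061 := ndS (p := 8278) (l := 9) rfl N8278 D29061
theorem N10051 : nd 10051 = n29063 := ndS (p := 8281) (l := 7) rfl N8281 D29063
theorem N10052 : nd 10052 = n29064 := ndS (p := 8281) (l := 8) rfl N8281 D29064
theorem N10053 : nd 10053 = n29065 := ndS (p := 8282) (l := 3) rfl N8282 D29065
theorem N10054 : nd 10054 = n29066 := ndS (p := 8282) (l := 9) rfl N8282 D29066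
theorem N10055 : nd 10055 = n29067 := ndS (p := 8283) (l := 8) rfl N8283 D29067
theorem N10056 : nd 10056 = n29068 := ndS (p := 8284) (l := 9) rfl N8284 D29068
theorem N10057 : nd 10057 = n29069 := ndS (p := 8286) (l := 5) rfl N8286 D29069
theorem N10058 : nd 10058 = n29070 := ndS (p := 8286) (l := 8) rfl N8286 D29070
theorem N10059 : nd 10059 = n29071 := ndS (p := 8287) (l := 4) rfl N8287 D29071
theorem N10060 : nd 10060 = n29072 := ndS (p := 8287) (l := 6) rfl N8287 D29072
theorem N10061 : nd 10061 = n29073 := ndS (p := 8287) (l := 8) rfl N8287 D29073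
theorem N10062 : nd 10062 = n29074 := ndS (p := 8288) (l := 3) rfl N8288 D29074
theorem N10063 : nd 10063 = n29075 := ndS (p := 8288) (l := 9) rfl N8288 D29075
theorem N10064 : nd 10064 = n29076 := ndS (p := 8289) (l := 6) rfl N8289 D29076
theorem N10065 : nd 10065 = n29077 := ndS (p := 8289) (l := 8) rfl N8289 D29077
theorem N10066 : nd 10066 = n29078 := ndS (p := 8290) (l := 7) rfl N8290 D29078
theorem N10067 : nd 10067 = n29079 := ndS (p := 8290) (l := 8) rfl N8290 D29079
theorem N10068 : nd 10068 = n29080 := ndS (p := 8291) (l := 9) rfl N8291 D29080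
theorem N10069 : nd 10069 = n29081 := ndS (p := 8294) (l := 3) rfl N8294 D29081
theorem N10070 : nd 10070 = n29082 := ndS (p := 8294) (l := 6) rfl N8294 D29082
theorem N10071 : nd 10071 = n29083 := ndS (p := 8294) (l := 8) rfl N8294 D29083
theorem N10072 : nd 10072 = n29084 := ndS (p := 8295) (l := 7) rfl N8295 D29084
theorem N10073 : nd 10073 = n29085 := ndS (p := 8295) (l := 8) rfl N8295 D29085
theorem N10074 : nd 10074 = n29086 := ndS (p := 8296) (l := 3) rfl N8296 D29086
theorem N10075 : nd 10075 = n29087 := ndS (p := 8296) (l := 9) rfl N8296 D29087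
theorem N10076 : nd 10076 = n29088 := ndS (p := 8297) (l := 4) rfl N8297 D29088
theorem N10077 : nd 10077 = n29089 := ndS (p := 8297) (l := 9) rfl N8297 D29089
theorem N10078 : nd 10078 = n29090 := ndS (p := 8299) (l := 5) rfl N8299 D29090
theorem N10079 : nd 10079 = n29091 := ndS (p := 8299) (l := 7) rfl N8299 D29091
theorem N10080 : nd 10080 = n29092 := ndS (p := 8299) (l := 8) rfl N8299 D29092
theorem N10081 : nd 10081 = n29093 := ndS (p := 8300) (l := 3) rfl N8300 D29093
theorem N10082 : nd 10082 = n29094 := ndS (p := 8300) (l := 9) rfl N8300 D29094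
theorem N10083 : nd 10083 = n29095 := ndS (p := 8301) (l := 8) rfl N8301 D29095
theorem N10084 : nd 10084 = n29096 := ndS (p := 8302) (l := 9) rfl N8302 D29096
theorem N10085 : nd 10085 = n29097 := ndS (p := 8304) (l := 7) rfl N8304 D29097
theorem N10086 : nd 10086 = n29098 := ndS (p := 8304) (l := 8) rfl N8304 D29098
theorem N10087 : nd 10087 = n29099 := ndS (p := 8305) (l := 8) rfl N8305 D29099
theorem N10088 : nd 10088 = n29100 := ndS (p := 8306) (l := 3) rfl N8306 D29100
theorem N10089 : nd 10089 = n29101 := ndS (p := 8306) (l := 9) rfl N8306 D29101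
theorem N10090 : nd 10090 = n29102 := ndS (p := 8307) (l := 2) rfl N8307 D29102
theorem N10091 : nd 10091 = n29103 := ndS (p := 8307) (l := 9) rfl N8307 D29103
theorem N10092 : nd 10092 = n29104 := ndS (p := 8309) (l := 9) rfl N8309 D29104
theorem N10093 : nd 10093 = n29105 := ndS (p := 8311) (l := 4) rfl N8311 D29105
theorem N10094 : nd 10094 = n29106 := ndS (p := 8311) (l := 6) rfl N8311 D29106
theorem N10095 : nd 10095 = n29107 := ndS (p := 8311) (l := 8) rfl N8311 D29107
theorem N10096 : nd 10096 = n29109 := ndS (p := 8312) (l := 9) rfl N8312 D29109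
theorem N10097 : nd 10097 = n29110 := ndS (p := 8313) (l := 3) rfl N8313 D29110
theorem N10098 : nd 10098 = n29111 := ndS (p := 8313) (l := 6) rfl N8313 D29111
theorem N10099 : nd 10099 = n29112 := ndS (p := 8313) (l := 8) rfl N8313 D29112
theorem N10100 : nd 10100 = n29113 := ndS (p := 8314) (l := 7) rfl N8314 D29113
theorem N10101 : nd 10101 = n29114 := ndS (p := 8314) (l := 8) rfl N8314 D29114
theorem N10102 : nd 10102 = n29115 := ndS (p := 8315) (l := 3) rfl N8315 D29115
theorem N10103 : nd 10103 = n29116 := ndS (p := 8315) (l := 9) rfl N8315 D29116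
theorem N10104 : nd 10104 = n29118 := ndS (p := 8316) (l := 9) rfl N8316 D29118
theorem N10105 : nd 10105 = n29119 := ndS (p := 8318) (l := 5) rfl N8318 D29119
theorem N10106 : nd 10106 = n29120 := ndS (p := 8318) (l := 7) rfl N8318 D29120
theorem N10107 : nd 10107 = n29121 := ndS (p := 8318) (l := 8) rfl N8318 D29121
theorem N10108 : nd 10108 = n29122 := ndS (p := 8319) (l := 3) rfl N8319 D29122
theorem N10109 : nd 10109 = n29123 := ndS (p := 8319) (l := 9) rfl N8319 D29123
theorem N10110 : nd 10110 = n29124 := ndS (p := 8320) (l := 8) rfl N8320 D29124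
theorem N10111 : nd 10111 = n29125 := ndS (p := 8321) (l := 9) rfl N8321 D29125
theorem N10112 : nd 10112 = n29126 := ndS (p := 8323) (l := 6) rfl N8323 D29126
theorem N10113 : nd 10113 = n29127 := ndS (p := 8323) (l := 8) rfl N8323 D29127
theorem N10114 : nd 10114 = n29128 := ndS (p := 8324) (l := 5) rfl N8324 D29128
theorem N10115 : nd 10115 = n29129 := ndS (p := 8324) (l := 7) rfl N8324 D29129
theorem N10116 : nd 10116 = n29130 := ndS (p := 8324) (l := 8) rfl N8324 D29130
theorem N10117 : nd 10117 = n29131 := ndS (p := 8325) (l := 3) rfl N8325 D29131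
theorem N10118 : nd 10118 = n29132 := ndS (p := 8325) (l := 9) rfl N8325 D29132
theorem N10119 : nd 10119 = n29133 := ndS (p := 8326) (l := 8) rfl N8326 D29133
theorem N10120 : nd 10120 = n29134 := ndS (p := 8327) (l := 3) rfl N8327 D29134
theorem N10121 : nd 10121 = n29135 := ndS (p := 8327) (l := 9) rfl N8327 D29135
theorem N10122 : nd 10122 = n29136 := ndS (p := 8328) (l := 4) rfl N8328 D29136
theorem N10123 : nd 10123 = n29137 := ndS (p := 8328) (l := 9) rfl N8328 D29137
theorem N10124 : nd 10124 = n29138 := ndS (p := 8330) (l := 5) rfl N8330 D29138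
theorem N10125 : nd 10125 = n29139 := ndS (p := 8330) (l := 9) rfl N8330 D29139
theorem N10126 : nd 10126 = n29140 := ndS (p := 8331) (l := 8) rfl N8331 D29140
theorem N10127 : nd 10127 = n29141 := ndS (p := 8332) (l := 7) rfl N8332 D29141
theorem N10128 : nd 10128 = n29142 := ndS (p := 8332) (l := 8) rfl N8332 D29142
theorem N10129 : nd 10129 = n29143 := ndS (p := 8333) (l := 8) rfl N8333 D29143
theorem N10130 : nd 10130 = n29144 := ndS (p := 8334) (l := 3) rfl N8334 D29144
theorem N10131 : nd 10131 = n29145 := ndS (p := 8334) (l := 9) rfl N8334 D29145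
theorem N10132 : nd 10132 = n29146 := ndS (p := 8335) (l := 2) rfl N8335 D29146
theorem N10133 : nd 10133 = n29147 := ndS (p := 8335) (l := 9) rfl N8335 D29147
theorem N10134 : nd 10134 = n29148 := ndS (p := 8337) (l := 9) rfl N8337 D29148
theorem N10135 : nd 10135 = n29149 := ndS (p := 8339) (l := 6) rfl N8339 D29149
theorem N10136 : nd 10136 = n29152 := ndS (p := 8340) (l := 9) rfl N8340 D29152
theorem N10137 : nd 10137 = n29154 := ndS (p := 8341) (l := 9) rfl N8341 D29154
theorem N10138 : nd 10138 = n29156 := ndS (p := 8342) (l := 9) rfl N8342 D29156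
theorem N10139 : nd 10139 = n29157 := ndS (p := 8344) (l := 1) rfl N8344 D29157
theorem N10140 : nd 10140 = n29158 := ndS (p := 8344) (l := 9) rfl N8344 D29158
theorem N10141 : nd 10141 = n29159 := ndS (p := 8345) (l := 8) rfl N8345 D29159
theorem N10142 : nd 10142 = n29161 := ndS (p := 8347) (l := 8) rfl N8347 D29161
theorem N10143 : nd 10143 = n29163 := ndS (p := 8348) (l := 6) rfl N8348 D29163
theorem N10144 : nd 10144 = n29164 := ndS (p := 8348) (l := 8) rfl N8348 D29164
theorem N10145 : nd 10145 = n29165 := ndS (p := 8349) (l := 3) rfl N8349 D29165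
theorem N10146 : nd 10146 = n29166 := ndS (p := 8349) (l := 9) rfl N8349 D29166
theorem N10147 : nd 10147 = n29167 := ndS (p := 8350) (l := 6) rfl N8350 D29167
theorem N10148 : nd 10148 = n29168 := ndS (p := 8350) (l := 8) rfl N8350 D29168
theorem N10149 : nd 10149 = n29169 := ndS (p := 8351) (l := 7) rfl N8351 D29169
theorem N10150 : nd 10150 = n29170 := ndS (p := 8351) (l := 8) rfl N8351 D29170
theorem N10151 : nd 10151 = n29171 := ndS (p := 8352) (l := 9) rfl N8352 D29171
theorem N10152 : nd 10152 = n29174 := ndS (p := 8355) (l := 8) rfl N8355 D29174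
theorem N10153 : nd 10153 = n29176 := ndS (p := 8356) (l := 8) rfl N8356 D29176
theorem N10154 : nd 10154 = n29177 := ndS (p := 8357) (l := 3) rfl N8357 D29177
theorem N10155 : nd 10155 = n29178 := ndS (p := 8357) (l := 9) rfl N8357 D29178
theorem N10156 : nd 10156 = n29179 := ndS (p := 8358) (l := 4) rfl N8358 D29179
theorem N10157 : nd 10157 = n29180 := ndS (p := 8358) (l := 9) rfl N8358 D29180
theorem N10158 : nd 10158 = n29181 := ndS (p := 8360) (l := 5) rfl N8360 D29181
theorem N10159 : nd 10159 = n29183 := ndS (p := 8360) (l := 8) rfl N8360 D29183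
theorem N10160 : nd 10160 = n29184 := ndS (p := 8361) (l := 3) rfl N8361 D29184
theorem N10161 : nd 10161 = n29185 := ndS (p := 8361) (l := 9) rfl N8361 D29185
theorem N10162 : nd 10162 = n29186 := ndS (p := 8362) (l := 8) rfl N8362 D29186
theorem N10163 : nd 10163 = n29187 := ndS (p := 8363) (l := 9) rfl N8363 D29187
theorem N10164 : nd 10164 = n29188 := ndS (p := 8365) (l := 7) rfl N8365 D29188
theorem N10165 : nd 10165 = n29189 := ndS (p := 8365) (l := 8) rfl N8365 D29189
theorem N10166 : nd 10166 = n29190 := ndS (p := 8366) (l := 8) rfl N8366 D29190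
theorem N10167 : nd 10167 = n29191 := ndS (p := 8367) (l := 3) rfl N8367 D29191
theorem N10168 : nd 10168 = n29192 := ndS (p := 8367) (l := 9) rfl N8367 D29192
theorem N10169 : nd 10169 = n29193 := ndS (p := 8368) (l := 2) rfl N8368 D29193
theorem N10170 : nd 10170 = n29194 := ndS (p := 8368) (l := 9) rfl N8368 D29194
theorem N10171 : nd 10171 = n29195 := ndS (p := 8370) (l := 9) rfl N8370 D29195
theorem N10172 : nd 10172 = n29196 := ndS (p := 8372) (l := 4) rfl N8372 D29196
theorem N10173 : nd 10173 = n29197 := ndS (p := 8372) (l := 6) rfl N8372 D29197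
theorem N10174 : nd 10174 = n29198 := ndS (p := 8372) (l := 8) rfl N8372 D29198
theorem N10175 : nd 10175 = n29200 := ndS (p := 8373) (l := 9) rfl N8373 D29200
theorem N10176 : nd 10176 = n29201 := ndS (p := 8374) (l := 3) rfl N8374 D29201
theorem N10177 : nd 10177 = n29202 := ndS (p := 8374) (l := 6) rfl N8374 D29202
theorem N10178 : nd 10178 = n29203 := ndS (p := 8374) (l := 8) rfl N8374 D29203
theorem N10179 : nd 10179 = n29204 := ndS (p := 8375) (l := 7) rfl N8375 D29204
theorem N10180 : nd 10180 = n29205 := ndS (p := 8375) (l := 8) rfl N8375 D29205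
theorem N10181 : nd 10181 = n29206 := ndS (p := 8376) (l := 3) rfl N8376 D29206
theorem N10182 : nd 10182 = n29207 := ndS (p := 8376) (l := 9) rfl N8376 D29207
theorem N10183 : nd 10183 = n29209 := ndS (p := 8377) (l := 9) rfl N8377 D29209
theorem N10184 : nd 10184 = n29210 := ndS (p := 8379) (l := 5) rfl N8379 D29210
theorem N10185 : nd 10185 = n29211 := ndS (p := 8379) (l := 7) rfl N8379 D29211
theorem N10186 : nd 10186 = n29212 := ndS (p := 8379) (l := 8) rfl N8379 D29212
theorem N10187 : nd 10187 = n29213 := ndS (p := 8380) (l := 3) rfl N8380 D29213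
theorem N10188 : nd 10188 = n29214 := ndS (p := 8380) (l := 9) rfl N8380 D29214
theorem N10189 : nd 10189 = n29215 := ndS (p := 8381) (l := 8) rfl N8381 D29215
theorem N10190 : nd 10190 = n29216 := ndS (p := 8382) (l := 9) rfl N8382 D29216
theorem N10191 : nd 10191 = n29217 := ndS (p := 8384) (l := 6) rfl N8384 D29217
theorem N10192 : nd 10192 = n29218 := ndS (p := 8384) (l := 8) rfl N8384 D29218
theorem N10193 : nd 10193 = n29219 := ndS (p := 8385) (l := 5) rfl N8385 D29219
theorem N10194 : nd 10194 = n29220 := ndS (p := 8385) (l := 7) rfl N8385 D29220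
theorem N10195 : nd 10195 = n29221 := ndS (p := 8385) (l := 8) rfl N8385 D29221
theorem N10196 : nd 10196 = n29222 := ndS (p := 8386) (l := 3) rfl N8386 D29222
theorem N10197 : nd 10197 = n29223 := ndS (p := 8386) (l := 9) rfl N8386 D29223
theorem N10198 : nd 10198 = n29224 := ndS (p := 8387) (l := 8) rfl N8387 D29224
theorem N10199 : nd 10199 = n29225 := ndS (p := 8388) (l := 3) rfl N8388 D29225
theorem N10200 : nd 10200 = n29226 := ndS (p := 8388) (l := 9) rfl N8388 D29226
theorem N10201 : nd 10201 = n29227 := ndS (p := 8389) (l := 4) rfl N8389 D29227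
theorem N10202 : nd 10202 = n29228 := ndS (p := 8389) (l := 9) rfl N8389 D29228
theorem N10203 : nd 10203 = n29229 := ndS (p := 8391) (l := 5) rfl N8391 D29229
theorem N10204 : nd 10204 = n29230 := ndS (p := 8391) (l := 9) rfl N8391 D29230
theorem N10205 : nd 10205 = n29231 := ndS (p := 8392) (l := 8) rfl N8392 D29231
theorem N10206 : nd 10206 = n29232 := ndS (p := 8393) (l := 7) rfl N8393 D29232
theorem N10207 : nd 10207 = n29233 := ndS (p := 8393) (l := 8) rfl N8393 D29233
theorem N10208 : nd 10208 = n29234 := ndS (p := 8394) (l := 8) rfl N8394 D29234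
theorem N10209 : nd 10209 = n29235 := ndS (p := 8395) (l := 3) rfl N8395 D29235
theorem N10210 : nd 10210 = n29236 := ndS (p := 8395) (l := 9) rfl N8395 D29236
theorem N10211 : nd 10211 = n29237 := ndS (p := 8396) (l := 2) rfl N8396 D29237
theorem N10212 : nd 10212 = n29238 := ndS (p := 8396) (l := 9) rfl N8396 D29238
theorem N10213 : nd 10213 = n29239 := ndS (p := 8398) (l := 9) rfl N8398 D29239
theorem N10214 : nd 10214 = n29240 := ndS (p := 8400) (l := 6) rfl N8400 D29240
theorem N10215 : nd 10215 = n29241 := ndS (p := 8400) (l := 8) rfl N8400 D29241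
theorem N10216 : nd 10216 = n29242 := ndS (p := 8401) (l := 3) rfl N8401 D29242
theorem N10217 : nd 10217 = n29243 := ndS (p := 8401) (l := 9) rfl N8401 D29243
theorem N10218 : nd 10218 = n29244 := ndS (p := 8402) (l := 3) rfl N8402 D29244
theorem N10219 : nd 10219 = n29245 := ndS (p := 8402) (l := 9) rfl N8402 D29245
theorem N10220 : nd 10220 = n29246 := ndS (p := 8403) (l := 2) rfl N8403 D29246
theorem N10221 : nd 10221 = n29247 := ndS (p := 8403) (l := 9) rfl N8403 D29247
theorem N10222 : nd 10222 = n29248 := ndS (p := 8405) (l := 1) rfl N8405 D29248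
theorem N10223 : nd 10223 = n29249 := ndS (p := 8405) (l := 9) rfl N8405 D29249
theorem N10224 : nd 10224 = n29250 := ndS (p := 8406) (l := 8) rfl N8406 D29250
theorem N10225 : nd 10225 = n29251 := ndS (p := 8408) (l := 3) rfl N8408 D29251
theorem N10226 : nd 10226 = n29252 := ndS (p := 8408) (l := 6) rfl N8408 D29252
theorem N10227 : nd 10227 = n29253 := ndS (p := 8408) (l := 8) rfl N8408 D29253
theorem N10228 : nd 10228 = n29254 := ndS (p := 8409) (l := 7) rfl N8409 D29254
theorem N10229 : nd 10229 = n29255 := ndS (p := 8409) (l := 8) rfl N8409 D29255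
theorem N10230 : nd 10230 = n29257 := ndS (p := 8410) (l := 9) rfl N8410 D29257
theorem N10231 : nd 10231 = n29261 := ndS (p := 8412) (l := 6) rfl N8412 D29261
theorem N10232 : nd 10232 = n29262 := ndS (p := 8412) (l := 8) rfl N8412 D29262
theorem N10233 : nd 10233 = n29263 := ndS (p := 8413) (l := 5) rfl N8413 D29263
theorem N10234 : nd 10234 = n29264 := ndS (p := 8413) (l := 7) rfl N8413 D29264
theorem N10235 : nd 10235 = n29265 := ndS (p := 8413) (l := 8) rfl N8413 D29265
theorem N10236 : nd 10236 = n29266 := ndS (p := 8414) (l := 3) rfl N8414 D29266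
theorem N10237 : nd 10237 = n29267 := ndS (p := 8414) (l := 9) rfl N8414 D29267
theorem N10238 : nd 10238 = n29268 := ndS (p := 8415) (l := 8) rfl N8415 D29268
theorem N10239 : nd 10239 = n29269 := ndS (p := 8416) (l := 3) rfl N8416 D29269
theorem N10240 : nd 10240 = n29270 := ndS (p := 8416) (l := 9) rfl N8416 D29270
theorem N10241 : nd 10241 = n29271 := ndS (p := 8417) (l := 4) rfl N8417 D29271
theorem N10242 : nd 10242 = n29272 := ndS (p := 8417) (l := 9) rfl N8417 D29272
theorem N10243 : nd 10243 = n29275 := ndS (p := 8419) (l := 8) rfl N8419 D29275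
theorem N10244 : nd 10244 = n29276 := ndS (p := 8420) (l := 7) rfl N8420 D29276
theorem N10245 : nd 10245 = n29277 := ndS (p := 8420) (l := 8) rfl N8420 D29277
theorem N10246 : nd 10246 = n29278 := ndS (p := 8421) (l := 8) rfl N8421 D29278
theorem N10247 : nd 10247 = n29279 := ndS (p := 8422) (l := 3) rfl N8422 D29279
theorem N10248 : nd 10248 = n29280 := ndS (p := 8422) (l := 9) rfl N8422 D29280
theorem N10249 : nd 10249 = n29281 := ndS (p := 8423) (l := 2) rfl N8423 D29281
theorem N10250 : nd 10250 = n29282 := ndS (p := 8423) (l := 9) rfl N8423 D29282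
theorem N10251 : nd 10251 = n29283 := ndS (p := 8425) (l := 9) rfl N8425 D29283
theorem N10252 : nd 10252 = n29284 := ndS (p := 8427) (l := 5) rfl N8427 D29284
theorem N10253 : nd 10253 = n29285 := ndS (p := 8427) (l := 7) rfl N8427 D29285
theorem N10254 : nd 10254 = n29286 := ndS (p := 8427) (l := 8) rfl N8427 D29286
theorem N10255 : nd 10255 = n29287 := ndS (p := 8428) (l := 3) rfl N8428 D29287
theorem N10256 : nd 10256 = n29288 := ndS (p := 8428) (l := 9) rfl N8428 D29288
theorem N10257 : nd 10257 = n29289 := ndS (p := 8429) (l := 7) rfl N8429 D29289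
theorem N10258 : nd 10258 = n29290 := ndS (p := 8429) (l := 8) rfl N8429 D29290
theorem N10259 : nd 10259 = n29291 := ndS (p := 8430) (l := 8) rfl N8430 D29291
theorem N10260 : nd 10260 = n29292 := ndS (p := 8431) (l := 3) rfl N8431 D29292
theorem N10261 : nd 10261 = n29293 := ndS (p := 8431) (l := 9) rfl N8431 D29293
theorem N10262 : nd 10262 = n29294 := ndS (p := 8432) (l := 2) rfl N8432 D29294
theorem N10263 : nd 10263 = n29295 := ndS (p := 8432) (l := 4) rfl N8432 D29295
theorem N10264 : nd 10264 = n29296 := ndS (p := 8432) (l := 9) rfl N8432 D29296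
theorem N10265 : nd 10265 = n29297 := ndS (p := 8434) (l := 3) rfl N8434 D29297
theorem N10266 : nd 10266 = n29298 := ndS (p := 8434) (l := 9) rfl N8434 D29298
theorem N10267 : nd 10267 = n29299 := ndS (p := 8435) (l := 4) rfl N8435 D29299
theorem N10268 : nd 10268 = n29300 := ndS (p := 8435) (l := 9) rfl N8435 D29300
theorem N10269 : nd 10269 = n29301 := ndS (p := 8437) (l := 5) rfl N8437 D29301
theorem N10270 : nd 10270 = n29302 := ndS (p := 8437) (l := 9) rfl N8437 D29302
theorem N10271 : nd 10271 = n29303 := ndS (p := 8438) (l := 8) rfl N8438 D29303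
theorem N10272 : nd 10272 = n29304 := ndS (p := 8439) (l := 6) rfl N8439 D29304
theorem N10273 : nd 10273 = n29305 := ndS (p := 8439) (l := 9) rfl N8439 D29305
theorem N10274 : nd 10274 = n29306 := ndS (p := 8440) (l := 8) rfl N8440 D29306
theorem N10275 : nd 10275 = n29307 := ndS (p := 8442) (l := 6) rfl N8442 D29307
theorem N10276 : nd 10276 = n29308 := ndS (p := 8442) (l := 8) rfl N8442 D29308
theorem N10277 : nd 10277 = n29309 := ndS (p := 8443) (l := 3) rfl N8443 D29309
theorem N10278 : nd 10278 = n29310 := ndS (p := 8443) (l := 9) rfl N8443 D29310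
theorem N10279 : nd 10279 = n29311 := ndS (p := 8444) (l := 3) rfl N8444 D29311
theorem N10280 : nd 10280 = n29312 := ndS (p := 8444) (l := 9) rfl N8444 D29312
theorem N10281 : nd 10281 = n29313 := ndS (p := 8445) (l := 2) rfl N8445 D29313
theorem N10282 : nd 10282 = n29314 := ndS (p := 8445) (l := 9) rfl N8445 D29314
theorem N10283 : nd 10283 = n29315 := ndS (p := 8447) (l := 1) rfl N8447 D29315
theorem N10284 : nd 10284 = n29316 := ndS (p := 8447) (l := 9) rfl N8447 D29316
theorem N10285 : nd 10285 = n29317 := ndS (p := 8448) (l := 8) rfl N8448 D29317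
theorem N10286 : nd 10286 = n29318 := ndS (p := 8450) (l := 8) rfl N8450 D29318
theorem N10287 : nd 10287 = n29319 := ndS (p := 8451) (l := 3) rfl N8451 D29319
theorem N10288 : nd 10288 = n29320 := ndS (p := 8451) (l := 9) rfl N8451 D29320
theorem N10289 : nd 10289 = n29321 := ndS (p := 8452) (l := 2) rfl N8452 D29321
theorem N10290 : nd 10290 = n29322 := ndS (p := 8452) (l := 4) rfl N8452 D29322
theorem N10291 : nd 10291 = n29323 := ndS (p := 8452) (l := 9) rfl N8452 D29323
theorem N10292 : nd 10292 = n29325 := ndS (p := 8454) (l := 9) rfl N8454 D29325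
theorem N10293 : nd 10293 = n29326 := ndS (p := 8456) (l := 1) rfl N8456 D29326
theorem N10294 : nd 10294 = n29327 := ndS (p := 8456) (l := 9) rfl N8456 D29327
theorem N10295 : nd 10295 = n29328 := ndS (p := 8457) (l := 8) rfl N8457 D29328
theorem N10296 : nd 10296 = n29329 := ndS (p := 8458) (l := 0) rfl N8458 D29329
theorem N10297 : nd 10297 = n29330 := ndS (p := 8458) (l := 9) rfl N8458 D29330
theorem N10298 : nd 10298 = n29331 := ndS (p := 8459) (l := 8) rfl N8459 D29331
theorem N10299 : nd 10299 = n29334 := ndS (p := 8461) (l := 8) rfl N8461 D29334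
theorem N10300 : nd 10300 = n29335 := ndS (p := 8462) (l := 3) rfl N8462 D29335
theorem N10301 : nd 10301 = n29336 := ndS (p := 8462) (l := 9) rfl N8462 D29336
theorem N10302 : nd 10302 = n29341 := ndS (p := 8463) (l := 8) rfl N8463 D29341
theorem N10303 : nd 10303 = n29342 := ndS (p := 8464) (l := 3) rfl N8464 D29342
theorem N10304 : nd 10304 = n29343 := ndS (p := 8464) (l := 9) rfl N8464 D29343
theorem N10305 : nd 10305 = n29345 := ndS (p := 8465) (l := 9) rfl N8465 D29345
theorem N10306 : nd 10306 = n29351 := ndS (p := 8467) (l := 8) rfl N8467 D29351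
theorem N10307 : nd 10307 = n29352 := ndS (p := 8468) (l := 9) rfl N8468 D29352
theorem N10308 : nd 10308 = n29357 := ndS (p := 8470) (l := 8) rfl N8470 D29357
theorem N10309 : nd 10309 = n29358 := ndS (p := 8471) (l := 3) rfl N8471 D29358
theorem N10310 : nd 10310 = n29359 := ndS (p := 8471) (l := 9) rfl N8471 D29359
theorem N10311 : nd 10311 = n29360 := ndS (p := 8472) (l := 8) rfl N8472 D29360
theorem N10312 : nd 10312 = n29361 := ndS (p := 8473) (l := 3) rfl N8473 D29361
theorem N10313 : nd 10313 = n29362 := ndS (p := 8473) (l := 9) rfl N8473 D29362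
theorem N10314 : nd 10314 = n29363 := ndS (p := 8474) (l := 4) rfl N8474 D29363
theorem N10315 : nd 10315 = n29364 := ndS (p := 8474) (l := 9) rfl N8474 D29364
theorem N10316 : nd 10316 = n29365 := ndS (p := 8476) (l := 5) rfl N8476 D29365
theorem N10317 : nd 10317 = n29366 := ndS (p := 8476) (l := 9) rfl N8476 D29366
theorem N10318 : nd 10318 = n29367 := ndS (p := 8477) (l := 8) rfl N8477 D29367
theorem N10319 : nd 10319 = n29369 := ndS (p := 8478) (l := 8) rfl N8478 D29369
theorem N10320 : nd 10320 = n29370 := ndS (p := 8479) (l := 8) rfl N8479 D29370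
theorem N10321 : nd 10321 = n29372 := ndS (p := 8480) (l := 9) rfl N8480 D29372
theorem N10322 : nd 10322 = n29375 := ndS (p := 8482) (l := 9) rfl N8482 D29375
theorem N10323 : nd 10323 = n29377 := ndS (p := 8484) (l := 8) rfl N8484 D29377
theorem N10324 : nd 10324 = n29378 := ndS (p := 8485) (l := 3) rfl N8485 D29378
theorem N10325 : nd 10325 = n29379 := ndS (p := 8485) (l := 9) rfl N8485 D29379
theorem N10326 : nd 10326 = n29380 := ndS (p := 8486) (l := 3) rfl N8486 D29380
theorem N10327 : nd 10327 = n29381 := ndS (p := 8486) (l := 9) rfl N8486 D29381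
theorem N10328 : nd 10328 = n29382 := ndS (p := 8487) (l := 2) rfl N8487 D29382
theorem N10329 : nd 10329 = n29383 := ndS (p := 8487) (l := 9) rfl N8487 D29383
theorem N10330 : nd 10330 = n29384 := ndS (p := 8489) (l := 1) rfl N8489 D29384
theorem N10331 : nd 10331 = n29385 := ndS (p := 8489) (l := 9) rfl N8489 D29385
theorem N10332 : nd 10332 = n29388 := ndS (p := 8492) (l := 6) rfl N8492 D29388
theorem N10333 : nd 10333 = n29389 := ndS (p := 8492) (l := 8) rfl N8492 D29389
theorem N10334 : nd 10334 = n29390 := ndS (p := 8493) (l := 7) rfl N8493 D29390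
theorem N10335 : nd 10335 = n29391 := ndS (p := 8493) (l := 8) rfl N8493 D29391
theorem N10336 : nd 10336 = n29393 := ndS (p := 8494) (l := 9) rfl N8494 D29393
theorem N10337 : nd 10337 = n29399 := ndS (p := 8496) (l := 5) rfl N8496 D29399
theorem N10338 : nd 10338 = n29400 := ndS (p := 8496) (l := 7) rfl N8496 D29400
theorem N10339 : nd 10339 = n29401 := ndS (p := 8496) (l := 8) rfl N8496 D29401
theorem N10340 : nd 10340 = n29402 := ndS (p := 8497) (l := 3) rfl N8497 D29402
theorem N10341 : nd 10341 = n29403 := ndS (p := 8497) (l := 9) rfl N8497 D29403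
theorem N10342 : nd 10342 = n29404 := ndS (p := 8498) (l := 8) rfl N8498 D29404
theorem N10343 : nd 10343 = n29405 := ndS (p := 8499) (l := 3) rfl N8499 D29405
theorem N10344 : nd 10344 = n29406 := ndS (p := 8499) (l := 9) rfl N8499 D29406
theorem N10345 : nd 10345 = n29407 := ndS (p := 8500) (l := 4) rfl N8500 D29407
theorem N10346 : nd 10346 = n29408 := ndS (p := 8500) (l := 9) rfl N8500 D29408
theorem N10347 : nd 10347 = n29411 := ndS (p := 8502) (l := 8) rfl N8502 D29411
theorem N10348 : nd 10348 = n29412 := ndS (p := 8503) (l := 7) rfl N8503 D29412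
theorem N10349 : nd 10349 = n29413 := ndS (p := 8503) (l := 8) rfl N8503 D29413
theorem N10350 : nd 10350 = n29414 := ndS (p := 8504) (l := 8) rfl N8504 D29414
theorem N10351 : nd 10351 = n29416 := ndS (p := 8505) (l := 9) rfl N8505 D29416
theorem N10352 : nd 10352 = n29419 := ndS (p := 8507) (l := 9) rfl N8507 D29419
theorem N10353 : nd 10353 = n29420 := ndS (p := 8509) (l := 5) rfl N8509 D29420
theorem N10354 : nd 10354 = n29421 := ndS (p := 8509) (l := 7) rfl N8509 D29421
theorem N10355 : nd 10355 = n29422 := ndS (p := 8509) (l := 8) rfl N8509 D29422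
theorem N10356 : nd 10356 = n29423 := ndS (p := 8510) (l := 3) rfl N8510 D29423
theorem N10357 : nd 10357 = n29424 := ndS (p := 8510) (l := 9) rfl N8510 D29424
theorem N10358 : nd 10358 = n29425 := ndS (p := 8511) (l := 7) rfl N8511 D29425
theorem N10359 : nd 10359 = n29426 := ndS (p := 8511) (l := 8) rfl N8511 D29426
theorem N10360 : nd 10360 = n29427 := ndS (p := 8512) (l := 8) rfl N8512 D29427
theorem N10361 : nd 10361 = n29428 := ndS (p := 8513) (l := 3) rfl N8513 D29428
theorem N10362 : nd 10362 = n29429 := ndS (p := 8513) (l := 9) rfl N8513 D29429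
theorem N10363 : nd 10363 = n29430 := ndS (p := 8514) (l := 2) rfl N8514 D29430
theorem N10364 : nd 10364 = n29431 := ndS (p := 8514) (l := 4) rfl N8514 D29431
theorem N10365 : nd 10365 = n29432 := ndS (p := 8514) (l := 9) rfl N8514 D29432
theorem N10366 : nd 10366 = n29433 := ndS (p := 8516) (l := 3) rfl N8516 D29433
theorem N10367 : nd 10367 = n29434 := ndS (p := 8516) (l := 9) rfl N8516 D29434
theorem N10368 : nd 10368 = n29435 := ndS (p := 8517) (l := 4) rfl N8517 D29435
theorem N10369 : nd 10369 = n29436 := ndS (p := 8517) (l := 9) rfl N8517 D29436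
theorem N10370 : nd 10370 = n29437 := ndS (p := 8519) (l := 5) rfl N8519 D29437
theorem N10371 : nd 10371 = n29438 := ndS (p := 8519) (l := 9) rfl N8519 D29438
theorem N10372 : nd 10372 = n29439 := ndS (p := 8520) (l := 8) rfl N8520 D29439
theorem N10373 : nd 10373 = n29440 := ndS (p := 8521) (l := 6) rfl N8521 D29440
theorem N10374 : nd 10374 = n29441 := ndS (p := 8521) (l := 9) rfl N8521 D29441
theorem N10375 : nd 10375 = n29442 := ndS (p := 8522) (l := 8) rfl N8522 D29442
theorem N10376 : nd 10376 = n29443 := ndS (p := 8524) (l := 6) rfl N8524 D29443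
theorem N10377 : nd 10377 = n29444 := ndS (p := 8524) (l := 8) rfl N8524 D29444
theorem N10378 : nd 10378 = n29445 := ndS (p := 8525) (l := 3) rfl N8525 D29445
theorem N10379 : nd 10379 = n29446 := ndS (p := 8525) (l := 9) rfl N8525 D29446
theorem N10380 : nd 10380 = n29447 := ndS (p := 8526) (l := 3) rfl N8526 D29447
theorem N10381 : nd 10381 = n29448 := ndS (p := 8526) (l := 9) rfl N8526 D29448
theorem N10382 : nd 10382 = n29449 := ndS (p := 8527) (l := 2) rfl N8527 D29449
theorem N10383 : nd 10383 = n29450 := ndS (p := 8527) (l := 9) rfl N8527 D29450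
theorem N10384 : nd 10384 = n29451 := ndS (p := 8529) (l := 1) rfl N8529 D29451
theorem N10385 : nd 10385 = n29452 := ndS (p := 8529) (l := 9) rfl N8529 D29452
theorem N10386 : nd 10386 = n29454 := ndS (p := 8532) (l := 8) rfl N8532 D29454
theorem N10387 : nd 10387 = n29455 := ndS (p := 8533) (l := 3) rfl N8533 D29455
theorem N10388 : nd 10388 = n29456 := ndS (p := 8533) (l := 9) rfl N8533 D29456
theorem N10389 : nd 10389 = n29457 := ndS (p := 8534) (l := 2) rfl N8534 D29457
theorem N10390 : nd 10390 = n29458 := ndS (p := 8534) (l := 4) rfl N8534 D29458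
theorem N10391 : nd 10391 = n29459 := ndS (p := 8534) (l := 9) rfl N8534 D29459
theorem N10392 : nd 10392 = n29460 := ndS (p := 8536) (l := 2) rfl N8536 D29460
theorem N10393 : nd 10393 = n29461 := ndS (p := 8536) (l := 9) rfl N8536 D29461
theorem N10394 : nd 10394 = n29462 := ndS (p := 8538) (l := 1) rfl N8538 D29462
theorem N10395 : nd 10395 = n29463 := ndS (p := 8538) (l := 9) rfl N8538 D29463
theorem N10396 : nd 10396 = n29464 := ndS (p := 8539) (l := 8) rfl N8539 D29464
theorem N10397 : nd 10397 = n29465 := ndS (p := 8540) (l := 0) rfl N8540 D29465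
theorem N10398 : nd 10398 = n29466 := ndS (p := 8540) (l := 9) rfl N8540 D29466
theorem N10399 : nd 10399 = n29467 := ndS (p := 8541) (l := 8) rfl N8541 D29467
theorem N10400 : nd 10400 = n29469 := ndS (p := 8543) (l := 6) rfl N8543 D29469
theorem N10401 : nd 10401 = n29470 := ndS (p := 8543) (l := 8) rfl N8543 D29470
theorem N10402 : nd 10402 = n29471 := ndS (p := 8544) (l := 5) rfl N8544 D29471
theorem N10403 : nd 10403 = n29472 := ndS (p := 8544) (l := 7) rfl N8544 D29472
theorem N10404 : nd 10404 = n29473 := ndS (p := 8544) (l := 8) rfl N8544 D29473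
theorem N10405 : nd 10405 = n29474 := ndS (p := 8545) (l := 3) rfl N8545 D29474
theorem N10406 : nd 10406 = n29475 := ndS (p := 8545) (l := 9) rfl N8545 D29475
theorem N10407 : nd 10407 = n29476 := ndS (p := 8546) (l := 8) rfl N8546 D29476
theorem N10408 : nd 10408 = n29478 := ndS (p := 8547) (l := 9) rfl N8547 D29478
theorem N10409 : nd 10409 = n29487 := ndS (p := 8549) (l := 5) rfl N8549 D29487
theorem N10410 : nd 10410 = n29488 := ndS (p := 8549) (l := 7) rfl N8549 D29488
theorem N10411 : nd 10411 = n29489 := ndS (p := 8549) (l := 8) rfl N8549 D29489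
theorem N10412 : nd 10412 = n29490 := ndS (p := 8550) (l := 3) rfl N8550 D29490
theorem N10413 : nd 10413 = n29491 := ndS (p := 8550) (l := 9) rfl N8550 D29491
theorem N10414 : nd 10414 = n29492 := ndS (p := 8551) (l := 7) rfl N8551 D29492
theorem N10415 : nd 10415 = n29493 := ndS (p := 8551) (l := 8) rfl N8551 D29493
theorem N10416 : nd 10416 = n29494 := ndS (p := 8552) (l := 8) rfl N8552 D29494
theorem N10417 : nd 10417 = n29495 := ndS (p := 8553) (l := 3) rfl N8553 D29495
theorem N10418 : nd 10418 = n29496 := ndS (p := 8553) (l := 9) rfl N8553 D29496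
theorem N10419 : nd 10419 = n29497 := ndS (p := 8554) (l := 2) rfl N8554 D29497
theorem N10420 : nd 10420 = n29498 := ndS (p := 8554) (l := 4) rfl N8554 D29498
theorem N10421 : nd 10421 = n29499 := ndS (p := 8554) (l := 9) rfl N8554 D29499
theorem N10422 : nd 10422 = n29500 := ndS (p := 8556) (l := 3) rfl N8556 D29500
theorem N10423 : nd 10423 = n29501 := ndS (p := 8556) (l := 9) rfl N8556 D29501
theorem N10424 : nd 10424 = n29502 := ndS (p := 8557) (l := 4) rfl N8557 D29502
theorem N10425 : nd 10425 = n29503 := ndS (p := 8557) (l := 9) rfl N8557 D29503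
theorem N10426 : nd 10426 = n29505 := ndS (p := 8559) (l := 9) rfl N8559 D29505
theorem N10427 : nd 10427 = n29506 := ndS (p := 8560) (l := 8) rfl N8560 D29506
theorem N10428 : nd 10428 = n29510 := ndS (p := 8562) (l := 6) rfl N8562 D29510
theorem N10429 : nd 10429 = n29511 := ndS (p := 8562) (l := 8) rfl N8562 D29511
theorem N10430 : nd 10430 = n29512 := ndS (p := 8563) (l := 3) rfl N8563 D29512
theorem N10431 : nd 10431 = n29513 := ndS (p := 8563) (l := 9) rfl N8563 D29513
theorem N10432 : nd 10432 = n29514 := ndS (p := 8564) (l := 3) rfl N8564 D29514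
theorem N10433 : nd 10433 = n29515 := ndS (p := 8564) (l := 9) rfl N8564 D29515
theorem N10434 : nd 10434 = n29516 := ndS (p := 8565) (l := 2) rfl N8565 D29516
theorem N10435 : nd 10435 = n29517 := ndS (p := 8565) (l := 9) rfl N8565 D29517
theorem N10436 : nd 10436 = n29518 := ndS (p := 8567) (l := 1) rfl N8567 D29518
theorem N10437 : nd 10437 = n29519 := ndS (p := 8567) (l := 9) rfl N8567 D29519
theorem N10438 : nd 10438 = n29521 := ndS (p := 8570) (l := 4) rfl N8570 D29521
theorem N10439 : nd 10439 = n29522 := ndS (p := 8570) (l := 7) rfl N8570 D29522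
theorem N10440 : nd 10440 = n29523 := ndS (p := 8570) (l := 8) rfl N8570 D29523
theorem N10441 : nd 10441 = n29524 := ndS (p := 8571) (l := 8) rfl N8571 D29524
theorem N10442 : nd 10442 = n29525 := ndS (p := 8572) (l := 3) rfl N8572 D29525
theorem N10443 : nd 10443 = n29526 := ndS (p := 8572) (l := 9) rfl N8572 D29526
theorem N10444 : nd 10444 = n29527 := ndS (p := 8573) (l := 2) rfl N8573 D29527
theorem N10445 : nd 10445 = n29528 := ndS (p := 8573) (l := 4) rfl N8573 D29528
theorem N10446 : nd 10446 = n29529 := ndS (p := 8573) (l := 9) rfl N8573 D29529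
theorem N10447 : nd 10447 = n29530 := ndS (p := 8575) (l := 6) rfl N8575 D29530
theorem N10448 : nd 10448 = n29531 := ndS (p := 8575) (l := 8) rfl N8575 D29531
theorem N10449 : nd 10449 = n29532 := ndS (p := 8576) (l := 3) rfl N8576 D29532
theorem N10450 : nd 10450 = n29533 := ndS (p := 8576) (l := 9) rfl N8576 D29533
theorem N10451 : nd 10451 = n29534 := ndS (p := 8577) (l := 3) rfl N8577 D29534
theorem N10452 : nd 10452 = n29535 := ndS (p := 8577) (l := 9) rfl N8577 D29535
theorem N10453 : nd 10453 = n29536 := ndS (p := 8578) (l := 2) rfl N8578 D29536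
theorem N10454 : nd 10454 = n29537 := ndS (p := 8578) (l := 4) rfl N8578 D29537
theorem N10455 : nd 10455 = n29538 := ndS (p := 8578) (l := 9) rfl N8578 D29538
theorem N10456 : nd 10456 = n29539 := ndS (p := 8580) (l := 1) rfl N8580 D29539
theorem N10457 : nd 10457 = n29540 := ndS (p := 8580) (l := 4) rfl N8580 D29540
theorem N10458 : nd 10458 = n29541 := ndS (p := 8580) (l := 9) rfl N8580 D29541
theorem N10459 : nd 10459 = n29542 := ndS (p := 8581) (l := 5) rfl N8581 D29542
theorem N10460 : nd 10460 = n29543 := ndS (p := 8581) (l := 9) rfl N8581 D29543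
theorem N10461 : nd 10461 = n29544 := ndS (p := 8582) (l := 8) rfl N8582 D29544
theorem N10462 : nd 10462 = n29545 := ndS (p := 8583) (l := 4) rfl N8583 D29545
theorem N10463 : nd 10463 = n29546 := ndS (p := 8583) (l := 9) rfl N8583 D29546
theorem N10464 : nd 10464 = n29547 := ndS (p := 8585) (l := 5) rfl N8585 D29547
theorem N10465 : nd 10465 = n29548 := ndS (p := 8585) (l := 9) rfl N8585 D29548
theorem N10466 : nd 10466 = n29549 := ndS (p := 8586) (l := 8) rfl N8586 D29549
theorem N10467 : nd 10467 = n29550 := ndS (p := 8587) (l := 6) rfl N8587 D29550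
theorem N10468 : nd 10468 = n29551 := ndS (p := 8587) (l := 9) rfl N8587 D29551
theorem N10469 : nd 10469 = n29552 := ndS (p := 8588) (l := 8) rfl N8588 D29552
theorem N10470 : nd 10470 = n29553 := ndS (p := 8590) (l := 7) rfl N8590 D29553
theorem N10471 : nd 10471 = n29554 := ndS (p := 8590) (l := 9) rfl N8590 D29554
theorem N10472 : nd 10472 = n29555 := ndS (p := 8591) (l := 8) rfl N8591 D29555
theorem N10473 : nd 10473 = n29557 := ndS (p := 8593) (l := 8) rfl N8593 D29557
theorem N10474 : nd 10474 = n29558 := ndS (p := 8594) (l := 3) rfl N8594 D29558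
theorem N10475 : nd 10475 = n29559 := ndS (p := 8594) (l := 9) rfl N8594 D29559
theorem N10476 : nd 10476 = n29560 := ndS (p := 8595) (l := 2) rfl N8595 D29560
theorem N10477 : nd 10477 = n29561 := ndS (p := 8595) (l := 4) rfl N8595 D29561
theorem N10478 : nd 10478 = n29562 := ndS (p := 8595) (l := 9) rfl N8595 D29562
theorem N10479 : nd 10479 = n29563 := ndS (p := 8597) (l := 2) rfl N8597 D29563
theorem N10480 : nd 10480 = n29564 := ndS (p := 8597) (l := 9) rfl N8597 D29564
theorem N10481 : nd 10481 = n29565 := ndS (p := 8599) (l := 1) rfl N8599 D29565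
theorem N10482 : nd 10482 = n29566 := ndS (p := 8599) (l := 9) rfl N8599 D29566
theorem N10483 : nd 10483 = n29567 := ndS (p := 8600) (l := 8) rfl N8600 D29567
theorem N10484 : nd 10484 = n29568 := ndS (p := 8601) (l := 0) rfl N8601 D29568
theorem N10485 : nd 10485 = n29569 := ndS (p := 8601) (l := 9) rfl N8601 D29569
theorem N10486 : nd 10486 = n29570 := ndS (p := 8602) (l := 8) rfl N8602 D29570
theorem N10487 : nd 10487 = n29571 := ndS (p := 8604) (l := 3) rfl N8604 D29571
theorem N10488 : nd 10488 = n29572 := ndS (p := 8604) (l := 9) rfl N8604 D29572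
theorem N10489 : nd 10489 = n29573 := ndS (p := 8605) (l := 2) rfl N8605 D29573
theorem N10490 : nd 10490 = n29574 := ndS (p := 8605) (l := 4) rfl N8605 D29574
theorem N10491 : nd 10491 = n29575 := ndS (p := 8605) (l := 9) rfl N8605 D29575
theorem N10492 : nd 10492 = n29576 := ndS (p := 8607) (l := 1) rfl N8607 D29576
theorem N10493 : nd 10493 = n29577 := ndS (p := 8607) (l := 4) rfl N8607 D29577
theorem N10494 : nd 10494 = n29578 := ndS (p := 8607) (l := 9) rfl N8607 D29578
theorem N10495 : nd 10495 = n29579 := ndS (p := 8608) (l := 9) rfl N8608 D29579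
theorem N10496 : nd 10496 = n29580 := ndS (p := 8609) (l := 8) rfl N8609 D29580
theorem N10497 : nd 10497 = n29581 := ndS (p := 8610) (l := 1) rfl N8610 D29581
theorem N10498 : nd 10498 = n29582 := ndS (p := 8610) (l := 9) rfl N8610 D29582
theorem N10499 : nd 10499 = n29583 := ndS (p := 8611) (l := 8) rfl N8611 D29583
theorem N10500 : nd 10500 = n29584 := ndS (p := 8612) (l := 0) rfl N8612 D29584
theorem N10501 : nd 10501 = n29585 := ndS (p := 8612) (l := 9) rfl N8612 D29585
theorem N10502 : nd 10502 = n29586 := ndS (p := 8613) (l := 8) rfl N8613 D29586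
theorem N10503 : nd 10503 = n29587 := ndS (p := 8615) (l := 9) rfl N8615 D29587
theorem N10504 : nd 10504 = n29588 := ndS (p := 8616) (l := 8) rfl N8616 D29588
theorem N10505 : nd 10505 = n29589 := ndS (p := 8617) (l := 3) rfl N8617 D29589
theorem N10506 : nd 10506 = n29716 := ndS (p := 8618) (l := 4) rfl N8618 D29716
theorem N10507 : nd 10507 = n29768 := ndS (p := 8622) (l := 6) rfl N8622 D29768
theorem N10508 : nd 10508 = n29779 := ndS (p := 8623) (l := 4) rfl N8623 D29779
theorem N10509 : nd 10509 = n29780 := ndS (p := 8623) (l := 7) rfl N8623 D29780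
theorem N10510 : nd 10510 = n29781 := ndS (p := 8623) (l := 8) rfl N8623 D29781
theorem N10511 : nd 10511 = n29782 := ndS (p := 8624) (l := 8) rfl N8624 D29782
theorem N10512 : nd 10512 = n29784 := ndS (p := 8625) (l := 9) rfl N8625 D29784
theorem N10513 : nd 10513 = n29788 := ndS (p := 8627) (l := 6) rfl N8627 D29788
theorem N10514 : nd 10514 = n29814 := ndS (p := 8628) (l := 8) rfl N8628 D29814
theorem N10515 : nd 10515 = n29815 := ndS (p := 8629) (l := 3) rfl N8629 D29815
theorem N10516 : nd 10516 = n29817 := ndS (p := 8630) (l := 2) rfl N8630 D29817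
theorem N10517 : nd 10517 = n29818 := ndS (p := 8630) (l := 4) rfl N8630 D29818
theorem N10518 : nd 10518 = n29820 := ndS (p := 8631) (l := 2) rfl N8631 D29820
theorem N10519 : nd 10519 = n29822 := ndS (p := 8632) (l := 1) rfl N8632 D29822
theorem N10520 : nd 10520 = n29828 := ndS (p := 8634) (l := 3) rfl N8634 D29828
theorem N10521 : nd 10521 = n29829 := ndS (p := 8634) (l := 9) rfl N8634 D29829
theorem N10522 : nd 10522 = n29830 := ndS (p := 8635) (l := 2) rfl N8635 D29830
theorem N10523 : nd 10523 = n29831 := ndS (p := 8635) (l := 4) rfl N8635 D29831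
theorem N10524 : nd 10524 = n29832 := ndS (p := 8635) (l := 9) rfl N8635 D29832
theorem N10525 : nd 10525 = n29833 := ndS (p := 8637) (l := 1) rfl N8637 D29833
theorem N10526 : nd 10526 = n29837 := ndS (p := 8639) (l := 8) rfl N8639 D29837
theorem N10527 : nd 10527 = n29840 := ndS (p := 8641) (l := 8) rfl N8641 D29840
theorem N10528 : nd 10528 = n29842 := ndS (p := 8642) (l := 9) rfl N8642 D29842
theorem N10529 : nd 10529 = n29843 := ndS (p := 8643) (l := 8) rfl N8643 D29843
theorem N10530 : nd 10530 = n29844 := ndS (p := 8645) (l := 9) rfl N8645 D29844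
theorem N10531 : nd 10531 = n29845 := ndS (p := 8646) (l := 8) rfl N8646 D29845
theorem N10532 : nd 10532 = n29846 := ndS (p := 8647) (l := 3) rfl N8647 D29846
theorem N10533 : nd 10533 = n29872 := ndS (p := 8648) (l := 4) rfl N8648 D29872
theorem N10534 : nd 10534 = n29873 := ndS (p := 8648) (l := 7) rfl N8648 D29873
theorem N10535 : nd 10535 = n29874 := ndS (p := 8648) (l := 8) rfl N8648 D29874
theorem N10536 : nd 10536 = n29875 := ndS (p := 8649) (l := 8) rfl N8649 D29875
theorem N10537 : nd 10537 = n29877 := ndS (p := 8650) (l := 9) rfl N8650 D29877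
theorem N10538 : nd 10538 = n29881 := ndS (p := 8652) (l := 6) rfl N8652 D29881
theorem N10539 : nd 10539 = n29901 := ndS (p := 8653) (l := 8) rfl N8653 D29901
theorem N10540 : nd 10540 = n29902 := ndS (p := 8654) (l := 3) rfl N8654 D29902
theorem N10541 : nd 10541 = n29904 := ndS (p := 8655) (l := 2) rfl N8655 D29904
theorem N10542 : nd 10542 = n29905 := ndS (p := 8655) (l := 4) rfl N8655 D29905
theorem N10543 : nd 10543 = n29907 := ndS (p := 8656) (l := 2) rfl N8656 D29907
theorem N10544 : nd 10544 = n29909 := ndS (p := 8657) (l := 1) rfl N8657 D29909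
theorem N10545 : nd 10545 = n29912 := ndS (p := 8658) (l := 0) rfl N8658 D29912
theorem N10546 : nd 10546 = n29915 := ndS (p := 8659) (l := 7) rfl N8659 D29915
theorem N10547 : nd 10547 = n29916 := ndS (p := 8659) (l := 8) rfl N8659 D29916
theorem N10548 : nd 10548 = n29917 := ndS (p := 8660) (l := 6) rfl N8660 D29917
theorem N10549 : nd 10549 = n29918 := ndS (p := 8660) (l := 8) rfl N8660 D29918
theorem N10550 : nd 10550 = n29919 := ndS (p := 8661) (l := 3) rfl N8661 D29919
theorem N10551 : nd 10551 = n29920 := ndS (p := 8661) (l := 9) rfl N8661 D29920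
theorem N10552 : nd 10552 = n29921 := ndS (p := 8662) (l := 3) rfl N8662 D29921
theorem N10553 : nd 10553 = n29922 := ndS (p := 8662) (l := 9) rfl N8662 D29922
theorem N10554 : nd 10554 = n29923 := ndS (p := 8663) (l := 2) rfl N8663 D29923
theorem N10555 : nd 10555 = n29925 := ndS (p := 8663) (l := 9) rfl N8663 D29925
theorem N10556 : nd 10556 = n29926 := ndS (p := 8665) (l := 1) rfl N8665 D29926
theorem N10557 : nd 10557 = n29928 := ndS (p := 8665) (l := 9) rfl N8665 D29928
theorem N10558 : nd 10558 = n29931 := ndS (p := 8667) (l := 8) rfl N8667 D29931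
theorem N10559 : nd 10559 = n29932 := ndS (p := 8668) (l := 3) rfl N8668 D29932
theorem N10560 : nd 10560 = n29934 := ndS (p := 8669) (l := 2) rfl N8669 D29934
theorem N10561 : nd 10561 = n29935 := ndS (p := 8669) (l := 4) rfl N8669 D29935
theorem N10562 : nd 10562 = n29937 := ndS (p := 8670) (l := 2) rfl N8670 D29937
theorem N10563 : nd 10563 = n29940 := ndS (p := 8671) (l := 1) rfl N8671 D29940
theorem N10564 : nd 10564 = n29946 := ndS (p := 8672) (l := 0) rfl N8672 D29946
theorem N10565 : nd 10565 = n29958 := ndS (p := 8673) (l := 3) rfl N8673 D29958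
theorem N10566 : nd 10566 = n29959 := ndS (p := 8673) (l := 9) rfl N8673 D29959
theorem N10567 : nd 10567 = n29960 := ndS (p := 8674) (l := 2) rfl N8674 D29960
theorem N10568 : nd 10568 = n29961 := ndS (p := 8674) (l := 4) rfl N8674 D29961
theorem N10569 : nd 10569 = n29962 := ndS (p := 8674) (l := 9) rfl N8674 D29962
theorem N10570 : nd 10570 = n29963 := ndS (p := 8676) (l := 1) rfl N8676 D29963
theorem N10571 : nd 10571 = n29964 := ndS (p := 8676) (l := 4) rfl N8676 D29964
theorem N10572 : nd 10572 = n29965 := ndS (p := 8676) (l := 9) rfl N8676 D29965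
theorem N10573 : nd 10573 = n29966 := ndS (p := 8677) (l := 9) rfl N8677 D29966
theorem N10574 : nd 10574 = n29967 := ndS (p := 8678) (l := 8) rfl N8678 D29967
theorem N10575 : nd 10575 = n29968 := ndS (p := 8679) (l := 1) rfl N8679 D29968
theorem N10576 : nd 10576 = n29969 := ndS (p := 8679) (l := 9) rfl N8679 D29969
theorem N10577 : nd 10577 = n29970 := ndS (p := 8680) (l := 8) rfl N8680 D29970
theorem N10578 : nd 10578 = n29971 := ndS (p := 8681) (l := 0) rfl N8681 D29971
theorem N10579 : nd 10579 = n29972 := ndS (p := 8681) (l := 9) rfl N8681 D29972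
theorem N10580 : nd 10580 = n29973 := ndS (p := 8682) (l := 8) rfl N8682 D29973
theorem N10581 : nd 10581 = n29974 := ndS (p := 8684) (l := 9) rfl N8684 D29974
theorem N10582 : nd 10582 = n29975 := ndS (p := 8685) (l := 8) rfl N8685 D29975
theorem N10583 : nd 10583 = n29976 := ndS (p := 8686) (l := 3) rfl N8686 D29976
theorem N10584 : nd 10584 = n29977 := ndS (p := 8687) (l := 2) rfl N8687 D29977
theorem N10585 : nd 10585 = n29978 := ndS (p := 8687) (l := 4) rfl N8687 D29978
theorem N10586 : nd 10586 = n29979 := ndS (p := 8687) (l := 9) rfl N8687 D29979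
theorem N10587 : nd 10587 = n29980 := ndS (p := 8689) (l := 1) rfl N8689 D29980
theorem N10588 : nd 10588 = n29984 := ndS (p := 8691) (l := 8) rfl N8691 D29984
theorem N10589 : nd 10589 = n29985 := ndS (p := 8692) (l := 0) rfl N8692 D29985
theorem N10590 : nd 10590 = n29986 := ndS (p := 8692) (l := 4) rfl N8692 D29986
theorem N10591 : nd 10591 = n29987 := ndS (p := 8692) (l := 9) rfl N8692 D29987
theorem N10592 : nd 10592 = n29990 := ndS (p := 8694) (l := 8) rfl N8694 D29990
theorem N10593 : nd 10593 = n29991 := ndS (p := 8695) (l := 8) rfl N8695 D29991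
theorem N10594 : nd 10594 = n29992 := ndS (p := 8697) (l := 0) rfl N8697 D29992
theorem N10595 : nd 10595 = n29993 := ndS (p := 8697) (l := 9) rfl N8697 D29993
theorem N10596 : nd 10596 = n29994 := ndS (p := 8698) (l := 8) rfl N8698 D29994
theorem N10597 : nd 10597 = n29995 := ndS (p := 8700) (l := 9) rfl N8700 D29995
theorem N10598 : nd 10598 = n29996 := ndS (p := 8701) (l := 8) rfl N8701 D29996
theorem N10599 : nd 10599 = n29997 := ndS (p := 8702) (l := 3) rfl N8702 D29997
theorem N10600 : nd 10600 = n29998 := ndS (p := 8703) (l := 8) rfl N8703 D29998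
theorem N10601 : nd 10601 = n29999 := ndS (p := 8704) (l := 3) rfl N8704 D29999
theorem N10602 : nd 10602 = n30000 := ndS (p := 8705) (l := 4) rfl N8705 D30000
theorem N10603 : nd 10603 = n30100 := ndS (p := 8709) (l := 4) rfl N8709 D30100
theorem N10604 : nd 10604 = n30138 := ndS (p := 8715) (l := 5) rfl N8715 D30138
theorem N10605 : nd 10605 = n30140 := ndS (p := 8715) (l := 8) rfl N8715 D30140
theorem N10606 : nd 10606 = n30141 := ndS (p := 8716) (l := 3) rfl N8716 D30141
theorem N10607 : nd 10607 = n30206 := ndS (p := 8722) (l := 3) rfl N8722 D30206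
theorem N10608 : nd 10608 = n30207 := ndS (p := 8722) (l := 6) rfl N8722 D30207
theorem N10609 : nd 10609 = n30208 := ndS (p := 8722) (l := 8) rfl N8722 D30208
theorem N10610 : nd 10610 = n30215 := ndS (p := 8725) (l := 5) rfl N8725 D30215
theorem N10611 : nd 10611 = n30219 := ndS (p := 8726) (l := 9) rfl N8726 D30219
theorem N10612 : nd 10612 = n30244 := ndS (p := 8730) (l := 5) rfl N8730 D30244
theorem N10613 : nd 10613 = n30253 := ndS (p := 8732) (l := 5) rfl N8732 D30253
theorem N10614 : nd 10614 = n30266 := ndS (p := 8733) (l := 7) rfl N8733 D30266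
theorem N10615 : nd 10615 = n30267 := ndS (p := 8733) (l := 8) rfl N8733 D30267
theorem N10616 : nd 10616 = n30268 := ndS (p := 8734) (l := 8) rfl N8734 D30268
theorem N10617 : nd 10617 = n30269 := ndS (p := 8735) (l := 3) rfl N8735 D30269
theorem N10618 : nd 10618 = n30270 := ndS (p := 8735) (l := 9) rfl N8735 D30270
theorem N10619 : nd 10619 = n30272 := ndS (p := 8736) (l := 9) rfl N8736 D30272
theorem N10620 : nd 10620 = n30274 := ndS (p := 8740) (l := 6) rfl N8740 D30274
theorem N10621 : nd 10621 = n30275 := ndS (p := 8740) (l := 8) rfl N8740 D30275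
theorem N10622 : nd 10622 = n30276 := ndS (p := 8741) (l := 3) rfl N8741 D30276
theorem N10623 : nd 10623 = n30278 := ndS (p := 8742) (l := 3) rfl N8742 D30278
theorem N10624 : nd 10624 = n30280 := ndS (p := 8743) (l := 2) rfl N8743 D30280
theorem N10625 : nd 10625 = n30281 := ndS (p := 8743) (l := 9) rfl N8743 D30281
theorem N10626 : nd 10626 = n30282 := ndS (p := 8745) (l := 1) rfl N8745 D30282
theorem N10627 : nd 10627 = n30284 := ndS (p := 8746) (l := 8) rfl N8746 D30284
theorem N10628 : nd 10628 = n30322 := ndS (p := 8748) (l := 3) rfl N8748 D30322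
theorem N10629 : nd 10629 = n30323 := ndS (p := 8748) (l := 6) rfl N8748 D30323
theorem N10630 : nd 10630 = n30324 := ndS (p := 8748) (l := 8) rfl N8748 D30324
theorem N10631 : nd 10631 = n30326 := ndS (p := 8749) (l := 8) rfl N8749 D30326
theorem N10632 : nd 10632 = n30328 := ndS (p := 8750) (l := 9) rfl N8750 D30328
theorem N10633 : nd 10633 = n30335 := ndS (p := 8753) (l := 9) rfl N8753 D30335
theorem N10634 : nd 10634 = n30337 := ndS (p := 8755) (l := 9) rfl N8755 D30337
theorem N10635 : nd 10635 = n30346 := ndS (p := 8759) (l := 4) rfl N8759 D30346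
theorem N10636 : nd 10636 = n30348 := ndS (p := 8759) (l := 8) rfl N8759 D30348
theorem N10637 : nd 10637 = n30350 := ndS (p := 8760) (l := 9) rfl N8760 D30350
theorem N10638 : nd 10638 = n30353 := ndS (p := 8761) (l := 8) rfl N8761 D30353
theorem N10639 : nd 10639 = n30355 := ndS (p := 8762) (l := 8) rfl N8762 D30355
theorem N10640 : nd 10640 = n30356 := ndS (p := 8763) (l := 3) rfl N8763 D30356
theorem N10641 : nd 10641 = n30357 := ndS (p := 8763) (l := 9) rfl N8763 D30357
theorem N10642 : nd 10642 = n30359 := ndS (p := 8764) (l := 9) rfl N8764 D30359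
theorem N10643 : nd 10643 = n30360 := ndS (p := 8766) (l := 5) rfl N8766 D30360
theorem N10644 : nd 10644 = n30362 := ndS (p := 8766) (l := 8) rfl N8766 D30362
theorem N10645 : nd 10645 = n30363 := ndS (p := 8767) (l := 3) rfl N8767 D30363
theorem N10646 : nd 10646 = n30364 := ndS (p := 8767) (l := 9) rfl N8767 D30364
theorem N10647 : nd 10647 = n30365 := ndS (p := 8768) (l := 8) rfl N8768 D30365
theorem N10648 : nd 10648 = n30366 := ndS (p := 8769) (l := 9) rfl N8769 D30366
theorem N10649 : nd 10649 = n30368 := ndS (p := 8771) (l := 8) rfl N8771 D30368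
theorem N10650 : nd 10650 = n30369 := ndS (p := 8772) (l := 5) rfl N8772 D30369
theorem N10651 : nd 10651 = n30371 := ndS (p := 8772) (l := 8) rfl N8772 D30371
theorem N10652 : nd 10652 = n30372 := ndS (p := 8773) (l := 3) rfl N8773 D30372
theorem N10653 : nd 10653 = n30373 := ndS (p := 8773) (l := 9) rfl N8773 D30373
theorem N10654 : nd 10654 = n30376 := ndS (p := 8774) (l := 9) rfl N8774 D30376
theorem N10655 : nd 10655 = n30377 := ndS (p := 8775) (l := 4) rfl N8775 D30377
theorem N10656 : nd 10656 = n30378 := ndS (p := 8775) (l := 9) rfl N8775 D30378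
theorem N10657 : nd 10657 = n30379 := ndS (p := 8777) (l := 5) rfl N8777 D30379
theorem N10658 : nd 10658 = n30380 := ndS (p := 8777) (l := 9) rfl N8777 D30380
theorem N10659 : nd 10659 = n30383 := ndS (p := 8779) (l := 8) rfl N8779 D30383
theorem N10660 : nd 10660 = n30384 := ndS (p := 8780) (l := 8) rfl N8780 D30384
theorem N10661 : nd 10661 = n30385 := ndS (p := 8781) (l := 3) rfl N8781 D30385
theorem N10662 : nd 10662 = n30386 := ndS (p := 8781) (l := 9) rfl N8781 D30386
theorem N10663 : nd 10663 = n30387 := ndS (p := 8782) (l := 2) rfl N8782 D30387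
theorem N10664 : nd 10664 = n30388 := ndS (p := 8782) (l := 9) rfl N8782 D30388
theorem N10665 : nd 10665 = n30389 := ndS (p := 8784) (l := 9) rfl N8784 D30389
theorem N10666 : nd 10666 = n30393 := ndS (p := 8786) (l := 9) rfl N8786 D30393
theorem N10667 : nd 10667 = n30394 := ndS (p := 8787) (l := 3) rfl N8787 D30394
theorem N10668 : nd 10668 = n30397 := ndS (p := 8788) (l := 9) rfl N8788 D30397
theorem N10669 : nd 10669 = n30398 := ndS (p := 8790) (l := 1) rfl N8790 D30398
theorem N10670 : nd 10670 = n30399 := ndS (p := 8790) (l := 9) rfl N8790 D30399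
theorem N10671 : nd 10671 = n30458 := ndS (p := 8795) (l := 6) rfl N8795 D30458
theorem N10672 : nd 10672 = n30459 := ndS (p := 8795) (l := 8) rfl N8795 D30459
theorem N10673 : nd 10673 = n30460 := ndS (p := 8796) (l := 5) rfl N8796 D30460
theorem N10674 : nd 10674 = n30461 := ndS (p := 8796) (l := 7) rfl N8796 D30461
theorem N10675 : nd 10675 = n30462 := ndS (p := 8796) (l := 8) rfl N8796 D30462
theorem N10676 : nd 10676 = n30463 := ndS (p := 8797) (l := 3) rfl N8797 D30463
theorem N10677 : nd 10677 = n30464 := ndS (p := 8797) (l := 9) rfl N8797 D30464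
theorem N10678 : nd 10678 = n30465 := ndS (p := 8798) (l := 8) rfl N8798 D30465
theorem N10679 : nd 10679 = n30467 := ndS (p := 8799) (l := 9) rfl N8799 D30467
theorem N10680 : nd 10680 = n30473 := ndS (p := 8801) (l := 7) rfl N8801 D30473
theorem N10681 : nd 10681 = n30474 := ndS (p := 8801) (l := 8) rfl N8801 D30474
theorem N10682 : nd 10682 = n30477 := ndS (p := 8803) (l := 9) rfl N8803 D30477
theorem N10683 : nd 10683 = n30478 := ndS (p := 8804) (l := 2) rfl N8804 D30478
theorem N10684 : nd 10684 = n30479 := ndS (p := 8804) (l := 9) rfl N8804 D30479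
theorem N10685 : nd 10685 = n30480 := ndS (p := 8806) (l := 9) rfl N8806 D30480
theorem N10686 : nd 10686 = n30484 := ndS (p := 8809) (l := 9) rfl N8809 D30484
theorem N10687 : nd 10687 = n30491 := ndS (p := 8811) (l := 8) rfl N8811 D30491
theorem N10688 : nd 10688 = n30492 := ndS (p := 8813) (l := 3) rfl N8813 D30492
theorem N10689 : nd 10689 = n30493 := ndS (p := 8813) (l := 6) rfl N8813 D30493
theorem N10690 : nd 10690 = n30494 := ndS (p := 8813) (l := 8) rfl N8813 D30494
theorem N10691 : nd 10691 = n30496 := ndS (p := 8814) (l := 8) rfl N8814 D30496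
theorem N10692 : nd 10692 = n30498 := ndS (p := 8815) (l := 9) rfl N8815 D30498
theorem N10693 : nd 10693 = n30504 := ndS (p := 8818) (l := 5) rfl N8818 D30504
theorem N10694 : nd 10694 = n30506 := ndS (p := 8818) (l := 8) rfl N8818 D30506
theorem N10695 : nd 10695 = n30507 := ndS (p := 8819) (l := 3) rfl N8819 D30507
theorem N10696 : nd 10696 = n30508 := ndS (p := 8819) (l := 9) rfl N8819 D30508
theorem N10697 : nd 10697 = n30509 := ndS (p := 8820) (l := 8) rfl N8820 D30509
theorem N10698 : nd 10698 = n30510 := ndS (p := 8821) (l := 3) rfl N8821 D30510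
theorem N10699 : nd 10699 = n30511 := ndS (p := 8821) (l := 9) rfl N8821 D30511
theorem N10700 : nd 10700 = n30512 := ndS (p := 8822) (l := 4) rfl N8822 D30512
theorem N10701 : nd 10701 = n30513 := ndS (p := 8822) (l := 9) rfl N8822 D30513
theorem N10702 : nd 10702 = n30517 := ndS (p := 8825) (l := 7) rfl N8825 D30517
theorem N10703 : nd 10703 = n30518 := ndS (p := 8825) (l := 8) rfl N8825 D30518
theorem N10704 : nd 10704 = n30519 := ndS (p := 8826) (l := 8) rfl N8826 D30519
theorem N10705 : nd 10705 = n30520 := ndS (p := 8827) (l := 3) rfl N8827 D30520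
theorem N10706 : nd 10706 = n30521 := ndS (p := 8827) (l := 9) rfl N8827 D30521
theorem N10707 : nd 10707 = n30523 := ndS (p := 8828) (l := 9) rfl N8828 D30523
theorem N10708 : nd 10708 = n30524 := ndS (p := 8830) (l := 9) rfl N8830 D30524
theorem N10709 : nd 10709 = n30525 := ndS (p := 8832) (l := 5) rfl N8832 D30525
theorem N10710 : nd 10710 = n30527 := ndS (p := 8832) (l := 8) rfl N8832 D30527
theorem N10711 : nd 10711 = n30528 := ndS (p := 8833) (l := 3) rfl N8833 D30528
theorem N10712 : nd 10712 = n30529 := ndS (p := 8833) (l := 9) rfl N8833 D30529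
theorem N10713 : nd 10713 = n30530 := ndS (p := 8834) (l := 7) rfl N8834 D30530
theorem N10714 : nd 10714 = n30531 := ndS (p := 8834) (l := 8) rfl N8834 D30531
theorem N10715 : nd 10715 = n30532 := ndS (p := 8835) (l := 8) rfl N8835 D30532
theorem N10716 : nd 10716 = n30533 := ndS (p := 8836) (l := 3) rfl N8836 D30533
theorem N10717 : nd 10717 = n30534 := ndS (p := 8836) (l := 9) rfl N8836 D30534
theorem N10718 : nd 10718 = n30535 := ndS (p := 8837) (l := 2) rfl N8837 D30535
theorem N10719 : nd 10719 = n30536 := ndS (p := 8837) (l := 4) rfl N8837 D30536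
theorem N10720 : nd 10720 = n30537 := ndS (p := 8837) (l := 9) rfl N8837 D30537
theorem N10721 : nd 10721 = n30539 := ndS (p := 8839) (l := 9) rfl N8839 D30539
theorem N10722 : nd 10722 = n30540 := ndS (p := 8840) (l := 4) rfl N8840 D30540
theorem N10723 : nd 10723 = n30541 := ndS (p := 8840) (l := 9) rfl N8840 D30541
theorem N10724 : nd 10724 = n30542 := ndS (p := 8842) (l := 5) rfl N8842 D30542
theorem N10725 : nd 10725 = n30543 := ndS (p := 8842) (l := 9) rfl N8842 D30543
theorem N10726 : nd 10726 = n30545 := ndS (p := 8844) (l := 6) rfl N8844 D30545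
theorem N10727 : nd 10727 = n30546 := ndS (p := 8844) (l := 9) rfl N8844 D30546
theorem N10728 : nd 10728 = n30548 := ndS (p := 8846) (l := 6) rfl N8846 D30548
theorem N10729 : nd 10729 = n30549 := ndS (p := 8846) (l := 8) rfl N8846 D30549
theorem N10730 : nd 10730 = n30550 := ndS (p := 8847) (l := 3) rfl N8847 D30550
theorem N10731 : nd 10731 = n30551 := ndS (p := 8847) (l := 9) rfl N8847 D30551
theorem N10732 : nd 10732 = n30552 := ndS (p := 8848) (l := 3) rfl N8848 D30552
theorem N10733 : nd 10733 = n30553 := ndS (p := 8848) (l := 9) rfl N8848 D30553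
theorem N10734 : nd 10734 = n30554 := ndS (p := 8849) (l := 2) rfl N8849 D30554
theorem N10735 : nd 10735 = n30555 := ndS (p := 8849) (l := 9) rfl N8849 D30555
theorem N10736 : nd 10736 = n30556 := ndS (p := 8851) (l := 1) rfl N8851 D30556
theorem N10737 : nd 10737 = n30557 := ndS (p := 8851) (l := 9) rfl N8851 D30557
theorem N10738 : nd 10738 = n30558 := ndS (p := 8852) (l := 8) rfl N8852 D30558
theorem N10739 : nd 10739 = n30559 := ndS (p := 8854) (l := 8) rfl N8854 D30559
theorem N10740 : nd 10740 = n30560 := ndS (p := 8855) (l := 3) rfl N8855 D30560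
theorem N10741 : nd 10741 = n30561 := ndS (p := 8855) (l := 9) rfl N8855 D30561
theorem N10742 : nd 10742 = n30562 := ndS (p := 8856) (l := 2) rfl N8856 D30562
theorem N10743 : nd 10743 = n30563 := ndS (p := 8856) (l := 4) rfl N8856 D30563
theorem N10744 : nd 10744 = n30564 := ndS (p := 8856) (l := 9) rfl N8856 D30564
theorem N10745 : nd 10745 = n30565 := ndS (p := 8858) (l := 2) rfl N8858 D30565
theorem N10746 : nd 10746 = n30566 := ndS (p := 8858) (l := 9) rfl N8858 D30566
theorem N10747 : nd 10747 = n30567 := ndS (p := 8860) (l := 1) rfl N8860 D30567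
theorem N10748 : nd 10748 = n30568 := ndS (p := 8860) (l := 9) rfl N8860 D30568
theorem N10749 : nd 10749 = n30569 := ndS (p := 8861) (l := 8) rfl N8861 D30569
theorem N10750 : nd 10750 = n30570 := ndS (p := 8862) (l := 0) rfl N8862 D30570
theorem N10751 : nd 10751 = n30571 := ndS (p := 8862) (l := 9) rfl N8862 D30571
theorem N10752 : nd 10752 = n30572 := ndS (p := 8863) (l := 8) rfl N8863 D30572
theorem N10753 : nd 10753 = n30623 := ndS (p := 8865) (l := 2) rfl N8865 D30623
theorem N10754 : nd 10754 = n30624 := ndS (p := 8865) (l := 9) rfl N8865 D30624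
theorem N10755 : nd 10755 = n30625 := ndS (p := 8867) (l := 1) rfl N8867 D30625
theorem N10756 : nd 10756 = n30626 := ndS (p := 8867) (l := 9) rfl N8867 D30626
theorem N10757 : nd 10757 = n30627 := ndS (p := 8868) (l := 8) rfl N8868 D30627
theorem N10758 : nd 10758 = n30661 := ndS (p := 8870) (l := 5) rfl N8870 D30661
theorem N10759 : nd 10759 = n30662 := ndS (p := 8870) (l := 7) rfl N8870 D30662
theorem N10760 : nd 10760 = n30663 := ndS (p := 8870) (l := 8) rfl N8870 D30663
theorem N10761 : nd 10761 = n30664 := ndS (p := 8871) (l := 3) rfl N8871 D30664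
theorem N10762 : nd 10762 = n30665 := ndS (p := 8871) (l := 9) rfl N8871 D30665
theorem N10763 : nd 10763 = n30666 := ndS (p := 8872) (l := 7) rfl N8872 D30666
theorem N10764 : nd 10764 = n30667 := ndS (p := 8872) (l := 8) rfl N8872 D30667
theorem N10765 : nd 10765 = n30668 := ndS (p := 8873) (l := 8) rfl N8873 D30668
theorem N10766 : nd 10766 = n30669 := ndS (p := 8874) (l := 3) rfl N8874 D30669
theorem N10767 : nd 10767 = n30670 := ndS (p := 8874) (l := 9) rfl N8874 D30670
theorem N10768 : nd 10768 = n30671 := ndS (p := 8875) (l := 2) rfl N8875 D30671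
theorem N10769 : nd 10769 = n30673 := ndS (p := 8875) (l := 9) rfl N8875 D30673
theorem N10770 : nd 10770 = n30675 := ndS (p := 8877) (l := 9) rfl N8877 D30675
theorem N10771 : nd 10771 = n30684 := ndS (p := 8879) (l := 6) rfl N8879 D30684
theorem N10772 : nd 10772 = n30685 := ndS (p := 8879) (l := 8) rfl N8879 D30685
theorem N10773 : nd 10773 = n30686 := ndS (p := 8880) (l := 3) rfl N8880 D30686
theorem N10774 : nd 10774 = n30687 := ndS (p := 8880) (l := 9) rfl N8880 D30687
theorem N10775 : nd 10775 = n30688 := ndS (p := 8881) (l := 3) rfl N8881 D30688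
theorem N10776 : nd 10776 = n30689 := ndS (p := 8881) (l := 9) rfl N8881 D30689
theorem N10777 : nd 10777 = n30690 := ndS (p := 8882) (l := 2) rfl N8882 D30690
theorem N10778 : nd 10778 = n30691 := ndS (p := 8882) (l := 9) rfl N8882 D30691
theorem N10779 : nd 10779 = n30692 := ndS (p := 8884) (l := 1) rfl N8884 D30692
theorem N10780 : nd 10780 = n30693 := ndS (p := 8884) (l := 9) rfl N8884 D30693
theorem N10781 : nd 10781 = n30694 := ndS (p := 8885) (l := 8) rfl N8885 D30694
theorem N10782 : nd 10782 = n30697 := ndS (p := 8888) (l := 9) rfl N8888 D30697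
theorem N10783 : nd 10783 = n30698 := ndS (p := 8889) (l := 2) rfl N8889 D30698
theorem N10784 : nd 10784 = n30700 := ndS (p := 8889) (l := 9) rfl N8889 D30700
theorem N10785 : nd 10785 = n30701 := ndS (p := 8891) (l := 2) rfl N8891 D30701
theorem N10786 : nd 10786 = n30702 := ndS (p := 8891) (l := 9) rfl N8891 D30702
theorem N10787 : nd 10787 = n30703 := ndS (p := 8893) (l := 1) rfl N8893 D30703
theorem N10788 : nd 10788 = n30704 := ndS (p := 8893) (l := 9) rfl N8893 D30704
theorem N10789 : nd 10789 = n30705 := ndS (p := 8894) (l := 8) rfl N8894 D30705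
theorem N10790 : nd 10790 = n30706 := ndS (p := 8895) (l := 0) rfl N8895 D30706
theorem N10791 : nd 10791 = n30707 := ndS (p := 8895) (l := 9) rfl N8895 D30707
theorem N10792 : nd 10792 = n30708 := ndS (p := 8896) (l := 8) rfl N8896 D30708
theorem N10793 : nd 10793 = n30710 := ndS (p := 8898) (l := 6) rfl N8898 D30710
theorem N10794 : nd 10794 = n30711 := ndS (p := 8898) (l := 8) rfl N8898 D30711
theorem N10795 : nd 10795 = n30712 := ndS (p := 8899) (l := 5) rfl N8899 D30712
theorem N10796 : nd 10796 = n30713 := ndS (p := 8899) (l := 7) rfl N8899 D30713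
theorem N10797 : nd 10797 = n30714 := ndS (p := 8899) (l := 8) rfl N8899 D30714
theorem N10798 : nd 10798 = n30715 := ndS (p := 8900) (l := 3) rfl N8900 D30715
theorem N10799 : nd 10799 = n30716 := ndS (p := 8900) (l := 9) rfl N8900 D30716
theorem N10800 : nd 10800 = n30717 := ndS (p := 8901) (l := 8) rfl N8901 D30717
theorem N10801 : nd 10801 = n30719 := ndS (p := 8902) (l := 9) rfl N8902 D30719
theorem N10802 : nd 10802 = n30728 := ndS (p := 8904) (l := 5) rfl N8904 D30728
theorem N10803 : nd 10803 = n30729 := ndS (p := 8904) (l := 7) rfl N8904 D30729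
theorem N10804 : nd 10804 = n30730 := ndS (p := 8904) (l := 8) rfl N8904 D30730
theorem N10805 : nd 10805 = n30731 := ndS (p := 8905) (l := 3) rfl N8905 D30731
theorem N10806 : nd 10806 = n30732 := ndS (p := 8905) (l := 9) rfl N8905 D30732
theorem N10807 : nd 10807 = n30733 := ndS (p := 8906) (l := 7) rfl N8906 D30733
theorem N10808 : nd 10808 = n30734 := ndS (p := 8906) (l := 8) rfl N8906 D30734
theorem N10809 : nd 10809 = n30735 := ndS (p := 8907) (l := 8) rfl N8907 D30735
theorem N10810 : nd 10810 = n30736 := ndS (p := 8908) (l := 3) rfl N8908 D30736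
theorem N10811 : nd 10811 = n30737 := ndS (p := 8908) (l := 9) rfl N8908 D30737
theorem N10812 : nd 10812 = n30738 := ndS (p := 8909) (l := 2) rfl N8909 D30738
theorem N10813 : nd 10813 = n30739 := ndS (p := 8909) (l := 4) rfl N8909 D30739
theorem N10814 : nd 10814 = n30740 := ndS (p := 8909) (l := 9) rfl N8909 D30740
theorem N10815 : nd 10815 = n30741 := ndS (p := 8911) (l := 3) rfl N8911 D30741
theorem N10816 : nd 10816 = n30742 := ndS (p := 8911) (l := 9) rfl N8911 D30742
theorem N10817 : nd 10817 = n30743 := ndS (p := 8912) (l := 4) rfl N8912 D30743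
theorem N10818 : nd 10818 = n30744 := ndS (p := 8912) (l := 9) rfl N8912 D30744
theorem N10819 : nd 10819 = n30746 := ndS (p := 8914) (l := 9) rfl N8914 D30746
theorem N10820 : nd 10820 = n30751 := ndS (p := 8916) (l := 6) rfl N8916 D30751
theorem N10821 : nd 10821 = n30752 := ndS (p := 8916) (l := 8) rfl N8916 D30752
theorem N10822 : nd 10822 = n30753 := ndS (p := 8917) (l := 3) rfl N8917 D30753
theorem N10823 : nd 10823 = n30754 := ndS (p := 8917) (l := 9) rfl N8917 D30754
theorem N10824 : nd 10824 = n30755 := ndS (p := 8918) (l := 3) rfl N8918 D30755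
theorem N10825 : nd 10825 = n30756 := ndS (p := 8918) (l := 9) rfl N8918 D30756
theorem N10826 : nd 10826 = n30757 := ndS (p := 8919) (l := 2) rfl N8919 D30757
theorem N10827 : nd 10827 = n30758 := ndS (p := 8919) (l := 9) rfl N8919 D30758
theorem N10828 : nd 10828 = n30759 := ndS (p := 8921) (l := 1) rfl N8921 D30759
theorem N10829 : nd 10829 = n30760 := ndS (p := 8921) (l := 9) rfl N8921 D30760
theorem N10830 : nd 10830 = n30761 := ndS (p := 8922) (l := 8) rfl N8922 D30761
theorem N10831 : nd 10831 = n30762 := ndS (p := 8924) (l := 4) rfl N8924 D30762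
theorem N10832 : nd 10832 = n30763 := ndS (p := 8924) (l := 7) rfl N8924 D30763
theorem N10833 : nd 10833 = n30764 := ndS (p := 8924) (l := 8) rfl N8924 D30764
theorem N10834 : nd 10834 = n30765 := ndS (p := 8925) (l := 8) rfl N8925 D30765
theorem N10835 : nd 10835 = n30766 := ndS (p := 8926) (l := 3) rfl N8926 D30766
theorem N10836 : nd 10836 = n30767 := ndS (p := 8926) (l := 9) rfl N8926 D30767
theorem N10837 : nd 10837 = n30768 := ndS (p := 8927) (l := 2) rfl N8927 D30768
theorem N10838 : nd 10838 = n30769 := ndS (p := 8927) (l := 4) rfl N8927 D30769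
theorem N10839 : nd 10839 = n30770 := ndS (p := 8927) (l := 9) rfl N8927 D30770
theorem N10840 : nd 10840 = n30771 := ndS (p := 8929) (l := 6) rfl N8929 D30771
theorem N10841 : nd 10841 = n30772 := ndS (p := 8929) (l := 8) rfl N8929 D30772
theorem N10842 : nd 10842 = n30773 := ndS (p := 8930) (l := 3) rfl N8930 D30773
theorem N10843 : nd 10843 = n30774 := ndS (p := 8930) (l := 9) rfl N8930 D30774
theorem N10844 : nd 10844 = n30775 := ndS (p := 8931) (l := 3) rfl N8931 D30775
theorem N10845 : nd 10845 = n30776 := ndS (p := 8931) (l := 9) rfl N8931 D30776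
theorem N10846 : nd 10846 = n30777 := ndS (p := 8932) (l := 2) rfl N8932 D30777
theorem N10847 : nd 10847 = n30778 := ndS (p := 8932) (l := 4) rfl N8932 D30778
theorem N10848 : nd 10848 = n30779 := ndS (p := 8932) (l := 9) rfl N8932 D30779
theorem N10849 : nd 10849 = n30780 := ndS (p := 8934) (l := 1) rfl N8934 D30780
theorem N10850 : nd 10850 = n30781 := ndS (p := 8934) (l := 4) rfl N8934 D30781
theorem N10851 : nd 10851 = n30782 := ndS (p := 8934) (l := 9) rfl N8934 D30782
theorem N10852 : nd 10852 = n30783 := ndS (p := 8935) (l := 5) rfl N8935 D30783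
theorem N10853 : nd 10853 = n30784 := ndS (p := 8935) (l := 9) rfl N8935 D30784
theorem N10854 : nd 10854 = n30785 := ndS (p := 8936) (l := 8) rfl N8936 D30785
theorem N10855 : nd 10855 = n30786 := ndS (p := 8937) (l := 4) rfl N8937 D30786
theorem N10856 : nd 10856 = n30787 := ndS (p := 8937) (l := 9) rfl N8937 D30787
theorem N10857 : nd 10857 = n30788 := ndS (p := 8939) (l := 5) rfl N8939 D30788
theorem N10858 : nd 10858 = n30789 := ndS (p := 8939) (l := 9) rfl N8939 D30789
theorem N10859 : nd 10859 = n30791 := ndS (p := 8941) (l := 6) rfl N8941 D30791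
theorem N10860 : nd 10860 = n30792 := ndS (p := 8941) (l := 9) rfl N8941 D30792
theorem N10861 : nd 10861 = n30794 := ndS (p := 8943) (l := 7) rfl N8943 D30794
theorem N10862 : nd 10862 = n30795 := ndS (p := 8943) (l := 9) rfl N8943 D30795
theorem N10863 : nd 10863 = n30798 := ndS (p := 8945) (l := 8) rfl N8945 D30798
theorem N10864 : nd 10864 = n30799 := ndS (p := 8946) (l := 3) rfl N8946 D30799
theorem N10865 : nd 10865 = n30800 := ndS (p := 8946) (l := 9) rfl N8946 D30800
theorem N10866 : nd 10866 = n30801 := ndS (p := 8947) (l := 2) rfl N8947 D30801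
theorem N10867 : nd 10867 = n30802 := ndS (p := 8947) (l := 4) rfl N8947 D30802
theorem N10868 : nd 10868 = n30803 := ndS (p := 8947) (l := 9) rfl N8947 D30803
theorem N10869 : nd 10869 = n30804 := ndS (p := 8949) (l := 2) rfl N8949 D30804
theorem N10870 : nd 10870 = n30805 := ndS (p := 8949) (l := 9) rfl N8949 D30805
theorem N10871 : nd 10871 = n30806 := ndS (p := 8951) (l := 1) rfl N8951 D30806
theorem N10872 : nd 10872 = n30807 := ndS (p := 8951) (l := 9) rfl N8951 D30807
theorem N10873 : nd 10873 = n30808 := ndS (p := 8952) (l := 8) rfl N8952 D30808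
theorem N10874 : nd 10874 = n30809 := ndS (p := 8953) (l := 0) rfl N8953 D30809
theorem N10875 : nd 10875 = n30810 := ndS (p := 8953) (l := 9) rfl N8953 D30810
theorem N10876 : nd 10876 = n30811 := ndS (p := 8954) (l := 8) rfl N8954 D30811
theorem N10877 : nd 10877 = n30812 := ndS (p := 8956) (l := 3) rfl N8956 D30812
theorem N10878 : nd 10878 = n30813 := ndS (p := 8956) (l := 9) rfl N8956 D30813
theorem N10879 : nd 10879 = n30814 := ndS (p := 8957) (l := 2) rfl N8957 D30814
theorem N10880 : nd 10880 = n30815 := ndS (p := 8957) (l := 4) rfl N8957 D30815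
theorem N10881 : nd 10881 = n30816 := ndS (p := 8957) (l := 9) rfl N8957 D30816
theorem N10882 : nd 10882 = n30817 := ndS (p := 8959) (l := 1) rfl N8959 D30817
theorem N10883 : nd 10883 = n30818 := ndS (p := 8959) (l := 4) rfl N8959 D30818
theorem N10884 : nd 10884 = n30819 := ndS (p := 8959) (l := 9) rfl N8959 D30819
theorem N10885 : nd 10885 = n30820 := ndS (p := 8960) (l := 9) rfl N8960 D30820
theorem N10886 : nd 10886 = n30821 := ndS (p := 8961) (l := 8) rfl N8961 D30821
theorem N10887 : nd 10887 = n30822 := ndS (p := 8962) (l := 1) rfl N8962 D30822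
theorem N10888 : nd 10888 = n30823 := ndS (p := 8962) (l := 9) rfl N8962 D30823
theorem N10889 : nd 10889 = n30824 := ndS (p := 8963) (l := 8) rfl N8963 D30824
theorem N10890 : nd 10890 = n30825 := ndS (p := 8964) (l := 0) rfl N8964 D30825
theorem N10891 : nd 10891 = n30826 := ndS (p := 8964) (l := 9) rfl N8964 D30826
theorem N10892 : nd 10892 = n30827 := ndS (p := 8965) (l := 8) rfl N8965 D30827
theorem N10893 : nd 10893 = n30828 := ndS (p := 8967) (l := 9) rfl N8967 D30828
theorem N10894 : nd 10894 = n30829 := ndS (p := 8968) (l := 8) rfl N8968 D30829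
theorem N10895 : nd 10895 = n30830 := ndS (p := 8969) (l := 3) rfl N8969 D30830
theorem N10896 : nd 10896 = n30831 := ndS (p := 8970) (l := 4) rfl N8970 D30831
theorem N10897 : nd 10897 = n30836 := ndS (p := 8971) (l := 3) rfl N8971 D30836
theorem N10898 : nd 10898 = n30837 := ndS (p := 8971) (l := 6) rfl N8971 D30837
theorem N10899 : nd 10899 = n30838 := ndS (p := 8971) (l := 8) rfl N8971 D30838
theorem N10900 : nd 10900 = n30840 := ndS (p := 8972) (l := 8) rfl N8972 D30840
theorem N10901 : nd 10901 = n30842 := ndS (p := 8973) (l := 9) rfl N8973 D30842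
theorem N10902 : nd 10902 = n30845 := ndS (p := 8975) (l := 5) rfl N8975 D30845
theorem N10903 : nd 10903 = n30846 := ndS (p := 8975) (l := 7) rfl N8975 D30846
theorem N10904 : nd 10904 = n30847 := ndS (p := 8975) (l := 8) rfl N8975 D30847
theorem N10905 : nd 10905 = n30848 := ndS (p := 8976) (l := 3) rfl N8976 D30848
theorem N10906 : nd 10906 = n30849 := ndS (p := 8976) (l := 9) rfl N8976 D30849
theorem N10907 : nd 10907 = n30850 := ndS (p := 8977) (l := 8) rfl N8977 D30850
theorem N10908 : nd 10908 = n30851 := ndS (p := 8978) (l := 9) rfl N8978 D30851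
theorem N10909 : nd 10909 = n30853 := ndS (p := 8980) (l := 8) rfl N8980 D30853
theorem N10910 : nd 10910 = n30854 := ndS (p := 8981) (l := 5) rfl N8981 D30854
theorem N10911 : nd 10911 = n30856 := ndS (p := 8981) (l := 8) rfl N8981 D30856
theorem N10912 : nd 10912 = n30857 := ndS (p := 8982) (l := 3) rfl N8982 D30857
theorem N10913 : nd 10913 = n30858 := ndS (p := 8982) (l := 9) rfl N8982 D30858
theorem N10914 : nd 10914 = n30859 := ndS (p := 8983) (l := 8) rfl N8983 D30859
theorem N10915 : nd 10915 = n30860 := ndS (p := 8984) (l := 3) rfl N8984 D30860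
theorem N10916 : nd 10916 = n30861 := ndS (p := 8984) (l := 9) rfl N8984 D30861
theorem N10917 : nd 10917 = n30862 := ndS (p := 8985) (l := 4) rfl N8985 D30862
theorem N10918 : nd 10918 = n30863 := ndS (p := 8985) (l := 9) rfl N8985 D30863
theorem N10919 : nd 10919 = n30871 := ndS (p := 8990) (l := 9) rfl N8990 D30871
theorem N10920 : nd 10920 = n30872 := ndS (p := 8991) (l := 2) rfl N8991 D30872
theorem N10921 : nd 10921 = n30873 := ndS (p := 8991) (l := 9) rfl N8991 D30873
theorem N10922 : nd 10922 = n30874 := ndS (p := 8993) (l := 9) rfl N8993 D30874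
theorem N10923 : nd 10923 = n30885 := ndS (p := 8996) (l := 8) rfl N8996 D30885
theorem N10924 : nd 10924 = n30897 := ndS (p := 9000) (l := 8) rfl N9000 D30897
theorem N10925 : nd 10925 = n30898 := ndS (p := 9001) (l := 5) rfl N9001 D30898
theorem N10926 : nd 10926 = n30899 := ndS (p := 9001) (l := 7) rfl N9001 D30899
theorem N10927 : nd 10927 = n30900 := ndS (p := 9001) (l := 8) rfl N9001 D30900
theorem N10928 : nd 10928 = n30901 := ndS (p := 9002) (l := 3) rfl N9002 D30901
theorem N10929 : nd 10929 = n30902 := ndS (p := 9002) (l := 9) rfl N9002 D30902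
theorem N10930 : nd 10930 = n30903 := ndS (p := 9003) (l := 8) rfl N9003 D30903
theorem N10931 : nd 10931 = n30905 := ndS (p := 9004) (l := 9) rfl N9004 D30905
theorem N10932 : nd 10932 = n30911 := ndS (p := 9006) (l := 7) rfl N9006 D30911
theorem N10933 : nd 10933 = n30912 := ndS (p := 9006) (l := 8) rfl N9006 D30912
theorem N10934 : nd 10934 = n30913 := ndS (p := 9007) (l := 8) rfl N9007 D30913
theorem N10935 : nd 10935 = n30914 := ndS (p := 9008) (l := 3) rfl N9008 D30914
theorem N10936 : nd 10936 = n30915 := ndS (p := 9008) (l := 9) rfl N9008 D30915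
theorem N10937 : nd 10937 = n30916 := ndS (p := 9009) (l := 2) rfl N9009 D30916
theorem N10938 : nd 10938 = n30917 := ndS (p := 9009) (l := 9) rfl N9009 D30917
theorem N10939 : nd 10939 = n30918 := ndS (p := 9011) (l := 9) rfl N9011 D30918
theorem N10940 : nd 10940 = n30919 := ndS (p := 9013) (l := 5) rfl N9013 D30919
theorem N10941 : nd 10941 = n30922 := ndS (p := 9014) (l := 3) rfl N9014 D30922
theorem N10942 : nd 10942 = n30923 := ndS (p := 9014) (l := 9) rfl N9014 D30923
theorem N10943 : nd 10943 = n30924 := ndS (p := 9015) (l := 7) rfl N9015 D30924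
theorem N10944 : nd 10944 = n30925 := ndS (p := 9015) (l := 8) rfl N9015 D30925
theorem N10945 : nd 10945 = n30926 := ndS (p := 9016) (l := 8) rfl N9016 D30926
theorem N10946 : nd 10946 = n30927 := ndS (p := 9017) (l := 3) rfl N9017 D30927
theorem N10947 : nd 10947 = n30928 := ndS (p := 9017) (l := 9) rfl N9017 D30928
theorem N10948 : nd 10948 = n30929 := ndS (p := 9018) (l := 2) rfl N9018 D30929
theorem N10949 : nd 10949 = n30930 := ndS (p := 9018) (l := 4) rfl N9018 D30930
theorem N10950 : nd 10950 = n30931 := ndS (p := 9018) (l := 9) rfl N9018 D30931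
theorem N10951 : nd 10951 = n30933 := ndS (p := 9020) (l := 9) rfl N9020 D30933
theorem N10952 : nd 10952 = n30935 := ndS (p := 9021) (l := 9) rfl N9021 D30935
theorem N10953 : nd 10953 = n30936 := ndS (p := 9023) (l := 5) rfl N9023 D30936
theorem N10954 : nd 10954 = n30937 := ndS (p := 9023) (l := 9) rfl N9023 D30937
theorem N10955 : nd 10955 = n30939 := ndS (p := 9025) (l := 6) rfl N9025 D30939
theorem N10956 : nd 10956 = n30940 := ndS (p := 9025) (l := 9) rfl N9025 D30940
theorem N10957 : nd 10957 = n30942 := ndS (p := 9027) (l := 6) rfl N9027 D30942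
theorem N10958 : nd 10958 = n30943 := ndS (p := 9027) (l := 8) rfl N9027 D30943
theorem N10959 : nd 10959 = n30944 := ndS (p := 9028) (l := 3) rfl N9028 D30944
theorem N10960 : nd 10960 = n30945 := ndS (p := 9028) (l := 9) rfl N9028 D30945
theorem N10961 : nd 10961 = n30946 := ndS (p := 9029) (l := 3) rfl N9029 D30946
theorem N10962 : nd 10962 = n30947 := ndS (p := 9029) (l := 9) rfl N9029 D30947
theorem N10963 : nd 10963 = n30948 := ndS (p := 9030) (l := 2) rfl N9030 D30948
theorem N10964 : nd 10964 = n30949 := ndS (p := 9030) (l := 9) rfl N9030 D30949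
theorem N10965 : nd 10965 = n30950 := ndS (p := 9032) (l := 1) rfl N9032 D30950
theorem N10966 : nd 10966 = n30951 := ndS (p := 9032) (l := 9) rfl N9032 D30951
theorem N10967 : nd 10967 = n30952 := ndS (p := 9033) (l := 8) rfl N9033 D30952
theorem N10968 : nd 10968 = n30953 := ndS (p := 9035) (l := 8) rfl N9035 D30953
theorem N10969 : nd 10969 = n30954 := ndS (p := 9036) (l := 3) rfl N9036 D30954
theorem N10970 : nd 10970 = n30957 := ndS (p := 9037) (l := 4) rfl N9037 D30957
theorem N10971 : nd 10971 = n30958 := ndS (p := 9037) (l := 9) rfl N9037 D30958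
theorem N10972 : nd 10972 = n30959 := ndS (p := 9039) (l := 2) rfl N9039 D30959
theorem N10973 : nd 10973 = n30960 := ndS (p := 9039) (l := 9) rfl N9039 D30960
theorem N10974 : nd 10974 = n30961 := ndS (p := 9041) (l := 1) rfl N9041 D30961
theorem N10975 : nd 10975 = n30962 := ndS (p := 9041) (l := 9) rfl N9041 D30962
theorem N10976 : nd 10976 = n30963 := ndS (p := 9042) (l := 8) rfl N9042 D30963
theorem N10977 : nd 10977 = n30964 := ndS (p := 9043) (l := 0) rfl N9043 D30964
theorem N10978 : nd 10978 = n30965 := ndS (p := 9043) (l := 9) rfl N9043 D30965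
theorem N10979 : nd 10979 = n30966 := ndS (p := 9044) (l := 8) rfl N9044 D30966
theorem N10980 : nd 10980 = n30968 := ndS (p := 9046) (l := 6) rfl N9046 D30968
theorem N10981 : nd 10981 = n30977 := ndS (p := 9048) (l := 6) rfl N9048 D30977
theorem N10982 : nd 10982 = n30978 := ndS (p := 9048) (l := 8) rfl N9048 D30978
theorem N10983 : nd 10983 = n30979 := ndS (p := 9049) (l := 5) rfl N9049 D30979
theorem N10984 : nd 10984 = n30980 := ndS (p := 9049) (l := 7) rfl N9049 D30980
theorem N10985 : nd 10985 = n30981 := ndS (p := 9049) (l := 8) rfl N9049 D30981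
theorem N10986 : nd 10986 = n30982 := ndS (p := 9050) (l := 3) rfl N9050 D30982
theorem N10987 : nd 10987 = n30983 := ndS (p := 9050) (l := 9) rfl N9050 D30983
theorem N10988 : nd 10988 = n30984 := ndS (p := 9051) (l := 8) rfl N9051 D30984
theorem N10989 : nd 10989 = n30986 := ndS (p := 9052) (l := 9) rfl N9052 D30986
theorem N10990 : nd 10990 = n30992 := ndS (p := 9054) (l := 7) rfl N9054 D30992
theorem N10991 : nd 10991 = n30993 := ndS (p := 9054) (l := 8) rfl N9054 D30993
theorem N10992 : nd 10992 = n30994 := ndS (p := 9055) (l := 8) rfl N9055 D30994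
theorem N10993 : nd 10993 = n30995 := ndS (p := 9056) (l := 3) rfl N9056 D30995
theorem N10994 : nd 10994 = n30996 := ndS (p := 9056) (l := 9) rfl N9056 D30996
theorem N10995 : nd 10995 = n30997 := ndS (p := 9057) (l := 2) rfl N9057 D30997
theorem N10996 : nd 10996 = n30998 := ndS (p := 9057) (l := 9) rfl N9057 D30998
theorem N10997 : nd 10997 = n30999 := ndS (p := 9059) (l := 9) rfl N9059 D30999
theorem N10998 : nd 10998 = n31000 := ndS (p := 9061) (l := 5) rfl N9061 D31000
theorem N10999 : nd 10999 = n31002 := ndS (p := 9061) (l := 8) rfl N9061 D31002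
theorem N11000 : nd 11000 = n31003 := ndS (p := 9062) (l := 3) rfl N9062 D31003
theorem N11001 : nd 11001 = n31004 := ndS (p := 9062) (l := 9) rfl N9062 D31004
theorem N11002 : nd 11002 = n31005 := ndS (p := 9063) (l := 7) rfl N9063 D31005
theorem N11003 : nd 11003 = n31006 := ndS (p := 9063) (l := 8) rfl N9063 D31006
theorem N11004 : nd 11004 = n31007 := ndS (p := 9064) (l := 8) rfl N9064 D31007
theorem N11005 : nd 11005 = n31008 := ndS (p := 9065) (l := 3) rfl N9065 D31008
theorem N11006 : nd 11006 = n31009 := ndS (p := 9065) (l := 9) rfl N9065 D31009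
theorem N11007 : nd 11007 = n31010 := ndS (p := 9066) (l := 2) rfl N9066 D31010
theorem N11008 : nd 11008 = n31011 := ndS (p := 9066) (l := 4) rfl N9066 D31011
theorem N11009 : nd 11009 = n31012 := ndS (p := 9066) (l := 9) rfl N9066 D31012
theorem N11010 : nd 11010 = n31013 := ndS (p := 9068) (l := 3) rfl N9068 D31013
theorem N11011 : nd 11011 = n31014 := ndS (p := 9068) (l := 9) rfl N9068 D31014
theorem N11012 : nd 11012 = n31015 := ndS (p := 9069) (l := 4) rfl N9069 D31015
theorem N11013 : nd 11013 = n31016 := ndS (p := 9069) (l := 9) rfl N9069 D31016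
theorem N11014 : nd 11014 = n31018 := ndS (p := 9071) (l := 9) rfl N9071 D31018
theorem N11015 : nd 11015 = n31023 := ndS (p := 9073) (l := 6) rfl N9073 D31023
theorem N11016 : nd 11016 = n31024 := ndS (p := 9073) (l := 8) rfl N9073 D31024
theorem N11017 : nd 11017 = n31025 := ndS (p := 9074) (l := 3) rfl N9074 D31025
theorem N11018 : nd 11018 = n31026 := ndS (p := 9074) (l := 9) rfl N9074 D31026
theorem N11019 : nd 11019 = n31028 := ndS (p := 9075) (l := 9) rfl N9075 D31028
theorem N11020 : nd 11020 = n31029 := ndS (p := 9076) (l := 2) rfl N9076 D31029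
theorem N11021 : nd 11021 = n31030 := ndS (p := 9076) (l := 9) rfl N9076 D31030
theorem N11022 : nd 11022 = n31031 := ndS (p := 9078) (l := 1) rfl N9078 D31031
theorem N11023 : nd 11023 = n31032 := ndS (p := 9078) (l := 9) rfl N9078 D31032
theorem N11024 : nd 11024 = n31033 := ndS (p := 9079) (l := 8) rfl N9079 D31033
theorem N11025 : nd 11025 = n31036 := ndS (p := 9082) (l := 9) rfl N9082 D31036
theorem N11026 : nd 11026 = n31038 := ndS (p := 9083) (l := 4) rfl N9083 D31038
theorem N11027 : nd 11027 = n31039 := ndS (p := 9083) (l := 9) rfl N9083 D31039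
theorem N11028 : nd 11028 = n31044 := ndS (p := 9086) (l := 8) rfl N9086 D31044
theorem N11029 : nd 11029 = n31045 := ndS (p := 9087) (l := 0) rfl N9087 D31045
theorem N11030 : nd 11030 = n31046 := ndS (p := 9087) (l := 9) rfl N9087 D31046
theorem N11031 : nd 11031 = n31047 := ndS (p := 9088) (l := 8) rfl N9088 D31047
theorem N11032 : nd 11032 = n31050 := ndS (p := 9090) (l := 8) rfl N9090 D31050
theorem N11033 : nd 11033 = n31051 := ndS (p := 9091) (l := 5) rfl N9091 D31051
theorem N11034 : nd 11034 = n31067 := ndS (p := 9093) (l := 5) rfl N9093 D31067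
theorem N11035 : nd 11035 = n31069 := ndS (p := 9093) (l := 8) rfl N9093 D31069
theorem N11036 : nd 11036 = n31070 := ndS (p := 9094) (l := 3) rfl N9094 D31070
theorem N11037 : nd 11037 = n31071 := ndS (p := 9094) (l := 9) rfl N9094 D31071
theorem N11038 : nd 11038 = n31072 := ndS (p := 9095) (l := 7) rfl N9095 D31072
theorem N11039 : nd 11039 = n31073 := ndS (p := 9095) (l := 8) rfl N9095 D31073
theorem N11040 : nd 11040 = n31074 := ndS (p := 9096) (l := 8) rfl N9096 D31074
theorem N11041 : nd 11041 = n31075 := ndS (p := 9097) (l := 3) rfl N9097 D31075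
theorem N11042 : nd 11042 = n31076 := ndS (p := 9097) (l := 9) rfl N9097 D31076
theorem N11043 : nd 11043 = n31077 := ndS (p := 9098) (l := 2) rfl N9098 D31077
theorem N11044 : nd 11044 = n31079 := ndS (p := 9098) (l := 9) rfl N9098 D31079
theorem N11045 : nd 11045 = n31081 := ndS (p := 9100) (l := 9) rfl N9100 D31081
theorem N11046 : nd 11046 = n31090 := ndS (p := 9102) (l := 6) rfl N9102 D31090
theorem N11047 : nd 11047 = n31091 := ndS (p := 9102) (l := 8) rfl N9102 D31091
theorem N11048 : nd 11048 = n31092 := ndS (p := 9103) (l := 3) rfl N9103 D31092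
theorem N11049 : nd 11049 = n31093 := ndS (p := 9103) (l := 9) rfl N9103 D31093
theorem N11050 : nd 11050 = n31094 := ndS (p := 9104) (l := 3) rfl N9104 D31094
theorem N11051 : nd 11051 = n31095 := ndS (p := 9104) (l := 9) rfl N9104 D31095
theorem N11052 : nd 11052 = n31096 := ndS (p := 9105) (l := 2) rfl N9105 D31096
theorem N11053 : nd 11053 = n31097 := ndS (p := 9105) (l := 9) rfl N9105 D31097
theorem N11054 : nd 11054 = n31098 := ndS (p := 9107) (l := 1) rfl N9107 D31098
theorem N11055 : nd 11055 = n31099 := ndS (p := 9107) (l := 9) rfl N9107 D31099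
theorem N11056 : nd 11056 = n31100 := ndS (p := 9108) (l := 8) rfl N9108 D31100
theorem N11057 : nd 11057 = n31101 := ndS (p := 9110) (l := 4) rfl N9110 D31101
theorem N11058 : nd 11058 = n31102 := ndS (p := 9110) (l := 7) rfl N9110 D31102
theorem N11059 : nd 11059 = n31103 := ndS (p := 9110) (l := 8) rfl N9110 D31103
theorem N11060 : nd 11060 = n31105 := ndS (p := 9112) (l := 3) rfl N9112 D31105
theorem N11061 : nd 11061 = n31106 := ndS (p := 9112) (l := 9) rfl N9112 D31106
theorem N11062 : nd 11062 = n31107 := ndS (p := 9113) (l := 2) rfl N9113 D31107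
theorem N11063 : nd 11063 = n31108 := ndS (p := 9113) (l := 4) rfl N9113 D31108
theorem N11064 : nd 11064 = n31109 := ndS (p := 9113) (l := 9) rfl N9113 D31109
theorem N11065 : nd 11065 = n31110 := ndS (p := 9115) (l := 6) rfl N9115 D31110
theorem N11066 : nd 11066 = n31111 := ndS (p := 9115) (l := 8) rfl N9115 D31111
theorem N11067 : nd 11067 = n31112 := ndS (p := 9116) (l := 3) rfl N9116 D31112
theorem N11068 : nd 11068 = n31113 := ndS (p := 9116) (l := 9) rfl N9116 D31113
theorem N11069 : nd 11069 = n31114 := ndS (p := 9117) (l := 3) rfl N9117 D31114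
theorem N11070 : nd 11070 = n31115 := ndS (p := 9117) (l := 9) rfl N9117 D31115
theorem N11071 : nd 11071 = n31116 := ndS (p := 9118) (l := 2) rfl N9118 D31116
theorem N11072 : nd 11072 = n31117 := ndS (p := 9118) (l := 4) rfl N9118 D31117
theorem N11073 : nd 11073 = n31118 := ndS (p := 9118) (l := 9) rfl N9118 D31118
theorem N11074 : nd 11074 = n31119 := ndS (p := 9120) (l := 1) rfl N9120 D31119
theorem N11075 : nd 11075 = n31120 := ndS (p := 9120) (l := 4) rfl N9120 D31120
theorem N11076 : nd 11076 = n31121 := ndS (p := 9120) (l := 9) rfl N9120 D31121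
theorem N11077 : nd 11077 = n31122 := ndS (p := 9121) (l := 5) rfl N9121 D31122
theorem N11078 : nd 11078 = n31123 := ndS (p := 9121) (l := 9) rfl N9121 D31123
theorem N11079 : nd 11079 = n31124 := ndS (p := 9122) (l := 8) rfl N9122 D31124
theorem N11080 : nd 11080 = n31126 := ndS (p := 9123) (l := 9) rfl N9123 D31126
theorem N11081 : nd 11081 = n31127 := ndS (p := 9125) (l := 5) rfl N9125 D31127
theorem N11082 : nd 11082 = n31128 := ndS (p := 9125) (l := 9) rfl N9125 D31128
theorem N11083 : nd 11083 = n31130 := ndS (p := 9127) (l := 6) rfl N9127 D31130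
theorem N11084 : nd 11084 = n31131 := ndS (p := 9127) (l := 9) rfl N9127 D31131
theorem N11085 : nd 11085 = n31133 := ndS (p := 9129) (l := 7) rfl N9129 D31133
theorem N11086 : nd 11086 = n31134 := ndS (p := 9129) (l := 9) rfl N9129 D31134
theorem N11087 : nd 11087 = n31137 := ndS (p := 9131) (l := 8) rfl N9131 D31137
theorem N11088 : nd 11088 = n31138 := ndS (p := 9132) (l := 3) rfl N9132 D31138
theorem N11089 : nd 11089 = n31139 := ndS (p := 9132) (l := 9) rfl N9132 D31139
theorem N11090 : nd 11090 = n31140 := ndS (p := 9133) (l := 2) rfl N9133 D31140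
theorem N11091 : nd 11091 = n31141 := ndS (p := 9133) (l := 4) rfl N9133 D31141
theorem N11092 : nd 11092 = n31142 := ndS (p := 9133) (l := 9) rfl N9133 D31142
theorem N11093 : nd 11093 = n31143 := ndS (p := 9135) (l := 2) rfl N9135 D31143
theorem N11094 : nd 11094 = n31144 := ndS (p := 9135) (l := 9) rfl N9135 D31144
theorem N11095 : nd 11095 = n31145 := ndS (p := 9137) (l := 1) rfl N9137 D31145
theorem N11096 : nd 11096 = n31146 := ndS (p := 9137) (l := 9) rfl N9137 D31146
theorem N11097 : nd 11097 = n31147 := ndS (p := 9138) (l := 8) rfl N9138 D31147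
theorem N11098 : nd 11098 = n31148 := ndS (p := 9139) (l := 0) rfl N9139 D31148
theorem N11099 : nd 11099 = n31149 := ndS (p := 9139) (l := 9) rfl N9139 D31149
theorem N11100 : nd 11100 = n31150 := ndS (p := 9140) (l := 8) rfl N9140 D31150
theorem N11101 : nd 11101 = n31151 := ndS (p := 9142) (l := 3) rfl N9142 D31151
theorem N11102 : nd 11102 = n31152 := ndS (p := 9142) (l := 9) rfl N9142 D31152
theorem N11103 : nd 11103 = n31153 := ndS (p := 9143) (l := 2) rfl N9143 D31153
theorem N11104 : nd 11104 = n31154 := ndS (p := 9143) (l := 4) rfl N9143 D31154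
theorem N11105 : nd 11105 = n31155 := ndS (p := 9143) (l := 9) rfl N9143 D31155
theorem N11106 : nd 11106 = n31156 := ndS (p := 9145) (l := 1) rfl N9145 D31156
theorem N11107 : nd 11107 = n31157 := ndS (p := 9145) (l := 4) rfl N9145 D31157
theorem N11108 : nd 11108 = n31158 := ndS (p := 9145) (l := 9) rfl N9145 D31158
theorem N11109 : nd 11109 = n31159 := ndS (p := 9146) (l := 9) rfl N9146 D31159
theorem N11110 : nd 11110 = n31160 := ndS (p := 9147) (l := 8) rfl N9147 D31160
theorem N11111 : nd 11111 = n31161 := ndS (p := 9148) (l := 1) rfl N9148 D31161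
theorem N11112 : nd 11112 = n31162 := ndS (p := 9148) (l := 9) rfl N9148 D31162
theorem N11113 : nd 11113 = n31163 := ndS (p := 9149) (l := 8) rfl N9149 D31163
theorem N11114 : nd 11114 = n31164 := ndS (p := 9150) (l := 0) rfl N9150 D31164
theorem N11115 : nd 11115 = n31165 := ndS (p := 9150) (l := 9) rfl N9150 D31165
theorem N11116 : nd 11116 = n31166 := ndS (p := 9151) (l := 8) rfl N9151 D31166
theorem N11117 : nd 11117 = n31167 := ndS (p := 9153) (l := 9) rfl N9153 D31167
theorem N11118 : nd 11118 = n31168 := ndS (p := 9154) (l := 8) rfl N9154 D31168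
theorem N11119 : nd 11119 = n31169 := ndS (p := 9155) (l := 3) rfl N9155 D31169
theorem N11120 : nd 11120 = n31173 := ndS (p := 9156) (l := 5) rfl N9156 D31173
theorem N11121 : nd 11121 = n31174 := ndS (p := 9156) (l := 7) rfl N9156 D31174
theorem N11122 : nd 11122 = n31194 := ndS (p := 9158) (l := 7) rfl N9158 D31194
theorem N11123 : nd 11123 = n31195 := ndS (p := 9158) (l := 8) rfl N9158 D31195
theorem N11124 : nd 11124 = n31196 := ndS (p := 9159) (l := 8) rfl N9159 D31196
theorem N11125 : nd 11125 = n31197 := ndS (p := 9160) (l := 3) rfl N9160 D31197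
theorem N11126 : nd 11126 = n31198 := ndS (p := 9160) (l := 9) rfl N9160 D31198
theorem N11127 : nd 11127 = n31201 := ndS (p := 9161) (l := 9) rfl N9161 D31201
theorem N11128 : nd 11128 = n31203 := ndS (p := 9163) (l := 9) rfl N9163 D31203
theorem N11129 : nd 11129 = n31212 := ndS (p := 9165) (l := 6) rfl N9165 D31212
theorem N11130 : nd 11130 = n31213 := ndS (p := 9165) (l := 8) rfl N9165 D31213
theorem N11131 : nd 11131 = n31215 := ndS (p := 9166) (l := 9) rfl N9166 D31215
theorem N11132 : nd 11132 = n31217 := ndS (p := 9167) (l := 9) rfl N9167 D31217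
theorem N11133 : nd 11133 = n31223 := ndS (p := 9170) (l := 4) rfl N9170 D31223
theorem N11134 : nd 11134 = n31224 := ndS (p := 9170) (l := 7) rfl N9170 D31224
theorem N11135 : nd 11135 = n31225 := ndS (p := 9170) (l := 8) rfl N9170 D31225
theorem N11136 : nd 11136 = n31226 := ndS (p := 9171) (l := 8) rfl N9171 D31226
theorem N11137 : nd 11137 = n31227 := ndS (p := 9172) (l := 3) rfl N9172 D31227
theorem N11138 : nd 11138 = n31228 := ndS (p := 9172) (l := 9) rfl N9172 D31228
theorem N11139 : nd 11139 = n31230 := ndS (p := 9173) (l := 4) rfl N9173 D31230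
theorem N11140 : nd 11140 = n31231 := ndS (p := 9173) (l := 9) rfl N9173 D31231
theorem N11141 : nd 11141 = n31232 := ndS (p := 9175) (l := 6) rfl N9175 D31232
theorem N11142 : nd 11142 = n31233 := ndS (p := 9175) (l := 8) rfl N9175 D31233
theorem N11143 : nd 11143 = n31234 := ndS (p := 9176) (l := 3) rfl N9176 D31234
theorem N11144 : nd 11144 = n31235 := ndS (p := 9176) (l := 9) rfl N9176 D31235
theorem N11145 : nd 11145 = n31236 := ndS (p := 9177) (l := 3) rfl N9177 D31236
theorem N11146 : nd 11146 = n31237 := ndS (p := 9177) (l := 9) rfl N9177 D31237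
theorem N11147 : nd 11147 = n31238 := ndS (p := 9178) (l := 2) rfl N9178 D31238
theorem N11148 : nd 11148 = n31239 := ndS (p := 9178) (l := 4) rfl N9178 D31239
theorem N11149 : nd 11149 = n31240 := ndS (p := 9178) (l := 9) rfl N9178 D31240
theorem N11150 : nd 11150 = n31241 := ndS (p := 9180) (l := 1) rfl N9180 D31241
theorem N11151 : nd 11151 = n31242 := ndS (p := 9180) (l := 4) rfl N9180 D31242
theorem N11152 : nd 11152 = n31243 := ndS (p := 9180) (l := 9) rfl N9180 D31243
theorem N11153 : nd 11153 = n31245 := ndS (p := 9181) (l := 9) rfl N9181 D31245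
theorem N11154 : nd 11154 = n31246 := ndS (p := 9182) (l := 8) rfl N9182 D31246
theorem N11155 : nd 11155 = n31247 := ndS (p := 9183) (l := 4) rfl N9183 D31247
theorem N11156 : nd 11156 = n31248 := ndS (p := 9183) (l := 9) rfl N9183 D31248
theorem N11157 : nd 11157 = n31249 := ndS (p := 9185) (l := 5) rfl N9185 D31249
theorem N11158 : nd 11158 = n31250 := ndS (p := 9185) (l := 9) rfl N9185 D31250
theorem N11159 : nd 11159 = n31259 := ndS (p := 9188) (l := 8) rfl N9188 D31259
theorem N11160 : nd 11160 = n31260 := ndS (p := 9189) (l := 3) rfl N9189 D31260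
theorem N11161 : nd 11161 = n31261 := ndS (p := 9189) (l := 9) rfl N9189 D31261
theorem N11162 : nd 11162 = n31262 := ndS (p := 9190) (l := 2) rfl N9190 D31262
theorem N11163 : nd 11163 = n31263 := ndS (p := 9190) (l := 4) rfl N9190 D31263
theorem N11164 : nd 11164 = n31264 := ndS (p := 9190) (l := 9) rfl N9190 D31264
theorem N11165 : nd 11165 = n31265 := ndS (p := 9192) (l := 2) rfl N9192 D31265
theorem N11166 : nd 11166 = n31266 := ndS (p := 9192) (l := 9) rfl N9192 D31266
theorem N11167 : nd 11167 = n31267 := ndS (p := 9194) (l := 1) rfl N9194 D31267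
theorem N11168 : nd 11168 = n31268 := ndS (p := 9194) (l := 9) rfl N9194 D31268
theorem N11169 : nd 11169 = n31270 := ndS (p := 9196) (l := 0) rfl N9196 D31270
theorem N11170 : nd 11170 = n31271 := ndS (p := 9196) (l := 9) rfl N9196 D31271
theorem N11171 : nd 11171 = n31273 := ndS (p := 9198) (l := 3) rfl N9198 D31273
theorem N11172 : nd 11172 = n31274 := ndS (p := 9198) (l := 9) rfl N9198 D31274
theorem N11173 : nd 11173 = n31275 := ndS (p := 9199) (l := 2) rfl N9199 D31275
theorem N11174 : nd 11174 = n31276 := ndS (p := 9199) (l := 4) rfl N9199 D31276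
theorem N11175 : nd 11175 = n31277 := ndS (p := 9199) (l := 9) rfl N9199 D31277
theorem N11176 : nd 11176 = n31278 := ndS (p := 9201) (l := 1) rfl N9201 D31278
theorem N11177 : nd 11177 = n31279 := ndS (p := 9201) (l := 4) rfl N9201 D31279
theorem N11178 : nd 11178 = n31280 := ndS (p := 9201) (l := 9) rfl N9201 D31280
theorem N11179 : nd 11179 = n31281 := ndS (p := 9202) (l := 9) rfl N9202 D31281
theorem N11180 : nd 11180 = n31282 := ndS (p := 9203) (l := 8) rfl N9203 D31282
theorem N11181 : nd 11181 = n31283 := ndS (p := 9204) (l := 1) rfl N9204 D31283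
theorem N11182 : nd 11182 = n31284 := ndS (p := 9204) (l := 9) rfl N9204 D31284
theorem N11183 : nd 11183 = n31285 := ndS (p := 9205) (l := 8) rfl N9205 D31285
theorem N11184 : nd 11184 = n31286 := ndS (p := 9206) (l := 0) rfl N9206 D31286
theorem N11185 : nd 11185 = n31287 := ndS (p := 9206) (l := 9) rfl N9206 D31287
theorem N11186 : nd 11186 = n31288 := ndS (p := 9207) (l := 8) rfl N9207 D31288
theorem N11187 : nd 11187 = n31289 := ndS (p := 9209) (l := 9) rfl N9209 D31289
theorem N11188 : nd 11188 = n31290 := ndS (p := 9210) (l := 8) rfl N9210 D31290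
theorem N11189 : nd 11189 = n31291 := ndS (p := 9211) (l := 3) rfl N9211 D31291
theorem N11190 : nd 11190 = n31294 := ndS (p := 9212) (l := 5) rfl N9212 D31294
theorem N11191 : nd 11191 = n31295 := ndS (p := 9212) (l := 7) rfl N9212 D31295
theorem N11192 : nd 11192 = n31296 := ndS (p := 9212) (l := 8) rfl N9212 D31296
theorem N11193 : nd 11193 = n31298 := ndS (p := 9213) (l := 9) rfl N9213 D31298
theorem N11194 : nd 11194 = n31299 := ndS (p := 9214) (l := 7) rfl N9214 D31299
theorem N11195 : nd 11195 = n31324 := ndS (p := 9216) (l := 4) rfl N9216 D31324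
theorem N11196 : nd 11196 = n31325 := ndS (p := 9216) (l := 7) rfl N9216 D31325
theorem N11197 : nd 11197 = n31326 := ndS (p := 9216) (l := 8) rfl N9216 D31326
theorem N11198 : nd 11198 = n31327 := ndS (p := 9217) (l := 8) rfl N9217 D31327
theorem N11199 : nd 11199 = n31328 := ndS (p := 9218) (l := 3) rfl N9218 D31328
theorem N11200 : nd 11200 = n31329 := ndS (p := 9218) (l := 9) rfl N9218 D31329
theorem N11201 : nd 11201 = n31332 := ndS (p := 9219) (l := 9) rfl N9219 D31332
theorem N11202 : nd 11202 = n31333 := ndS (p := 9221) (l := 6) rfl N9221 D31333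
theorem N11203 : nd 11203 = n31334 := ndS (p := 9221) (l := 8) rfl N9221 D31334
theorem N11204 : nd 11204 = n31335 := ndS (p := 9222) (l := 3) rfl N9222 D31335
theorem N11205 : nd 11205 = n31336 := ndS (p := 9222) (l := 9) rfl N9222 D31336
theorem N11206 : nd 11206 = n31337 := ndS (p := 9223) (l := 3) rfl N9223 D31337
theorem N11207 : nd 11207 = n31338 := ndS (p := 9223) (l := 9) rfl N9223 D31338
theorem N11208 : nd 11208 = n31339 := ndS (p := 9224) (l := 2) rfl N9224 D31339
theorem N11209 : nd 11209 = n31341 := ndS (p := 9224) (l := 9) rfl N9224 D31341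
theorem N11210 : nd 11210 = n31342 := ndS (p := 9226) (l := 1) rfl N9226 D31342
theorem N11211 : nd 11211 = n31344 := ndS (p := 9226) (l := 9) rfl N9226 D31344
theorem N11212 : nd 11212 = n31347 := ndS (p := 9227) (l := 8) rfl N9227 D31347
theorem N11213 : nd 11213 = n31360 := ndS (p := 9229) (l := 8) rfl N9229 D31360
theorem N11214 : nd 11214 = n31361 := ndS (p := 9230) (l := 3) rfl N9230 D31361
theorem N11215 : nd 11215 = n31362 := ndS (p := 9230) (l := 9) rfl N9230 D31362
theorem N11216 : nd 11216 = n31363 := ndS (p := 9231) (l := 2) rfl N9231 D31363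
theorem N11217 : nd 11217 = n31364 := ndS (p := 9231) (l := 4) rfl N9231 D31364
theorem N11218 : nd 11218 = n31365 := ndS (p := 9231) (l := 9) rfl N9231 D31365
theorem N11219 : nd 11219 = n31366 := ndS (p := 9233) (l := 2) rfl N9233 D31366
theorem N11220 : nd 11220 = n31367 := ndS (p := 9233) (l := 9) rfl N9233 D31367
theorem N11221 : nd 11221 = n31368 := ndS (p := 9235) (l := 1) rfl N9235 D31368
theorem N11222 : nd 11222 = n31369 := ndS (p := 9235) (l := 9) rfl N9235 D31369
theorem N11223 : nd 11223 = n31371 := ndS (p := 9237) (l := 0) rfl N9237 D31371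
theorem N11224 : nd 11224 = n31372 := ndS (p := 9237) (l := 9) rfl N9237 D31372
theorem N11225 : nd 11225 = n31374 := ndS (p := 9239) (l := 7) rfl N9239 D31374
theorem N11226 : nd 11226 = n31375 := ndS (p := 9239) (l := 8) rfl N9239 D31375
theorem N11227 : nd 11227 = n31376 := ndS (p := 9240) (l := 6) rfl N9240 D31376
theorem N11228 : nd 11228 = n31377 := ndS (p := 9240) (l := 8) rfl N9240 D31377
theorem N11229 : nd 11229 = n31378 := ndS (p := 9241) (l := 3) rfl N9241 D31378
theorem N11230 : nd 11230 = n31379 := ndS (p := 9241) (l := 9) rfl N9241 D31379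
theorem N11231 : nd 11231 = n31380 := ndS (p := 9242) (l := 3) rfl N9242 D31380
theorem N11232 : nd 11232 = n31381 := ndS (p := 9242) (l := 9) rfl N9242 D31381
theorem N11233 : nd 11233 = n31382 := ndS (p := 9243) (l := 2) rfl N9243 D31382
theorem N11234 : nd 11234 = n31383 := ndS (p := 9243) (l := 4) rfl N9243 D31383
theorem N11235 : nd 11235 = n31384 := ndS (p := 9243) (l := 9) rfl N9243 D31384
theorem N11236 : nd 11236 = n31385 := ndS (p := 9245) (l := 1) rfl N9245 D31385
theorem N11237 : nd 11237 = n31386 := ndS (p := 9245) (l := 4) rfl N9245 D31386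
theorem N11238 : nd 11238 = n31387 := ndS (p := 9245) (l := 9) rfl N9245 D31387
theorem N11239 : nd 11239 = n31388 := ndS (p := 9246) (l := 5) rfl N9246 D31388
theorem N11240 : nd 11240 = n31389 := ndS (p := 9246) (l := 9) rfl N9246 D31389
theorem N11241 : nd 11241 = n31390 := ndS (p := 9247) (l := 8) rfl N9247 D31390
theorem N11242 : nd 11242 = n31391 := ndS (p := 9248) (l := 8) rfl N9248 D31391
theorem N11243 : nd 11243 = n31392 := ndS (p := 9249) (l := 3) rfl N9249 D31392
theorem N11244 : nd 11244 = n31393 := ndS (p := 9249) (l := 9) rfl N9249 D31393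
theorem N11245 : nd 11245 = n31394 := ndS (p := 9250) (l := 2) rfl N9250 D31394
theorem N11246 : nd 11246 = n31395 := ndS (p := 9250) (l := 4) rfl N9250 D31395
theorem N11247 : nd 11247 = n31396 := ndS (p := 9250) (l := 9) rfl N9250 D31396
theorem N11248 : nd 11248 = n31397 := ndS (p := 9252) (l := 2) rfl N9252 D31397
theorem N11249 : nd 11249 = n31398 := ndS (p := 9252) (l := 4) rfl N9252 D31398
theorem N11250 : nd 11250 = n31399 := ndS (p := 9252) (l := 9) rfl N9252 D31399
theorem N11251 : nd 11251 = n31400 := ndS (p := 9254) (l := 1) rfl N9254 D31400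
theorem N11252 : nd 11252 = n31401 := ndS (p := 9254) (l := 4) rfl N9254 D31401
theorem N11253 : nd 11253 = n31402 := ndS (p := 9254) (l := 9) rfl N9254 D31402
theorem N11254 : nd 11254 = n31403 := ndS (p := 9255) (l := 5) rfl N9255 D31403
theorem N11255 : nd 11255 = n31404 := ndS (p := 9255) (l := 9) rfl N9255 D31404
theorem N11256 : nd 11256 = n31405 := ndS (p := 9256) (l := 8) rfl N9256 D31405
theorem N11257 : nd 11257 = n31406 := ndS (p := 9257) (l := 0) rfl N9257 D31406
theorem N11258 : nd 11258 = n31407 := ndS (p := 9257) (l := 4) rfl N9257 D31407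
theorem N11259 : nd 11259 = n31408 := ndS (p := 9257) (l := 9) rfl N9257 D31408
theorem N11260 : nd 11260 = n31409 := ndS (p := 9258) (l := 5) rfl N9258 D31409
theorem N11261 : nd 11261 = n31410 := ndS (p := 9258) (l := 9) rfl N9258 D31410
theorem N11262 : nd 11262 = n31411 := ndS (p := 9259) (l := 8) rfl N9259 D31411
theorem N11263 : nd 11263 = n31412 := ndS (p := 9260) (l := 6) rfl N9260 D31412
theorem N11264 : nd 11264 = n31413 := ndS (p := 9260) (l := 9) rfl N9260 D31413
theorem N11265 : nd 11265 = n31414 := ndS (p := 9261) (l := 8) rfl N9261 D31414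
theorem N11266 : nd 11266 = n31415 := ndS (p := 9263) (l := 5) rfl N9263 D31415
theorem N11267 : nd 11267 = n31416 := ndS (p := 9263) (l := 9) rfl N9263 D31416
theorem N11268 : nd 11268 = n31418 := ndS (p := 9265) (l := 6) rfl N9265 D31418
theorem N11269 : nd 11269 = n31419 := ndS (p := 9265) (l := 9) rfl N9265 D31419
theorem N11270 : nd 11270 = n31421 := ndS (p := 9267) (l := 7) rfl N9267 D31421
theorem N11271 : nd 11271 = n31422 := ndS (p := 9267) (l := 9) rfl N9267 D31422
theorem N11272 : nd 11272 = n31425 := ndS (p := 9269) (l := 9) rfl N9269 D31425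
theorem N11273 : nd 11273 = n31429 := ndS (p := 9271) (l := 3) rfl N9271 D31429
theorem N11274 : nd 11274 = n31430 := ndS (p := 9271) (l := 9) rfl N9271 D31430
theorem N11275 : nd 11275 = n31431 := ndS (p := 9272) (l := 2) rfl N9272 D31431
theorem N11276 : nd 11276 = n31432 := ndS (p := 9272) (l := 4) rfl N9272 D31432
theorem N11277 : nd 11277 = n31433 := ndS (p := 9272) (l := 9) rfl N9272 D31433
theorem N11278 : nd 11278 = n31434 := ndS (p := 9274) (l := 1) rfl N9274 D31434
theorem N11279 : nd 11279 = n31435 := ndS (p := 9274) (l := 4) rfl N9274 D31435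
theorem N11280 : nd 11280 = n31436 := ndS (p := 9274) (l := 9) rfl N9274 D31436
theorem N11281 : nd 11281 = n31437 := ndS (p := 9275) (l := 9) rfl N9275 D31437
theorem N11282 : nd 11282 = n31438 := ndS (p := 9276) (l := 8) rfl N9276 D31438
theorem N11283 : nd 11283 = n31439 := ndS (p := 9277) (l := 1) rfl N9277 D31439
theorem N11284 : nd 11284 = n31440 := ndS (p := 9277) (l := 9) rfl N9277 D31440
theorem N11285 : nd 11285 = n31441 := ndS (p := 9278) (l := 8) rfl N9278 D31441
theorem N11286 : nd 11286 = n31442 := ndS (p := 9279) (l := 0) rfl N9279 D31442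
theorem N11287 : nd 11287 = n31443 := ndS (p := 9279) (l := 9) rfl N9279 D31443
theorem N11288 : nd 11288 = n31444 := ndS (p := 9280) (l := 8) rfl N9280 D31444
theorem N11289 : nd 11289 = n31445 := ndS (p := 9282) (l := 9) rfl N9282 D31445
theorem N11290 : nd 11290 = n31446 := ndS (p := 9283) (l := 8) rfl N9283 D31446
theorem N11291 : nd 11291 = n31447 := ndS (p := 9284) (l := 3) rfl N9284 D31447
theorem N11292 : nd 11292 = n31450 := ndS (p := 9285) (l := 9) rfl N9285 D31450
theorem N11293 : nd 11293 = n31451 := ndS (p := 9287) (l := 1) rfl N9287 D31451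
theorem N11294 : nd 11294 = n31453 := ndS (p := 9287) (l := 9) rfl N9287 D31453
theorem N11295 : nd 11295 = n31454 := ndS (p := 9288) (l := 9) rfl N9288 D31454
theorem N11296 : nd 11296 = n31455 := ndS (p := 9289) (l := 8) rfl N9289 D31455
theorem N11297 : nd 11297 = n31456 := ndS (p := 9290) (l := 0) rfl N9290 D31456
theorem N11298 : nd 11298 = n31457 := ndS (p := 9290) (l := 4) rfl N9290 D31457
theorem N11299 : nd 11299 = n31458 := ndS (p := 9290) (l := 9) rfl N9290 D31458
theorem N11300 : nd 11300 = n31459 := ndS (p := 9291) (l := 3) rfl N9291 D31459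
theorem N11301 : nd 11301 = n31463 := ndS (p := 9295) (l := 0) rfl N9295 D31463
theorem N11302 : nd 11302 = n31464 := ndS (p := 9295) (l := 9) rfl N9295 D31464
theorem N11303 : nd 11303 = n31466 := ndS (p := 9298) (l := 9) rfl N9298 D31466
theorem N11304 : nd 11304 = n31467 := ndS (p := 9299) (l := 8) rfl N9299 D31467
theorem N11305 : nd 11305 = n31468 := ndS (p := 9300) (l := 3) rfl N9300 D31468
theorem N11306 : nd 11306 = n31469 := ndS (p := 9301) (l := 8) rfl N9301 D31469
theorem N11307 : nd 11307 = n31470 := ndS (p := 9302) (l := 3) rfl N9302 D31470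
theorem N11308 : nd 11308 = n31471 := ndS (p := 9303) (l := 4) rfl N9303 D31471
theorem N11309 : nd 11309 = n31547 := ndS (p := 9305) (l := 7) rfl N9305 D31547
theorem N11310 : nd 11310 = n31548 := ndS (p := 9305) (l := 8) rfl N9305 D31548
theorem N11311 : nd 11311 = n31549 := ndS (p := 9306) (l := 6) rfl N9306 D31549
theorem N11312 : nd 11312 = n31550 := ndS (p := 9306) (l := 8) rfl N9306 D31550
theorem N11313 : nd 11313 = n31552 := ndS (p := 9307) (l := 9) rfl N9307 D31552
theorem N11314 : nd 11314 = n31554 := ndS (p := 9308) (l := 9) rfl N9308 D31554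
theorem N11315 : nd 11315 = n31595 := ndS (p := 9311) (l := 3) rfl N9311 D31595
theorem N11316 : nd 11316 = n31597 := ndS (p := 9312) (l := 2) rfl N9312 D31597
theorem N11317 : nd 11317 = n31598 := ndS (p := 9312) (l := 4) rfl N9312 D31598
theorem N11318 : nd 11318 = n31600 := ndS (p := 9313) (l := 1) rfl N9313 D31600
theorem N11319 : nd 11319 = n31601 := ndS (p := 9313) (l := 4) rfl N9313 D31601
theorem N11320 : nd 11320 = n31605 := ndS (p := 9315) (l := 1) rfl N9315 D31605
theorem N11321 : nd 11321 = n31608 := ndS (p := 9316) (l := 0) rfl N9316 D31608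
theorem N11322 : nd 11322 = n31614 := ndS (p := 9318) (l := 2) rfl N9318 D31614
theorem N11323 : nd 11323 = n31615 := ndS (p := 9318) (l := 4) rfl N9318 D31615
theorem N11324 : nd 11324 = n31616 := ndS (p := 9318) (l := 9) rfl N9318 D31616
theorem N11325 : nd 11325 = n31617 := ndS (p := 9320) (l := 1) rfl N9320 D31617
theorem N11326 : nd 11326 = n31622 := ndS (p := 9323) (l := 0) rfl N9323 D31622
theorem N11327 : nd 11327 = n31623 := ndS (p := 9323) (l := 4) rfl N9323 D31623
theorem N11328 : nd 11328 = n31624 := ndS (p := 9323) (l := 9) rfl N9323 D31624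
theorem N11329 : nd 11329 = n31627 := ndS (p := 9325) (l := 8) rfl N9325 D31627
theorem N11330 : nd 11330 = n31628 := ndS (p := 9326) (l := 8) rfl N9326 D31628
theorem N11331 : nd 11331 = n31629 := ndS (p := 9328) (l := 0) rfl N9328 D31629
theorem N11332 : nd 11332 = n31630 := ndS (p := 9328) (l := 9) rfl N9328 D31630
theorem N11333 : nd 11333 = n31631 := ndS (p := 9329) (l := 8) rfl N9329 D31631
theorem N11334 : nd 11334 = n31632 := ndS (p := 9331) (l := 9) rfl N9331 D31632
theorem N11335 : nd 11335 = n31633 := ndS (p := 9332) (l := 8) rfl N9332 D31633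
theorem N11336 : nd 11336 = n31634 := ndS (p := 9333) (l := 3) rfl N9333 D31634
theorem N11337 : nd 11337 = n31635 := ndS (p := 9334) (l := 8) rfl N9334 D31635
theorem N11338 : nd 11338 = n31636 := ndS (p := 9335) (l := 3) rfl N9335 D31636
theorem N11339 : nd 11339 = n31637 := ndS (p := 9336) (l := 4) rfl N9336 D31637
theorem N11340 : nd 11340 = n31663 := ndS (p := 9337) (l := 8) rfl N9337 D31663
theorem N11341 : nd 11341 = n31665 := ndS (p := 9338) (l := 8) rfl N9338 D31665
theorem N11342 : nd 11342 = n31667 := ndS (p := 9339) (l := 9) rfl N9339 D31667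
theorem N11343 : nd 11343 = n31669 := ndS (p := 9340) (l := 9) rfl N9340 D31669
theorem N11344 : nd 11344 = n31689 := ndS (p := 9343) (l := 3) rfl N9343 D31689
theorem N11345 : nd 11345 = n31691 := ndS (p := 9344) (l := 2) rfl N9344 D31691
theorem N11346 : nd 11346 = n31692 := ndS (p := 9344) (l := 4) rfl N9344 D31692
theorem N11347 : nd 11347 = n31694 := ndS (p := 9345) (l := 1) rfl N9345 D31694
theorem N11348 : nd 11348 = n31695 := ndS (p := 9345) (l := 4) rfl N9345 D31695
theorem N11349 : nd 11349 = n31699 := ndS (p := 9347) (l := 1) rfl N9347 D31699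
theorem N11350 : nd 11350 = n31702 := ndS (p := 9348) (l := 0) rfl N9348 D31702
theorem N11351 : nd 11351 = n31709 := ndS (p := 9350) (l := 8) rfl N9350 D31709
theorem N11352 : nd 11352 = n31710 := ndS (p := 9351) (l := 3) rfl N9351 D31710
theorem N11353 : nd 11353 = n31711 := ndS (p := 9351) (l := 9) rfl N9351 D31711
theorem N11354 : nd 11354 = n31712 := ndS (p := 9352) (l := 8) rfl N9352 D31712
theorem N11355 : nd 11355 = n31713 := ndS (p := 9353) (l := 3) rfl N9353 D31713
theorem N11356 : nd 11356 = n31714 := ndS (p := 9353) (l := 9) rfl N9353 D31714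
theorem N11357 : nd 11357 = n31715 := ndS (p := 9354) (l := 2) rfl N9354 D31715
theorem N11358 : nd 11358 = n31716 := ndS (p := 9354) (l := 4) rfl N9354 D31716
theorem N11359 : nd 11359 = n31717 := ndS (p := 9354) (l := 9) rfl N9354 D31717
theorem N11360 : nd 11360 = n31718 := ndS (p := 9356) (l := 2) rfl N9356 D31718
theorem N11361 : nd 11361 = n31719 := ndS (p := 9356) (l := 9) rfl N9356 D31719
theorem N11362 : nd 11362 = n31720 := ndS (p := 9358) (l := 1) rfl N9358 D31720
theorem N11363 : nd 11363 = n31721 := ndS (p := 9358) (l := 9) rfl N9358 D31721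
theorem N11364 : nd 11364 = n31723 := ndS (p := 9360) (l := 0) rfl N9360 D31723
theorem N11365 : nd 11365 = n31724 := ndS (p := 9360) (l := 9) rfl N9360 D31724
theorem N11366 : nd 11366 = n31726 := ndS (p := 9362) (l := 3) rfl N9362 D31726
theorem N11367 : nd 11367 = n31728 := ndS (p := 9363) (l := 2) rfl N9363 D31728
theorem N11368 : nd 11368 = n31729 := ndS (p := 9363) (l := 4) rfl N9363 D31729
theorem N11369 : nd 11369 = n31731 := ndS (p := 9364) (l := 1) rfl N9364 D31731
theorem N11370 : nd 11370 = n31732 := ndS (p := 9364) (l := 4) rfl N9364 D31732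
theorem N11371 : nd 11371 = n31736 := ndS (p := 9366) (l := 1) rfl N9366 D31736
theorem N11372 : nd 11372 = n31739 := ndS (p := 9367) (l := 0) rfl N9367 D31739
theorem N11373 : nd 11373 = n31745 := ndS (p := 9369) (l := 2) rfl N9369 D31745
theorem N11374 : nd 11374 = n31748 := ndS (p := 9371) (l := 1) rfl N9371 D31748
theorem N11375 : nd 11375 = n31749 := ndS (p := 9371) (l := 4) rfl N9371 D31749
theorem N11376 : nd 11376 = n31750 := ndS (p := 9371) (l := 9) rfl N9371 D31750
theorem N11377 : nd 11377 = n31753 := ndS (p := 9374) (l := 0) rfl N9374 D31753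
theorem N11378 : nd 11378 = n31756 := ndS (p := 9375) (l := 3) rfl N9375 D31756
theorem N11379 : nd 11379 = n31758 := ndS (p := 9376) (l := 8) rfl N9376 D31758
theorem N11380 : nd 11380 = n31760 := ndS (p := 9379) (l := 0) rfl N9379 D31760
theorem N11381 : nd 11381 = n31762 := ndS (p := 9380) (l := 8) rfl N9380 D31762
theorem N11382 : nd 11382 = n31763 := ndS (p := 9382) (l := 9) rfl N9382 D31763
theorem N11383 : nd 11383 = n31764 := ndS (p := 9383) (l := 8) rfl N9383 D31764
theorem N11384 : nd 11384 = n31765 := ndS (p := 9384) (l := 3) rfl N9384 D31765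
theorem N11385 : nd 11385 = n31766 := ndS (p := 9385) (l := 8) rfl N9385 D31766
theorem N11386 : nd 11386 = n31767 := ndS (p := 9386) (l := 3) rfl N9386 D31767
theorem N11387 : nd 11387 = n31768 := ndS (p := 9387) (l := 4) rfl N9387 D31768
theorem N11388 : nd 11388 = n31795 := ndS (p := 9390) (l := 8) rfl N9390 D31795
theorem N11389 : nd 11389 = n31796 := ndS (p := 9391) (l := 3) rfl N9391 D31796
theorem N11390 : nd 11390 = n31851 := ndS (p := 9398) (l := 9) rfl N9398 D31851
theorem N11391 : nd 11391 = n31853 := ndS (p := 9400) (l := 9) rfl N9400 D31853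
theorem N11392 : nd 11392 = n31854 := ndS (p := 9401) (l := 8) rfl N9401 D31854
theorem N11393 : nd 11393 = n31873 := ndS (p := 9404) (l := 1) rfl N9404 D31873
theorem N11394 : nd 11394 = n31874 := ndS (p := 9404) (l := 4) rfl N9404 D31874
theorem N11395 : nd 11395 = n31875 := ndS (p := 9404) (l := 9) rfl N9404 D31875
theorem N11396 : nd 11396 = n31876 := ndS (p := 9405) (l := 5) rfl N9405 D31876
theorem N11397 : nd 11397 = n31877 := ndS (p := 9405) (l := 9) rfl N9405 D31877
theorem N11398 : nd 11398 = n31878 := ndS (p := 9406) (l := 8) rfl N9406 D31878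
theorem N11399 : nd 11399 = n31880 := ndS (p := 9407) (l := 9) rfl N9407 D31880
theorem N11400 : nd 11400 = n31882 := ndS (p := 9409) (l := 9) rfl N9409 D31882
theorem N11401 : nd 11401 = n31884 := ndS (p := 9411) (l := 6) rfl N9411 D31884
theorem N11402 : nd 11402 = n31885 := ndS (p := 9411) (l := 9) rfl N9411 D31885
theorem N11403 : nd 11403 = n31887 := ndS (p := 9413) (l := 7) rfl N9413 D31887
theorem N11404 : nd 11404 = n31895 := ndS (p := 9415) (l := 4) rfl N9415 D31895
theorem N11405 : nd 11405 = n31896 := ndS (p := 9415) (l := 9) rfl N9415 D31896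
theorem N11406 : nd 11406 = n31898 := ndS (p := 9417) (l := 9) rfl N9417 D31898
theorem N11407 : nd 11407 = n31899 := ndS (p := 9419) (l := 1) rfl N9419 D31899
theorem N11408 : nd 11408 = n31900 := ndS (p := 9419) (l := 9) rfl N9419 D31900
theorem N11409 : nd 11409 = n31901 := ndS (p := 9420) (l := 8) rfl N9420 D31901
theorem N11410 : nd 11410 = n31902 := ndS (p := 9421) (l := 0) rfl N9421 D31902
theorem N11411 : nd 11411 = n31903 := ndS (p := 9421) (l := 9) rfl N9421 D31903
theorem N11412 : nd 11412 = n31904 := ndS (p := 9422) (l := 8) rfl N9422 D31904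
theorem N11413 : nd 11413 = n31907 := ndS (p := 9424) (l := 2) rfl N9424 D31907
theorem N11414 : nd 11414 = n31908 := ndS (p := 9424) (l := 4) rfl N9424 D31908
theorem N11415 : nd 11415 = n31909 := ndS (p := 9424) (l := 9) rfl N9424 D31909
theorem N11416 : nd 11416 = n31910 := ndS (p := 9426) (l := 1) rfl N9426 D31910
theorem N11417 : nd 11417 = n31911 := ndS (p := 9426) (l := 4) rfl N9426 D31911
theorem N11418 : nd 11418 = n31912 := ndS (p := 9426) (l := 9) rfl N9426 D31912
theorem N11419 : nd 11419 = n31913 := ndS (p := 9427) (l := 9) rfl N9427 D31913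
theorem N11420 : nd 11420 = n31914 := ndS (p := 9428) (l := 8) rfl N9428 D31914
theorem N11421 : nd 11421 = n31915 := ndS (p := 9429) (l := 1) rfl N9429 D31915
theorem N11422 : nd 11422 = n31916 := ndS (p := 9429) (l := 9) rfl N9429 D31916
theorem N11423 : nd 11423 = n31917 := ndS (p := 9430) (l := 8) rfl N9430 D31917
theorem N11424 : nd 11424 = n31918 := ndS (p := 9431) (l := 0) rfl N9431 D31918
theorem N11425 : nd 11425 = n31919 := ndS (p := 9431) (l := 9) rfl N9431 D31919
theorem N11426 : nd 11426 = n31920 := ndS (p := 9432) (l := 8) rfl N9432 D31920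
theorem N11427 : nd 11427 = n31921 := ndS (p := 9434) (l := 9) rfl N9434 D31921
theorem N11428 : nd 11428 = n31922 := ndS (p := 9435) (l := 8) rfl N9435 D31922
theorem N11429 : nd 11429 = n31923 := ndS (p := 9436) (l := 3) rfl N9436 D31923
theorem N11430 : nd 11430 = n31975 := ndS (p := 9438) (l := 9) rfl N9438 D31975
theorem N11431 : nd 11431 = n31978 := ndS (p := 9439) (l := 8) rfl N9439 D31978
theorem N11432 : nd 11432 = n31995 := ndS (p := 9441) (l := 4) rfl N9441 D31995
theorem N11433 : nd 11433 = n31996 := ndS (p := 9441) (l := 9) rfl N9441 D31996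
theorem N11434 : nd 11434 = n31998 := ndS (p := 9443) (l := 9) rfl N9443 D31998
theorem N11435 : nd 11435 = n32000 := ndS (p := 9445) (l := 9) rfl N9445 D32000
theorem N11436 : nd 11436 = n32001 := ndS (p := 9446) (l := 8) rfl N9446 D32001
theorem N11437 : nd 11437 = n32002 := ndS (p := 9447) (l := 0) rfl N9447 D32002
theorem N11438 : nd 11438 = n32003 := ndS (p := 9447) (l := 9) rfl N9447 D32003
theorem N11439 : nd 11439 = n32004 := ndS (p := 9448) (l := 8) rfl N9448 D32004
theorem N11440 : nd 11440 = n32014 := ndS (p := 9450) (l := 1) rfl N9450 D32014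
theorem N11441 : nd 11441 = n32015 := ndS (p := 9450) (l := 4) rfl N9450 D32015
theorem N11442 : nd 11442 = n32016 := ndS (p := 9450) (l := 9) rfl N9450 D32016
theorem N11443 : nd 11443 = n32017 := ndS (p := 9451) (l := 5) rfl N9451 D32017
theorem N11444 : nd 11444 = n32018 := ndS (p := 9451) (l := 9) rfl N9451 D32018
theorem N11445 : nd 11445 = n32029 := ndS (p := 9455) (l := 1) rfl N9455 D32029
theorem N11446 : nd 11446 = n32030 := ndS (p := 9455) (l := 4) rfl N9455 D32030
theorem N11447 : nd 11447 = n32031 := ndS (p := 9455) (l := 9) rfl N9455 D32031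
theorem N11448 : nd 11448 = n32032 := ndS (p := 9456) (l := 5) rfl N9456 D32032
theorem N11449 : nd 11449 = n32033 := ndS (p := 9456) (l := 9) rfl N9456 D32033
theorem N11450 : nd 11450 = n32034 := ndS (p := 9457) (l := 8) rfl N9457 D32034
theorem N11451 : nd 11451 = n32035 := ndS (p := 9458) (l := 0) rfl N9458 D32035
theorem N11452 : nd 11452 = n32036 := ndS (p := 9458) (l := 4) rfl N9458 D32036
theorem N11453 : nd 11453 = n32037 := ndS (p := 9458) (l := 9) rfl N9458 D32037
theorem N11454 : nd 11454 = n32038 := ndS (p := 9459) (l := 5) rfl N9459 D32038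
theorem N11455 : nd 11455 = n32039 := ndS (p := 9459) (l := 9) rfl N9459 D32039
theorem N11456 : nd 11456 = n32040 := ndS (p := 9460) (l := 8) rfl N9460 D32040
theorem N11457 : nd 11457 = n32041 := ndS (p := 9461) (l := 6) rfl N9461 D32041
theorem N11458 : nd 11458 = n32042 := ndS (p := 9461) (l := 9) rfl N9461 D32042
theorem N11459 : nd 11459 = n32043 := ndS (p := 9462) (l := 8) rfl N9462 D32043
theorem N11460 : nd 11460 = n32044 := ndS (p := 9464) (l := 5) rfl N9464 D32044
theorem N11461 : nd 11461 = n32045 := ndS (p := 9464) (l := 9) rfl N9464 D32045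
theorem N11462 : nd 11462 = n32047 := ndS (p := 9466) (l := 6) rfl N9466 D32047
theorem N11463 : nd 11463 = n32048 := ndS (p := 9466) (l := 9) rfl N9466 D32048
theorem N11464 : nd 11464 = n32050 := ndS (p := 9468) (l := 7) rfl N9468 D32050
theorem N11465 : nd 11465 = n32051 := ndS (p := 9468) (l := 9) rfl N9468 D32051
theorem N11466 : nd 11466 = n32062 := ndS (p := 9472) (l := 9) rfl N9472 D32062
theorem N11467 : nd 11467 = n32063 := ndS (p := 9474) (l := 1) rfl N9474 D32063
theorem N11468 : nd 11468 = n32064 := ndS (p := 9474) (l := 4) rfl N9474 D32064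
theorem N11469 : nd 11469 = n32065 := ndS (p := 9474) (l := 9) rfl N9474 D32065
theorem N11470 : nd 11470 = n32066 := ndS (p := 9475) (l := 9) rfl N9475 D32066
theorem N11471 : nd 11471 = n32067 := ndS (p := 9476) (l := 8) rfl N9476 D32067
theorem N11472 : nd 11472 = n32068 := ndS (p := 9477) (l := 1) rfl N9477 D32068
theorem N11473 : nd 11473 = n32069 := ndS (p := 9477) (l := 9) rfl N9477 D32069
theorem N11474 : nd 11474 = n32070 := ndS (p := 9478) (l := 8) rfl N9478 D32070
theorem N11475 : nd 11475 = n32071 := ndS (p := 9479) (l := 0) rfl N9479 D32071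
theorem N11476 : nd 11476 = n32072 := ndS (p := 9479) (l := 9) rfl N9479 D32072
theorem N11477 : nd 11477 = n32073 := ndS (p := 9480) (l := 8) rfl N9480 D32073
theorem N11478 : nd 11478 = n32074 := ndS (p := 9482) (l := 9) rfl N9482 D32074
theorem N11479 : nd 11479 = n32075 := ndS (p := 9483) (l := 8) rfl N9483 D32075
theorem N11480 : nd 11480 = n32076 := ndS (p := 9484) (l := 3) rfl N9484 D32076
theorem N11481 : nd 11481 = n32080 := ndS (p := 9486) (l := 1) rfl N9486 D32080
theorem N11482 : nd 11482 = n32082 := ndS (p := 9486) (l := 9) rfl N9486 D32082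
theorem N11483 : nd 11483 = n32084 := ndS (p := 9487) (l := 8) rfl N9487 D32084
theorem N11484 : nd 11484 = n32085 := ndS (p := 9488) (l := 0) rfl N9488 D32085
theorem N11485 : nd 11485 = n32086 := ndS (p := 9488) (l := 4) rfl N9488 D32086
theorem N11486 : nd 11486 = n32087 := ndS (p := 9488) (l := 9) rfl N9488 D32087
theorem N11487 : nd 11487 = n32089 := ndS (p := 9489) (l := 9) rfl N9489 D32089
theorem N11488 : nd 11488 = n32090 := ndS (p := 9490) (l := 8) rfl N9490 D32090
theorem N11489 : nd 11489 = n32091 := ndS (p := 9491) (l := 8) rfl N9491 D32091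
theorem N11490 : nd 11490 = n32092 := ndS (p := 9493) (l := 0) rfl N9493 D32092
theorem N11491 : nd 11491 = n32093 := ndS (p := 9493) (l := 9) rfl N9493 D32093
theorem N11492 : nd 11492 = n32094 := ndS (p := 9494) (l := 8) rfl N9494 D32094
theorem N11493 : nd 11493 = n32095 := ndS (p := 9496) (l := 9) rfl N9496 D32095
theorem N11494 : nd 11494 = n32096 := ndS (p := 9497) (l := 8) rfl N9497 D32096
theorem N11495 : nd 11495 = n32097 := ndS (p := 9498) (l := 3) rfl N9498 D32097
theorem N11496 : nd 11496 = n32098 := ndS (p := 9499) (l := 8) rfl N9499 D32098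
theorem N11497 : nd 11497 = n32099 := ndS (p := 9500) (l := 3) rfl N9500 D32099
theorem N11498 : nd 11498 = n32100 := ndS (p := 9501) (l := 4) rfl N9501 D32100
theorem N11499 : nd 11499 = n32145 := ndS (p := 9502) (l := 2) rfl N9502 D32145
theorem N11500 : nd 11500 = n32147 := ndS (p := 9502) (l := 9) rfl N9502 D32147
theorem N11501 : nd 11501 = n32148 := ndS (p := 9504) (l := 2) rfl N9504 D32148
theorem N11502 : nd 11502 = n32150 := ndS (p := 9504) (l := 9) rfl N9504 D32150
theorem N11503 : nd 11503 = n32151 := ndS (p := 9506) (l := 1) rfl N9506 D32151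
theorem N11504 : nd 11504 = n32153 := ndS (p := 9506) (l := 9) rfl N9506 D32153
theorem N11505 : nd 11505 = n32156 := ndS (p := 9507) (l := 8) rfl N9507 D32156
theorem N11506 : nd 11506 = n32157 := ndS (p := 9508) (l := 0) rfl N9508 D32157
theorem N11507 : nd 11507 = n32159 := ndS (p := 9508) (l := 9) rfl N9508 D32159
theorem N11508 : nd 11508 = n32162 := ndS (p := 9509) (l := 8) rfl N9509 D32162
theorem N11509 : nd 11509 = n32182 := ndS (p := 9511) (l := 2) rfl N9511 D32182
theorem N11510 : nd 11510 = n32184 := ndS (p := 9511) (l := 9) rfl N9511 D32184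
theorem N11511 : nd 11511 = n32185 := ndS (p := 9513) (l := 1) rfl N9513 D32185
theorem N11512 : nd 11512 = n32186 := ndS (p := 9513) (l := 4) rfl N9513 D32186
theorem N11513 : nd 11513 = n32187 := ndS (p := 9513) (l := 9) rfl N9513 D32187
theorem N11514 : nd 11514 = n32188 := ndS (p := 9514) (l := 9) rfl N9514 D32188
theorem N11515 : nd 11515 = n32189 := ndS (p := 9515) (l := 8) rfl N9515 D32189
theorem N11516 : nd 11516 = n32190 := ndS (p := 9516) (l := 1) rfl N9516 D32190
theorem N11517 : nd 11517 = n32191 := ndS (p := 9516) (l := 9) rfl N9516 D32191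
theorem N11518 : nd 11518 = n32192 := ndS (p := 9517) (l := 8) rfl N9517 D32192
theorem N11519 : nd 11519 = n32193 := ndS (p := 9518) (l := 0) rfl N9518 D32193
theorem N11520 : nd 11520 = n32194 := ndS (p := 9518) (l := 9) rfl N9518 D32194
theorem N11521 : nd 11521 = n32195 := ndS (p := 9519) (l := 8) rfl N9519 D32195
theorem N11522 : nd 11522 = n32196 := ndS (p := 9521) (l := 9) rfl N9521 D32196
theorem N11523 : nd 11523 = n32197 := ndS (p := 9522) (l := 8) rfl N9522 D32197
theorem N11524 : nd 11524 = n32198 := ndS (p := 9523) (l := 3) rfl N9523 D32198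
theorem N11525 : nd 11525 = n32201 := ndS (p := 9524) (l := 2) rfl N9524 D32201
theorem N11526 : nd 11526 = n32203 := ndS (p := 9524) (l := 9) rfl N9524 D32203
theorem N11527 : nd 11527 = n32204 := ndS (p := 9526) (l := 1) rfl N9526 D32204
theorem N11528 : nd 11528 = n32205 := ndS (p := 9526) (l := 4) rfl N9526 D32205
theorem N11529 : nd 11529 = n32206 := ndS (p := 9526) (l := 9) rfl N9526 D32206
theorem N11530 : nd 11530 = n32207 := ndS (p := 9527) (l := 5) rfl N9527 D32207
theorem N11531 : nd 11531 = n32208 := ndS (p := 9527) (l := 9) rfl N9527 D32208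
theorem N11532 : nd 11532 = n32209 := ndS (p := 9528) (l := 8) rfl N9528 D32209
theorem N11533 : nd 11533 = n32210 := ndS (p := 9529) (l := 1) rfl N9529 D32210
theorem N11534 : nd 11534 = n32211 := ndS (p := 9529) (l := 4) rfl N9529 D32211
theorem N11535 : nd 11535 = n32212 := ndS (p := 9529) (l := 9) rfl N9529 D32212
theorem N11536 : nd 11536 = n32213 := ndS (p := 9530) (l := 5) rfl N9530 D32213
theorem N11537 : nd 11537 = n32214 := ndS (p := 9530) (l := 9) rfl N9530 D32214
theorem N11538 : nd 11538 = n32215 := ndS (p := 9531) (l := 8) rfl N9531 D32215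
theorem N11539 : nd 11539 = n32216 := ndS (p := 9532) (l := 0) rfl N9532 D32216
theorem N11540 : nd 11540 = n32217 := ndS (p := 9532) (l := 4) rfl N9532 D32217
theorem N11541 : nd 11541 = n32218 := ndS (p := 9532) (l := 9) rfl N9532 D32218
theorem N11542 : nd 11542 = n32219 := ndS (p := 9533) (l := 5) rfl N9533 D32219
theorem N11543 : nd 11543 = n32220 := ndS (p := 9533) (l := 9) rfl N9533 D32220
theorem N11544 : nd 11544 = n32221 := ndS (p := 9534) (l := 8) rfl N9534 D32221
theorem N11545 : nd 11545 = n32222 := ndS (p := 9535) (l := 6) rfl N9535 D32222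
theorem N11546 : nd 11546 = n32223 := ndS (p := 9535) (l := 9) rfl N9535 D32223
theorem N11547 : nd 11547 = n32224 := ndS (p := 9536) (l := 8) rfl N9536 D32224
theorem N11548 : nd 11548 = n32225 := ndS (p := 9538) (l := 4) rfl N9538 D32225
theorem N11549 : nd 11549 = n32226 := ndS (p := 9538) (l := 9) rfl N9538 D32226
theorem N11550 : nd 11550 = n32227 := ndS (p := 9539) (l := 5) rfl N9539 D32227
theorem N11551 : nd 11551 = n32228 := ndS (p := 9539) (l := 9) rfl N9539 D32228
theorem N11552 : nd 11552 = n32229 := ndS (p := 9540) (l := 8) rfl N9540 D32229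
theorem N11553 : nd 11553 = n32230 := ndS (p := 9541) (l := 6) rfl N9541 D32230
theorem N11554 : nd 11554 = n32231 := ndS (p := 9541) (l := 9) rfl N9541 D32231
theorem N11555 : nd 11555 = n32232 := ndS (p := 9542) (l := 8) rfl N9542 D32232
theorem N11556 : nd 11556 = n32233 := ndS (p := 9543) (l := 3) rfl N9543 D32233
theorem N11557 : nd 11557 = n32234 := ndS (p := 9544) (l := 7) rfl N9544 D32234
theorem N11558 : nd 11558 = n32235 := ndS (p := 9544) (l := 9) rfl N9544 D32235
theorem N11559 : nd 11559 = n32236 := ndS (p := 9545) (l := 8) rfl N9545 D32236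
theorem N11560 : nd 11560 = n32238 := ndS (p := 9547) (l := 6) rfl N9547 D32238
theorem N11561 : nd 11561 = n32239 := ndS (p := 9547) (l := 9) rfl N9547 D32239
theorem N11562 : nd 11562 = n32241 := ndS (p := 9549) (l := 7) rfl N9549 D32241
theorem N11563 : nd 11563 = n32242 := ndS (p := 9549) (l := 9) rfl N9549 D32242
theorem N11564 : nd 11564 = n32245 := ndS (p := 9551) (l := 9) rfl N9551 D32245
theorem N11565 : nd 11565 = n32259 := ndS (p := 9555) (l := 9) rfl N9555 D32259
theorem N11566 : nd 11566 = n32262 := ndS (p := 9557) (l := 0) rfl N9557 D32262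
theorem N11567 : nd 11567 = n32264 := ndS (p := 9557) (l := 9) rfl N9557 D32264
theorem N11568 : nd 11568 = n32265 := ndS (p := 9558) (l := 3) rfl N9558 D32265
theorem N11569 : nd 11569 = n32266 := ndS (p := 9558) (l := 9) rfl N9558 D32266
theorem N11570 : nd 11570 = n32267 := ndS (p := 9559) (l := 8) rfl N9559 D32267
theorem N11571 : nd 11571 = n32269 := ndS (p := 9562) (l := 0) rfl N9562 D32269
theorem N11572 : nd 11572 = n32272 := ndS (p := 9565) (l := 9) rfl N9565 D32272
theorem N11573 : nd 11573 = n32274 := ndS (p := 9567) (l := 3) rfl N9567 D32274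
theorem N11574 : nd 11574 = n32275 := ndS (p := 9568) (l := 8) rfl N9568 D32275
theorem N11575 : nd 11575 = n32276 := ndS (p := 9569) (l := 3) rfl N9569 D32276
theorem N11576 : nd 11576 = n32277 := ndS (p := 9570) (l := 4) rfl N9570 D32277
theorem N11577 : nd 11577 = n32314 := ndS (p := 9575) (l := 1) rfl N9575 D32314
theorem N11578 : nd 11578 = n32319 := ndS (p := 9576) (l := 0) rfl N9576 D32319
theorem N11579 : nd 11579 = n32320 := ndS (p := 9576) (l := 4) rfl N9576 D32320
theorem N11580 : nd 11580 = n32321 := ndS (p := 9576) (l := 9) rfl N9576 D32321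
theorem N11581 : nd 11581 = n32322 := ndS (p := 9577) (l := 3) rfl N9577 D32322
theorem N11582 : nd 11582 = n32330 := ndS (p := 9582) (l := 8) rfl N9582 D32330
theorem N11583 : nd 11583 = n32331 := ndS (p := 9583) (l := 3) rfl N9583 D32331
theorem N11584 : nd 11584 = n32332 := ndS (p := 9584) (l := 8) rfl N9584 D32332
theorem N11585 : nd 11585 = n32333 := ndS (p := 9585) (l := 3) rfl N9585 D32333
theorem N11586 : nd 11586 = n32334 := ndS (p := 9586) (l := 4) rfl N9586 D32334
theorem N11587 : nd 11587 = n32353 := ndS (p := 9587) (l := 8) rfl N9587 D32353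
theorem N11588 : nd 11588 = n32363 := ndS (p := 9588) (l := 4) rfl N9588 D32363
theorem N11589 : nd 11589 = n32473 := ndS (p := 9592) (l := 1) rfl N9592 D32473
theorem N11590 : nd 11590 = n33206 := ndS (p := 9593) (l := 6) rfl N9593 D33206
theorem N11591 : nd 11591 = n33362 := ndS (p := 9594) (l := 9) rfl N9594 D33362
theorem N11592 : nd 11592 = n33429 := ndS (p := 9595) (l := 9) rfl N9595 D33429
theorem N11593 : nd 11593 = n33488 := ndS (p := 9597) (l := 6) rfl N9597 D33488
theorem N11594 : nd 11594 = n33491 := ndS (p := 9598) (l := 7) rfl N9598 D33491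
theorem N11595 : nd 11595 = n33719 := ndS (p := 9599) (l := 8) rfl N9599 D33719
theorem N11596 : nd 11596 = n33720 := ndS (p := 9600) (l := 8) rfl N9600 D33720
theorem N11597 : nd 11597 = n33722 := ndS (p := 9601) (l := 9) rfl N9601 D33722
theorem N11598 : nd 11598 = n33789 := ndS (p := 9604) (l := 8) rfl N9604 D33789
theorem N11599 : nd 11599 = n33791 := ndS (p := 9605) (l := 9) rfl N9605 D33791
theorem N11600 : nd 11600 = n33821 := ndS (p := 9606) (l := 3) rfl N9606 D33821
theorem N11601 : nd 11601 = n33822 := ndS (p := 9606) (l := 9) rfl N9606 D33822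
theorem N11602 : nd 11602 = n33825 := ndS (p := 9607) (l := 9) rfl N9607 D33825
theorem N11603 : nd 11603 = n33867 := ndS (p := 9610) (l := 8) rfl N9610 D33867
theorem N11604 : nd 11604 = n33871 := ndS (p := 9611) (l := 9) rfl N9611 D33871
theorem N11605 : nd 11605 = n33873 := ndS (p := 9612) (l := 9) rfl N9612 D33873
theorem N11606 : nd 11606 = n33875 := ndS (p := 9613) (l := 4) rfl N9613 D33875
theorem N11607 : nd 11607 = n33876 := ndS (p := 9613) (l := 9) rfl N9613 D33876
theorem N11608 : nd 11608 = n33878 := ndS (p := 9615) (l := 9) rfl N9615 D33878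
theorem N11609 : nd 11609 = n33880 := ndS (p := 9616) (l := 9) rfl N9616 D33880
theorem N11610 : nd 11610 = n33905 := ndS (p := 9620) (l := 6) rfl N9620 D33905
theorem N11611 : nd 11611 = n33908 := ndS (p := 9621) (l := 7) rfl N9621 D33908
theorem N11612 : nd 11612 = n33971 := ndS (p := 9623) (l := 9) rfl N9623 D33971
theorem N11613 : nd 11613 = n34038 := ndS (p := 9624) (l := 9) rfl N9624 D34038
theorem N11614 : nd 11614 = n34097 := ndS (p := 9626) (l := 6) rfl N9626 D34097
theorem N11615 : nd 11615 = n34160 := ndS (p := 9628) (l := 9) rfl N9628 D34160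
theorem N11616 : nd 11616 = n34195 := ndS (p := 9629) (l := 9) rfl N9629 D34195
theorem N11617 : nd 11617 = n34198 := ndS (p := 9630) (l := 9) rfl N9630 D34198
theorem N11618 : nd 11618 = n34296 := ndS (p := 9632) (l := 9) rfl N9632 D34296
theorem N11619 : nd 11619 = n34354 := ndS (p := 9635) (l := 5) rfl N9635 D34354
theorem N11620 : nd 11620 = n34355 := ndS (p := 9635) (l := 9) rfl N9635 D34355
theorem N11621 : nd 11621 = n34378 := ndS (p := 9637) (l := 6) rfl N9637 D34378
theorem N11622 : nd 11622 = n34384 := ndS (p := 9638) (l := 6) rfl N9638 D34384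
theorem N11623 : nd 11623 = n34387 := ndS (p := 9639) (l := 7) rfl N9639 D34387
theorem N11624 : nd 11624 = n34462 := ndS (p := 9641) (l := 8) rfl N9641 D34462
theorem N11625 : nd 11625 = n34463 := ndS (p := 9642) (l := 8) rfl N9642 D34463
theorem N11626 : nd 11626 = n34465 := ndS (p := 9643) (l := 9) rfl N9643 D34465
theorem N11627 : nd 11627 = n34509 := ndS (p := 9645) (l := 8) rfl N9645 D34509
theorem N11628 : nd 11628 = n34513 := ndS (p := 9646) (l := 9) rfl N9646 D34513
theorem N11629 : nd 11629 = n34515 := ndS (p := 9647) (l := 9) rfl N9647 D34515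
theorem N11630 : nd 11630 = n34516 := ndS (p := 9648) (l := 2) rfl N9648 D34516
theorem N11631 : nd 11631 = n34518 := ndS (p := 9648) (l := 9) rfl N9648 D34518
theorem N11632 : nd 11632 = n34521 := ndS (p := 9650) (l := 9) rfl N9650 D34521
theorem N11633 : nd 11633 = n34647 := ndS (p := 9653) (l := 8) rfl N9653 D34647
theorem N11634 : nd 11634 = n34651 := ndS (p := 9654) (l := 9) rfl N9654 D34651
theorem N11635 : nd 11635 = n34653 := ndS (p := 9655) (l := 9) rfl N9655 D34653
theorem N11636 : nd 11636 = n34689 := ndS (p := 9657) (l := 3) rfl N9657 D34689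
theorem N11637 : nd 11637 = n34690 := ndS (p := 9657) (l := 9) rfl N9657 D34690
theorem N11638 : nd 11638 = n34698 := ndS (p := 9660) (l := 5) rfl N9660 D34698
theorem N11639 : nd 11639 = n34699 := ndS (p := 9660) (l := 9) rfl N9660 D34699
theorem N11640 : nd 11640 = n34701 := ndS (p := 9662) (l := 6) rfl N9662 D34701
theorem N11641 : nd 11641 = n34702 := ndS (p := 9662) (l := 9) rfl N9662 D34702
theorem N11642 : nd 11642 = n34714 := ndS (p := 9664) (l := 6) rfl N9664 D34714
theorem N11643 : nd 11643 = n34717 := ndS (p := 9665) (l := 7) rfl N9665 D34717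
theorem N11644 : nd 11644 = n34721 := ndS (p := 9666) (l := 6) rfl N9666 D34721
theorem N11645 : nd 11645 = n34724 := ndS (p := 9667) (l := 7) rfl N9667 D34724
theorem N11646 : nd 11646 = n34772 := ndS (p := 9669) (l := 8) rfl N9669 D34772
theorem N11647 : nd 11647 = n34776 := ndS (p := 9670) (l := 9) rfl N9670 D34776
theorem N11648 : nd 11648 = n34778 := ndS (p := 9671) (l := 9) rfl N9671 D34778
theorem N11649 : nd 11649 = n34811 := ndS (p := 9673) (l := 8) rfl N9673 D34811
theorem N11650 : nd 11650 = n34812 := ndS (p := 9674) (l := 3) rfl N9674 D34812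
theorem N11651 : nd 11651 = n34813 := ndS (p := 9674) (l := 9) rfl N9674 D34813
theorem N11652 : nd 11652 = n34816 := ndS (p := 9675) (l := 9) rfl N9675 D34816
theorem N11653 : nd 11653 = n34819 := ndS (p := 9676) (l := 9) rfl N9676 D34819
theorem N11654 : nd 11654 = n34822 := ndS (p := 9678) (l := 9) rfl N9678 D34822
theorem N11655 : nd 11655 = n34825 := ndS (p := 9680) (l := 9) rfl N9680 D34825
theorem N11656 : nd 11656 = n34830 := ndS (p := 9682) (l := 9) rfl N9682 D34830
theorem N11657 : nd 11657 = n34877 := ndS (p := 9684) (l := 9) rfl N9684 D34877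
theorem N11658 : nd 11658 = n34884 := ndS (p := 9686) (l := 9) rfl N9686 D34884
theorem N11659 : nd 11659 = n34885 := ndS (p := 9687) (l := 9) rfl N9687 D34885
theorem N11660 : nd 11660 = n34888 := ndS (p := 9689) (l := 3) rfl N9689 D34888
theorem N11661 : nd 11661 = n34889 := ndS (p := 9689) (l := 9) rfl N9689 D34889
theorem N11662 : nd 11662 = n34891 := ndS (p := 9690) (l := 9) rfl N9690 D34891
theorem N11663 : nd 11663 = n34894 := ndS (p := 9693) (l := 3) rfl N9693 D34894
theorem N11664 : nd 11664 = n34895 := ndS (p := 9693) (l := 9) rfl N9693 D34895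
theorem N11665 : nd 11665 = n34896 := ndS (p := 9694) (l := 2) rfl N9694 D34896
theorem N11666 : nd 11666 = n34897 := ndS (p := 9694) (l := 9) rfl N9694 D34897
theorem N11667 : nd 11667 = n34992 := ndS (p := 9697) (l := 5) rfl N9697 D34992
theorem N11668 : nd 11668 = n34993 := ndS (p := 9697) (l := 9) rfl N9697 D34993
theorem N11669 : nd 11669 = n35021 := ndS (p := 9700) (l := 6) rfl N9700 D35021
theorem N11670 : nd 11670 = n35175 := ndS (p := 9702) (l := 5) rfl N9702 D35175
theorem N11671 : nd 11671 = n35176 := ndS (p := 9702) (l := 9) rfl N9702 D35176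
theorem N11672 : nd 11672 = n35181 := ndS (p := 9704) (l := 3) rfl N9704 D35181
theorem N11673 : nd 11673 = n35185 := ndS (p := 9705) (l := 6) rfl N9705 D35185
theorem N11674 : nd 11674 = n35200 := ndS (p := 9707) (l := 6) rfl N9707 D35200
theorem N11675 : nd 11675 = n35216 := ndS (p := 9709) (l := 6) rfl N9709 D35216
theorem N11676 : nd 11676 = n35219 := ndS (p := 9710) (l := 7) rfl N9710 D35219
theorem N11677 : nd 11677 = n35305 := ndS (p := 9712) (l := 7) rfl N9712 D35305
theorem N11678 : nd 11678 = n41535 := ndS (p := 9719) (l := 4) rfl N9719 D41535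
theorem N11679 : nd 11679 = n41536 := ndS (p := 9719) (l := 9) rfl N9719 D41536
theorem N11680 : nd 11680 = n41564 := ndS (p := 9724) (l := 4) rfl N9724 D41564
theorem N11681 : nd 11681 = n41565 := ndS (p := 9724) (l := 9) rfl N9724 D41565
theorem N11682 : nd 11682 = n41583 := ndS (p := 9727) (l := 4) rfl N9727 D41583
theorem N11683 : nd 11683 = n41584 := ndS (p := 9727) (l := 9) rfl N9727 D41584
theorem N11684 : nd 11684 = n41585 := ndS (p := 9729) (l := 5) rfl N9729 D41585
theorem N11685 : nd 11685 = n41586 := ndS (p := 9729) (l := 9) rfl N9729 D41586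
theorem N11686 : nd 11686 = n41587 := ndS (p := 9730) (l := 8) rfl N9730 D41587
theorem N11687 : nd 11687 = n41594 := ndS (p := 9731) (l := 9) rfl N9731 D41594
theorem N11688 : nd 11688 = n41614 := ndS (p := 9737) (l := 2) rfl N9737 D41614
theorem N11689 : nd 11689 = n41615 := ndS (p := 9737) (l := 4) rfl N9737 D41615
theorem N11690 : nd 11690 = n41616 := ndS (p := 9737) (l := 9) rfl N9737 D41616
theorem N11691 : nd 11691 = n41628 := ndS (p := 9739) (l := 9) rfl N9739 D41628
theorem N11692 : nd 11692 = n41629 := ndS (p := 9741) (l := 5) rfl N9741 D41629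
theorem N11693 : nd 11693 = n41630 := ndS (p := 9741) (l := 9) rfl N9741 D41630
theorem N11694 : nd 11694 = n41631 := ndS (p := 9742) (l := 8) rfl N9742 D41631
theorem N11695 : nd 11695 = n41638 := ndS (p := 9743) (l := 9) rfl N9743 D41638
theorem N11696 : nd 11696 = n41655 := ndS (p := 9747) (l := 4) rfl N9747 D41655
theorem N11697 : nd 11697 = n41656 := ndS (p := 9747) (l := 9) rfl N9747 D41656
theorem N11698 : nd 11698 = n41657 := ndS (p := 9749) (l := 5) rfl N9749 D41657
theorem N11699 : nd 11699 = n41658 := ndS (p := 9749) (l := 9) rfl N9749 D41658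
theorem N11700 : nd 11700 = n41659 := ndS (p := 9750) (l := 8) rfl N9750 D41659
theorem N11701 : nd 11701 = n41660 := ndS (p := 9751) (l := 6) rfl N9751 D41660
theorem N11702 : nd 11702 = n41661 := ndS (p := 9751) (l := 9) rfl N9751 D41661
theorem N11703 : nd 11703 = n41662 := ndS (p := 9752) (l := 8) rfl N9752 D41662
theorem N11704 : nd 11704 = n41669 := ndS (p := 9754) (l := 2) rfl N9754 D41669
theorem N11705 : nd 11705 = n41670 := ndS (p := 9754) (l := 9) rfl N9754 D41670
theorem N11706 : nd 11706 = n41671 := ndS (p := 9756) (l := 1) rfl N9756 D41671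
theorem N11707 : nd 11707 = n41672 := ndS (p := 9756) (l := 9) rfl N9756 D41672
theorem N11708 : nd 11708 = n41673 := ndS (p := 9757) (l := 8) rfl N9757 D41673
theorem N11709 : nd 11709 = n41677 := ndS (p := 9759) (l := 2) rfl N9759 D41677
theorem N11710 : nd 11710 = n41679 := ndS (p := 9759) (l := 9) rfl N9759 D41679
theorem N11711 : nd 11711 = n41680 := ndS (p := 9761) (l := 2) rfl N9761 D41680
theorem N11712 : nd 11712 = n41681 := ndS (p := 9761) (l := 9) rfl N9761 D41681
theorem N11713 : nd 11713 = n41682 := ndS (p := 9763) (l := 1) rfl N9763 D41682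
theorem N11714 : nd 11714 = n41683 := ndS (p := 9763) (l := 9) rfl N9763 D41683
theorem N11715 : nd 11715 = n41684 := ndS (p := 9764) (l := 8) rfl N9764 D41684
theorem N11716 : nd 11716 = n41685 := ndS (p := 9765) (l := 0) rfl N9765 D41685
theorem N11717 : nd 11717 = n41686 := ndS (p := 9765) (l := 9) rfl N9765 D41686
theorem N11718 : nd 11718 = n41687 := ndS (p := 9766) (l := 8) rfl N9766 D41687
theorem N11719 : nd 11719 = n41737 := ndS (p := 9772) (l := 4) rfl N9772 D41737
theorem N11720 : nd 11720 = n41742 := ndS (p := 9773) (l := 6) rfl N9773 D41742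
theorem N11721 : nd 11721 = n41743 := ndS (p := 9773) (l := 8) rfl N9773 D41743
theorem N11722 : nd 11722 = n41767 := ndS (p := 9779) (l := 6) rfl N9779 D41767
theorem N11723 : nd 11723 = n41802 := ndS (p := 9783) (l := 3) rfl N9783 D41802
theorem N11724 : nd 11724 = n41803 := ndS (p := 9783) (l := 6) rfl N9783 D41803
theorem N11725 : nd 11725 = n41811 := ndS (p := 9785) (l := 5) rfl N9785 D41811
theorem N11726 : nd 11726 = n41812 := ndS (p := 9785) (l := 7) rfl N9785 D41812
theorem N11727 : nd 11727 = n41813 := ndS (p := 9785) (l := 8) rfl N9785 D41813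
theorem N11728 : nd 11728 = n41814 := ndS (p := 9786) (l := 3) rfl N9786 D41814
theorem N11729 : nd 11729 = n41818 := ndS (p := 9789) (l := 7) rfl N9789 D41818
theorem N11730 : nd 11730 = n41819 := ndS (p := 9789) (l := 8) rfl N9789 D41819
theorem N11731 : nd 11731 = n41821 := ndS (p := 9791) (l := 3) rfl N9791 D41821
theorem N11732 : nd 11732 = n41824 := ndS (p := 9792) (l := 9) rfl N9792 D41824
theorem N11733 : nd 11733 = n41840 := ndS (p := 9794) (l := 5) rfl N9794 D41840
theorem N11734 : nd 11734 = n41847 := ndS (p := 9795) (l := 6) rfl N9795 D41847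
theorem N11735 : nd 11735 = n41849 := ndS (p := 9796) (l := 5) rfl N9796 D41849
theorem N11736 : nd 11736 = n41850 := ndS (p := 9796) (l := 7) rfl N9796 D41850
theorem N11737 : nd 11737 = n41862 := ndS (p := 9798) (l := 7) rfl N9798 D41862
theorem N11738 : nd 11738 = n41863 := ndS (p := 9798) (l := 8) rfl N9798 D41863
theorem N11739 : nd 11739 = n41893 := ndS (p := 9804) (l := 3) rfl N9804 D41893
theorem N11740 : nd 11740 = n41894 := ndS (p := 9804) (l := 6) rfl N9804 D41894
theorem N11741 : nd 11741 = n41895 := ndS (p := 9804) (l := 8) rfl N9804 D41895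
theorem N11742 : nd 11742 = n41896 := ndS (p := 9805) (l := 7) rfl N9805 D41896
theorem N11743 : nd 11743 = n41897 := ndS (p := 9805) (l := 8) rfl N9805 D41897
theorem N11744 : nd 11744 = n41898 := ndS (p := 9806) (l := 3) rfl N9806 D41898
theorem N11745 : nd 11745 = n41899 := ndS (p := 9806) (l := 9) rfl N9806 D41899
theorem N11746 : nd 11746 = n41901 := ndS (p := 9807) (l := 9) rfl N9807 D41901
theorem N11747 : nd 11747 = n41902 := ndS (p := 9809) (l := 5) rfl N9809 D41902
theorem N11748 : nd 11748 = n41903 := ndS (p := 9809) (l := 7) rfl N9809 D41903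
theorem N11749 : nd 11749 = n41904 := ndS (p := 9809) (l := 8) rfl N9809 D41904
theorem N11750 : nd 11750 = n41905 := ndS (p := 9810) (l := 3) rfl N9810 D41905
theorem N11751 : nd 11751 = n41906 := ndS (p := 9810) (l := 9) rfl N9810 D41906
theorem N11752 : nd 11752 = n41907 := ndS (p := 9811) (l := 8) rfl N9811 D41907
theorem N11753 : nd 11753 = n41908 := ndS (p := 9812) (l := 9) rfl N9812 D41908
theorem N11754 : nd 11754 = n41911 := ndS (p := 9815) (l := 8) rfl N9815 D41911
theorem N11755 : nd 11755 = n41913 := ndS (p := 9816) (l := 9) rfl N9816 D41913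
theorem N11756 : nd 11756 = n41915 := ndS (p := 9817) (l := 9) rfl N9817 D41915
theorem N11757 : nd 11757 = n41916 := ndS (p := 9819) (l := 9) rfl N9819 D41916
theorem N11758 : nd 11758 = n41917 := ndS (p := 9821) (l := 4) rfl N9821 D41917
theorem N11759 : nd 11759 = n41918 := ndS (p := 9821) (l := 6) rfl N9821 D41918
theorem N11760 : nd 11760 = n41919 := ndS (p := 9821) (l := 8) rfl N9821 D41919
theorem N11761 : nd 11761 = n41920 := ndS (p := 9822) (l := 3) rfl N9822 D41920
theorem N11762 : nd 11762 = n41921 := ndS (p := 9822) (l := 9) rfl N9822 D41921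
theorem N11763 : nd 11763 = n41922 := ndS (p := 9823) (l := 3) rfl N9823 D41922
theorem N11764 : nd 11764 = n41923 := ndS (p := 9823) (l := 6) rfl N9823 D41923
theorem N11765 : nd 11765 = n41924 := ndS (p := 9823) (l := 8) rfl N9823 D41924
theorem N11766 : nd 11766 = n41928 := ndS (p := 9825) (l := 9) rfl N9825 D41928
theorem N11767 : nd 11767 = n41929 := ndS (p := 9826) (l := 4) rfl N9826 D41929
theorem N11768 : nd 11768 = n41930 := ndS (p := 9826) (l := 9) rfl N9826 D41930
theorem N11769 : nd 11769 = n41931 := ndS (p := 9828) (l := 5) rfl N9828 D41931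
theorem N11770 : nd 11770 = n41935 := ndS (p := 9829) (l := 9) rfl N9829 D41935
theorem N11771 : nd 11771 = n41938 := ndS (p := 9831) (l := 6) rfl N9831 D41938
theorem N11772 : nd 11772 = n41939 := ndS (p := 9831) (l := 8) rfl N9831 D41939
theorem N11773 : nd 11773 = n41940 := ndS (p := 9832) (l := 5) rfl N9832 D41940
theorem N11774 : nd 11774 = n41941 := ndS (p := 9832) (l := 7) rfl N9832 D41941
theorem N11775 : nd 11775 = n41942 := ndS (p := 9832) (l := 8) rfl N9832 D41942
theorem N11776 : nd 11776 = n41943 := ndS (p := 9833) (l := 3) rfl N9833 D41943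
theorem N11777 : nd 11777 = n41944 := ndS (p := 9833) (l := 9) rfl N9833 D41944
theorem N11778 : nd 11778 = n41947 := ndS (p := 9835) (l := 9) rfl N9835 D41947
theorem N11779 : nd 11779 = n41948 := ndS (p := 9836) (l := 4) rfl N9836 D41948
theorem N11780 : nd 11780 = n41949 := ndS (p := 9836) (l := 9) rfl N9836 D41949
theorem N11781 : nd 11781 = n41950 := ndS (p := 9838) (l := 5) rfl N9838 D41950
theorem N11782 : nd 11782 = n41951 := ndS (p := 9838) (l := 9) rfl N9838 D41951
theorem N11783 : nd 11783 = n41952 := ndS (p := 9839) (l := 8) rfl N9839 D41952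
theorem N11784 : nd 11784 = n41957 := ndS (p := 9842) (l := 9) rfl N9842 D41957
theorem N11785 : nd 11785 = n41958 := ndS (p := 9843) (l := 2) rfl N9843 D41958
theorem N11786 : nd 11786 = n41959 := ndS (p := 9843) (l := 9) rfl N9843 D41959
theorem N11787 : nd 11787 = n41993 := ndS (p := 9849) (l := 6) rfl N9849 D41993
theorem N11788 : nd 11788 = n41994 := ndS (p := 9849) (l := 8) rfl N9849 D41994
theorem N11789 : nd 11789 = n41995 := ndS (p := 9850) (l := 5) rfl N9850 D41995
theorem N11790 : nd 11790 = n41996 := ndS (p := 9850) (l := 7) rfl N9850 D41996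
theorem N11791 : nd 11791 = n41997 := ndS (p := 9850) (l := 8) rfl N9850 D41997
theorem N11792 : nd 11792 = n41998 := ndS (p := 9851) (l := 3) rfl N9851 D41998
theorem N11793 : nd 11793 = n41999 := ndS (p := 9851) (l := 9) rfl N9851 D41999
theorem N11794 : nd 11794 = n42000 := ndS (p := 9852) (l := 8) rfl N9852 D42000
theorem N11795 : nd 11795 = n42001 := ndS (p := 9853) (l := 3) rfl N9853 D42001
theorem N11796 : nd 11796 = n42002 := ndS (p := 9853) (l := 9) rfl N9853 D42002
theorem N11797 : nd 11797 = n42003 := ndS (p := 9854) (l := 4) rfl N9854 D42003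
theorem N11798 : nd 11798 = n42004 := ndS (p := 9854) (l := 9) rfl N9854 D42004
theorem N11799 : nd 11799 = n42007 := ndS (p := 9856) (l := 8) rfl N9856 D42007
theorem N11800 : nd 11800 = n42008 := ndS (p := 9857) (l := 7) rfl N9857 D42008
theorem N11801 : nd 11801 = n42009 := ndS (p := 9857) (l := 8) rfl N9857 D42009
theorem N11802 : nd 11802 = n42010 := ndS (p := 9858) (l := 8) rfl N9858 D42010
theorem N11803 : nd 11803 = n42011 := ndS (p := 9859) (l := 3) rfl N9859 D42011
theorem N11804 : nd 11804 = n42012 := ndS (p := 9859) (l := 9) rfl N9859 D42012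
theorem N11805 : nd 11805 = n42013 := ndS (p := 9860) (l := 2) rfl N9860 D42013
theorem N11806 : nd 11806 = n42014 := ndS (p := 9860) (l := 9) rfl N9860 D42014
theorem N11807 : nd 11807 = n42015 := ndS (p := 9862) (l := 9) rfl N9862 D42015
theorem N11808 : nd 11808 = n42016 := ndS (p := 9864) (l := 6) rfl N9864 D42016
theorem N11809 : nd 11809 = n42017 := ndS (p := 9864) (l := 8) rfl N9864 D42017
theorem N11810 : nd 11810 = n42018 := ndS (p := 9865) (l := 3) rfl N9865 D42018
theorem N11811 : nd 11811 = n42019 := ndS (p := 9865) (l := 9) rfl N9865 D42019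
theorem N11812 : nd 11812 = n42020 := ndS (p := 9866) (l := 3) rfl N9866 D42020
theorem N11813 : nd 11813 = n42021 := ndS (p := 9866) (l := 9) rfl N9866 D42021
theorem N11814 : nd 11814 = n42022 := ndS (p := 9867) (l := 2) rfl N9867 D42022
theorem N11815 : nd 11815 = n42023 := ndS (p := 9867) (l := 9) rfl N9867 D42023
theorem N11816 : nd 11816 = n42024 := ndS (p := 9869) (l := 1) rfl N9869 D42024
theorem N11817 : nd 11817 = n42025 := ndS (p := 9869) (l := 9) rfl N9869 D42025
theorem N11818 : nd 11818 = n42026 := ndS (p := 9870) (l := 8) rfl N9870 D42026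
theorem N11819 : nd 11819 = n42027 := ndS (p := 9872) (l := 3) rfl N9872 D42027
theorem N11820 : nd 11820 = n42028 := ndS (p := 9872) (l := 6) rfl N9872 D42028
theorem N11821 : nd 11821 = n42029 := ndS (p := 9872) (l := 8) rfl N9872 D42029
theorem N11822 : nd 11822 = n42030 := ndS (p := 9873) (l := 7) rfl N9873 D42030
theorem N11823 : nd 11823 = n42031 := ndS (p := 9873) (l := 8) rfl N9873 D42031
theorem N11824 : nd 11824 = n42032 := ndS (p := 9874) (l := 3) rfl N9874 D42032
theorem N11825 : nd 11825 = n42033 := ndS (p := 9874) (l := 9) rfl N9874 D42033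
theorem N11826 : nd 11826 = n42034 := ndS (p := 9875) (l := 2) rfl N9875 D42034
theorem N11827 : nd 11827 = n42036 := ndS (p := 9875) (l := 9) rfl N9875 D42036
theorem N11828 : nd 11828 = n42037 := ndS (p := 9877) (l := 6) rfl N9877 D42037
theorem N11829 : nd 11829 = n42039 := ndS (p := 9878) (l := 5) rfl N9878 D42039
theorem N11830 : nd 11830 = n42040 := ndS (p := 9878) (l := 7) rfl N9878 D42040
theorem N11831 : nd 11831 = n42041 := ndS (p := 9878) (l := 8) rfl N9878 D42041
theorem N11832 : nd 11832 = n42042 := ndS (p := 9879) (l := 3) rfl N9879 D42042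
theorem N11833 : nd 11833 = n42043 := ndS (p := 9879) (l := 9) rfl N9879 D42043
theorem N11834 : nd 11834 = n42046 := ndS (p := 9881) (l := 9) rfl N9881 D42046
theorem N11835 : nd 11835 = n42047 := ndS (p := 9882) (l := 4) rfl N9882 D42047
theorem N11836 : nd 11836 = n42048 := ndS (p := 9882) (l := 9) rfl N9882 D42048
theorem N11837 : nd 11837 = n42049 := ndS (p := 9884) (l := 5) rfl N9884 D42049
theorem N11838 : nd 11838 = n42050 := ndS (p := 9884) (l := 9) rfl N9884 D42050
theorem N11839 : nd 11839 = n42051 := ndS (p := 9885) (l := 8) rfl N9885 D42051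
theorem N11840 : nd 11840 = n42052 := ndS (p := 9886) (l := 7) rfl N9886 D42052
theorem N11841 : nd 11841 = n42053 := ndS (p := 9886) (l := 8) rfl N9886 D42053
theorem N11842 : nd 11842 = n42056 := ndS (p := 9888) (l := 9) rfl N9888 D42056
theorem N11843 : nd 11843 = n42058 := ndS (p := 9889) (l := 9) rfl N9889 D42058
theorem N11844 : nd 11844 = n42060 := ndS (p := 9892) (l := 5) rfl N9892 D42060
theorem N11845 : nd 11845 = n42061 := ndS (p := 9892) (l := 7) rfl N9892 D42061
theorem N11846 : nd 11846 = n42062 := ndS (p := 9892) (l := 8) rfl N9892 D42062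
theorem N11847 : nd 11847 = n42063 := ndS (p := 9893) (l := 3) rfl N9893 D42063
theorem N11848 : nd 11848 = n42064 := ndS (p := 9893) (l := 9) rfl N9893 D42064
theorem N11849 : nd 11849 = n42065 := ndS (p := 9894) (l := 7) rfl N9894 D42065
theorem N11850 : nd 11850 = n42066 := ndS (p := 9894) (l := 8) rfl N9894 D42066
theorem N11851 : nd 11851 = n42067 := ndS (p := 9895) (l := 8) rfl N9895 D42067
theorem N11852 : nd 11852 = n42068 := ndS (p := 9896) (l := 3) rfl N9896 D42068
theorem N11853 : nd 11853 = n42069 := ndS (p := 9896) (l := 9) rfl N9896 D42069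
theorem N11854 : nd 11854 = n42070 := ndS (p := 9897) (l := 2) rfl N9897 D42070
theorem N11855 : nd 11855 = n42071 := ndS (p := 9897) (l := 4) rfl N9897 D42071
theorem N11856 : nd 11856 = n42072 := ndS (p := 9897) (l := 9) rfl N9897 D42072
theorem N11857 : nd 11857 = n42074 := ndS (p := 9899) (l := 9) rfl N9899 D42074
theorem N11858 : nd 11858 = n42075 := ndS (p := 9900) (l := 4) rfl N9900 D42075
theorem N11859 : nd 11859 = n42076 := ndS (p := 9900) (l := 9) rfl N9900 D42076
theorem N11860 : nd 11860 = n42077 := ndS (p := 9902) (l := 5) rfl N9902 D42077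
theorem N11861 : nd 11861 = n42078 := ndS (p := 9902) (l := 9) rfl N9902 D42078
theorem N11862 : nd 11862 = n42079 := ndS (p := 9903) (l := 8) rfl N9903 D42079
theorem N11863 : nd 11863 = n42080 := ndS (p := 9904) (l := 6) rfl N9904 D42080
theorem N11864 : nd 11864 = n42081 := ndS (p := 9904) (l := 9) rfl N9904 D42081
theorem N11865 : nd 11865 = n42082 := ndS (p := 9905) (l := 8) rfl N9905 D42082
theorem N11866 : nd 11866 = n42083 := ndS (p := 9907) (l := 6) rfl N9907 D42083
theorem N11867 : nd 11867 = n42084 := ndS (p := 9907) (l := 8) rfl N9907 D42084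
theorem N11868 : nd 11868 = n42085 := ndS (p := 9908) (l := 3) rfl N9908 D42085
theorem N11869 : nd 11869 = n42086 := ndS (p := 9908) (l := 9) rfl N9908 D42086
theorem N11870 : nd 11870 = n42088 := ndS (p := 9909) (l := 9) rfl N9909 D42088
theorem N11871 : nd 11871 = n42089 := ndS (p := 9910) (l := 2) rfl N9910 D42089
theorem N11872 : nd 11872 = n42090 := ndS (p := 9910) (l := 9) rfl N9910 D42090
theorem N11873 : nd 11873 = n42091 := ndS (p := 9912) (l := 1) rfl N9912 D42091
theorem N11874 : nd 11874 = n42092 := ndS (p := 9912) (l := 9) rfl N9912 D42092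
theorem N11875 : nd 11875 = n42093 := ndS (p := 9913) (l := 8) rfl N9913 D42093
theorem N11876 : nd 11876 = n42096 := ndS (p := 9916) (l := 9) rfl N9916 D42096
theorem N11877 : nd 11877 = n42099 := ndS (p := 9917) (l := 9) rfl N9917 D42099
theorem N11878 : nd 11878 = n42105 := ndS (p := 9921) (l := 0) rfl N9921 D42105
theorem N11879 : nd 11879 = n42106 := ndS (p := 9921) (l := 9) rfl N9921 D42106
theorem N11880 : nd 11880 = n42141 := ndS (p := 9924) (l := 5) rfl N9924 D42141
theorem N11881 : nd 11881 = n42142 := ndS (p := 9924) (l := 7) rfl N9924 D42142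
theorem N11882 : nd 11882 = n42143 := ndS (p := 9924) (l := 8) rfl N9924 D42143
theorem N11883 : nd 11883 = n42144 := ndS (p := 9925) (l := 3) rfl N9925 D42144
theorem N11884 : nd 11884 = n42145 := ndS (p := 9925) (l := 9) rfl N9925 D42145
theorem N11885 : nd 11885 = n42146 := ndS (p := 9926) (l := 7) rfl N9926 D42146
theorem N11886 : nd 11886 = n42147 := ndS (p := 9926) (l := 8) rfl N9926 D42147
theorem N11887 : nd 11887 = n42148 := ndS (p := 9927) (l := 8) rfl N9927 D42148
theorem N11888 : nd 11888 = n42149 := ndS (p := 9928) (l := 3) rfl N9928 D42149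
theorem N11889 : nd 11889 = n42150 := ndS (p := 9928) (l := 9) rfl N9928 D42150
theorem N11890 : nd 11890 = n42151 := ndS (p := 9929) (l := 2) rfl N9929 D42151
theorem N11891 : nd 11891 = n42152 := ndS (p := 9929) (l := 4) rfl N9929 D42152
theorem N11892 : nd 11892 = n42153 := ndS (p := 9929) (l := 9) rfl N9929 D42153
theorem N11893 : nd 11893 = n42154 := ndS (p := 9931) (l := 3) rfl N9931 D42154
theorem N11894 : nd 11894 = n42155 := ndS (p := 9931) (l := 9) rfl N9931 D42155
theorem N11895 : nd 11895 = n42156 := ndS (p := 9932) (l := 4) rfl N9932 D42156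
theorem N11896 : nd 11896 = n42157 := ndS (p := 9932) (l := 9) rfl N9932 D42157
theorem N11897 : nd 11897 = n42159 := ndS (p := 9934) (l := 9) rfl N9934 D42159
theorem N11898 : nd 11898 = n42160 := ndS (p := 9935) (l := 8) rfl N9935 D42160
theorem N11899 : nd 11899 = n42164 := ndS (p := 9937) (l := 6) rfl N9937 D42164
theorem N11900 : nd 11900 = n42165 := ndS (p := 9937) (l := 8) rfl N9937 D42165
theorem N11901 : nd 11901 = n42166 := ndS (p := 9938) (l := 3) rfl N9938 D42166
theorem N11902 : nd 11902 = n42167 := ndS (p := 9938) (l := 9) rfl N9938 D42167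
theorem N11903 : nd 11903 = n42168 := ndS (p := 9939) (l := 3) rfl N9939 D42168
theorem N11904 : nd 11904 = n42169 := ndS (p := 9939) (l := 9) rfl N9939 D42169
theorem N11905 : nd 11905 = n42170 := ndS (p := 9940) (l := 2) rfl N9940 D42170
theorem N11906 : nd 11906 = n42171 := ndS (p := 9940) (l := 9) rfl N9940 D42171
theorem N11907 : nd 11907 = n42172 := ndS (p := 9942) (l := 1) rfl N9942 D42172
theorem N11908 : nd 11908 = n42173 := ndS (p := 9942) (l := 9) rfl N9942 D42173
theorem N11909 : nd 11909 = n42174 := ndS (p := 9943) (l := 8) rfl N9943 D42174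
theorem N11910 : nd 11910 = n42175 := ndS (p := 9945) (l := 8) rfl N9945 D42175
theorem N11911 : nd 11911 = n42176 := ndS (p := 9946) (l := 3) rfl N9946 D42176
theorem N11912 : nd 11912 = n42177 := ndS (p := 9946) (l := 9) rfl N9946 D42177
theorem N11913 : nd 11913 = n42178 := ndS (p := 9947) (l := 2) rfl N9947 D42178
theorem N11914 : nd 11914 = n42179 := ndS (p := 9947) (l := 4) rfl N9947 D42179
theorem N11915 : nd 11915 = n42180 := ndS (p := 9947) (l := 9) rfl N9947 D42180
theorem N11916 : nd 11916 = n42181 := ndS (p := 9949) (l := 2) rfl N9949 D42181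
theorem N11917 : nd 11917 = n42182 := ndS (p := 9949) (l := 9) rfl N9949 D42182
theorem N11918 : nd 11918 = n42183 := ndS (p := 9951) (l := 1) rfl N9951 D42183
theorem N11919 : nd 11919 = n42184 := ndS (p := 9951) (l := 9) rfl N9951 D42184
theorem N11920 : nd 11920 = n42185 := ndS (p := 9952) (l := 8) rfl N9952 D42185
theorem N11921 : nd 11921 = n42186 := ndS (p := 9953) (l := 0) rfl N9953 D42186
theorem N11922 : nd 11922 = n42187 := ndS (p := 9953) (l := 9) rfl N9953 D42187
theorem N11923 : nd 11923 = n42188 := ndS (p := 9954) (l := 8) rfl N9954 D42188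
theorem N11924 : nd 11924 = n42190 := ndS (p := 9956) (l := 6) rfl N9956 D42190
theorem N11925 : nd 11925 = n42191 := ndS (p := 9956) (l := 8) rfl N9956 D42191
theorem N11926 : nd 11926 = n42192 := ndS (p := 9957) (l := 5) rfl N9957 D42192
theorem N11927 : nd 11927 = n42193 := ndS (p := 9957) (l := 7) rfl N9957 D42193
theorem N11928 : nd 11928 = n42194 := ndS (p := 9957) (l := 8) rfl N9957 D42194
theorem N11929 : nd 11929 = n42195 := ndS (p := 9958) (l := 3) rfl N9958 D42195
theorem N11930 : nd 11930 = n42196 := ndS (p := 9958) (l := 9) rfl N9958 D42196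
theorem N11931 : nd 11931 = n42197 := ndS (p := 9959) (l := 8) rfl N9959 D42197
theorem N11932 : nd 11932 = n42198 := ndS (p := 9960) (l := 3) rfl N9960 D42198
theorem N11933 : nd 11933 = n42199 := ndS (p := 9960) (l := 9) rfl N9960 D42199
theorem N11934 : nd 11934 = n42200 := ndS (p := 9961) (l := 2) rfl N9961 D42200
theorem N11935 : nd 11935 = n42201 := ndS (p := 9961) (l := 4) rfl N9961 D42201
theorem N11936 : nd 11936 = n42202 := ndS (p := 9961) (l := 9) rfl N9961 D42202
theorem N11937 : nd 11937 = n42204 := ndS (p := 9963) (l := 9) rfl N9963 D42204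
theorem N11938 : nd 11938 = n42207 := ndS (p := 9964) (l := 8) rfl N9964 D42207
theorem N11939 : nd 11939 = n42208 := ndS (p := 9965) (l := 5) rfl N9965 D42208
theorem N11940 : nd 11940 = n42209 := ndS (p := 9965) (l := 7) rfl N9965 D42209
theorem N11941 : nd 11941 = n42210 := ndS (p := 9965) (l := 8) rfl N9965 D42210
theorem N11942 : nd 11942 = n42211 := ndS (p := 9966) (l := 3) rfl N9966 D42211
theorem N11943 : nd 11943 = n42212 := ndS (p := 9966) (l := 9) rfl N9966 D42212
theorem N11944 : nd 11944 = n42213 := ndS (p := 9967) (l := 7) rfl N9967 D42213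
theorem N11945 : nd 11945 = n42214 := ndS (p := 9967) (l := 8) rfl N9967 D42214
theorem N11946 : nd 11946 = n42215 := ndS (p := 9968) (l := 8) rfl N9968 D42215
theorem N11947 : nd 11947 = n42216 := ndS (p := 9969) (l := 3) rfl N9969 D42216
theorem N11948 : nd 11948 = n42217 := ndS (p := 9969) (l := 9) rfl N9969 D42217
theorem N11949 : nd 11949 = n42218 := ndS (p := 9970) (l := 2) rfl N9970 D42218
theorem N11950 : nd 11950 = n42219 := ndS (p := 9970) (l := 4) rfl N9970 D42219
theorem N11951 : nd 11951 = n42220 := ndS (p := 9970) (l := 9) rfl N9970 D42220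
theorem N11952 : nd 11952 = n42222 := ndS (p := 9972) (l := 9) rfl N9972 D42222
theorem N11953 : nd 11953 = n42223 := ndS (p := 9973) (l := 4) rfl N9973 D42223
theorem N11954 : nd 11954 = n42224 := ndS (p := 9973) (l := 9) rfl N9973 D42224
theorem N11955 : nd 11955 = n42225 := ndS (p := 9975) (l := 5) rfl N9975 D42225
theorem N11956 : nd 11956 = n42226 := ndS (p := 9975) (l := 9) rfl N9975 D42226
theorem N11957 : nd 11957 = n42227 := ndS (p := 9976) (l := 8) rfl N9976 D42227
theorem N11958 : nd 11958 = n42228 := ndS (p := 9977) (l := 6) rfl N9977 D42228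
theorem N11959 : nd 11959 = n42229 := ndS (p := 9977) (l := 9) rfl N9977 D42229
theorem N11960 : nd 11960 = n42230 := ndS (p := 9978) (l := 8) rfl N9978 D42230
theorem N11961 : nd 11961 = n42231 := ndS (p := 9980) (l := 6) rfl N9980 D42231
theorem N11962 : nd 11962 = n42232 := ndS (p := 9980) (l := 8) rfl N9980 D42232
theorem N11963 : nd 11963 = n42233 := ndS (p := 9981) (l := 3) rfl N9981 D42233
theorem N11964 : nd 11964 = n42234 := ndS (p := 9981) (l := 9) rfl N9981 D42234
theorem N11965 : nd 11965 = n42236 := ndS (p := 9982) (l := 9) rfl N9982 D42236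
theorem N11966 : nd 11966 = n42237 := ndS (p := 9983) (l := 2) rfl N9983 D42237
theorem N11967 : nd 11967 = n42238 := ndS (p := 9983) (l := 9) rfl N9983 D42238
theorem N11968 : nd 11968 = n42240 := ndS (p := 9985) (l := 9) rfl N9985 D42240
theorem N11969 : nd 11969 = n42241 := ndS (p := 9986) (l := 8) rfl N9986 D42241
theorem N11970 : nd 11970 = n42242 := ndS (p := 9988) (l := 4) rfl N9988 D42242
theorem N11971 : nd 11971 = n42243 := ndS (p := 9988) (l := 7) rfl N9988 D42243
theorem N11972 : nd 11972 = n42244 := ndS (p := 9988) (l := 8) rfl N9988 D42244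
theorem N11973 : nd 11973 = n42245 := ndS (p := 9989) (l := 8) rfl N9989 D42245
theorem N11974 : nd 11974 = n42246 := ndS (p := 9990) (l := 3) rfl N9990 D42246
theorem N11975 : nd 11975 = n42247 := ndS (p := 9990) (l := 9) rfl N9990 D42247
theorem N11976 : nd 11976 = n42248 := ndS (p := 9991) (l := 2) rfl N9991 D42248
theorem N11977 : nd 11977 = n42249 := ndS (p := 9991) (l := 4) rfl N9991 D42249
theorem N11978 : nd 11978 = n42250 := ndS (p := 9991) (l := 9) rfl N9991 D42250
theorem N11979 : nd 11979 = n42251 := ndS (p := 9993) (l := 6) rfl N9993 D42251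
theorem N11980 : nd 11980 = n42252 := ndS (p := 9993) (l := 8) rfl N9993 D42252
theorem N11981 : nd 11981 = n42253 := ndS (p := 9994) (l := 3) rfl N9994 D42253
theorem N11982 : nd 11982 = n42254 := ndS (p := 9994) (l := 9) rfl N9994 D42254
theorem N11983 : nd 11983 = n42255 := ndS (p := 9995) (l := 3) rfl N9995 D42255
theorem N11984 : nd 11984 = n42256 := ndS (p := 9995) (l := 9) rfl N9995 D42256
theorem N11985 : nd 11985 = n42257 := ndS (p := 9996) (l := 2) rfl N9996 D42257
theorem N11986 : nd 11986 = n42258 := ndS (p := 9996) (l := 4) rfl N9996 D42258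
theorem N11987 : nd 11987 = n42259 := ndS (p := 9996) (l := 9) rfl N9996 D42259
theorem N11988 : nd 11988 = n42260 := ndS (p := 9998) (l := 1) rfl N9998 D42260
theorem N11989 : nd 11989 = n42261 := ndS (p := 9998) (l := 4) rfl N9998 D42261
theorem N11990 : nd 11990 = n42262 := ndS (p := 9998) (l := 9) rfl N9998 D42262
theorem N11991 : nd 11991 = n42263 := ndS (p := 9999) (l := 5) rfl N9999 D42263
theorem N11992 : nd 11992 = n42264 := ndS (p := 9999) (l := 9) rfl N9999 D42264
theorem N11993 : nd 11993 = n42265 := ndS (p := 10000) (l := 8) rfl N10000 D42265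
theorem N11994 : nd 11994 = n42266 := ndS (p := 10001) (l := 4) rfl N10001 D42266
theorem N11995 : nd 11995 = n42267 := ndS (p := 10001) (l := 9) rfl N10001 D42267
theorem N11996 : nd 11996 = n42268 := ndS (p := 10003) (l := 5) rfl N10003 D42268
theorem N11997 : nd 11997 = n42269 := ndS (p := 10003) (l := 9) rfl N10003 D42269
theorem N11998 : nd 11998 = n42270 := ndS (p := 10004) (l := 8) rfl N10004 D42270
theorem N11999 : nd 11999 = n42271 := ndS (p := 10005) (l := 6) rfl N10005 D42271
theorem N12000 : nd 12000 = n42272 := ndS (p := 10005) (l := 9) rfl N10005 D42272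
theorem N12001 : nd 12001 = n42273 := ndS (p := 10006) (l := 8) rfl N10006 D42273
theorem N12002 : nd 12002 = n42274 := ndS (p := 10008) (l := 7) rfl N10008 D42274
theorem N12003 : nd 12003 = n42275 := ndS (p := 10008) (l := 9) rfl N10008 D42275
theorem N12004 : nd 12004 = n42276 := ndS (p := 10009) (l := 8) rfl N10009 D42276
theorem N12005 : nd 12005 = n42278 := ndS (p := 10011) (l := 8) rfl N10011 D42278
theorem N12006 : nd 12006 = n42279 := ndS (p := 10012) (l := 3) rfl N10012 D42279
theorem N12007 : nd 12007 = n42280 := ndS (p := 10012) (l := 9) rfl N10012 D42280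
theorem N12008 : nd 12008 = n42281 := ndS (p := 10013) (l := 2) rfl N10013 D42281
theorem N12009 : nd 12009 = n42282 := ndS (p := 10013) (l := 4) rfl N10013 D42282
theorem N12010 : nd 12010 = n42283 := ndS (p := 10013) (l := 9) rfl N10013 D42283
theorem N12011 : nd 12011 = n42284 := ndS (p := 10015) (l := 2) rfl N10015 D42284
theorem N12012 : nd 12012 = n42285 := ndS (p := 10015) (l := 9) rfl N10015 D42285
theorem N12013 : nd 12013 = n42286 := ndS (p := 10017) (l := 1) rfl N10017 D42286
theorem N12014 : nd 12014 = n42287 := ndS (p := 10017) (l := 9) rfl N10017 D42287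
theorem N12015 : nd 12015 = n42288 := ndS (p := 10018) (l := 8) rfl N10018 D42288
theorem N12016 : nd 12016 = n42289 := ndS (p := 10019) (l := 0) rfl N10019 D42289
theorem N12017 : nd 12017 = n42290 := ndS (p := 10019) (l := 9) rfl N10019 D42290
theorem N12018 : nd 12018 = n42291 := ndS (p := 10020) (l := 8) rfl N10020 D42291
theorem N12019 : nd 12019 = n42293 := ndS (p := 10022) (l := 9) rfl N10022 D42293
theorem N12020 : nd 12020 = n42294 := ndS (p := 10023) (l := 2) rfl N10023 D42294
theorem N12021 : nd 12021 = n42296 := ndS (p := 10023) (l := 9) rfl N10023 D42296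
theorem N12022 : nd 12022 = n42297 := ndS (p := 10025) (l := 1) rfl N10025 D42297
theorem N12023 : nd 12023 = n42298 := ndS (p := 10025) (l := 4) rfl N10025 D42298
theorem N12024 : nd 12024 = n42299 := ndS (p := 10025) (l := 9) rfl N10025 D42299
theorem N12025 : nd 12025 = n42300 := ndS (p := 10026) (l := 9) rfl N10026 D42300
theorem N12026 : nd 12026 = n42301 := ndS (p := 10027) (l := 8) rfl N10027 D42301
theorem N12027 : nd 12027 = n42302 := ndS (p := 10028) (l := 1) rfl N10028 D42302
theorem N12028 : nd 12028 = n42303 := ndS (p := 10028) (l := 9) rfl N10028 D42303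
theorem N12029 : nd 12029 = n42304 := ndS (p := 10029) (l := 8) rfl N10029 D42304
theorem N12030 : nd 12030 = n42305 := ndS (p := 10030) (l := 0) rfl N10030 D42305
theorem N12031 : nd 12031 = n42306 := ndS (p := 10030) (l := 9) rfl N10030 D42306
theorem N12032 : nd 12032 = n42307 := ndS (p := 10031) (l := 8) rfl N10031 D42307
theorem N12033 : nd 12033 = n42308 := ndS (p := 10033) (l := 9) rfl N10033 D42308
theorem N12034 : nd 12034 = n42309 := ndS (p := 10034) (l := 8) rfl N10034 D42309
theorem N12035 : nd 12035 = n42310 := ndS (p := 10035) (l := 3) rfl N10035 D42310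
theorem N12036 : nd 12036 = n42312 := ndS (p := 10036) (l := 8) rfl N10036 D42312
theorem N12037 : nd 12037 = n42315 := ndS (p := 10037) (l := 8) rfl N10037 D42315
theorem N12038 : nd 12038 = n42316 := ndS (p := 10038) (l := 3) rfl N10038 D42316
theorem N12039 : nd 12039 = n42317 := ndS (p := 10038) (l := 9) rfl N10038 D42317
theorem N12040 : nd 12040 = n42319 := ndS (p := 10039) (l := 8) rfl N10039 D42319
theorem N12041 : nd 12041 = n42321 := ndS (p := 10040) (l := 8) rfl N10040 D42321
theorem N12042 : nd 12042 = n42322 := ndS (p := 10041) (l := 9) rfl N10041 D42322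
theorem N12043 : nd 12043 = n42328 := ndS (p := 10044) (l := 3) rfl N10044 D42328
theorem N12044 : nd 12044 = n42329 := ndS (p := 10044) (l := 9) rfl N10044 D42329
theorem N12045 : nd 12045 = n42330 := ndS (p := 10045) (l := 4) rfl N10045 D42330
theorem N12046 : nd 12046 = n42331 := ndS (p := 10045) (l := 9) rfl N10045 D42331
theorem N12047 : nd 12047 = n42335 := ndS (p := 10047) (l := 3) rfl N10047 D42335
theorem N12048 : nd 12048 = n42336 := ndS (p := 10047) (l := 9) rfl N10047 D42336
theorem N12049 : nd 12049 = n42337 := ndS (p := 10048) (l := 8) rfl N10048 D42337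
theorem N12050 : nd 12050 = n42338 := ndS (p := 10049) (l := 9) rfl N10049 D42338
theorem N12051 : nd 12051 = n42341 := ndS (p := 10051) (l := 8) rfl N10051 D42341
theorem N12052 : nd 12052 = n42342 := ndS (p := 10052) (l := 3) rfl N10052 D42342
theorem N12053 : nd 12053 = n42343 := ndS (p := 10052) (l := 9) rfl N10052 D42343
theorem N12054 : nd 12054 = n42344 := ndS (p := 10053) (l := 2) rfl N10053 D42344
theorem N12055 : nd 12055 = n42345 := ndS (p := 10053) (l := 9) rfl N10053 D42345
theorem N12056 : nd 12056 = n42346 := ndS (p := 10055) (l := 9) rfl N10055 D42346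
theorem N12057 : nd 12057 = n42347 := ndS (p := 10057) (l := 4) rfl N10057 D42347
theorem N12058 : nd 12058 = n42348 := ndS (p := 10057) (l := 6) rfl N10057 D42348
theorem N12059 : nd 12059 = n42349 := ndS (p := 10057) (l := 8) rfl N10057 D42349
theorem N12060 : nd 12060 = n42351 := ndS (p := 10058) (l := 9) rfl N10058 D42351
theorem N12061 : nd 12061 = n42352 := ndS (p := 10059) (l := 3) rfl N10059 D42352
theorem N12062 : nd 12062 = n42353 := ndS (p := 10059) (l := 6) rfl N10059 D42353
theorem N12063 : nd 12063 = n42354 := ndS (p := 10059) (l := 8) rfl N10059 D42354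
theorem N12064 : nd 12064 = n42355 := ndS (p := 10060) (l := 7) rfl N10060 D42355
theorem N12065 : nd 12065 = n42356 := ndS (p := 10060) (l := 8) rfl N10060 D42356
theorem N12066 : nd 12066 = n42357 := ndS (p := 10061) (l := 3) rfl N10061 D42357
theorem N12067 : nd 12067 = n42358 := ndS (p := 10061) (l := 9) rfl N10061 D42358
theorem N12068 : nd 12068 = n42360 := ndS (p := 10062) (l := 9) rfl N10062 D42360
theorem N12069 : nd 12069 = n42361 := ndS (p := 10064) (l := 5) rfl N10064 D42361
theorem N12070 : nd 12070 = n42362 := ndS (p := 10064) (l := 7) rfl N10064 D42362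
theorem N12071 : nd 12071 = n42363 := ndS (p := 10064) (l := 8) rfl N10064 D42363
theorem N12072 : nd 12072 = n42364 := ndS (p := 10065) (l := 3) rfl N10065 D42364
theorem N12073 : nd 12073 = n42365 := ndS (p := 10065) (l := 9) rfl N10065 D42365
theorem N12074 : nd 12074 = n42366 := ndS (p := 10066) (l := 8) rfl N10066 D42366
theorem N12075 : nd 12075 = n42367 := ndS (p := 10067) (l := 9) rfl N10067 D42367
theorem N12076 : nd 12076 = n42368 := ndS (p := 10069) (l := 6) rfl N10069 D42368
theorem N12077 : nd 12077 = n42369 := ndS (p := 10069) (l := 8) rfl N10069 D42369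
theorem N12078 : nd 12078 = n42370 := ndS (p := 10070) (l := 5) rfl N10070 D42370
theorem N12079 : nd 12079 = n42371 := ndS (p := 10070) (l := 7) rfl N10070 D42371
theorem N12080 : nd 12080 = n42372 := ndS (p := 10070) (l := 8) rfl N10070 D42372
theorem N12081 : nd 12081 = n42373 := ndS (p := 10071) (l := 3) rfl N10071 D42373
theorem N12082 : nd 12082 = n42374 := ndS (p := 10071) (l := 9) rfl N10071 D42374
theorem N12083 : nd 12083 = n42375 := ndS (p := 10072) (l := 8) rfl N10072 D42375
theorem N12084 : nd 12084 = n42376 := ndS (p := 10073) (l := 3) rfl N10073 D42376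
theorem N12085 : nd 12085 = n42377 := ndS (p := 10073) (l := 9) rfl N10073 D42377
theorem N12086 : nd 12086 = n42378 := ndS (p := 10074) (l := 4) rfl N10074 D42378
theorem N12087 : nd 12087 = n42379 := ndS (p := 10074) (l := 9) rfl N10074 D42379
theorem N12088 : nd 12088 = n42380 := ndS (p := 10076) (l := 5) rfl N10076 D42380
theorem N12089 : nd 12089 = n42381 := ndS (p := 10076) (l := 9) rfl N10076 D42381
theorem N12090 : nd 12090 = n42382 := ndS (p := 10077) (l := 8) rfl N10077 D42382
theorem N12091 : nd 12091 = n42383 := ndS (p := 10078) (l := 7) rfl N10078 D42383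
theorem N12092 : nd 12092 = n42384 := ndS (p := 10078) (l := 8) rfl N10078 D42384
theorem N12093 : nd 12093 = n42385 := ndS (p := 10079) (l := 8) rfl N10079 D42385
theorem N12094 : nd 12094 = n42386 := ndS (p := 10080) (l := 3) rfl N10080 D42386
theorem N12095 : nd 12095 = n42387 := ndS (p := 10080) (l := 9) rfl N10080 D42387
theorem N12096 : nd 12096 = n42388 := ndS (p := 10081) (l := 2) rfl N10081 D42388
theorem N12097 : nd 12097 = n42389 := ndS (p := 10081) (l := 9) rfl N10081 D42389
theorem N12098 : nd 12098 = n42390 := ndS (p := 10083) (l := 9) rfl N10083 D42390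
theorem N12099 : nd 12099 = n42391 := ndS (p := 10085) (l := 6) rfl N10085 D42391
theorem N12100 : nd 12100 = n42392 := ndS (p := 10085) (l := 8) rfl N10085 D42392
theorem N12101 : nd 12101 = n42394 := ndS (p := 10086) (l := 9) rfl N10086 D42394
theorem N12102 : nd 12102 = n42395 := ndS (p := 10087) (l := 3) rfl N10087 D42395
theorem N12103 : nd 12103 = n42396 := ndS (p := 10087) (l := 9) rfl N10087 D42396
theorem N12104 : nd 12104 = n42398 := ndS (p := 10088) (l := 9) rfl N10088 D42398
theorem N12105 : nd 12105 = n42399 := ndS (p := 10090) (l := 1) rfl N10090 D42399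
theorem N12106 : nd 12106 = n42400 := ndS (p := 10090) (l := 9) rfl N10090 D42400
theorem N12107 : nd 12107 = n42401 := ndS (p := 10091) (l := 8) rfl N10091 D42401
theorem N12108 : nd 12108 = n42402 := ndS (p := 10093) (l := 3) rfl N10093 D42402
theorem N12109 : nd 12109 = n42403 := ndS (p := 10093) (l := 6) rfl N10093 D42403
theorem N12110 : nd 12110 = n42404 := ndS (p := 10093) (l := 8) rfl N10093 D42404
theorem N12111 : nd 12111 = n42405 := ndS (p := 10094) (l := 7) rfl N10094 D42405
theorem N12112 : nd 12112 = n42406 := ndS (p := 10094) (l := 8) rfl N10094 D42406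
theorem N12113 : nd 12113 = n42408 := ndS (p := 10095) (l := 9) rfl N10095 D42408
theorem N12114 : nd 12114 = n42412 := ndS (p := 10097) (l := 6) rfl N10097 D42412
theorem N12115 : nd 12115 = n42413 := ndS (p := 10097) (l := 8) rfl N10097 D42413
theorem N12116 : nd 12116 = n42414 := ndS (p := 10098) (l := 5) rfl N10098 D42414
theorem N12117 : nd 12117 = n42415 := ndS (p := 10098) (l := 7) rfl N10098 D42415
theorem N12118 : nd 12118 = n42416 := ndS (p := 10098) (l := 8) rfl N10098 D42416
theorem N12119 : nd 12119 = n42417 := ndS (p := 10099) (l := 3) rfl N10099 D42417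
theorem N12120 : nd 12120 = n42418 := ndS (p := 10099) (l := 9) rfl N10099 D42418
theorem N12121 : nd 12121 = n42419 := ndS (p := 10100) (l := 8) rfl N10100 D42419
theorem N12122 : nd 12122 = n42420 := ndS (p := 10101) (l := 3) rfl N10101 D42420
theorem N12123 : nd 12123 = n42421 := ndS (p := 10101) (l := 9) rfl N10101 D42421
theorem N12124 : nd 12124 = n42422 := ndS (p := 10102) (l := 4) rfl N10102 D42422
theorem N12125 : nd 12125 = n42423 := ndS (p := 10102) (l := 9) rfl N10102 D42423
theorem N12126 : nd 12126 = n42426 := ndS (p := 10104) (l := 8) rfl N10104 D42426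
theorem N12127 : nd 12127 = n42427 := ndS (p := 10105) (l := 7) rfl N10105 D42427
theorem N12128 : nd 12128 = n42428 := ndS (p := 10105) (l := 8) rfl N10105 D42428
theorem N12129 : nd 12129 = n42429 := ndS (p := 10106) (l := 8) rfl N10106 D42429
theorem N12130 : nd 12130 = n42430 := ndS (p := 10107) (l := 3) rfl N10107 D42430
theorem N12131 : nd 12131 = n42431 := ndS (p := 10107) (l := 9) rfl N10107 D42431
theorem N12132 : nd 12132 = n42432 := ndS (p := 10108) (l := 2) rfl N10108 D42432
theorem N12133 : nd 12133 = n42433 := ndS (p := 10108) (l := 9) rfl N10108 D42433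
theorem N12134 : nd 12134 = n42434 := ndS (p := 10110) (l := 9) rfl N10110 D42434
theorem N12135 : nd 12135 = n42435 := ndS (p := 10112) (l := 5) rfl N10112 D42435
theorem N12136 : nd 12136 = n42436 := ndS (p := 10112) (l := 7) rfl N10112 D42436
theorem N12137 : nd 12137 = n42437 := ndS (p := 10112) (l := 8) rfl N10112 D42437
theorem N12138 : nd 12138 = n42438 := ndS (p := 10113) (l := 3) rfl N10113 D42438
theorem N12139 : nd 12139 = n42439 := ndS (p := 10113) (l := 9) rfl N10113 D42439
theorem N12140 : nd 12140 = n42440 := ndS (p := 10114) (l := 7) rfl N10114 D42440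
theorem N12141 : nd 12141 = n42441 := ndS (p := 10114) (l := 8) rfl N10114 D42441
theorem N12142 : nd 12142 = n42442 := ndS (p := 10115) (l := 8) rfl N10115 D42442
theorem N12143 : nd 12143 = n42443 := ndS (p := 10116) (l := 3) rfl N10116 D42443
theorem N12144 : nd 12144 = n42444 := ndS (p := 10116) (l := 9) rfl N10116 D42444
theorem N12145 : nd 12145 = n42445 := ndS (p := 10117) (l := 2) rfl N10117 D42445
theorem N12146 : nd 12146 = n42446 := ndS (p := 10117) (l := 4) rfl N10117 D42446
theorem N12147 : nd 12147 = n42447 := ndS (p := 10117) (l := 9) rfl N10117 D42447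
theorem N12148 : nd 12148 = n42449 := ndS (p := 10119) (l := 9) rfl N10119 D42449
theorem N12149 : nd 12149 = n42450 := ndS (p := 10120) (l := 4) rfl N10120 D42450
theorem N12150 : nd 12150 = n42451 := ndS (p := 10120) (l := 9) rfl N10120 D42451
theorem N12151 : nd 12151 = n42452 := ndS (p := 10122) (l := 5) rfl N10122 D42452
theorem N12152 : nd 12152 = n42453 := ndS (p := 10122) (l := 9) rfl N10122 D42453
theorem N12153 : nd 12153 = n42454 := ndS (p := 10123) (l := 8) rfl N10123 D42454
theorem N12154 : nd 12154 = n42455 := ndS (p := 10124) (l := 6) rfl N10124 D42455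
theorem N12155 : nd 12155 = n42456 := ndS (p := 10124) (l := 9) rfl N10124 D42456
theorem N12156 : nd 12156 = n42457 := ndS (p := 10125) (l := 8) rfl N10125 D42457
theorem N12157 : nd 12157 = n42458 := ndS (p := 10127) (l := 6) rfl N10127 D42458
theorem N12158 : nd 12158 = n42461 := ndS (p := 10128) (l := 9) rfl N10128 D42461
theorem N12159 : nd 12159 = n42463 := ndS (p := 10129) (l := 9) rfl N10129 D42463
theorem N12160 : nd 12160 = n42464 := ndS (p := 10130) (l := 2) rfl N10130 D42464
theorem N12161 : nd 12161 = n42465 := ndS (p := 10130) (l := 9) rfl N10130 D42465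
theorem N12162 : nd 12162 = n42466 := ndS (p := 10132) (l := 1) rfl N10132 D42466
theorem N12163 : nd 12163 = n42467 := ndS (p := 10132) (l := 9) rfl N10132 D42467
theorem N12164 : nd 12164 = n42468 := ndS (p := 10133) (l := 8) rfl N10133 D42468
theorem N12165 : nd 12165 = n42479 := ndS (p := 10138) (l := 8) rfl N10138 D42479
theorem N12166 : nd 12166 = n42480 := ndS (p := 10139) (l := 0) rfl N10139 D42480
theorem N12167 : nd 12167 = n42481 := ndS (p := 10139) (l := 9) rfl N10139 D42481
theorem N12168 : nd 12168 = n42482 := ndS (p := 10140) (l := 8) rfl N10140 D42482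
theorem N12169 : nd 12169 = n42486 := ndS (p := 10142) (l := 3) rfl N10142 D42486
theorem N12170 : nd 12170 = n42487 := ndS (p := 10142) (l := 9) rfl N10142 D42487
theorem N12171 : nd 12171 = n42492 := ndS (p := 10143) (l := 8) rfl N10143 D42492
theorem N12172 : nd 12172 = n42493 := ndS (p := 10144) (l := 3) rfl N10144 D42493
theorem N12173 : nd 12173 = n42494 := ndS (p := 10144) (l := 9) rfl N10144 D42494
theorem N12174 : nd 12174 = n42496 := ndS (p := 10145) (l := 9) rfl N10145 D42496
theorem N12175 : nd 12175 = n42499 := ndS (p := 10147) (l := 8) rfl N10147 D42499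
theorem N12176 : nd 12176 = n42500 := ndS (p := 10148) (l := 3) rfl N10148 D42500
theorem N12177 : nd 12177 = n42501 := ndS (p := 10148) (l := 9) rfl N10148 D42501
theorem N12178 : nd 12178 = n42502 := ndS (p := 10149) (l := 8) rfl N10149 D42502
theorem N12179 : nd 12179 = n42503 := ndS (p := 10150) (l := 9) rfl N10150 D42503
theorem N12180 : nd 12180 = n42510 := ndS (p := 10152) (l := 9) rfl N10152 D42510
theorem N12181 : nd 12181 = n42512 := ndS (p := 10153) (l := 3) rfl N10153 D42512
theorem N12182 : nd 12182 = n42513 := ndS (p := 10153) (l := 9) rfl N10153 D42513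
theorem N12183 : nd 12183 = n42514 := ndS (p := 10154) (l := 4) rfl N10154 D42514
theorem N12184 : nd 12184 = n42515 := ndS (p := 10154) (l := 9) rfl N10154 D42515
theorem N12185 : nd 12185 = n42516 := ndS (p := 10156) (l := 5) rfl N10156 D42516
theorem N12186 : nd 12186 = n42517 := ndS (p := 10156) (l := 9) rfl N10156 D42517
theorem N12187 : nd 12187 = n42518 := ndS (p := 10157) (l := 8) rfl N10157 D42518
theorem N12188 : nd 12188 = n42520 := ndS (p := 10158) (l := 8) rfl N10158 D42520
theorem N12189 : nd 12189 = n42522 := ndS (p := 10159) (l := 3) rfl N10159 D42522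
theorem N12190 : nd 12190 = n42523 := ndS (p := 10159) (l := 9) rfl N10159 D42523
theorem N12191 : nd 12191 = n42524 := ndS (p := 10160) (l := 2) rfl N10160 D42524
theorem N12192 : nd 12192 = n42525 := ndS (p := 10160) (l := 9) rfl N10160 D42525
theorem N12193 : nd 12193 = n42526 := ndS (p := 10162) (l := 9) rfl N10162 D42526
theorem N12194 : nd 12194 = n42528 := ndS (p := 10164) (l := 8) rfl N10164 D42528
theorem N12195 : nd 12195 = n42529 := ndS (p := 10165) (l := 3) rfl N10165 D42529
theorem N12196 : nd 12196 = n42530 := ndS (p := 10165) (l := 9) rfl N10165 D42530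
theorem N12197 : nd 12197 = n42531 := ndS (p := 10166) (l := 3) rfl N10166 D42531
theorem N12198 : nd 12198 = n42532 := ndS (p := 10166) (l := 9) rfl N10166 D42532
theorem N12199 : nd 12199 = n42533 := ndS (p := 10167) (l := 2) rfl N10167 D42533
theorem N12200 : nd 12200 = n42534 := ndS (p := 10167) (l := 9) rfl N10167 D42534
theorem N12201 : nd 12201 = n42535 := ndS (p := 10169) (l := 1) rfl N10169 D42535
theorem N12202 : nd 12202 = n42536 := ndS (p := 10169) (l := 9) rfl N10169 D42536
theorem N12203 : nd 12203 = n42537 := ndS (p := 10170) (l := 8) rfl N10170 D42537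
theorem N12204 : nd 12204 = n42538 := ndS (p := 10172) (l := 3) rfl N10172 D42538
theorem N12205 : nd 12205 = n42539 := ndS (p := 10172) (l := 6) rfl N10172 D42539
theorem N12206 : nd 12206 = n42540 := ndS (p := 10172) (l := 8) rfl N10172 D42540
theorem N12207 : nd 12207 = n42541 := ndS (p := 10173) (l := 7) rfl N10173 D42541
theorem N12208 : nd 12208 = n42542 := ndS (p := 10173) (l := 8) rfl N10173 D42542
theorem N12209 : nd 12209 = n42544 := ndS (p := 10174) (l := 9) rfl N10174 D42544
theorem N12210 : nd 12210 = n42548 := ndS (p := 10176) (l := 6) rfl N10176 D42548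
theorem N12211 : nd 12211 = n42549 := ndS (p := 10176) (l := 8) rfl N10176 D42549
theorem N12212 : nd 12212 = n42550 := ndS (p := 10177) (l := 5) rfl N10177 D42550
theorem N12213 : nd 12213 = n42551 := ndS (p := 10177) (l := 7) rfl N10177 D42551
theorem N12214 : nd 12214 = n42552 := ndS (p := 10177) (l := 8) rfl N10177 D42552
theorem N12215 : nd 12215 = n42553 := ndS (p := 10178) (l := 3) rfl N10178 D42553
theorem N12216 : nd 12216 = n42554 := ndS (p := 10178) (l := 9) rfl N10178 D42554
theorem N12217 : nd 12217 = n42555 := ndS (p := 10179) (l := 8) rfl N10179 D42555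
theorem N12218 : nd 12218 = n42556 := ndS (p := 10180) (l := 3) rfl N10180 D42556
theorem N12219 : nd 12219 = n42557 := ndS (p := 10180) (l := 9) rfl N10180 D42557
theorem N12220 : nd 12220 = n42558 := ndS (p := 10181) (l := 4) rfl N10181 D42558
theorem N12221 : nd 12221 = n42559 := ndS (p := 10181) (l := 9) rfl N10181 D42559
theorem N12222 : nd 12222 = n42562 := ndS (p := 10183) (l := 8) rfl N10183 D42562
theorem N12223 : nd 12223 = n42563 := ndS (p := 10184) (l := 7) rfl N10184 D42563
theorem N12224 : nd 12224 = n42564 := ndS (p := 10184) (l := 8) rfl N10184 D42564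
theorem N12225 : nd 12225 = n42565 := ndS (p := 10185) (l := 8) rfl N10185 D42565
theorem N12226 : nd 12226 = n42566 := ndS (p := 10186) (l := 3) rfl N10186 D42566
theorem N12227 : nd 12227 = n42567 := ndS (p := 10186) (l := 9) rfl N10186 D42567
theorem N12228 : nd 12228 = n42568 := ndS (p := 10187) (l := 2) rfl N10187 D42568
theorem N12229 : nd 12229 = n42569 := ndS (p := 10187) (l := 9) rfl N10187 D42569
theorem N12230 : nd 12230 = n42570 := ndS (p := 10189) (l := 9) rfl N10189 D42570
theorem N12231 : nd 12231 = n42571 := ndS (p := 10191) (l := 5) rfl N10191 D42571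
theorem N12232 : nd 12232 = n42572 := ndS (p := 10191) (l := 7) rfl N10191 D42572
theorem N12233 : nd 12233 = n42573 := ndS (p := 10191) (l := 8) rfl N10191 D42573
theorem N12234 : nd 12234 = n42574 := ndS (p := 10192) (l := 3) rfl N10192 D42574
theorem N12235 : nd 12235 = n42575 := ndS (p := 10192) (l := 9) rfl N10192 D42575
theorem N12236 : nd 12236 = n42576 := ndS (p := 10193) (l := 7) rfl N10193 D42576
theorem N12237 : nd 12237 = n42577 := ndS (p := 10193) (l := 8) rfl N10193 D42577
theorem N12238 : nd 12238 = n42578 := ndS (p := 10194) (l := 8) rfl N10194 D42578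
theorem N12239 : nd 12239 = n42579 := ndS (p := 10195) (l := 3) rfl N10195 D42579
theorem N12240 : nd 12240 = n42580 := ndS (p := 10195) (l := 9) rfl N10195 D42580
theorem N12241 : nd 12241 = n42581 := ndS (p := 10196) (l := 2) rfl N10196 D42581
theorem N12242 : nd 12242 = n42582 := ndS (p := 10196) (l := 4) rfl N10196 D42582
theorem N12243 : nd 12243 = n42583 := ndS (p := 10196) (l := 9) rfl N10196 D42583
theorem N12244 : nd 12244 = n42584 := ndS (p := 10198) (l := 3) rfl N10198 D42584
theorem N12245 : nd 12245 = n42585 := ndS (p := 10198) (l := 9) rfl N10198 D42585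
theorem N12246 : nd 12246 = n42586 := ndS (p := 10199) (l := 4) rfl N10199 D42586
theorem N12247 : nd 12247 = n42587 := ndS (p := 10199) (l := 9) rfl N10199 D42587
theorem N12248 : nd 12248 = n42588 := ndS (p := 10201) (l := 5) rfl N10201 D42588
theorem N12249 : nd 12249 = n42589 := ndS (p := 10201) (l := 9) rfl N10201 D42589
theorem N12250 : nd 12250 = n42590 := ndS (p := 10202) (l := 8) rfl N10202 D42590
theorem N12251 : nd 12251 = n42591 := ndS (p := 10203) (l := 6) rfl N10203 D42591
theorem N12252 : nd 12252 = n42592 := ndS (p := 10203) (l := 9) rfl N10203 D42592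
theorem N12253 : nd 12253 = n42593 := ndS (p := 10204) (l := 8) rfl N10204 D42593
theorem N12254 : nd 12254 = n42594 := ndS (p := 10206) (l := 6) rfl N10206 D42594
theorem N12255 : nd 12255 = n42595 := ndS (p := 10206) (l := 8) rfl N10206 D42595
theorem N12256 : nd 12256 = n42596 := ndS (p := 10207) (l := 3) rfl N10207 D42596
theorem N12257 : nd 12257 = n42597 := ndS (p := 10207) (l := 9) rfl N10207 D42597
theorem N12258 : nd 12258 = n42598 := ndS (p := 10208) (l := 3) rfl N10208 D42598
theorem N12259 : nd 12259 = n42599 := ndS (p := 10208) (l := 9) rfl N10208 D42599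
theorem N12260 : nd 12260 = n42600 := ndS (p := 10209) (l := 2) rfl N10209 D42600
theorem N12261 : nd 12261 = n42601 := ndS (p := 10209) (l := 9) rfl N10209 D42601
theorem N12262 : nd 12262 = n42602 := ndS (p := 10211) (l := 1) rfl N10211 D42602
theorem N12263 : nd 12263 = n42603 := ndS (p := 10211) (l := 9) rfl N10211 D42603
theorem N12264 : nd 12264 = n42604 := ndS (p := 10212) (l := 8) rfl N10212 D42604
theorem N12265 : nd 12265 = n42605 := ndS (p := 10214) (l := 8) rfl N10214 D42605
theorem N12266 : nd 12266 = n42606 := ndS (p := 10215) (l := 3) rfl N10215 D42606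
theorem N12267 : nd 12267 = n42607 := ndS (p := 10215) (l := 9) rfl N10215 D42607
theorem N12268 : nd 12268 = n42608 := ndS (p := 10216) (l := 2) rfl N10216 D42608
theorem N12269 : nd 12269 = n42609 := ndS (p := 10216) (l := 4) rfl N10216 D42609
theorem N12270 : nd 12270 = n42610 := ndS (p := 10216) (l := 9) rfl N10216 D42610
theorem N12271 : nd 12271 = n42611 := ndS (p := 10218) (l := 2) rfl N10218 D42611
theorem N12272 : nd 12272 = n42612 := ndS (p := 10218) (l := 9) rfl N10218 D42612
theorem N12273 : nd 12273 = n42613 := ndS (p := 10220) (l := 1) rfl N10220 D42613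
theorem N12274 : nd 12274 = n42614 := ndS (p := 10220) (l := 9) rfl N10220 D42614
theorem N12275 : nd 12275 = n42615 := ndS (p := 10221) (l := 8) rfl N10221 D42615
theorem N12276 : nd 12276 = n42616 := ndS (p := 10222) (l := 0) rfl N10222 D42616
theorem N12277 : nd 12277 = n42617 := ndS (p := 10222) (l := 9) rfl N10222 D42617
theorem N12278 : nd 12278 = n42618 := ndS (p := 10223) (l := 8) rfl N10223 D42618
theorem N12279 : nd 12279 = n42619 := ndS (p := 10225) (l := 2) rfl N10225 D42619
theorem N12280 : nd 12280 = n42620 := ndS (p := 10225) (l := 6) rfl N10225 D42620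
theorem N12281 : nd 12281 = n42621 := ndS (p := 10225) (l := 8) rfl N10225 D42621
theorem N12282 : nd 12282 = n42622 := ndS (p := 10226) (l := 5) rfl N10226 D42622
theorem N12283 : nd 12283 = n42623 := ndS (p := 10226) (l := 7) rfl N10226 D42623
theorem N12284 : nd 12284 = n42624 := ndS (p := 10226) (l := 8) rfl N10226 D42624
theorem N12285 : nd 12285 = n42625 := ndS (p := 10227) (l := 3) rfl N10227 D42625
theorem N12286 : nd 12286 = n42626 := ndS (p := 10227) (l := 9) rfl N10227 D42626
theorem N12287 : nd 12287 = n42627 := ndS (p := 10228) (l := 8) rfl N10228 D42627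
theorem N12288 : nd 12288 = n42629 := ndS (p := 10229) (l := 9) rfl N10229 D42629
theorem N12289 : nd 12289 = n42638 := ndS (p := 10231) (l := 5) rfl N10231 D42638
theorem N12290 : nd 12290 = n42639 := ndS (p := 10231) (l := 7) rfl N10231 D42639
theorem N12291 : nd 12291 = n42640 := ndS (p := 10231) (l := 8) rfl N10231 D42640
theorem N12292 : nd 12292 = n42641 := ndS (p := 10232) (l := 3) rfl N10232 D42641
theorem N12293 : nd 12293 = n42642 := ndS (p := 10232) (l := 9) rfl N10232 D42642
theorem N12294 : nd 12294 = n42643 := ndS (p := 10233) (l := 7) rfl N10233 D42643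
theorem N12295 : nd 12295 = n42644 := ndS (p := 10233) (l := 8) rfl N10233 D42644
theorem N12296 : nd 12296 = n42645 := ndS (p := 10234) (l := 8) rfl N10234 D42645
theorem N12297 : nd 12297 = n42646 := ndS (p := 10235) (l := 3) rfl N10235 D42646
theorem N12298 : nd 12298 = n42647 := ndS (p := 10235) (l := 9) rfl N10235 D42647
theorem N12299 : nd 12299 = n42648 := ndS (p := 10236) (l := 2) rfl N10236 D42648
theorem N12300 : nd 12300 = n42649 := ndS (p := 10236) (l := 4) rfl N10236 D42649
theorem N12301 : nd 12301 = n42650 := ndS (p := 10236) (l := 9) rfl N10236 D42650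
theorem N12302 : nd 12302 = n42651 := ndS (p := 10238) (l := 3) rfl N10238 D42651
theorem N12303 : nd 12303 = n42652 := ndS (p := 10238) (l := 9) rfl N10238 D42652
theorem N12304 : nd 12304 = n42653 := ndS (p := 10239) (l := 4) rfl N10239 D42653
theorem N12305 : nd 12305 = n42654 := ndS (p := 10239) (l := 9) rfl N10239 D42654
theorem N12306 : nd 12306 = n42656 := ndS (p := 10241) (l := 9) rfl N10241 D42656
theorem N12307 : nd 12307 = n42657 := ndS (p := 10242) (l := 8) rfl N10242 D42657
theorem N12308 : nd 12308 = n42661 := ndS (p := 10244) (l := 6) rfl N10244 D42661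
theorem N12309 : nd 12309 = n42662 := ndS (p := 10244) (l := 8) rfl N10244 D42662
theorem N12310 : nd 12310 = n42663 := ndS (p := 10245) (l := 3) rfl N10245 D42663
theorem N12311 : nd 12311 = n42664 := ndS (p := 10245) (l := 9) rfl N10245 D42664
theorem N12312 : nd 12312 = n42665 := ndS (p := 10246) (l := 3) rfl N10246 D42665
theorem N12313 : nd 12313 = n42666 := ndS (p := 10246) (l := 9) rfl N10246 D42666
theorem N12314 : nd 12314 = n42667 := ndS (p := 10247) (l := 2) rfl N10247 D42667
theorem N12315 : nd 12315 = n42668 := ndS (p := 10247) (l := 9) rfl N10247 D42668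
theorem N12316 : nd 12316 = n42669 := ndS (p := 10249) (l := 1) rfl N10249 D42669
theorem N12317 : nd 12317 = n42670 := ndS (p := 10249) (l := 9) rfl N10249 D42670
theorem N12318 : nd 12318 = n42671 := ndS (p := 10250) (l := 8) rfl N10250 D42671
theorem N12319 : nd 12319 = n42672 := ndS (p := 10252) (l := 4) rfl N10252 D42672
theorem N12320 : nd 12320 = n42673 := ndS (p := 10252) (l := 7) rfl N10252 D42673
theorem N12321 : nd 12321 = n42674 := ndS (p := 10252) (l := 8) rfl N10252 D42674
theorem N12322 : nd 12322 = n42675 := ndS (p := 10253) (l := 8) rfl N10253 D42675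
theorem N12323 : nd 12323 = n42676 := ndS (p := 10254) (l := 3) rfl N10254 D42676
theorem N12324 : nd 12324 = n42677 := ndS (p := 10254) (l := 9) rfl N10254 D42677
theorem N12325 : nd 12325 = n42678 := ndS (p := 10255) (l := 2) rfl N10255 D42678
theorem N12326 : nd 12326 = n42679 := ndS (p := 10255) (l := 4) rfl N10255 D42679
theorem N12327 : nd 12327 = n42680 := ndS (p := 10255) (l := 9) rfl N10255 D42680
theorem N12328 : nd 12328 = n42681 := ndS (p := 10257) (l := 6) rfl N10257 D42681
theorem N12329 : nd 12329 = n42682 := ndS (p := 10257) (l := 8) rfl N10257 D42682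
theorem N12330 : nd 12330 = n42683 := ndS (p := 10258) (l := 3) rfl N10258 D42683
theorem N12331 : nd 12331 = n42684 := ndS (p := 10258) (l := 9) rfl N10258 D42684
theorem N12332 : nd 12332 = n42685 := ndS (p := 10259) (l := 3) rfl N10259 D42685
theorem N12333 : nd 12333 = n42686 := ndS (p := 10259) (l := 9) rfl N10259 D42686
theorem N12334 : nd 12334 = n42687 := ndS (p := 10260) (l := 2) rfl N10260 D42687
theorem N12335 : nd 12335 = n42688 := ndS (p := 10260) (l := 4) rfl N10260 D42688
theorem N12336 : nd 12336 = n42689 := ndS (p := 10260) (l := 9) rfl N10260 D42689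
theorem N12337 : nd 12337 = n42690 := ndS (p := 10262) (l := 1) rfl N10262 D42690
theorem N12338 : nd 12338 = n42691 := ndS (p := 10262) (l := 4) rfl N10262 D42691
theorem N12339 : nd 12339 = n42692 := ndS (p := 10262) (l := 9) rfl N10262 D42692
theorem N12340 : nd 12340 = n42693 := ndS (p := 10263) (l := 5) rfl N10263 D42693
theorem N12341 : nd 12341 = n42694 := ndS (p := 10263) (l := 9) rfl N10263 D42694
theorem N12342 : nd 12342 = n42695 := ndS (p := 10264) (l := 8) rfl N10264 D42695
theorem N12343 : nd 12343 = n42696 := ndS (p := 10265) (l := 4) rfl N10265 D42696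
theorem N12344 : nd 12344 = n42697 := ndS (p := 10265) (l := 9) rfl N10265 D42697
theorem N12345 : nd 12345 = n42698 := ndS (p := 10267) (l := 5) rfl N10267 D42698
theorem N12346 : nd 12346 = n42699 := ndS (p := 10267) (l := 9) rfl N10267 D42699
theorem N12347 : nd 12347 = n42700 := ndS (p := 10268) (l := 8) rfl N10268 D42700
theorem N12348 : nd 12348 = n42701 := ndS (p := 10269) (l := 6) rfl N10269 D42701
theorem N12349 : nd 12349 = n42702 := ndS (p := 10269) (l := 9) rfl N10269 D42702
theorem N12350 : nd 12350 = n42703 := ndS (p := 10270) (l := 8) rfl N10270 D42703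
theorem N12351 : nd 12351 = n42704 := ndS (p := 10272) (l := 7) rfl N10272 D42704
theorem N12352 : nd 12352 = n42705 := ndS (p := 10272) (l := 9) rfl N10272 D42705
theorem N12353 : nd 12353 = n42706 := ndS (p := 10273) (l := 8) rfl N10273 D42706
theorem N12354 : nd 12354 = n42708 := ndS (p := 10275) (l := 8) rfl N10275 D42708
theorem N12355 : nd 12355 = n42709 := ndS (p := 10276) (l := 3) rfl N10276 D42709
theorem N12356 : nd 12356 = n42710 := ndS (p := 10276) (l := 9) rfl N10276 D42710
theorem N12357 : nd 12357 = n42711 := ndS (p := 10277) (l := 2) rfl N10277 D42711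
theorem N12358 : nd 12358 = n42712 := ndS (p := 10277) (l := 4) rfl N10277 D42712
theorem N12359 : nd 12359 = n42713 := ndS (p := 10277) (l := 9) rfl N10277 D42713
theorem N12360 : nd 12360 = n42714 := ndS (p := 10279) (l := 2) rfl N10279 D42714
theorem N12361 : nd 12361 = n42715 := ndS (p := 10279) (l := 9) rfl N10279 D42715
theorem N12362 : nd 12362 = n42716 := ndS (p := 10281) (l := 1) rfl N10281 D42716
theorem N12363 : nd 12363 = n42717 := ndS (p := 10281) (l := 9) rfl N10281 D42717
theorem N12364 : nd 12364 = n42718 := ndS (p := 10282) (l := 8) rfl N10282 D42718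
theorem N12365 : nd 12365 = n42719 := ndS (p := 10283) (l := 0) rfl N10283 D42719
theorem N12366 : nd 12366 = n42720 := ndS (p := 10283) (l := 9) rfl N10283 D42720
theorem N12367 : nd 12367 = n42721 := ndS (p := 10284) (l := 8) rfl N10284 D42721
theorem N12368 : nd 12368 = n42723 := ndS (p := 10286) (l := 9) rfl N10286 D42723
theorem N12369 : nd 12369 = n42725 := ndS (p := 10287) (l := 4) rfl N10287 D42725
theorem N12370 : nd 12370 = n42726 := ndS (p := 10287) (l := 9) rfl N10287 D42726
theorem N12371 : nd 12371 = n42727 := ndS (p := 10289) (l := 1) rfl N10289 D42727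
theorem N12372 : nd 12372 = n42728 := ndS (p := 10289) (l := 4) rfl N10289 D42728
theorem N12373 : nd 12373 = n42729 := ndS (p := 10289) (l := 9) rfl N10289 D42729
theorem N12374 : nd 12374 = n42730 := ndS (p := 10290) (l := 9) rfl N10290 D42730
theorem N12375 : nd 12375 = n42731 := ndS (p := 10291) (l := 8) rfl N10291 D42731
theorem N12376 : nd 12376 = n42734 := ndS (p := 10292) (l := 8) rfl N10292 D42734
theorem N12377 : nd 12377 = n42735 := ndS (p := 10293) (l := 0) rfl N10293 D42735
theorem N12378 : nd 12378 = n42736 := ndS (p := 10293) (l := 9) rfl N10293 D42736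
theorem N12379 : nd 12379 = n42737 := ndS (p := 10294) (l := 8) rfl N10294 D42737
theorem N12380 : nd 12380 = n42738 := ndS (p := 10296) (l := 9) rfl N10296 D42738
theorem N12381 : nd 12381 = n42739 := ndS (p := 10297) (l := 8) rfl N10297 D42739
theorem N12382 : nd 12382 = n42740 := ndS (p := 10298) (l := 3) rfl N10298 D42740
theorem N12383 : nd 12383 = n42746 := ndS (p := 10299) (l := 3) rfl N10299 D42746
theorem N12384 : nd 12384 = n42747 := ndS (p := 10299) (l := 9) rfl N10299 D42747
theorem N12385 : nd 12385 = n42750 := ndS (p := 10300) (l := 9) rfl N10300 D42750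
theorem N12386 : nd 12386 = n42759 := ndS (p := 10302) (l := 3) rfl N10302 D42759
theorem N12387 : nd 12387 = n42760 := ndS (p := 10302) (l := 9) rfl N10302 D42760
theorem N12388 : nd 12388 = n42761 := ndS (p := 10303) (l := 4) rfl N10303 D42761
theorem N12389 : nd 12389 = n42762 := ndS (p := 10303) (l := 9) rfl N10303 D42762
theorem N12390 : nd 12390 = n42765 := ndS (p := 10305) (l := 8) rfl N10305 D42765
theorem N12391 : nd 12391 = n42773 := ndS (p := 10306) (l := 9) rfl N10306 D42773
theorem N12392 : nd 12392 = n42783 := ndS (p := 10308) (l := 9) rfl N10308 D42783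
theorem N12393 : nd 12393 = n42785 := ndS (p := 10309) (l := 4) rfl N10309 D42785
theorem N12394 : nd 12394 = n42786 := ndS (p := 10309) (l := 9) rfl N10309 D42786
theorem N12395 : nd 12395 = n42787 := ndS (p := 10311) (l := 3) rfl N10311 D42787
theorem N12396 : nd 12396 = n42788 := ndS (p := 10311) (l := 9) rfl N10311 D42788
theorem N12397 : nd 12397 = n42789 := ndS (p := 10312) (l := 4) rfl N10312 D42789
theorem N12398 : nd 12398 = n42790 := ndS (p := 10312) (l := 9) rfl N10312 D42790
theorem N12399 : nd 12399 = n42791 := ndS (p := 10314) (l := 5) rfl N10314 D42791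
theorem N12400 : nd 12400 = n42792 := ndS (p := 10314) (l := 9) rfl N10314 D42792
theorem N12401 : nd 12401 = n42793 := ndS (p := 10315) (l := 8) rfl N10315 D42793
theorem N12402 : nd 12402 = n42794 := ndS (p := 10316) (l := 6) rfl N10316 D42794
theorem N12403 : nd 12403 = n42795 := ndS (p := 10316) (l := 9) rfl N10316 D42795
theorem N12404 : nd 12404 = n42796 := ndS (p := 10317) (l := 8) rfl N10317 D42796
theorem N12405 : nd 12405 = n42800 := ndS (p := 10319) (l := 9) rfl N10319 D42800
theorem N12406 : nd 12406 = n42802 := ndS (p := 10320) (l := 9) rfl N10320 D42802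
theorem N12407 : nd 12407 = n42810 := ndS (p := 10323) (l := 9) rfl N10323 D42810
theorem N12408 : nd 12408 = n42812 := ndS (p := 10324) (l := 4) rfl N10324 D42812
theorem N12409 : nd 12409 = n42813 := ndS (p := 10324) (l := 9) rfl N10324 D42813
theorem N12410 : nd 12410 = n42815 := ndS (p := 10326) (l := 9) rfl N10326 D42815
theorem N12411 : nd 12411 = n42817 := ndS (p := 10328) (l := 9) rfl N10328 D42817
theorem N12412 : nd 12412 = n42820 := ndS (p := 10330) (l := 9) rfl N10330 D42820
theorem N12413 : nd 12413 = n42825 := ndS (p := 10332) (l := 5) rfl N10332 D42825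
theorem N12414 : nd 12414 = n42826 := ndS (p := 10332) (l := 7) rfl N10332 D42826
theorem N12415 : nd 12415 = n42827 := ndS (p := 10332) (l := 8) rfl N10332 D42827
theorem N12416 : nd 12416 = n42828 := ndS (p := 10333) (l := 3) rfl N10333 D42828
theorem N12417 : nd 12417 = n42829 := ndS (p := 10333) (l := 9) rfl N10333 D42829
theorem N12418 : nd 12418 = n42830 := ndS (p := 10334) (l := 8) rfl N10334 D42830
theorem N12419 : nd 12419 = n42832 := ndS (p := 10335) (l := 9) rfl N10335 D42832
theorem N12420 : nd 12420 = n42846 := ndS (p := 10337) (l := 7) rfl N10337 D42846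
theorem N12421 : nd 12421 = n42847 := ndS (p := 10337) (l := 8) rfl N10337 D42847
theorem N12422 : nd 12422 = n42848 := ndS (p := 10338) (l := 8) rfl N10338 D42848
theorem N12423 : nd 12423 = n42849 := ndS (p := 10339) (l := 3) rfl N10339 D42849
theorem N12424 : nd 12424 = n42850 := ndS (p := 10339) (l := 9) rfl N10339 D42850
theorem N12425 : nd 12425 = n42852 := ndS (p := 10340) (l := 4) rfl N10340 D42852
theorem N12426 : nd 12426 = n42853 := ndS (p := 10340) (l := 9) rfl N10340 D42853
theorem N12427 : nd 12427 = n42854 := ndS (p := 10342) (l := 3) rfl N10342 D42854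
theorem N12428 : nd 12428 = n42855 := ndS (p := 10342) (l := 9) rfl N10342 D42855
theorem N12429 : nd 12429 = n42856 := ndS (p := 10343) (l := 4) rfl N10343 D42856
theorem N12430 : nd 12430 = n42857 := ndS (p := 10343) (l := 9) rfl N10343 D42857
theorem N12431 : nd 12431 = n42859 := ndS (p := 10345) (l := 9) rfl N10345 D42859
theorem N12432 : nd 12432 = n42860 := ndS (p := 10346) (l := 8) rfl N10346 D42860
theorem N12433 : nd 12433 = n42864 := ndS (p := 10348) (l := 6) rfl N10348 D42864
theorem N12434 : nd 12434 = n42865 := ndS (p := 10348) (l := 8) rfl N10348 D42865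
theorem N12435 : nd 12435 = n42867 := ndS (p := 10349) (l := 9) rfl N10349 D42867
theorem N12436 : nd 12436 = n42869 := ndS (p := 10350) (l := 9) rfl N10350 D42869
theorem N12437 : nd 12437 = n42875 := ndS (p := 10353) (l := 4) rfl N10353 D42875
theorem N12438 : nd 12438 = n42876 := ndS (p := 10353) (l := 7) rfl N10353 D42876
theorem N12439 : nd 12439 = n42877 := ndS (p := 10353) (l := 8) rfl N10353 D42877
theorem N12440 : nd 12440 = n42878 := ndS (p := 10354) (l := 8) rfl N10354 D42878
theorem N12441 : nd 12441 = n42879 := ndS (p := 10355) (l := 3) rfl N10355 D42879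
theorem N12442 : nd 12442 = n42880 := ndS (p := 10355) (l := 9) rfl N10355 D42880
theorem N12443 : nd 12443 = n42882 := ndS (p := 10356) (l := 4) rfl N10356 D42882
theorem N12444 : nd 12444 = n42883 := ndS (p := 10356) (l := 9) rfl N10356 D42883
theorem N12445 : nd 12445 = n42884 := ndS (p := 10358) (l := 6) rfl N10358 D42884
theorem N12446 : nd 12446 = n42885 := ndS (p := 10358) (l := 8) rfl N10358 D42885
theorem N12447 : nd 12447 = n42886 := ndS (p := 10359) (l := 3) rfl N10359 D42886
theorem N12448 : nd 12448 = n42887 := ndS (p := 10359) (l := 9) rfl N10359 D42887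
theorem N12449 : nd 12449 = n42888 := ndS (p := 10360) (l := 3) rfl N10360 D42888
theorem N12450 : nd 12450 = n42889 := ndS (p := 10360) (l := 9) rfl N10360 D42889
theorem N12451 : nd 12451 = n42890 := ndS (p := 10361) (l := 2) rfl N10361 D42890
theorem N12452 : nd 12452 = n42891 := ndS (p := 10361) (l := 4) rfl N10361 D42891
theorem N12453 : nd 12453 = n42892 := ndS (p := 10361) (l := 9) rfl N10361 D42892
theorem N12454 : nd 12454 = n42893 := ndS (p := 10363) (l := 1) rfl N10363 D42893
theorem N12455 : nd 12455 = n42894 := ndS (p := 10363) (l := 4) rfl N10363 D42894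
theorem N12456 : nd 12456 = n42895 := ndS (p := 10363) (l := 9) rfl N10363 D42895
theorem N12457 : nd 12457 = n42896 := ndS (p := 10364) (l := 5) rfl N10364 D42896
theorem N12458 : nd 12458 = n42897 := ndS (p := 10364) (l := 9) rfl N10364 D42897
theorem N12459 : nd 12459 = n42898 := ndS (p := 10365) (l := 8) rfl N10365 D42898
theorem N12460 : nd 12460 = n42899 := ndS (p := 10366) (l := 4) rfl N10366 D42899
theorem N12461 : nd 12461 = n42900 := ndS (p := 10366) (l := 9) rfl N10366 D42900
theorem N12462 : nd 12462 = n42901 := ndS (p := 10368) (l := 5) rfl N10368 D42901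
theorem N12463 : nd 12463 = n42902 := ndS (p := 10368) (l := 9) rfl N10368 D42902
theorem N12464 : nd 12464 = n42903 := ndS (p := 10369) (l := 8) rfl N10369 D42903
theorem N12465 : nd 12465 = n42904 := ndS (p := 10370) (l := 6) rfl N10370 D42904
theorem N12466 : nd 12466 = n42905 := ndS (p := 10370) (l := 9) rfl N10370 D42905
theorem N12467 : nd 12467 = n42906 := ndS (p := 10371) (l := 8) rfl N10371 D42906
theorem N12468 : nd 12468 = n42907 := ndS (p := 10373) (l := 7) rfl N10373 D42907
theorem N12469 : nd 12469 = n42908 := ndS (p := 10373) (l := 9) rfl N10373 D42908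
theorem N12470 : nd 12470 = n42909 := ndS (p := 10374) (l := 8) rfl N10374 D42909
theorem N12471 : nd 12471 = n42911 := ndS (p := 10376) (l := 8) rfl N10376 D42911
theorem N12472 : nd 12472 = n42912 := ndS (p := 10377) (l := 3) rfl N10377 D42912
theorem N12473 : nd 12473 = n42913 := ndS (p := 10377) (l := 9) rfl N10377 D42913
theorem N12474 : nd 12474 = n42914 := ndS (p := 10378) (l := 2) rfl N10378 D42914
theorem N12475 : nd 12475 = n42915 := ndS (p := 10378) (l := 4) rfl N10378 D42915
theorem N12476 : nd 12476 = n42916 := ndS (p := 10378) (l := 9) rfl N10378 D42916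
theorem N12477 : nd 12477 = n42917 := ndS (p := 10380) (l := 2) rfl N10380 D42917
theorem N12478 : nd 12478 = n42918 := ndS (p := 10380) (l := 9) rfl N10380 D42918
theorem N12479 : nd 12479 = n42919 := ndS (p := 10382) (l := 1) rfl N10382 D42919
theorem N12480 : nd 12480 = n42920 := ndS (p := 10382) (l := 9) rfl N10382 D42920
theorem N12481 : nd 12481 = n42923 := ndS (p := 10384) (l := 9) rfl N10384 D42923
theorem N12482 : nd 12482 = n42925 := ndS (p := 10386) (l := 3) rfl N10386 D42925
theorem N12483 : nd 12483 = n42926 := ndS (p := 10386) (l := 9) rfl N10386 D42926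
theorem N12484 : nd 12484 = n42927 := ndS (p := 10387) (l := 2) rfl N10387 D42927
theorem N12485 : nd 12485 = n42928 := ndS (p := 10387) (l := 4) rfl N10387 D42928
theorem N12486 : nd 12486 = n42929 := ndS (p := 10387) (l := 9) rfl N10387 D42929
theorem N12487 : nd 12487 = n42930 := ndS (p := 10389) (l := 1) rfl N10389 D42930
theorem N12488 : nd 12488 = n42931 := ndS (p := 10389) (l := 4) rfl N10389 D42931
theorem N12489 : nd 12489 = n42932 := ndS (p := 10389) (l := 9) rfl N10389 D42932
theorem N12490 : nd 12490 = n42933 := ndS (p := 10390) (l := 9) rfl N10390 D42933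
theorem N12491 : nd 12491 = n42934 := ndS (p := 10391) (l := 8) rfl N10391 D42934
theorem N12492 : nd 12492 = n42936 := ndS (p := 10392) (l := 9) rfl N10392 D42936
theorem N12493 : nd 12493 = n42937 := ndS (p := 10393) (l := 8) rfl N10393 D42937
theorem N12494 : nd 12494 = n42939 := ndS (p := 10394) (l := 9) rfl N10394 D42939
theorem N12495 : nd 12495 = n42940 := ndS (p := 10395) (l := 8) rfl N10395 D42940
theorem N12496 : nd 12496 = n42941 := ndS (p := 10397) (l := 9) rfl N10397 D42941
theorem N12497 : nd 12497 = n42942 := ndS (p := 10398) (l := 8) rfl N10398 D42942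
theorem N12498 : nd 12498 = n42943 := ndS (p := 10399) (l := 3) rfl N10399 D42943
theorem N12499 : nd 12499 = n42946 := ndS (p := 10400) (l := 5) rfl N10400 D42946
theorem N12500 : nd 12500 = n42947 := ndS (p := 10400) (l := 7) rfl N10400 D42947
theorem N12501 : nd 12501 = n42948 := ndS (p := 10400) (l := 8) rfl N10400 D42948
theorem N12502 : nd 12502 = n42949 := ndS (p := 10401) (l := 3) rfl N10401 D42949
theorem N12503 : nd 12503 = n42950 := ndS (p := 10401) (l := 9) rfl N10401 D42950
theorem N12504 : nd 12504 = n42951 := ndS (p := 10402) (l := 7) rfl N10402 D42951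
theorem N12505 : nd 12505 = n42952 := ndS (p := 10402) (l := 8) rfl N10402 D42952
theorem N12506 : nd 12506 = n42953 := ndS (p := 10403) (l := 8) rfl N10403 D42953
theorem N12507 : nd 12507 = n42954 := ndS (p := 10404) (l := 3) rfl N10404 D42954
theorem N12508 : nd 12508 = n42955 := ndS (p := 10404) (l := 9) rfl N10404 D42955
theorem N12509 : nd 12509 = n42956 := ndS (p := 10405) (l := 2) rfl N10405 D42956
theorem N12510 : nd 12510 = n42958 := ndS (p := 10405) (l := 9) rfl N10405 D42958
theorem N12511 : nd 12511 = n42960 := ndS (p := 10407) (l := 9) rfl N10407 D42960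
theorem N12512 : nd 12512 = n42976 := ndS (p := 10409) (l := 4) rfl N10409 D42976
theorem N12513 : nd 12513 = n42977 := ndS (p := 10409) (l := 7) rfl N10409 D42977
theorem N12514 : nd 12514 = n42978 := ndS (p := 10409) (l := 8) rfl N10409 D42978
theorem N12515 : nd 12515 = n42979 := ndS (p := 10410) (l := 8) rfl N10410 D42979
theorem N12516 : nd 12516 = n42980 := ndS (p := 10411) (l := 3) rfl N10411 D42980
theorem N12517 : nd 12517 = n42981 := ndS (p := 10411) (l := 9) rfl N10411 D42981
theorem N12518 : nd 12518 = n42983 := ndS (p := 10412) (l := 4) rfl N10412 D42983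
theorem N12519 : nd 12519 = n42984 := ndS (p := 10412) (l := 9) rfl N10412 D42984
theorem N12520 : nd 12520 = n42985 := ndS (p := 10414) (l := 6) rfl N10414 D42985
theorem N12521 : nd 12521 = n42986 := ndS (p := 10414) (l := 8) rfl N10414 D42986
theorem N12522 : nd 12522 = n42987 := ndS (p := 10415) (l := 3) rfl N10415 D42987
theorem N12523 : nd 12523 = n42988 := ndS (p := 10415) (l := 9) rfl N10415 D42988
theorem N12524 : nd 12524 = n42989 := ndS (p := 10416) (l := 3) rfl N10416 D42989
theorem N12525 : nd 12525 = n42990 := ndS (p := 10416) (l := 9) rfl N10416 D42990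
theorem N12526 : nd 12526 = n42991 := ndS (p := 10417) (l := 2) rfl N10417 D42991
theorem N12527 : nd 12527 = n42992 := ndS (p := 10417) (l := 4) rfl N10417 D42992
theorem N12528 : nd 12528 = n42993 := ndS (p := 10417) (l := 9) rfl N10417 D42993
theorem N12529 : nd 12529 = n42994 := ndS (p := 10419) (l := 1) rfl N10419 D42994
theorem N12530 : nd 12530 = n42995 := ndS (p := 10419) (l := 4) rfl N10419 D42995
theorem N12531 : nd 12531 = n42996 := ndS (p := 10419) (l := 9) rfl N10419 D42996
theorem N12532 : nd 12532 = n42998 := ndS (p := 10420) (l := 9) rfl N10420 D42998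
theorem N12533 : nd 12533 = n42999 := ndS (p := 10421) (l := 8) rfl N10421 D42999
theorem N12534 : nd 12534 = n43000 := ndS (p := 10422) (l := 4) rfl N10422 D43000
theorem N12535 : nd 12535 = n43001 := ndS (p := 10422) (l := 9) rfl N10422 D43001
theorem N12536 : nd 12536 = n43002 := ndS (p := 10424) (l := 5) rfl N10424 D43002
theorem N12537 : nd 12537 = n43003 := ndS (p := 10424) (l := 9) rfl N10424 D43003
theorem N12538 : nd 12538 = n43004 := ndS (p := 10425) (l := 8) rfl N10425 D43004
theorem N12539 : nd 12539 = n43007 := ndS (p := 10426) (l := 8) rfl N10426 D43007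
theorem N12540 : nd 12540 = n43012 := ndS (p := 10428) (l := 8) rfl N10428 D43012
theorem N12541 : nd 12541 = n43013 := ndS (p := 10429) (l := 3) rfl N10429 D43013
theorem N12542 : nd 12542 = n43014 := ndS (p := 10429) (l := 9) rfl N10429 D43014
theorem N12543 : nd 12543 = n43015 := ndS (p := 10430) (l := 2) rfl N10430 D43015
theorem N12544 : nd 12544 = n43016 := ndS (p := 10430) (l := 4) rfl N10430 D43016
theorem N12545 : nd 12545 = n43017 := ndS (p := 10430) (l := 9) rfl N10430 D43017
theorem N12546 : nd 12546 = n43018 := ndS (p := 10432) (l := 2) rfl N10432 D43018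
theorem N12547 : nd 12547 = n43019 := ndS (p := 10432) (l := 9) rfl N10432 D43019
theorem N12548 : nd 12548 = n43020 := ndS (p := 10434) (l := 1) rfl N10434 D43020
theorem N12549 : nd 12549 = n43021 := ndS (p := 10434) (l := 9) rfl N10434 D43021
theorem N12550 : nd 12550 = n43023 := ndS (p := 10436) (l := 0) rfl N10436 D43023
theorem N12551 : nd 12551 = n43024 := ndS (p := 10436) (l := 9) rfl N10436 D43024
theorem N12552 : nd 12552 = n43026 := ndS (p := 10438) (l := 7) rfl N10438 D43026
theorem N12553 : nd 12553 = n43027 := ndS (p := 10438) (l := 8) rfl N10438 D43027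
theorem N12554 : nd 12554 = n43028 := ndS (p := 10439) (l := 6) rfl N10439 D43028
theorem N12555 : nd 12555 = n43029 := ndS (p := 10439) (l := 8) rfl N10439 D43029
theorem N12556 : nd 12556 = n43030 := ndS (p := 10440) (l := 3) rfl N10440 D43030
theorem N12557 : nd 12557 = n43031 := ndS (p := 10440) (l := 9) rfl N10440 D43031
theorem N12558 : nd 12558 = n43032 := ndS (p := 10441) (l := 3) rfl N10441 D43032
theorem N12559 : nd 12559 = n43033 := ndS (p := 10441) (l := 9) rfl N10441 D43033
theorem N12560 : nd 12560 = n43034 := ndS (p := 10442) (l := 2) rfl N10442 D43034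
theorem N12561 : nd 12561 = n43035 := ndS (p := 10442) (l := 4) rfl N10442 D43035
theorem N12562 : nd 12562 = n43036 := ndS (p := 10442) (l := 9) rfl N10442 D43036
theorem N12563 : nd 12563 = n43037 := ndS (p := 10444) (l := 1) rfl N10444 D43037
theorem N12564 : nd 12564 = n43038 := ndS (p := 10444) (l := 4) rfl N10444 D43038
theorem N12565 : nd 12565 = n43039 := ndS (p := 10444) (l := 9) rfl N10444 D43039
theorem N12566 : nd 12566 = n43040 := ndS (p := 10445) (l := 5) rfl N10445 D43040
theorem N12567 : nd 12567 = n43041 := ndS (p := 10445) (l := 9) rfl N10445 D43041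
theorem N12568 : nd 12568 = n43042 := ndS (p := 10446) (l := 8) rfl N10446 D43042
theorem N12569 : nd 12569 = n43043 := ndS (p := 10447) (l := 8) rfl N10447 D43043
theorem N12570 : nd 12570 = n43044 := ndS (p := 10448) (l := 3) rfl N10448 D43044
theorem N12571 : nd 12571 = n43045 := ndS (p := 10448) (l := 9) rfl N10448 D43045
theorem N12572 : nd 12572 = n43046 := ndS (p := 10449) (l := 2) rfl N10449 D43046
theorem N12573 : nd 12573 = n43047 := ndS (p := 10449) (l := 4) rfl N10449 D43047
theorem N12574 : nd 12574 = n43048 := ndS (p := 10449) (l := 9) rfl N10449 D43048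
theorem N12575 : nd 12575 = n43049 := ndS (p := 10451) (l := 2) rfl N10451 D43049
theorem N12576 : nd 12576 = n43050 := ndS (p := 10451) (l := 4) rfl N10451 D43050
theorem N12577 : nd 12577 = n43051 := ndS (p := 10451) (l := 9) rfl N10451 D43051
theorem N12578 : nd 12578 = n43052 := ndS (p := 10453) (l := 1) rfl N10453 D43052
theorem N12579 : nd 12579 = n43053 := ndS (p := 10453) (l := 4) rfl N10453 D43053
theorem N12580 : nd 12580 = n43054 := ndS (p := 10453) (l := 9) rfl N10453 D43054
theorem N12581 : nd 12581 = n43055 := ndS (p := 10454) (l := 5) rfl N10454 D43055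
theorem N12582 : nd 12582 = n43056 := ndS (p := 10454) (l := 9) rfl N10454 D43056
theorem N12583 : nd 12583 = n43057 := ndS (p := 10455) (l := 8) rfl N10455 D43057
theorem N12584 : nd 12584 = n43058 := ndS (p := 10456) (l := 0) rfl N10456 D43058
theorem N12585 : nd 12585 = n43059 := ndS (p := 10456) (l := 4) rfl N10456 D43059
theorem N12586 : nd 12586 = n43060 := ndS (p := 10456) (l := 9) rfl N10456 D43060
theorem N12587 : nd 12587 = n43061 := ndS (p := 10457) (l := 5) rfl N10457 D43061
theorem N12588 : nd 12588 = n43062 := ndS (p := 10457) (l := 9) rfl N10457 D43062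
theorem N12589 : nd 12589 = n43063 := ndS (p := 10458) (l := 8) rfl N10458 D43063
theorem N12590 : nd 12590 = n43064 := ndS (p := 10459) (l := 6) rfl N10459 D43064
theorem N12591 : nd 12591 = n43065 := ndS (p := 10459) (l := 9) rfl N10459 D43065
theorem N12592 : nd 12592 = n43066 := ndS (p := 10460) (l := 8) rfl N10460 D43066
theorem N12593 : nd 12593 = n43067 := ndS (p := 10462) (l := 5) rfl N10462 D43067
theorem N12594 : nd 12594 = n43068 := ndS (p := 10462) (l := 9) rfl N10462 D43068
theorem N12595 : nd 12595 = n43069 := ndS (p := 10463) (l := 8) rfl N10463 D43069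
theorem N12596 : nd 12596 = n43070 := ndS (p := 10464) (l := 6) rfl N10464 D43070
theorem N12597 : nd 12597 = n43071 := ndS (p := 10464) (l := 9) rfl N10464 D43071
theorem N12598 : nd 12598 = n43072 := ndS (p := 10465) (l := 8) rfl N10465 D43072
theorem N12599 : nd 12599 = n43073 := ndS (p := 10467) (l := 7) rfl N10467 D43073
theorem N12600 : nd 12600 = n43074 := ndS (p := 10467) (l := 9) rfl N10467 D43074
theorem N12601 : nd 12601 = n43075 := ndS (p := 10468) (l := 8) rfl N10468 D43075
theorem N12602 : nd 12602 = n43076 := ndS (p := 10469) (l := 3) rfl N10469 D43076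
theorem N12603 : nd 12603 = n43077 := ndS (p := 10470) (l := 9) rfl N10470 D43077
theorem N12604 : nd 12604 = n43078 := ndS (p := 10471) (l := 8) rfl N10471 D43078
theorem N12605 : nd 12605 = n43081 := ndS (p := 10473) (l := 3) rfl N10473 D43081
theorem N12606 : nd 12606 = n43082 := ndS (p := 10473) (l := 9) rfl N10473 D43082
theorem N12607 : nd 12607 = n43083 := ndS (p := 10474) (l := 2) rfl N10474 D43083
theorem N12608 : nd 12608 = n43084 := ndS (p := 10474) (l := 4) rfl N10474 D43084
theorem N12609 : nd 12609 = n43085 := ndS (p := 10474) (l := 9) rfl N10474 D43085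
theorem N12610 : nd 12610 = n43086 := ndS (p := 10476) (l := 1) rfl N10476 D43086
theorem N12611 : nd 12611 = n43087 := ndS (p := 10476) (l := 4) rfl N10476 D43087
theorem N12612 : nd 12612 = n43088 := ndS (p := 10476) (l := 9) rfl N10476 D43088
theorem N12613 : nd 12613 = n43089 := ndS (p := 10477) (l := 9) rfl N10477 D43089
theorem N12614 : nd 12614 = n43090 := ndS (p := 10478) (l := 8) rfl N10478 D43090
theorem N12615 : nd 12615 = n43091 := ndS (p := 10479) (l := 1) rfl N10479 D43091
theorem N12616 : nd 12616 = n43092 := ndS (p := 10479) (l := 9) rfl N10479 D43092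
theorem N12617 : nd 12617 = n43093 := ndS (p := 10480) (l := 8) rfl N10480 D43093
theorem N12618 : nd 12618 = n43094 := ndS (p := 10481) (l := 0) rfl N10481 D43094
theorem N12619 : nd 12619 = n43095 := ndS (p := 10481) (l := 9) rfl N10481 D43095
theorem N12620 : nd 12620 = n43096 := ndS (p := 10482) (l := 8) rfl N10482 D43096
theorem N12621 : nd 12621 = n43097 := ndS (p := 10484) (l := 9) rfl N10484 D43097
theorem N12622 : nd 12622 = n43098 := ndS (p := 10485) (l := 8) rfl N10485 D43098
theorem N12623 : nd 12623 = n43099 := ndS (p := 10486) (l := 3) rfl N10486 D43099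
theorem N12624 : nd 12624 = n43100 := ndS (p := 10487) (l := 2) rfl N10487 D43100
theorem N12625 : nd 12625 = n43101 := ndS (p := 10487) (l := 4) rfl N10487 D43101
theorem N12626 : nd 12626 = n43102 := ndS (p := 10487) (l := 9) rfl N10487 D43102
theorem N12627 : nd 12627 = n43103 := ndS (p := 10489) (l := 1) rfl N10489 D43103
theorem N12628 : nd 12628 = n43104 := ndS (p := 10489) (l := 4) rfl N10489 D43104
theorem N12629 : nd 12629 = n43105 := ndS (p := 10489) (l := 9) rfl N10489 D43105
theorem N12630 : nd 12630 = n43106 := ndS (p := 10490) (l := 9) rfl N10490 D43106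
theorem N12631 : nd 12631 = n43107 := ndS (p := 10491) (l := 8) rfl N10491 D43107
theorem N12632 : nd 12632 = n43108 := ndS (p := 10492) (l := 0) rfl N10492 D43108
theorem N12633 : nd 12633 = n43109 := ndS (p := 10492) (l := 4) rfl N10492 D43109
theorem N12634 : nd 12634 = n43110 := ndS (p := 10492) (l := 9) rfl N10492 D43110
theorem N12635 : nd 12635 = n43111 := ndS (p := 10493) (l := 3) rfl N10493 D43111
theorem N12636 : nd 12636 = n43112 := ndS (p := 10493) (l := 9) rfl N10493 D43112
theorem N12637 : nd 12637 = n43113 := ndS (p := 10494) (l := 8) rfl N10494 D43113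
theorem N12638 : nd 12638 = n43114 := ndS (p := 10495) (l := 8) rfl N10495 D43114
theorem N12639 : nd 12639 = n43115 := ndS (p := 10497) (l := 0) rfl N10497 D43115
theorem N12640 : nd 12640 = n43116 := ndS (p := 10497) (l := 9) rfl N10497 D43116
theorem N12641 : nd 12641 = n43117 := ndS (p := 10498) (l := 8) rfl N10498 D43117
theorem N12642 : nd 12642 = n43118 := ndS (p := 10500) (l := 9) rfl N10500 D43118
theorem N12643 : nd 12643 = n43119 := ndS (p := 10501) (l := 8) rfl N10501 D43119
theorem N12644 : nd 12644 = n43120 := ndS (p := 10502) (l := 3) rfl N10502 D43120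
theorem N12645 : nd 12645 = n43121 := ndS (p := 10503) (l := 8) rfl N10503 D43121
theorem N12646 : nd 12646 = n43122 := ndS (p := 10504) (l := 3) rfl N10504 D43122
theorem N12647 : nd 12647 = n43123 := ndS (p := 10505) (l := 4) rfl N10505 D43123
theorem N12648 : nd 12648 = n43408 := ndS (p := 10508) (l := 7) rfl N10508 D43408
theorem N12649 : nd 12649 = n43409 := ndS (p := 10508) (l := 8) rfl N10508 D43409
theorem N12650 : nd 12650 = n43410 := ndS (p := 10509) (l := 6) rfl N10509 D43410
theorem N12651 : nd 12651 = n43411 := ndS (p := 10509) (l := 8) rfl N10509 D43411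
theorem N12652 : nd 12652 = n43413 := ndS (p := 10510) (l := 9) rfl N10510 D43413
theorem N12653 : nd 12653 = n43415 := ndS (p := 10511) (l := 9) rfl N10511 D43415
theorem N12654 : nd 12654 = n43461 := ndS (p := 10514) (l := 3) rfl N10514 D43461
theorem N12655 : nd 12655 = n43463 := ndS (p := 10515) (l := 2) rfl N10515 D43463
theorem N12656 : nd 12656 = n43464 := ndS (p := 10515) (l := 4) rfl N10515 D43464
theorem N12657 : nd 12657 = n43466 := ndS (p := 10516) (l := 1) rfl N10516 D43466
theorem N12658 : nd 12658 = n43467 := ndS (p := 10516) (l := 4) rfl N10516 D43467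
theorem N12659 : nd 12659 = n43499 := ndS (p := 10528) (l := 8) rfl N10528 D43499
theorem N12660 : nd 12660 = n43500 := ndS (p := 10529) (l := 3) rfl N10529 D43500
theorem N12661 : nd 12661 = n43545 := ndS (p := 10533) (l := 7) rfl N10533 D43545
theorem N12662 : nd 12662 = n43546 := ndS (p := 10533) (l := 8) rfl N10533 D43546
theorem N12663 : nd 12663 = n43547 := ndS (p := 10534) (l := 6) rfl N10534 D43547
theorem N12664 : nd 12664 = n43548 := ndS (p := 10534) (l := 8) rfl N10534 D43548
theorem N12665 : nd 12665 = n43550 := ndS (p := 10535) (l := 9) rfl N10535 D43550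
theorem N12666 : nd 12666 = n43552 := ndS (p := 10536) (l := 9) rfl N10536 D43552
theorem N12667 : nd 12667 = n43588 := ndS (p := 10539) (l := 3) rfl N10539 D43588
theorem N12668 : nd 12668 = n43590 := ndS (p := 10540) (l := 2) rfl N10540 D43590
theorem N12669 : nd 12669 = n43591 := ndS (p := 10540) (l := 4) rfl N10540 D43591
theorem N12670 : nd 12670 = n43593 := ndS (p := 10541) (l := 1) rfl N10541 D43593
theorem N12671 : nd 12671 = n43594 := ndS (p := 10541) (l := 4) rfl N10541 D43594
theorem N12672 : nd 12672 = n43601 := ndS (p := 10544) (l := 0) rfl N10544 D43601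
theorem N12673 : nd 12673 = n43607 := ndS (p := 10546) (l := 6) rfl N10546 D43607
theorem N12674 : nd 12674 = n43608 := ndS (p := 10546) (l := 8) rfl N10546 D43608
theorem N12675 : nd 12675 = n43609 := ndS (p := 10547) (l := 3) rfl N10547 D43609
theorem N12676 : nd 12676 = n43610 := ndS (p := 10547) (l := 9) rfl N10547 D43610
theorem N12677 : nd 12677 = n43611 := ndS (p := 10548) (l := 8) rfl N10548 D43611
theorem N12678 : nd 12678 = n43612 := ndS (p := 10549) (l := 3) rfl N10549 D43612
theorem N12679 : nd 12679 = n43613 := ndS (p := 10549) (l := 9) rfl N10549 D43613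
theorem N12680 : nd 12680 = n43614 := ndS (p := 10550) (l := 2) rfl N10550 D43614
theorem N12681 : nd 12681 = n43615 := ndS (p := 10550) (l := 4) rfl N10550 D43615
theorem N12682 : nd 12682 = n43616 := ndS (p := 10550) (l := 9) rfl N10550 D43616
theorem N12683 : nd 12683 = n43617 := ndS (p := 10552) (l := 2) rfl N10552 D43617
theorem N12684 : nd 12684 = n43619 := ndS (p := 10552) (l := 9) rfl N10552 D43619
theorem N12685 : nd 12685 = n43620 := ndS (p := 10554) (l := 1) rfl N10554 D43620
theorem N12686 : nd 12686 = n43622 := ndS (p := 10554) (l := 9) rfl N10554 D43622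
theorem N12687 : nd 12687 = n43626 := ndS (p := 10556) (l := 0) rfl N10556 D43626
theorem N12688 : nd 12688 = n43628 := ndS (p := 10556) (l := 9) rfl N10556 D43628
theorem N12689 : nd 12689 = n43633 := ndS (p := 10558) (l := 3) rfl N10558 D43633
theorem N12690 : nd 12690 = n43635 := ndS (p := 10559) (l := 2) rfl N10559 D43635
theorem N12691 : nd 12691 = n43638 := ndS (p := 10560) (l := 1) rfl N10560 D43638
theorem N12692 : nd 12692 = n43639 := ndS (p := 10560) (l := 4) rfl N10560 D43639
theorem N12693 : nd 12693 = n43644 := ndS (p := 10562) (l := 1) rfl N10562 D43644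
theorem N12694 : nd 12694 = n43650 := ndS (p := 10563) (l := 0) rfl N10563 D43650
theorem N12695 : nd 12695 = n43671 := ndS (p := 10565) (l := 2) rfl N10565 D43671
theorem N12696 : nd 12696 = n43672 := ndS (p := 10565) (l := 4) rfl N10565 D43672
theorem N12697 : nd 12697 = n43673 := ndS (p := 10565) (l := 9) rfl N10565 D43673
theorem N12698 : nd 12698 = n43674 := ndS (p := 10567) (l := 1) rfl N10567 D43674
theorem N12699 : nd 12699 = n43675 := ndS (p := 10567) (l := 4) rfl N10567 D43675
theorem N12700 : nd 12700 = n43676 := ndS (p := 10567) (l := 9) rfl N10567 D43676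
theorem N12701 : nd 12701 = n43677 := ndS (p := 10568) (l := 9) rfl N10568 D43677
theorem N12702 : nd 12702 = n43678 := ndS (p := 10569) (l := 8) rfl N10569 D43678
theorem N12703 : nd 12703 = n43679 := ndS (p := 10570) (l := 0) rfl N10570 D43679
theorem N12704 : nd 12704 = n43680 := ndS (p := 10570) (l := 4) rfl N10570 D43680
theorem N12705 : nd 12705 = n43681 := ndS (p := 10570) (l := 9) rfl N10570 D43681
theorem N12706 : nd 12706 = n43682 := ndS (p := 10571) (l := 3) rfl N10571 D43682
theorem N12707 : nd 12707 = n43683 := ndS (p := 10571) (l := 9) rfl N10571 D43683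
theorem N12708 : nd 12708 = n43684 := ndS (p := 10572) (l := 8) rfl N10572 D43684
theorem N12709 : nd 12709 = n43685 := ndS (p := 10573) (l := 8) rfl N10573 D43685
theorem N12710 : nd 12710 = n43686 := ndS (p := 10575) (l := 0) rfl N10575 D43686
theorem N12711 : nd 12711 = n43687 := ndS (p := 10575) (l := 9) rfl N10575 D43687
theorem N12712 : nd 12712 = n43688 := ndS (p := 10576) (l := 8) rfl N10576 D43688
theorem N12713 : nd 12713 = n43689 := ndS (p := 10578) (l := 9) rfl N10578 D43689
theorem N12714 : nd 12714 = n43690 := ndS (p := 10579) (l := 8) rfl N10579 D43690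
theorem N12715 : nd 12715 = n43691 := ndS (p := 10580) (l := 3) rfl N10580 D43691
theorem N12716 : nd 12716 = n43692 := ndS (p := 10581) (l := 8) rfl N10581 D43692
theorem N12717 : nd 12717 = n43693 := ndS (p := 10582) (l := 3) rfl N10582 D43693
theorem N12718 : nd 12718 = n43694 := ndS (p := 10583) (l := 4) rfl N10583 D43694
theorem N12719 : nd 12719 = n43701 := ndS (p := 10587) (l := 0) rfl N10587 D43701
theorem N12720 : nd 12720 = n43709 := ndS (p := 10589) (l := 9) rfl N10589 D43709
theorem N12721 : nd 12721 = n43712 := ndS (p := 10591) (l := 8) rfl N10591 D43712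
theorem N12722 : nd 12722 = n43716 := ndS (p := 10592) (l := 3) rfl N10592 D43716
theorem N12723 : nd 12723 = n43717 := ndS (p := 10593) (l := 3) rfl N10593 D43717
theorem N12724 : nd 12724 = n43718 := ndS (p := 10594) (l := 9) rfl N10594 D43718
theorem N12725 : nd 12725 = n43719 := ndS (p := 10595) (l := 8) rfl N10595 D43719
theorem N12726 : nd 12726 = n43720 := ndS (p := 10596) (l := 3) rfl N10596 D43720
theorem N12727 : nd 12727 = n43721 := ndS (p := 10597) (l := 8) rfl N10597 D43721
theorem N12728 : nd 12728 = n43722 := ndS (p := 10598) (l := 3) rfl N10598 D43722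
theorem N12729 : nd 12729 = n43723 := ndS (p := 10599) (l := 4) rfl N10599 D43723
theorem N12730 : nd 12730 = n44038 := ndS (p := 10607) (l := 8) rfl N10607 D44038
theorem N12731 : nd 12731 = n44039 := ndS (p := 10608) (l := 5) rfl N10608 D44039
theorem N12732 : nd 12732 = n44042 := ndS (p := 10609) (l := 3) rfl N10609 D44042
theorem N12733 : nd 12733 = n44127 := ndS (p := 10614) (l := 6) rfl N10614 D44127
theorem N12734 : nd 12734 = n44128 := ndS (p := 10614) (l := 8) rfl N10614 D44128
theorem N12735 : nd 12735 = n44129 := ndS (p := 10615) (l := 3) rfl N10615 D44129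
theorem N12736 : nd 12736 = n44131 := ndS (p := 10616) (l := 3) rfl N10616 D44131
theorem N12737 : nd 12737 = n44134 := ndS (p := 10617) (l := 9) rfl N10617 D44134
theorem N12738 : nd 12738 = n44137 := ndS (p := 10619) (l := 8) rfl N10619 D44137
theorem N12739 : nd 12739 = n44146 := ndS (p := 10624) (l := 1) rfl N10624 D44146
theorem N12740 : nd 12740 = n44210 := ndS (p := 10628) (l := 8) rfl N10628 D44210
theorem N12741 : nd 12741 = n44214 := ndS (p := 10630) (l := 3) rfl N10630 D44214
theorem N12742 : nd 12742 = n44215 := ndS (p := 10630) (l := 9) rfl N10630 D44215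
theorem N12743 : nd 12743 = n44218 := ndS (p := 10631) (l := 9) rfl N10631 D44218
theorem N12744 : nd 12744 = n44245 := ndS (p := 10635) (l := 8) rfl N10635 D44245
theorem N12745 : nd 12745 = n44249 := ndS (p := 10636) (l := 9) rfl N10636 D44249
theorem N12746 : nd 12746 = n44258 := ndS (p := 10638) (l := 3) rfl N10638 D44258
theorem N12747 : nd 12747 = n44259 := ndS (p := 10638) (l := 9) rfl N10638 D44259
theorem N12748 : nd 12748 = n44262 := ndS (p := 10639) (l := 9) rfl N10639 D44262
theorem N12749 : nd 12749 = n44263 := ndS (p := 10640) (l := 4) rfl N10640 D44263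
theorem N12750 : nd 12750 = n44264 := ndS (p := 10640) (l := 9) rfl N10640 D44264
theorem N12751 : nd 12751 = n44269 := ndS (p := 10643) (l := 8) rfl N10643 D44269
theorem N12752 : nd 12752 = n44271 := ndS (p := 10644) (l := 3) rfl N10644 D44271
theorem N12753 : nd 12753 = n44272 := ndS (p := 10644) (l := 9) rfl N10644 D44272
theorem N12754 : nd 12754 = n44274 := ndS (p := 10645) (l := 9) rfl N10645 D44274
theorem N12755 : nd 12755 = n44275 := ndS (p := 10647) (l := 9) rfl N10647 D44275
theorem N12756 : nd 12756 = n44279 := ndS (p := 10649) (l := 3) rfl N10649 D44279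
theorem N12757 : nd 12757 = n44280 := ndS (p := 10649) (l := 9) rfl N10649 D44280
theorem N12758 : nd 12758 = n44282 := ndS (p := 10650) (l := 8) rfl N10650 D44282
theorem N12759 : nd 12759 = n44284 := ndS (p := 10651) (l := 3) rfl N10651 D44284
theorem N12760 : nd 12760 = n44285 := ndS (p := 10651) (l := 9) rfl N10651 D44285
theorem N12761 : nd 12761 = n44286 := ndS (p := 10652) (l := 2) rfl N10652 D44286
theorem N12762 : nd 12762 = n44287 := ndS (p := 10652) (l := 4) rfl N10652 D44287
theorem N12763 : nd 12763 = n44288 := ndS (p := 10652) (l := 9) rfl N10652 D44288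
theorem N12764 : nd 12764 = n44293 := ndS (p := 10655) (l := 5) rfl N10655 D44293
theorem N12765 : nd 12765 = n44294 := ndS (p := 10655) (l := 9) rfl N10655 D44294
theorem N12766 : nd 12766 = n44296 := ndS (p := 10657) (l := 6) rfl N10657 D44296
theorem N12767 : nd 12767 = n44297 := ndS (p := 10657) (l := 9) rfl N10657 D44297
theorem N12768 : nd 12768 = n44302 := ndS (p := 10659) (l := 9) rfl N10659 D44302
theorem N12769 : nd 12769 = n44303 := ndS (p := 10660) (l := 3) rfl N10660 D44303
theorem N12770 : nd 12770 = n44305 := ndS (p := 10661) (l := 2) rfl N10661 D44305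
theorem N12771 : nd 12771 = n44306 := ndS (p := 10661) (l := 9) rfl N10661 D44306
theorem N12772 : nd 12772 = n44307 := ndS (p := 10663) (l := 1) rfl N10663 D44307
theorem N12773 : nd 12773 = n44308 := ndS (p := 10663) (l := 9) rfl N10663 D44308
theorem N12774 : nd 12774 = n44321 := ndS (p := 10669) (l := 0) rfl N10669 D44321
theorem N12775 : nd 12775 = n44322 := ndS (p := 10669) (l := 9) rfl N10669 D44322
theorem N12776 : nd 12776 = n44412 := ndS (p := 10671) (l := 5) rfl N10671 D44412
theorem N12777 : nd 12777 = n44414 := ndS (p := 10671) (l := 8) rfl N10671 D44414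
theorem N12778 : nd 12778 = n44415 := ndS (p := 10672) (l := 3) rfl N10672 D44415
theorem N12779 : nd 12779 = n44416 := ndS (p := 10672) (l := 9) rfl N10672 D44416
theorem N12780 : nd 12780 = n44417 := ndS (p := 10673) (l := 7) rfl N10673 D44417
theorem N12781 : nd 12781 = n44418 := ndS (p := 10673) (l := 8) rfl N10673 D44418
theorem N12782 : nd 12782 = n44420 := ndS (p := 10675) (l := 3) rfl N10675 D44420
theorem N12783 : nd 12783 = n44421 := ndS (p := 10675) (l := 9) rfl N10675 D44421
theorem N12784 : nd 12784 = n44422 := ndS (p := 10676) (l := 2) rfl N10676 D44422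
theorem N12785 : nd 12785 = n44424 := ndS (p := 10676) (l := 9) rfl N10676 D44424
theorem N12786 : nd 12786 = n44426 := ndS (p := 10678) (l := 9) rfl N10678 D44426
theorem N12787 : nd 12787 = n44438 := ndS (p := 10681) (l := 9) rfl N10681 D44438
theorem N12788 : nd 12788 = n44444 := ndS (p := 10683) (l := 9) rfl N10683 D44444
theorem N12789 : nd 12789 = n44445 := ndS (p := 10684) (l := 8) rfl N10684 D44445
theorem N12790 : nd 12790 = n44463 := ndS (p := 10689) (l := 5) rfl N10689 D44463
theorem N12791 : nd 12791 = n44465 := ndS (p := 10689) (l := 8) rfl N10689 D44465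
theorem N12792 : nd 12792 = n44466 := ndS (p := 10690) (l := 3) rfl N10690 D44466
theorem N12793 : nd 12793 = n44467 := ndS (p := 10690) (l := 9) rfl N10690 D44467
theorem N12794 : nd 12794 = n44470 := ndS (p := 10691) (l := 9) rfl N10691 D44470
theorem N12795 : nd 12795 = n44485 := ndS (p := 10693) (l := 8) rfl N10693 D44485
theorem N12796 : nd 12796 = n44487 := ndS (p := 10694) (l := 3) rfl N10694 D44487
theorem N12797 : nd 12797 = n44488 := ndS (p := 10694) (l := 9) rfl N10694 D44488
theorem N12798 : nd 12798 = n44490 := ndS (p := 10695) (l := 4) rfl N10695 D44490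
theorem N12799 : nd 12799 = n44491 := ndS (p := 10695) (l := 9) rfl N10695 D44491
theorem N12800 : nd 12800 = n44493 := ndS (p := 10697) (l := 9) rfl N10697 D44493
theorem N12801 : nd 12801 = n44494 := ndS (p := 10698) (l := 4) rfl N10698 D44494
theorem N12802 : nd 12802 = n44495 := ndS (p := 10698) (l := 9) rfl N10698 D44495
theorem N12803 : nd 12803 = n44497 := ndS (p := 10700) (l := 9) rfl N10700 D44497
theorem N12804 : nd 12804 = n44502 := ndS (p := 10702) (l := 6) rfl N10702 D44502
theorem N12805 : nd 12805 = n44503 := ndS (p := 10702) (l := 8) rfl N10702 D44503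
theorem N12806 : nd 12806 = n44504 := ndS (p := 10703) (l := 3) rfl N10703 D44504
theorem N12807 : nd 12807 = n44505 := ndS (p := 10703) (l := 9) rfl N10703 D44505
theorem N12808 : nd 12808 = n44506 := ndS (p := 10704) (l := 3) rfl N10704 D44506
theorem N12809 : nd 12809 = n44507 := ndS (p := 10704) (l := 9) rfl N10704 D44507
theorem N12810 : nd 12810 = n44509 := ndS (p := 10705) (l := 9) rfl N10705 D44509
theorem N12811 : nd 12811 = n44512 := ndS (p := 10707) (l := 8) rfl N10707 D44512
theorem N12812 : nd 12812 = n44515 := ndS (p := 10709) (l := 8) rfl N10709 D44515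
theorem N12813 : nd 12813 = n44517 := ndS (p := 10710) (l := 3) rfl N10710 D44517
theorem N12814 : nd 12814 = n44518 := ndS (p := 10710) (l := 9) rfl N10710 D44518
theorem N12815 : nd 12815 = n44520 := ndS (p := 10711) (l := 4) rfl N10711 D44520
theorem N12816 : nd 12816 = n44521 := ndS (p := 10711) (l := 9) rfl N10711 D44521
theorem N12817 : nd 12817 = n44522 := ndS (p := 10713) (l := 6) rfl N10713 D44522
theorem N12818 : nd 12818 = n44523 := ndS (p := 10713) (l := 8) rfl N10713 D44523
theorem N12819 : nd 12819 = n44524 := ndS (p := 10714) (l := 3) rfl N10714 D44524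
theorem N12820 : nd 12820 = n44525 := ndS (p := 10714) (l := 9) rfl N10714 D44525
theorem N12821 : nd 12821 = n44526 := ndS (p := 10715) (l := 3) rfl N10715 D44526
theorem N12822 : nd 12822 = n44527 := ndS (p := 10715) (l := 9) rfl N10715 D44527
theorem N12823 : nd 12823 = n44528 := ndS (p := 10716) (l := 2) rfl N10716 D44528
theorem N12824 : nd 12824 = n44529 := ndS (p := 10716) (l := 4) rfl N10716 D44529
theorem N12825 : nd 12825 = n44530 := ndS (p := 10716) (l := 9) rfl N10716 D44530
theorem N12826 : nd 12826 = n44531 := ndS (p := 10718) (l := 1) rfl N10718 D44531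
theorem N12827 : nd 12827 = n44532 := ndS (p := 10718) (l := 4) rfl N10718 D44532
theorem N12828 : nd 12828 = n44533 := ndS (p := 10718) (l := 9) rfl N10718 D44533
theorem N12829 : nd 12829 = n44534 := ndS (p := 10719) (l := 5) rfl N10719 D44534
theorem N12830 : nd 12830 = n44535 := ndS (p := 10719) (l := 9) rfl N10719 D44535
theorem N12831 : nd 12831 = n44536 := ndS (p := 10720) (l := 8) rfl N10720 D44536
theorem N12832 : nd 12832 = n44539 := ndS (p := 10722) (l := 5) rfl N10722 D44539
theorem N12833 : nd 12833 = n44540 := ndS (p := 10722) (l := 9) rfl N10722 D44540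
theorem N12834 : nd 12834 = n44542 := ndS (p := 10724) (l := 6) rfl N10724 D44542
theorem N12835 : nd 12835 = n44543 := ndS (p := 10724) (l := 9) rfl N10724 D44543
theorem N12836 : nd 12836 = n44545 := ndS (p := 10726) (l := 7) rfl N10726 D44545
theorem N12837 : nd 12837 = n44546 := ndS (p := 10726) (l := 9) rfl N10726 D44546
theorem N12838 : nd 12838 = n44549 := ndS (p := 10728) (l := 8) rfl N10728 D44549
theorem N12839 : nd 12839 = n44550 := ndS (p := 10729) (l := 3) rfl N10729 D44550
theorem N12840 : nd 12840 = n44551 := ndS (p := 10729) (l := 9) rfl N10729 D44551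
theorem N12841 : nd 12841 = n44552 := ndS (p := 10730) (l := 2) rfl N10730 D44552
theorem N12842 : nd 12842 = n44553 := ndS (p := 10730) (l := 4) rfl N10730 D44553
theorem N12843 : nd 12843 = n44554 := ndS (p := 10730) (l := 9) rfl N10730 D44554
theorem N12844 : nd 12844 = n44555 := ndS (p := 10732) (l := 2) rfl N10732 D44555
theorem N12845 : nd 12845 = n44556 := ndS (p := 10732) (l := 9) rfl N10732 D44556
theorem N12846 : nd 12846 = n44557 := ndS (p := 10734) (l := 1) rfl N10734 D44557
theorem N12847 : nd 12847 = n44558 := ndS (p := 10734) (l := 9) rfl N10734 D44558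
theorem N12848 : nd 12848 = n44559 := ndS (p := 10735) (l := 8) rfl N10735 D44559
theorem N12849 : nd 12849 = n44561 := ndS (p := 10736) (l := 9) rfl N10736 D44561
theorem N12850 : nd 12850 = n44562 := ndS (p := 10737) (l := 8) rfl N10737 D44562
theorem N12851 : nd 12851 = n44564 := ndS (p := 10739) (l := 9) rfl N10739 D44564
theorem N12852 : nd 12852 = n44567 := ndS (p := 10740) (l := 9) rfl N10740 D44567
theorem N12853 : nd 12853 = n44568 := ndS (p := 10742) (l := 1) rfl N10742 D44568
theorem N12854 : nd 12854 = n44570 := ndS (p := 10742) (l := 9) rfl N10742 D44570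
theorem N12855 : nd 12855 = n44571 := ndS (p := 10743) (l := 9) rfl N10743 D44571
theorem N12856 : nd 12856 = n44573 := ndS (p := 10745) (l := 1) rfl N10745 D44573
theorem N12857 : nd 12857 = n44574 := ndS (p := 10745) (l := 9) rfl N10745 D44574
theorem N12858 : nd 12858 = n44576 := ndS (p := 10747) (l := 0) rfl N10747 D44576
theorem N12859 : nd 12859 = n44577 := ndS (p := 10747) (l := 9) rfl N10747 D44577
theorem N12860 : nd 12860 = n44578 := ndS (p := 10748) (l := 8) rfl N10748 D44578
theorem N12861 : nd 12861 = n44579 := ndS (p := 10750) (l := 9) rfl N10750 D44579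
theorem N12862 : nd 12862 = n44580 := ndS (p := 10751) (l := 8) rfl N10751 D44580
theorem N12863 : nd 12863 = n44581 := ndS (p := 10752) (l := 3) rfl N10752 D44581
theorem N12864 : nd 12864 = n44657 := ndS (p := 10753) (l := 1) rfl N10753 D44657
theorem N12865 : nd 12865 = n44658 := ndS (p := 10753) (l := 9) rfl N10753 D44658
theorem N12866 : nd 12866 = n44659 := ndS (p := 10754) (l := 8) rfl N10754 D44659
theorem N12867 : nd 12867 = n44660 := ndS (p := 10755) (l := 0) rfl N10755 D44660
theorem N12868 : nd 12868 = n44661 := ndS (p := 10755) (l := 9) rfl N10755 D44661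
theorem N12869 : nd 12869 = n44662 := ndS (p := 10756) (l := 8) rfl N10756 D44662
theorem N12870 : nd 12870 = n44716 := ndS (p := 10758) (l := 4) rfl N10758 D44716
theorem N12871 : nd 12871 = n44717 := ndS (p := 10758) (l := 7) rfl N10758 D44717
theorem N12872 : nd 12872 = n44718 := ndS (p := 10758) (l := 8) rfl N10758 D44718
theorem N12873 : nd 12873 = n44719 := ndS (p := 10759) (l := 8) rfl N10759 D44719
theorem N12874 : nd 12874 = n44720 := ndS (p := 10760) (l := 3) rfl N10760 D44720
theorem N12875 : nd 12875 = n44721 := ndS (p := 10760) (l := 9) rfl N10760 D44721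
theorem N12876 : nd 12876 = n44724 := ndS (p := 10761) (l := 9) rfl N10761 D44724
theorem N12877 : nd 12877 = n44725 := ndS (p := 10763) (l := 6) rfl N10763 D44725
theorem N12878 : nd 12878 = n44726 := ndS (p := 10763) (l := 8) rfl N10763 D44726
theorem N12879 : nd 12879 = n44727 := ndS (p := 10764) (l := 3) rfl N10764 D44727
theorem N12880 : nd 12880 = n44728 := ndS (p := 10764) (l := 9) rfl N10764 D44728
theorem N12881 : nd 12881 = n44729 := ndS (p := 10765) (l := 3) rfl N10765 D44729
theorem N12882 : nd 12882 = n44730 := ndS (p := 10765) (l := 9) rfl N10765 D44730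
theorem N12883 : nd 12883 = n44731 := ndS (p := 10766) (l := 2) rfl N10766 D44731
theorem N12884 : nd 12884 = n44733 := ndS (p := 10766) (l := 9) rfl N10766 D44733
theorem N12885 : nd 12885 = n44734 := ndS (p := 10768) (l := 1) rfl N10768 D44734
theorem N12886 : nd 12886 = n44736 := ndS (p := 10768) (l := 9) rfl N10768 D44736
theorem N12887 : nd 12887 = n44739 := ndS (p := 10769) (l := 8) rfl N10769 D44739
theorem N12888 : nd 12888 = n44754 := ndS (p := 10772) (l := 9) rfl N10772 D44754
theorem N12889 : nd 12889 = n44755 := ndS (p := 10773) (l := 2) rfl N10773 D44755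
theorem N12890 : nd 12890 = n44757 := ndS (p := 10773) (l := 9) rfl N10773 D44757
theorem N12891 : nd 12891 = n44758 := ndS (p := 10775) (l := 2) rfl N10775 D44758
theorem N12892 : nd 12892 = n44759 := ndS (p := 10775) (l := 9) rfl N10775 D44759
theorem N12893 : nd 12893 = n44760 := ndS (p := 10777) (l := 1) rfl N10777 D44760
theorem N12894 : nd 12894 = n44761 := ndS (p := 10777) (l := 9) rfl N10777 D44761
theorem N12895 : nd 12895 = n44762 := ndS (p := 10778) (l := 8) rfl N10778 D44762
theorem N12896 : nd 12896 = n44763 := ndS (p := 10779) (l := 0) rfl N10779 D44763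
theorem N12897 : nd 12897 = n44764 := ndS (p := 10779) (l := 9) rfl N10779 D44764
theorem N12898 : nd 12898 = n44765 := ndS (p := 10780) (l := 8) rfl N10780 D44765
theorem N12899 : nd 12899 = n44771 := ndS (p := 10783) (l := 1) rfl N10783 D44771
theorem N12900 : nd 12900 = n44773 := ndS (p := 10783) (l := 9) rfl N10783 D44773
theorem N12901 : nd 12901 = n44775 := ndS (p := 10784) (l := 8) rfl N10784 D44775
theorem N12902 : nd 12902 = n44776 := ndS (p := 10785) (l := 1) rfl N10785 D44776
theorem N12903 : nd 12903 = n44777 := ndS (p := 10785) (l := 9) rfl N10785 D44777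
theorem N12904 : nd 12904 = n44778 := ndS (p := 10786) (l := 8) rfl N10786 D44778
theorem N12905 : nd 12905 = n44779 := ndS (p := 10787) (l := 0) rfl N10787 D44779
theorem N12906 : nd 12906 = n44780 := ndS (p := 10787) (l := 9) rfl N10787 D44780
theorem N12907 : nd 12907 = n44781 := ndS (p := 10788) (l := 8) rfl N10788 D44781
theorem N12908 : nd 12908 = n44782 := ndS (p := 10790) (l := 9) rfl N10790 D44782
theorem N12909 : nd 12909 = n44783 := ndS (p := 10791) (l := 8) rfl N10791 D44783
theorem N12910 : nd 12910 = n44784 := ndS (p := 10792) (l := 3) rfl N10792 D44784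
theorem N12911 : nd 12911 = n44787 := ndS (p := 10793) (l := 5) rfl N10793 D44787
theorem N12912 : nd 12912 = n44789 := ndS (p := 10793) (l := 8) rfl N10793 D44789
theorem N12913 : nd 12913 = n44791 := ndS (p := 10794) (l := 9) rfl N10794 D44791
theorem N12914 : nd 12914 = n44792 := ndS (p := 10795) (l := 7) rfl N10795 D44792
theorem N12915 : nd 12915 = n44793 := ndS (p := 10795) (l := 8) rfl N10795 D44793
theorem N12916 : nd 12916 = n44794 := ndS (p := 10796) (l := 8) rfl N10796 D44794
theorem N12917 : nd 12917 = n44795 := ndS (p := 10797) (l := 3) rfl N10797 D44795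
theorem N12918 : nd 12918 = n44796 := ndS (p := 10797) (l := 9) rfl N10797 D44796
theorem N12919 : nd 12919 = n44799 := ndS (p := 10798) (l := 9) rfl N10798 D44799
theorem N12920 : nd 12920 = n44801 := ndS (p := 10800) (l := 9) rfl N10800 D44801
theorem N12921 : nd 12921 = n44819 := ndS (p := 10802) (l := 8) rfl N10802 D44819
theorem N12922 : nd 12922 = n44820 := ndS (p := 10803) (l := 8) rfl N10803 D44820
theorem N12923 : nd 12923 = n44821 := ndS (p := 10804) (l := 3) rfl N10804 D44821
theorem N12924 : nd 12924 = n44822 := ndS (p := 10804) (l := 9) rfl N10804 D44822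
theorem N12925 : nd 12925 = n44823 := ndS (p := 10805) (l := 2) rfl N10805 D44823
theorem N12926 : nd 12926 = n44825 := ndS (p := 10805) (l := 9) rfl N10805 D44825
theorem N12927 : nd 12927 = n44826 := ndS (p := 10807) (l := 6) rfl N10807 D44826
theorem N12928 : nd 12928 = n44827 := ndS (p := 10807) (l := 8) rfl N10807 D44827
theorem N12929 : nd 12929 = n44828 := ndS (p := 10808) (l := 3) rfl N10808 D44828
theorem N12930 : nd 12930 = n44829 := ndS (p := 10808) (l := 9) rfl N10808 D44829
theorem N12931 : nd 12931 = n44830 := ndS (p := 10809) (l := 3) rfl N10809 D44830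
theorem N12932 : nd 12932 = n44831 := ndS (p := 10809) (l := 9) rfl N10809 D44831
theorem N12933 : nd 12933 = n44832 := ndS (p := 10810) (l := 2) rfl N10810 D44832
theorem N12934 : nd 12934 = n44833 := ndS (p := 10810) (l := 4) rfl N10810 D44833
theorem N12935 : nd 12935 = n44834 := ndS (p := 10810) (l := 9) rfl N10810 D44834
theorem N12936 : nd 12936 = n44835 := ndS (p := 10812) (l := 1) rfl N10812 D44835
theorem N12937 : nd 12937 = n44836 := ndS (p := 10812) (l := 4) rfl N10812 D44836
theorem N12938 : nd 12938 = n44837 := ndS (p := 10812) (l := 9) rfl N10812 D44837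
theorem N12939 : nd 12939 = n44839 := ndS (p := 10813) (l := 9) rfl N10813 D44839
theorem N12940 : nd 12940 = n44840 := ndS (p := 10814) (l := 8) rfl N10814 D44840
theorem N12941 : nd 12941 = n44841 := ndS (p := 10815) (l := 4) rfl N10815 D44841
theorem N12942 : nd 12942 = n44842 := ndS (p := 10815) (l := 9) rfl N10815 D44842
theorem N12943 : nd 12943 = n44843 := ndS (p := 10817) (l := 5) rfl N10817 D44843
theorem N12944 : nd 12944 = n44844 := ndS (p := 10817) (l := 9) rfl N10817 D44844
theorem N12945 : nd 12945 = n44853 := ndS (p := 10820) (l := 8) rfl N10820 D44853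
theorem N12946 : nd 12946 = n44854 := ndS (p := 10821) (l := 3) rfl N10821 D44854
theorem N12947 : nd 12947 = n44855 := ndS (p := 10821) (l := 9) rfl N10821 D44855
theorem N12948 : nd 12948 = n44856 := ndS (p := 10822) (l := 2) rfl N10822 D44856
theorem N12949 : nd 12949 = n44857 := ndS (p := 10822) (l := 4) rfl N10822 D44857
theorem N12950 : nd 12950 = n44858 := ndS (p := 10822) (l := 9) rfl N10822 D44858
theorem N12951 : nd 12951 = n44859 := ndS (p := 10824) (l := 2) rfl N10824 D44859
theorem N12952 : nd 12952 = n44860 := ndS (p := 10824) (l := 9) rfl N10824 D44860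
theorem N12953 : nd 12953 = n44861 := ndS (p := 10826) (l := 1) rfl N10826 D44861
theorem N12954 : nd 12954 = n44862 := ndS (p := 10826) (l := 9) rfl N10826 D44862
theorem N12955 : nd 12955 = n44863 := ndS (p := 10827) (l := 8) rfl N10827 D44863
theorem N12956 : nd 12956 = n44864 := ndS (p := 10828) (l := 0) rfl N10828 D44864
theorem N12957 : nd 12957 = n44865 := ndS (p := 10828) (l := 9) rfl N10828 D44865
theorem N12958 : nd 12958 = n44866 := ndS (p := 10829) (l := 8) rfl N10829 D44866
theorem N12959 : nd 12959 = n44868 := ndS (p := 10831) (l := 8) rfl N10831 D44868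
theorem N12960 : nd 12960 = n44869 := ndS (p := 10832) (l := 6) rfl N10832 D44869
theorem N12961 : nd 12961 = n44870 := ndS (p := 10832) (l := 8) rfl N10832 D44870
theorem N12962 : nd 12962 = n44871 := ndS (p := 10833) (l := 3) rfl N10833 D44871
theorem N12963 : nd 12963 = n44872 := ndS (p := 10833) (l := 9) rfl N10833 D44872
theorem N12964 : nd 12964 = n44873 := ndS (p := 10834) (l := 3) rfl N10834 D44873
theorem N12965 : nd 12965 = n44874 := ndS (p := 10834) (l := 9) rfl N10834 D44874
theorem N12966 : nd 12966 = n44875 := ndS (p := 10835) (l := 2) rfl N10835 D44875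
theorem N12967 : nd 12967 = n44876 := ndS (p := 10835) (l := 4) rfl N10835 D44876
theorem N12968 : nd 12968 = n44877 := ndS (p := 10835) (l := 9) rfl N10835 D44877
theorem N12969 : nd 12969 = n44878 := ndS (p := 10837) (l := 1) rfl N10837 D44878
theorem N12970 : nd 12970 = n44879 := ndS (p := 10837) (l := 4) rfl N10837 D44879
theorem N12971 : nd 12971 = n44880 := ndS (p := 10837) (l := 9) rfl N10837 D44880
theorem N12972 : nd 12972 = n44881 := ndS (p := 10838) (l := 5) rfl N10838 D44881
theorem N12973 : nd 12973 = n44882 := ndS (p := 10838) (l := 9) rfl N10838 D44882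
theorem N12974 : nd 12974 = n44883 := ndS (p := 10839) (l := 8) rfl N10839 D44883
theorem N12975 : nd 12975 = n44884 := ndS (p := 10840) (l := 8) rfl N10840 D44884
theorem N12976 : nd 12976 = n44885 := ndS (p := 10841) (l := 3) rfl N10841 D44885
theorem N12977 : nd 12977 = n44886 := ndS (p := 10841) (l := 9) rfl N10841 D44886
theorem N12978 : nd 12978 = n44887 := ndS (p := 10842) (l := 2) rfl N10842 D44887
theorem N12979 : nd 12979 = n44888 := ndS (p := 10842) (l := 4) rfl N10842 D44888
theorem N12980 : nd 12980 = n44889 := ndS (p := 10842) (l := 9) rfl N10842 D44889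
theorem N12981 : nd 12981 = n44890 := ndS (p := 10844) (l := 2) rfl N10844 D44890
theorem N12982 : nd 12982 = n44891 := ndS (p := 10844) (l := 4) rfl N10844 D44891
theorem N12983 : nd 12983 = n44892 := ndS (p := 10844) (l := 9) rfl N10844 D44892
theorem N12984 : nd 12984 = n44893 := ndS (p := 10846) (l := 1) rfl N10846 D44893
theorem N12985 : nd 12985 = n44894 := ndS (p := 10846) (l := 4) rfl N10846 D44894
theorem N12986 : nd 12986 = n44895 := ndS (p := 10846) (l := 9) rfl N10846 D44895
theorem N12987 : nd 12987 = n44896 := ndS (p := 10847) (l := 5) rfl N10847 D44896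
theorem N12988 : nd 12988 = n44897 := ndS (p := 10847) (l := 9) rfl N10847 D44897
theorem N12989 : nd 12989 = n44898 := ndS (p := 10848) (l := 8) rfl N10848 D44898
theorem N12990 : nd 12990 = n44899 := ndS (p := 10849) (l := 0) rfl N10849 D44899
theorem N12991 : nd 12991 = n44900 := ndS (p := 10849) (l := 4) rfl N10849 D44900
theorem N12992 : nd 12992 = n44901 := ndS (p := 10849) (l := 9) rfl N10849 D44901
theorem N12993 : nd 12993 = n44902 := ndS (p := 10850) (l := 5) rfl N10850 D44902
theorem N12994 : nd 12994 = n44903 := ndS (p := 10850) (l := 9) rfl N10850 D44903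
theorem N12995 : nd 12995 = n44904 := ndS (p := 10851) (l := 8) rfl N10851 D44904
theorem N12996 : nd 12996 = n44905 := ndS (p := 10852) (l := 6) rfl N10852 D44905
theorem N12997 : nd 12997 = n44906 := ndS (p := 10852) (l := 9) rfl N10852 D44906
theorem N12998 : nd 12998 = n44907 := ndS (p := 10853) (l := 8) rfl N10853 D44907
theorem N12999 : nd 12999 = n44908 := ndS (p := 10855) (l := 5) rfl N10855 D44908
theorem N13000 : nd 13000 = n44909 := ndS (p := 10855) (l := 9) rfl N10855 D44909
theorem N13001 : nd 13001 = n44911 := ndS (p := 10857) (l := 6) rfl N10857 D44911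
theorem N13002 : nd 13002 = n44912 := ndS (p := 10857) (l := 9) rfl N10857 D44912
theorem N13003 : nd 13003 = n44914 := ndS (p := 10859) (l := 7) rfl N10859 D44914
theorem N13004 : nd 13004 = n44915 := ndS (p := 10859) (l := 9) rfl N10859 D44915
theorem N13005 : nd 13005 = n44918 := ndS (p := 10861) (l := 9) rfl N10861 D44918
theorem N13006 : nd 13006 = n44922 := ndS (p := 10863) (l := 3) rfl N10863 D44922
theorem N13007 : nd 13007 = n44923 := ndS (p := 10863) (l := 9) rfl N10863 D44923
theorem N13008 : nd 13008 = n44924 := ndS (p := 10864) (l := 2) rfl N10864 D44924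
theorem N13009 : nd 13009 = n44925 := ndS (p := 10864) (l := 4) rfl N10864 D44925
theorem N13010 : nd 13010 = n44926 := ndS (p := 10864) (l := 9) rfl N10864 D44926
theorem N13011 : nd 13011 = n44927 := ndS (p := 10866) (l := 1) rfl N10866 D44927
theorem N13012 : nd 13012 = n44928 := ndS (p := 10866) (l := 4) rfl N10866 D44928
theorem N13013 : nd 13013 = n44929 := ndS (p := 10866) (l := 9) rfl N10866 D44929
theorem N13014 : nd 13014 = n44930 := ndS (p := 10867) (l := 9) rfl N10867 D44930
theorem N13015 : nd 13015 = n44931 := ndS (p := 10868) (l := 8) rfl N10868 D44931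
theorem N13016 : nd 13016 = n44932 := ndS (p := 10869) (l := 1) rfl N10869 D44932
theorem N13017 : nd 13017 = n44933 := ndS (p := 10869) (l := 9) rfl N10869 D44933
theorem N13018 : nd 13018 = n44934 := ndS (p := 10870) (l := 8) rfl N10870 D44934
theorem N13019 : nd 13019 = n44935 := ndS (p := 10871) (l := 0) rfl N10871 D44935
theorem N13020 : nd 13020 = n44936 := ndS (p := 10871) (l := 9) rfl N10871 D44936
theorem N13021 : nd 13021 = n44937 := ndS (p := 10872) (l := 8) rfl N10872 D44937
theorem N13022 : nd 13022 = n44938 := ndS (p := 10874) (l := 9) rfl N10874 D44938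
theorem N13023 : nd 13023 = n44939 := ndS (p := 10875) (l := 8) rfl N10875 D44939
theorem N13024 : nd 13024 = n44940 := ndS (p := 10876) (l := 3) rfl N10876 D44940
theorem N13025 : nd 13025 = n44943 := ndS (p := 10877) (l := 9) rfl N10877 D44943
theorem N13026 : nd 13026 = n44944 := ndS (p := 10879) (l := 1) rfl N10879 D44944
theorem N13027 : nd 13027 = n44945 := ndS (p := 10879) (l := 4) rfl N10879 D44945
theorem N13028 : nd 13028 = n44946 := ndS (p := 10879) (l := 9) rfl N10879 D44946
theorem N13029 : nd 13029 = n44947 := ndS (p := 10880) (l := 9) rfl N10880 D44947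
theorem N13030 : nd 13030 = n44948 := ndS (p := 10881) (l := 8) rfl N10881 D44948
theorem N13031 : nd 13031 = n44949 := ndS (p := 10882) (l := 0) rfl N10882 D44949
theorem N13032 : nd 13032 = n44950 := ndS (p := 10882) (l := 4) rfl N10882 D44950
theorem N13033 : nd 13033 = n44951 := ndS (p := 10882) (l := 9) rfl N10882 D44951
theorem N13034 : nd 13034 = n44952 := ndS (p := 10883) (l := 3) rfl N10883 D44952
theorem N13035 : nd 13035 = n44953 := ndS (p := 10883) (l := 9) rfl N10883 D44953
theorem N13036 : nd 13036 = n44954 := ndS (p := 10884) (l := 8) rfl N10884 D44954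
theorem N13037 : nd 13037 = n44955 := ndS (p := 10885) (l := 8) rfl N10885 D44955
theorem N13038 : nd 13038 = n44956 := ndS (p := 10887) (l := 0) rfl N10887 D44956
theorem N13039 : nd 13039 = n44957 := ndS (p := 10887) (l := 9) rfl N10887 D44957
theorem N13040 : nd 13040 = n44958 := ndS (p := 10888) (l := 8) rfl N10888 D44958
theorem N13041 : nd 13041 = n44959 := ndS (p := 10890) (l := 9) rfl N10890 D44959
theorem N13042 : nd 13042 = n44960 := ndS (p := 10891) (l := 8) rfl N10891 D44960
theorem N13043 : nd 13043 = n44961 := ndS (p := 10892) (l := 3) rfl N10892 D44961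
theorem N13044 : nd 13044 = n44962 := ndS (p := 10893) (l := 8) rfl N10893 D44962
theorem N13045 : nd 13045 = n44963 := ndS (p := 10894) (l := 3) rfl N10894 D44963
theorem N13046 : nd 13046 = n44964 := ndS (p := 10895) (l := 4) rfl N10895 D44964
theorem N13047 : nd 13047 = n44976 := ndS (p := 10897) (l := 8) rfl N10897 D44976
theorem N13048 : nd 13048 = n44979 := ndS (p := 10898) (l := 8) rfl N10898 D44979
theorem N13049 : nd 13049 = n44980 := ndS (p := 10899) (l := 3) rfl N10899 D44980
theorem N13050 : nd 13050 = n44981 := ndS (p := 10899) (l := 9) rfl N10899 D44981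
theorem N13051 : nd 13051 = n44984 := ndS (p := 10900) (l := 9) rfl N10900 D44984
theorem N13052 : nd 13052 = n44994 := ndS (p := 10904) (l := 9) rfl N10904 D44994
theorem N13053 : nd 13053 = n44995 := ndS (p := 10905) (l := 2) rfl N10905 D44995
theorem N13054 : nd 13054 = n44996 := ndS (p := 10905) (l := 9) rfl N10905 D44996
theorem N13055 : nd 13055 = n44997 := ndS (p := 10907) (l := 9) rfl N10907 D44997
theorem N13056 : nd 13056 = n45001 := ndS (p := 10909) (l := 3) rfl N10909 D45001
theorem N13057 : nd 13057 = n45002 := ndS (p := 10909) (l := 9) rfl N10909 D45002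
theorem N13058 : nd 13058 = n45006 := ndS (p := 10911) (l := 3) rfl N10911 D45006
theorem N13059 : nd 13059 = n45007 := ndS (p := 10911) (l := 9) rfl N10911 D45007
theorem N13060 : nd 13060 = n45008 := ndS (p := 10912) (l := 2) rfl N10912 D45008
theorem N13061 : nd 13061 = n45009 := ndS (p := 10912) (l := 4) rfl N10912 D45009
theorem N13062 : nd 13062 = n45010 := ndS (p := 10912) (l := 9) rfl N10912 D45010
theorem N13063 : nd 13063 = n45012 := ndS (p := 10914) (l := 9) rfl N10914 D45012
theorem N13064 : nd 13064 = n45014 := ndS (p := 10915) (l := 9) rfl N10915 D45014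
theorem N13065 : nd 13065 = n45016 := ndS (p := 10917) (l := 9) rfl N10917 D45016
theorem N13066 : nd 13066 = n45030 := ndS (p := 10920) (l := 9) rfl N10920 D45030
theorem N13067 : nd 13067 = n45031 := ndS (p := 10921) (l := 8) rfl N10921 D45031
theorem N13068 : nd 13068 = n45068 := ndS (p := 10924) (l := 3) rfl N10924 D45068
theorem N13069 : nd 13069 = n45069 := ndS (p := 10924) (l := 9) rfl N10924 D45069
theorem N13070 : nd 13070 = n45071 := ndS (p := 10925) (l := 8) rfl N10925 D45071
theorem N13071 : nd 13071 = n45072 := ndS (p := 10926) (l := 8) rfl N10926 D45072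
theorem N13072 : nd 13072 = n45073 := ndS (p := 10927) (l := 3) rfl N10927 D45073
theorem N13073 : nd 13073 = n45074 := ndS (p := 10927) (l := 9) rfl N10927 D45074
theorem N13074 : nd 13074 = n45075 := ndS (p := 10928) (l := 2) rfl N10928 D45075
theorem N13075 : nd 13075 = n45077 := ndS (p := 10928) (l := 9) rfl N10928 D45077
theorem N13076 : nd 13076 = n45079 := ndS (p := 10930) (l := 9) rfl N10930 D45079
theorem N13077 : nd 13077 = n45088 := ndS (p := 10932) (l := 6) rfl N10932 D45088
theorem N13078 : nd 13078 = n45089 := ndS (p := 10932) (l := 8) rfl N10932 D45089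
theorem N13079 : nd 13079 = n45090 := ndS (p := 10933) (l := 3) rfl N10933 D45090
theorem N13080 : nd 13080 = n45091 := ndS (p := 10933) (l := 9) rfl N10933 D45091
theorem N13081 : nd 13081 = n45093 := ndS (p := 10934) (l := 9) rfl N10934 D45093
theorem N13082 : nd 13082 = n45095 := ndS (p := 10935) (l := 9) rfl N10935 D45095
theorem N13083 : nd 13083 = n45097 := ndS (p := 10937) (l := 9) rfl N10937 D45097
theorem N13084 : nd 13084 = n45098 := ndS (p := 10938) (l := 8) rfl N10938 D45098
theorem N13085 : nd 13085 = n45105 := ndS (p := 10941) (l := 2) rfl N10941 D45105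
theorem N13086 : nd 13086 = n45107 := ndS (p := 10941) (l := 9) rfl N10941 D45107
theorem N13087 : nd 13087 = n45108 := ndS (p := 10943) (l := 6) rfl N10943 D45108
theorem N13088 : nd 13088 = n45109 := ndS (p := 10943) (l := 8) rfl N10943 D45109
theorem N13089 : nd 13089 = n45110 := ndS (p := 10944) (l := 3) rfl N10944 D45110
theorem N13090 : nd 13090 = n45111 := ndS (p := 10944) (l := 9) rfl N10944 D45111
theorem N13091 : nd 13091 = n45113 := ndS (p := 10945) (l := 9) rfl N10945 D45113
theorem N13092 : nd 13092 = n45114 := ndS (p := 10946) (l := 2) rfl N10946 D45114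
theorem N13093 : nd 13093 = n45116 := ndS (p := 10946) (l := 9) rfl N10946 D45116
theorem N13094 : nd 13094 = n45117 := ndS (p := 10948) (l := 1) rfl N10948 D45117
theorem N13095 : nd 13095 = n45118 := ndS (p := 10948) (l := 4) rfl N10948 D45118
theorem N13096 : nd 13096 = n45119 := ndS (p := 10948) (l := 9) rfl N10948 D45119
theorem N13097 : nd 13097 = n45120 := ndS (p := 10949) (l := 5) rfl N10949 D45120
theorem N13098 : nd 13098 = n45121 := ndS (p := 10949) (l := 9) rfl N10949 D45121
theorem N13099 : nd 13099 = n45122 := ndS (p := 10950) (l := 8) rfl N10950 D45122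
theorem N13100 : nd 13100 = n45128 := ndS (p := 10953) (l := 6) rfl N10953 D45128
theorem N13101 : nd 13101 = n45129 := ndS (p := 10953) (l := 9) rfl N10953 D45129
theorem N13102 : nd 13102 = n45131 := ndS (p := 10955) (l := 7) rfl N10955 D45131
theorem N13103 : nd 13103 = n45132 := ndS (p := 10955) (l := 9) rfl N10955 D45132
theorem N13104 : nd 13104 = n45135 := ndS (p := 10957) (l := 8) rfl N10957 D45135
theorem N13105 : nd 13105 = n45136 := ndS (p := 10958) (l := 3) rfl N10958 D45136
theorem N13106 : nd 13106 = n45138 := ndS (p := 10959) (l := 2) rfl N10959 D45138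
theorem N13107 : nd 13107 = n45139 := ndS (p := 10959) (l := 4) rfl N10959 D45139
theorem N13108 : nd 13108 = n45140 := ndS (p := 10959) (l := 9) rfl N10959 D45140
theorem N13109 : nd 13109 = n45142 := ndS (p := 10961) (l := 9) rfl N10961 D45142
theorem N13110 : nd 13110 = n45143 := ndS (p := 10963) (l := 1) rfl N10963 D45143
theorem N13111 : nd 13111 = n45144 := ndS (p := 10963) (l := 9) rfl N10963 D45144
theorem N13112 : nd 13112 = n45145 := ndS (p := 10964) (l := 8) rfl N10964 D45145
theorem N13113 : nd 13113 = n45146 := ndS (p := 10965) (l := 0) rfl N10965 D45146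
theorem N13114 : nd 13114 = n45147 := ndS (p := 10965) (l := 9) rfl N10965 D45147
theorem N13115 : nd 13115 = n45148 := ndS (p := 10966) (l := 8) rfl N10966 D45148
theorem N13116 : nd 13116 = n45152 := ndS (p := 10969) (l := 4) rfl N10969 D45152
theorem N13117 : nd 13117 = n45157 := ndS (p := 10970) (l := 9) rfl N10970 D45157
theorem N13118 : nd 13118 = n45158 := ndS (p := 10971) (l := 8) rfl N10971 D45158
theorem N13119 : nd 13119 = n45159 := ndS (p := 10972) (l := 1) rfl N10972 D45159
theorem N13120 : nd 13120 = n45160 := ndS (p := 10972) (l := 9) rfl N10972 D45160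
theorem N13121 : nd 13121 = n45162 := ndS (p := 10974) (l := 0) rfl N10974 D45162
theorem N13122 : nd 13122 = n45163 := ndS (p := 10974) (l := 9) rfl N10974 D45163
theorem N13123 : nd 13123 = n45164 := ndS (p := 10975) (l := 8) rfl N10975 D45164
theorem N13124 : nd 13124 = n45165 := ndS (p := 10977) (l := 9) rfl N10977 D45165
theorem N13125 : nd 13125 = n45166 := ndS (p := 10978) (l := 8) rfl N10978 D45166
theorem N13126 : nd 13126 = n45171 := ndS (p := 10980) (l := 5) rfl N10980 D45171
theorem N13127 : nd 13127 = n45187 := ndS (p := 10981) (l := 5) rfl N10981 D45187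
theorem N13128 : nd 13128 = n45189 := ndS (p := 10981) (l := 8) rfl N10981 D45189
theorem N13129 : nd 13129 = n45190 := ndS (p := 10982) (l := 3) rfl N10982 D45190
theorem N13130 : nd 13130 = n45191 := ndS (p := 10982) (l := 9) rfl N10982 D45191
theorem N13131 : nd 13131 = n45192 := ndS (p := 10983) (l := 7) rfl N10983 D45192
theorem N13132 : nd 13132 = n45193 := ndS (p := 10983) (l := 8) rfl N10983 D45193
theorem N13133 : nd 13133 = n45194 := ndS (p := 10984) (l := 8) rfl N10984 D45194
theorem N13134 : nd 13134 = n45195 := ndS (p := 10985) (l := 3) rfl N10985 D45195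
theorem N13135 : nd 13135 = n45196 := ndS (p := 10985) (l := 9) rfl N10985 D45196
theorem N13136 : nd 13136 = n45197 := ndS (p := 10986) (l := 2) rfl N10986 D45197
theorem N13137 : nd 13137 = n45199 := ndS (p := 10986) (l := 9) rfl N10986 D45199
theorem N13138 : nd 13138 = n45201 := ndS (p := 10988) (l := 9) rfl N10988 D45201
theorem N13139 : nd 13139 = n45210 := ndS (p := 10990) (l := 6) rfl N10990 D45210
theorem N13140 : nd 13140 = n45211 := ndS (p := 10990) (l := 8) rfl N10990 D45211
theorem N13141 : nd 13141 = n45212 := ndS (p := 10991) (l := 3) rfl N10991 D45212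
theorem N13142 : nd 13142 = n45213 := ndS (p := 10991) (l := 9) rfl N10991 D45213
theorem N13143 : nd 13143 = n45215 := ndS (p := 10992) (l := 9) rfl N10992 D45215
theorem N13144 : nd 13144 = n45216 := ndS (p := 10993) (l := 2) rfl N10993 D45216
theorem N13145 : nd 13145 = n45217 := ndS (p := 10993) (l := 9) rfl N10993 D45217
theorem N13146 : nd 13146 = n45218 := ndS (p := 10995) (l := 1) rfl N10995 D45218
theorem N13147 : nd 13147 = n45219 := ndS (p := 10995) (l := 9) rfl N10995 D45219
theorem N13148 : nd 13148 = n45220 := ndS (p := 10996) (l := 8) rfl N10996 D45220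
theorem N13149 : nd 13149 = n45223 := ndS (p := 10998) (l := 8) rfl N10998 D45223
theorem N13150 : nd 13150 = n45225 := ndS (p := 10999) (l := 3) rfl N10999 D45225
theorem N13151 : nd 13151 = n45226 := ndS (p := 10999) (l := 9) rfl N10999 D45226
theorem N13152 : nd 13152 = n45227 := ndS (p := 11000) (l := 2) rfl N11000 D45227
theorem N13153 : nd 13153 = n45228 := ndS (p := 11000) (l := 4) rfl N11000 D45228
theorem N13154 : nd 13154 = n45229 := ndS (p := 11000) (l := 9) rfl N11000 D45229
theorem N13155 : nd 13155 = n45230 := ndS (p := 11002) (l := 6) rfl N11002 D45230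
theorem N13156 : nd 13156 = n45231 := ndS (p := 11002) (l := 8) rfl N11002 D45231
theorem N13157 : nd 13157 = n45232 := ndS (p := 11003) (l := 3) rfl N11003 D45232
theorem N13158 : nd 13158 = n45233 := ndS (p := 11003) (l := 9) rfl N11003 D45233
theorem N13159 : nd 13159 = n45234 := ndS (p := 11004) (l := 3) rfl N11004 D45234
theorem N13160 : nd 13160 = n45235 := ndS (p := 11004) (l := 9) rfl N11004 D45235
theorem N13161 : nd 13161 = n45236 := ndS (p := 11005) (l := 2) rfl N11005 D45236
theorem N13162 : nd 13162 = n45237 := ndS (p := 11005) (l := 4) rfl N11005 D45237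
theorem N13163 : nd 13163 = n45238 := ndS (p := 11005) (l := 9) rfl N11005 D45238
theorem N13164 : nd 13164 = n45239 := ndS (p := 11007) (l := 1) rfl N11007 D45239
theorem N13165 : nd 13165 = n45240 := ndS (p := 11007) (l := 4) rfl N11007 D45240
theorem N13166 : nd 13166 = n45241 := ndS (p := 11007) (l := 9) rfl N11007 D45241
theorem N13167 : nd 13167 = n45243 := ndS (p := 11008) (l := 9) rfl N11008 D45243
theorem N13168 : nd 13168 = n45244 := ndS (p := 11009) (l := 8) rfl N11009 D45244
theorem N13169 : nd 13169 = n45246 := ndS (p := 11010) (l := 9) rfl N11010 D45246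
theorem N13170 : nd 13170 = n45247 := ndS (p := 11012) (l := 5) rfl N11012 D45247
theorem N13171 : nd 13171 = n45248 := ndS (p := 11012) (l := 9) rfl N11012 D45248
theorem N13172 : nd 13172 = n45259 := ndS (p := 11016) (l := 9) rfl N11016 D45259
theorem N13173 : nd 13173 = n45260 := ndS (p := 11017) (l := 2) rfl N11017 D45260
theorem N13174 : nd 13174 = n45261 := ndS (p := 11017) (l := 4) rfl N11017 D45261
theorem N13175 : nd 13175 = n45262 := ndS (p := 11017) (l := 9) rfl N11017 D45262
theorem N13176 : nd 13176 = n45266 := ndS (p := 11020) (l := 9) rfl N11020 D45266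
theorem N13177 : nd 13177 = n45267 := ndS (p := 11021) (l := 8) rfl N11021 D45267
theorem N13178 : nd 13178 = n45268 := ndS (p := 11022) (l := 0) rfl N11022 D45268
theorem N13179 : nd 13179 = n45269 := ndS (p := 11022) (l := 9) rfl N11022 D45269
theorem N13180 : nd 13180 = n45270 := ndS (p := 11023) (l := 8) rfl N11023 D45270
theorem N13181 : nd 13181 = n45279 := ndS (p := 11026) (l := 9) rfl N11026 D45279
theorem N13182 : nd 13182 = n45280 := ndS (p := 11027) (l := 8) rfl N11027 D45280
theorem N13183 : nd 13183 = n45287 := ndS (p := 11029) (l := 9) rfl N11029 D45287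
theorem N13184 : nd 13184 = n45288 := ndS (p := 11030) (l := 8) rfl N11030 D45288
theorem N13185 : nd 13185 = n45289 := ndS (p := 11031) (l := 3) rfl N11031 D45289
theorem N13186 : nd 13186 = n45296 := ndS (p := 11032) (l := 9) rfl N11032 D45296
theorem N13187 : nd 13187 = n45322 := ndS (p := 11034) (l := 4) rfl N11034 D45322
theorem N13188 : nd 13188 = n45324 := ndS (p := 11034) (l := 8) rfl N11034 D45324
theorem N13189 : nd 13189 = n45326 := ndS (p := 11035) (l := 3) rfl N11035 D45326
theorem N13190 : nd 13190 = n45327 := ndS (p := 11035) (l := 9) rfl N11035 D45327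
theorem N13191 : nd 13191 = n45328 := ndS (p := 11036) (l := 2) rfl N11036 D45328
theorem N13192 : nd 13192 = n45330 := ndS (p := 11036) (l := 9) rfl N11036 D45330
theorem N13193 : nd 13193 = n45331 := ndS (p := 11038) (l := 6) rfl N11038 D45331
theorem N13194 : nd 13194 = n45332 := ndS (p := 11038) (l := 8) rfl N11038 D45332
theorem N13195 : nd 13195 = n45333 := ndS (p := 11039) (l := 3) rfl N11039 D45333
theorem N13196 : nd 13196 = n45334 := ndS (p := 11039) (l := 9) rfl N11039 D45334
theorem N13197 : nd 13197 = n45335 := ndS (p := 11040) (l := 3) rfl N11040 D45335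
theorem N13198 : nd 13198 = n45336 := ndS (p := 11040) (l := 9) rfl N11040 D45336
theorem N13199 : nd 13199 = n45337 := ndS (p := 11041) (l := 2) rfl N11041 D45337
theorem N13200 : nd 13200 = n45339 := ndS (p := 11041) (l := 9) rfl N11041 D45339
theorem N13201 : nd 13201 = n45340 := ndS (p := 11043) (l := 1) rfl N11043 D45340
theorem N13202 : nd 13202 = n45342 := ndS (p := 11043) (l := 9) rfl N11043 D45342
theorem N13203 : nd 13203 = n45345 := ndS (p := 11044) (l := 8) rfl N11044 D45345
theorem N13204 : nd 13204 = n45358 := ndS (p := 11046) (l := 8) rfl N11046 D45358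
theorem N13205 : nd 13205 = n45359 := ndS (p := 11047) (l := 3) rfl N11047 D45359
theorem N13206 : nd 13206 = n45360 := ndS (p := 11047) (l := 9) rfl N11047 D45360
theorem N13207 : nd 13207 = n45361 := ndS (p := 11048) (l := 2) rfl N11048 D45361
theorem N13208 : nd 13208 = n45362 := ndS (p := 11048) (l := 4) rfl N11048 D45362
theorem N13209 : nd 13209 = n45363 := ndS (p := 11048) (l := 9) rfl N11048 D45363
theorem N13210 : nd 13210 = n45365 := ndS (p := 11050) (l := 9) rfl N11050 D45365
theorem N13211 : nd 13211 = n45367 := ndS (p := 11052) (l := 9) rfl N11052 D45367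
theorem N13212 : nd 13212 = n45368 := ndS (p := 11053) (l := 8) rfl N11053 D45368
theorem N13213 : nd 13213 = n45369 := ndS (p := 11054) (l := 0) rfl N11054 D45369
theorem N13214 : nd 13214 = n45370 := ndS (p := 11054) (l := 9) rfl N11054 D45370
theorem N13215 : nd 13215 = n45371 := ndS (p := 11055) (l := 8) rfl N11055 D45371
theorem N13216 : nd 13216 = n45374 := ndS (p := 11058) (l := 6) rfl N11058 D45374
theorem N13217 : nd 13217 = n45376 := ndS (p := 11059) (l := 3) rfl N11059 D45376
theorem N13218 : nd 13218 = n45377 := ndS (p := 11059) (l := 9) rfl N11059 D45377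
theorem N13219 : nd 13219 = n45380 := ndS (p := 11060) (l := 2) rfl N11060 D45380
theorem N13220 : nd 13220 = n45382 := ndS (p := 11060) (l := 9) rfl N11060 D45382
theorem N13221 : nd 13221 = n45383 := ndS (p := 11062) (l := 1) rfl N11062 D45383
theorem N13222 : nd 13222 = n45384 := ndS (p := 11062) (l := 4) rfl N11062 D45384
theorem N13223 : nd 13223 = n45385 := ndS (p := 11062) (l := 9) rfl N11062 D45385
theorem N13224 : nd 13224 = n45386 := ndS (p := 11063) (l := 5) rfl N11063 D45386
theorem N13225 : nd 13225 = n45387 := ndS (p := 11063) (l := 9) rfl N11063 D45387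
theorem N13226 : nd 13226 = n45388 := ndS (p := 11064) (l := 8) rfl N11064 D45388
theorem N13227 : nd 13227 = n45389 := ndS (p := 11065) (l := 8) rfl N11065 D45389
theorem N13228 : nd 13228 = n45390 := ndS (p := 11066) (l := 3) rfl N11066 D45390
theorem N13229 : nd 13229 = n45391 := ndS (p := 11066) (l := 9) rfl N11066 D45391
theorem N13230 : nd 13230 = n45392 := ndS (p := 11067) (l := 2) rfl N11067 D45392
theorem N13231 : nd 13231 = n45393 := ndS (p := 11067) (l := 4) rfl N11067 D45393
theorem N13232 : nd 13232 = n45394 := ndS (p := 11067) (l := 9) rfl N11067 D45394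
theorem N13233 : nd 13233 = n45395 := ndS (p := 11069) (l := 2) rfl N11069 D45395
theorem N13234 : nd 13234 = n45397 := ndS (p := 11069) (l := 9) rfl N11069 D45397
theorem N13235 : nd 13235 = n45398 := ndS (p := 11071) (l := 1) rfl N11071 D45398
theorem N13236 : nd 13236 = n45399 := ndS (p := 11071) (l := 4) rfl N11071 D45399
theorem N13237 : nd 13237 = n45400 := ndS (p := 11071) (l := 9) rfl N11071 D45400
theorem N13238 : nd 13238 = n45401 := ndS (p := 11072) (l := 5) rfl N11072 D45401
theorem N13239 : nd 13239 = n45402 := ndS (p := 11072) (l := 9) rfl N11072 D45402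
theorem N13240 : nd 13240 = n45403 := ndS (p := 11073) (l := 8) rfl N11073 D45403
theorem N13241 : nd 13241 = n45404 := ndS (p := 11074) (l := 0) rfl N11074 D45404
theorem N13242 : nd 13242 = n45405 := ndS (p := 11074) (l := 4) rfl N11074 D45405
theorem N13243 : nd 13243 = n45406 := ndS (p := 11074) (l := 9) rfl N11074 D45406
theorem N13244 : nd 13244 = n45407 := ndS (p := 11075) (l := 5) rfl N11075 D45407
theorem N13245 : nd 13245 = n45408 := ndS (p := 11075) (l := 9) rfl N11075 D45408
theorem N13246 : nd 13246 = n45409 := ndS (p := 11076) (l := 8) rfl N11076 D45409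
theorem N13247 : nd 13247 = n45410 := ndS (p := 11077) (l := 6) rfl N11077 D45410
theorem N13248 : nd 13248 = n45411 := ndS (p := 11077) (l := 9) rfl N11077 D45411
theorem N13249 : nd 13249 = n45412 := ndS (p := 11078) (l := 8) rfl N11078 D45412
theorem N13250 : nd 13250 = n45416 := ndS (p := 11081) (l := 6) rfl N11081 D45416
theorem N13251 : nd 13251 = n45417 := ndS (p := 11081) (l := 9) rfl N11081 D45417
theorem N13252 : nd 13252 = n45419 := ndS (p := 11083) (l := 7) rfl N11083 D45419
theorem N13253 : nd 13253 = n45420 := ndS (p := 11083) (l := 9) rfl N11083 D45420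
theorem N13254 : nd 13254 = n45423 := ndS (p := 11085) (l := 9) rfl N11085 D45423
theorem N13255 : nd 13255 = n45427 := ndS (p := 11087) (l := 3) rfl N11087 D45427
theorem N13256 : nd 13256 = n45428 := ndS (p := 11087) (l := 9) rfl N11087 D45428
theorem N13257 : nd 13257 = n45429 := ndS (p := 11088) (l := 2) rfl N11088 D45429
theorem N13258 : nd 13258 = n45430 := ndS (p := 11088) (l := 4) rfl N11088 D45430
theorem N13259 : nd 13259 = n45431 := ndS (p := 11088) (l := 9) rfl N11088 D45431
theorem N13260 : nd 13260 = n45432 := ndS (p := 11090) (l := 1) rfl N11090 D45432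
theorem N13261 : nd 13261 = n45433 := ndS (p := 11090) (l := 4) rfl N11090 D45433
theorem N13262 : nd 13262 = n45434 := ndS (p := 11090) (l := 9) rfl N11090 D45434
theorem N13263 : nd 13263 = n45435 := ndS (p := 11091) (l := 9) rfl N11091 D45435
theorem N13264 : nd 13264 = n45436 := ndS (p := 11092) (l := 8) rfl N11092 D45436
theorem N13265 : nd 13265 = n45437 := ndS (p := 11093) (l := 1) rfl N11093 D45437
theorem N13266 : nd 13266 = n45438 := ndS (p := 11093) (l := 9) rfl N11093 D45438
theorem N13267 : nd 13267 = n45439 := ndS (p := 11094) (l := 8) rfl N11094 D45439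
theorem N13268 : nd 13268 = n45440 := ndS (p := 11095) (l := 0) rfl N11095 D45440
theorem N13269 : nd 13269 = n45441 := ndS (p := 11095) (l := 9) rfl N11095 D45441
theorem N13270 : nd 13270 = n45442 := ndS (p := 11096) (l := 8) rfl N11096 D45442
theorem N13271 : nd 13271 = n45443 := ndS (p := 11098) (l := 9) rfl N11098 D45443
theorem N13272 : nd 13272 = n45444 := ndS (p := 11099) (l := 8) rfl N11099 D45444
theorem N13273 : nd 13273 = n45445 := ndS (p := 11100) (l := 3) rfl N11100 D45445
theorem N13274 : nd 13274 = n45448 := ndS (p := 11101) (l := 9) rfl N11101 D45448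
theorem N13275 : nd 13275 = n45449 := ndS (p := 11103) (l := 1) rfl N11103 D45449
theorem N13276 : nd 13276 = n45450 := ndS (p := 11103) (l := 4) rfl N11103 D45450
theorem N13277 : nd 13277 = n45451 := ndS (p := 11103) (l := 9) rfl N11103 D45451
theorem N13278 : nd 13278 = n45452 := ndS (p := 11104) (l := 9) rfl N11104 D45452
theorem N13279 : nd 13279 = n45453 := ndS (p := 11105) (l := 8) rfl N11105 D45453
theorem N13280 : nd 13280 = n45454 := ndS (p := 11106) (l := 0) rfl N11106 D45454
theorem N13281 : nd 13281 = n45455 := ndS (p := 11106) (l := 4) rfl N11106 D45455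
theorem N13282 : nd 13282 = n45456 := ndS (p := 11106) (l := 9) rfl N11106 D45456
theorem N13283 : nd 13283 = n45457 := ndS (p := 11107) (l := 3) rfl N11107 D45457
theorem N13284 : nd 13284 = n45458 := ndS (p := 11107) (l := 9) rfl N11107 D45458
theorem N13285 : nd 13285 = n45459 := ndS (p := 11108) (l := 8) rfl N11108 D45459
theorem N13286 : nd 13286 = n45460 := ndS (p := 11109) (l := 8) rfl N11109 D45460
theorem N13287 : nd 13287 = n45461 := ndS (p := 11111) (l := 0) rfl N11111 D45461
theorem N13288 : nd 13288 = n45462 := ndS (p := 11111) (l := 9) rfl N11111 D45462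
theorem N13289 : nd 13289 = n45463 := ndS (p := 11112) (l := 8) rfl N11112 D45463
theorem N13290 : nd 13290 = n45464 := ndS (p := 11114) (l := 9) rfl N11114 D45464
theorem N13291 : nd 13291 = n45465 := ndS (p := 11115) (l := 8) rfl N11115 D45465
theorem N13292 : nd 13292 = n45466 := ndS (p := 11116) (l := 3) rfl N11116 D45466
theorem N13293 : nd 13293 = n45467 := ndS (p := 11117) (l := 8) rfl N11117 D45467
theorem N13294 : nd 13294 = n45468 := ndS (p := 11118) (l := 3) rfl N11118 D45468
theorem N13295 : nd 13295 = n45469 := ndS (p := 11119) (l := 4) rfl N11119 D45469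
theorem N13296 : nd 13296 = n45511 := ndS (p := 11122) (l := 6) rfl N11122 D45511
theorem N13297 : nd 13297 = n45512 := ndS (p := 11122) (l := 8) rfl N11122 D45512
theorem N13298 : nd 13298 = n45513 := ndS (p := 11123) (l := 3) rfl N11123 D45513
theorem N13299 : nd 13299 = n45514 := ndS (p := 11123) (l := 9) rfl N11123 D45514
theorem N13300 : nd 13300 = n45515 := ndS (p := 11124) (l := 3) rfl N11124 D45515
theorem N13301 : nd 13301 = n45516 := ndS (p := 11124) (l := 9) rfl N11124 D45516
theorem N13302 : nd 13302 = n45519 := ndS (p := 11125) (l := 9) rfl N11125 D45519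
theorem N13303 : nd 13303 = n45525 := ndS (p := 11127) (l := 8) rfl N11127 D45525
theorem N13304 : nd 13304 = n45538 := ndS (p := 11129) (l := 8) rfl N11129 D45538
theorem N13305 : nd 13305 = n45540 := ndS (p := 11130) (l := 9) rfl N11130 D45540
theorem N13306 : nd 13306 = n45553 := ndS (p := 11133) (l := 8) rfl N11133 D45553
theorem N13307 : nd 13307 = n45554 := ndS (p := 11134) (l := 6) rfl N11134 D45554
theorem N13308 : nd 13308 = n45555 := ndS (p := 11134) (l := 8) rfl N11134 D45555
theorem N13309 : nd 13309 = n45556 := ndS (p := 11135) (l := 3) rfl N11135 D45556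
theorem N13310 : nd 13310 = n45557 := ndS (p := 11135) (l := 9) rfl N11135 D45557
theorem N13311 : nd 13311 = n45558 := ndS (p := 11136) (l := 3) rfl N11136 D45558
theorem N13312 : nd 13312 = n45559 := ndS (p := 11136) (l := 9) rfl N11136 D45559
theorem N13313 : nd 13313 = n45561 := ndS (p := 11137) (l := 4) rfl N11137 D45561
theorem N13314 : nd 13314 = n45562 := ndS (p := 11137) (l := 9) rfl N11137 D45562
theorem N13315 : nd 13315 = n45567 := ndS (p := 11139) (l := 9) rfl N11139 D45567
theorem N13316 : nd 13316 = n45568 := ndS (p := 11140) (l := 8) rfl N11140 D45568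
theorem N13317 : nd 13317 = n45569 := ndS (p := 11141) (l := 8) rfl N11141 D45569
theorem N13318 : nd 13318 = n45570 := ndS (p := 11142) (l := 3) rfl N11142 D45570
theorem N13319 : nd 13319 = n45571 := ndS (p := 11142) (l := 9) rfl N11142 D45571
theorem N13320 : nd 13320 = n45572 := ndS (p := 11143) (l := 2) rfl N11143 D45572
theorem N13321 : nd 13321 = n45573 := ndS (p := 11143) (l := 4) rfl N11143 D45573
theorem N13322 : nd 13322 = n45574 := ndS (p := 11143) (l := 9) rfl N11143 D45574
theorem N13323 : nd 13323 = n45575 := ndS (p := 11145) (l := 2) rfl N11145 D45575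
theorem N13324 : nd 13324 = n45576 := ndS (p := 11145) (l := 4) rfl N11145 D45576
theorem N13325 : nd 13325 = n45577 := ndS (p := 11145) (l := 9) rfl N11145 D45577
theorem N13326 : nd 13326 = n45578 := ndS (p := 11147) (l := 1) rfl N11147 D45578
theorem N13327 : nd 13327 = n45579 := ndS (p := 11147) (l := 4) rfl N11147 D45579
theorem N13328 : nd 13328 = n45580 := ndS (p := 11147) (l := 9) rfl N11147 D45580
theorem N13329 : nd 13329 = n45581 := ndS (p := 11148) (l := 5) rfl N11148 D45581
theorem N13330 : nd 13330 = n45582 := ndS (p := 11148) (l := 9) rfl N11148 D45582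
theorem N13331 : nd 13331 = n45583 := ndS (p := 11149) (l := 8) rfl N11149 D45583
theorem N13332 : nd 13332 = n45585 := ndS (p := 11150) (l := 4) rfl N11150 D45585
theorem N13333 : nd 13333 = n45586 := ndS (p := 11150) (l := 9) rfl N11150 D45586
theorem N13334 : nd 13334 = n45588 := ndS (p := 11151) (l := 9) rfl N11151 D45588
theorem N13335 : nd 13335 = n45589 := ndS (p := 11152) (l := 8) rfl N11152 D45589
theorem N13336 : nd 13336 = n45592 := ndS (p := 11153) (l := 8) rfl N11153 D45592
theorem N13337 : nd 13337 = n45593 := ndS (p := 11155) (l := 5) rfl N11155 D45593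
theorem N13338 : nd 13338 = n45594 := ndS (p := 11155) (l := 9) rfl N11155 D45594
theorem N13339 : nd 13339 = n45597 := ndS (p := 11157) (l := 9) rfl N11157 D45597
theorem N13340 : nd 13340 = n45607 := ndS (p := 11159) (l := 3) rfl N11159 D45607
theorem N13341 : nd 13341 = n45608 := ndS (p := 11159) (l := 9) rfl N11159 D45608
theorem N13342 : nd 13342 = n45609 := ndS (p := 11160) (l := 2) rfl N11160 D45609
theorem N13343 : nd 13343 = n45610 := ndS (p := 11160) (l := 4) rfl N11160 D45610
theorem N13344 : nd 13344 = n45611 := ndS (p := 11160) (l := 9) rfl N11160 D45611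
theorem N13345 : nd 13345 = n45612 := ndS (p := 11162) (l := 1) rfl N11162 D45612
theorem N13346 : nd 13346 = n45613 := ndS (p := 11162) (l := 4) rfl N11162 D45613
theorem N13347 : nd 13347 = n45614 := ndS (p := 11162) (l := 9) rfl N11162 D45614
theorem N13348 : nd 13348 = n45615 := ndS (p := 11163) (l := 9) rfl N11163 D45615
theorem N13349 : nd 13349 = n45617 := ndS (p := 11165) (l := 1) rfl N11165 D45617
theorem N13350 : nd 13350 = n45618 := ndS (p := 11165) (l := 9) rfl N11165 D45618
theorem N13351 : nd 13351 = n45620 := ndS (p := 11167) (l := 0) rfl N11167 D45620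
theorem N13352 : nd 13352 = n45621 := ndS (p := 11167) (l := 9) rfl N11167 D45621
theorem N13353 : nd 13353 = n45623 := ndS (p := 11169) (l := 9) rfl N11169 D45623
theorem N13354 : nd 13354 = n45628 := ndS (p := 11171) (l := 9) rfl N11171 D45628
theorem N13355 : nd 13355 = n45629 := ndS (p := 11173) (l := 1) rfl N11173 D45629
theorem N13356 : nd 13356 = n45631 := ndS (p := 11173) (l := 9) rfl N11173 D45631
theorem N13357 : nd 13357 = n45632 := ndS (p := 11174) (l := 9) rfl N11174 D45632
theorem N13358 : nd 13358 = n45633 := ndS (p := 11175) (l := 8) rfl N11175 D45633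
theorem N13359 : nd 13359 = n45634 := ndS (p := 11176) (l := 0) rfl N11176 D45634
theorem N13360 : nd 13360 = n45635 := ndS (p := 11176) (l := 4) rfl N11176 D45635
theorem N13361 : nd 13361 = n45636 := ndS (p := 11176) (l := 9) rfl N11176 D45636
theorem N13362 : nd 13362 = n45638 := ndS (p := 11177) (l := 9) rfl N11177 D45638
theorem N13363 : nd 13363 = n45639 := ndS (p := 11178) (l := 8) rfl N11178 D45639
theorem N13364 : nd 13364 = n45640 := ndS (p := 11179) (l := 8) rfl N11179 D45640
theorem N13365 : nd 13365 = n45641 := ndS (p := 11181) (l := 0) rfl N11181 D45641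
theorem N13366 : nd 13366 = n45642 := ndS (p := 11181) (l := 9) rfl N11181 D45642
theorem N13367 : nd 13367 = n45643 := ndS (p := 11182) (l := 8) rfl N11182 D45643
theorem N13368 : nd 13368 = n45644 := ndS (p := 11184) (l := 9) rfl N11184 D45644
theorem N13369 : nd 13369 = n45645 := ndS (p := 11185) (l := 8) rfl N11185 D45645
theorem N13370 : nd 13370 = n45646 := ndS (p := 11186) (l := 3) rfl N11186 D45646
theorem N13371 : nd 13371 = n45647 := ndS (p := 11187) (l := 8) rfl N11187 D45647
theorem N13372 : nd 13372 = n45648 := ndS (p := 11188) (l := 3) rfl N11188 D45648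
theorem N13373 : nd 13373 = n45649 := ndS (p := 11189) (l := 4) rfl N11189 D45649
theorem N13374 : nd 13374 = n45657 := ndS (p := 11190) (l := 8) rfl N11190 D45657
theorem N13375 : nd 13375 = n45658 := ndS (p := 11191) (l := 8) rfl N11191 D45658
theorem N13376 : nd 13376 = n45660 := ndS (p := 11192) (l := 9) rfl N11192 D45660
theorem N13377 : nd 13377 = n45664 := ndS (p := 11194) (l := 6) rfl N11194 D45664
theorem N13378 : nd 13378 = n45706 := ndS (p := 11195) (l := 8) rfl N11195 D45706
theorem N13379 : nd 13379 = n45707 := ndS (p := 11196) (l := 6) rfl N11196 D45707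
theorem N13380 : nd 13380 = n45708 := ndS (p := 11196) (l := 8) rfl N11196 D45708
theorem N13381 : nd 13381 = n45709 := ndS (p := 11197) (l := 3) rfl N11197 D45709
theorem N13382 : nd 13382 = n45710 := ndS (p := 11197) (l := 9) rfl N11197 D45710
theorem N13383 : nd 13383 = n45711 := ndS (p := 11198) (l := 3) rfl N11198 D45711
theorem N13384 : nd 13384 = n45712 := ndS (p := 11198) (l := 9) rfl N11198 D45712
theorem N13385 : nd 13385 = n45715 := ndS (p := 11199) (l := 9) rfl N11199 D45715
theorem N13386 : nd 13386 = n45721 := ndS (p := 11201) (l := 8) rfl N11201 D45721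
theorem N13387 : nd 13387 = n45722 := ndS (p := 11202) (l := 8) rfl N11202 D45722
theorem N13388 : nd 13388 = n45723 := ndS (p := 11203) (l := 3) rfl N11203 D45723
theorem N13389 : nd 13389 = n45724 := ndS (p := 11203) (l := 9) rfl N11203 D45724
theorem N13390 : nd 13390 = n45725 := ndS (p := 11204) (l := 2) rfl N11204 D45725
theorem N13391 : nd 13391 = n45726 := ndS (p := 11204) (l := 4) rfl N11204 D45726
theorem N13392 : nd 13392 = n45727 := ndS (p := 11204) (l := 9) rfl N11204 D45727
theorem N13393 : nd 13393 = n45728 := ndS (p := 11206) (l := 2) rfl N11206 D45728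
theorem N13394 : nd 13394 = n45730 := ndS (p := 11206) (l := 9) rfl N11206 D45730
theorem N13395 : nd 13395 = n45731 := ndS (p := 11208) (l := 1) rfl N11208 D45731
theorem N13396 : nd 13396 = n45733 := ndS (p := 11208) (l := 9) rfl N11208 D45733
theorem N13397 : nd 13397 = n45736 := ndS (p := 11209) (l := 8) rfl N11209 D45736
theorem N13398 : nd 13398 = n45737 := ndS (p := 11210) (l := 0) rfl N11210 D45737
theorem N13399 : nd 13399 = n45739 := ndS (p := 11210) (l := 9) rfl N11210 D45739
theorem N13400 : nd 13400 = n45742 := ndS (p := 11211) (l := 8) rfl N11211 D45742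
theorem N13401 : nd 13401 = n45760 := ndS (p := 11213) (l := 3) rfl N11213 D45760
theorem N13402 : nd 13402 = n45761 := ndS (p := 11213) (l := 9) rfl N11213 D45761
theorem N13403 : nd 13403 = n45762 := ndS (p := 11214) (l := 2) rfl N11214 D45762
theorem N13404 : nd 13404 = n45763 := ndS (p := 11214) (l := 4) rfl N11214 D45763
theorem N13405 : nd 13405 = n45764 := ndS (p := 11214) (l := 9) rfl N11214 D45764
theorem N13406 : nd 13406 = n45765 := ndS (p := 11216) (l := 1) rfl N11216 D45765
theorem N13407 : nd 13407 = n45766 := ndS (p := 11216) (l := 4) rfl N11216 D45766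
theorem N13408 : nd 13408 = n45767 := ndS (p := 11216) (l := 9) rfl N11216 D45767
theorem N13409 : nd 13409 = n45768 := ndS (p := 11217) (l := 9) rfl N11217 D45768
theorem N13410 : nd 13410 = n45770 := ndS (p := 11219) (l := 1) rfl N11219 D45770
theorem N13411 : nd 13411 = n45771 := ndS (p := 11219) (l := 9) rfl N11219 D45771
theorem N13412 : nd 13412 = n45773 := ndS (p := 11221) (l := 0) rfl N11221 D45773
theorem N13413 : nd 13413 = n45774 := ndS (p := 11221) (l := 9) rfl N11221 D45774
theorem N13414 : nd 13414 = n45776 := ndS (p := 11223) (l := 9) rfl N11223 D45776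
theorem N13415 : nd 13415 = n45779 := ndS (p := 11225) (l := 6) rfl N11225 D45779
theorem N13416 : nd 13416 = n45780 := ndS (p := 11225) (l := 8) rfl N11225 D45780
theorem N13417 : nd 13417 = n45781 := ndS (p := 11226) (l := 3) rfl N11226 D45781
theorem N13418 : nd 13418 = n45782 := ndS (p := 11226) (l := 9) rfl N11226 D45782
theorem N13419 : nd 13419 = n45783 := ndS (p := 11227) (l := 8) rfl N11227 D45783
theorem N13420 : nd 13420 = n45784 := ndS (p := 11228) (l := 3) rfl N11228 D45784
theorem N13421 : nd 13421 = n45785 := ndS (p := 11228) (l := 9) rfl N11228 D45785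
theorem N13422 : nd 13422 = n45786 := ndS (p := 11229) (l := 2) rfl N11229 D45786
theorem N13423 : nd 13423 = n45787 := ndS (p := 11229) (l := 4) rfl N11229 D45787
theorem N13424 : nd 13424 = n45788 := ndS (p := 11229) (l := 9) rfl N11229 D45788
theorem N13425 : nd 13425 = n45789 := ndS (p := 11231) (l := 2) rfl N11231 D45789
theorem N13426 : nd 13426 = n45790 := ndS (p := 11231) (l := 4) rfl N11231 D45790
theorem N13427 : nd 13427 = n45791 := ndS (p := 11231) (l := 9) rfl N11231 D45791
theorem N13428 : nd 13428 = n45792 := ndS (p := 11233) (l := 1) rfl N11233 D45792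
theorem N13429 : nd 13429 = n45793 := ndS (p := 11233) (l := 4) rfl N11233 D45793
theorem N13430 : nd 13430 = n45794 := ndS (p := 11233) (l := 9) rfl N11233 D45794
theorem N13431 : nd 13431 = n45795 := ndS (p := 11234) (l := 5) rfl N11234 D45795
theorem N13432 : nd 13432 = n45796 := ndS (p := 11234) (l := 9) rfl N11234 D45796
theorem N13433 : nd 13433 = n45797 := ndS (p := 11235) (l := 8) rfl N11235 D45797
theorem N13434 : nd 13434 = n45798 := ndS (p := 11236) (l := 0) rfl N11236 D45798
theorem N13435 : nd 13435 = n45799 := ndS (p := 11236) (l := 4) rfl N11236 D45799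
theorem N13436 : nd 13436 = n45800 := ndS (p := 11236) (l := 9) rfl N11236 D45800
theorem N13437 : nd 13437 = n45801 := ndS (p := 11237) (l := 5) rfl N11237 D45801
theorem N13438 : nd 13438 = n45802 := ndS (p := 11237) (l := 9) rfl N11237 D45802
theorem N13439 : nd 13439 = n45803 := ndS (p := 11238) (l := 8) rfl N11238 D45803
theorem N13440 : nd 13440 = n45804 := ndS (p := 11239) (l := 6) rfl N11239 D45804
theorem N13441 : nd 13441 = n45805 := ndS (p := 11239) (l := 9) rfl N11239 D45805
theorem N13442 : nd 13442 = n45806 := ndS (p := 11240) (l := 8) rfl N11240 D45806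
theorem N13443 : nd 13443 = n45807 := ndS (p := 11242) (l := 3) rfl N11242 D45807
theorem N13444 : nd 13444 = n45808 := ndS (p := 11242) (l := 9) rfl N11242 D45808
theorem N13445 : nd 13445 = n45809 := ndS (p := 11243) (l := 2) rfl N11243 D45809
theorem N13446 : nd 13446 = n45810 := ndS (p := 11243) (l := 4) rfl N11243 D45810
theorem N13447 : nd 13447 = n45811 := ndS (p := 11243) (l := 9) rfl N11243 D45811
theorem N13448 : nd 13448 = n45812 := ndS (p := 11245) (l := 1) rfl N11245 D45812
theorem N13449 : nd 13449 = n45813 := ndS (p := 11245) (l := 4) rfl N11245 D45813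
theorem N13450 : nd 13450 = n45814 := ndS (p := 11245) (l := 9) rfl N11245 D45814
theorem N13451 : nd 13451 = n45815 := ndS (p := 11246) (l := 5) rfl N11246 D45815
theorem N13452 : nd 13452 = n45816 := ndS (p := 11246) (l := 9) rfl N11246 D45816
theorem N13453 : nd 13453 = n45817 := ndS (p := 11247) (l := 8) rfl N11247 D45817
theorem N13454 : nd 13454 = n45818 := ndS (p := 11248) (l := 1) rfl N11248 D45818
theorem N13455 : nd 13455 = n45819 := ndS (p := 11248) (l := 4) rfl N11248 D45819
theorem N13456 : nd 13456 = n45820 := ndS (p := 11248) (l := 9) rfl N11248 D45820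
theorem N13457 : nd 13457 = n45821 := ndS (p := 11249) (l := 5) rfl N11249 D45821
theorem N13458 : nd 13458 = n45822 := ndS (p := 11249) (l := 9) rfl N11249 D45822
theorem N13459 : nd 13459 = n45823 := ndS (p := 11250) (l := 8) rfl N11250 D45823
theorem N13460 : nd 13460 = n45824 := ndS (p := 11251) (l := 0) rfl N11251 D45824
theorem N13461 : nd 13461 = n45825 := ndS (p := 11251) (l := 4) rfl N11251 D45825
theorem N13462 : nd 13462 = n45826 := ndS (p := 11251) (l := 9) rfl N11251 D45826
theorem N13463 : nd 13463 = n45827 := ndS (p := 11252) (l := 5) rfl N11252 D45827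
theorem N13464 : nd 13464 = n45828 := ndS (p := 11252) (l := 9) rfl N11252 D45828
theorem N13465 : nd 13465 = n45829 := ndS (p := 11253) (l := 8) rfl N11253 D45829
theorem N13466 : nd 13466 = n45830 := ndS (p := 11254) (l := 6) rfl N11254 D45830
theorem N13467 : nd 13467 = n45831 := ndS (p := 11254) (l := 9) rfl N11254 D45831
theorem N13468 : nd 13468 = n45832 := ndS (p := 11255) (l := 8) rfl N11255 D45832
theorem N13469 : nd 13469 = n45833 := ndS (p := 11257) (l := 4) rfl N11257 D45833
theorem N13470 : nd 13470 = n45834 := ndS (p := 11257) (l := 9) rfl N11257 D45834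
theorem N13471 : nd 13471 = n45835 := ndS (p := 11258) (l := 5) rfl N11258 D45835
theorem N13472 : nd 13472 = n45836 := ndS (p := 11258) (l := 9) rfl N11258 D45836
theorem N13473 : nd 13473 = n45837 := ndS (p := 11259) (l := 8) rfl N11259 D45837
theorem N13474 : nd 13474 = n45838 := ndS (p := 11260) (l := 6) rfl N11260 D45838
theorem N13475 : nd 13475 = n45839 := ndS (p := 11260) (l := 9) rfl N11260 D45839
theorem N13476 : nd 13476 = n45840 := ndS (p := 11261) (l := 8) rfl N11261 D45840
theorem N13477 : nd 13477 = n45841 := ndS (p := 11262) (l := 3) rfl N11262 D45841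
theorem N13478 : nd 13478 = n45842 := ndS (p := 11263) (l := 7) rfl N11263 D45842
theorem N13479 : nd 13479 = n45843 := ndS (p := 11263) (l := 9) rfl N11263 D45843
theorem N13480 : nd 13480 = n45844 := ndS (p := 11264) (l := 8) rfl N11264 D45844
theorem N13481 : nd 13481 = n45846 := ndS (p := 11266) (l := 6) rfl N11266 D45846
theorem N13482 : nd 13482 = n45847 := ndS (p := 11266) (l := 9) rfl N11266 D45847
theorem N13483 : nd 13483 = n45849 := ndS (p := 11268) (l := 7) rfl N11268 D45849
theorem N13484 : nd 13484 = n45850 := ndS (p := 11268) (l := 9) rfl N11268 D45850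
theorem N13485 : nd 13485 = n45853 := ndS (p := 11270) (l := 9) rfl N11270 D45853
theorem N13486 : nd 13486 = n45862 := ndS (p := 11273) (l := 2) rfl N11273 D45862
theorem N13487 : nd 13487 = n45864 := ndS (p := 11273) (l := 9) rfl N11273 D45864
theorem N13488 : nd 13488 = n45865 := ndS (p := 11275) (l := 1) rfl N11275 D45865
theorem N13489 : nd 13489 = n45866 := ndS (p := 11275) (l := 4) rfl N11275 D45866
theorem N13490 : nd 13490 = n45867 := ndS (p := 11275) (l := 9) rfl N11275 D45867
theorem N13491 : nd 13491 = n45868 := ndS (p := 11276) (l := 9) rfl N11276 D45868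
theorem N13492 : nd 13492 = n45869 := ndS (p := 11277) (l := 8) rfl N11277 D45869
theorem N13493 : nd 13493 = n45870 := ndS (p := 11278) (l := 0) rfl N11278 D45870
theorem N13494 : nd 13494 = n45871 := ndS (p := 11278) (l := 4) rfl N11278 D45871
theorem N13495 : nd 13495 = n45872 := ndS (p := 11278) (l := 9) rfl N11278 D45872
theorem N13496 : nd 13496 = n45873 := ndS (p := 11279) (l := 3) rfl N11279 D45873
theorem N13497 : nd 13497 = n45874 := ndS (p := 11279) (l := 9) rfl N11279 D45874
theorem N13498 : nd 13498 = n45875 := ndS (p := 11280) (l := 8) rfl N11280 D45875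
theorem N13499 : nd 13499 = n45876 := ndS (p := 11281) (l := 8) rfl N11281 D45876
theorem N13500 : nd 13500 = n45877 := ndS (p := 11283) (l := 0) rfl N11283 D45877
theorem N13501 : nd 13501 = n45878 := ndS (p := 11283) (l := 9) rfl N11283 D45878
theorem N13502 : nd 13502 = n45879 := ndS (p := 11284) (l := 8) rfl N11284 D45879
theorem N13503 : nd 13503 = n45880 := ndS (p := 11286) (l := 9) rfl N11286 D45880
theorem N13504 : nd 13504 = n45881 := ndS (p := 11287) (l := 8) rfl N11287 D45881
theorem N13505 : nd 13505 = n45882 := ndS (p := 11288) (l := 3) rfl N11288 D45882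
theorem N13506 : nd 13506 = n45883 := ndS (p := 11289) (l := 8) rfl N11289 D45883
theorem N13507 : nd 13507 = n45884 := ndS (p := 11290) (l := 3) rfl N11290 D45884
theorem N13508 : nd 13508 = n45885 := ndS (p := 11291) (l := 4) rfl N11291 D45885
theorem N13509 : nd 13509 = n45900 := ndS (p := 11297) (l := 9) rfl N11297 D45900
theorem N13510 : nd 13510 = n45909 := ndS (p := 11301) (l := 9) rfl N11301 D45909
theorem N13511 : nd 13511 = n45912 := ndS (p := 11303) (l := 8) rfl N11303 D45912
theorem N13512 : nd 13512 = n45913 := ndS (p := 11304) (l := 3) rfl N11304 D45913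
theorem N13513 : nd 13513 = n46034 := ndS (p := 11309) (l := 6) rfl N11309 D46034
theorem N13514 : nd 13514 = n46035 := ndS (p := 11309) (l := 8) rfl N11309 D46035
theorem N13515 : nd 13515 = n46036 := ndS (p := 11310) (l := 3) rfl N11310 D46036
theorem N13516 : nd 13516 = n46037 := ndS (p := 11310) (l := 9) rfl N11310 D46037
theorem N13517 : nd 13517 = n46038 := ndS (p := 11311) (l := 8) rfl N11311 D46038
theorem N13518 : nd 13518 = n46040 := ndS (p := 11312) (l := 9) rfl N11312 D46040
theorem N13519 : nd 13519 = n46106 := ndS (p := 11315) (l := 2) rfl N11315 D46106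
theorem N13520 : nd 13520 = n46107 := ndS (p := 11315) (l := 4) rfl N11315 D46107
theorem N13521 : nd 13521 = n46109 := ndS (p := 11316) (l := 1) rfl N11316 D46109
theorem N13522 : nd 13522 = n46110 := ndS (p := 11316) (l := 4) rfl N11316 D46110
theorem N13523 : nd 13523 = n46121 := ndS (p := 11320) (l := 0) rfl N11320 D46121
theorem N13524 : nd 13524 = n46147 := ndS (p := 11328) (l := 8) rfl N11328 D46147
theorem N13525 : nd 13525 = n46153 := ndS (p := 11331) (l := 9) rfl N11331 D46153
theorem N13526 : nd 13526 = n46154 := ndS (p := 11332) (l := 8) rfl N11332 D46154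
theorem N13527 : nd 13527 = n46156 := ndS (p := 11334) (l := 8) rfl N11334 D46156
theorem N13528 : nd 13528 = n46157 := ndS (p := 11335) (l := 3) rfl N11335 D46157
theorem N13529 : nd 13529 = n46201 := ndS (p := 11340) (l := 3) rfl N11340 D46201
theorem N13530 : nd 13530 = n46202 := ndS (p := 11340) (l := 9) rfl N11340 D46202
theorem N13531 : nd 13531 = n46205 := ndS (p := 11341) (l := 9) rfl N11341 D46205
theorem N13532 : nd 13532 = n46236 := ndS (p := 11344) (l := 2) rfl N11344 D46236
theorem N13533 : nd 13533 = n46239 := ndS (p := 11345) (l := 1) rfl N11345 D46239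
theorem N13534 : nd 13534 = n46240 := ndS (p := 11345) (l := 4) rfl N11345 D46240
theorem N13535 : nd 13535 = n46244 := ndS (p := 11347) (l := 0) rfl N11347 D46244
theorem N13536 : nd 13536 = n46245 := ndS (p := 11347) (l := 4) rfl N11347 D46245
theorem N13537 : nd 13537 = n46247 := ndS (p := 11348) (l := 3) rfl N11348 D46247
theorem N13538 : nd 13538 = n46251 := ndS (p := 11349) (l := 0) rfl N11349 D46251
theorem N13539 : nd 13539 = n46262 := ndS (p := 11351) (l := 3) rfl N11351 D46262
theorem N13540 : nd 13540 = n46263 := ndS (p := 11351) (l := 9) rfl N11351 D46263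
theorem N13541 : nd 13541 = n46264 := ndS (p := 11352) (l := 2) rfl N11352 D46264
theorem N13542 : nd 13542 = n46265 := ndS (p := 11352) (l := 4) rfl N11352 D46265
theorem N13543 : nd 13543 = n46266 := ndS (p := 11352) (l := 9) rfl N11352 D46266
theorem N13544 : nd 13544 = n46267 := ndS (p := 11354) (l := 3) rfl N11354 D46267
theorem N13545 : nd 13545 = n46268 := ndS (p := 11354) (l := 9) rfl N11354 D46268
theorem N13546 : nd 13546 = n46269 := ndS (p := 11355) (l := 2) rfl N11355 D46269
theorem N13547 : nd 13547 = n46270 := ndS (p := 11355) (l := 4) rfl N11355 D46270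
theorem N13548 : nd 13548 = n46271 := ndS (p := 11355) (l := 9) rfl N11355 D46271
theorem N13549 : nd 13549 = n46272 := ndS (p := 11357) (l := 1) rfl N11357 D46272
theorem N13550 : nd 13550 = n46273 := ndS (p := 11357) (l := 4) rfl N11357 D46273
theorem N13551 : nd 13551 = n46274 := ndS (p := 11357) (l := 9) rfl N11357 D46274
theorem N13552 : nd 13552 = n46275 := ndS (p := 11358) (l := 9) rfl N11358 D46275
theorem N13553 : nd 13553 = n46277 := ndS (p := 11360) (l := 1) rfl N11360 D46277
theorem N13554 : nd 13554 = n46278 := ndS (p := 11360) (l := 9) rfl N11360 D46278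
theorem N13555 : nd 13555 = n46280 := ndS (p := 11362) (l := 0) rfl N11362 D46280
theorem N13556 : nd 13556 = n46281 := ndS (p := 11362) (l := 9) rfl N11362 D46281
theorem N13557 : nd 13557 = n46283 := ndS (p := 11364) (l := 9) rfl N11364 D46283
theorem N13558 : nd 13558 = n46286 := ndS (p := 11366) (l := 2) rfl N11366 D46286
theorem N13559 : nd 13559 = n46289 := ndS (p := 11367) (l := 1) rfl N11367 D46289
theorem N13560 : nd 13560 = n46290 := ndS (p := 11367) (l := 4) rfl N11367 D46290
theorem N13561 : nd 13561 = n46294 := ndS (p := 11369) (l := 0) rfl N11369 D46294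
theorem N13562 : nd 13562 = n46295 := ndS (p := 11369) (l := 4) rfl N11369 D46295
theorem N13563 : nd 13563 = n46297 := ndS (p := 11370) (l := 3) rfl N11370 D46297
theorem N13564 : nd 13564 = n46301 := ndS (p := 11371) (l := 0) rfl N11371 D46301
theorem N13565 : nd 13565 = n46328 := ndS (p := 11378) (l := 8) rfl N11378 D46328
theorem N13566 : nd 13566 = n46331 := ndS (p := 11379) (l := 3) rfl N11379 D46331
theorem N13567 : nd 13567 = n46335 := ndS (p := 11381) (l := 3) rfl N11381 D46335
theorem N13568 : nd 13568 = n46336 := ndS (p := 11382) (l := 8) rfl N11382 D46336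
theorem N13569 : nd 13569 = n46337 := ndS (p := 11383) (l := 3) rfl N11383 D46337
theorem N13570 : nd 13570 = n46338 := ndS (p := 11384) (l := 4) rfl N11384 D46338
theorem N13571 : nd 13571 = n46341 := ndS (p := 11390) (l := 8) rfl N11390 D46341
theorem N13572 : nd 13572 = n46342 := ndS (p := 11391) (l := 8) rfl N11391 D46342
theorem N13573 : nd 13573 = n46343 := ndS (p := 11393) (l := 4) rfl N11393 D46343
theorem N13574 : nd 13574 = n46344 := ndS (p := 11393) (l := 9) rfl N11393 D46344
theorem N13575 : nd 13575 = n46345 := ndS (p := 11394) (l := 5) rfl N11394 D46345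
theorem N13576 : nd 13576 = n46346 := ndS (p := 11394) (l := 9) rfl N11394 D46346
theorem N13577 : nd 13577 = n46347 := ndS (p := 11396) (l := 9) rfl N11396 D46347
theorem N13578 : nd 13578 = n46348 := ndS (p := 11397) (l := 8) rfl N11397 D46348
theorem N13579 : nd 13579 = n46349 := ndS (p := 11401) (l := 7) rfl N11401 D46349
theorem N13580 : nd 13580 = n46350 := ndS (p := 11404) (l := 9) rfl N11404 D46350
theorem N13581 : nd 13581 = n46351 := ndS (p := 11405) (l := 8) rfl N11405 D46351
theorem N13582 : nd 13582 = n46352 := ndS (p := 11406) (l := 8) rfl N11406 D46352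
theorem N13583 : nd 13583 = n46353 := ndS (p := 11407) (l := 9) rfl N11407 D46353
theorem N13584 : nd 13584 = n46354 := ndS (p := 11408) (l := 8) rfl N11408 D46354
theorem N13585 : nd 13585 = n46355 := ndS (p := 11410) (l := 9) rfl N11410 D46355
theorem N13586 : nd 13586 = n46356 := ndS (p := 11411) (l := 8) rfl N11411 D46356
theorem N13587 : nd 13587 = n46357 := ndS (p := 11412) (l := 3) rfl N11412 D46357
theorem N13588 : nd 13588 = n46358 := ndS (p := 11413) (l := 9) rfl N11413 D46358
theorem N13589 : nd 13589 = n46359 := ndS (p := 11414) (l := 9) rfl N11414 D46359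
theorem N13590 : nd 13590 = n46360 := ndS (p := 11415) (l := 8) rfl N11415 D46360
theorem N13591 : nd 13591 = n46361 := ndS (p := 11416) (l := 9) rfl N11416 D46361
theorem N13592 : nd 13592 = n46362 := ndS (p := 11417) (l := 9) rfl N11417 D46362
theorem N13593 : nd 13593 = n46363 := ndS (p := 11418) (l := 8) rfl N11418 D46363
theorem N13594 : nd 13594 = n46364 := ndS (p := 11419) (l := 8) rfl N11419 D46364
theorem N13595 : nd 13595 = n46365 := ndS (p := 11421) (l := 9) rfl N11421 D46365
theorem N13596 : nd 13596 = n46366 := ndS (p := 11422) (l := 8) rfl N11422 D46366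
theorem N13597 : nd 13597 = n46367 := ndS (p := 11424) (l := 9) rfl N11424 D46367
theorem N13598 : nd 13598 = n46368 := ndS (p := 11425) (l := 8) rfl N11425 D46368
theorem N13599 : nd 13599 = n46369 := ndS (p := 11426) (l := 3) rfl N11426 D46369
theorem N13600 : nd 13600 = n46370 := ndS (p := 11427) (l := 8) rfl N11427 D46370
theorem N13601 : nd 13601 = n46371 := ndS (p := 11428) (l := 3) rfl N11428 D46371
theorem N13602 : nd 13602 = n46372 := ndS (p := 11429) (l := 4) rfl N11429 D46372
theorem N13603 : nd 13603 = n46373 := ndS (p := 11430) (l := 8) rfl N11430 D46373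
theorem N13604 : nd 13604 = n46374 := ndS (p := 11432) (l := 9) rfl N11432 D46374
theorem N13605 : nd 13605 = n46375 := ndS (p := 11433) (l := 8) rfl N11433 D46375
theorem N13606 : nd 13606 = n46376 := ndS (p := 11434) (l := 8) rfl N11434 D46376
theorem N13607 : nd 13607 = n46377 := ndS (p := 11435) (l := 8) rfl N11435 D46377
theorem N13608 : nd 13608 = n46378 := ndS (p := 11437) (l := 9) rfl N11437 D46378
theorem N13609 : nd 13609 = n46379 := ndS (p := 11438) (l := 8) rfl N11438 D46379
theorem N13610 : nd 13610 = n46380 := ndS (p := 11439) (l := 3) rfl N11439 D46380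
theorem N13611 : nd 13611 = n46381 := ndS (p := 11440) (l := 4) rfl N11440 D46381
theorem N13612 : nd 13612 = n46382 := ndS (p := 11440) (l := 9) rfl N11440 D46382
theorem N13613 : nd 13613 = n46383 := ndS (p := 11441) (l := 3) rfl N11441 D46383
theorem N13614 : nd 13614 = n46384 := ndS (p := 11441) (l := 5) rfl N11441 D46384
theorem N13615 : nd 13615 = n46385 := ndS (p := 11441) (l := 9) rfl N11441 D46385
theorem N13616 : nd 13616 = n46386 := ndS (p := 11443) (l := 6) rfl N11443 D46386
theorem N13617 : nd 13617 = n46387 := ndS (p := 11445) (l := 4) rfl N11445 D46387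
theorem N13618 : nd 13618 = n46388 := ndS (p := 11445) (l := 9) rfl N11445 D46388
theorem N13619 : nd 13619 = n46389 := ndS (p := 11446) (l := 5) rfl N11446 D46389
theorem N13620 : nd 13620 = n46390 := ndS (p := 11446) (l := 9) rfl N11446 D46390
theorem N13621 : nd 13621 = n46391 := ndS (p := 11448) (l := 6) rfl N11448 D46391
theorem N13622 : nd 13622 = n46392 := ndS (p := 11448) (l := 9) rfl N11448 D46392
theorem N13623 : nd 13623 = n46393 := ndS (p := 11449) (l := 8) rfl N11449 D46393
theorem N13624 : nd 13624 = n46394 := ndS (p := 11451) (l := 4) rfl N11451 D46394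
theorem N13625 : nd 13625 = n46395 := ndS (p := 11451) (l := 9) rfl N11451 D46395
theorem N13626 : nd 13626 = n46396 := ndS (p := 11452) (l := 5) rfl N11452 D46396
theorem N13627 : nd 13627 = n46397 := ndS (p := 11452) (l := 9) rfl N11452 D46397
theorem N13628 : nd 13628 = n46398 := ndS (p := 11453) (l := 8) rfl N11453 D46398
theorem N13629 : nd 13629 = n46399 := ndS (p := 11454) (l := 6) rfl N11454 D46399
theorem N13630 : nd 13630 = n46400 := ndS (p := 11454) (l := 9) rfl N11454 D46400
theorem N13631 : nd 13631 = n46401 := ndS (p := 11455) (l := 8) rfl N11455 D46401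
theorem N13632 : nd 13632 = n46402 := ndS (p := 11456) (l := 3) rfl N11456 D46402
theorem N13633 : nd 13633 = n46403 := ndS (p := 11457) (l := 7) rfl N11457 D46403
theorem N13634 : nd 13634 = n46404 := ndS (p := 11457) (l := 9) rfl N11457 D46404
theorem N13635 : nd 13635 = n46405 := ndS (p := 11458) (l := 8) rfl N11458 D46405
theorem N13636 : nd 13636 = n46406 := ndS (p := 11460) (l := 9) rfl N11460 D46406
theorem N13637 : nd 13637 = n46407 := ndS (p := 11462) (l := 7) rfl N11462 D46407
theorem N13638 : nd 13638 = n46408 := ndS (p := 11462) (l := 9) rfl N11462 D46408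
theorem N13639 : nd 13639 = n46409 := ndS (p := 11466) (l := 8) rfl N11466 D46409
theorem N13640 : nd 13640 = n46410 := ndS (p := 11467) (l := 4) rfl N11467 D46410
theorem N13641 : nd 13641 = n46411 := ndS (p := 11467) (l := 9) rfl N11467 D46411
theorem N13642 : nd 13642 = n46412 := ndS (p := 11468) (l := 3) rfl N11468 D46412
theorem N13643 : nd 13643 = n46413 := ndS (p := 11468) (l := 9) rfl N11468 D46413
theorem N13644 : nd 13644 = n46414 := ndS (p := 11469) (l := 8) rfl N11469 D46414
theorem N13645 : nd 13645 = n46415 := ndS (p := 11470) (l := 8) rfl N11470 D46415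
theorem N13646 : nd 13646 = n46416 := ndS (p := 11472) (l := 9) rfl N11472 D46416
theorem N13647 : nd 13647 = n46417 := ndS (p := 11473) (l := 8) rfl N11473 D46417
theorem N13648 : nd 13648 = n46418 := ndS (p := 11475) (l := 9) rfl N11475 D46418
theorem N13649 : nd 13649 = n46419 := ndS (p := 11476) (l := 8) rfl N11476 D46419
theorem N13650 : nd 13650 = n46420 := ndS (p := 11477) (l := 3) rfl N11477 D46420
theorem N13651 : nd 13651 = n46421 := ndS (p := 11478) (l := 8) rfl N11478 D46421
theorem N13652 : nd 13652 = n46422 := ndS (p := 11479) (l := 3) rfl N11479 D46422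
theorem N13653 : nd 13653 = n46423 := ndS (p := 11480) (l := 4) rfl N11480 D46423
theorem N13654 : nd 13654 = n46424 := ndS (p := 11481) (l := 9) rfl N11481 D46424
theorem N13655 : nd 13655 = n46425 := ndS (p := 11482) (l := 8) rfl N11482 D46425
theorem N13656 : nd 13656 = n46426 := ndS (p := 11484) (l := 4) rfl N11484 D46426
theorem N13657 : nd 13657 = n46427 := ndS (p := 11484) (l := 9) rfl N11484 D46427
theorem N13658 : nd 13658 = n46428 := ndS (p := 11485) (l := 9) rfl N11485 D46428
theorem N13659 : nd 13659 = n46429 := ndS (p := 11486) (l := 8) rfl N11486 D46429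
theorem N13660 : nd 13660 = n46430 := ndS (p := 11487) (l := 8) rfl N11487 D46430
theorem N13661 : nd 13661 = n46431 := ndS (p := 11488) (l := 3) rfl N11488 D46431
theorem N13662 : nd 13662 = n46432 := ndS (p := 11490) (l := 9) rfl N11490 D46432
theorem N13663 : nd 13663 = n46433 := ndS (p := 11491) (l := 8) rfl N11491 D46433
theorem N13664 : nd 13664 = n46434 := ndS (p := 11492) (l := 3) rfl N11492 D46434
theorem N13665 : nd 13665 = n46435 := ndS (p := 11493) (l := 8) rfl N11493 D46435
theorem N13666 : nd 13666 = n46436 := ndS (p := 11494) (l := 3) rfl N11494 D46436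
theorem N13667 : nd 13667 = n46437 := ndS (p := 11495) (l := 4) rfl N11495 D46437
theorem N13668 : nd 13668 = n46438 := ndS (p := 11496) (l := 3) rfl N11496 D46438
theorem N13669 : nd 13669 = n46439 := ndS (p := 11497) (l := 2) rfl N11497 D46439
theorem N13670 : nd 13670 = n46440 := ndS (p := 11497) (l := 4) rfl N11497 D46440
theorem N13671 : nd 13671 = n46441 := ndS (p := 11498) (l := 5) rfl N11498 D46441
theorem N13672 : nd 13672 = n46442 := ndS (p := 11499) (l := 1) rfl N11499 D46442
theorem N13673 : nd 13673 = n46443 := ndS (p := 11499) (l := 9) rfl N11499 D46443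
theorem N13674 : nd 13674 = n46444 := ndS (p := 11500) (l := 8) rfl N11500 D46444
theorem N13675 : nd 13675 = n46445 := ndS (p := 11501) (l := 1) rfl N11501 D46445
theorem N13676 : nd 13676 = n46446 := ndS (p := 11501) (l := 9) rfl N11501 D46446
theorem N13677 : nd 13677 = n46447 := ndS (p := 11502) (l := 8) rfl N11502 D46447
theorem N13678 : nd 13678 = n46448 := ndS (p := 11503) (l := 0) rfl N11503 D46448
theorem N13679 : nd 13679 = n46449 := ndS (p := 11503) (l := 9) rfl N11503 D46449
theorem N13680 : nd 13680 = n46450 := ndS (p := 11504) (l := 8) rfl N11504 D46450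
theorem N13681 : nd 13681 = n46451 := ndS (p := 11506) (l := 9) rfl N11506 D46451
theorem N13682 : nd 13682 = n46452 := ndS (p := 11507) (l := 8) rfl N11507 D46452
theorem N13683 : nd 13683 = n46453 := ndS (p := 11508) (l := 3) rfl N11508 D46453
theorem N13684 : nd 13684 = n46454 := ndS (p := 11509) (l := 1) rfl N11509 D46454
theorem N13685 : nd 13685 = n46455 := ndS (p := 11509) (l := 9) rfl N11509 D46455
theorem N13686 : nd 13686 = n46456 := ndS (p := 11511) (l := 0) rfl N11511 D46456
theorem N13687 : nd 13687 = n46457 := ndS (p := 11511) (l := 4) rfl N11511 D46457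
theorem N13688 : nd 13688 = n46458 := ndS (p := 11511) (l := 9) rfl N11511 D46458
theorem N13689 : nd 13689 = n46459 := ndS (p := 11512) (l := 3) rfl N11512 D46459
theorem N13690 : nd 13690 = n46460 := ndS (p := 11512) (l := 9) rfl N11512 D46460
theorem N13691 : nd 13691 = n46461 := ndS (p := 11513) (l := 8) rfl N11513 D46461
theorem N13692 : nd 13692 = n46462 := ndS (p := 11516) (l := 0) rfl N11516 D46462
theorem N13693 : nd 13693 = n46463 := ndS (p := 11516) (l := 9) rfl N11516 D46463
theorem N13694 : nd 13694 = n46464 := ndS (p := 11517) (l := 8) rfl N11517 D46464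
theorem N13695 : nd 13695 = n46465 := ndS (p := 11519) (l := 9) rfl N11519 D46465
theorem N13696 : nd 13696 = n46466 := ndS (p := 11520) (l := 8) rfl N11520 D46466
theorem N13697 : nd 13697 = n46467 := ndS (p := 11521) (l := 3) rfl N11521 D46467
theorem N13698 : nd 13698 = n46468 := ndS (p := 11522) (l := 8) rfl N11522 D46468
theorem N13699 : nd 13699 = n46469 := ndS (p := 11523) (l := 3) rfl N11523 D46469
theorem N13700 : nd 13700 = n46470 := ndS (p := 11524) (l := 4) rfl N11524 D46470
theorem N13701 : nd 13701 = n46471 := ndS (p := 11525) (l := 9) rfl N11525 D46471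
theorem N13702 : nd 13702 = n46472 := ndS (p := 11526) (l := 8) rfl N11526 D46472
theorem N13703 : nd 13703 = n46473 := ndS (p := 11527) (l := 0) rfl N11527 D46473
theorem N13704 : nd 13704 = n46474 := ndS (p := 11527) (l := 4) rfl N11527 D46474
theorem N13705 : nd 13705 = n46475 := ndS (p := 11527) (l := 9) rfl N11527 D46475
theorem N13706 : nd 13706 = n46476 := ndS (p := 11528) (l := 3) rfl N11528 D46476
theorem N13707 : nd 13707 = n46477 := ndS (p := 11528) (l := 5) rfl N11528 D46477
theorem N13708 : nd 13708 = n46478 := ndS (p := 11528) (l := 9) rfl N11528 D46478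
theorem N13709 : nd 13709 = n46479 := ndS (p := 11529) (l := 8) rfl N11529 D46479
theorem N13710 : nd 13710 = n46480 := ndS (p := 11530) (l := 6) rfl N11530 D46480
theorem N13711 : nd 13711 = n46481 := ndS (p := 11530) (l := 9) rfl N11530 D46481
theorem N13712 : nd 13712 = n46482 := ndS (p := 11531) (l := 8) rfl N11531 D46482
theorem N13713 : nd 13713 = n46483 := ndS (p := 11533) (l := 0) rfl N11533 D46483
theorem N13714 : nd 13714 = n46484 := ndS (p := 11533) (l := 4) rfl N11533 D46484
theorem N13715 : nd 13715 = n46485 := ndS (p := 11533) (l := 9) rfl N11533 D46485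
theorem N13716 : nd 13716 = n46486 := ndS (p := 11534) (l := 5) rfl N11534 D46486
theorem N13717 : nd 13717 = n46487 := ndS (p := 11534) (l := 9) rfl N11534 D46487
theorem N13718 : nd 13718 = n46488 := ndS (p := 11535) (l := 8) rfl N11535 D46488
theorem N13719 : nd 13719 = n46489 := ndS (p := 11536) (l := 9) rfl N11536 D46489
theorem N13720 : nd 13720 = n46490 := ndS (p := 11537) (l := 8) rfl N11537 D46490
theorem N13721 : nd 13721 = n46491 := ndS (p := 11539) (l := 4) rfl N11539 D46491
theorem N13722 : nd 13722 = n46492 := ndS (p := 11539) (l := 9) rfl N11539 D46492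
theorem N13723 : nd 13723 = n46493 := ndS (p := 11540) (l := 5) rfl N11540 D46493
theorem N13724 : nd 13724 = n46494 := ndS (p := 11540) (l := 9) rfl N11540 D46494
theorem N13725 : nd 13725 = n46495 := ndS (p := 11541) (l := 8) rfl N11541 D46495
theorem N13726 : nd 13726 = n46496 := ndS (p := 11542) (l := 6) rfl N11542 D46496
theorem N13727 : nd 13727 = n46497 := ndS (p := 11542) (l := 9) rfl N11542 D46497
theorem N13728 : nd 13728 = n46498 := ndS (p := 11543) (l := 8) rfl N11543 D46498
theorem N13729 : nd 13729 = n46499 := ndS (p := 11544) (l := 3) rfl N11544 D46499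
theorem N13730 : nd 13730 = n46500 := ndS (p := 11545) (l := 7) rfl N11545 D46500
theorem N13731 : nd 13731 = n46501 := ndS (p := 11545) (l := 9) rfl N11545 D46501
theorem N13732 : nd 13732 = n46502 := ndS (p := 11546) (l := 8) rfl N11546 D46502
theorem N13733 : nd 13733 = n46503 := ndS (p := 11548) (l := 5) rfl N11548 D46503
theorem N13734 : nd 13734 = n46504 := ndS (p := 11548) (l := 9) rfl N11548 D46504
theorem N13735 : nd 13735 = n46505 := ndS (p := 11549) (l := 8) rfl N11549 D46505
theorem N13736 : nd 13736 = n46506 := ndS (p := 11550) (l := 6) rfl N11550 D46506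
theorem N13737 : nd 13737 = n46507 := ndS (p := 11550) (l := 9) rfl N11550 D46507
theorem N13738 : nd 13738 = n46508 := ndS (p := 11551) (l := 8) rfl N11551 D46508
theorem N13739 : nd 13739 = n46509 := ndS (p := 11552) (l := 3) rfl N11552 D46509
theorem N13740 : nd 13740 = n46510 := ndS (p := 11553) (l := 7) rfl N11553 D46510
theorem N13741 : nd 13741 = n46511 := ndS (p := 11553) (l := 9) rfl N11553 D46511
theorem N13742 : nd 13742 = n46512 := ndS (p := 11554) (l := 8) rfl N11554 D46512
theorem N13743 : nd 13743 = n46513 := ndS (p := 11555) (l := 3) rfl N11555 D46513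
theorem N13744 : nd 13744 = n46514 := ndS (p := 11556) (l := 4) rfl N11556 D46514
theorem N13745 : nd 13745 = n46515 := ndS (p := 11557) (l := 9) rfl N11557 D46515
theorem N13746 : nd 13746 = n46516 := ndS (p := 11558) (l := 8) rfl N11558 D46516
theorem N13747 : nd 13747 = n46517 := ndS (p := 11560) (l := 7) rfl N11560 D46517
theorem N13748 : nd 13748 = n46518 := ndS (p := 11560) (l := 9) rfl N11560 D46518
theorem N13749 : nd 13749 = n46519 := ndS (p := 11562) (l := 9) rfl N11562 D46519
theorem N13750 : nd 13750 = n46520 := ndS (p := 11568) (l := 8) rfl N11568 D46520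
theorem N13751 : nd 13751 = n46521 := ndS (p := 11568) (l := 9) rfl N11568 D46521
theorem N13752 : nd 13752 = n46522 := ndS (p := 11573) (l := 4) rfl N11573 D46522
theorem N13753 : nd 13753 = n46523 := ndS (p := 11581) (l := 8) rfl N11581 D46523
theorem N13754 : nd 13754 = n46524 := ndS (p := 11582) (l := 3) rfl N11582 D46524
theorem N13755 : nd 13755 = n46525 := ndS (p := 11583) (l := 4) rfl N11583 D46525
theorem N13756 : nd 13756 = n46526 := ndS (p := 11587) (l := 9) rfl N11587 D46526
theorem N13757 : nd 13757 = n46527 := ndS (p := 11588) (l := 5) rfl N11588 D46527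
theorem N13758 : nd 13758 = n46528 := ndS (p := 11593) (l := 7) rfl N11593 D46528
theorem N13759 : nd 13759 = n46529 := ndS (p := 11595) (l := 9) rfl N11595 D46529
theorem N13760 : nd 13760 = n46530 := ndS (p := 11596) (l := 9) rfl N11596 D46530
theorem N13761 : nd 13761 = n46531 := ndS (p := 11598) (l := 9) rfl N11598 D46531
theorem N13762 : nd 13762 = n46532 := ndS (p := 11600) (l := 9) rfl N11600 D46532
theorem N13763 : nd 13763 = n46533 := ndS (p := 11603) (l := 9) rfl N11603 D46533
theorem N13764 : nd 13764 = n46534 := ndS (p := 11606) (l := 9) rfl N11606 D46534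
theorem N13765 : nd 13765 = n46535 := ndS (p := 11610) (l := 7) rfl N11610 D46535
theorem N13766 : nd 13766 = n46536 := ndS (p := 11619) (l := 6) rfl N11619 D46536
theorem N13767 : nd 13767 = n46537 := ndS (p := 11621) (l := 7) rfl N11621 D46537
theorem N13768 : nd 13768 = n46538 := ndS (p := 11622) (l := 7) rfl N11622 D46538
theorem N13769 : nd 13769 = n46539 := ndS (p := 11624) (l := 9) rfl N11624 D46539
theorem N13770 : nd 13770 = n46540 := ndS (p := 11625) (l := 9) rfl N11625 D46540
theorem N13771 : nd 13771 = n46541 := ndS (p := 11627) (l := 3) rfl N11627 D46541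
theorem N13772 : nd 13772 = n46542 := ndS (p := 11627) (l := 9) rfl N11627 D46542
theorem N13773 : nd 13773 = n46543 := ndS (p := 11630) (l := 9) rfl N11630 D46543
theorem N13774 : nd 13774 = n46544 := ndS (p := 11633) (l := 3) rfl N11633 D46544
theorem N13775 : nd 13775 = n46545 := ndS (p := 11633) (l := 9) rfl N11633 D46545
theorem N13776 : nd 13776 = n46546 := ndS (p := 11636) (l := 2) rfl N11636 D46546
theorem N13777 : nd 13777 = n46547 := ndS (p := 11636) (l := 9) rfl N11636 D46547
theorem N13778 : nd 13778 = n46548 := ndS (p := 11638) (l := 6) rfl N11638 D46548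
theorem N13779 : nd 13779 = n46549 := ndS (p := 11638) (l := 9) rfl N11638 D46549
theorem N13780 : nd 13780 = n46550 := ndS (p := 11640) (l := 7) rfl N11640 D46550
theorem N13781 : nd 13781 = n46551 := ndS (p := 11640) (l := 9) rfl N11640 D46551
theorem N13782 : nd 13782 = n46552 := ndS (p := 11642) (l := 7) rfl N11642 D46552
theorem N13783 : nd 13783 = n46553 := ndS (p := 11644) (l := 7) rfl N11644 D46553
theorem N13784 : nd 13784 = n46554 := ndS (p := 11646) (l := 3) rfl N11646 D46554
theorem N13785 : nd 13785 = n46555 := ndS (p := 11646) (l := 9) rfl N11646 D46555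
theorem N13786 : nd 13786 = n46556 := ndS (p := 11649) (l := 9) rfl N11649 D46556
theorem N13787 : nd 13787 = n46557 := ndS (p := 11650) (l := 9) rfl N11650 D46557
theorem N13788 : nd 13788 = n46558 := ndS (p := 11660) (l := 2) rfl N11660 D46558
theorem N13789 : nd 13789 = n46559 := ndS (p := 11660) (l := 9) rfl N11660 D46559
theorem N13790 : nd 13790 = n46560 := ndS (p := 11663) (l := 2) rfl N11663 D46560
theorem N13791 : nd 13791 = n46561 := ndS (p := 11663) (l := 9) rfl N11663 D46561
theorem N13792 : nd 13792 = n46562 := ndS (p := 11665) (l := 1) rfl N11665 D46562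
theorem N13793 : nd 13793 = n46563 := ndS (p := 11665) (l := 9) rfl N11665 D46563
theorem N13794 : nd 13794 = n46564 := ndS (p := 11666) (l := 8) rfl N11666 D46564
theorem N13795 : nd 13795 = n46565 := ndS (p := 11670) (l := 6) rfl N11670 D46565
theorem N13796 : nd 13796 = n46566 := ndS (p := 11670) (l := 9) rfl N11670 D46566
theorem N13797 : nd 13797 = n46567 := ndS (p := 11675) (l := 7) rfl N11675 D46567
theorem N13798 : nd 13798 = n46568 := ndS (p := 11678) (l := 5) rfl N11678 D46568
theorem N13799 : nd 13799 = n46569 := ndS (p := 11678) (l := 9) rfl N11678 D46569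
theorem N13800 : nd 13800 = n46570 := ndS (p := 11679) (l := 8) rfl N11679 D46570
theorem N13801 : nd 13801 = n46571 := ndS (p := 11680) (l := 5) rfl N11680 D46571
theorem N13802 : nd 13802 = n46572 := ndS (p := 11680) (l := 9) rfl N11680 D46572
theorem N13803 : nd 13803 = n46573 := ndS (p := 11681) (l := 8) rfl N11681 D46573
theorem N13804 : nd 13804 = n46574 := ndS (p := 11682) (l := 5) rfl N11682 D46574
theorem N13805 : nd 13805 = n46575 := ndS (p := 11682) (l := 9) rfl N11682 D46575
theorem N13806 : nd 13806 = n46576 := ndS (p := 11683) (l := 8) rfl N11683 D46576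
theorem N13807 : nd 13807 = n46577 := ndS (p := 11684) (l := 6) rfl N11684 D46577
theorem N13808 : nd 13808 = n46578 := ndS (p := 11684) (l := 9) rfl N11684 D46578
theorem N13809 : nd 13809 = n46579 := ndS (p := 11685) (l := 8) rfl N11685 D46579
theorem N13810 : nd 13810 = n46580 := ndS (p := 11688) (l := 9) rfl N11688 D46580
theorem N13811 : nd 13811 = n46581 := ndS (p := 11689) (l := 9) rfl N11689 D46581
theorem N13812 : nd 13812 = n46582 := ndS (p := 11690) (l := 8) rfl N11690 D46582
theorem N13813 : nd 13813 = n46583 := ndS (p := 11691) (l := 8) rfl N11691 D46583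
theorem N13814 : nd 13814 = n46584 := ndS (p := 11692) (l := 6) rfl N11692 D46584
theorem N13815 : nd 13815 = n46585 := ndS (p := 11692) (l := 9) rfl N11692 D46585
theorem N13816 : nd 13816 = n46586 := ndS (p := 11693) (l := 8) rfl N11693 D46586
theorem N13817 : nd 13817 = n46587 := ndS (p := 11695) (l := 8) rfl N11695 D46587
theorem N13818 : nd 13818 = n46588 := ndS (p := 11696) (l := 5) rfl N11696 D46588
theorem N13819 : nd 13819 = n46589 := ndS (p := 11696) (l := 9) rfl N11696 D46589
theorem N13820 : nd 13820 = n46590 := ndS (p := 11697) (l := 8) rfl N11697 D46590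
theorem N13821 : nd 13821 = n46591 := ndS (p := 11698) (l := 6) rfl N11698 D46591
theorem N13822 : nd 13822 = n46592 := ndS (p := 11698) (l := 9) rfl N11698 D46592
theorem N13823 : nd 13823 = n46593 := ndS (p := 11699) (l := 8) rfl N11699 D46593
theorem N13824 : nd 13824 = n46594 := ndS (p := 11701) (l := 7) rfl N11701 D46594
theorem N13825 : nd 13825 = n46595 := ndS (p := 11701) (l := 9) rfl N11701 D46595
theorem N13826 : nd 13826 = n46596 := ndS (p := 11702) (l := 8) rfl N11702 D46596
theorem N13827 : nd 13827 = n46597 := ndS (p := 11703) (l := 3) rfl N11703 D46597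
theorem N13828 : nd 13828 = n46598 := ndS (p := 11704) (l := 1) rfl N11704 D46598
theorem N13829 : nd 13829 = n46599 := ndS (p := 11704) (l := 9) rfl N11704 D46599
theorem N13830 : nd 13830 = n46600 := ndS (p := 11705) (l := 8) rfl N11705 D46600
theorem N13831 : nd 13831 = n46601 := ndS (p := 11706) (l := 9) rfl N11706 D46601
theorem N13832 : nd 13832 = n46602 := ndS (p := 11707) (l := 8) rfl N11707 D46602
theorem N13833 : nd 13833 = n46603 := ndS (p := 11709) (l := 1) rfl N11709 D46603
theorem N13834 : nd 13834 = n46604 := ndS (p := 11709) (l := 9) rfl N11709 D46604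
theorem N13835 : nd 13835 = n46605 := ndS (p := 11710) (l := 8) rfl N11710 D46605
theorem N13836 : nd 13836 = n46606 := ndS (p := 11711) (l := 1) rfl N11711 D46606
theorem N13837 : nd 13837 = n46607 := ndS (p := 11711) (l := 9) rfl N11711 D46607
theorem N13838 : nd 13838 = n46608 := ndS (p := 11712) (l := 8) rfl N11712 D46608
theorem N13839 : nd 13839 = n46609 := ndS (p := 11713) (l := 0) rfl N11713 D46609
theorem N13840 : nd 13840 = n46610 := ndS (p := 11713) (l := 9) rfl N11713 D46610
theorem N13841 : nd 13841 = n46611 := ndS (p := 11714) (l := 8) rfl N11714 D46611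
theorem N13842 : nd 13842 = n46612 := ndS (p := 11716) (l := 9) rfl N11716 D46612
theorem N13843 : nd 13843 = n46613 := ndS (p := 11717) (l := 8) rfl N11717 D46613
theorem N13844 : nd 13844 = n46614 := ndS (p := 11718) (l := 3) rfl N11718 D46614
theorem N13845 : nd 13845 = n46615 := ndS (p := 11723) (l := 6) rfl N11723 D46615
theorem N13846 : nd 13846 = n46616 := ndS (p := 11723) (l := 8) rfl N11723 D46616
theorem N13847 : nd 13847 = n46617 := ndS (p := 11724) (l := 5) rfl N11724 D46617
theorem N13848 : nd 13848 = n46618 := ndS (p := 11725) (l := 7) rfl N11725 D46618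
theorem N13849 : nd 13849 = n46619 := ndS (p := 11725) (l := 8) rfl N11725 D46619
theorem N13850 : nd 13850 = n46620 := ndS (p := 11727) (l := 3) rfl N11727 D46620
theorem N13851 : nd 13851 = n46621 := ndS (p := 11728) (l := 2) rfl N11728 D46621
theorem N13852 : nd 13852 = n46622 := ndS (p := 11734) (l := 7) rfl N11734 D46622
theorem N13853 : nd 13853 = n46623 := ndS (p := 11735) (l := 7) rfl N11735 D46623
theorem N13854 : nd 13854 = n46624 := ndS (p := 11739) (l := 6) rfl N11739 D46624
theorem N13855 : nd 13855 = n46625 := ndS (p := 11739) (l := 8) rfl N11739 D46625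
theorem N13856 : nd 13856 = n46626 := ndS (p := 11740) (l := 5) rfl N11740 D46626
theorem N13857 : nd 13857 = n46627 := ndS (p := 11740) (l := 7) rfl N11740 D46627
theorem N13858 : nd 13858 = n46628 := ndS (p := 11740) (l := 8) rfl N11740 D46628
theorem N13859 : nd 13859 = n46629 := ndS (p := 11741) (l := 3) rfl N11741 D46629
theorem N13860 : nd 13860 = n46630 := ndS (p := 11741) (l := 9) rfl N11741 D46630
theorem N13861 : nd 13861 = n46631 := ndS (p := 11742) (l := 8) rfl N11742 D46631
theorem N13862 : nd 13862 = n46632 := ndS (p := 11743) (l := 3) rfl N11743 D46632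
theorem N13863 : nd 13863 = n46633 := ndS (p := 11743) (l := 9) rfl N11743 D46633
theorem N13864 : nd 13864 = n46634 := ndS (p := 11744) (l := 4) rfl N11744 D46634
theorem N13865 : nd 13865 = n46635 := ndS (p := 11744) (l := 9) rfl N11744 D46635
theorem N13866 : nd 13866 = n46636 := ndS (p := 11746) (l := 8) rfl N11746 D46636
theorem N13867 : nd 13867 = n46637 := ndS (p := 11748) (l := 8) rfl N11748 D46637
theorem N13868 : nd 13868 = n46638 := ndS (p := 11749) (l := 9) rfl N11749 D46638
theorem N13869 : nd 13869 = n46639 := ndS (p := 11750) (l := 2) rfl N11750 D46639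
theorem N13870 : nd 13870 = n46640 := ndS (p := 11750) (l := 9) rfl N11750 D46640
theorem N13871 : nd 13871 = n46641 := ndS (p := 11758) (l := 6) rfl N11758 D46641
theorem N13872 : nd 13872 = n46642 := ndS (p := 11758) (l := 8) rfl N11758 D46642
theorem N13873 : nd 13873 = n46643 := ndS (p := 11760) (l := 9) rfl N11760 D46643
theorem N13874 : nd 13874 = n46644 := ndS (p := 11761) (l := 9) rfl N11761 D46644
theorem N13875 : nd 13875 = n46645 := ndS (p := 11765) (l := 3) rfl N11765 D46645
theorem N13876 : nd 13876 = n46646 := ndS (p := 11765) (l := 9) rfl N11765 D46646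
theorem N13877 : nd 13877 = n46647 := ndS (p := 11767) (l := 5) rfl N11767 D46647
theorem N13878 : nd 13878 = n46648 := ndS (p := 11767) (l := 9) rfl N11767 D46648
theorem N13879 : nd 13879 = n46649 := ndS (p := 11768) (l := 8) rfl N11768 D46649
theorem N13880 : nd 13880 = n46650 := ndS (p := 11771) (l := 7) rfl N11771 D46650
theorem N13881 : nd 13881 = n46651 := ndS (p := 11771) (l := 8) rfl N11771 D46651
theorem N13882 : nd 13882 = n46652 := ndS (p := 11772) (l := 3) rfl N11772 D46652
theorem N13883 : nd 13883 = n46653 := ndS (p := 11772) (l := 9) rfl N11772 D46653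
theorem N13884 : nd 13884 = n46654 := ndS (p := 11775) (l := 3) rfl N11775 D46654
theorem N13885 : nd 13885 = n46655 := ndS (p := 11775) (l := 9) rfl N11775 D46655
theorem N13886 : nd 13886 = n46656 := ndS (p := 11776) (l := 2) rfl N11776 D46656
theorem N13887 : nd 13887 = n46657 := ndS (p := 11776) (l := 4) rfl N11776 D46657
theorem N13888 : nd 13888 = n46658 := ndS (p := 11776) (l := 9) rfl N11776 D46658
theorem N13889 : nd 13889 = n46659 := ndS (p := 11779) (l := 5) rfl N11779 D46659
theorem N13890 : nd 13890 = n46660 := ndS (p := 11779) (l := 9) rfl N11779 D46660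
theorem N13891 : nd 13891 = n46661 := ndS (p := 11780) (l := 8) rfl N11780 D46661
theorem N13892 : nd 13892 = n46662 := ndS (p := 11781) (l := 6) rfl N11781 D46662
theorem N13893 : nd 13893 = n46663 := ndS (p := 11781) (l := 9) rfl N11781 D46663
theorem N13894 : nd 13894 = n46664 := ndS (p := 11782) (l := 8) rfl N11782 D46664
theorem N13895 : nd 13895 = n46665 := ndS (p := 11785) (l := 9) rfl N11785 D46665
theorem N13896 : nd 13896 = n46666 := ndS (p := 11787) (l := 5) rfl N11787 D46666
theorem N13897 : nd 13897 = n46667 := ndS (p := 11787) (l := 7) rfl N11787 D46667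
theorem N13898 : nd 13898 = n46668 := ndS (p := 11787) (l := 8) rfl N11787 D46668
theorem N13899 : nd 13899 = n46669 := ndS (p := 11788) (l := 3) rfl N11788 D46669
theorem N13900 : nd 13900 = n46670 := ndS (p := 11788) (l := 9) rfl N11788 D46670
theorem N13901 : nd 13901 = n46671 := ndS (p := 11789) (l := 7) rfl N11789 D46671
theorem N13902 : nd 13902 = n46672 := ndS (p := 11789) (l := 8) rfl N11789 D46672
theorem N13903 : nd 13903 = n46673 := ndS (p := 11790) (l := 8) rfl N11790 D46673
theorem N13904 : nd 13904 = n46674 := ndS (p := 11791) (l := 3) rfl N11791 D46674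
theorem N13905 : nd 13905 = n46675 := ndS (p := 11791) (l := 9) rfl N11791 D46675
theorem N13906 : nd 13906 = n46676 := ndS (p := 11792) (l := 2) rfl N11792 D46676
theorem N13907 : nd 13907 = n46677 := ndS (p := 11792) (l := 4) rfl N11792 D46677
theorem N13908 : nd 13908 = n46678 := ndS (p := 11792) (l := 9) rfl N11792 D46678
theorem N13909 : nd 13909 = n46679 := ndS (p := 11794) (l := 3) rfl N11794 D46679
theorem N13910 : nd 13910 = n46680 := ndS (p := 11794) (l := 9) rfl N11794 D46680
theorem N13911 : nd 13911 = n46681 := ndS (p := 11795) (l := 4) rfl N11795 D46681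
theorem N13912 : nd 13912 = n46682 := ndS (p := 11795) (l := 9) rfl N11795 D46682
theorem N13913 : nd 13913 = n46683 := ndS (p := 11797) (l := 9) rfl N11797 D46683
theorem N13914 : nd 13914 = n46684 := ndS (p := 11798) (l := 8) rfl N11798 D46684
theorem N13915 : nd 13915 = n46685 := ndS (p := 11800) (l := 6) rfl N11800 D46685
theorem N13916 : nd 13916 = n46686 := ndS (p := 11800) (l := 8) rfl N11800 D46686
theorem N13917 : nd 13917 = n46687 := ndS (p := 11801) (l := 3) rfl N11801 D46687
theorem N13918 : nd 13918 = n46688 := ndS (p := 11801) (l := 9) rfl N11801 D46688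
theorem N13919 : nd 13919 = n46689 := ndS (p := 11802) (l := 3) rfl N11802 D46689
theorem N13920 : nd 13920 = n46690 := ndS (p := 11802) (l := 9) rfl N11802 D46690
theorem N13921 : nd 13921 = n46691 := ndS (p := 11803) (l := 2) rfl N11803 D46691
theorem N13922 : nd 13922 = n46692 := ndS (p := 11803) (l := 9) rfl N11803 D46692
theorem N13923 : nd 13923 = n46693 := ndS (p := 11805) (l := 1) rfl N11805 D46693
theorem N13924 : nd 13924 = n46694 := ndS (p := 11805) (l := 9) rfl N11805 D46694
theorem N13925 : nd 13925 = n46695 := ndS (p := 11806) (l := 8) rfl N11806 D46695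
theorem N13926 : nd 13926 = n46696 := ndS (p := 11809) (l := 9) rfl N11809 D46696
theorem N13927 : nd 13927 = n46697 := ndS (p := 11810) (l := 9) rfl N11810 D46697
theorem N13928 : nd 13928 = n46698 := ndS (p := 11814) (l := 1) rfl N11814 D46698
theorem N13929 : nd 13929 = n46699 := ndS (p := 11814) (l := 9) rfl N11814 D46699
theorem N13930 : nd 13930 = n46700 := ndS (p := 11816) (l := 0) rfl N11816 D46700
theorem N13931 : nd 13931 = n46701 := ndS (p := 11816) (l := 9) rfl N11816 D46701
theorem N13932 : nd 13932 = n46702 := ndS (p := 11817) (l := 8) rfl N11817 D46702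
theorem N13933 : nd 13933 = n46703 := ndS (p := 11819) (l := 6) rfl N11819 D46703
theorem N13934 : nd 13934 = n46704 := ndS (p := 11820) (l := 5) rfl N11820 D46704
theorem N13935 : nd 13935 = n46705 := ndS (p := 11820) (l := 7) rfl N11820 D46705
theorem N13936 : nd 13936 = n46706 := ndS (p := 11820) (l := 8) rfl N11820 D46706
theorem N13937 : nd 13937 = n46707 := ndS (p := 11821) (l := 3) rfl N11821 D46707
theorem N13938 : nd 13938 = n46708 := ndS (p := 11821) (l := 9) rfl N11821 D46708
theorem N13939 : nd 13939 = n46709 := ndS (p := 11823) (l := 9) rfl N11823 D46709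
theorem N13940 : nd 13940 = n46710 := ndS (p := 11824) (l := 4) rfl N11824 D46710
theorem N13941 : nd 13941 = n46711 := ndS (p := 11824) (l := 9) rfl N11824 D46711
theorem N13942 : nd 13942 = n46712 := ndS (p := 11826) (l := 9) rfl N11826 D46712
theorem N13943 : nd 13943 = n46713 := ndS (p := 11827) (l := 8) rfl N11827 D46713
theorem N13944 : nd 13944 = n46714 := ndS (p := 11828) (l := 5) rfl N11828 D46714
theorem N13945 : nd 13945 = n46715 := ndS (p := 11828) (l := 7) rfl N11828 D46715
theorem N13946 : nd 13946 = n46716 := ndS (p := 11829) (l := 7) rfl N11829 D46716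
theorem N13947 : nd 13947 = n46717 := ndS (p := 11829) (l := 8) rfl N11829 D46717
theorem N13948 : nd 13948 = n46718 := ndS (p := 11831) (l := 3) rfl N11831 D46718
theorem N13949 : nd 13949 = n46719 := ndS (p := 11831) (l := 9) rfl N11831 D46719
theorem N13950 : nd 13950 = n46720 := ndS (p := 11832) (l := 4) rfl N11832 D46720
theorem N13951 : nd 13951 = n46721 := ndS (p := 11832) (l := 9) rfl N11832 D46721
theorem N13952 : nd 13952 = n46722 := ndS (p := 11835) (l := 5) rfl N11835 D46722
theorem N13953 : nd 13953 = n46723 := ndS (p := 11835) (l := 9) rfl N11835 D46723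
theorem N13954 : nd 13954 = n46724 := ndS (p := 11836) (l := 8) rfl N11836 D46724
theorem N13955 : nd 13955 = n46725 := ndS (p := 11837) (l := 6) rfl N11837 D46725
theorem N13956 : nd 13956 = n46726 := ndS (p := 11837) (l := 9) rfl N11837 D46726
theorem N13957 : nd 13957 = n46727 := ndS (p := 11838) (l := 8) rfl N11838 D46727
theorem N13958 : nd 13958 = n46728 := ndS (p := 11840) (l := 6) rfl N11840 D46728
theorem N13959 : nd 13959 = n46729 := ndS (p := 11841) (l := 9) rfl N11841 D46729
theorem N13960 : nd 13960 = n46730 := ndS (p := 11843) (l := 8) rfl N11843 D46730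
theorem N13961 : nd 13961 = n46731 := ndS (p := 11844) (l := 7) rfl N11844 D46731
theorem N13962 : nd 13962 = n46732 := ndS (p := 11844) (l := 8) rfl N11844 D46732
theorem N13963 : nd 13963 = n46733 := ndS (p := 11845) (l := 8) rfl N11845 D46733
theorem N13964 : nd 13964 = n46734 := ndS (p := 11846) (l := 3) rfl N11846 D46734
theorem N13965 : nd 13965 = n46735 := ndS (p := 11846) (l := 9) rfl N11846 D46735
theorem N13966 : nd 13966 = n46736 := ndS (p := 11847) (l := 4) rfl N11847 D46736
theorem N13967 : nd 13967 = n46737 := ndS (p := 11847) (l := 9) rfl N11847 D46737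
theorem N13968 : nd 13968 = n46738 := ndS (p := 11849) (l := 6) rfl N11849 D46738
theorem N13969 : nd 13969 = n46739 := ndS (p := 11849) (l := 8) rfl N11849 D46739
theorem N13970 : nd 13970 = n46740 := ndS (p := 11850) (l := 3) rfl N11850 D46740
theorem N13971 : nd 13971 = n46741 := ndS (p := 11850) (l := 9) rfl N11850 D46741
theorem N13972 : nd 13972 = n46742 := ndS (p := 11851) (l := 3) rfl N11851 D46742
theorem N13973 : nd 13973 = n46743 := ndS (p := 11851) (l := 9) rfl N11851 D46743
theorem N13974 : nd 13974 = n46744 := ndS (p := 11852) (l := 2) rfl N11852 D46744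
theorem N13975 : nd 13975 = n46745 := ndS (p := 11852) (l := 4) rfl N11852 D46745
theorem N13976 : nd 13976 = n46746 := ndS (p := 11852) (l := 9) rfl N11852 D46746
theorem N13977 : nd 13977 = n46747 := ndS (p := 11854) (l := 1) rfl N11854 D46747
theorem N13978 : nd 13978 = n46748 := ndS (p := 11854) (l := 4) rfl N11854 D46748
theorem N13979 : nd 13979 = n46749 := ndS (p := 11854) (l := 9) rfl N11854 D46749
theorem N13980 : nd 13980 = n46750 := ndS (p := 11855) (l := 5) rfl N11855 D46750
theorem N13981 : nd 13981 = n46751 := ndS (p := 11855) (l := 9) rfl N11855 D46751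
theorem N13982 : nd 13982 = n46752 := ndS (p := 11856) (l := 8) rfl N11856 D46752
theorem N13983 : nd 13983 = n46753 := ndS (p := 11858) (l := 5) rfl N11858 D46753
theorem N13984 : nd 13984 = n46754 := ndS (p := 11858) (l := 9) rfl N11858 D46754
theorem N13985 : nd 13985 = n46755 := ndS (p := 11859) (l := 8) rfl N11859 D46755
theorem N13986 : nd 13986 = n46756 := ndS (p := 11860) (l := 6) rfl N11860 D46756
theorem N13987 : nd 13987 = n46757 := ndS (p := 11860) (l := 9) rfl N11860 D46757
theorem N13988 : nd 13988 = n46758 := ndS (p := 11861) (l := 8) rfl N11861 D46758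
theorem N13989 : nd 13989 = n46759 := ndS (p := 11863) (l := 7) rfl N11863 D46759
theorem N13990 : nd 13990 = n46760 := ndS (p := 11863) (l := 9) rfl N11863 D46760
theorem N13991 : nd 13991 = n46761 := ndS (p := 11864) (l := 8) rfl N11864 D46761
theorem N13992 : nd 13992 = n46762 := ndS (p := 11867) (l := 9) rfl N11867 D46762
theorem N13993 : nd 13993 = n46763 := ndS (p := 11868) (l := 2) rfl N11868 D46763
theorem N13994 : nd 13994 = n46764 := ndS (p := 11868) (l := 9) rfl N11868 D46764
theorem N13995 : nd 13995 = n46765 := ndS (p := 11871) (l := 9) rfl N11871 D46765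
theorem N13996 : nd 13996 = n46766 := ndS (p := 11873) (l := 9) rfl N11873 D46766
theorem N13997 : nd 13997 = n46767 := ndS (p := 11878) (l := 9) rfl N11878 D46767
theorem N13998 : nd 13998 = n46768 := ndS (p := 11880) (l := 4) rfl N11880 D46768
theorem N13999 : nd 13999 = n46769 := ndS (p := 11880) (l := 7) rfl N11880 D46769
theorem N14000 : nd 14000 = n46770 := ndS (p := 11880) (l := 8) rfl N11880 D46770
theorem N14001 : nd 14001 = n46771 := ndS (p := 11881) (l := 8) rfl N11881 D46771
theorem N14002 : nd 14002 = n46772 := ndS (p := 11882) (l := 3) rfl N11882 D46772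
theorem N14003 : nd 14003 = n46773 := ndS (p := 11882) (l := 9) rfl N11882 D46773
theorem N14004 : nd 14004 = n46774 := ndS (p := 11883) (l := 2) rfl N11883 D46774
theorem N14005 : nd 14005 = n46775 := ndS (p := 11883) (l := 4) rfl N11883 D46775
theorem N14006 : nd 14006 = n46776 := ndS (p := 11883) (l := 9) rfl N11883 D46776
theorem N14007 : nd 14007 = n46777 := ndS (p := 11885) (l := 6) rfl N11885 D46777
theorem N14008 : nd 14008 = n46778 := ndS (p := 11885) (l := 8) rfl N11885 D46778
theorem N14009 : nd 14009 = n46779 := ndS (p := 11886) (l := 3) rfl N11886 D46779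
theorem N14010 : nd 14010 = n46780 := ndS (p := 11886) (l := 9) rfl N11886 D46780
theorem N14011 : nd 14011 = n46781 := ndS (p := 11887) (l := 3) rfl N11887 D46781
theorem N14012 : nd 14012 = n46782 := ndS (p := 11887) (l := 9) rfl N11887 D46782
theorem N14013 : nd 14013 = n46783 := ndS (p := 11888) (l := 2) rfl N11888 D46783
theorem N14014 : nd 14014 = n46784 := ndS (p := 11888) (l := 4) rfl N11888 D46784
theorem N14015 : nd 14015 = n46785 := ndS (p := 11888) (l := 9) rfl N11888 D46785
theorem N14016 : nd 14016 = n46786 := ndS (p := 11890) (l := 1) rfl N11890 D46786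
theorem N14017 : nd 14017 = n46787 := ndS (p := 11890) (l := 4) rfl N11890 D46787
theorem N14018 : nd 14018 = n46788 := ndS (p := 11890) (l := 9) rfl N11890 D46788
theorem N14019 : nd 14019 = n46789 := ndS (p := 11891) (l := 9) rfl N11891 D46789
theorem N14020 : nd 14020 = n46790 := ndS (p := 11892) (l := 8) rfl N11892 D46790
theorem N14021 : nd 14021 = n46791 := ndS (p := 11893) (l := 4) rfl N11893 D46791
theorem N14022 : nd 14022 = n46792 := ndS (p := 11893) (l := 9) rfl N11893 D46792
theorem N14023 : nd 14023 = n46793 := ndS (p := 11895) (l := 5) rfl N11895 D46793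
theorem N14024 : nd 14024 = n46794 := ndS (p := 11895) (l := 9) rfl N11895 D46794
theorem N14025 : nd 14025 = n46795 := ndS (p := 11896) (l := 8) rfl N11896 D46795
theorem N14026 : nd 14026 = n46796 := ndS (p := 11897) (l := 8) rfl N11897 D46796
theorem N14027 : nd 14027 = n46797 := ndS (p := 11899) (l := 8) rfl N11899 D46797
theorem N14028 : nd 14028 = n46798 := ndS (p := 11900) (l := 3) rfl N11900 D46798
theorem N14029 : nd 14029 = n46799 := ndS (p := 11900) (l := 9) rfl N11900 D46799
theorem N14030 : nd 14030 = n46800 := ndS (p := 11901) (l := 2) rfl N11901 D46800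
theorem N14031 : nd 14031 = n46801 := ndS (p := 11901) (l := 4) rfl N11901 D46801
theorem N14032 : nd 14032 = n46802 := ndS (p := 11901) (l := 9) rfl N11901 D46802
theorem N14033 : nd 14033 = n46803 := ndS (p := 11903) (l := 2) rfl N11903 D46803
theorem N14034 : nd 14034 = n46804 := ndS (p := 11903) (l := 9) rfl N11903 D46804
theorem N14035 : nd 14035 = n46805 := ndS (p := 11905) (l := 1) rfl N11905 D46805
theorem N14036 : nd 14036 = n46806 := ndS (p := 11905) (l := 9) rfl N11905 D46806
theorem N14037 : nd 14037 = n46807 := ndS (p := 11906) (l := 8) rfl N11906 D46807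
theorem N14038 : nd 14038 = n46808 := ndS (p := 11907) (l := 0) rfl N11907 D46808
theorem N14039 : nd 14039 = n46809 := ndS (p := 11907) (l := 9) rfl N11907 D46809
theorem N14040 : nd 14040 = n46810 := ndS (p := 11908) (l := 8) rfl N11908 D46810
theorem N14041 : nd 14041 = n46811 := ndS (p := 11910) (l := 9) rfl N11910 D46811
theorem N14042 : nd 14042 = n46812 := ndS (p := 11911) (l := 2) rfl N11911 D46812
theorem N14043 : nd 14043 = n46813 := ndS (p := 11911) (l := 9) rfl N11911 D46813
theorem N14044 : nd 14044 = n46814 := ndS (p := 11913) (l := 1) rfl N11913 D46814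
theorem N14045 : nd 14045 = n46815 := ndS (p := 11913) (l := 4) rfl N11913 D46815
theorem N14046 : nd 14046 = n46816 := ndS (p := 11913) (l := 9) rfl N11913 D46816
theorem N14047 : nd 14047 = n46817 := ndS (p := 11914) (l := 9) rfl N11914 D46817
theorem N14048 : nd 14048 = n46818 := ndS (p := 11915) (l := 8) rfl N11915 D46818
theorem N14049 : nd 14049 = n46819 := ndS (p := 11916) (l := 9) rfl N11916 D46819
theorem N14050 : nd 14050 = n46820 := ndS (p := 11917) (l := 8) rfl N11917 D46820
theorem N14051 : nd 14051 = n46821 := ndS (p := 11918) (l := 9) rfl N11918 D46821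
theorem N14052 : nd 14052 = n46822 := ndS (p := 11919) (l := 8) rfl N11919 D46822
theorem N14053 : nd 14053 = n46823 := ndS (p := 11921) (l := 9) rfl N11921 D46823
theorem N14054 : nd 14054 = n46824 := ndS (p := 11922) (l := 8) rfl N11922 D46824
theorem N14055 : nd 14055 = n46825 := ndS (p := 11923) (l := 3) rfl N11923 D46825
theorem N14056 : nd 14056 = n46826 := ndS (p := 11924) (l := 5) rfl N11924 D46826
theorem N14057 : nd 14057 = n46827 := ndS (p := 11924) (l := 7) rfl N11924 D46827
theorem N14058 : nd 14058 = n46828 := ndS (p := 11924) (l := 8) rfl N11924 D46828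
theorem N14059 : nd 14059 = n46829 := ndS (p := 11925) (l := 3) rfl N11925 D46829
theorem N14060 : nd 14060 = n46830 := ndS (p := 11925) (l := 9) rfl N11925 D46830
theorem N14061 : nd 14061 = n46831 := ndS (p := 11926) (l := 7) rfl N11926 D46831
theorem N14062 : nd 14062 = n46832 := ndS (p := 11926) (l := 8) rfl N11926 D46832
theorem N14063 : nd 14063 = n46833 := ndS (p := 11927) (l := 8) rfl N11927 D46833
theorem N14064 : nd 14064 = n46834 := ndS (p := 11928) (l := 3) rfl N11928 D46834
theorem N14065 : nd 14065 = n46835 := ndS (p := 11928) (l := 9) rfl N11928 D46835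
theorem N14066 : nd 14066 = n46836 := ndS (p := 11929) (l := 2) rfl N11929 D46836
theorem N14067 : nd 14067 = n46837 := ndS (p := 11929) (l := 4) rfl N11929 D46837
theorem N14068 : nd 14068 = n46838 := ndS (p := 11929) (l := 9) rfl N11929 D46838
theorem N14069 : nd 14069 = n46839 := ndS (p := 11931) (l := 9) rfl N11931 D46839
theorem N14070 : nd 14070 = n46840 := ndS (p := 11932) (l := 4) rfl N11932 D46840
theorem N14071 : nd 14071 = n46841 := ndS (p := 11932) (l := 9) rfl N11932 D46841
theorem N14072 : nd 14072 = n46842 := ndS (p := 11934) (l := 9) rfl N11934 D46842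
theorem N14073 : nd 14073 = n46843 := ndS (p := 11935) (l := 9) rfl N11935 D46843
theorem N14074 : nd 14074 = n46844 := ndS (p := 11936) (l := 8) rfl N11936 D46844
theorem N14075 : nd 14075 = n46845 := ndS (p := 11937) (l := 8) rfl N11937 D46845
theorem N14076 : nd 14076 = n46846 := ndS (p := 11939) (l := 4) rfl N11939 D46846
theorem N14077 : nd 14077 = n46847 := ndS (p := 11939) (l := 7) rfl N11939 D46847
theorem N14078 : nd 14078 = n46848 := ndS (p := 11939) (l := 8) rfl N11939 D46848
theorem N14079 : nd 14079 = n46849 := ndS (p := 11940) (l := 8) rfl N11940 D46849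
theorem N14080 : nd 14080 = n46850 := ndS (p := 11941) (l := 3) rfl N11941 D46850
theorem N14081 : nd 14081 = n46851 := ndS (p := 11941) (l := 9) rfl N11941 D46851
theorem N14082 : nd 14082 = n46852 := ndS (p := 11942) (l := 2) rfl N11942 D46852
theorem N14083 : nd 14083 = n46853 := ndS (p := 11942) (l := 4) rfl N11942 D46853
theorem N14084 : nd 14084 = n46854 := ndS (p := 11942) (l := 9) rfl N11942 D46854
theorem N14085 : nd 14085 = n46855 := ndS (p := 11944) (l := 6) rfl N11944 D46855
theorem N14086 : nd 14086 = n46856 := ndS (p := 11944) (l := 8) rfl N11944 D46856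
theorem N14087 : nd 14087 = n46857 := ndS (p := 11945) (l := 3) rfl N11945 D46857
theorem N14088 : nd 14088 = n46858 := ndS (p := 11945) (l := 9) rfl N11945 D46858
theorem N14089 : nd 14089 = n46859 := ndS (p := 11946) (l := 3) rfl N11946 D46859
theorem N14090 : nd 14090 = n46860 := ndS (p := 11946) (l := 9) rfl N11946 D46860
theorem N14091 : nd 14091 = n46861 := ndS (p := 11947) (l := 2) rfl N11947 D46861
theorem N14092 : nd 14092 = n46862 := ndS (p := 11947) (l := 4) rfl N11947 D46862
theorem N14093 : nd 14093 = n46863 := ndS (p := 11947) (l := 9) rfl N11947 D46863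
theorem N14094 : nd 14094 = n46864 := ndS (p := 11949) (l := 9) rfl N11949 D46864
theorem N14095 : nd 14095 = n46865 := ndS (p := 11950) (l := 5) rfl N11950 D46865
theorem N14096 : nd 14096 = n46866 := ndS (p := 11950) (l := 9) rfl N11950 D46866
theorem N14097 : nd 14097 = n46867 := ndS (p := 11951) (l := 8) rfl N11951 D46867
theorem N14098 : nd 14098 = n46868 := ndS (p := 11953) (l := 5) rfl N11953 D46868
theorem N14099 : nd 14099 = n46869 := ndS (p := 11953) (l := 9) rfl N11953 D46869
theorem N14100 : nd 14100 = n46870 := ndS (p := 11954) (l := 8) rfl N11954 D46870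
theorem N14101 : nd 14101 = n46871 := ndS (p := 11955) (l := 6) rfl N11955 D46871
theorem N14102 : nd 14102 = n46872 := ndS (p := 11955) (l := 9) rfl N11955 D46872
theorem N14103 : nd 14103 = n46873 := ndS (p := 11956) (l := 8) rfl N11956 D46873
theorem N14104 : nd 14104 = n46874 := ndS (p := 11958) (l := 7) rfl N11958 D46874
theorem N14105 : nd 14105 = n46875 := ndS (p := 11958) (l := 9) rfl N11958 D46875
theorem N14106 : nd 14106 = n46876 := ndS (p := 11959) (l := 8) rfl N11959 D46876
theorem N14107 : nd 14107 = n46877 := ndS (p := 11961) (l := 8) rfl N11961 D46877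
theorem N14108 : nd 14108 = n46878 := ndS (p := 11962) (l := 9) rfl N11962 D46878
theorem N14109 : nd 14109 = n46879 := ndS (p := 11963) (l := 2) rfl N11963 D46879
theorem N14110 : nd 14110 = n46880 := ndS (p := 11963) (l := 9) rfl N11963 D46880
theorem N14111 : nd 14111 = n46881 := ndS (p := 11966) (l := 9) rfl N11966 D46881
theorem N14112 : nd 14112 = n46882 := ndS (p := 11967) (l := 8) rfl N11967 D46882
theorem N14113 : nd 14113 = n46883 := ndS (p := 11968) (l := 8) rfl N11968 D46883
theorem N14114 : nd 14114 = n46884 := ndS (p := 11970) (l := 7) rfl N11970 D46884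
theorem N14115 : nd 14115 = n46885 := ndS (p := 11970) (l := 8) rfl N11970 D46885
theorem N14116 : nd 14116 = n46886 := ndS (p := 11971) (l := 6) rfl N11971 D46886
theorem N14117 : nd 14117 = n46887 := ndS (p := 11971) (l := 8) rfl N11971 D46887
theorem N14118 : nd 14118 = n46888 := ndS (p := 11972) (l := 3) rfl N11972 D46888
theorem N14119 : nd 14119 = n46889 := ndS (p := 11972) (l := 9) rfl N11972 D46889
theorem N14120 : nd 14120 = n46890 := ndS (p := 11973) (l := 3) rfl N11973 D46890
theorem N14121 : nd 14121 = n46891 := ndS (p := 11973) (l := 9) rfl N11973 D46891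
theorem N14122 : nd 14122 = n46892 := ndS (p := 11974) (l := 2) rfl N11974 D46892
theorem N14123 : nd 14123 = n46893 := ndS (p := 11974) (l := 4) rfl N11974 D46893
theorem N14124 : nd 14124 = n46894 := ndS (p := 11974) (l := 9) rfl N11974 D46894
theorem N14125 : nd 14125 = n46895 := ndS (p := 11976) (l := 1) rfl N11976 D46895
theorem N14126 : nd 14126 = n46896 := ndS (p := 11976) (l := 4) rfl N11976 D46896
theorem N14127 : nd 14127 = n46897 := ndS (p := 11976) (l := 9) rfl N11976 D46897
theorem N14128 : nd 14128 = n46898 := ndS (p := 11977) (l := 5) rfl N11977 D46898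
theorem N14129 : nd 14129 = n46899 := ndS (p := 11977) (l := 9) rfl N11977 D46899
theorem N14130 : nd 14130 = n46900 := ndS (p := 11978) (l := 8) rfl N11978 D46900
theorem N14131 : nd 14131 = n46901 := ndS (p := 11979) (l := 8) rfl N11979 D46901
theorem N14132 : nd 14132 = n46902 := ndS (p := 11980) (l := 3) rfl N11980 D46902
theorem N14133 : nd 14133 = n46903 := ndS (p := 11980) (l := 9) rfl N11980 D46903
theorem N14134 : nd 14134 = n46904 := ndS (p := 11981) (l := 2) rfl N11981 D46904
theorem N14135 : nd 14135 = n46905 := ndS (p := 11981) (l := 4) rfl N11981 D46905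
theorem N14136 : nd 14136 = n46906 := ndS (p := 11981) (l := 9) rfl N11981 D46906
theorem N14137 : nd 14137 = n46907 := ndS (p := 11983) (l := 2) rfl N11983 D46907
theorem N14138 : nd 14138 = n46908 := ndS (p := 11983) (l := 4) rfl N11983 D46908
theorem N14139 : nd 14139 = n46909 := ndS (p := 11983) (l := 9) rfl N11983 D46909
theorem N14140 : nd 14140 = n46910 := ndS (p := 11985) (l := 1) rfl N11985 D46910
theorem N14141 : nd 14141 = n46911 := ndS (p := 11985) (l := 4) rfl N11985 D46911
theorem N14142 : nd 14142 = n46912 := ndS (p := 11985) (l := 9) rfl N11985 D46912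
theorem N14143 : nd 14143 = n46913 := ndS (p := 11986) (l := 5) rfl N11986 D46913
theorem N14144 : nd 14144 = n46914 := ndS (p := 11986) (l := 9) rfl N11986 D46914
theorem N14145 : nd 14145 = n46915 := ndS (p := 11987) (l := 8) rfl N11987 D46915
theorem N14146 : nd 14146 = n46916 := ndS (p := 11988) (l := 0) rfl N11988 D46916
theorem N14147 : nd 14147 = n46917 := ndS (p := 11988) (l := 4) rfl N11988 D46917
theorem N14148 : nd 14148 = n46918 := ndS (p := 11988) (l := 9) rfl N11988 D46918
theorem N14149 : nd 14149 = n46919 := ndS (p := 11989) (l := 5) rfl N11989 D46919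
theorem N14150 : nd 14150 = n46920 := ndS (p := 11989) (l := 9) rfl N11989 D46920
theorem N14151 : nd 14151 = n46921 := ndS (p := 11990) (l := 8) rfl N11990 D46921
theorem N14152 : nd 14152 = n46922 := ndS (p := 11991) (l := 6) rfl N11991 D46922
theorem N14153 : nd 14153 = n46923 := ndS (p := 11991) (l := 9) rfl N11991 D46923
theorem N14154 : nd 14154 = n46924 := ndS (p := 11992) (l := 8) rfl N11992 D46924
theorem N14155 : nd 14155 = n46925 := ndS (p := 11994) (l := 5) rfl N11994 D46925
theorem N14156 : nd 14156 = n46926 := ndS (p := 11994) (l := 9) rfl N11994 D46926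
theorem N14157 : nd 14157 = n46927 := ndS (p := 11995) (l := 8) rfl N11995 D46927
theorem N14158 : nd 14158 = n46928 := ndS (p := 11996) (l := 6) rfl N11996 D46928
theorem N14159 : nd 14159 = n46929 := ndS (p := 11996) (l := 9) rfl N11996 D46929
theorem N14160 : nd 14160 = n46930 := ndS (p := 11997) (l := 8) rfl N11997 D46930
theorem N14161 : nd 14161 = n46931 := ndS (p := 11999) (l := 7) rfl N11999 D46931
theorem N14162 : nd 14162 = n46932 := ndS (p := 11999) (l := 9) rfl N11999 D46932
theorem N14163 : nd 14163 = n46933 := ndS (p := 12000) (l := 8) rfl N12000 D46933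
theorem N14164 : nd 14164 = n46934 := ndS (p := 12001) (l := 3) rfl N12001 D46934
theorem N14165 : nd 14165 = n46935 := ndS (p := 12002) (l := 9) rfl N12002 D46935
theorem N14166 : nd 14166 = n46936 := ndS (p := 12003) (l := 8) rfl N12003 D46936
theorem N14167 : nd 14167 = n46937 := ndS (p := 12005) (l := 9) rfl N12005 D46937
theorem N14168 : nd 14168 = n46938 := ndS (p := 12006) (l := 2) rfl N12006 D46938
theorem N14169 : nd 14169 = n46939 := ndS (p := 12006) (l := 9) rfl N12006 D46939
theorem N14170 : nd 14170 = n46940 := ndS (p := 12008) (l := 1) rfl N12008 D46940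
theorem N14171 : nd 14171 = n46941 := ndS (p := 12008) (l := 4) rfl N12008 D46941
theorem N14172 : nd 14172 = n46942 := ndS (p := 12008) (l := 9) rfl N12008 D46942
theorem N14173 : nd 14173 = n46943 := ndS (p := 12009) (l := 9) rfl N12009 D46943
theorem N14174 : nd 14174 = n46944 := ndS (p := 12010) (l := 8) rfl N12010 D46944
theorem N14175 : nd 14175 = n46945 := ndS (p := 12011) (l := 1) rfl N12011 D46945
theorem N14176 : nd 14176 = n46946 := ndS (p := 12011) (l := 9) rfl N12011 D46946
theorem N14177 : nd 14177 = n46947 := ndS (p := 12012) (l := 8) rfl N12012 D46947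
theorem N14178 : nd 14178 = n46948 := ndS (p := 12013) (l := 0) rfl N12013 D46948
theorem N14179 : nd 14179 = n46949 := ndS (p := 12013) (l := 9) rfl N12013 D46949
theorem N14180 : nd 14180 = n46950 := ndS (p := 12014) (l := 8) rfl N12014 D46950
theorem N14181 : nd 14181 = n46951 := ndS (p := 12016) (l := 9) rfl N12016 D46951
theorem N14182 : nd 14182 = n46952 := ndS (p := 12017) (l := 8) rfl N12017 D46952
theorem N14183 : nd 14183 = n46953 := ndS (p := 12018) (l := 3) rfl N12018 D46953
theorem N14184 : nd 14184 = n46954 := ndS (p := 12020) (l := 1) rfl N12020 D46954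
theorem N14185 : nd 14185 = n46955 := ndS (p := 12020) (l := 9) rfl N12020 D46955
theorem N14186 : nd 14186 = n46956 := ndS (p := 12021) (l := 8) rfl N12021 D46956
theorem N14187 : nd 14187 = n46957 := ndS (p := 12022) (l := 0) rfl N12022 D46957
theorem N14188 : nd 14188 = n46958 := ndS (p := 12022) (l := 4) rfl N12022 D46958
theorem N14189 : nd 14189 = n46959 := ndS (p := 12022) (l := 9) rfl N12022 D46959
theorem N14190 : nd 14190 = n46960 := ndS (p := 12023) (l := 9) rfl N12023 D46960
theorem N14191 : nd 14191 = n46961 := ndS (p := 12024) (l := 8) rfl N12024 D46961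
theorem N14192 : nd 14192 = n46962 := ndS (p := 12025) (l := 8) rfl N12025 D46962
theorem N14193 : nd 14193 = n46963 := ndS (p := 12027) (l := 0) rfl N12027 D46963
theorem N14194 : nd 14194 = n46964 := ndS (p := 12027) (l := 9) rfl N12027 D46964
theorem N14195 : nd 14195 = n46965 := ndS (p := 12028) (l := 8) rfl N12028 D46965
theorem N14196 : nd 14196 = n46966 := ndS (p := 12030) (l := 9) rfl N12030 D46966
theorem N14197 : nd 14197 = n46967 := ndS (p := 12031) (l := 8) rfl N12031 D46967
theorem N14198 : nd 14198 = n46968 := ndS (p := 12032) (l := 3) rfl N12032 D46968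
theorem N14199 : nd 14199 = n46969 := ndS (p := 12033) (l := 8) rfl N12033 D46969
theorem N14200 : nd 14200 = n46970 := ndS (p := 12034) (l := 3) rfl N12034 D46970
theorem N14201 : nd 14201 = n46971 := ndS (p := 12035) (l := 4) rfl N12035 D46971
theorem N14202 : nd 14202 = n46972 := ndS (p := 12036) (l := 9) rfl N12036 D46972
theorem N14203 : nd 14203 = n46973 := ndS (p := 12037) (l := 3) rfl N12037 D46973
theorem N14204 : nd 14204 = n46974 := ndS (p := 12037) (l := 9) rfl N12037 D46974
theorem N14205 : nd 14205 = n46975 := ndS (p := 12038) (l := 9) rfl N12038 D46975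
theorem N14206 : nd 14206 = n46976 := ndS (p := 12040) (l := 3) rfl N12040 D46976
theorem N14207 : nd 14207 = n46977 := ndS (p := 12040) (l := 9) rfl N12040 D46977
theorem N14208 : nd 14208 = n46978 := ndS (p := 12041) (l := 9) rfl N12041 D46978
theorem N14209 : nd 14209 = n46979 := ndS (p := 12043) (l := 4) rfl N12043 D46979
theorem N14210 : nd 14210 = n46980 := ndS (p := 12043) (l := 9) rfl N12043 D46980
theorem N14211 : nd 14211 = n46981 := ndS (p := 12045) (l := 9) rfl N12045 D46981
theorem N14212 : nd 14212 = n46982 := ndS (p := 12046) (l := 8) rfl N12046 D46982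
theorem N14213 : nd 14213 = n46983 := ndS (p := 12047) (l := 2) rfl N12047 D46983
theorem N14214 : nd 14214 = n46984 := ndS (p := 12047) (l := 9) rfl N12047 D46984
theorem N14215 : nd 14215 = n46985 := ndS (p := 12049) (l := 9) rfl N12049 D46985
theorem N14216 : nd 14216 = n46986 := ndS (p := 12051) (l := 3) rfl N12051 D46986
theorem N14217 : nd 14217 = n46987 := ndS (p := 12051) (l := 9) rfl N12051 D46987
theorem N14218 : nd 14218 = n46988 := ndS (p := 12052) (l := 9) rfl N12052 D46988
theorem N14219 : nd 14219 = n46989 := ndS (p := 12054) (l := 1) rfl N12054 D46989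
theorem N14220 : nd 14220 = n46990 := ndS (p := 12054) (l := 9) rfl N12054 D46990
theorem N14221 : nd 14221 = n46991 := ndS (p := 12055) (l := 8) rfl N12055 D46991
theorem N14222 : nd 14222 = n46992 := ndS (p := 12057) (l := 6) rfl N12057 D46992
theorem N14223 : nd 14223 = n46993 := ndS (p := 12057) (l := 8) rfl N12057 D46993
theorem N14224 : nd 14224 = n46994 := ndS (p := 12058) (l := 7) rfl N12058 D46994
theorem N14225 : nd 14225 = n46995 := ndS (p := 12058) (l := 8) rfl N12058 D46995
theorem N14226 : nd 14226 = n46996 := ndS (p := 12059) (l := 9) rfl N12059 D46996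
theorem N14227 : nd 14227 = n46997 := ndS (p := 12061) (l := 6) rfl N12061 D46997
theorem N14228 : nd 14228 = n46998 := ndS (p := 12061) (l := 8) rfl N12061 D46998
theorem N14229 : nd 14229 = n46999 := ndS (p := 12062) (l := 5) rfl N12062 D46999
theorem N14230 : nd 14230 = n47000 := ndS (p := 12062) (l := 7) rfl N12062 D47000
theorem N14231 : nd 14231 = n47001 := ndS (p := 12062) (l := 8) rfl N12062 D47001
theorem N14232 : nd 14232 = n47002 := ndS (p := 12063) (l := 3) rfl N12063 D47002
theorem N14233 : nd 14233 = n47003 := ndS (p := 12063) (l := 9) rfl N12063 D47003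
theorem N14234 : nd 14234 = n47004 := ndS (p := 12064) (l := 8) rfl N12064 D47004
theorem N14235 : nd 14235 = n47005 := ndS (p := 12065) (l := 9) rfl N12065 D47005
theorem N14236 : nd 14236 = n47006 := ndS (p := 12066) (l := 4) rfl N12066 D47006
theorem N14237 : nd 14237 = n47007 := ndS (p := 12066) (l := 9) rfl N12066 D47007
theorem N14238 : nd 14238 = n47008 := ndS (p := 12068) (l := 8) rfl N12068 D47008
theorem N14239 : nd 14239 = n47009 := ndS (p := 12069) (l := 7) rfl N12069 D47009
theorem N14240 : nd 14240 = n47010 := ndS (p := 12069) (l := 8) rfl N12069 D47010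
theorem N14241 : nd 14241 = n47011 := ndS (p := 12070) (l := 8) rfl N12070 D47011
theorem N14242 : nd 14242 = n47012 := ndS (p := 12071) (l := 9) rfl N12071 D47012
theorem N14243 : nd 14243 = n47013 := ndS (p := 12072) (l := 2) rfl N12072 D47013
theorem N14244 : nd 14244 = n47014 := ndS (p := 12072) (l := 9) rfl N12072 D47014
theorem N14245 : nd 14245 = n47015 := ndS (p := 12074) (l := 9) rfl N12074 D47015
theorem N14246 : nd 14246 = n47016 := ndS (p := 12076) (l := 7) rfl N12076 D47016
theorem N14247 : nd 14247 = n47017 := ndS (p := 12076) (l := 8) rfl N12076 D47017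
theorem N14248 : nd 14248 = n47018 := ndS (p := 12077) (l := 3) rfl N12077 D47018
theorem N14249 : nd 14249 = n47019 := ndS (p := 12077) (l := 9) rfl N12077 D47019
theorem N14250 : nd 14250 = n47020 := ndS (p := 12078) (l := 7) rfl N12078 D47020
theorem N14251 : nd 14251 = n47021 := ndS (p := 12078) (l := 8) rfl N12078 D47021
theorem N14252 : nd 14252 = n47022 := ndS (p := 12079) (l := 8) rfl N12079 D47022
theorem N14253 : nd 14253 = n47023 := ndS (p := 12080) (l := 3) rfl N12080 D47023
theorem N14254 : nd 14254 = n47024 := ndS (p := 12080) (l := 9) rfl N12080 D47024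
theorem N14255 : nd 14255 = n47025 := ndS (p := 12081) (l := 2) rfl N12081 D47025
theorem N14256 : nd 14256 = n47026 := ndS (p := 12081) (l := 4) rfl N12081 D47026
theorem N14257 : nd 14257 = n47027 := ndS (p := 12081) (l := 9) rfl N12081 D47027
theorem N14258 : nd 14258 = n47028 := ndS (p := 12083) (l := 3) rfl N12083 D47028
theorem N14259 : nd 14259 = n47029 := ndS (p := 12083) (l := 9) rfl N12083 D47029
theorem N14260 : nd 14260 = n47030 := ndS (p := 12084) (l := 9) rfl N12084 D47030
theorem N14261 : nd 14261 = n47031 := ndS (p := 12086) (l := 5) rfl N12086 D47031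
theorem N14262 : nd 14262 = n47032 := ndS (p := 12086) (l := 9) rfl N12086 D47032
theorem N14263 : nd 14263 = n47033 := ndS (p := 12087) (l := 8) rfl N12087 D47033
theorem N14264 : nd 14264 = n47034 := ndS (p := 12088) (l := 9) rfl N12088 D47034
theorem N14265 : nd 14265 = n47035 := ndS (p := 12089) (l := 8) rfl N12089 D47035
theorem N14266 : nd 14266 = n47036 := ndS (p := 12091) (l := 6) rfl N12091 D47036
theorem N14267 : nd 14267 = n47037 := ndS (p := 12091) (l := 8) rfl N12091 D47037
theorem N14268 : nd 14268 = n47038 := ndS (p := 12092) (l := 9) rfl N12092 D47038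
theorem N14269 : nd 14269 = n47039 := ndS (p := 12093) (l := 3) rfl N12093 D47039
theorem N14270 : nd 14270 = n47040 := ndS (p := 12093) (l := 9) rfl N12093 D47040
theorem N14271 : nd 14271 = n47041 := ndS (p := 12094) (l := 9) rfl N12094 D47041
theorem N14272 : nd 14272 = n47042 := ndS (p := 12096) (l := 1) rfl N12096 D47042
theorem N14273 : nd 14273 = n47043 := ndS (p := 12096) (l := 9) rfl N12096 D47043
theorem N14274 : nd 14274 = n47044 := ndS (p := 12097) (l := 8) rfl N12097 D47044
theorem N14275 : nd 14275 = n47045 := ndS (p := 12102) (l := 9) rfl N12102 D47045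
theorem N14276 : nd 14276 = n47046 := ndS (p := 12104) (l := 8) rfl N12104 D47046
theorem N14277 : nd 14277 = n47047 := ndS (p := 12105) (l := 0) rfl N12105 D47047
theorem N14278 : nd 14278 = n47048 := ndS (p := 12105) (l := 9) rfl N12105 D47048
theorem N14279 : nd 14279 = n47049 := ndS (p := 12106) (l := 8) rfl N12106 D47049
theorem N14280 : nd 14280 = n47050 := ndS (p := 12108) (l := 8) rfl N12108 D47050
theorem N14281 : nd 14281 = n47051 := ndS (p := 12109) (l := 7) rfl N12109 D47051
theorem N14282 : nd 14282 = n47052 := ndS (p := 12109) (l := 8) rfl N12109 D47052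
theorem N14283 : nd 14283 = n47053 := ndS (p := 12110) (l := 3) rfl N12110 D47053
theorem N14284 : nd 14284 = n47054 := ndS (p := 12110) (l := 9) rfl N12110 D47054
theorem N14285 : nd 14285 = n47055 := ndS (p := 12112) (l := 9) rfl N12112 D47055
theorem N14286 : nd 14286 = n47056 := ndS (p := 12114) (l := 7) rfl N12114 D47056
theorem N14287 : nd 14287 = n47057 := ndS (p := 12114) (l := 8) rfl N12114 D47057
theorem N14288 : nd 14288 = n47058 := ndS (p := 12115) (l := 3) rfl N12115 D47058
theorem N14289 : nd 14289 = n47059 := ndS (p := 12115) (l := 9) rfl N12115 D47059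
theorem N14290 : nd 14290 = n47060 := ndS (p := 12116) (l := 7) rfl N12116 D47060
theorem N14291 : nd 14291 = n47061 := ndS (p := 12116) (l := 8) rfl N12116 D47061
theorem N14292 : nd 14292 = n47062 := ndS (p := 12117) (l := 8) rfl N12117 D47062
theorem N14293 : nd 14293 = n47063 := ndS (p := 12118) (l := 3) rfl N12118 D47063
theorem N14294 : nd 14294 = n47064 := ndS (p := 12118) (l := 9) rfl N12118 D47064
theorem N14295 : nd 14295 = n47065 := ndS (p := 12119) (l := 2) rfl N12119 D47065
theorem N14296 : nd 14296 = n47066 := ndS (p := 12119) (l := 4) rfl N12119 D47066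
theorem N14297 : nd 14297 = n47067 := ndS (p := 12119) (l := 9) rfl N12119 D47067
theorem N14298 : nd 14298 = n47068 := ndS (p := 12121) (l := 9) rfl N12121 D47068
theorem N14299 : nd 14299 = n47069 := ndS (p := 12122) (l := 4) rfl N12122 D47069
theorem N14300 : nd 14300 = n47070 := ndS (p := 12122) (l := 9) rfl N12122 D47070
theorem N14301 : nd 14301 = n47071 := ndS (p := 12124) (l := 9) rfl N12124 D47071
theorem N14302 : nd 14302 = n47072 := ndS (p := 12125) (l := 8) rfl N12125 D47072
theorem N14303 : nd 14303 = n47073 := ndS (p := 12127) (l := 6) rfl N12127 D47073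
theorem N14304 : nd 14304 = n47074 := ndS (p := 12128) (l := 9) rfl N12128 D47074
theorem N14305 : nd 14305 = n47075 := ndS (p := 12129) (l := 9) rfl N12129 D47075
theorem N14306 : nd 14306 = n47076 := ndS (p := 12130) (l := 2) rfl N12130 D47076
theorem N14307 : nd 14307 = n47077 := ndS (p := 12130) (l := 9) rfl N12130 D47077
theorem N14308 : nd 14308 = n47078 := ndS (p := 12132) (l := 1) rfl N12132 D47078
theorem N14309 : nd 14309 = n47079 := ndS (p := 12132) (l := 9) rfl N12132 D47079
theorem N14310 : nd 14310 = n47080 := ndS (p := 12133) (l := 8) rfl N12133 D47080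
theorem N14311 : nd 14311 = n47081 := ndS (p := 12135) (l := 7) rfl N12135 D47081
theorem N14312 : nd 14312 = n47082 := ndS (p := 12135) (l := 8) rfl N12135 D47082
theorem N14313 : nd 14313 = n47083 := ndS (p := 12136) (l := 8) rfl N12136 D47083
theorem N14314 : nd 14314 = n47084 := ndS (p := 12137) (l := 3) rfl N12137 D47084
theorem N14315 : nd 14315 = n47085 := ndS (p := 12137) (l := 9) rfl N12137 D47085
theorem N14316 : nd 14316 = n47086 := ndS (p := 12138) (l := 2) rfl N12138 D47086
theorem N14317 : nd 14317 = n47087 := ndS (p := 12138) (l := 4) rfl N12138 D47087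
theorem N14318 : nd 14318 = n47088 := ndS (p := 12138) (l := 9) rfl N12138 D47088
theorem N14319 : nd 14319 = n47089 := ndS (p := 12140) (l := 6) rfl N12140 D47089
theorem N14320 : nd 14320 = n47090 := ndS (p := 12141) (l := 3) rfl N12141 D47090
theorem N14321 : nd 14321 = n47091 := ndS (p := 12141) (l := 9) rfl N12141 D47091
theorem N14322 : nd 14322 = n47092 := ndS (p := 12142) (l := 3) rfl N12142 D47092
theorem N14323 : nd 14323 = n47093 := ndS (p := 12142) (l := 9) rfl N12142 D47093
theorem N14324 : nd 14324 = n47094 := ndS (p := 12143) (l := 2) rfl N12143 D47094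
theorem N14325 : nd 14325 = n47095 := ndS (p := 12143) (l := 4) rfl N12143 D47095
theorem N14326 : nd 14326 = n47096 := ndS (p := 12143) (l := 9) rfl N12143 D47096
theorem N14327 : nd 14327 = n47097 := ndS (p := 12145) (l := 1) rfl N12145 D47097
theorem N14328 : nd 14328 = n47098 := ndS (p := 12145) (l := 4) rfl N12145 D47098
theorem N14329 : nd 14329 = n47099 := ndS (p := 12145) (l := 9) rfl N12145 D47099
theorem N14330 : nd 14330 = n47100 := ndS (p := 12146) (l := 5) rfl N12146 D47100
theorem N14331 : nd 14331 = n47101 := ndS (p := 12146) (l := 9) rfl N12146 D47101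
theorem N14332 : nd 14332 = n47102 := ndS (p := 12147) (l := 8) rfl N12147 D47102
theorem N14333 : nd 14333 = n47103 := ndS (p := 12149) (l := 9) rfl N12149 D47103
theorem N14334 : nd 14334 = n47104 := ndS (p := 12150) (l := 8) rfl N12150 D47104
theorem N14335 : nd 14335 = n47105 := ndS (p := 12151) (l := 6) rfl N12151 D47105
theorem N14336 : nd 14336 = n47106 := ndS (p := 12151) (l := 9) rfl N12151 D47106
theorem N14337 : nd 14337 = n47107 := ndS (p := 12152) (l := 8) rfl N12152 D47107
theorem N14338 : nd 14338 = n47108 := ndS (p := 12154) (l := 7) rfl N12154 D47108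
theorem N14339 : nd 14339 = n47109 := ndS (p := 12154) (l := 9) rfl N12154 D47109
theorem N14340 : nd 14340 = n47110 := ndS (p := 12155) (l := 8) rfl N12155 D47110
theorem N14341 : nd 14341 = n47111 := ndS (p := 12160) (l := 9) rfl N12160 D47111
theorem N14342 : nd 14342 = n47112 := ndS (p := 12161) (l := 8) rfl N12161 D47112
theorem N14343 : nd 14343 = n47113 := ndS (p := 12162) (l := 0) rfl N12162 D47113
theorem N14344 : nd 14344 = n47114 := ndS (p := 12162) (l := 9) rfl N12162 D47114
theorem N14345 : nd 14345 = n47115 := ndS (p := 12163) (l := 8) rfl N12163 D47115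
theorem N14346 : nd 14346 = n47116 := ndS (p := 12166) (l := 9) rfl N12166 D47116
theorem N14347 : nd 14347 = n47117 := ndS (p := 12167) (l := 8) rfl N12167 D47117
theorem N14348 : nd 14348 = n47118 := ndS (p := 12169) (l := 9) rfl N12169 D47118
theorem N14349 : nd 14349 = n47119 := ndS (p := 12171) (l := 3) rfl N12171 D47119
theorem N14350 : nd 14350 = n47120 := ndS (p := 12171) (l := 9) rfl N12171 D47120
theorem N14351 : nd 14351 = n47121 := ndS (p := 12172) (l := 9) rfl N12172 D47121
theorem N14352 : nd 14352 = n47122 := ndS (p := 12174) (l := 8) rfl N12174 D47122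
theorem N14353 : nd 14353 = n47123 := ndS (p := 12175) (l := 3) rfl N12175 D47123
theorem N14354 : nd 14354 = n47124 := ndS (p := 12175) (l := 9) rfl N12175 D47124
theorem N14355 : nd 14355 = n47125 := ndS (p := 12176) (l := 9) rfl N12176 D47125
theorem N14356 : nd 14356 = n47126 := ndS (p := 12178) (l := 9) rfl N12178 D47126
theorem N14357 : nd 14357 = n47127 := ndS (p := 12181) (l := 4) rfl N12181 D47127
theorem N14358 : nd 14358 = n47128 := ndS (p := 12181) (l := 9) rfl N12181 D47128
theorem N14359 : nd 14359 = n47129 := ndS (p := 12183) (l := 5) rfl N12183 D47129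
theorem N14360 : nd 14360 = n47130 := ndS (p := 12183) (l := 9) rfl N12183 D47130
theorem N14361 : nd 14361 = n47131 := ndS (p := 12184) (l := 8) rfl N12184 D47131
theorem N14362 : nd 14362 = n47132 := ndS (p := 12185) (l := 9) rfl N12185 D47132
theorem N14363 : nd 14363 = n47133 := ndS (p := 12186) (l := 8) rfl N12186 D47133
theorem N14364 : nd 14364 = n47134 := ndS (p := 12188) (l := 3) rfl N12188 D47134
theorem N14365 : nd 14365 = n47135 := ndS (p := 12188) (l := 9) rfl N12188 D47135
theorem N14366 : nd 14366 = n47136 := ndS (p := 12189) (l := 2) rfl N12189 D47136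
theorem N14367 : nd 14367 = n47137 := ndS (p := 12189) (l := 9) rfl N12189 D47137
theorem N14368 : nd 14368 = n47138 := ndS (p := 12191) (l := 1) rfl N12191 D47138
theorem N14369 : nd 14369 = n47139 := ndS (p := 12191) (l := 9) rfl N12191 D47139
theorem N14370 : nd 14370 = n47140 := ndS (p := 12192) (l := 8) rfl N12192 D47140
theorem N14371 : nd 14371 = n47141 := ndS (p := 12194) (l := 3) rfl N12194 D47141
theorem N14372 : nd 14372 = n47142 := ndS (p := 12194) (l := 9) rfl N12194 D47142
theorem N14373 : nd 14373 = n47143 := ndS (p := 12195) (l := 2) rfl N12195 D47143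
theorem N14374 : nd 14374 = n47144 := ndS (p := 12195) (l := 4) rfl N12195 D47144
theorem N14375 : nd 14375 = n47145 := ndS (p := 12195) (l := 9) rfl N12195 D47145
theorem N14376 : nd 14376 = n47146 := ndS (p := 12197) (l := 2) rfl N12197 D47146
theorem N14377 : nd 14377 = n47147 := ndS (p := 12197) (l := 9) rfl N12197 D47147
theorem N14378 : nd 14378 = n47148 := ndS (p := 12199) (l := 1) rfl N12199 D47148
theorem N14379 : nd 14379 = n47149 := ndS (p := 12199) (l := 9) rfl N12199 D47149
theorem N14380 : nd 14380 = n47150 := ndS (p := 12200) (l := 8) rfl N12200 D47150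
theorem N14381 : nd 14381 = n47151 := ndS (p := 12201) (l := 0) rfl N12201 D47151
theorem N14382 : nd 14382 = n47152 := ndS (p := 12201) (l := 9) rfl N12201 D47152
theorem N14383 : nd 14383 = n47153 := ndS (p := 12202) (l := 8) rfl N12202 D47153
theorem N14384 : nd 14384 = n47154 := ndS (p := 12204) (l := 6) rfl N12204 D47154
theorem N14385 : nd 14385 = n47155 := ndS (p := 12204) (l := 8) rfl N12204 D47155
theorem N14386 : nd 14386 = n47156 := ndS (p := 12205) (l := 5) rfl N12205 D47156
theorem N14387 : nd 14387 = n47157 := ndS (p := 12205) (l := 7) rfl N12205 D47157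
theorem N14388 : nd 14388 = n47158 := ndS (p := 12205) (l := 8) rfl N12205 D47158
theorem N14389 : nd 14389 = n47159 := ndS (p := 12206) (l := 3) rfl N12206 D47159
theorem N14390 : nd 14390 = n47160 := ndS (p := 12206) (l := 9) rfl N12206 D47160
theorem N14391 : nd 14391 = n47161 := ndS (p := 12207) (l := 8) rfl N12207 D47161
theorem N14392 : nd 14392 = n47162 := ndS (p := 12208) (l := 9) rfl N12208 D47162
theorem N14393 : nd 14393 = n47163 := ndS (p := 12210) (l := 5) rfl N12210 D47163
theorem N14394 : nd 14394 = n47164 := ndS (p := 12210) (l := 7) rfl N12210 D47164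
theorem N14395 : nd 14395 = n47165 := ndS (p := 12210) (l := 8) rfl N12210 D47165
theorem N14396 : nd 14396 = n47166 := ndS (p := 12211) (l := 3) rfl N12211 D47166
theorem N14397 : nd 14397 = n47167 := ndS (p := 12211) (l := 9) rfl N12211 D47167
theorem N14398 : nd 14398 = n47168 := ndS (p := 12212) (l := 7) rfl N12212 D47168
theorem N14399 : nd 14399 = n47169 := ndS (p := 12212) (l := 8) rfl N12212 D47169
theorem N14400 : nd 14400 = n47170 := ndS (p := 12213) (l := 8) rfl N12213 D47170
theorem N14401 : nd 14401 = n47171 := ndS (p := 12214) (l := 3) rfl N12214 D47171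
theorem N14402 : nd 14402 = n47172 := ndS (p := 12214) (l := 9) rfl N12214 D47172
theorem N14403 : nd 14403 = n47173 := ndS (p := 12215) (l := 2) rfl N12215 D47173
theorem N14404 : nd 14404 = n47174 := ndS (p := 12215) (l := 4) rfl N12215 D47174
theorem N14405 : nd 14405 = n47175 := ndS (p := 12215) (l := 9) rfl N12215 D47175
theorem N14406 : nd 14406 = n47176 := ndS (p := 12217) (l := 9) rfl N12217 D47176
theorem N14407 : nd 14407 = n47177 := ndS (p := 12218) (l := 4) rfl N12218 D47177
theorem N14408 : nd 14408 = n47178 := ndS (p := 12218) (l := 9) rfl N12218 D47178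
theorem N14409 : nd 14409 = n47179 := ndS (p := 12220) (l := 9) rfl N12220 D47179
theorem N14410 : nd 14410 = n47180 := ndS (p := 12221) (l := 8) rfl N12221 D47180
theorem N14411 : nd 14411 = n47181 := ndS (p := 12223) (l := 6) rfl N12223 D47181
theorem N14412 : nd 14412 = n47182 := ndS (p := 12223) (l := 8) rfl N12223 D47182
theorem N14413 : nd 14413 = n47183 := ndS (p := 12224) (l := 3) rfl N12224 D47183
theorem N14414 : nd 14414 = n47184 := ndS (p := 12224) (l := 9) rfl N12224 D47184
theorem N14415 : nd 14415 = n47185 := ndS (p := 12225) (l := 9) rfl N12225 D47185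
theorem N14416 : nd 14416 = n47186 := ndS (p := 12226) (l := 2) rfl N12226 D47186
theorem N14417 : nd 14417 = n47187 := ndS (p := 12226) (l := 9) rfl N12226 D47187
theorem N14418 : nd 14418 = n47188 := ndS (p := 12228) (l := 1) rfl N12228 D47188
theorem N14419 : nd 14419 = n47189 := ndS (p := 12228) (l := 9) rfl N12228 D47189
theorem N14420 : nd 14420 = n47190 := ndS (p := 12229) (l := 8) rfl N12229 D47190
theorem N14421 : nd 14421 = n47191 := ndS (p := 12231) (l := 4) rfl N12231 D47191
theorem N14422 : nd 14422 = n47192 := ndS (p := 12231) (l := 7) rfl N12231 D47192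
theorem N14423 : nd 14423 = n47193 := ndS (p := 12231) (l := 8) rfl N12231 D47193
theorem N14424 : nd 14424 = n47194 := ndS (p := 12232) (l := 8) rfl N12232 D47194
theorem N14425 : nd 14425 = n47195 := ndS (p := 12233) (l := 3) rfl N12233 D47195
theorem N14426 : nd 14426 = n47196 := ndS (p := 12233) (l := 9) rfl N12233 D47196
theorem N14427 : nd 14427 = n47197 := ndS (p := 12234) (l := 2) rfl N12234 D47197
theorem N14428 : nd 14428 = n47198 := ndS (p := 12234) (l := 4) rfl N12234 D47198
theorem N14429 : nd 14429 = n47199 := ndS (p := 12234) (l := 9) rfl N12234 D47199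
theorem N14430 : nd 14430 = n47200 := ndS (p := 12236) (l := 6) rfl N12236 D47200
theorem N14431 : nd 14431 = n47201 := ndS (p := 12236) (l := 8) rfl N12236 D47201
theorem N14432 : nd 14432 = n47202 := ndS (p := 12237) (l := 3) rfl N12237 D47202
theorem N14433 : nd 14433 = n47203 := ndS (p := 12237) (l := 9) rfl N12237 D47203
theorem N14434 : nd 14434 = n47204 := ndS (p := 12238) (l := 3) rfl N12238 D47204
theorem N14435 : nd 14435 = n47205 := ndS (p := 12238) (l := 9) rfl N12238 D47205
theorem N14436 : nd 14436 = n47206 := ndS (p := 12239) (l := 2) rfl N12239 D47206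
theorem N14437 : nd 14437 = n47207 := ndS (p := 12239) (l := 4) rfl N12239 D47207
theorem N14438 : nd 14438 = n47208 := ndS (p := 12239) (l := 9) rfl N12239 D47208
theorem N14439 : nd 14439 = n47209 := ndS (p := 12241) (l := 1) rfl N12241 D47209
theorem N14440 : nd 14440 = n47210 := ndS (p := 12241) (l := 4) rfl N12241 D47210
theorem N14441 : nd 14441 = n47211 := ndS (p := 12241) (l := 9) rfl N12241 D47211
theorem N14442 : nd 14442 = n47212 := ndS (p := 12242) (l := 5) rfl N12242 D47212
theorem N14443 : nd 14443 = n47213 := ndS (p := 12242) (l := 9) rfl N12242 D47213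
theorem N14444 : nd 14444 = n47214 := ndS (p := 12243) (l := 8) rfl N12243 D47214
theorem N14445 : nd 14445 = n47215 := ndS (p := 12244) (l := 9) rfl N12244 D47215
theorem N14446 : nd 14446 = n47216 := ndS (p := 12246) (l := 5) rfl N12246 D47216
theorem N14447 : nd 14447 = n47217 := ndS (p := 12246) (l := 9) rfl N12246 D47217
theorem N14448 : nd 14448 = n47218 := ndS (p := 12247) (l := 8) rfl N12247 D47218
theorem N14449 : nd 14449 = n47219 := ndS (p := 12248) (l := 6) rfl N12248 D47219
theorem N14450 : nd 14450 = n47220 := ndS (p := 12248) (l := 9) rfl N12248 D47220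
theorem N14451 : nd 14451 = n47221 := ndS (p := 12249) (l := 8) rfl N12249 D47221
theorem N14452 : nd 14452 = n47222 := ndS (p := 12251) (l := 9) rfl N12251 D47222
theorem N14453 : nd 14453 = n47223 := ndS (p := 12252) (l := 8) rfl N12252 D47223
theorem N14454 : nd 14454 = n47224 := ndS (p := 12254) (l := 8) rfl N12254 D47224
theorem N14455 : nd 14455 = n47225 := ndS (p := 12255) (l := 3) rfl N12255 D47225
theorem N14456 : nd 14456 = n47226 := ndS (p := 12255) (l := 9) rfl N12255 D47226
theorem N14457 : nd 14457 = n47227 := ndS (p := 12256) (l := 2) rfl N12256 D47227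
theorem N14458 : nd 14458 = n47228 := ndS (p := 12256) (l := 4) rfl N12256 D47228
theorem N14459 : nd 14459 = n47229 := ndS (p := 12256) (l := 9) rfl N12256 D47229
theorem N14460 : nd 14460 = n47230 := ndS (p := 12258) (l := 9) rfl N12258 D47230
theorem N14461 : nd 14461 = n47231 := ndS (p := 12260) (l := 1) rfl N12260 D47231
theorem N14462 : nd 14462 = n47232 := ndS (p := 12260) (l := 9) rfl N12260 D47232
theorem N14463 : nd 14463 = n47233 := ndS (p := 12261) (l := 8) rfl N12261 D47233
theorem N14464 : nd 14464 = n47234 := ndS (p := 12262) (l := 0) rfl N12262 D47234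
theorem N14465 : nd 14465 = n47235 := ndS (p := 12262) (l := 9) rfl N12262 D47235
theorem N14466 : nd 14466 = n47236 := ndS (p := 12263) (l := 8) rfl N12263 D47236
theorem N14467 : nd 14467 = n47237 := ndS (p := 12265) (l := 9) rfl N12265 D47237
theorem N14468 : nd 14468 = n47238 := ndS (p := 12266) (l := 4) rfl N12266 D47238
theorem N14469 : nd 14469 = n47239 := ndS (p := 12266) (l := 9) rfl N12266 D47239
theorem N14470 : nd 14470 = n47240 := ndS (p := 12268) (l := 1) rfl N12268 D47240
theorem N14471 : nd 14471 = n47241 := ndS (p := 12268) (l := 4) rfl N12268 D47241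
theorem N14472 : nd 14472 = n47242 := ndS (p := 12268) (l := 9) rfl N12268 D47242
theorem N14473 : nd 14473 = n47243 := ndS (p := 12269) (l := 9) rfl N12269 D47243
theorem N14474 : nd 14474 = n47244 := ndS (p := 12270) (l := 8) rfl N12270 D47244
theorem N14475 : nd 14475 = n47245 := ndS (p := 12271) (l := 1) rfl N12271 D47245
theorem N14476 : nd 14476 = n47246 := ndS (p := 12271) (l := 9) rfl N12271 D47246
theorem N14477 : nd 14477 = n47247 := ndS (p := 12272) (l := 8) rfl N12272 D47247
theorem N14478 : nd 14478 = n47248 := ndS (p := 12273) (l := 0) rfl N12273 D47248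
theorem N14479 : nd 14479 = n47249 := ndS (p := 12273) (l := 9) rfl N12273 D47249
theorem N14480 : nd 14480 = n47250 := ndS (p := 12274) (l := 8) rfl N12274 D47250
theorem N14481 : nd 14481 = n47251 := ndS (p := 12276) (l := 9) rfl N12276 D47251
theorem N14482 : nd 14482 = n47252 := ndS (p := 12277) (l := 8) rfl N12277 D47252
theorem N14483 : nd 14483 = n47253 := ndS (p := 12278) (l := 3) rfl N12278 D47253
theorem N14484 : nd 14484 = n47254 := ndS (p := 12279) (l := 6) rfl N12279 D47254
theorem N14485 : nd 14485 = n47255 := ndS (p := 12280) (l := 5) rfl N12280 D47255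
theorem N14486 : nd 14486 = n47256 := ndS (p := 12280) (l := 7) rfl N12280 D47256
theorem N14487 : nd 14487 = n47257 := ndS (p := 12280) (l := 8) rfl N12280 D47257
theorem N14488 : nd 14488 = n47258 := ndS (p := 12281) (l := 3) rfl N12281 D47258
theorem N14489 : nd 14489 = n47259 := ndS (p := 12281) (l := 9) rfl N12281 D47259
theorem N14490 : nd 14490 = n47260 := ndS (p := 12282) (l := 7) rfl N12282 D47260
theorem N14491 : nd 14491 = n47261 := ndS (p := 12282) (l := 8) rfl N12282 D47261
theorem N14492 : nd 14492 = n47262 := ndS (p := 12283) (l := 8) rfl N12283 D47262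
theorem N14493 : nd 14493 = n47263 := ndS (p := 12284) (l := 3) rfl N12284 D47263
theorem N14494 : nd 14494 = n47264 := ndS (p := 12284) (l := 9) rfl N12284 D47264
theorem N14495 : nd 14495 = n47265 := ndS (p := 12285) (l := 2) rfl N12285 D47265
theorem N14496 : nd 14496 = n47266 := ndS (p := 12285) (l := 9) rfl N12285 D47266
theorem N14497 : nd 14497 = n47267 := ndS (p := 12287) (l := 9) rfl N12287 D47267
theorem N14498 : nd 14498 = n47268 := ndS (p := 12289) (l := 4) rfl N12289 D47268
theorem N14499 : nd 14499 = n47269 := ndS (p := 12289) (l := 7) rfl N12289 D47269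
theorem N14500 : nd 14500 = n47270 := ndS (p := 12289) (l := 8) rfl N12289 D47270
theorem N14501 : nd 14501 = n47271 := ndS (p := 12290) (l := 8) rfl N12290 D47271
theorem N14502 : nd 14502 = n47272 := ndS (p := 12291) (l := 3) rfl N12291 D47272
theorem N14503 : nd 14503 = n47273 := ndS (p := 12291) (l := 9) rfl N12291 D47273
theorem N14504 : nd 14504 = n47274 := ndS (p := 12292) (l := 2) rfl N12292 D47274
theorem N14505 : nd 14505 = n47275 := ndS (p := 12292) (l := 4) rfl N12292 D47275
theorem N14506 : nd 14506 = n47276 := ndS (p := 12292) (l := 9) rfl N12292 D47276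
theorem N14507 : nd 14507 = n47277 := ndS (p := 12294) (l := 6) rfl N12294 D47277
theorem N14508 : nd 14508 = n47278 := ndS (p := 12294) (l := 8) rfl N12294 D47278
theorem N14509 : nd 14509 = n47279 := ndS (p := 12295) (l := 3) rfl N12295 D47279
theorem N14510 : nd 14510 = n47280 := ndS (p := 12295) (l := 9) rfl N12295 D47280
theorem N14511 : nd 14511 = n47281 := ndS (p := 12296) (l := 3) rfl N12296 D47281
theorem N14512 : nd 14512 = n47282 := ndS (p := 12296) (l := 9) rfl N12296 D47282
theorem N14513 : nd 14513 = n47283 := ndS (p := 12297) (l := 2) rfl N12297 D47283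
theorem N14514 : nd 14514 = n47284 := ndS (p := 12297) (l := 4) rfl N12297 D47284
theorem N14515 : nd 14515 = n47285 := ndS (p := 12297) (l := 9) rfl N12297 D47285
theorem N14516 : nd 14516 = n47286 := ndS (p := 12299) (l := 1) rfl N12299 D47286
theorem N14517 : nd 14517 = n47287 := ndS (p := 12299) (l := 4) rfl N12299 D47287
theorem N14518 : nd 14518 = n47288 := ndS (p := 12299) (l := 9) rfl N12299 D47288
theorem N14519 : nd 14519 = n47289 := ndS (p := 12300) (l := 9) rfl N12300 D47289
theorem N14520 : nd 14520 = n47290 := ndS (p := 12301) (l := 8) rfl N12301 D47290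
theorem N14521 : nd 14521 = n47291 := ndS (p := 12302) (l := 4) rfl N12302 D47291
theorem N14522 : nd 14522 = n47292 := ndS (p := 12302) (l := 9) rfl N12302 D47292
theorem N14523 : nd 14523 = n47293 := ndS (p := 12304) (l := 5) rfl N12304 D47293
theorem N14524 : nd 14524 = n47294 := ndS (p := 12304) (l := 9) rfl N12304 D47294
theorem N14525 : nd 14525 = n47295 := ndS (p := 12305) (l := 8) rfl N12305 D47295
theorem N14526 : nd 14526 = n47296 := ndS (p := 12306) (l := 8) rfl N12306 D47296
theorem N14527 : nd 14527 = n47297 := ndS (p := 12308) (l := 8) rfl N12308 D47297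
theorem N14528 : nd 14528 = n47298 := ndS (p := 12309) (l := 3) rfl N12309 D47298
theorem N14529 : nd 14529 = n47299 := ndS (p := 12309) (l := 9) rfl N12309 D47299
theorem N14530 : nd 14530 = n47300 := ndS (p := 12310) (l := 2) rfl N12310 D47300
theorem N14531 : nd 14531 = n47301 := ndS (p := 12310) (l := 4) rfl N12310 D47301
theorem N14532 : nd 14532 = n47302 := ndS (p := 12310) (l := 9) rfl N12310 D47302
theorem N14533 : nd 14533 = n47303 := ndS (p := 12312) (l := 2) rfl N12312 D47303
theorem N14534 : nd 14534 = n47304 := ndS (p := 12312) (l := 9) rfl N12312 D47304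
theorem N14535 : nd 14535 = n47305 := ndS (p := 12314) (l := 1) rfl N12314 D47305
theorem N14536 : nd 14536 = n47306 := ndS (p := 12314) (l := 9) rfl N12314 D47306
theorem N14537 : nd 14537 = n47307 := ndS (p := 12315) (l := 8) rfl N12315 D47307
theorem N14538 : nd 14538 = n47308 := ndS (p := 12316) (l := 0) rfl N12316 D47308
theorem N14539 : nd 14539 = n47309 := ndS (p := 12316) (l := 9) rfl N12316 D47309
theorem N14540 : nd 14540 = n47310 := ndS (p := 12317) (l := 8) rfl N12317 D47310
theorem N14541 : nd 14541 = n47311 := ndS (p := 12319) (l := 7) rfl N12319 D47311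
theorem N14542 : nd 14542 = n47312 := ndS (p := 12319) (l := 8) rfl N12319 D47312
theorem N14543 : nd 14543 = n47313 := ndS (p := 12320) (l := 6) rfl N12320 D47313
theorem N14544 : nd 14544 = n47314 := ndS (p := 12320) (l := 8) rfl N12320 D47314
theorem N14545 : nd 14545 = n47315 := ndS (p := 12321) (l := 3) rfl N12321 D47315
theorem N14546 : nd 14546 = n47316 := ndS (p := 12321) (l := 9) rfl N12321 D47316
theorem N14547 : nd 14547 = n47317 := ndS (p := 12322) (l := 3) rfl N12322 D47317
theorem N14548 : nd 14548 = n47318 := ndS (p := 12322) (l := 9) rfl N12322 D47318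
theorem N14549 : nd 14549 = n47319 := ndS (p := 12323) (l := 2) rfl N12323 D47319
theorem N14550 : nd 14550 = n47320 := ndS (p := 12323) (l := 4) rfl N12323 D47320
theorem N14551 : nd 14551 = n47321 := ndS (p := 12323) (l := 9) rfl N12323 D47321
theorem N14552 : nd 14552 = n47322 := ndS (p := 12325) (l := 1) rfl N12325 D47322
theorem N14553 : nd 14553 = n47323 := ndS (p := 12325) (l := 4) rfl N12325 D47323
theorem N14554 : nd 14554 = n47324 := ndS (p := 12325) (l := 9) rfl N12325 D47324
theorem N14555 : nd 14555 = n47325 := ndS (p := 12326) (l := 5) rfl N12326 D47325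
theorem N14556 : nd 14556 = n47326 := ndS (p := 12326) (l := 9) rfl N12326 D47326
theorem N14557 : nd 14557 = n47327 := ndS (p := 12327) (l := 8) rfl N12327 D47327
theorem N14558 : nd 14558 = n47328 := ndS (p := 12328) (l := 8) rfl N12328 D47328
theorem N14559 : nd 14559 = n47329 := ndS (p := 12329) (l := 3) rfl N12329 D47329
theorem N14560 : nd 14560 = n47330 := ndS (p := 12329) (l := 9) rfl N12329 D47330
theorem N14561 : nd 14561 = n47331 := ndS (p := 12330) (l := 2) rfl N12330 D47331
theorem N14562 : nd 14562 = n47332 := ndS (p := 12330) (l := 4) rfl N12330 D47332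
theorem N14563 : nd 14563 = n47333 := ndS (p := 12330) (l := 9) rfl N12330 D47333
theorem N14564 : nd 14564 = n47334 := ndS (p := 12332) (l := 2) rfl N12332 D47334
theorem N14565 : nd 14565 = n47335 := ndS (p := 12332) (l := 4) rfl N12332 D47335
theorem N14566 : nd 14566 = n47336 := ndS (p := 12332) (l := 9) rfl N12332 D47336
theorem N14567 : nd 14567 = n47337 := ndS (p := 12334) (l := 1) rfl N12334 D47337
theorem N14568 : nd 14568 = n47338 := ndS (p := 12334) (l := 4) rfl N12334 D47338
theorem N14569 : nd 14569 = n47339 := ndS (p := 12334) (l := 9) rfl N12334 D47339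
theorem N14570 : nd 14570 = n47340 := ndS (p := 12335) (l := 5) rfl N12335 D47340
theorem N14571 : nd 14571 = n47341 := ndS (p := 12335) (l := 9) rfl N12335 D47341
theorem N14572 : nd 14572 = n47342 := ndS (p := 12336) (l := 8) rfl N12336 D47342
theorem N14573 : nd 14573 = n47343 := ndS (p := 12337) (l := 0) rfl N12337 D47343
theorem N14574 : nd 14574 = n47344 := ndS (p := 12337) (l := 4) rfl N12337 D47344
theorem N14575 : nd 14575 = n47345 := ndS (p := 12337) (l := 9) rfl N12337 D47345
theorem N14576 : nd 14576 = n47346 := ndS (p := 12338) (l := 5) rfl N12338 D47346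
theorem N14577 : nd 14577 = n47347 := ndS (p := 12338) (l := 9) rfl N12338 D47347
theorem N14578 : nd 14578 = n47348 := ndS (p := 12339) (l := 8) rfl N12339 D47348
theorem N14579 : nd 14579 = n47349 := ndS (p := 12340) (l := 6) rfl N12340 D47349
theorem N14580 : nd 14580 = n47350 := ndS (p := 12340) (l := 9) rfl N12340 D47350
theorem N14581 : nd 14581 = n47351 := ndS (p := 12341) (l := 8) rfl N12341 D47351
theorem N14582 : nd 14582 = n47352 := ndS (p := 12343) (l := 5) rfl N12343 D47352
theorem N14583 : nd 14583 = n47353 := ndS (p := 12343) (l := 9) rfl N12343 D47353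
theorem N14584 : nd 14584 = n47354 := ndS (p := 12344) (l := 8) rfl N12344 D47354
theorem N14585 : nd 14585 = n47355 := ndS (p := 12345) (l := 6) rfl N12345 D47355
theorem N14586 : nd 14586 = n47356 := ndS (p := 12345) (l := 9) rfl N12345 D47356
theorem N14587 : nd 14587 = n47357 := ndS (p := 12346) (l := 8) rfl N12346 D47357
theorem N14588 : nd 14588 = n47358 := ndS (p := 12348) (l := 7) rfl N12348 D47358
theorem N14589 : nd 14589 = n47359 := ndS (p := 12348) (l := 9) rfl N12348 D47359
theorem N14590 : nd 14590 = n47360 := ndS (p := 12349) (l := 8) rfl N12349 D47360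
theorem N14591 : nd 14591 = n47361 := ndS (p := 12350) (l := 3) rfl N12350 D47361
theorem N14592 : nd 14592 = n47362 := ndS (p := 12351) (l := 9) rfl N12351 D47362
theorem N14593 : nd 14593 = n47363 := ndS (p := 12352) (l := 8) rfl N12352 D47363
theorem N14594 : nd 14594 = n47364 := ndS (p := 12354) (l := 9) rfl N12354 D47364
theorem N14595 : nd 14595 = n47365 := ndS (p := 12355) (l := 2) rfl N12355 D47365
theorem N14596 : nd 14596 = n47366 := ndS (p := 12355) (l := 4) rfl N12355 D47366
theorem N14597 : nd 14597 = n47367 := ndS (p := 12355) (l := 9) rfl N12355 D47367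
theorem N14598 : nd 14598 = n47368 := ndS (p := 12357) (l := 1) rfl N12357 D47368
theorem N14599 : nd 14599 = n47369 := ndS (p := 12357) (l := 4) rfl N12357 D47369
theorem N14600 : nd 14600 = n47370 := ndS (p := 12357) (l := 9) rfl N12357 D47370
theorem N14601 : nd 14601 = n47371 := ndS (p := 12358) (l := 9) rfl N12358 D47371
theorem N14602 : nd 14602 = n47372 := ndS (p := 12359) (l := 8) rfl N12359 D47372
theorem N14603 : nd 14603 = n47373 := ndS (p := 12360) (l := 9) rfl N12360 D47373
theorem N14604 : nd 14604 = n47374 := ndS (p := 12361) (l := 8) rfl N12361 D47374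
theorem N14605 : nd 14605 = n47375 := ndS (p := 12362) (l := 0) rfl N12362 D47375
theorem N14606 : nd 14606 = n47376 := ndS (p := 12362) (l := 9) rfl N12362 D47376
theorem N14607 : nd 14607 = n47377 := ndS (p := 12363) (l := 8) rfl N12363 D47377
theorem N14608 : nd 14608 = n47378 := ndS (p := 12365) (l := 9) rfl N12365 D47378
theorem N14609 : nd 14609 = n47379 := ndS (p := 12366) (l := 8) rfl N12366 D47379
theorem N14610 : nd 14610 = n47380 := ndS (p := 12367) (l := 3) rfl N12367 D47380
theorem N14611 : nd 14611 = n47381 := ndS (p := 12369) (l := 9) rfl N12369 D47381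
theorem N14612 : nd 14612 = n47382 := ndS (p := 12370) (l := 8) rfl N12370 D47382
theorem N14613 : nd 14613 = n47383 := ndS (p := 12371) (l := 0) rfl N12371 D47383
theorem N14614 : nd 14614 = n47384 := ndS (p := 12371) (l := 4) rfl N12371 D47384
theorem N14615 : nd 14615 = n47385 := ndS (p := 12371) (l := 9) rfl N12371 D47385
theorem N14616 : nd 14616 = n47386 := ndS (p := 12372) (l := 9) rfl N12372 D47386
theorem N14617 : nd 14617 = n47387 := ndS (p := 12373) (l := 8) rfl N12373 D47387
theorem N14618 : nd 14618 = n47388 := ndS (p := 12374) (l := 8) rfl N12374 D47388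
theorem N14619 : nd 14619 = n47389 := ndS (p := 12377) (l := 9) rfl N12377 D47389
theorem N14620 : nd 14620 = n47390 := ndS (p := 12378) (l := 8) rfl N12378 D47390
theorem N14621 : nd 14621 = n47391 := ndS (p := 12380) (l := 8) rfl N12380 D47391
theorem N14622 : nd 14622 = n47392 := ndS (p := 12381) (l := 3) rfl N12381 D47392
theorem N14623 : nd 14623 = n47393 := ndS (p := 12383) (l := 9) rfl N12383 D47393
theorem N14624 : nd 14624 = n47394 := ndS (p := 12385) (l := 8) rfl N12385 D47394
theorem N14625 : nd 14625 = n47395 := ndS (p := 12386) (l := 4) rfl N12386 D47395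
theorem N14626 : nd 14626 = n47396 := ndS (p := 12386) (l := 9) rfl N12386 D47396
theorem N14627 : nd 14627 = n47397 := ndS (p := 12388) (l := 9) rfl N12388 D47397
theorem N14628 : nd 14628 = n47398 := ndS (p := 12389) (l := 8) rfl N12389 D47398
theorem N14629 : nd 14629 = n47399 := ndS (p := 12393) (l := 9) rfl N12393 D47399
theorem N14630 : nd 14630 = n47400 := ndS (p := 12395) (l := 9) rfl N12395 D47400
theorem N14631 : nd 14631 = n47401 := ndS (p := 12397) (l := 5) rfl N12397 D47401
theorem N14632 : nd 14632 = n47402 := ndS (p := 12397) (l := 9) rfl N12397 D47402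
theorem N14633 : nd 14633 = n47403 := ndS (p := 12398) (l := 8) rfl N12398 D47403
theorem N14634 : nd 14634 = n47404 := ndS (p := 12399) (l := 6) rfl N12399 D47404
theorem N14635 : nd 14635 = n47405 := ndS (p := 12399) (l := 9) rfl N12399 D47405
theorem N14636 : nd 14636 = n47406 := ndS (p := 12400) (l := 8) rfl N12400 D47406
theorem N14637 : nd 14637 = n47407 := ndS (p := 12402) (l := 9) rfl N12402 D47407
theorem N14638 : nd 14638 = n47408 := ndS (p := 12403) (l := 8) rfl N12403 D47408
theorem N14639 : nd 14639 = n47409 := ndS (p := 12404) (l := 3) rfl N12404 D47409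
theorem N14640 : nd 14640 = n47410 := ndS (p := 12408) (l := 9) rfl N12408 D47410
theorem N14641 : nd 14641 = n47411 := ndS (p := 12413) (l := 7) rfl N12413 D47411
theorem N14642 : nd 14642 = n47412 := ndS (p := 12413) (l := 8) rfl N12413 D47412
theorem N14643 : nd 14643 = n47413 := ndS (p := 12414) (l := 8) rfl N12414 D47413
theorem N14644 : nd 14644 = n47414 := ndS (p := 12415) (l := 3) rfl N12415 D47414
theorem N14645 : nd 14645 = n47415 := ndS (p := 12415) (l := 9) rfl N12415 D47415
theorem N14646 : nd 14646 = n47416 := ndS (p := 12416) (l := 2) rfl N12416 D47416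
theorem N14647 : nd 14647 = n47417 := ndS (p := 12416) (l := 9) rfl N12416 D47417
theorem N14648 : nd 14648 = n47418 := ndS (p := 12418) (l := 9) rfl N12418 D47418
theorem N14649 : nd 14649 = n47419 := ndS (p := 12420) (l := 6) rfl N12420 D47419
theorem N14650 : nd 14650 = n47420 := ndS (p := 12420) (l := 8) rfl N12420 D47420
theorem N14651 : nd 14651 = n47421 := ndS (p := 12421) (l := 3) rfl N12421 D47421
theorem N14652 : nd 14652 = n47422 := ndS (p := 12421) (l := 9) rfl N12421 D47422
theorem N14653 : nd 14653 = n47423 := ndS (p := 12422) (l := 3) rfl N12422 D47423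
theorem N14654 : nd 14654 = n47424 := ndS (p := 12422) (l := 9) rfl N12422 D47424
theorem N14655 : nd 14655 = n47425 := ndS (p := 12423) (l := 4) rfl N12423 D47425
theorem N14656 : nd 14656 = n47426 := ndS (p := 12423) (l := 9) rfl N12423 D47426
theorem N14657 : nd 14657 = n47427 := ndS (p := 12425) (l := 9) rfl N12425 D47427
theorem N14658 : nd 14658 = n47428 := ndS (p := 12426) (l := 8) rfl N12426 D47428
theorem N14659 : nd 14659 = n47429 := ndS (p := 12427) (l := 4) rfl N12427 D47429
theorem N14660 : nd 14660 = n47430 := ndS (p := 12427) (l := 9) rfl N12427 D47430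
theorem N14661 : nd 14661 = n47431 := ndS (p := 12429) (l := 5) rfl N12429 D47431
theorem N14662 : nd 14662 = n47432 := ndS (p := 12429) (l := 9) rfl N12429 D47432
theorem N14663 : nd 14663 = n47433 := ndS (p := 12430) (l := 8) rfl N12430 D47433
theorem N14664 : nd 14664 = n47434 := ndS (p := 12431) (l := 8) rfl N12431 D47434
theorem N14665 : nd 14665 = n47435 := ndS (p := 12433) (l := 8) rfl N12433 D47435
theorem N14666 : nd 14666 = n47436 := ndS (p := 12434) (l := 9) rfl N12434 D47436
theorem N14667 : nd 14667 = n47437 := ndS (p := 12437) (l := 7) rfl N12437 D47437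
theorem N14668 : nd 14668 = n47438 := ndS (p := 12437) (l := 8) rfl N12437 D47438
theorem N14669 : nd 14669 = n47439 := ndS (p := 12438) (l := 6) rfl N12438 D47439
theorem N14670 : nd 14670 = n47440 := ndS (p := 12438) (l := 8) rfl N12438 D47440
theorem N14671 : nd 14671 = n47441 := ndS (p := 12439) (l := 3) rfl N12439 D47441
theorem N14672 : nd 14672 = n47442 := ndS (p := 12439) (l := 9) rfl N12439 D47442
theorem N14673 : nd 14673 = n47443 := ndS (p := 12440) (l := 3) rfl N12440 D47443
theorem N14674 : nd 14674 = n47444 := ndS (p := 12440) (l := 9) rfl N12440 D47444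
theorem N14675 : nd 14675 = n47445 := ndS (p := 12441) (l := 4) rfl N12441 D47445
theorem N14676 : nd 14676 = n47446 := ndS (p := 12441) (l := 9) rfl N12441 D47446
theorem N14677 : nd 14677 = n47447 := ndS (p := 12443) (l := 9) rfl N12443 D47447
theorem N14678 : nd 14678 = n47448 := ndS (p := 12444) (l := 8) rfl N12444 D47448
theorem N14679 : nd 14679 = n47449 := ndS (p := 12445) (l := 8) rfl N12445 D47449
theorem N14680 : nd 14680 = n47450 := ndS (p := 12446) (l := 3) rfl N12446 D47450
theorem N14681 : nd 14681 = n47451 := ndS (p := 12446) (l := 9) rfl N12446 D47451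
theorem N14682 : nd 14682 = n47452 := ndS (p := 12447) (l := 2) rfl N12447 D47452
theorem N14683 : nd 14683 = n47453 := ndS (p := 12447) (l := 4) rfl N12447 D47453
theorem N14684 : nd 14684 = n47454 := ndS (p := 12447) (l := 9) rfl N12447 D47454
theorem N14685 : nd 14685 = n47455 := ndS (p := 12449) (l := 2) rfl N12449 D47455
theorem N14686 : nd 14686 = n47456 := ndS (p := 12449) (l := 4) rfl N12449 D47456
theorem N14687 : nd 14687 = n47457 := ndS (p := 12449) (l := 9) rfl N12449 D47457
theorem N14688 : nd 14688 = n47458 := ndS (p := 12451) (l := 1) rfl N12451 D47458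
theorem N14689 : nd 14689 = n47459 := ndS (p := 12451) (l := 4) rfl N12451 D47459
theorem N14690 : nd 14690 = n47460 := ndS (p := 12451) (l := 9) rfl N12451 D47460
theorem N14691 : nd 14691 = n47461 := ndS (p := 12452) (l := 5) rfl N12452 D47461
theorem N14692 : nd 14692 = n47462 := ndS (p := 12452) (l := 9) rfl N12452 D47462
theorem N14693 : nd 14693 = n47463 := ndS (p := 12453) (l := 8) rfl N12453 D47463
theorem N14694 : nd 14694 = n47464 := ndS (p := 12454) (l := 9) rfl N12454 D47464
theorem N14695 : nd 14695 = n47465 := ndS (p := 12455) (l := 9) rfl N12455 D47465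
theorem N14696 : nd 14696 = n47466 := ndS (p := 12456) (l := 8) rfl N12456 D47466
theorem N14697 : nd 14697 = n47467 := ndS (p := 12457) (l := 6) rfl N12457 D47467
theorem N14698 : nd 14698 = n47468 := ndS (p := 12457) (l := 9) rfl N12457 D47468
theorem N14699 : nd 14699 = n47469 := ndS (p := 12458) (l := 8) rfl N12458 D47469
theorem N14700 : nd 14700 = n47470 := ndS (p := 12460) (l := 5) rfl N12460 D47470
theorem N14701 : nd 14701 = n47471 := ndS (p := 12460) (l := 9) rfl N12460 D47471
theorem N14702 : nd 14702 = n47472 := ndS (p := 12461) (l := 8) rfl N12461 D47472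
theorem N14703 : nd 14703 = n47473 := ndS (p := 12462) (l := 6) rfl N12462 D47473
theorem N14704 : nd 14704 = n47474 := ndS (p := 12462) (l := 9) rfl N12462 D47474
theorem N14705 : nd 14705 = n47475 := ndS (p := 12463) (l := 8) rfl N12463 D47475
theorem N14706 : nd 14706 = n47476 := ndS (p := 12465) (l := 7) rfl N12465 D47476
theorem N14707 : nd 14707 = n47477 := ndS (p := 12465) (l := 9) rfl N12465 D47477
theorem N14708 : nd 14708 = n47478 := ndS (p := 12466) (l := 8) rfl N12466 D47478
theorem N14709 : nd 14709 = n47479 := ndS (p := 12467) (l := 3) rfl N12467 D47479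
theorem N14710 : nd 14710 = n47480 := ndS (p := 12468) (l := 9) rfl N12468 D47480
theorem N14711 : nd 14711 = n47481 := ndS (p := 12469) (l := 8) rfl N12469 D47481
theorem N14712 : nd 14712 = n47482 := ndS (p := 12471) (l := 3) rfl N12471 D47482
theorem N14713 : nd 14713 = n47483 := ndS (p := 12471) (l := 9) rfl N12471 D47483
theorem N14714 : nd 14714 = n47484 := ndS (p := 12472) (l := 2) rfl N12472 D47484
theorem N14715 : nd 14715 = n47485 := ndS (p := 12472) (l := 4) rfl N12472 D47485
theorem N14716 : nd 14716 = n47486 := ndS (p := 12472) (l := 9) rfl N12472 D47486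
theorem N14717 : nd 14717 = n47487 := ndS (p := 12474) (l := 1) rfl N12474 D47487
theorem N14718 : nd 14718 = n47488 := ndS (p := 12474) (l := 4) rfl N12474 D47488
theorem N14719 : nd 14719 = n47489 := ndS (p := 12474) (l := 9) rfl N12474 D47489
theorem N14720 : nd 14720 = n47490 := ndS (p := 12475) (l := 9) rfl N12475 D47490
theorem N14721 : nd 14721 = n47491 := ndS (p := 12477) (l := 9) rfl N12477 D47491
theorem N14722 : nd 14722 = n47492 := ndS (p := 12479) (l := 9) rfl N12479 D47492
theorem N14723 : nd 14723 = n47493 := ndS (p := 12482) (l := 9) rfl N12482 D47493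
theorem N14724 : nd 14724 = n47494 := ndS (p := 12484) (l := 9) rfl N12484 D47494
theorem N14725 : nd 14725 = n47495 := ndS (p := 12485) (l := 9) rfl N12485 D47495
theorem N14726 : nd 14726 = n47496 := ndS (p := 12486) (l := 8) rfl N12486 D47496
theorem N14727 : nd 14727 = n47497 := ndS (p := 12487) (l := 9) rfl N12487 D47497
theorem N14728 : nd 14728 = n47498 := ndS (p := 12494) (l := 8) rfl N12494 D47498
theorem N14729 : nd 14729 = n47499 := ndS (p := 12495) (l := 3) rfl N12495 D47499
theorem N14730 : nd 14730 = n47500 := ndS (p := 12499) (l := 4) rfl N12499 D47500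
theorem N14731 : nd 14731 = n47501 := ndS (p := 12499) (l := 7) rfl N12499 D47501
theorem N14732 : nd 14732 = n47502 := ndS (p := 12499) (l := 8) rfl N12499 D47502
theorem N14733 : nd 14733 = n47503 := ndS (p := 12500) (l := 8) rfl N12500 D47503
theorem N14734 : nd 14734 = n47504 := ndS (p := 12501) (l := 3) rfl N12501 D47504
theorem N14735 : nd 14735 = n47505 := ndS (p := 12501) (l := 9) rfl N12501 D47505
theorem N14736 : nd 14736 = n47506 := ndS (p := 12502) (l := 9) rfl N12502 D47506
theorem N14737 : nd 14737 = n47507 := ndS (p := 12504) (l := 6) rfl N12504 D47507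
theorem N14738 : nd 14738 = n47508 := ndS (p := 12504) (l := 8) rfl N12504 D47508
theorem N14739 : nd 14739 = n47509 := ndS (p := 12505) (l := 3) rfl N12505 D47509
theorem N14740 : nd 14740 = n47510 := ndS (p := 12505) (l := 9) rfl N12505 D47510
theorem N14741 : nd 14741 = n47511 := ndS (p := 12506) (l := 3) rfl N12506 D47511
theorem N14742 : nd 14742 = n47512 := ndS (p := 12506) (l := 9) rfl N12506 D47512
theorem N14743 : nd 14743 = n47513 := ndS (p := 12507) (l := 2) rfl N12507 D47513
theorem N14744 : nd 14744 = n47514 := ndS (p := 12507) (l := 9) rfl N12507 D47514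
theorem N14745 : nd 14745 = n47515 := ndS (p := 12509) (l := 9) rfl N12509 D47515
theorem N14746 : nd 14746 = n47516 := ndS (p := 12510) (l := 8) rfl N12510 D47516
theorem N14747 : nd 14747 = n47517 := ndS (p := 12512) (l := 7) rfl N12512 D47517
theorem N14748 : nd 14748 = n47518 := ndS (p := 12512) (l := 8) rfl N12512 D47518
theorem N14749 : nd 14749 = n47519 := ndS (p := 12513) (l := 6) rfl N12513 D47519
theorem N14750 : nd 14750 = n47520 := ndS (p := 12513) (l := 8) rfl N12513 D47520
theorem N14751 : nd 14751 = n47521 := ndS (p := 12514) (l := 3) rfl N12514 D47521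
theorem N14752 : nd 14752 = n47522 := ndS (p := 12514) (l := 9) rfl N12514 D47522
theorem N14753 : nd 14753 = n47523 := ndS (p := 12515) (l := 3) rfl N12515 D47523
theorem N14754 : nd 14754 = n47524 := ndS (p := 12515) (l := 9) rfl N12515 D47524
theorem N14755 : nd 14755 = n47525 := ndS (p := 12516) (l := 4) rfl N12516 D47525
theorem N14756 : nd 14756 = n47526 := ndS (p := 12516) (l := 9) rfl N12516 D47526
theorem N14757 : nd 14757 = n47527 := ndS (p := 12518) (l := 9) rfl N12518 D47527
theorem N14758 : nd 14758 = n47528 := ndS (p := 12519) (l := 8) rfl N12519 D47528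
theorem N14759 : nd 14759 = n47529 := ndS (p := 12520) (l := 8) rfl N12520 D47529
theorem N14760 : nd 14760 = n47530 := ndS (p := 12521) (l := 3) rfl N12521 D47530
theorem N14761 : nd 14761 = n47531 := ndS (p := 12521) (l := 9) rfl N12521 D47531
theorem N14762 : nd 14762 = n47532 := ndS (p := 12522) (l := 2) rfl N12522 D47532
theorem N14763 : nd 14763 = n47533 := ndS (p := 12522) (l := 4) rfl N12522 D47533
theorem N14764 : nd 14764 = n47534 := ndS (p := 12522) (l := 9) rfl N12522 D47534
theorem N14765 : nd 14765 = n47535 := ndS (p := 12524) (l := 2) rfl N12524 D47535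
theorem N14766 : nd 14766 = n47536 := ndS (p := 12524) (l := 4) rfl N12524 D47536
theorem N14767 : nd 14767 = n47537 := ndS (p := 12524) (l := 9) rfl N12524 D47537
theorem N14768 : nd 14768 = n47538 := ndS (p := 12526) (l := 1) rfl N12526 D47538
theorem N14769 : nd 14769 = n47539 := ndS (p := 12526) (l := 4) rfl N12526 D47539
theorem N14770 : nd 14770 = n47540 := ndS (p := 12526) (l := 9) rfl N12526 D47540
theorem N14771 : nd 14771 = n47541 := ndS (p := 12527) (l := 5) rfl N12527 D47541
theorem N14772 : nd 14772 = n47542 := ndS (p := 12527) (l := 9) rfl N12527 D47542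
theorem N14773 : nd 14773 = n47543 := ndS (p := 12528) (l := 8) rfl N12528 D47543
theorem N14774 : nd 14774 = n47544 := ndS (p := 12529) (l := 9) rfl N12529 D47544
theorem N14775 : nd 14775 = n47545 := ndS (p := 12530) (l := 9) rfl N12530 D47545
theorem N14776 : nd 14776 = n47546 := ndS (p := 12531) (l := 8) rfl N12531 D47546
theorem N14777 : nd 14777 = n47547 := ndS (p := 12532) (l := 8) rfl N12532 D47547
theorem N14778 : nd 14778 = n47548 := ndS (p := 12534) (l := 5) rfl N12534 D47548
theorem N14779 : nd 14779 = n47549 := ndS (p := 12534) (l := 9) rfl N12534 D47549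
theorem N14780 : nd 14780 = n47550 := ndS (p := 12535) (l := 8) rfl N12535 D47550
theorem N14781 : nd 14781 = n47551 := ndS (p := 12536) (l := 9) rfl N12536 D47551
theorem N14782 : nd 14782 = n47552 := ndS (p := 12537) (l := 8) rfl N12537 D47552
theorem N14783 : nd 14783 = n47553 := ndS (p := 12539) (l := 3) rfl N12539 D47553
theorem N14784 : nd 14784 = n47554 := ndS (p := 12540) (l := 3) rfl N12540 D47554
theorem N14785 : nd 14785 = n47555 := ndS (p := 12540) (l := 9) rfl N12540 D47555
theorem N14786 : nd 14786 = n47556 := ndS (p := 12541) (l := 2) rfl N12541 D47556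
theorem N14787 : nd 14787 = n47557 := ndS (p := 12541) (l := 4) rfl N12541 D47557
theorem N14788 : nd 14788 = n47558 := ndS (p := 12541) (l := 9) rfl N12541 D47558
theorem N14789 : nd 14789 = n47559 := ndS (p := 12543) (l := 1) rfl N12543 D47559
theorem N14790 : nd 14790 = n47560 := ndS (p := 12543) (l := 4) rfl N12543 D47560
theorem N14791 : nd 14791 = n47561 := ndS (p := 12543) (l := 9) rfl N12543 D47561
theorem N14792 : nd 14792 = n47562 := ndS (p := 12544) (l := 9) rfl N12544 D47562
theorem N14793 : nd 14793 = n47563 := ndS (p := 12546) (l := 9) rfl N12546 D47563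
theorem N14794 : nd 14794 = n47564 := ndS (p := 12548) (l := 0) rfl N12548 D47564
theorem N14795 : nd 14795 = n47565 := ndS (p := 12548) (l := 9) rfl N12548 D47565
theorem N14796 : nd 14796 = n47566 := ndS (p := 12550) (l := 9) rfl N12550 D47566
theorem N14797 : nd 14797 = n47567 := ndS (p := 12552) (l := 6) rfl N12552 D47567
theorem N14798 : nd 14798 = n47568 := ndS (p := 12552) (l := 8) rfl N12552 D47568
theorem N14799 : nd 14799 = n47569 := ndS (p := 12553) (l := 3) rfl N12553 D47569
theorem N14800 : nd 14800 = n47570 := ndS (p := 12553) (l := 9) rfl N12553 D47570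
theorem N14801 : nd 14801 = n47571 := ndS (p := 12554) (l := 8) rfl N12554 D47571
theorem N14802 : nd 14802 = n47572 := ndS (p := 12555) (l := 3) rfl N12555 D47572
theorem N14803 : nd 14803 = n47573 := ndS (p := 12555) (l := 9) rfl N12555 D47573
theorem N14804 : nd 14804 = n47574 := ndS (p := 12556) (l := 2) rfl N12556 D47574
theorem N14805 : nd 14805 = n47575 := ndS (p := 12556) (l := 4) rfl N12556 D47575
theorem N14806 : nd 14806 = n47576 := ndS (p := 12556) (l := 9) rfl N12556 D47576
theorem N14807 : nd 14807 = n47577 := ndS (p := 12558) (l := 2) rfl N12558 D47577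
theorem N14808 : nd 14808 = n47578 := ndS (p := 12558) (l := 4) rfl N12558 D47578
theorem N14809 : nd 14809 = n47579 := ndS (p := 12558) (l := 9) rfl N12558 D47579
theorem N14810 : nd 14810 = n47580 := ndS (p := 12560) (l := 1) rfl N12560 D47580
theorem N14811 : nd 14811 = n47581 := ndS (p := 12560) (l := 4) rfl N12560 D47581
theorem N14812 : nd 14812 = n47582 := ndS (p := 12560) (l := 9) rfl N12560 D47582
theorem N14813 : nd 14813 = n47583 := ndS (p := 12561) (l := 5) rfl N12561 D47583
theorem N14814 : nd 14814 = n47584 := ndS (p := 12561) (l := 9) rfl N12561 D47584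
theorem N14815 : nd 14815 = n47585 := ndS (p := 12562) (l := 8) rfl N12562 D47585
theorem N14816 : nd 14816 = n47586 := ndS (p := 12563) (l := 9) rfl N12563 D47586
theorem N14817 : nd 14817 = n47587 := ndS (p := 12564) (l := 5) rfl N12564 D47587
theorem N14818 : nd 14818 = n47588 := ndS (p := 12564) (l := 9) rfl N12564 D47588
theorem N14819 : nd 14819 = n47589 := ndS (p := 12565) (l := 8) rfl N12565 D47589
theorem N14820 : nd 14820 = n47590 := ndS (p := 12566) (l := 6) rfl N12566 D47590
theorem N14821 : nd 14821 = n47591 := ndS (p := 12566) (l := 9) rfl N12566 D47591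
theorem N14822 : nd 14822 = n47592 := ndS (p := 12567) (l := 8) rfl N12567 D47592
theorem N14823 : nd 14823 = n47593 := ndS (p := 12569) (l := 3) rfl N12569 D47593
theorem N14824 : nd 14824 = n47594 := ndS (p := 12569) (l := 9) rfl N12569 D47594
theorem N14825 : nd 14825 = n47595 := ndS (p := 12570) (l := 2) rfl N12570 D47595
theorem N14826 : nd 14826 = n47596 := ndS (p := 12570) (l := 4) rfl N12570 D47596
theorem N14827 : nd 14827 = n47597 := ndS (p := 12570) (l := 9) rfl N12570 D47597
theorem N14828 : nd 14828 = n47598 := ndS (p := 12572) (l := 1) rfl N12572 D47598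
theorem N14829 : nd 14829 = n47599 := ndS (p := 12572) (l := 4) rfl N12572 D47599
theorem N14830 : nd 14830 = n47600 := ndS (p := 12572) (l := 9) rfl N12572 D47600
theorem N14831 : nd 14831 = n47601 := ndS (p := 12573) (l := 5) rfl N12573 D47601
theorem N14832 : nd 14832 = n47602 := ndS (p := 12573) (l := 9) rfl N12573 D47602
theorem N14833 : nd 14833 = n47603 := ndS (p := 12574) (l := 8) rfl N12574 D47603
theorem N14834 : nd 14834 = n47604 := ndS (p := 12575) (l := 1) rfl N12575 D47604
theorem N14835 : nd 14835 = n47605 := ndS (p := 12575) (l := 4) rfl N12575 D47605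
theorem N14836 : nd 14836 = n47606 := ndS (p := 12575) (l := 9) rfl N12575 D47606
theorem N14837 : nd 14837 = n47607 := ndS (p := 12576) (l := 5) rfl N12576 D47607
theorem N14838 : nd 14838 = n47608 := ndS (p := 12576) (l := 9) rfl N12576 D47608
theorem N14839 : nd 14839 = n47609 := ndS (p := 12577) (l := 8) rfl N12577 D47609
theorem N14840 : nd 14840 = n47610 := ndS (p := 12578) (l := 0) rfl N12578 D47610
theorem N14841 : nd 14841 = n47611 := ndS (p := 12578) (l := 4) rfl N12578 D47611
theorem N14842 : nd 14842 = n47612 := ndS (p := 12578) (l := 9) rfl N12578 D47612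
theorem N14843 : nd 14843 = n47613 := ndS (p := 12579) (l := 5) rfl N12579 D47613
theorem N14844 : nd 14844 = n47614 := ndS (p := 12579) (l := 9) rfl N12579 D47614
theorem N14845 : nd 14845 = n47615 := ndS (p := 12580) (l := 8) rfl N12580 D47615
theorem N14846 : nd 14846 = n47616 := ndS (p := 12581) (l := 6) rfl N12581 D47616
theorem N14847 : nd 14847 = n47617 := ndS (p := 12581) (l := 9) rfl N12581 D47617
theorem N14848 : nd 14848 = n47618 := ndS (p := 12582) (l := 8) rfl N12582 D47618
theorem N14849 : nd 14849 = n47619 := ndS (p := 12584) (l := 9) rfl N12584 D47619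
theorem N14850 : nd 14850 = n47620 := ndS (p := 12585) (l := 5) rfl N12585 D47620
theorem N14851 : nd 14851 = n47621 := ndS (p := 12585) (l := 9) rfl N12585 D47621
theorem N14852 : nd 14852 = n47622 := ndS (p := 12586) (l := 8) rfl N12586 D47622
theorem N14853 : nd 14853 = n47623 := ndS (p := 12587) (l := 6) rfl N12587 D47623
theorem N14854 : nd 14854 = n47624 := ndS (p := 12587) (l := 9) rfl N12587 D47624
theorem N14855 : nd 14855 = n47625 := ndS (p := 12588) (l := 8) rfl N12588 D47625
theorem N14856 : nd 14856 = n47626 := ndS (p := 12589) (l := 3) rfl N12589 D47626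
theorem N14857 : nd 14857 = n47627 := ndS (p := 12590) (l := 7) rfl N12590 D47627
theorem N14858 : nd 14858 = n47628 := ndS (p := 12590) (l := 9) rfl N12590 D47628
theorem N14859 : nd 14859 = n47629 := ndS (p := 12591) (l := 8) rfl N12591 D47629
theorem N14860 : nd 14860 = n47630 := ndS (p := 12592) (l := 3) rfl N12592 D47630
theorem N14861 : nd 14861 = n47631 := ndS (p := 12593) (l := 6) rfl N12593 D47631
theorem N14862 : nd 14862 = n47632 := ndS (p := 12593) (l := 9) rfl N12593 D47632
theorem N14863 : nd 14863 = n47633 := ndS (p := 12594) (l := 8) rfl N12594 D47633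
theorem N14864 : nd 14864 = n47634 := ndS (p := 12596) (l := 7) rfl N12596 D47634
theorem N14865 : nd 14865 = n47635 := ndS (p := 12596) (l := 9) rfl N12596 D47635
theorem N14866 : nd 14866 = n47636 := ndS (p := 12597) (l := 8) rfl N12597 D47636
theorem N14867 : nd 14867 = n47637 := ndS (p := 12598) (l := 3) rfl N12598 D47637
theorem N14868 : nd 14868 = n47638 := ndS (p := 12599) (l := 9) rfl N12599 D47638
theorem N14869 : nd 14869 = n47639 := ndS (p := 12600) (l := 8) rfl N12600 D47639
theorem N14870 : nd 14870 = n47640 := ndS (p := 12601) (l := 3) rfl N12601 D47640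
theorem N14871 : nd 14871 = n47641 := ndS (p := 12602) (l := 2) rfl N12602 D47641
theorem N14872 : nd 14872 = n47642 := ndS (p := 12603) (l := 8) rfl N12603 D47642
theorem N14873 : nd 14873 = n47643 := ndS (p := 12605) (l := 2) rfl N12605 D47643
theorem N14874 : nd 14874 = n47644 := ndS (p := 12605) (l := 4) rfl N12605 D47644
theorem N14875 : nd 14875 = n47645 := ndS (p := 12605) (l := 9) rfl N12605 D47645
theorem N14876 : nd 14876 = n47646 := ndS (p := 12607) (l := 1) rfl N12607 D47646
theorem N14877 : nd 14877 = n47647 := ndS (p := 12607) (l := 4) rfl N12607 D47647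
theorem N14878 : nd 14878 = n47648 := ndS (p := 12607) (l := 9) rfl N12607 D47648
theorem N14879 : nd 14879 = n47649 := ndS (p := 12608) (l := 9) rfl N12608 D47649
theorem N14880 : nd 14880 = n47650 := ndS (p := 12609) (l := 8) rfl N12609 D47650
theorem N14881 : nd 14881 = n47651 := ndS (p := 12610) (l := 0) rfl N12610 D47651
theorem N14882 : nd 14882 = n47652 := ndS (p := 12610) (l := 4) rfl N12610 D47652
theorem N14883 : nd 14883 = n47653 := ndS (p := 12610) (l := 9) rfl N12610 D47653
theorem N14884 : nd 14884 = n47654 := ndS (p := 12611) (l := 3) rfl N12611 D47654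
theorem N14885 : nd 14885 = n47655 := ndS (p := 12611) (l := 9) rfl N12611 D47655
theorem N14886 : nd 14886 = n47656 := ndS (p := 12612) (l := 8) rfl N12612 D47656
theorem N14887 : nd 14887 = n47657 := ndS (p := 12613) (l := 8) rfl N12613 D47657
theorem N14888 : nd 14888 = n47658 := ndS (p := 12615) (l := 0) rfl N12615 D47658
theorem N14889 : nd 14889 = n47659 := ndS (p := 12615) (l := 9) rfl N12615 D47659
theorem N14890 : nd 14890 = n47660 := ndS (p := 12616) (l := 8) rfl N12616 D47660
theorem N14891 : nd 14891 = n47661 := ndS (p := 12618) (l := 9) rfl N12618 D47661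
theorem N14892 : nd 14892 = n47662 := ndS (p := 12619) (l := 8) rfl N12619 D47662
theorem N14893 : nd 14893 = n47663 := ndS (p := 12620) (l := 3) rfl N12620 D47663
theorem N14894 : nd 14894 = n47664 := ndS (p := 12621) (l := 8) rfl N12621 D47664
theorem N14895 : nd 14895 = n47665 := ndS (p := 12622) (l := 3) rfl N12622 D47665
theorem N14896 : nd 14896 = n47666 := ndS (p := 12623) (l := 4) rfl N12623 D47666
theorem N14897 : nd 14897 = n47667 := ndS (p := 12624) (l := 1) rfl N12624 D47667
theorem N14898 : nd 14898 = n47668 := ndS (p := 12624) (l := 9) rfl N12624 D47668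
theorem N14899 : nd 14899 = n47669 := ndS (p := 12625) (l := 9) rfl N12625 D47669
theorem N14900 : nd 14900 = n47670 := ndS (p := 12626) (l := 8) rfl N12626 D47670
theorem N14901 : nd 14901 = n47671 := ndS (p := 12627) (l := 0) rfl N12627 D47671
theorem N14902 : nd 14902 = n47672 := ndS (p := 12627) (l := 4) rfl N12627 D47672
theorem N14903 : nd 14903 = n47673 := ndS (p := 12627) (l := 9) rfl N12627 D47673
theorem N14904 : nd 14904 = n47674 := ndS (p := 12632) (l := 4) rfl N12632 D47674
theorem N14905 : nd 14905 = n47675 := ndS (p := 12632) (l := 9) rfl N12632 D47675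
theorem N14906 : nd 14906 = n47676 := ndS (p := 12633) (l := 3) rfl N12633 D47676
theorem N14907 : nd 14907 = n47677 := ndS (p := 12633) (l := 9) rfl N12633 D47677
theorem N14908 : nd 14908 = n47678 := ndS (p := 12634) (l := 8) rfl N12634 D47678
theorem N14909 : nd 14909 = n47679 := ndS (p := 12635) (l := 9) rfl N12635 D47679
theorem N14910 : nd 14910 = n47680 := ndS (p := 12637) (l := 3) rfl N12637 D47680
theorem N14911 : nd 14911 = n47681 := ndS (p := 12638) (l := 3) rfl N12638 D47681
theorem N14912 : nd 14912 = n47682 := ndS (p := 12639) (l := 9) rfl N12639 D47682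
theorem N14913 : nd 14913 = n47683 := ndS (p := 12640) (l := 8) rfl N12640 D47683
theorem N14914 : nd 14914 = n47684 := ndS (p := 12641) (l := 3) rfl N12641 D47684
theorem N14915 : nd 14915 = n47685 := ndS (p := 12642) (l := 8) rfl N12642 D47685
theorem N14916 : nd 14916 = n47686 := ndS (p := 12643) (l := 3) rfl N12643 D47686
theorem N14917 : nd 14917 = n47687 := ndS (p := 12644) (l := 4) rfl N12644 D47687
theorem N14918 : nd 14918 = n47688 := ndS (p := 12648) (l := 6) rfl N12648 D47688
theorem N14919 : nd 14919 = n47689 := ndS (p := 12648) (l := 8) rfl N12648 D47689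
theorem N14920 : nd 14920 = n47690 := ndS (p := 12649) (l := 3) rfl N12649 D47690
theorem N14921 : nd 14921 = n47691 := ndS (p := 12649) (l := 9) rfl N12649 D47691
theorem N14922 : nd 14922 = n47692 := ndS (p := 12650) (l := 8) rfl N12650 D47692
theorem N14923 : nd 14923 = n47693 := ndS (p := 12651) (l := 9) rfl N12651 D47693
theorem N14924 : nd 14924 = n47694 := ndS (p := 12661) (l := 8) rfl N12661 D47694
theorem N14925 : nd 14925 = n47695 := ndS (p := 12662) (l := 3) rfl N12662 D47695
theorem N14926 : nd 14926 = n47696 := ndS (p := 12662) (l := 9) rfl N12662 D47696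
theorem N14927 : nd 14927 = n47697 := ndS (p := 12664) (l := 9) rfl N12664 D47697
theorem N14928 : nd 14928 = n47698 := ndS (p := 12667) (l := 2) rfl N12667 D47698
theorem N14929 : nd 14929 = n47699 := ndS (p := 12667) (l := 4) rfl N12667 D47699
theorem N14930 : nd 14930 = n47700 := ndS (p := 12668) (l := 4) rfl N12668 D47700
theorem N14931 : nd 14931 = n47701 := ndS (p := 12670) (l := 0) rfl N12670 D47701
theorem N14932 : nd 14932 = n47702 := ndS (p := 12670) (l := 4) rfl N12670 D47702
theorem N14933 : nd 14933 = n47703 := ndS (p := 12671) (l := 3) rfl N12671 D47703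
theorem N14934 : nd 14934 = n47704 := ndS (p := 12673) (l := 8) rfl N12673 D47704
theorem N14935 : nd 14935 = n47705 := ndS (p := 12674) (l := 3) rfl N12674 D47705
theorem N14936 : nd 14936 = n47706 := ndS (p := 12674) (l := 9) rfl N12674 D47706
theorem N14937 : nd 14937 = n47707 := ndS (p := 12675) (l := 2) rfl N12675 D47707
theorem N14938 : nd 14938 = n47708 := ndS (p := 12675) (l := 4) rfl N12675 D47708
theorem N14939 : nd 14939 = n47709 := ndS (p := 12675) (l := 9) rfl N12675 D47709
theorem N14940 : nd 14940 = n47710 := ndS (p := 12677) (l := 9) rfl N12677 D47710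
theorem N14941 : nd 14941 = n47711 := ndS (p := 12678) (l := 2) rfl N12678 D47711
theorem N14942 : nd 14942 = n47712 := ndS (p := 12678) (l := 9) rfl N12678 D47712
theorem N14943 : nd 14943 = n47713 := ndS (p := 12680) (l := 1) rfl N12680 D47713
theorem N14944 : nd 14944 = n47714 := ndS (p := 12680) (l := 4) rfl N12680 D47714
theorem N14945 : nd 14945 = n47715 := ndS (p := 12680) (l := 9) rfl N12680 D47715
theorem N14946 : nd 14946 = n47716 := ndS (p := 12681) (l := 9) rfl N12681 D47716
theorem N14947 : nd 14947 = n47717 := ndS (p := 12683) (l := 1) rfl N12683 D47717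
theorem N14948 : nd 14948 = n47718 := ndS (p := 12683) (l := 9) rfl N12683 D47718
theorem N14949 : nd 14949 = n47719 := ndS (p := 12685) (l := 0) rfl N12685 D47719
theorem N14950 : nd 14950 = n47720 := ndS (p := 12685) (l := 9) rfl N12685 D47720
theorem N14951 : nd 14951 = n47721 := ndS (p := 12687) (l := 9) rfl N12687 D47721
theorem N14952 : nd 14952 = n47722 := ndS (p := 12689) (l := 2) rfl N12689 D47722
theorem N14953 : nd 14953 = n47723 := ndS (p := 12690) (l := 1) rfl N12690 D47723
theorem N14954 : nd 14954 = n47724 := ndS (p := 12691) (l := 0) rfl N12691 D47724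
theorem N14955 : nd 14955 = n47725 := ndS (p := 12691) (l := 4) rfl N12691 D47725
theorem N14956 : nd 14956 = n47726 := ndS (p := 12692) (l := 3) rfl N12692 D47726
theorem N14957 : nd 14957 = n47727 := ndS (p := 12695) (l := 1) rfl N12695 D47727
theorem N14958 : nd 14958 = n47728 := ndS (p := 12695) (l := 4) rfl N12695 D47728
theorem N14959 : nd 14959 = n47729 := ndS (p := 12695) (l := 9) rfl N12695 D47729
theorem N14960 : nd 14960 = n47730 := ndS (p := 12698) (l := 0) rfl N12698 D47730
theorem N14961 : nd 14961 = n47731 := ndS (p := 12699) (l := 3) rfl N12699 D47731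
theorem N14962 : nd 14962 = n47732 := ndS (p := 12700) (l := 8) rfl N12700 D47732
theorem N14963 : nd 14963 = n47733 := ndS (p := 12703) (l := 9) rfl N12703 D47733
theorem N14964 : nd 14964 = n47734 := ndS (p := 12705) (l := 8) rfl N12705 D47734
theorem N14965 : nd 14965 = n47735 := ndS (p := 12706) (l := 8) rfl N12706 D47735
theorem N14966 : nd 14966 = n47736 := ndS (p := 12706) (l := 9) rfl N12706 D47736
theorem N14967 : nd 14967 = n47737 := ndS (p := 12707) (l := 8) rfl N12707 D47737
theorem N14968 : nd 14968 = n47738 := ndS (p := 12708) (l := 3) rfl N12708 D47738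
theorem N14969 : nd 14969 = n47739 := ndS (p := 12709) (l := 3) rfl N12709 D47739
theorem N14970 : nd 14970 = n47740 := ndS (p := 12710) (l := 9) rfl N12710 D47740
theorem N14971 : nd 14971 = n47741 := ndS (p := 12711) (l := 8) rfl N12711 D47741
theorem N14972 : nd 14972 = n47742 := ndS (p := 12712) (l := 3) rfl N12712 D47742
theorem N14973 : nd 14973 = n47743 := ndS (p := 12713) (l := 8) rfl N12713 D47743
theorem N14974 : nd 14974 = n47744 := ndS (p := 12714) (l := 3) rfl N12714 D47744
theorem N14975 : nd 14975 = n47745 := ndS (p := 12715) (l := 4) rfl N12715 D47745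
theorem N14976 : nd 14976 = n47746 := ndS (p := 12720) (l := 8) rfl N12720 D47746
theorem N14977 : nd 14977 = n47747 := ndS (p := 12721) (l := 3) rfl N12721 D47747
theorem N14978 : nd 14978 = n47748 := ndS (p := 12724) (l := 8) rfl N12724 D47748
theorem N14979 : nd 14979 = n47749 := ndS (p := 12725) (l := 3) rfl N12725 D47749
theorem N14980 : nd 14980 = n47750 := ndS (p := 12730) (l := 3) rfl N12730 D47750
theorem N14981 : nd 14981 = n47751 := ndS (p := 12740) (l := 3) rfl N12740 D47751
theorem N14982 : nd 14982 = n47752 := ndS (p := 12740) (l := 9) rfl N12740 D47752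
theorem N14983 : nd 14983 = n47753 := ndS (p := 12741) (l := 9) rfl N12741 D47753
theorem N14984 : nd 14984 = n47754 := ndS (p := 12744) (l := 3) rfl N12744 D47754
theorem N14985 : nd 14985 = n47755 := ndS (p := 12744) (l := 9) rfl N12744 D47755
theorem N14986 : nd 14986 = n47756 := ndS (p := 12746) (l := 4) rfl N12746 D47756
theorem N14987 : nd 14987 = n47757 := ndS (p := 12746) (l := 9) rfl N12746 D47757
theorem N14988 : nd 14988 = n47758 := ndS (p := 12749) (l := 9) rfl N12749 D47758
theorem N14989 : nd 14989 = n47759 := ndS (p := 12751) (l := 9) rfl N12751 D47759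
theorem N14990 : nd 14990 = n47760 := ndS (p := 12752) (l := 9) rfl N12752 D47760
theorem N14991 : nd 14991 = n47761 := ndS (p := 12756) (l := 9) rfl N12756 D47761
theorem N14992 : nd 14992 = n47762 := ndS (p := 12758) (l := 3) rfl N12758 D47762
theorem N14993 : nd 14993 = n47763 := ndS (p := 12758) (l := 9) rfl N12758 D47763
theorem N14994 : nd 14994 = n47764 := ndS (p := 12759) (l := 2) rfl N12759 D47764
theorem N14995 : nd 14995 = n47765 := ndS (p := 12759) (l := 9) rfl N12759 D47765
theorem N14996 : nd 14996 = n47766 := ndS (p := 12761) (l := 1) rfl N12761 D47766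
theorem N14997 : nd 14997 = n47767 := ndS (p := 12761) (l := 4) rfl N12761 D47767
theorem N14998 : nd 14998 = n47768 := ndS (p := 12761) (l := 9) rfl N12761 D47768
theorem N14999 : nd 14999 = n47769 := ndS (p := 12762) (l := 5) rfl N12762 D47769
theorem N15000 : nd 15000 = n47770 := ndS (p := 12762) (l := 9) rfl N12762 D47770
theorem N15001 : nd 15001 = n47771 := ndS (p := 12763) (l := 8) rfl N12763 D47771
theorem N15002 : nd 15002 = n47772 := ndS (p := 12764) (l := 9) rfl N12764 D47772
theorem N15003 : nd 15003 = n47773 := ndS (p := 12766) (l := 7) rfl N12766 D47773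
theorem N15004 : nd 15004 = n47774 := ndS (p := 12766) (l := 9) rfl N12766 D47774
theorem N15005 : nd 15005 = n47775 := ndS (p := 12769) (l := 2) rfl N12769 D47775
theorem N15006 : nd 15006 = n47776 := ndS (p := 12770) (l := 9) rfl N12770 D47776
theorem N15007 : nd 15007 = n47777 := ndS (p := 12772) (l := 9) rfl N12772 D47777
theorem N15008 : nd 15008 = n47778 := ndS (p := 12774) (l := 9) rfl N12774 D47778
theorem N15009 : nd 15009 = n47779 := ndS (p := 12776) (l := 8) rfl N12776 D47779
theorem N15010 : nd 15010 = n47780 := ndS (p := 12777) (l := 3) rfl N12777 D47780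
theorem N15011 : nd 15011 = n47781 := ndS (p := 12777) (l := 9) rfl N12777 D47781
theorem N15012 : nd 15012 = n47782 := ndS (p := 12778) (l := 2) rfl N12778 D47782
theorem N15013 : nd 15013 = n47783 := ndS (p := 12778) (l := 9) rfl N12778 D47783
theorem N15014 : nd 15014 = n47784 := ndS (p := 12781) (l := 3) rfl N12781 D47784
theorem N15015 : nd 15015 = n47785 := ndS (p := 12781) (l := 9) rfl N12781 D47785
theorem N15016 : nd 15016 = n47786 := ndS (p := 12782) (l := 9) rfl N12782 D47786
theorem N15017 : nd 15017 = n47787 := ndS (p := 12784) (l := 9) rfl N12784 D47787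
theorem N15018 : nd 15018 = n47788 := ndS (p := 12785) (l := 8) rfl N12785 D47788
theorem N15019 : nd 15019 = n47789 := ndS (p := 12788) (l := 8) rfl N12788 D47789
theorem N15020 : nd 15020 = n47790 := ndS (p := 12790) (l := 8) rfl N12790 D47790
theorem N15021 : nd 15021 = n47791 := ndS (p := 12791) (l := 3) rfl N12791 D47791
theorem N15022 : nd 15022 = n47792 := ndS (p := 12791) (l := 9) rfl N12791 D47792
theorem N15023 : nd 15023 = n47793 := ndS (p := 12792) (l := 9) rfl N12792 D47793
theorem N15024 : nd 15024 = n47794 := ndS (p := 12795) (l := 3) rfl N12795 D47794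
theorem N15025 : nd 15025 = n47795 := ndS (p := 12795) (l := 9) rfl N12795 D47795
theorem N15026 : nd 15026 = n47796 := ndS (p := 12796) (l := 4) rfl N12796 D47796
theorem N15027 : nd 15027 = n47797 := ndS (p := 12796) (l := 9) rfl N12796 D47797
theorem N15028 : nd 15028 = n47798 := ndS (p := 12798) (l := 9) rfl N12798 D47798
theorem N15029 : nd 15029 = n47799 := ndS (p := 12799) (l := 8) rfl N12799 D47799
theorem N15030 : nd 15030 = n47800 := ndS (p := 12801) (l := 5) rfl N12801 D47800
theorem N15031 : nd 15031 = n47801 := ndS (p := 12801) (l := 9) rfl N12801 D47801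
theorem N15032 : nd 15032 = n47802 := ndS (p := 12804) (l := 8) rfl N12804 D47802
theorem N15033 : nd 15033 = n47803 := ndS (p := 12805) (l := 3) rfl N12805 D47803
theorem N15034 : nd 15034 = n47804 := ndS (p := 12805) (l := 9) rfl N12805 D47804
theorem N15035 : nd 15035 = n47805 := ndS (p := 12806) (l := 9) rfl N12806 D47805
theorem N15036 : nd 15036 = n47806 := ndS (p := 12808) (l := 9) rfl N12808 D47806
theorem N15037 : nd 15037 = n47807 := ndS (p := 12810) (l := 8) rfl N12810 D47807
theorem N15038 : nd 15038 = n47808 := ndS (p := 12812) (l := 3) rfl N12812 D47808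
theorem N15039 : nd 15039 = n47809 := ndS (p := 12812) (l := 9) rfl N12812 D47809
theorem N15040 : nd 15040 = n47810 := ndS (p := 12813) (l := 9) rfl N12813 D47810
theorem N15041 : nd 15041 = n47811 := ndS (p := 12815) (l := 5) rfl N12815 D47811
theorem N15042 : nd 15042 = n47812 := ndS (p := 12815) (l := 9) rfl N12815 D47812
theorem N15043 : nd 15043 = n47813 := ndS (p := 12816) (l := 8) rfl N12816 D47813
theorem N15044 : nd 15044 = n47814 := ndS (p := 12817) (l := 8) rfl N12817 D47814
theorem N15045 : nd 15045 = n47815 := ndS (p := 12818) (l := 3) rfl N12818 D47815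
theorem N15046 : nd 15046 = n47816 := ndS (p := 12818) (l := 9) rfl N12818 D47816
theorem N15047 : nd 15047 = n47817 := ndS (p := 12819) (l := 2) rfl N12819 D47817
theorem N15048 : nd 15048 = n47818 := ndS (p := 12819) (l := 4) rfl N12819 D47818
theorem N15049 : nd 15049 = n47819 := ndS (p := 12819) (l := 9) rfl N12819 D47819
theorem N15050 : nd 15050 = n47820 := ndS (p := 12821) (l := 2) rfl N12821 D47820
theorem N15051 : nd 15051 = n47821 := ndS (p := 12821) (l := 9) rfl N12821 D47821
theorem N15052 : nd 15052 = n47822 := ndS (p := 12823) (l := 1) rfl N12823 D47822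
theorem N15053 : nd 15053 = n47823 := ndS (p := 12823) (l := 4) rfl N12823 D47823
theorem N15054 : nd 15054 = n47824 := ndS (p := 12823) (l := 9) rfl N12823 D47824
theorem N15055 : nd 15055 = n47825 := ndS (p := 12824) (l := 5) rfl N12824 D47825
theorem N15056 : nd 15056 = n47826 := ndS (p := 12824) (l := 9) rfl N12824 D47826
theorem N15057 : nd 15057 = n47827 := ndS (p := 12825) (l := 8) rfl N12825 D47827
theorem N15058 : nd 15058 = n47828 := ndS (p := 12826) (l := 4) rfl N12826 D47828
theorem N15059 : nd 15059 = n47829 := ndS (p := 12826) (l := 9) rfl N12826 D47829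
theorem N15060 : nd 15060 = n47830 := ndS (p := 12827) (l := 5) rfl N12827 D47830
theorem N15061 : nd 15061 = n47831 := ndS (p := 12827) (l := 9) rfl N12827 D47831
theorem N15062 : nd 15062 = n47832 := ndS (p := 12828) (l := 8) rfl N12828 D47832
theorem N15063 : nd 15063 = n47833 := ndS (p := 12829) (l := 6) rfl N12829 D47833
theorem N15064 : nd 15064 = n47834 := ndS (p := 12829) (l := 9) rfl N12829 D47834
theorem N15065 : nd 15065 = n47835 := ndS (p := 12830) (l := 8) rfl N12830 D47835
theorem N15066 : nd 15066 = n47836 := ndS (p := 12832) (l := 6) rfl N12832 D47836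
theorem N15067 : nd 15067 = n47837 := ndS (p := 12832) (l := 9) rfl N12832 D47837
theorem N15068 : nd 15068 = n47838 := ndS (p := 12834) (l := 7) rfl N12834 D47838
theorem N15069 : nd 15069 = n47839 := ndS (p := 12834) (l := 9) rfl N12834 D47839
theorem N15070 : nd 15070 = n47840 := ndS (p := 12836) (l := 9) rfl N12836 D47840
theorem N15071 : nd 15071 = n47841 := ndS (p := 12838) (l := 9) rfl N12838 D47841
theorem N15072 : nd 15072 = n47842 := ndS (p := 12839) (l := 2) rfl N12839 D47842
theorem N15073 : nd 15073 = n47843 := ndS (p := 12839) (l := 9) rfl N12839 D47843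
theorem N15074 : nd 15074 = n47844 := ndS (p := 12841) (l := 1) rfl N12841 D47844
theorem N15075 : nd 15075 = n47845 := ndS (p := 12841) (l := 4) rfl N12841 D47845
theorem N15076 : nd 15076 = n47846 := ndS (p := 12841) (l := 9) rfl N12841 D47846
theorem N15077 : nd 15077 = n47847 := ndS (p := 12842) (l := 9) rfl N12842 D47847
theorem N15078 : nd 15078 = n47848 := ndS (p := 12844) (l := 1) rfl N12844 D47848
theorem N15079 : nd 15079 = n47849 := ndS (p := 12844) (l := 9) rfl N12844 D47849
theorem N15080 : nd 15080 = n47850 := ndS (p := 12846) (l := 9) rfl N12846 D47850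
theorem N15081 : nd 15081 = n47851 := ndS (p := 12847) (l := 8) rfl N12847 D47851
theorem N15082 : nd 15082 = n47852 := ndS (p := 12849) (l := 8) rfl N12849 D47852
theorem N15083 : nd 15083 = n47853 := ndS (p := 12850) (l := 3) rfl N12850 D47853
theorem N15084 : nd 15084 = n47854 := ndS (p := 12853) (l := 0) rfl N12853 D47854
theorem N15085 : nd 15085 = n47855 := ndS (p := 12853) (l := 9) rfl N12853 D47855
theorem N15086 : nd 15086 = n47856 := ndS (p := 12856) (l := 0) rfl N12856 D47856
theorem N15087 : nd 15087 = n47857 := ndS (p := 12856) (l := 9) rfl N12856 D47857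
theorem N15088 : nd 15088 = n47858 := ndS (p := 12858) (l := 9) rfl N12858 D47858
theorem N15089 : nd 15089 = n47859 := ndS (p := 12859) (l := 8) rfl N12859 D47859
theorem N15090 : nd 15090 = n47860 := ndS (p := 12861) (l := 8) rfl N12861 D47860
theorem N15091 : nd 15091 = n47861 := ndS (p := 12862) (l := 3) rfl N12862 D47861
theorem N15092 : nd 15092 = n47862 := ndS (p := 12863) (l := 4) rfl N12863 D47862
theorem N15093 : nd 15093 = n47863 := ndS (p := 12864) (l := 0) rfl N12864 D47863
theorem N15094 : nd 15094 = n47864 := ndS (p := 12864) (l := 9) rfl N12864 D47864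
theorem N15095 : nd 15095 = n47865 := ndS (p := 12865) (l := 8) rfl N12865 D47865
theorem N15096 : nd 15096 = n47866 := ndS (p := 12867) (l := 9) rfl N12867 D47866
theorem N15097 : nd 15097 = n47867 := ndS (p := 12868) (l := 8) rfl N12868 D47867
theorem N15098 : nd 15098 = n47868 := ndS (p := 12869) (l := 3) rfl N12869 D47868
theorem N15099 : nd 15099 = n47869 := ndS (p := 12870) (l := 8) rfl N12870 D47869
theorem N15100 : nd 15100 = n47870 := ndS (p := 12871) (l := 8) rfl N12871 D47870
theorem N15101 : nd 15101 = n47871 := ndS (p := 12872) (l := 3) rfl N12872 D47871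
theorem N15102 : nd 15102 = n47872 := ndS (p := 12872) (l := 9) rfl N12872 D47872
theorem N15103 : nd 15103 = n47873 := ndS (p := 12873) (l := 3) rfl N12873 D47873
theorem N15104 : nd 15104 = n47874 := ndS (p := 12873) (l := 9) rfl N12873 D47874
theorem N15105 : nd 15105 = n47875 := ndS (p := 12874) (l := 9) rfl N12874 D47875
theorem N15106 : nd 15106 = n47876 := ndS (p := 12876) (l := 8) rfl N12876 D47876
theorem N15107 : nd 15107 = n47877 := ndS (p := 12878) (l := 3) rfl N12878 D47877
theorem N15108 : nd 15108 = n47878 := ndS (p := 12878) (l := 9) rfl N12878 D47878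
theorem N15109 : nd 15109 = n47879 := ndS (p := 12879) (l := 2) rfl N12879 D47879
theorem N15110 : nd 15110 = n47880 := ndS (p := 12879) (l := 4) rfl N12879 D47880
theorem N15111 : nd 15111 = n47881 := ndS (p := 12879) (l := 9) rfl N12879 D47881
theorem N15112 : nd 15112 = n47882 := ndS (p := 12881) (l := 2) rfl N12881 D47882
theorem N15113 : nd 15113 = n47883 := ndS (p := 12881) (l := 9) rfl N12881 D47883
theorem N15114 : nd 15114 = n47884 := ndS (p := 12883) (l := 1) rfl N12883 D47884
theorem N15115 : nd 15115 = n47885 := ndS (p := 12883) (l := 9) rfl N12883 D47885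
theorem N15116 : nd 15116 = n47886 := ndS (p := 12884) (l := 8) rfl N12884 D47886
theorem N15117 : nd 15117 = n47887 := ndS (p := 12885) (l := 0) rfl N12885 D47887
theorem N15118 : nd 15118 = n47888 := ndS (p := 12885) (l := 9) rfl N12885 D47888
theorem N15119 : nd 15119 = n47889 := ndS (p := 12886) (l := 8) rfl N12886 D47889
theorem N15120 : nd 15120 = n47890 := ndS (p := 12889) (l := 1) rfl N12889 D47890
theorem N15121 : nd 15121 = n47891 := ndS (p := 12889) (l := 9) rfl N12889 D47891
theorem N15122 : nd 15122 = n47892 := ndS (p := 12890) (l := 8) rfl N12890 D47892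
theorem N15123 : nd 15123 = n47893 := ndS (p := 12891) (l := 1) rfl N12891 D47893
theorem N15124 : nd 15124 = n47894 := ndS (p := 12891) (l := 9) rfl N12891 D47894
theorem N15125 : nd 15125 = n47895 := ndS (p := 12892) (l := 8) rfl N12892 D47895
theorem N15126 : nd 15126 = n47896 := ndS (p := 12893) (l := 0) rfl N12893 D47896
theorem N15127 : nd 15127 = n47897 := ndS (p := 12893) (l := 9) rfl N12893 D47897
theorem N15128 : nd 15128 = n47898 := ndS (p := 12894) (l := 8) rfl N12894 D47898
theorem N15129 : nd 15129 = n47899 := ndS (p := 12896) (l := 9) rfl N12896 D47899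
theorem N15130 : nd 15130 = n47900 := ndS (p := 12897) (l := 8) rfl N12897 D47900
theorem N15131 : nd 15131 = n47901 := ndS (p := 12898) (l := 3) rfl N12898 D47901
theorem N15132 : nd 15132 = n47902 := ndS (p := 12899) (l := 0) rfl N12899 D47902
theorem N15133 : nd 15133 = n47903 := ndS (p := 12899) (l := 9) rfl N12899 D47903
theorem N15134 : nd 15134 = n47904 := ndS (p := 12900) (l := 8) rfl N12900 D47904
theorem N15135 : nd 15135 = n47905 := ndS (p := 12902) (l := 0) rfl N12902 D47905
theorem N15136 : nd 15136 = n47906 := ndS (p := 12902) (l := 9) rfl N12902 D47906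
theorem N15137 : nd 15137 = n47907 := ndS (p := 12903) (l := 8) rfl N12903 D47907
theorem N15138 : nd 15138 = n47908 := ndS (p := 12905) (l := 9) rfl N12905 D47908
theorem N15139 : nd 15139 = n47909 := ndS (p := 12906) (l := 8) rfl N12906 D47909
theorem N15140 : nd 15140 = n47910 := ndS (p := 12907) (l := 3) rfl N12907 D47910
theorem N15141 : nd 15141 = n47911 := ndS (p := 12908) (l := 8) rfl N12908 D47911
theorem N15142 : nd 15142 = n47912 := ndS (p := 12909) (l := 3) rfl N12909 D47912
theorem N15143 : nd 15143 = n47913 := ndS (p := 12910) (l := 4) rfl N12910 D47913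
theorem N15144 : nd 15144 = n47914 := ndS (p := 12911) (l := 8) rfl N12911 D47914
theorem N15145 : nd 15145 = n47915 := ndS (p := 12912) (l := 9) rfl N12912 D47915
theorem N15146 : nd 15146 = n47916 := ndS (p := 12914) (l := 8) rfl N12914 D47916
theorem N15147 : nd 15147 = n47917 := ndS (p := 12915) (l := 3) rfl N12915 D47917
theorem N15148 : nd 15148 = n47918 := ndS (p := 12915) (l := 9) rfl N12915 D47918
theorem N15149 : nd 15149 = n47919 := ndS (p := 12916) (l := 3) rfl N12916 D47919
theorem N15150 : nd 15150 = n47920 := ndS (p := 12916) (l := 9) rfl N12916 D47920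
theorem N15151 : nd 15151 = n47921 := ndS (p := 12917) (l := 9) rfl N12917 D47921
theorem N15152 : nd 15152 = n47922 := ndS (p := 12919) (l := 8) rfl N12919 D47922
theorem N15153 : nd 15153 = n47923 := ndS (p := 12921) (l := 3) rfl N12921 D47923
theorem N15154 : nd 15154 = n47924 := ndS (p := 12921) (l := 9) rfl N12921 D47924
theorem N15155 : nd 15155 = n47925 := ndS (p := 12922) (l := 3) rfl N12922 D47925
theorem N15156 : nd 15156 = n47926 := ndS (p := 12922) (l := 9) rfl N12922 D47926
theorem N15157 : nd 15157 = n47927 := ndS (p := 12923) (l := 2) rfl N12923 D47927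
theorem N15158 : nd 15158 = n47928 := ndS (p := 12923) (l := 9) rfl N12923 D47928
theorem N15159 : nd 15159 = n47929 := ndS (p := 12925) (l := 9) rfl N12925 D47929
theorem N15160 : nd 15160 = n47930 := ndS (p := 12926) (l := 8) rfl N12926 D47930
theorem N15161 : nd 15161 = n47931 := ndS (p := 12927) (l := 8) rfl N12927 D47931
theorem N15162 : nd 15162 = n47932 := ndS (p := 12928) (l := 3) rfl N12928 D47932
theorem N15163 : nd 15163 = n47933 := ndS (p := 12928) (l := 9) rfl N12928 D47933
theorem N15164 : nd 15164 = n47934 := ndS (p := 12929) (l := 2) rfl N12929 D47934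
theorem N15165 : nd 15165 = n47935 := ndS (p := 12929) (l := 4) rfl N12929 D47935
theorem N15166 : nd 15166 = n47936 := ndS (p := 12929) (l := 9) rfl N12929 D47936
theorem N15167 : nd 15167 = n47937 := ndS (p := 12931) (l := 2) rfl N12931 D47937
theorem N15168 : nd 15168 = n47938 := ndS (p := 12931) (l := 4) rfl N12931 D47938
theorem N15169 : nd 15169 = n47939 := ndS (p := 12931) (l := 9) rfl N12931 D47939
theorem N15170 : nd 15170 = n47940 := ndS (p := 12933) (l := 1) rfl N12933 D47940
theorem N15171 : nd 15171 = n47941 := ndS (p := 12933) (l := 4) rfl N12933 D47941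
theorem N15172 : nd 15172 = n47942 := ndS (p := 12933) (l := 9) rfl N12933 D47942
theorem N15173 : nd 15173 = n47943 := ndS (p := 12934) (l := 5) rfl N12934 D47943
theorem N15174 : nd 15174 = n47944 := ndS (p := 12934) (l := 9) rfl N12934 D47944
theorem N15175 : nd 15175 = n47945 := ndS (p := 12935) (l := 8) rfl N12935 D47945
theorem N15176 : nd 15176 = n47946 := ndS (p := 12936) (l := 9) rfl N12936 D47946
theorem N15177 : nd 15177 = n47947 := ndS (p := 12937) (l := 9) rfl N12937 D47947
theorem N15178 : nd 15178 = n47948 := ndS (p := 12938) (l := 8) rfl N12938 D47948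
theorem N15179 : nd 15179 = n47949 := ndS (p := 12939) (l := 8) rfl N12939 D47949
theorem N15180 : nd 15180 = n47950 := ndS (p := 12941) (l := 5) rfl N12941 D47950
theorem N15181 : nd 15181 = n47951 := ndS (p := 12941) (l := 9) rfl N12941 D47951
theorem N15182 : nd 15182 = n47952 := ndS (p := 12943) (l := 9) rfl N12943 D47952
theorem N15183 : nd 15183 = n47953 := ndS (p := 12945) (l := 3) rfl N12945 D47953
theorem N15184 : nd 15184 = n47954 := ndS (p := 12945) (l := 9) rfl N12945 D47954
theorem N15185 : nd 15185 = n47955 := ndS (p := 12946) (l := 2) rfl N12946 D47955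
theorem N15186 : nd 15186 = n47956 := ndS (p := 12946) (l := 4) rfl N12946 D47956
theorem N15187 : nd 15187 = n47957 := ndS (p := 12946) (l := 9) rfl N12946 D47957
theorem N15188 : nd 15188 = n47958 := ndS (p := 12948) (l := 1) rfl N12948 D47958
theorem N15189 : nd 15189 = n47959 := ndS (p := 12948) (l := 4) rfl N12948 D47959
theorem N15190 : nd 15190 = n47960 := ndS (p := 12948) (l := 9) rfl N12948 D47960
theorem N15191 : nd 15191 = n47961 := ndS (p := 12949) (l := 9) rfl N12949 D47961
theorem N15192 : nd 15192 = n47962 := ndS (p := 12950) (l := 8) rfl N12950 D47962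
theorem N15193 : nd 15193 = n47963 := ndS (p := 12951) (l := 1) rfl N12951 D47963
theorem N15194 : nd 15194 = n47964 := ndS (p := 12951) (l := 9) rfl N12951 D47964
theorem N15195 : nd 15195 = n47965 := ndS (p := 12952) (l := 8) rfl N12952 D47965
theorem N15196 : nd 15196 = n47966 := ndS (p := 12953) (l := 0) rfl N12953 D47966
theorem N15197 : nd 15197 = n47967 := ndS (p := 12953) (l := 9) rfl N12953 D47967
theorem N15198 : nd 15198 = n47968 := ndS (p := 12954) (l := 8) rfl N12954 D47968
theorem N15199 : nd 15199 = n47969 := ndS (p := 12956) (l := 9) rfl N12956 D47969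
theorem N15200 : nd 15200 = n47970 := ndS (p := 12957) (l := 8) rfl N12957 D47970
theorem N15201 : nd 15201 = n47971 := ndS (p := 12958) (l := 3) rfl N12958 D47971
theorem N15202 : nd 15202 = n47972 := ndS (p := 12959) (l := 3) rfl N12959 D47972
theorem N15203 : nd 15203 = n47973 := ndS (p := 12959) (l := 9) rfl N12959 D47973
theorem N15204 : nd 15204 = n47974 := ndS (p := 12960) (l := 8) rfl N12960 D47974
theorem N15205 : nd 15205 = n47975 := ndS (p := 12961) (l := 3) rfl N12961 D47975
theorem N15206 : nd 15206 = n47976 := ndS (p := 12961) (l := 9) rfl N12961 D47976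
theorem N15207 : nd 15207 = n47977 := ndS (p := 12962) (l := 2) rfl N12962 D47977
theorem N15208 : nd 15208 = n47978 := ndS (p := 12962) (l := 4) rfl N12962 D47978
theorem N15209 : nd 15209 = n47979 := ndS (p := 12962) (l := 9) rfl N12962 D47979
theorem N15210 : nd 15210 = n47980 := ndS (p := 12964) (l := 2) rfl N12964 D47980
theorem N15211 : nd 15211 = n47981 := ndS (p := 12964) (l := 9) rfl N12964 D47981
theorem N15212 : nd 15212 = n47982 := ndS (p := 12966) (l := 1) rfl N12966 D47982
theorem N15213 : nd 15213 = n47983 := ndS (p := 12966) (l := 4) rfl N12966 D47983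
theorem N15214 : nd 15214 = n47984 := ndS (p := 12966) (l := 9) rfl N12966 D47984
theorem N15215 : nd 15215 = n47985 := ndS (p := 12967) (l := 5) rfl N12967 D47985
theorem N15216 : nd 15216 = n47986 := ndS (p := 12967) (l := 9) rfl N12967 D47986
theorem N15217 : nd 15217 = n47987 := ndS (p := 12968) (l := 8) rfl N12968 D47987
theorem N15218 : nd 15218 = n47988 := ndS (p := 12969) (l := 4) rfl N12969 D47988
theorem N15219 : nd 15219 = n47989 := ndS (p := 12969) (l := 9) rfl N12969 D47989
theorem N15220 : nd 15220 = n47990 := ndS (p := 12970) (l := 9) rfl N12970 D47990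
theorem N15221 : nd 15221 = n47991 := ndS (p := 12971) (l := 8) rfl N12971 D47991
theorem N15222 : nd 15222 = n47992 := ndS (p := 12972) (l := 6) rfl N12972 D47992
theorem N15223 : nd 15223 = n47993 := ndS (p := 12972) (l := 9) rfl N12972 D47993
theorem N15224 : nd 15224 = n47994 := ndS (p := 12973) (l := 8) rfl N12973 D47994
theorem N15225 : nd 15225 = n47995 := ndS (p := 12975) (l := 3) rfl N12975 D47995
theorem N15226 : nd 15226 = n47996 := ndS (p := 12975) (l := 9) rfl N12975 D47996
theorem N15227 : nd 15227 = n47997 := ndS (p := 12976) (l := 2) rfl N12976 D47997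
theorem N15228 : nd 15228 = n47998 := ndS (p := 12976) (l := 4) rfl N12976 D47998
theorem N15229 : nd 15229 = n47999 := ndS (p := 12976) (l := 9) rfl N12976 D47999
theorem N15230 : nd 15230 = n48000 := ndS (p := 12978) (l := 1) rfl N12978 D48000
theorem N15231 : nd 15231 = n48001 := ndS (p := 12978) (l := 4) rfl N12978 D48001
theorem N15232 : nd 15232 = n48002 := ndS (p := 12978) (l := 9) rfl N12978 D48002
theorem N15233 : nd 15233 = n48003 := ndS (p := 12979) (l := 5) rfl N12979 D48003
theorem N15234 : nd 15234 = n48004 := ndS (p := 12979) (l := 9) rfl N12979 D48004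
theorem N15235 : nd 15235 = n48005 := ndS (p := 12980) (l := 8) rfl N12980 D48005
theorem N15236 : nd 15236 = n48006 := ndS (p := 12981) (l := 1) rfl N12981 D48006
theorem N15237 : nd 15237 = n48007 := ndS (p := 12981) (l := 4) rfl N12981 D48007
theorem N15238 : nd 15238 = n48008 := ndS (p := 12981) (l := 9) rfl N12981 D48008
theorem N15239 : nd 15239 = n48009 := ndS (p := 12982) (l := 5) rfl N12982 D48009
theorem N15240 : nd 15240 = n48010 := ndS (p := 12982) (l := 9) rfl N12982 D48010
theorem N15241 : nd 15241 = n48011 := ndS (p := 12983) (l := 8) rfl N12983 D48011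
theorem N15242 : nd 15242 = n48012 := ndS (p := 12984) (l := 0) rfl N12984 D48012
theorem N15243 : nd 15243 = n48013 := ndS (p := 12984) (l := 4) rfl N12984 D48013
theorem N15244 : nd 15244 = n48014 := ndS (p := 12984) (l := 9) rfl N12984 D48014
theorem N15245 : nd 15245 = n48015 := ndS (p := 12985) (l := 5) rfl N12985 D48015
theorem N15246 : nd 15246 = n48016 := ndS (p := 12985) (l := 9) rfl N12985 D48016
theorem N15247 : nd 15247 = n48017 := ndS (p := 12986) (l := 8) rfl N12986 D48017
theorem N15248 : nd 15248 = n48018 := ndS (p := 12987) (l := 6) rfl N12987 D48018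
theorem N15249 : nd 15249 = n48019 := ndS (p := 12987) (l := 9) rfl N12987 D48019
theorem N15250 : nd 15250 = n48020 := ndS (p := 12988) (l := 8) rfl N12988 D48020
theorem N15251 : nd 15251 = n48021 := ndS (p := 12990) (l := 4) rfl N12990 D48021
theorem N15252 : nd 15252 = n48022 := ndS (p := 12990) (l := 9) rfl N12990 D48022
theorem N15253 : nd 15253 = n48023 := ndS (p := 12991) (l := 5) rfl N12991 D48023
theorem N15254 : nd 15254 = n48024 := ndS (p := 12991) (l := 9) rfl N12991 D48024
theorem N15255 : nd 15255 = n48025 := ndS (p := 12992) (l := 8) rfl N12992 D48025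
theorem N15256 : nd 15256 = n48026 := ndS (p := 12993) (l := 6) rfl N12993 D48026
theorem N15257 : nd 15257 = n48027 := ndS (p := 12993) (l := 9) rfl N12993 D48027
theorem N15258 : nd 15258 = n48028 := ndS (p := 12994) (l := 8) rfl N12994 D48028
theorem N15259 : nd 15259 = n48029 := ndS (p := 12995) (l := 3) rfl N12995 D48029
theorem N15260 : nd 15260 = n48030 := ndS (p := 12996) (l := 7) rfl N12996 D48030
theorem N15261 : nd 15261 = n48031 := ndS (p := 12996) (l := 9) rfl N12996 D48031
theorem N15262 : nd 15262 = n48032 := ndS (p := 12997) (l := 8) rfl N12997 D48032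
theorem N15263 : nd 15263 = n48033 := ndS (p := 12999) (l := 9) rfl N12999 D48033
theorem N15264 : nd 15264 = n48034 := ndS (p := 13001) (l := 7) rfl N13001 D48034
theorem N15265 : nd 15265 = n48035 := ndS (p := 13001) (l := 9) rfl N13001 D48035
theorem N15266 : nd 15266 = n48036 := ndS (p := 13003) (l := 9) rfl N13003 D48036
theorem N15267 : nd 15267 = n48037 := ndS (p := 13006) (l := 2) rfl N13006 D48037
theorem N15268 : nd 15268 = n48038 := ndS (p := 13006) (l := 9) rfl N13006 D48038
theorem N15269 : nd 15269 = n48039 := ndS (p := 13008) (l := 1) rfl N13008 D48039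
theorem N15270 : nd 15270 = n48040 := ndS (p := 13008) (l := 4) rfl N13008 D48040
theorem N15271 : nd 15271 = n48041 := ndS (p := 13008) (l := 9) rfl N13008 D48041
theorem N15272 : nd 15272 = n48042 := ndS (p := 13009) (l := 9) rfl N13009 D48042
theorem N15273 : nd 15273 = n48043 := ndS (p := 13010) (l := 8) rfl N13010 D48043
theorem N15274 : nd 15274 = n48044 := ndS (p := 13011) (l := 0) rfl N13011 D48044
theorem N15275 : nd 15275 = n48045 := ndS (p := 13011) (l := 4) rfl N13011 D48045
theorem N15276 : nd 15276 = n48046 := ndS (p := 13011) (l := 9) rfl N13011 D48046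
theorem N15277 : nd 15277 = n48047 := ndS (p := 13012) (l := 3) rfl N13012 D48047
theorem N15278 : nd 15278 = n48048 := ndS (p := 13012) (l := 9) rfl N13012 D48048
theorem N15279 : nd 15279 = n48049 := ndS (p := 13013) (l := 8) rfl N13013 D48049
theorem N15280 : nd 15280 = n48050 := ndS (p := 13014) (l := 8) rfl N13014 D48050
theorem N15281 : nd 15281 = n48051 := ndS (p := 13016) (l := 0) rfl N13016 D48051
theorem N15282 : nd 15282 = n48052 := ndS (p := 13016) (l := 9) rfl N13016 D48052
theorem N15283 : nd 15283 = n48053 := ndS (p := 13017) (l := 8) rfl N13017 D48053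
theorem N15284 : nd 15284 = n48054 := ndS (p := 13019) (l := 9) rfl N13019 D48054
theorem N15285 : nd 15285 = n48055 := ndS (p := 13020) (l := 8) rfl N13020 D48055
theorem N15286 : nd 15286 = n48056 := ndS (p := 13021) (l := 3) rfl N13021 D48056
theorem N15287 : nd 15287 = n48057 := ndS (p := 13022) (l := 8) rfl N13022 D48057
theorem N15288 : nd 15288 = n48058 := ndS (p := 13023) (l := 3) rfl N13023 D48058
theorem N15289 : nd 15289 = n48059 := ndS (p := 13024) (l := 4) rfl N13024 D48059
theorem N15290 : nd 15290 = n48060 := ndS (p := 13025) (l := 8) rfl N13025 D48060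
theorem N15291 : nd 15291 = n48061 := ndS (p := 13026) (l := 9) rfl N13026 D48061
theorem N15292 : nd 15292 = n48062 := ndS (p := 13027) (l := 9) rfl N13027 D48062
theorem N15293 : nd 15293 = n48063 := ndS (p := 13028) (l := 8) rfl N13028 D48063
theorem N15294 : nd 15294 = n48064 := ndS (p := 13029) (l := 8) rfl N13029 D48064
theorem N15295 : nd 15295 = n48065 := ndS (p := 13031) (l := 9) rfl N13031 D48065
theorem N15296 : nd 15296 = n48066 := ndS (p := 13032) (l := 9) rfl N13032 D48066
theorem N15297 : nd 15297 = n48067 := ndS (p := 13033) (l := 8) rfl N13033 D48067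
theorem N15298 : nd 15298 = n48068 := ndS (p := 13034) (l := 9) rfl N13034 D48068
theorem N15299 : nd 15299 = n48069 := ndS (p := 13035) (l := 8) rfl N13035 D48069
theorem N15300 : nd 15300 = n48070 := ndS (p := 13036) (l := 3) rfl N13036 D48070
theorem N15301 : nd 15301 = n48071 := ndS (p := 13038) (l := 9) rfl N13038 D48071
theorem N15302 : nd 15302 = n48072 := ndS (p := 13039) (l := 8) rfl N13039 D48072
theorem N15303 : nd 15303 = n48073 := ndS (p := 13041) (l := 8) rfl N13041 D48073
theorem N15304 : nd 15304 = n48074 := ndS (p := 13042) (l := 3) rfl N13042 D48074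
theorem N15305 : nd 15305 = n48075 := ndS (p := 13047) (l := 3) rfl N13047 D48075
theorem N15306 : nd 15306 = n48076 := ndS (p := 13047) (l := 9) rfl N13047 D48076
theorem N15307 : nd 15307 = n48077 := ndS (p := 13048) (l := 3) rfl N13048 D48077
theorem N15308 : nd 15308 = n48078 := ndS (p := 13048) (l := 9) rfl N13048 D48078
theorem N15309 : nd 15309 = n48079 := ndS (p := 13049) (l := 2) rfl N13049 D48079
theorem N15310 : nd 15310 = n48080 := ndS (p := 13049) (l := 9) rfl N13049 D48080
theorem N15311 : nd 15311 = n48081 := ndS (p := 13053) (l := 1) rfl N13053 D48081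
theorem N15312 : nd 15312 = n48082 := ndS (p := 13053) (l := 9) rfl N13053 D48082
theorem N15313 : nd 15313 = n48083 := ndS (p := 13054) (l := 8) rfl N13054 D48083
theorem N15314 : nd 15314 = n48084 := ndS (p := 13056) (l := 2) rfl N13056 D48084
theorem N15315 : nd 15315 = n48085 := ndS (p := 13056) (l := 9) rfl N13056 D48085
theorem N15316 : nd 15316 = n48086 := ndS (p := 13058) (l := 9) rfl N13058 D48086
theorem N15317 : nd 15317 = n48087 := ndS (p := 13060) (l := 4) rfl N13060 D48087
theorem N15318 : nd 15318 = n48088 := ndS (p := 13060) (l := 9) rfl N13060 D48088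
theorem N15319 : nd 15319 = n48089 := ndS (p := 13061) (l := 9) rfl N13061 D48089
theorem N15320 : nd 15320 = n48090 := ndS (p := 13062) (l := 8) rfl N13062 D48090
theorem N15321 : nd 15321 = n48091 := ndS (p := 13066) (l := 8) rfl N13066 D48091
theorem N15322 : nd 15322 = n48092 := ndS (p := 13068) (l := 2) rfl N13068 D48092
theorem N15323 : nd 15323 = n48093 := ndS (p := 13068) (l := 9) rfl N13068 D48093
theorem N15324 : nd 15324 = n48094 := ndS (p := 13070) (l := 3) rfl N13070 D48094
theorem N15325 : nd 15325 = n48095 := ndS (p := 13070) (l := 9) rfl N13070 D48095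
theorem N15326 : nd 15326 = n48096 := ndS (p := 13071) (l := 9) rfl N13071 D48096
theorem N15327 : nd 15327 = n48097 := ndS (p := 13072) (l := 9) rfl N13072 D48097
theorem N15328 : nd 15328 = n48098 := ndS (p := 13074) (l := 9) rfl N13074 D48098
theorem N15329 : nd 15329 = n48099 := ndS (p := 13075) (l := 8) rfl N13075 D48099
theorem N15330 : nd 15330 = n48100 := ndS (p := 13077) (l := 8) rfl N13077 D48100
theorem N15331 : nd 15331 = n48101 := ndS (p := 13079) (l := 9) rfl N13079 D48101
theorem N15332 : nd 15332 = n48102 := ndS (p := 13082) (l := 8) rfl N13082 D48102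
theorem N15333 : nd 15333 = n48103 := ndS (p := 13083) (l := 8) rfl N13083 D48103
theorem N15334 : nd 15334 = n48104 := ndS (p := 13085) (l := 1) rfl N13085 D48104
theorem N15335 : nd 15335 = n48105 := ndS (p := 13085) (l := 9) rfl N13085 D48105
theorem N15336 : nd 15336 = n48106 := ndS (p := 13086) (l := 8) rfl N13086 D48106
theorem N15337 : nd 15337 = n48107 := ndS (p := 13087) (l := 8) rfl N13087 D48107
theorem N15338 : nd 15338 = n48108 := ndS (p := 13089) (l := 2) rfl N13089 D48108
theorem N15339 : nd 15339 = n48109 := ndS (p := 13089) (l := 4) rfl N13089 D48109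
theorem N15340 : nd 15340 = n48110 := ndS (p := 13089) (l := 9) rfl N13089 D48110
theorem N15341 : nd 15341 = n48111 := ndS (p := 13092) (l := 1) rfl N13092 D48111
theorem N15342 : nd 15342 = n48112 := ndS (p := 13092) (l := 9) rfl N13092 D48112
theorem N15343 : nd 15343 = n48113 := ndS (p := 13093) (l := 8) rfl N13093 D48113
theorem N15344 : nd 15344 = n48114 := ndS (p := 13094) (l := 0) rfl N13094 D48114
theorem N15345 : nd 15345 = n48115 := ndS (p := 13094) (l := 4) rfl N13094 D48115
theorem N15346 : nd 15346 = n48116 := ndS (p := 13094) (l := 9) rfl N13094 D48116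
theorem N15347 : nd 15347 = n48117 := ndS (p := 13095) (l := 5) rfl N13095 D48117
theorem N15348 : nd 15348 = n48118 := ndS (p := 13095) (l := 9) rfl N13095 D48118
theorem N15349 : nd 15349 = n48119 := ndS (p := 13096) (l := 8) rfl N13096 D48119
theorem N15350 : nd 15350 = n48120 := ndS (p := 13097) (l := 6) rfl N13097 D48120
theorem N15351 : nd 15351 = n48121 := ndS (p := 13097) (l := 9) rfl N13097 D48121
theorem N15352 : nd 15352 = n48122 := ndS (p := 13098) (l := 8) rfl N13098 D48122
theorem N15353 : nd 15353 = n48123 := ndS (p := 13100) (l := 7) rfl N13100 D48123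
theorem N15354 : nd 15354 = n48124 := ndS (p := 13100) (l := 9) rfl N13100 D48124
theorem N15355 : nd 15355 = n48125 := ndS (p := 13106) (l := 9) rfl N13106 D48125
theorem N15356 : nd 15356 = n48126 := ndS (p := 13107) (l := 9) rfl N13107 D48126
theorem N15357 : nd 15357 = n48127 := ndS (p := 13108) (l := 8) rfl N13108 D48127
theorem N15358 : nd 15358 = n48128 := ndS (p := 13110) (l := 9) rfl N13110 D48128
theorem N15359 : nd 15359 = n48129 := ndS (p := 13111) (l := 8) rfl N13111 D48129
theorem N15360 : nd 15360 = n48130 := ndS (p := 13113) (l := 9) rfl N13113 D48130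
theorem N15361 : nd 15361 = n48131 := ndS (p := 13114) (l := 8) rfl N13114 D48131
theorem N15362 : nd 15362 = n48132 := ndS (p := 13115) (l := 3) rfl N13115 D48132
theorem N15363 : nd 15363 = n48133 := ndS (p := 13117) (l := 8) rfl N13117 D48133
theorem N15364 : nd 15364 = n48134 := ndS (p := 13119) (l := 9) rfl N13119 D48134
theorem N15365 : nd 15365 = n48135 := ndS (p := 13121) (l := 9) rfl N13121 D48135
theorem N15366 : nd 15366 = n48136 := ndS (p := 13122) (l := 8) rfl N13122 D48136
theorem N15367 : nd 15367 = n48137 := ndS (p := 13124) (l := 8) rfl N13124 D48137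
theorem N15368 : nd 15368 = n48138 := ndS (p := 13127) (l := 8) rfl N13127 D48138
theorem N15369 : nd 15369 = n48139 := ndS (p := 13128) (l := 3) rfl N13128 D48139
theorem N15370 : nd 15370 = n48140 := ndS (p := 13128) (l := 9) rfl N13128 D48140
theorem N15371 : nd 15371 = n48141 := ndS (p := 13129) (l := 9) rfl N13129 D48141
theorem N15372 : nd 15372 = n48142 := ndS (p := 13131) (l := 8) rfl N13131 D48142
theorem N15373 : nd 15373 = n48143 := ndS (p := 13132) (l := 3) rfl N13132 D48143
theorem N15374 : nd 15374 = n48144 := ndS (p := 13132) (l := 9) rfl N13132 D48144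
theorem N15375 : nd 15375 = n48145 := ndS (p := 13133) (l := 3) rfl N13133 D48145
theorem N15376 : nd 15376 = n48146 := ndS (p := 13133) (l := 9) rfl N13133 D48146
theorem N15377 : nd 15377 = n48147 := ndS (p := 13134) (l := 2) rfl N13134 D48147
theorem N15378 : nd 15378 = n48148 := ndS (p := 13134) (l := 9) rfl N13134 D48148
theorem N15379 : nd 15379 = n48149 := ndS (p := 13136) (l := 9) rfl N13136 D48149
theorem N15380 : nd 15380 = n48150 := ndS (p := 13137) (l := 8) rfl N13137 D48150
theorem N15381 : nd 15381 = n48151 := ndS (p := 13140) (l := 9) rfl N13140 D48151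
theorem N15382 : nd 15382 = n48152 := ndS (p := 13141) (l := 2) rfl N13141 D48152
theorem N15383 : nd 15383 = n48153 := ndS (p := 13141) (l := 9) rfl N13141 D48153
theorem N15384 : nd 15384 = n48154 := ndS (p := 13144) (l := 1) rfl N13144 D48154
theorem N15385 : nd 15385 = n48155 := ndS (p := 13144) (l := 9) rfl N13144 D48155
theorem N15386 : nd 15386 = n48156 := ndS (p := 13145) (l := 8) rfl N13145 D48156
theorem N15387 : nd 15387 = n48157 := ndS (p := 13146) (l := 0) rfl N13146 D48157
theorem N15388 : nd 15388 = n48158 := ndS (p := 13146) (l := 9) rfl N13146 D48158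
theorem N15389 : nd 15389 = n48159 := ndS (p := 13147) (l := 8) rfl N13147 D48159
theorem N15390 : nd 15390 = n48160 := ndS (p := 13149) (l := 3) rfl N13149 D48160
theorem N15391 : nd 15391 = n48161 := ndS (p := 13149) (l := 9) rfl N13149 D48161
theorem N15392 : nd 15392 = n48162 := ndS (p := 13150) (l := 2) rfl N13150 D48162
theorem N15393 : nd 15393 = n48163 := ndS (p := 13150) (l := 9) rfl N13150 D48163
theorem N15394 : nd 15394 = n48164 := ndS (p := 13152) (l := 1) rfl N13152 D48164
theorem N15395 : nd 15395 = n48165 := ndS (p := 13152) (l := 9) rfl N13152 D48165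
theorem N15396 : nd 15396 = n48166 := ndS (p := 13153) (l := 9) rfl N13153 D48166
theorem N15397 : nd 15397 = n48167 := ndS (p := 13154) (l := 8) rfl N13154 D48167
theorem N15398 : nd 15398 = n48168 := ndS (p := 13156) (l := 3) rfl N13156 D48168
theorem N15399 : nd 15399 = n48169 := ndS (p := 13156) (l := 9) rfl N13156 D48169
theorem N15400 : nd 15400 = n48170 := ndS (p := 13157) (l := 2) rfl N13157 D48170
theorem N15401 : nd 15401 = n48171 := ndS (p := 13157) (l := 4) rfl N13157 D48171
theorem N15402 : nd 15402 = n48172 := ndS (p := 13157) (l := 9) rfl N13157 D48172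
theorem N15403 : nd 15403 = n48173 := ndS (p := 13159) (l := 9) rfl N13159 D48173
theorem N15404 : nd 15404 = n48174 := ndS (p := 13161) (l := 4) rfl N13161 D48174
theorem N15405 : nd 15405 = n48175 := ndS (p := 13161) (l := 9) rfl N13161 D48175
theorem N15406 : nd 15406 = n48176 := ndS (p := 13162) (l := 5) rfl N13162 D48176
theorem N15407 : nd 15407 = n48177 := ndS (p := 13162) (l := 9) rfl N13162 D48177
theorem N15408 : nd 15408 = n48178 := ndS (p := 13163) (l := 8) rfl N13163 D48178
theorem N15409 : nd 15409 = n48179 := ndS (p := 13164) (l := 0) rfl N13164 D48179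
theorem N15410 : nd 15410 = n48180 := ndS (p := 13164) (l := 4) rfl N13164 D48180
theorem N15411 : nd 15411 = n48181 := ndS (p := 13164) (l := 9) rfl N13164 D48181
theorem N15412 : nd 15412 = n48182 := ndS (p := 13165) (l := 9) rfl N13165 D48182
theorem N15413 : nd 15413 = n48183 := ndS (p := 13166) (l := 8) rfl N13166 D48183
theorem N15414 : nd 15414 = n48184 := ndS (p := 13167) (l := 8) rfl N13167 D48184
theorem N15415 : nd 15415 = n48185 := ndS (p := 13170) (l := 9) rfl N13170 D48185
theorem N15416 : nd 15416 = n48186 := ndS (p := 13173) (l := 4) rfl N13173 D48186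
theorem N15417 : nd 15417 = n48187 := ndS (p := 13173) (l := 9) rfl N13173 D48187
theorem N15418 : nd 15418 = n48188 := ndS (p := 13174) (l := 9) rfl N13174 D48188
theorem N15419 : nd 15419 = n48189 := ndS (p := 13175) (l := 8) rfl N13175 D48189
theorem N15420 : nd 15420 = n48190 := ndS (p := 13176) (l := 8) rfl N13176 D48190
theorem N15421 : nd 15421 = n48191 := ndS (p := 13178) (l := 9) rfl N13178 D48191
theorem N15422 : nd 15422 = n48192 := ndS (p := 13179) (l := 8) rfl N13179 D48192
theorem N15423 : nd 15423 = n48193 := ndS (p := 13180) (l := 3) rfl N13180 D48193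
theorem N15424 : nd 15424 = n48194 := ndS (p := 13181) (l := 8) rfl N13181 D48194
theorem N15425 : nd 15425 = n48195 := ndS (p := 13183) (l := 8) rfl N13183 D48195
theorem N15426 : nd 15426 = n48196 := ndS (p := 13184) (l := 3) rfl N13184 D48196
theorem N15427 : nd 15427 = n48197 := ndS (p := 13185) (l := 4) rfl N13185 D48197
theorem N15428 : nd 15428 = n48198 := ndS (p := 13188) (l := 3) rfl N13188 D48198
theorem N15429 : nd 15429 = n48199 := ndS (p := 13188) (l := 9) rfl N13188 D48199
theorem N15430 : nd 15430 = n48200 := ndS (p := 13189) (l := 2) rfl N13189 D48200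
theorem N15431 : nd 15431 = n48201 := ndS (p := 13189) (l := 9) rfl N13189 D48201
theorem N15432 : nd 15432 = n48202 := ndS (p := 13191) (l := 1) rfl N13191 D48202
theorem N15433 : nd 15433 = n48203 := ndS (p := 13191) (l := 9) rfl N13191 D48203
theorem N15434 : nd 15434 = n48204 := ndS (p := 13192) (l := 8) rfl N13192 D48204
theorem N15435 : nd 15435 = n48205 := ndS (p := 13193) (l := 8) rfl N13193 D48205
theorem N15436 : nd 15436 = n48206 := ndS (p := 13194) (l := 3) rfl N13194 D48206
theorem N15437 : nd 15437 = n48207 := ndS (p := 13194) (l := 9) rfl N13194 D48207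
theorem N15438 : nd 15438 = n48208 := ndS (p := 13195) (l := 2) rfl N13195 D48208
theorem N15439 : nd 15439 = n48209 := ndS (p := 13195) (l := 4) rfl N13195 D48209
theorem N15440 : nd 15440 = n48210 := ndS (p := 13195) (l := 9) rfl N13195 D48210
theorem N15441 : nd 15441 = n48211 := ndS (p := 13197) (l := 9) rfl N13197 D48211
theorem N15442 : nd 15442 = n48212 := ndS (p := 13199) (l := 9) rfl N13199 D48212
theorem N15443 : nd 15443 = n48213 := ndS (p := 13200) (l := 8) rfl N13200 D48213
theorem N15444 : nd 15444 = n48214 := ndS (p := 13201) (l := 0) rfl N13201 D48214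
theorem N15445 : nd 15445 = n48215 := ndS (p := 13201) (l := 9) rfl N13201 D48215
theorem N15446 : nd 15446 = n48216 := ndS (p := 13202) (l := 8) rfl N13202 D48216
theorem N15447 : nd 15447 = n48217 := ndS (p := 13204) (l := 3) rfl N13204 D48217
theorem N15448 : nd 15448 = n48218 := ndS (p := 13204) (l := 9) rfl N13204 D48218
theorem N15449 : nd 15449 = n48219 := ndS (p := 13205) (l := 9) rfl N13205 D48219
theorem N15450 : nd 15450 = n48220 := ndS (p := 13207) (l := 9) rfl N13207 D48220
theorem N15451 : nd 15451 = n48221 := ndS (p := 13208) (l := 9) rfl N13208 D48221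
theorem N15452 : nd 15452 = n48222 := ndS (p := 13209) (l := 8) rfl N13209 D48222
theorem N15453 : nd 15453 = n48223 := ndS (p := 13210) (l := 8) rfl N13210 D48223
theorem N15454 : nd 15454 = n48224 := ndS (p := 13211) (l := 8) rfl N13211 D48224
theorem N15455 : nd 15455 = n48225 := ndS (p := 13213) (l := 9) rfl N13213 D48225
theorem N15456 : nd 15456 = n48226 := ndS (p := 13214) (l := 8) rfl N13214 D48226
theorem N15457 : nd 15457 = n48227 := ndS (p := 13215) (l := 3) rfl N13215 D48227
theorem N15458 : nd 15458 = n48228 := ndS (p := 13217) (l := 2) rfl N13217 D48228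
theorem N15459 : nd 15459 = n48229 := ndS (p := 13217) (l := 4) rfl N13217 D48229
theorem N15460 : nd 15460 = n48230 := ndS (p := 13217) (l := 9) rfl N13217 D48230
theorem N15461 : nd 15461 = n48231 := ndS (p := 13219) (l := 1) rfl N13219 D48231
theorem N15462 : nd 15462 = n48232 := ndS (p := 13219) (l := 9) rfl N13219 D48232
theorem N15463 : nd 15463 = n48233 := ndS (p := 13220) (l := 8) rfl N13220 D48233
theorem N15464 : nd 15464 = n48234 := ndS (p := 13221) (l := 4) rfl N13221 D48234
theorem N15465 : nd 15465 = n48235 := ndS (p := 13221) (l := 9) rfl N13221 D48235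
theorem N15466 : nd 15466 = n48236 := ndS (p := 13222) (l := 5) rfl N13222 D48236
theorem N15467 : nd 15467 = n48237 := ndS (p := 13222) (l := 9) rfl N13222 D48237
theorem N15468 : nd 15468 = n48238 := ndS (p := 13223) (l := 8) rfl N13223 D48238
theorem N15469 : nd 15469 = n48239 := ndS (p := 13224) (l := 6) rfl N13224 D48239
theorem N15470 : nd 15470 = n48240 := ndS (p := 13225) (l := 8) rfl N13225 D48240
theorem N15471 : nd 15471 = n48241 := ndS (p := 13227) (l := 3) rfl N13227 D48241
theorem N15472 : nd 15472 = n48242 := ndS (p := 13227) (l := 9) rfl N13227 D48242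
theorem N15473 : nd 15473 = n48243 := ndS (p := 13228) (l := 2) rfl N13228 D48243
theorem N15474 : nd 15474 = n48244 := ndS (p := 13228) (l := 4) rfl N13228 D48244
theorem N15475 : nd 15475 = n48245 := ndS (p := 13228) (l := 9) rfl N13228 D48245
theorem N15476 : nd 15476 = n48246 := ndS (p := 13230) (l := 1) rfl N13230 D48246
theorem N15477 : nd 15477 = n48247 := ndS (p := 13230) (l := 4) rfl N13230 D48247
theorem N15478 : nd 15478 = n48248 := ndS (p := 13230) (l := 9) rfl N13230 D48248
theorem N15479 : nd 15479 = n48249 := ndS (p := 13231) (l := 5) rfl N13231 D48249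
theorem N15480 : nd 15480 = n48250 := ndS (p := 13231) (l := 9) rfl N13231 D48250
theorem N15481 : nd 15481 = n48251 := ndS (p := 13232) (l := 8) rfl N13232 D48251
theorem N15482 : nd 15482 = n48252 := ndS (p := 13233) (l := 1) rfl N13233 D48252
theorem N15483 : nd 15483 = n48253 := ndS (p := 13233) (l := 9) rfl N13233 D48253
theorem N15484 : nd 15484 = n48254 := ndS (p := 13234) (l := 8) rfl N13234 D48254
theorem N15485 : nd 15485 = n48255 := ndS (p := 13235) (l := 0) rfl N13235 D48255
theorem N15486 : nd 15486 = n48256 := ndS (p := 13235) (l := 4) rfl N13235 D48256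
theorem N15487 : nd 15487 = n48257 := ndS (p := 13235) (l := 9) rfl N13235 D48257
theorem N15488 : nd 15488 = n48258 := ndS (p := 13236) (l := 5) rfl N13236 D48258
theorem N15489 : nd 15489 = n48259 := ndS (p := 13236) (l := 9) rfl N13236 D48259
theorem N15490 : nd 15490 = n48260 := ndS (p := 13237) (l := 8) rfl N13237 D48260
theorem N15491 : nd 15491 = n48261 := ndS (p := 13238) (l := 6) rfl N13238 D48261
theorem N15492 : nd 15492 = n48262 := ndS (p := 13238) (l := 9) rfl N13238 D48262
theorem N15493 : nd 15493 = n48263 := ndS (p := 13239) (l := 8) rfl N13239 D48263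
theorem N15494 : nd 15494 = n48264 := ndS (p := 13241) (l := 4) rfl N13241 D48264
theorem N15495 : nd 15495 = n48265 := ndS (p := 13241) (l := 9) rfl N13241 D48265
theorem N15496 : nd 15496 = n48266 := ndS (p := 13242) (l := 5) rfl N13242 D48266
theorem N15497 : nd 15497 = n48267 := ndS (p := 13242) (l := 9) rfl N13242 D48267
theorem N15498 : nd 15498 = n48268 := ndS (p := 13243) (l := 8) rfl N13243 D48268
theorem N15499 : nd 15499 = n48269 := ndS (p := 13244) (l := 6) rfl N13244 D48269
theorem N15500 : nd 15500 = n48270 := ndS (p := 13244) (l := 9) rfl N13244 D48270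
theorem N15501 : nd 15501 = n48271 := ndS (p := 13245) (l := 8) rfl N13245 D48271
theorem N15502 : nd 15502 = n48272 := ndS (p := 13246) (l := 3) rfl N13246 D48272
theorem N15503 : nd 15503 = n48273 := ndS (p := 13247) (l := 7) rfl N13247 D48273
theorem N15504 : nd 15504 = n48274 := ndS (p := 13247) (l := 9) rfl N13247 D48274
theorem N15505 : nd 15505 = n48275 := ndS (p := 13248) (l := 8) rfl N13248 D48275
theorem N15506 : nd 15506 = n48276 := ndS (p := 13250) (l := 7) rfl N13250 D48276
theorem N15507 : nd 15507 = n48277 := ndS (p := 13250) (l := 9) rfl N13250 D48277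
theorem N15508 : nd 15508 = n48278 := ndS (p := 13252) (l := 9) rfl N13252 D48278
theorem N15509 : nd 15509 = n48279 := ndS (p := 13255) (l := 2) rfl N13255 D48279
theorem N15510 : nd 15510 = n48280 := ndS (p := 13255) (l := 9) rfl N13255 D48280
theorem N15511 : nd 15511 = n48281 := ndS (p := 13257) (l := 1) rfl N13257 D48281
theorem N15512 : nd 15512 = n48282 := ndS (p := 13257) (l := 9) rfl N13257 D48282
theorem N15513 : nd 15513 = n48283 := ndS (p := 13258) (l := 9) rfl N13258 D48283
theorem N15514 : nd 15514 = n48284 := ndS (p := 13259) (l := 8) rfl N13259 D48284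
theorem N15515 : nd 15515 = n48285 := ndS (p := 13260) (l := 0) rfl N13260 D48285
theorem N15516 : nd 15516 = n48286 := ndS (p := 13260) (l := 4) rfl N13260 D48286
theorem N15517 : nd 15517 = n48287 := ndS (p := 13260) (l := 9) rfl N13260 D48287
theorem N15518 : nd 15518 = n48288 := ndS (p := 13261) (l := 3) rfl N13261 D48288
theorem N15519 : nd 15519 = n48289 := ndS (p := 13261) (l := 9) rfl N13261 D48289
theorem N15520 : nd 15520 = n48290 := ndS (p := 13262) (l := 8) rfl N13262 D48290
theorem N15521 : nd 15521 = n48291 := ndS (p := 13263) (l := 8) rfl N13263 D48291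
theorem N15522 : nd 15522 = n48292 := ndS (p := 13265) (l := 9) rfl N13265 D48292
theorem N15523 : nd 15523 = n48293 := ndS (p := 13266) (l := 8) rfl N13266 D48293
theorem N15524 : nd 15524 = n48294 := ndS (p := 13268) (l := 9) rfl N13268 D48294
theorem N15525 : nd 15525 = n48295 := ndS (p := 13269) (l := 8) rfl N13269 D48295
theorem N15526 : nd 15526 = n48296 := ndS (p := 13270) (l := 3) rfl N13270 D48296
theorem N15527 : nd 15527 = n48297 := ndS (p := 13271) (l := 8) rfl N13271 D48297
theorem N15528 : nd 15528 = n48298 := ndS (p := 13272) (l := 3) rfl N13272 D48298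
theorem N15529 : nd 15529 = n48299 := ndS (p := 13273) (l := 4) rfl N13273 D48299
theorem N15530 : nd 15530 = n48300 := ndS (p := 13274) (l := 8) rfl N13274 D48300
theorem N15531 : nd 15531 = n48301 := ndS (p := 13275) (l := 0) rfl N13275 D48301
theorem N15532 : nd 15532 = n48302 := ndS (p := 13275) (l := 4) rfl N13275 D48302
theorem N15533 : nd 15533 = n48303 := ndS (p := 13275) (l := 9) rfl N13275 D48303
theorem N15534 : nd 15534 = n48304 := ndS (p := 13276) (l := 9) rfl N13276 D48304
theorem N15535 : nd 15535 = n48305 := ndS (p := 13277) (l := 8) rfl N13277 D48305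
theorem N15536 : nd 15536 = n48306 := ndS (p := 13280) (l := 4) rfl N13280 D48306
theorem N15537 : nd 15537 = n48307 := ndS (p := 13280) (l := 9) rfl N13280 D48307
theorem N15538 : nd 15538 = n48308 := ndS (p := 13281) (l := 3) rfl N13281 D48308
theorem N15539 : nd 15539 = n48309 := ndS (p := 13281) (l := 9) rfl N13281 D48309
theorem N15540 : nd 15540 = n48310 := ndS (p := 13282) (l := 8) rfl N13282 D48310
theorem N15541 : nd 15541 = n48311 := ndS (p := 13283) (l := 9) rfl N13283 D48311
theorem N15542 : nd 15542 = n48312 := ndS (p := 13284) (l := 8) rfl N13284 D48312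
theorem N15543 : nd 15543 = n48313 := ndS (p := 13287) (l := 9) rfl N13287 D48313
theorem N15544 : nd 15544 = n48314 := ndS (p := 13288) (l := 8) rfl N13288 D48314
theorem N15545 : nd 15545 = n48315 := ndS (p := 13290) (l := 8) rfl N13290 D48315
theorem N15546 : nd 15546 = n48316 := ndS (p := 13291) (l := 3) rfl N13291 D48316
theorem N15547 : nd 15547 = n48317 := ndS (p := 13292) (l := 4) rfl N13292 D48317
theorem N15548 : nd 15548 = n48318 := ndS (p := 13293) (l := 3) rfl N13293 D48318
theorem N15549 : nd 15549 = n48319 := ndS (p := 13294) (l := 2) rfl N13294 D48319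
theorem N15550 : nd 15550 = n48320 := ndS (p := 13294) (l := 4) rfl N13294 D48320
theorem N15551 : nd 15551 = n48321 := ndS (p := 13295) (l := 5) rfl N13295 D48321
theorem N15552 : nd 15552 = n48322 := ndS (p := 13296) (l := 8) rfl N13296 D48322
theorem N15553 : nd 15553 = n48323 := ndS (p := 13297) (l := 3) rfl N13297 D48323
theorem N15554 : nd 15554 = n48324 := ndS (p := 13297) (l := 9) rfl N13297 D48324
theorem N15555 : nd 15555 = n48325 := ndS (p := 13298) (l := 4) rfl N13298 D48325
theorem N15556 : nd 15556 = n48326 := ndS (p := 13298) (l := 9) rfl N13298 D48326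
theorem N15557 : nd 15557 = n48327 := ndS (p := 13300) (l := 9) rfl N13300 D48327
theorem N15558 : nd 15558 = n48328 := ndS (p := 13302) (l := 8) rfl N13302 D48328
theorem N15559 : nd 15559 = n48329 := ndS (p := 13304) (l := 9) rfl N13304 D48329
theorem N15560 : nd 15560 = n48330 := ndS (p := 13306) (l := 3) rfl N13306 D48330
theorem N15561 : nd 15561 = n48331 := ndS (p := 13306) (l := 9) rfl N13306 D48331
theorem N15562 : nd 15562 = n48332 := ndS (p := 13307) (l := 8) rfl N13307 D48332
theorem N15563 : nd 15563 = n48333 := ndS (p := 13308) (l := 3) rfl N13308 D48333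
theorem N15564 : nd 15564 = n48334 := ndS (p := 13308) (l := 9) rfl N13308 D48334
theorem N15565 : nd 15565 = n48335 := ndS (p := 13309) (l := 4) rfl N13309 D48335
theorem N15566 : nd 15566 = n48336 := ndS (p := 13309) (l := 9) rfl N13309 D48336
theorem N15567 : nd 15567 = n48337 := ndS (p := 13311) (l := 4) rfl N13311 D48337
theorem N15568 : nd 15568 = n48338 := ndS (p := 13311) (l := 9) rfl N13311 D48338
theorem N15569 : nd 15569 = n48339 := ndS (p := 13313) (l := 5) rfl N13313 D48339
theorem N15570 : nd 15570 = n48340 := ndS (p := 13313) (l := 9) rfl N13313 D48340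
theorem N15571 : nd 15571 = n48341 := ndS (p := 13314) (l := 8) rfl N13314 D48341
theorem N15572 : nd 15572 = n48342 := ndS (p := 13315) (l := 8) rfl N13315 D48342
theorem N15573 : nd 15573 = n48343 := ndS (p := 13317) (l := 3) rfl N13317 D48343
theorem N15574 : nd 15574 = n48344 := ndS (p := 13317) (l := 9) rfl N13317 D48344
theorem N15575 : nd 15575 = n48345 := ndS (p := 13318) (l := 2) rfl N13318 D48345
theorem N15576 : nd 15576 = n48346 := ndS (p := 13318) (l := 4) rfl N13318 D48346
theorem N15577 : nd 15577 = n48347 := ndS (p := 13318) (l := 9) rfl N13318 D48347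
theorem N15578 : nd 15578 = n48348 := ndS (p := 13320) (l := 1) rfl N13320 D48348
theorem N15579 : nd 15579 = n48349 := ndS (p := 13320) (l := 4) rfl N13320 D48349
theorem N15580 : nd 15580 = n48350 := ndS (p := 13320) (l := 9) rfl N13320 D48350
theorem N15581 : nd 15581 = n48351 := ndS (p := 13321) (l := 5) rfl N13321 D48351
theorem N15582 : nd 15582 = n48352 := ndS (p := 13321) (l := 9) rfl N13321 D48352
theorem N15583 : nd 15583 = n48353 := ndS (p := 13322) (l := 8) rfl N13322 D48353
theorem N15584 : nd 15584 = n48354 := ndS (p := 13323) (l := 1) rfl N13323 D48354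
theorem N15585 : nd 15585 = n48355 := ndS (p := 13323) (l := 4) rfl N13323 D48355
theorem N15586 : nd 15586 = n48356 := ndS (p := 13323) (l := 9) rfl N13323 D48356
theorem N15587 : nd 15587 = n48357 := ndS (p := 13324) (l := 5) rfl N13324 D48357
theorem N15588 : nd 15588 = n48358 := ndS (p := 13324) (l := 9) rfl N13324 D48358
theorem N15589 : nd 15589 = n48359 := ndS (p := 13325) (l := 8) rfl N13325 D48359
theorem N15590 : nd 15590 = n48360 := ndS (p := 13326) (l := 4) rfl N13326 D48360
theorem N15591 : nd 15591 = n48361 := ndS (p := 13326) (l := 9) rfl N13326 D48361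
theorem N15592 : nd 15592 = n48362 := ndS (p := 13327) (l := 5) rfl N13327 D48362
theorem N15593 : nd 15593 = n48363 := ndS (p := 13327) (l := 9) rfl N13327 D48363
theorem N15594 : nd 15594 = n48364 := ndS (p := 13328) (l := 8) rfl N13328 D48364
theorem N15595 : nd 15595 = n48365 := ndS (p := 13329) (l := 9) rfl N13329 D48365
theorem N15596 : nd 15596 = n48366 := ndS (p := 13330) (l := 8) rfl N13330 D48366
theorem N15597 : nd 15597 = n48367 := ndS (p := 13332) (l := 9) rfl N13332 D48367
theorem N15598 : nd 15598 = n48368 := ndS (p := 13333) (l := 8) rfl N13333 D48368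
theorem N15599 : nd 15599 = n48369 := ndS (p := 13334) (l := 8) rfl N13334 D48369
theorem N15600 : nd 15600 = n48370 := ndS (p := 13337) (l := 6) rfl N13337 D48370
theorem N15601 : nd 15601 = n48371 := ndS (p := 13337) (l := 9) rfl N13337 D48371
theorem N15602 : nd 15602 = n48372 := ndS (p := 13340) (l := 2) rfl N13340 D48372
theorem N15603 : nd 15603 = n48373 := ndS (p := 13340) (l := 9) rfl N13340 D48373
theorem N15604 : nd 15604 = n48374 := ndS (p := 13342) (l := 1) rfl N13342 D48374
theorem N15605 : nd 15605 = n48375 := ndS (p := 13342) (l := 4) rfl N13342 D48375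
theorem N15606 : nd 15606 = n48376 := ndS (p := 13342) (l := 9) rfl N13342 D48376
theorem N15607 : nd 15607 = n48377 := ndS (p := 13343) (l := 9) rfl N13343 D48377
theorem N15608 : nd 15608 = n48378 := ndS (p := 13345) (l := 0) rfl N13345 D48378
theorem N15609 : nd 15609 = n48379 := ndS (p := 13345) (l := 4) rfl N13345 D48379
theorem N15610 : nd 15610 = n48380 := ndS (p := 13345) (l := 9) rfl N13345 D48380
theorem N15611 : nd 15611 = n48381 := ndS (p := 13346) (l := 3) rfl N13346 D48381
theorem N15612 : nd 15612 = n48382 := ndS (p := 13346) (l := 9) rfl N13346 D48382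
theorem N15613 : nd 15613 = n48383 := ndS (p := 13349) (l := 0) rfl N13349 D48383
theorem N15614 : nd 15614 = n48384 := ndS (p := 13349) (l := 9) rfl N13349 D48384
theorem N15615 : nd 15615 = n48385 := ndS (p := 13351) (l := 9) rfl N13351 D48385
theorem N15616 : nd 15616 = n48386 := ndS (p := 13355) (l := 9) rfl N13355 D48386
theorem N15617 : nd 15617 = n48387 := ndS (p := 13359) (l := 9) rfl N13359 D48387
theorem N15618 : nd 15618 = n48388 := ndS (p := 13360) (l := 9) rfl N13360 D48388
theorem N15619 : nd 15619 = n48389 := ndS (p := 13361) (l := 8) rfl N13361 D48389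
theorem N15620 : nd 15620 = n48390 := ndS (p := 13365) (l := 9) rfl N13365 D48390
theorem N15621 : nd 15621 = n48391 := ndS (p := 13366) (l := 8) rfl N13366 D48391
theorem N15622 : nd 15622 = n48392 := ndS (p := 13368) (l := 8) rfl N13368 D48392
theorem N15623 : nd 15623 = n48393 := ndS (p := 13369) (l := 3) rfl N13369 D48393
theorem N15624 : nd 15624 = n48394 := ndS (p := 13374) (l := 9) rfl N13374 D48394
theorem N15625 : nd 15625 = n48395 := ndS (p := 13375) (l := 9) rfl N13375 D48395
theorem N15626 : nd 15626 = n48396 := ndS (p := 13378) (l := 3) rfl N13378 D48396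
theorem N15627 : nd 15627 = n48397 := ndS (p := 13378) (l := 9) rfl N13378 D48397
theorem N15628 : nd 15628 = n48398 := ndS (p := 13380) (l := 3) rfl N13380 D48398
theorem N15629 : nd 15629 = n48399 := ndS (p := 13380) (l := 9) rfl N13380 D48399
theorem N15630 : nd 15630 = n48400 := ndS (p := 13381) (l := 4) rfl N13381 D48400
theorem N15631 : nd 15631 = n48401 := ndS (p := 13381) (l := 9) rfl N13381 D48401
theorem N15632 : nd 15632 = n48402 := ndS (p := 13383) (l := 9) rfl N13383 D48402
theorem N15633 : nd 15633 = n48403 := ndS (p := 13385) (l := 8) rfl N13385 D48403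
theorem N15634 : nd 15634 = n48404 := ndS (p := 13387) (l := 3) rfl N13387 D48404
theorem N15635 : nd 15635 = n48405 := ndS (p := 13387) (l := 9) rfl N13387 D48405
theorem N15636 : nd 15636 = n48406 := ndS (p := 13388) (l := 2) rfl N13388 D48406
theorem N15637 : nd 15637 = n48407 := ndS (p := 13388) (l := 4) rfl N13388 D48407
theorem N15638 : nd 15638 = n48408 := ndS (p := 13388) (l := 9) rfl N13388 D48408
theorem N15639 : nd 15639 = n48409 := ndS (p := 13390) (l := 1) rfl N13390 D48409
theorem N15640 : nd 15640 = n48410 := ndS (p := 13390) (l := 4) rfl N13390 D48410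
theorem N15641 : nd 15641 = n48411 := ndS (p := 13390) (l := 9) rfl N13390 D48411
theorem N15642 : nd 15642 = n48412 := ndS (p := 13391) (l := 9) rfl N13391 D48412
theorem N15643 : nd 15643 = n48413 := ndS (p := 13392) (l := 8) rfl N13392 D48413
theorem N15644 : nd 15644 = n48414 := ndS (p := 13393) (l := 1) rfl N13393 D48414
theorem N15645 : nd 15645 = n48415 := ndS (p := 13393) (l := 9) rfl N13393 D48415
theorem N15646 : nd 15646 = n48416 := ndS (p := 13394) (l := 8) rfl N13394 D48416
theorem N15647 : nd 15647 = n48417 := ndS (p := 13395) (l := 0) rfl N13395 D48417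
theorem N15648 : nd 15648 = n48418 := ndS (p := 13395) (l := 9) rfl N13395 D48418
theorem N15649 : nd 15649 = n48419 := ndS (p := 13396) (l := 8) rfl N13396 D48419
theorem N15650 : nd 15650 = n48420 := ndS (p := 13398) (l := 9) rfl N13398 D48420
theorem N15651 : nd 15651 = n48421 := ndS (p := 13399) (l := 8) rfl N13399 D48421
theorem N15652 : nd 15652 = n48422 := ndS (p := 13401) (l := 2) rfl N13401 D48422
theorem N15653 : nd 15653 = n48423 := ndS (p := 13401) (l := 9) rfl N13401 D48423
theorem N15654 : nd 15654 = n48424 := ndS (p := 13403) (l := 1) rfl N13403 D48424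
theorem N15655 : nd 15655 = n48425 := ndS (p := 13403) (l := 4) rfl N13403 D48425
theorem N15656 : nd 15656 = n48426 := ndS (p := 13403) (l := 9) rfl N13403 D48426
theorem N15657 : nd 15657 = n48427 := ndS (p := 13404) (l := 9) rfl N13404 D48427
theorem N15658 : nd 15658 = n48428 := ndS (p := 13406) (l := 0) rfl N13406 D48428
theorem N15659 : nd 15659 = n48429 := ndS (p := 13406) (l := 4) rfl N13406 D48429
theorem N15660 : nd 15660 = n48430 := ndS (p := 13406) (l := 9) rfl N13406 D48430
theorem N15661 : nd 15661 = n48431 := ndS (p := 13407) (l := 3) rfl N13407 D48431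
theorem N15662 : nd 15662 = n48432 := ndS (p := 13407) (l := 9) rfl N13407 D48432
theorem N15663 : nd 15663 = n48433 := ndS (p := 13410) (l := 0) rfl N13410 D48433
theorem N15664 : nd 15664 = n48434 := ndS (p := 13410) (l := 9) rfl N13410 D48434
theorem N15665 : nd 15665 = n48435 := ndS (p := 13412) (l := 9) rfl N13412 D48435
theorem N15666 : nd 15666 = n48436 := ndS (p := 13416) (l := 9) rfl N13416 D48436
theorem N15667 : nd 15667 = n48437 := ndS (p := 13417) (l := 2) rfl N13417 D48437
theorem N15668 : nd 15668 = n48438 := ndS (p := 13417) (l := 4) rfl N13417 D48438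
theorem N15669 : nd 15669 = n48439 := ndS (p := 13417) (l := 9) rfl N13417 D48439
theorem N15670 : nd 15670 = n48440 := ndS (p := 13419) (l := 3) rfl N13419 D48440
theorem N15671 : nd 15671 = n48441 := ndS (p := 13419) (l := 9) rfl N13419 D48441
theorem N15672 : nd 15672 = n48442 := ndS (p := 13420) (l := 2) rfl N13420 D48442
theorem N15673 : nd 15673 = n48443 := ndS (p := 13420) (l := 4) rfl N13420 D48443
theorem N15674 : nd 15674 = n48444 := ndS (p := 13420) (l := 9) rfl N13420 D48444
theorem N15675 : nd 15675 = n48445 := ndS (p := 13422) (l := 1) rfl N13422 D48445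
theorem N15676 : nd 15676 = n48446 := ndS (p := 13422) (l := 4) rfl N13422 D48446
theorem N15677 : nd 15677 = n48447 := ndS (p := 13422) (l := 9) rfl N13422 D48447
theorem N15678 : nd 15678 = n48448 := ndS (p := 13423) (l := 5) rfl N13423 D48448
theorem N15679 : nd 15679 = n48449 := ndS (p := 13423) (l := 9) rfl N13423 D48449
theorem N15680 : nd 15680 = n48450 := ndS (p := 13424) (l := 8) rfl N13424 D48450
theorem N15681 : nd 15681 = n48451 := ndS (p := 13425) (l := 1) rfl N13425 D48451
theorem N15682 : nd 15682 = n48452 := ndS (p := 13425) (l := 4) rfl N13425 D48452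
theorem N15683 : nd 15683 = n48453 := ndS (p := 13425) (l := 9) rfl N13425 D48453
theorem N15684 : nd 15684 = n48454 := ndS (p := 13426) (l := 9) rfl N13426 D48454
theorem N15685 : nd 15685 = n48455 := ndS (p := 13427) (l := 8) rfl N13427 D48455
theorem N15686 : nd 15686 = n48456 := ndS (p := 13428) (l := 0) rfl N13428 D48456
theorem N15687 : nd 15687 = n48457 := ndS (p := 13428) (l := 4) rfl N13428 D48457
theorem N15688 : nd 15688 = n48458 := ndS (p := 13428) (l := 9) rfl N13428 D48458
theorem N15689 : nd 15689 = n48459 := ndS (p := 13429) (l := 5) rfl N13429 D48459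
theorem N15690 : nd 15690 = n48460 := ndS (p := 13429) (l := 9) rfl N13429 D48460
theorem N15691 : nd 15691 = n48461 := ndS (p := 13430) (l := 8) rfl N13430 D48461
theorem N15692 : nd 15692 = n48462 := ndS (p := 13431) (l := 6) rfl N13431 D48462
theorem N15693 : nd 15693 = n48463 := ndS (p := 13431) (l := 9) rfl N13431 D48463
theorem N15694 : nd 15694 = n48464 := ndS (p := 13432) (l := 8) rfl N13432 D48464
theorem N15695 : nd 15695 = n48465 := ndS (p := 13434) (l := 9) rfl N13434 D48465
theorem N15696 : nd 15696 = n48466 := ndS (p := 13435) (l := 9) rfl N13435 D48466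
theorem N15697 : nd 15697 = n48467 := ndS (p := 13436) (l := 8) rfl N13436 D48467
theorem N15698 : nd 15698 = n48468 := ndS (p := 13437) (l := 6) rfl N13437 D48468
theorem N15699 : nd 15699 = n48469 := ndS (p := 13437) (l := 9) rfl N13437 D48469
theorem N15700 : nd 15700 = n48470 := ndS (p := 13438) (l := 8) rfl N13438 D48470
theorem N15701 : nd 15701 = n48471 := ndS (p := 13440) (l := 7) rfl N13440 D48471
theorem N15702 : nd 15702 = n48472 := ndS (p := 13440) (l := 9) rfl N13440 D48472
theorem N15703 : nd 15703 = n48473 := ndS (p := 13441) (l := 8) rfl N13441 D48473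
theorem N15704 : nd 15704 = n48474 := ndS (p := 13443) (l := 2) rfl N13443 D48474
theorem N15705 : nd 15705 = n48475 := ndS (p := 13443) (l := 4) rfl N13443 D48475
theorem N15706 : nd 15706 = n48476 := ndS (p := 13443) (l := 9) rfl N13443 D48476
theorem N15707 : nd 15707 = n48477 := ndS (p := 13445) (l := 1) rfl N13445 D48477
theorem N15708 : nd 15708 = n48478 := ndS (p := 13445) (l := 4) rfl N13445 D48478
theorem N15709 : nd 15709 = n48479 := ndS (p := 13445) (l := 9) rfl N13445 D48479
theorem N15710 : nd 15710 = n48480 := ndS (p := 13446) (l := 5) rfl N13446 D48480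
theorem N15711 : nd 15711 = n48481 := ndS (p := 13446) (l := 9) rfl N13446 D48481
theorem N15712 : nd 15712 = n48482 := ndS (p := 13447) (l := 8) rfl N13447 D48482
theorem N15713 : nd 15713 = n48483 := ndS (p := 13448) (l := 0) rfl N13448 D48483
theorem N15714 : nd 15714 = n48484 := ndS (p := 13448) (l := 4) rfl N13448 D48484
theorem N15715 : nd 15715 = n48485 := ndS (p := 13448) (l := 9) rfl N13448 D48485
theorem N15716 : nd 15716 = n48486 := ndS (p := 13449) (l := 3) rfl N13449 D48486
theorem N15717 : nd 15717 = n48487 := ndS (p := 13449) (l := 5) rfl N13449 D48487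
theorem N15718 : nd 15718 = n48488 := ndS (p := 13449) (l := 9) rfl N13449 D48488
theorem N15719 : nd 15719 = n48489 := ndS (p := 13450) (l := 8) rfl N13450 D48489
theorem N15720 : nd 15720 = n48490 := ndS (p := 13451) (l := 6) rfl N13451 D48490
theorem N15721 : nd 15721 = n48491 := ndS (p := 13451) (l := 9) rfl N13451 D48491
theorem N15722 : nd 15722 = n48492 := ndS (p := 13452) (l := 8) rfl N13452 D48492
theorem N15723 : nd 15723 = n48493 := ndS (p := 13454) (l := 0) rfl N13454 D48493
theorem N15724 : nd 15724 = n48494 := ndS (p := 13454) (l := 4) rfl N13454 D48494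
theorem N15725 : nd 15725 = n48495 := ndS (p := 13454) (l := 9) rfl N13454 D48495
theorem N15726 : nd 15726 = n48496 := ndS (p := 13455) (l := 5) rfl N13455 D48496
theorem N15727 : nd 15727 = n48497 := ndS (p := 13455) (l := 9) rfl N13455 D48497
theorem N15728 : nd 15728 = n48498 := ndS (p := 13456) (l := 8) rfl N13456 D48498
theorem N15729 : nd 15729 = n48499 := ndS (p := 13457) (l := 6) rfl N13457 D48499
theorem N15730 : nd 15730 = n48500 := ndS (p := 13457) (l := 9) rfl N13457 D48500
theorem N15731 : nd 15731 = n48501 := ndS (p := 13458) (l := 8) rfl N13458 D48501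
theorem N15732 : nd 15732 = n48502 := ndS (p := 13460) (l := 4) rfl N13460 D48502
theorem N15733 : nd 15733 = n48503 := ndS (p := 13460) (l := 9) rfl N13460 D48503
theorem N15734 : nd 15734 = n48504 := ndS (p := 13461) (l := 5) rfl N13461 D48504
theorem N15735 : nd 15735 = n48505 := ndS (p := 13461) (l := 9) rfl N13461 D48505
theorem N15736 : nd 15736 = n48506 := ndS (p := 13462) (l := 8) rfl N13462 D48506
theorem N15737 : nd 15737 = n48507 := ndS (p := 13463) (l := 6) rfl N13463 D48507
theorem N15738 : nd 15738 = n48508 := ndS (p := 13463) (l := 9) rfl N13463 D48508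
theorem N15739 : nd 15739 = n48509 := ndS (p := 13464) (l := 8) rfl N13464 D48509
theorem N15740 : nd 15740 = n48510 := ndS (p := 13465) (l := 3) rfl N13465 D48510
theorem N15741 : nd 15741 = n48511 := ndS (p := 13466) (l := 7) rfl N13466 D48511
theorem N15742 : nd 15742 = n48512 := ndS (p := 13466) (l := 9) rfl N13466 D48512
theorem N15743 : nd 15743 = n48513 := ndS (p := 13467) (l := 8) rfl N13467 D48513
theorem N15744 : nd 15744 = n48514 := ndS (p := 13469) (l := 9) rfl N13469 D48514
theorem N15745 : nd 15745 = n48515 := ndS (p := 13470) (l := 8) rfl N13470 D48515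
theorem N15746 : nd 15746 = n48516 := ndS (p := 13471) (l := 6) rfl N13471 D48516
theorem N15747 : nd 15747 = n48517 := ndS (p := 13471) (l := 9) rfl N13471 D48517
theorem N15748 : nd 15748 = n48518 := ndS (p := 13472) (l := 8) rfl N13472 D48518
theorem N15749 : nd 15749 = n48519 := ndS (p := 13473) (l := 3) rfl N13473 D48519
theorem N15750 : nd 15750 = n48520 := ndS (p := 13474) (l := 7) rfl N13474 D48520
theorem N15751 : nd 15751 = n48521 := ndS (p := 13474) (l := 9) rfl N13474 D48521
theorem N15752 : nd 15752 = n48522 := ndS (p := 13475) (l := 8) rfl N13475 D48522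
theorem N15753 : nd 15753 = n48523 := ndS (p := 13476) (l := 3) rfl N13476 D48523
theorem N15754 : nd 15754 = n48524 := ndS (p := 13477) (l := 4) rfl N13477 D48524
theorem N15755 : nd 15755 = n48525 := ndS (p := 13478) (l := 9) rfl N13478 D48525
theorem N15756 : nd 15756 = n48526 := ndS (p := 13479) (l := 8) rfl N13479 D48526
theorem N15757 : nd 15757 = n48527 := ndS (p := 13481) (l := 7) rfl N13481 D48527
theorem N15758 : nd 15758 = n48528 := ndS (p := 13481) (l := 9) rfl N13481 D48528
theorem N15759 : nd 15759 = n48529 := ndS (p := 13483) (l := 9) rfl N13483 D48529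
theorem N15760 : nd 15760 = n48530 := ndS (p := 13486) (l := 9) rfl N13486 D48530
theorem N15761 : nd 15761 = n48531 := ndS (p := 13488) (l := 9) rfl N13488 D48531
theorem N15762 : nd 15762 = n48532 := ndS (p := 13489) (l := 3) rfl N13489 D48532
theorem N15763 : nd 15763 = n48533 := ndS (p := 13489) (l := 9) rfl N13489 D48533
theorem N15764 : nd 15764 = n48534 := ndS (p := 13490) (l := 8) rfl N13490 D48534
theorem N15765 : nd 15765 = n48535 := ndS (p := 13493) (l := 9) rfl N13493 D48535
theorem N15766 : nd 15766 = n48536 := ndS (p := 13494) (l := 3) rfl N13494 D48536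
theorem N15767 : nd 15767 = n48537 := ndS (p := 13496) (l := 8) rfl N13496 D48537
theorem N15768 : nd 15768 = n48538 := ndS (p := 13496) (l := 9) rfl N13496 D48538
theorem N15769 : nd 15769 = n48539 := ndS (p := 13498) (l := 3) rfl N13498 D48539
theorem N15770 : nd 15770 = n48540 := ndS (p := 13500) (l := 9) rfl N13500 D48540
theorem N15771 : nd 15771 = n48541 := ndS (p := 13502) (l := 3) rfl N13502 D48541
theorem N15772 : nd 15772 = n48542 := ndS (p := 13503) (l := 8) rfl N13503 D48542
theorem N15773 : nd 15773 = n48543 := ndS (p := 13504) (l := 3) rfl N13504 D48543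
theorem N15774 : nd 15774 = n48544 := ndS (p := 13505) (l := 4) rfl N13505 D48544
theorem N15775 : nd 15775 = n48545 := ndS (p := 13513) (l := 8) rfl N13513 D48545
theorem N15776 : nd 15776 = n48546 := ndS (p := 13514) (l := 9) rfl N13514 D48546
theorem N15777 : nd 15777 = n48547 := ndS (p := 13515) (l := 9) rfl N13515 D48547
theorem N15778 : nd 15778 = n48548 := ndS (p := 13517) (l := 9) rfl N13517 D48548
theorem N15779 : nd 15779 = n48549 := ndS (p := 13525) (l := 8) rfl N13525 D48549
theorem N15780 : nd 15780 = n48550 := ndS (p := 13529) (l := 2) rfl N13529 D48550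
theorem N15781 : nd 15781 = n48551 := ndS (p := 13529) (l := 9) rfl N13529 D48551
theorem N15782 : nd 15782 = n48552 := ndS (p := 13537) (l := 8) rfl N13537 D48552
theorem N15783 : nd 15783 = n48553 := ndS (p := 13539) (l := 2) rfl N13539 D48553
theorem N15784 : nd 15784 = n48554 := ndS (p := 13539) (l := 4) rfl N13539 D48554
theorem N15785 : nd 15785 = n48555 := ndS (p := 13539) (l := 9) rfl N13539 D48555
theorem N15786 : nd 15786 = n48556 := ndS (p := 13541) (l := 1) rfl N13541 D48556
theorem N15787 : nd 15787 = n48557 := ndS (p := 13541) (l := 4) rfl N13541 D48557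
theorem N15788 : nd 15788 = n48558 := ndS (p := 13541) (l := 9) rfl N13541 D48558
theorem N15789 : nd 15789 = n48559 := ndS (p := 13542) (l := 9) rfl N13542 D48559
theorem N15790 : nd 15790 = n48560 := ndS (p := 13543) (l := 8) rfl N13543 D48560
theorem N15791 : nd 15791 = n48561 := ndS (p := 13544) (l := 2) rfl N13544 D48561
theorem N15792 : nd 15792 = n48562 := ndS (p := 13544) (l := 9) rfl N13544 D48562
theorem N15793 : nd 15793 = n48563 := ndS (p := 13546) (l := 1) rfl N13546 D48563
theorem N15794 : nd 15794 = n48564 := ndS (p := 13546) (l := 4) rfl N13546 D48564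
theorem N15795 : nd 15795 = n48565 := ndS (p := 13546) (l := 9) rfl N13546 D48565
theorem N15796 : nd 15796 = n48566 := ndS (p := 13547) (l := 9) rfl N13547 D48566
theorem N15797 : nd 15797 = n48567 := ndS (p := 13549) (l := 0) rfl N13549 D48567
theorem N15798 : nd 15798 = n48568 := ndS (p := 13549) (l := 4) rfl N13549 D48568
theorem N15799 : nd 15799 = n48569 := ndS (p := 13549) (l := 9) rfl N13549 D48569
theorem N15800 : nd 15800 = n48570 := ndS (p := 13550) (l := 3) rfl N13550 D48570
theorem N15801 : nd 15801 = n48571 := ndS (p := 13550) (l := 9) rfl N13550 D48571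
theorem N15802 : nd 15802 = n48572 := ndS (p := 13553) (l := 0) rfl N13553 D48572
theorem N15803 : nd 15803 = n48573 := ndS (p := 13553) (l := 9) rfl N13553 D48573
theorem N15804 : nd 15804 = n48574 := ndS (p := 13555) (l := 9) rfl N13555 D48574
theorem N15805 : nd 15805 = n48575 := ndS (p := 13563) (l := 8) rfl N13563 D48575
theorem N15806 : nd 15806 = n48576 := ndS (p := 13565) (l := 9) rfl N13565 D48576
theorem N15807 : nd 15807 = n48577 := ndS (p := 13566) (l := 4) rfl N13566 D48577
theorem N15808 : nd 15808 = n48578 := ndS (p := 13567) (l := 4) rfl N13567 D48578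
theorem N15809 : nd 15809 = n48579 := ndS (p := 13570) (l := 5) rfl N13570 D48579
theorem N15810 : nd 15810 = n48580 := ndS (p := 13572) (l := 3) rfl N13572 D48580
theorem N15811 : nd 15811 = n48581 := ndS (p := 13573) (l := 9) rfl N13573 D48581
theorem N15812 : nd 15812 = n48582 := ndS (p := 13575) (l := 9) rfl N13575 D48582
theorem N15813 : nd 15813 = n48583 := ndS (p := 13580) (l := 8) rfl N13580 D48583
theorem N15814 : nd 15814 = n48584 := ndS (p := 13583) (l := 8) rfl N13583 D48584
theorem N15815 : nd 15815 = n48585 := ndS (p := 13585) (l := 8) rfl N13585 D48585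
theorem N15816 : nd 15816 = n48586 := ndS (p := 13586) (l := 3) rfl N13586 D48586
theorem N15817 : nd 15817 = n48587 := ndS (p := 13587) (l := 4) rfl N13587 D48587
theorem N15818 : nd 15818 = n48588 := ndS (p := 13588) (l := 8) rfl N13588 D48588
theorem N15819 : nd 15819 = n48589 := ndS (p := 13591) (l := 8) rfl N13591 D48589
theorem N15820 : nd 15820 = n48590 := ndS (p := 13592) (l := 8) rfl N13592 D48590
theorem N15821 : nd 15821 = n48591 := ndS (p := 13593) (l := 3) rfl N13593 D48591
theorem N15822 : nd 15822 = n48592 := ndS (p := 13594) (l := 3) rfl N13594 D48592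
theorem N15823 : nd 15823 = n48593 := ndS (p := 13595) (l := 8) rfl N13595 D48593
theorem N15824 : nd 15824 = n48594 := ndS (p := 13596) (l := 3) rfl N13596 D48594
theorem N15825 : nd 15825 = n48595 := ndS (p := 13597) (l := 8) rfl N13597 D48595
theorem N15826 : nd 15826 = n48596 := ndS (p := 13598) (l := 3) rfl N13598 D48596
theorem N15827 : nd 15827 = n48597 := ndS (p := 13599) (l := 4) rfl N13599 D48597
theorem N15828 : nd 15828 = n48598 := ndS (p := 13600) (l := 3) rfl N13600 D48598
theorem N15829 : nd 15829 = n48599 := ndS (p := 13601) (l := 2) rfl N13601 D48599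
theorem N15830 : nd 15830 = n48600 := ndS (p := 13601) (l := 4) rfl N13601 D48600
theorem N15831 : nd 15831 = n48601 := ndS (p := 13603) (l := 3) rfl N13603 D48601
theorem N15832 : nd 15832 = n48602 := ndS (p := 13604) (l := 8) rfl N13604 D48602
theorem N15833 : nd 15833 = n48603 := ndS (p := 13607) (l := 3) rfl N13607 D48603
theorem N15834 : nd 15834 = n48604 := ndS (p := 13608) (l := 8) rfl N13608 D48604
theorem N15835 : nd 15835 = n48605 := ndS (p := 13609) (l := 3) rfl N13609 D48605
theorem N15836 : nd 15836 = n48606 := ndS (p := 13610) (l := 4) rfl N13610 D48606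
theorem N15837 : nd 15837 = n48607 := ndS (p := 13617) (l := 5) rfl N13617 D48607
theorem N15838 : nd 15838 = n48608 := ndS (p := 13617) (l := 9) rfl N13617 D48608
theorem N15839 : nd 15839 = n48609 := ndS (p := 13619) (l := 6) rfl N13619 D48609
theorem N15840 : nd 15840 = n48610 := ndS (p := 13619) (l := 9) rfl N13619 D48610
theorem N15841 : nd 15841 = n48611 := ndS (p := 13621) (l := 9) rfl N13621 D48611
theorem N15842 : nd 15842 = n48612 := ndS (p := 13622) (l := 8) rfl N13622 D48612
theorem N15843 : nd 15843 = n48613 := ndS (p := 13624) (l := 5) rfl N13624 D48613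
theorem N15844 : nd 15844 = n48614 := ndS (p := 13624) (l := 9) rfl N13624 D48614
theorem N15845 : nd 15845 = n48615 := ndS (p := 13625) (l := 8) rfl N13625 D48615
theorem N15846 : nd 15846 = n48616 := ndS (p := 13626) (l := 9) rfl N13626 D48616
theorem N15847 : nd 15847 = n48617 := ndS (p := 13627) (l := 8) rfl N13627 D48617
theorem N15848 : nd 15848 = n48618 := ndS (p := 13628) (l := 3) rfl N13628 D48618
theorem N15849 : nd 15849 = n48619 := ndS (p := 13629) (l := 9) rfl N13629 D48619
theorem N15850 : nd 15850 = n48620 := ndS (p := 13630) (l := 8) rfl N13630 D48620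
theorem N15851 : nd 15851 = n48621 := ndS (p := 13631) (l := 3) rfl N13631 D48621
theorem N15852 : nd 15852 = n48622 := ndS (p := 13632) (l := 4) rfl N13632 D48622
theorem N15853 : nd 15853 = n48623 := ndS (p := 13640) (l := 3) rfl N13640 D48623
theorem N15854 : nd 15854 = n48624 := ndS (p := 13640) (l := 9) rfl N13640 D48624
theorem N15855 : nd 15855 = n48625 := ndS (p := 13641) (l := 8) rfl N13641 D48625
theorem N15856 : nd 15856 = n48626 := ndS (p := 13642) (l := 8) rfl N13642 D48626
theorem N15857 : nd 15857 = n48627 := ndS (p := 13642) (l := 9) rfl N13642 D48627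
theorem N15858 : nd 15858 = n48628 := ndS (p := 13643) (l := 8) rfl N13643 D48628
theorem N15859 : nd 15859 = n48629 := ndS (p := 13646) (l := 8) rfl N13646 D48629
theorem N15860 : nd 15860 = n48630 := ndS (p := 13648) (l := 8) rfl N13648 D48630
theorem N15861 : nd 15861 = n48631 := ndS (p := 13649) (l := 3) rfl N13649 D48631
theorem N15862 : nd 15862 = n48632 := ndS (p := 13650) (l := 4) rfl N13650 D48632
theorem N15863 : nd 15863 = n48633 := ndS (p := 13651) (l := 3) rfl N13651 D48633
theorem N15864 : nd 15864 = n48634 := ndS (p := 13652) (l := 2) rfl N13652 D48634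
theorem N15865 : nd 15865 = n48635 := ndS (p := 13652) (l := 4) rfl N13652 D48635
theorem N15866 : nd 15866 = n48636 := ndS (p := 13653) (l := 5) rfl N13653 D48636
theorem N15867 : nd 15867 = n48637 := ndS (p := 13654) (l := 8) rfl N13654 D48637
theorem N15868 : nd 15868 = n48638 := ndS (p := 13655) (l := 3) rfl N13655 D48638
theorem N15869 : nd 15869 = n48639 := ndS (p := 13656) (l := 9) rfl N13656 D48639
theorem N15870 : nd 15870 = n48640 := ndS (p := 13657) (l := 8) rfl N13657 D48640
theorem N15871 : nd 15871 = n48641 := ndS (p := 13658) (l := 8) rfl N13658 D48641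
theorem N15872 : nd 15872 = n48642 := ndS (p := 13659) (l := 3) rfl N13659 D48642
theorem N15873 : nd 15873 = n48643 := ndS (p := 13661) (l := 4) rfl N13661 D48643
theorem N15874 : nd 15874 = n48644 := ndS (p := 13662) (l := 8) rfl N13662 D48644
theorem N15875 : nd 15875 = n48645 := ndS (p := 13663) (l := 3) rfl N13663 D48645
theorem N15876 : nd 15876 = n48646 := ndS (p := 13664) (l := 4) rfl N13664 D48646
theorem N15877 : nd 15877 = n48647 := ndS (p := 13665) (l := 3) rfl N13665 D48647
theorem N15878 : nd 15878 = n48648 := ndS (p := 13666) (l := 2) rfl N13666 D48648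
theorem N15879 : nd 15879 = n48649 := ndS (p := 13666) (l := 4) rfl N13666 D48649
theorem N15880 : nd 15880 = n48650 := ndS (p := 13667) (l := 5) rfl N13667 D48650
theorem N15881 : nd 15881 = n48651 := ndS (p := 13668) (l := 2) rfl N13668 D48651
theorem N15882 : nd 15882 = n48652 := ndS (p := 13668) (l := 4) rfl N13668 D48652
theorem N15883 : nd 15883 = n48653 := ndS (p := 13669) (l := 4) rfl N13669 D48653
theorem N15884 : nd 15884 = n48654 := ndS (p := 13670) (l := 5) rfl N13670 D48654
theorem N15885 : nd 15885 = n48655 := ndS (p := 13671) (l := 6) rfl N13671 D48655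
theorem N15886 : nd 15886 = n48656 := ndS (p := 13672) (l := 0) rfl N13672 D48656
theorem N15887 : nd 15887 = n48657 := ndS (p := 13672) (l := 9) rfl N13672 D48657
theorem N15888 : nd 15888 = n48658 := ndS (p := 13673) (l := 8) rfl N13673 D48658
theorem N15889 : nd 15889 = n48659 := ndS (p := 13675) (l := 0) rfl N13675 D48659
theorem N15890 : nd 15890 = n48660 := ndS (p := 13675) (l := 9) rfl N13675 D48660
theorem N15891 : nd 15891 = n48661 := ndS (p := 13676) (l := 8) rfl N13676 D48661
theorem N15892 : nd 15892 = n48662 := ndS (p := 13678) (l := 9) rfl N13678 D48662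
theorem N15893 : nd 15893 = n48663 := ndS (p := 13679) (l := 8) rfl N13679 D48663
theorem N15894 : nd 15894 = n48664 := ndS (p := 13680) (l := 3) rfl N13680 D48664
theorem N15895 : nd 15895 = n48665 := ndS (p := 13681) (l := 8) rfl N13681 D48665
theorem N15896 : nd 15896 = n48666 := ndS (p := 13682) (l := 3) rfl N13682 D48666
theorem N15897 : nd 15897 = n48667 := ndS (p := 13683) (l := 4) rfl N13683 D48667
theorem N15898 : nd 15898 = n48668 := ndS (p := 13684) (l := 9) rfl N13684 D48668
theorem N15899 : nd 15899 = n48669 := ndS (p := 13686) (l := 9) rfl N13686 D48669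
theorem N15900 : nd 15900 = n48670 := ndS (p := 13687) (l := 3) rfl N13687 D48670
theorem N15901 : nd 15901 = n48671 := ndS (p := 13687) (l := 9) rfl N13687 D48671
theorem N15902 : nd 15902 = n48672 := ndS (p := 13688) (l := 8) rfl N13688 D48672
theorem N15903 : nd 15903 = n48673 := ndS (p := 13689) (l := 8) rfl N13689 D48673
theorem N15904 : nd 15904 = n48674 := ndS (p := 13689) (l := 9) rfl N13689 D48674
theorem N15905 : nd 15905 = n48675 := ndS (p := 13691) (l := 3) rfl N13691 D48675
theorem N15906 : nd 15906 = n48676 := ndS (p := 13694) (l := 3) rfl N13694 D48676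
theorem N15907 : nd 15907 = n48677 := ndS (p := 13696) (l := 3) rfl N13696 D48677
theorem N15908 : nd 15908 = n48678 := ndS (p := 13697) (l := 4) rfl N13697 D48678
theorem N15909 : nd 15909 = n48679 := ndS (p := 13701) (l := 8) rfl N13701 D48679
theorem N15910 : nd 15910 = n48680 := ndS (p := 13703) (l := 4) rfl N13703 D48680
theorem N15911 : nd 15911 = n48681 := ndS (p := 13704) (l := 5) rfl N13704 D48681
theorem N15912 : nd 15912 = n48682 := ndS (p := 13704) (l := 9) rfl N13704 D48682
theorem N15913 : nd 15913 = n48683 := ndS (p := 13705) (l := 8) rfl N13705 D48683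
theorem N15914 : nd 15914 = n48684 := ndS (p := 13706) (l := 5) rfl N13706 D48684
theorem N15915 : nd 15915 = n48685 := ndS (p := 13706) (l := 8) rfl N13706 D48685
theorem N15916 : nd 15916 = n48686 := ndS (p := 13706) (l := 9) rfl N13706 D48686
theorem N15917 : nd 15917 = n48687 := ndS (p := 13707) (l := 6) rfl N13707 D48687
theorem N15918 : nd 15918 = n48688 := ndS (p := 13707) (l := 9) rfl N13707 D48688
theorem N15919 : nd 15919 = n48689 := ndS (p := 13708) (l := 8) rfl N13708 D48689
theorem N15920 : nd 15920 = n48690 := ndS (p := 13709) (l := 3) rfl N13709 D48690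
theorem N15921 : nd 15921 = n48691 := ndS (p := 13710) (l := 9) rfl N13710 D48691
theorem N15922 : nd 15922 = n48692 := ndS (p := 13711) (l := 8) rfl N13711 D48692
theorem N15923 : nd 15923 = n48693 := ndS (p := 13712) (l := 3) rfl N13712 D48693
theorem N15924 : nd 15924 = n48694 := ndS (p := 13713) (l := 4) rfl N13713 D48694
theorem N15925 : nd 15925 = n48695 := ndS (p := 13714) (l := 5) rfl N13714 D48695
theorem N15926 : nd 15926 = n48696 := ndS (p := 13714) (l := 9) rfl N13714 D48696
theorem N15927 : nd 15927 = n48697 := ndS (p := 13716) (l := 9) rfl N13716 D48697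
theorem N15928 : nd 15928 = n48698 := ndS (p := 13717) (l := 8) rfl N13717 D48698
theorem N15929 : nd 15929 = n48699 := ndS (p := 13719) (l := 8) rfl N13719 D48699
theorem N15930 : nd 15930 = n48700 := ndS (p := 13721) (l := 5) rfl N13721 D48700
theorem N15931 : nd 15931 = n48701 := ndS (p := 13721) (l := 9) rfl N13721 D48701
theorem N15932 : nd 15932 = n48702 := ndS (p := 13722) (l := 8) rfl N13722 D48702
theorem N15933 : nd 15933 = n48703 := ndS (p := 13723) (l := 6) rfl N13723 D48703
theorem N15934 : nd 15934 = n48704 := ndS (p := 13723) (l := 9) rfl N13723 D48704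
theorem N15935 : nd 15935 = n48705 := ndS (p := 13724) (l := 8) rfl N13724 D48705
theorem N15936 : nd 15936 = n48706 := ndS (p := 13726) (l := 7) rfl N13726 D48706
theorem N15937 : nd 15937 = n48707 := ndS (p := 13726) (l := 9) rfl N13726 D48707
theorem N15938 : nd 15938 = n48708 := ndS (p := 13727) (l := 8) rfl N13727 D48708
theorem N15939 : nd 15939 = n48709 := ndS (p := 13728) (l := 3) rfl N13728 D48709
theorem N15940 : nd 15940 = n48710 := ndS (p := 13729) (l := 4) rfl N13729 D48710
theorem N15941 : nd 15941 = n48711 := ndS (p := 13730) (l := 9) rfl N13730 D48711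
theorem N15942 : nd 15942 = n48712 := ndS (p := 13731) (l := 8) rfl N13731 D48712
theorem N15943 : nd 15943 = n48713 := ndS (p := 13733) (l := 6) rfl N13733 D48713
theorem N15944 : nd 15944 = n48714 := ndS (p := 13733) (l := 9) rfl N13733 D48714
theorem N15945 : nd 15945 = n48715 := ndS (p := 13734) (l := 8) rfl N13734 D48715
theorem N15946 : nd 15946 = n48716 := ndS (p := 13736) (l := 7) rfl N13736 D48716
theorem N15947 : nd 15947 = n48717 := ndS (p := 13736) (l := 9) rfl N13736 D48717
theorem N15948 : nd 15948 = n48718 := ndS (p := 13737) (l := 8) rfl N13737 D48718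
theorem N15949 : nd 15949 = n48719 := ndS (p := 13738) (l := 3) rfl N13738 D48719
theorem N15950 : nd 15950 = n48720 := ndS (p := 13740) (l := 9) rfl N13740 D48720
theorem N15951 : nd 15951 = n48721 := ndS (p := 13741) (l := 8) rfl N13741 D48721
theorem N15952 : nd 15952 = n48722 := ndS (p := 13742) (l := 3) rfl N13742 D48722
theorem N15953 : nd 15953 = n48723 := ndS (p := 13743) (l := 4) rfl N13743 D48723
theorem N15954 : nd 15954 = n48724 := ndS (p := 13747) (l := 9) rfl N13747 D48724
theorem N15955 : nd 15955 = n48725 := ndS (p := 13750) (l := 9) rfl N13750 D48725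
theorem N15956 : nd 15956 = n48726 := ndS (p := 13751) (l := 8) rfl N13751 D48726
theorem N15957 : nd 15957 = n48727 := ndS (p := 13752) (l := 5) rfl N13752 D48727
theorem N15958 : nd 15958 = n48728 := ndS (p := 13753) (l := 9) rfl N13753 D48728
theorem N15959 : nd 15959 = n48729 := ndS (p := 13755) (l := 5) rfl N13755 D48729
theorem N15960 : nd 15960 = n48730 := ndS (p := 13771) (l := 9) rfl N13771 D48730
theorem N15961 : nd 15961 = n48731 := ndS (p := 13774) (l := 2) rfl N13774 D48731
theorem N15962 : nd 15962 = n48732 := ndS (p := 13774) (l := 9) rfl N13774 D48732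
theorem N15963 : nd 15963 = n48733 := ndS (p := 13776) (l := 1) rfl N13776 D48733
theorem N15964 : nd 15964 = n48734 := ndS (p := 13776) (l := 9) rfl N13776 D48734
theorem N15965 : nd 15965 = n48735 := ndS (p := 13777) (l := 8) rfl N13777 D48735
theorem N15966 : nd 15966 = n48736 := ndS (p := 13778) (l := 7) rfl N13778 D48736
theorem N15967 : nd 15967 = n48737 := ndS (p := 13778) (l := 9) rfl N13778 D48737
theorem N15968 : nd 15968 = n48738 := ndS (p := 13780) (l := 9) rfl N13780 D48738
theorem N15969 : nd 15969 = n48739 := ndS (p := 13784) (l := 9) rfl N13784 D48739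
theorem N15970 : nd 15970 = n48740 := ndS (p := 13787) (l := 8) rfl N13787 D48740
theorem N15971 : nd 15971 = n48741 := ndS (p := 13788) (l := 9) rfl N13788 D48741
theorem N15972 : nd 15972 = n48742 := ndS (p := 13789) (l := 8) rfl N13789 D48742
theorem N15973 : nd 15973 = n48743 := ndS (p := 13790) (l := 9) rfl N13790 D48743
theorem N15974 : nd 15974 = n48744 := ndS (p := 13791) (l := 8) rfl N13791 D48744
theorem N15975 : nd 15975 = n48745 := ndS (p := 13792) (l := 9) rfl N13792 D48745
theorem N15976 : nd 15976 = n48746 := ndS (p := 13793) (l := 8) rfl N13793 D48746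
theorem N15977 : nd 15977 = n48747 := ndS (p := 13798) (l := 6) rfl N13798 D48747
theorem N15978 : nd 15978 = n48748 := ndS (p := 13798) (l := 9) rfl N13798 D48748
theorem N15979 : nd 15979 = n48749 := ndS (p := 13799) (l := 8) rfl N13799 D48749
theorem N15980 : nd 15980 = n48750 := ndS (p := 13801) (l := 6) rfl N13801 D48750
theorem N15981 : nd 15981 = n48751 := ndS (p := 13801) (l := 9) rfl N13801 D48751
theorem N15982 : nd 15982 = n48752 := ndS (p := 13802) (l := 8) rfl N13802 D48752
theorem N15983 : nd 15983 = n48753 := ndS (p := 13804) (l := 6) rfl N13804 D48753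
theorem N15984 : nd 15984 = n48754 := ndS (p := 13804) (l := 9) rfl N13804 D48754
theorem N15985 : nd 15985 = n48755 := ndS (p := 13805) (l := 8) rfl N13805 D48755
theorem N15986 : nd 15986 = n48756 := ndS (p := 13807) (l := 7) rfl N13807 D48756
theorem N15987 : nd 15987 = n48757 := ndS (p := 13807) (l := 9) rfl N13807 D48757
theorem N15988 : nd 15988 = n48758 := ndS (p := 13808) (l := 8) rfl N13808 D48758
theorem N15989 : nd 15989 = n48759 := ndS (p := 13809) (l := 3) rfl N13809 D48759
theorem N15990 : nd 15990 = n48760 := ndS (p := 13810) (l := 8) rfl N13810 D48760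
theorem N15991 : nd 15991 = n48761 := ndS (p := 13811) (l := 8) rfl N13811 D48761
theorem N15992 : nd 15992 = n48762 := ndS (p := 13814) (l := 7) rfl N13814 D48762
theorem N15993 : nd 15993 = n48763 := ndS (p := 13814) (l := 9) rfl N13814 D48763
theorem N15994 : nd 15994 = n48764 := ndS (p := 13815) (l := 8) rfl N13815 D48764
theorem N15995 : nd 15995 = n48765 := ndS (p := 13816) (l := 3) rfl N13816 D48765
theorem N15996 : nd 15996 = n48766 := ndS (p := 13818) (l := 6) rfl N13818 D48766
theorem N15997 : nd 15997 = n48767 := ndS (p := 13818) (l := 9) rfl N13818 D48767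
theorem N15998 : nd 15998 = n48768 := ndS (p := 13819) (l := 8) rfl N13819 D48768
theorem N15999 : nd 15999 = n48769 := ndS (p := 13821) (l := 7) rfl N13821 D48769
theorem N16000 : nd 16000 = n48770 := ndS (p := 13821) (l := 9) rfl N13821 D48770
theorem N16001 : nd 16001 = n48771 := ndS (p := 13822) (l := 8) rfl N13822 D48771
theorem N16002 : nd 16002 = n48772 := ndS (p := 13824) (l := 9) rfl N13824 D48772
theorem N16003 : nd 16003 = n48773 := ndS (p := 13825) (l := 8) rfl N13825 D48773
theorem N16004 : nd 16004 = n48774 := ndS (p := 13826) (l := 3) rfl N13826 D48774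
theorem N16005 : nd 16005 = n48775 := ndS (p := 13827) (l := 2) rfl N13827 D48775
theorem N16006 : nd 16006 = n48776 := ndS (p := 13828) (l := 9) rfl N13828 D48776
theorem N16007 : nd 16007 = n48777 := ndS (p := 13829) (l := 8) rfl N13829 D48777
theorem N16008 : nd 16008 = n48778 := ndS (p := 13831) (l := 8) rfl N13831 D48778
theorem N16009 : nd 16009 = n48779 := ndS (p := 13833) (l := 0) rfl N13833 D48779
theorem N16010 : nd 16010 = n48780 := ndS (p := 13833) (l := 9) rfl N13833 D48780
theorem N16011 : nd 16011 = n48781 := ndS (p := 13834) (l := 8) rfl N13834 D48781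
theorem N16012 : nd 16012 = n48782 := ndS (p := 13836) (l := 0) rfl N13836 D48782
theorem N16013 : nd 16013 = n48783 := ndS (p := 13836) (l := 9) rfl N13836 D48783
theorem N16014 : nd 16014 = n48784 := ndS (p := 13837) (l := 8) rfl N13837 D48784
theorem N16015 : nd 16015 = n48785 := ndS (p := 13839) (l := 9) rfl N13839 D48785
theorem N16016 : nd 16016 = n48786 := ndS (p := 13840) (l := 8) rfl N13840 D48786
theorem N16017 : nd 16017 = n48787 := ndS (p := 13841) (l := 3) rfl N13841 D48787
theorem N16018 : nd 16018 = n48788 := ndS (p := 13842) (l := 8) rfl N13842 D48788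
theorem N16019 : nd 16019 = n48789 := ndS (p := 13843) (l := 3) rfl N13843 D48789
theorem N16020 : nd 16020 = n48790 := ndS (p := 13844) (l := 4) rfl N13844 D48790
theorem N16021 : nd 16021 = n48791 := ndS (p := 13855) (l := 3) rfl N13855 D48791
theorem N16022 : nd 16022 = n48792 := ndS (p := 13855) (l := 9) rfl N13855 D48792
theorem N16023 : nd 16023 = n48793 := ndS (p := 13857) (l := 8) rfl N13857 D48793
theorem N16024 : nd 16024 = n48794 := ndS (p := 13858) (l := 3) rfl N13858 D48794
theorem N16025 : nd 16025 = n48795 := ndS (p := 13858) (l := 9) rfl N13858 D48795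
theorem N16026 : nd 16026 = n48796 := ndS (p := 13859) (l := 2) rfl N13859 D48796
theorem N16027 : nd 16027 = n48797 := ndS (p := 13859) (l := 4) rfl N13859 D48797
theorem N16028 : nd 16028 = n48798 := ndS (p := 13859) (l := 9) rfl N13859 D48798
theorem N16029 : nd 16029 = n48799 := ndS (p := 13861) (l := 3) rfl N13861 D48799
theorem N16030 : nd 16030 = n48800 := ndS (p := 13862) (l := 4) rfl N13862 D48800
theorem N16031 : nd 16031 = n48801 := ndS (p := 13862) (l := 9) rfl N13862 D48801
theorem N16032 : nd 16032 = n48802 := ndS (p := 13864) (l := 9) rfl N13864 D48802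
theorem N16033 : nd 16033 = n48803 := ndS (p := 13865) (l := 8) rfl N13865 D48803
theorem N16034 : nd 16034 = n48804 := ndS (p := 13869) (l := 9) rfl N13869 D48804
theorem N16035 : nd 16035 = n48805 := ndS (p := 13872) (l := 3) rfl N13872 D48805
theorem N16036 : nd 16036 = n48806 := ndS (p := 13872) (l := 9) rfl N13872 D48806
theorem N16037 : nd 16037 = n48807 := ndS (p := 13874) (l := 8) rfl N13874 D48807
theorem N16038 : nd 16038 = n48808 := ndS (p := 13875) (l := 9) rfl N13875 D48808
theorem N16039 : nd 16039 = n48809 := ndS (p := 13877) (l := 6) rfl N13877 D48809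
theorem N16040 : nd 16040 = n48810 := ndS (p := 13877) (l := 9) rfl N13877 D48810
theorem N16041 : nd 16041 = n48811 := ndS (p := 13878) (l := 8) rfl N13878 D48811
theorem N16042 : nd 16042 = n48812 := ndS (p := 13880) (l := 8) rfl N13880 D48812
theorem N16043 : nd 16043 = n48813 := ndS (p := 13881) (l := 3) rfl N13881 D48813
theorem N16044 : nd 16044 = n48814 := ndS (p := 13881) (l := 9) rfl N13881 D48814
theorem N16045 : nd 16045 = n48815 := ndS (p := 13882) (l := 4) rfl N13882 D48815
theorem N16046 : nd 16046 = n48816 := ndS (p := 13882) (l := 9) rfl N13882 D48816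
theorem N16047 : nd 16047 = n48817 := ndS (p := 13884) (l := 9) rfl N13884 D48817
theorem N16048 : nd 16048 = n48818 := ndS (p := 13886) (l := 9) rfl N13886 D48818
theorem N16049 : nd 16049 = n48819 := ndS (p := 13887) (l := 5) rfl N13887 D48819
theorem N16050 : nd 16050 = n48820 := ndS (p := 13887) (l := 9) rfl N13887 D48820
theorem N16051 : nd 16051 = n48821 := ndS (p := 13888) (l := 8) rfl N13888 D48821
theorem N16052 : nd 16052 = n48822 := ndS (p := 13889) (l := 6) rfl N13889 D48822
theorem N16053 : nd 16053 = n48823 := ndS (p := 13889) (l := 9) rfl N13889 D48823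
theorem N16054 : nd 16054 = n48824 := ndS (p := 13890) (l := 8) rfl N13890 D48824
theorem N16055 : nd 16055 = n48825 := ndS (p := 13892) (l := 7) rfl N13892 D48825
theorem N16056 : nd 16056 = n48826 := ndS (p := 13892) (l := 9) rfl N13892 D48826
theorem N16057 : nd 16057 = n48827 := ndS (p := 13893) (l := 8) rfl N13893 D48827
theorem N16058 : nd 16058 = n48828 := ndS (p := 13896) (l := 7) rfl N13896 D48828
theorem N16059 : nd 16059 = n48829 := ndS (p := 13896) (l := 8) rfl N13896 D48829
theorem N16060 : nd 16060 = n48830 := ndS (p := 13898) (l := 3) rfl N13898 D48830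
theorem N16061 : nd 16061 = n48831 := ndS (p := 13898) (l := 9) rfl N13898 D48831
theorem N16062 : nd 16062 = n48832 := ndS (p := 13899) (l := 2) rfl N13899 D48832
theorem N16063 : nd 16063 = n48833 := ndS (p := 13899) (l := 4) rfl N13899 D48833
theorem N16064 : nd 16064 = n48834 := ndS (p := 13899) (l := 9) rfl N13899 D48834
theorem N16065 : nd 16065 = n48835 := ndS (p := 13901) (l := 6) rfl N13901 D48835
theorem N16066 : nd 16066 = n48836 := ndS (p := 13901) (l := 8) rfl N13901 D48836
theorem N16067 : nd 16067 = n48837 := ndS (p := 13902) (l := 3) rfl N13902 D48837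
theorem N16068 : nd 16068 = n48838 := ndS (p := 13902) (l := 9) rfl N13902 D48838
theorem N16069 : nd 16069 = n48839 := ndS (p := 13903) (l := 3) rfl N13903 D48839
theorem N16070 : nd 16070 = n48840 := ndS (p := 13903) (l := 9) rfl N13903 D48840
theorem N16071 : nd 16071 = n48841 := ndS (p := 13904) (l := 2) rfl N13904 D48841
theorem N16072 : nd 16072 = n48842 := ndS (p := 13904) (l := 4) rfl N13904 D48842
theorem N16073 : nd 16073 = n48843 := ndS (p := 13904) (l := 9) rfl N13904 D48843
theorem N16074 : nd 16074 = n48844 := ndS (p := 13906) (l := 1) rfl N13906 D48844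
theorem N16075 : nd 16075 = n48845 := ndS (p := 13906) (l := 4) rfl N13906 D48845
theorem N16076 : nd 16076 = n48846 := ndS (p := 13906) (l := 9) rfl N13906 D48846
theorem N16077 : nd 16077 = n48847 := ndS (p := 13907) (l := 9) rfl N13907 D48847
theorem N16078 : nd 16078 = n48848 := ndS (p := 13908) (l := 8) rfl N13908 D48848
theorem N16079 : nd 16079 = n48849 := ndS (p := 13909) (l := 4) rfl N13909 D48849
theorem N16080 : nd 16080 = n48850 := ndS (p := 13909) (l := 9) rfl N13909 D48850
theorem N16081 : nd 16081 = n48851 := ndS (p := 13911) (l := 5) rfl N13911 D48851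
theorem N16082 : nd 16082 = n48852 := ndS (p := 13911) (l := 9) rfl N13911 D48852
theorem N16083 : nd 16083 = n48853 := ndS (p := 13912) (l := 8) rfl N13912 D48853
theorem N16084 : nd 16084 = n48854 := ndS (p := 13913) (l := 8) rfl N13913 D48854
theorem N16085 : nd 16085 = n48855 := ndS (p := 13916) (l := 9) rfl N13916 D48855
theorem N16086 : nd 16086 = n48856 := ndS (p := 13917) (l := 2) rfl N13917 D48856
theorem N16087 : nd 16087 = n48857 := ndS (p := 13917) (l := 9) rfl N13917 D48857
theorem N16088 : nd 16088 = n48858 := ndS (p := 13921) (l := 1) rfl N13921 D48858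
theorem N16089 : nd 16089 = n48859 := ndS (p := 13921) (l := 9) rfl N13921 D48859
theorem N16090 : nd 16090 = n48860 := ndS (p := 13923) (l := 0) rfl N13923 D48860
theorem N16091 : nd 16091 = n48861 := ndS (p := 13923) (l := 9) rfl N13923 D48861
theorem N16092 : nd 16092 = n48862 := ndS (p := 13924) (l := 8) rfl N13924 D48862
theorem N16093 : nd 16093 = n48863 := ndS (p := 13928) (l := 0) rfl N13928 D48863
theorem N16094 : nd 16094 = n48864 := ndS (p := 13928) (l := 9) rfl N13928 D48864
theorem N16095 : nd 16095 = n48865 := ndS (p := 13930) (l := 9) rfl N13930 D48865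
theorem N16096 : nd 16096 = n48866 := ndS (p := 13931) (l := 8) rfl N13931 D48866
theorem N16097 : nd 16097 = n48867 := ndS (p := 13933) (l := 7) rfl N13933 D48867
theorem N16098 : nd 16098 = n48868 := ndS (p := 13934) (l := 7) rfl N13934 D48868
theorem N16099 : nd 16099 = n48869 := ndS (p := 13934) (l := 8) rfl N13934 D48869
theorem N16100 : nd 16100 = n48870 := ndS (p := 13936) (l := 3) rfl N13936 D48870
theorem N16101 : nd 16101 = n48871 := ndS (p := 13936) (l := 9) rfl N13936 D48871
theorem N16102 : nd 16102 = n48872 := ndS (p := 13937) (l := 4) rfl N13937 D48872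
theorem N16103 : nd 16103 = n48873 := ndS (p := 13937) (l := 9) rfl N13937 D48873
theorem N16104 : nd 16104 = n48874 := ndS (p := 13940) (l := 9) rfl N13940 D48874
theorem N16105 : nd 16105 = n48875 := ndS (p := 13941) (l := 8) rfl N13941 D48875
theorem N16106 : nd 16106 = n48876 := ndS (p := 13942) (l := 8) rfl N13942 D48876
theorem N16107 : nd 16107 = n48877 := ndS (p := 13947) (l := 3) rfl N13947 D48877
theorem N16108 : nd 16108 = n48878 := ndS (p := 13947) (l := 9) rfl N13947 D48878
theorem N16109 : nd 16109 = n48879 := ndS (p := 13948) (l := 9) rfl N13948 D48879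
theorem N16110 : nd 16110 = n48880 := ndS (p := 13950) (l := 5) rfl N13950 D48880
theorem N16111 : nd 16111 = n48881 := ndS (p := 13950) (l := 9) rfl N13950 D48881
theorem N16112 : nd 16112 = n48882 := ndS (p := 13951) (l := 8) rfl N13951 D48882
theorem N16113 : nd 16113 = n48883 := ndS (p := 13952) (l := 6) rfl N13952 D48883
theorem N16114 : nd 16114 = n48884 := ndS (p := 13952) (l := 9) rfl N13952 D48884
theorem N16115 : nd 16115 = n48885 := ndS (p := 13953) (l := 8) rfl N13953 D48885
theorem N16116 : nd 16116 = n48886 := ndS (p := 13955) (l := 7) rfl N13955 D48886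
theorem N16117 : nd 16117 = n48887 := ndS (p := 13955) (l := 9) rfl N13955 D48887
theorem N16118 : nd 16118 = n48888 := ndS (p := 13956) (l := 8) rfl N13956 D48888
theorem N16119 : nd 16119 = n48889 := ndS (p := 13961) (l := 8) rfl N13961 D48889
theorem N16120 : nd 16120 = n48890 := ndS (p := 13962) (l := 3) rfl N13962 D48890
theorem N16121 : nd 16121 = n48891 := ndS (p := 13962) (l := 9) rfl N13962 D48891
theorem N16122 : nd 16122 = n48892 := ndS (p := 13963) (l := 3) rfl N13963 D48892
theorem N16123 : nd 16123 = n48893 := ndS (p := 13963) (l := 9) rfl N13963 D48893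
theorem N16124 : nd 16124 = n48894 := ndS (p := 13964) (l := 4) rfl N13964 D48894
theorem N16125 : nd 16125 = n48895 := ndS (p := 13964) (l := 9) rfl N13964 D48895
theorem N16126 : nd 16126 = n48896 := ndS (p := 13966) (l := 5) rfl N13966 D48896
theorem N16127 : nd 16127 = n48897 := ndS (p := 13966) (l := 9) rfl N13966 D48897
theorem N16128 : nd 16128 = n48898 := ndS (p := 13967) (l := 8) rfl N13967 D48898
theorem N16129 : nd 16129 = n48899 := ndS (p := 13969) (l := 3) rfl N13969 D48899
theorem N16130 : nd 16130 = n48900 := ndS (p := 13969) (l := 9) rfl N13969 D48900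
theorem N16131 : nd 16131 = n48901 := ndS (p := 13970) (l := 2) rfl N13970 D48901
theorem N16132 : nd 16132 = n48902 := ndS (p := 13970) (l := 4) rfl N13970 D48902
theorem N16133 : nd 16133 = n48903 := ndS (p := 13970) (l := 9) rfl N13970 D48903
theorem N16134 : nd 16134 = n48904 := ndS (p := 13972) (l := 9) rfl N13972 D48904
theorem N16135 : nd 16135 = n48905 := ndS (p := 13974) (l := 9) rfl N13974 D48905
theorem N16136 : nd 16136 = n48906 := ndS (p := 13975) (l := 5) rfl N13975 D48906
theorem N16137 : nd 16137 = n48907 := ndS (p := 13975) (l := 9) rfl N13975 D48907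
theorem N16138 : nd 16138 = n48908 := ndS (p := 13976) (l := 8) rfl N13976 D48908
theorem N16139 : nd 16139 = n48909 := ndS (p := 13977) (l := 9) rfl N13977 D48909
theorem N16140 : nd 16140 = n48910 := ndS (p := 13978) (l := 5) rfl N13978 D48910
theorem N16141 : nd 16141 = n48911 := ndS (p := 13978) (l := 9) rfl N13978 D48911
theorem N16142 : nd 16142 = n48912 := ndS (p := 13979) (l := 8) rfl N13979 D48912
theorem N16143 : nd 16143 = n48913 := ndS (p := 13980) (l := 6) rfl N13980 D48913
theorem N16144 : nd 16144 = n48914 := ndS (p := 13980) (l := 9) rfl N13980 D48914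
theorem N16145 : nd 16145 = n48915 := ndS (p := 13981) (l := 8) rfl N13981 D48915
theorem N16146 : nd 16146 = n48916 := ndS (p := 13983) (l := 6) rfl N13983 D48916
theorem N16147 : nd 16147 = n48917 := ndS (p := 13983) (l := 9) rfl N13983 D48917
theorem N16148 : nd 16148 = n48918 := ndS (p := 13984) (l := 8) rfl N13984 D48918
theorem N16149 : nd 16149 = n48919 := ndS (p := 13986) (l := 7) rfl N13986 D48919
theorem N16150 : nd 16150 = n48920 := ndS (p := 13986) (l := 9) rfl N13986 D48920
theorem N16151 : nd 16151 = n48921 := ndS (p := 13987) (l := 8) rfl N13987 D48921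
theorem N16152 : nd 16152 = n48922 := ndS (p := 13988) (l := 3) rfl N13988 D48922
theorem N16153 : nd 16153 = n48923 := ndS (p := 13989) (l := 9) rfl N13989 D48923
theorem N16154 : nd 16154 = n48924 := ndS (p := 13990) (l := 8) rfl N13990 D48924
theorem N16155 : nd 16155 = n48925 := ndS (p := 13993) (l := 9) rfl N13993 D48925
theorem N16156 : nd 16156 = n48926 := ndS (p := 13998) (l := 7) rfl N13998 D48926
theorem N16157 : nd 16157 = n48927 := ndS (p := 13998) (l := 8) rfl N13998 D48927
theorem N16158 : nd 16158 = n48928 := ndS (p := 13999) (l := 6) rfl N13999 D48928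
theorem N16159 : nd 16159 = n48929 := ndS (p := 13999) (l := 8) rfl N13999 D48929
theorem N16160 : nd 16160 = n48930 := ndS (p := 14000) (l := 3) rfl N14000 D48930
theorem N16161 : nd 16161 = n48931 := ndS (p := 14000) (l := 9) rfl N14000 D48931
theorem N16162 : nd 16162 = n48932 := ndS (p := 14001) (l := 3) rfl N14001 D48932
theorem N16163 : nd 16163 = n48933 := ndS (p := 14001) (l := 9) rfl N14001 D48933
theorem N16164 : nd 16164 = n48934 := ndS (p := 14002) (l := 2) rfl N14002 D48934
theorem N16165 : nd 16165 = n48935 := ndS (p := 14002) (l := 4) rfl N14002 D48935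
theorem N16166 : nd 16166 = n48936 := ndS (p := 14002) (l := 9) rfl N14002 D48936
theorem N16167 : nd 16167 = n48937 := ndS (p := 14004) (l := 9) rfl N14004 D48937
theorem N16168 : nd 16168 = n48938 := ndS (p := 14005) (l := 9) rfl N14005 D48938
theorem N16169 : nd 16169 = n48939 := ndS (p := 14006) (l := 8) rfl N14006 D48939
theorem N16170 : nd 16170 = n48940 := ndS (p := 14007) (l := 8) rfl N14007 D48940
theorem N16171 : nd 16171 = n48941 := ndS (p := 14008) (l := 3) rfl N14008 D48941
theorem N16172 : nd 16172 = n48942 := ndS (p := 14008) (l := 9) rfl N14008 D48942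
theorem N16173 : nd 16173 = n48943 := ndS (p := 14009) (l := 2) rfl N14009 D48943
theorem N16174 : nd 16174 = n48944 := ndS (p := 14009) (l := 4) rfl N14009 D48944
theorem N16175 : nd 16175 = n48945 := ndS (p := 14009) (l := 9) rfl N14009 D48945
theorem N16176 : nd 16176 = n48946 := ndS (p := 14011) (l := 2) rfl N14011 D48946
theorem N16177 : nd 16177 = n48947 := ndS (p := 14011) (l := 4) rfl N14011 D48947
theorem N16178 : nd 16178 = n48948 := ndS (p := 14011) (l := 9) rfl N14011 D48948
theorem N16179 : nd 16179 = n48949 := ndS (p := 14013) (l := 1) rfl N14013 D48949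
theorem N16180 : nd 16180 = n48950 := ndS (p := 14013) (l := 4) rfl N14013 D48950
theorem N16181 : nd 16181 = n48951 := ndS (p := 14013) (l := 9) rfl N14013 D48951
theorem N16182 : nd 16182 = n48952 := ndS (p := 14014) (l := 5) rfl N14014 D48952
theorem N16183 : nd 16183 = n48953 := ndS (p := 14014) (l := 9) rfl N14014 D48953
theorem N16184 : nd 16184 = n48954 := ndS (p := 14015) (l := 8) rfl N14015 D48954
theorem N16185 : nd 16185 = n48955 := ndS (p := 14016) (l := 9) rfl N14016 D48955
theorem N16186 : nd 16186 = n48956 := ndS (p := 14017) (l := 9) rfl N14017 D48956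
theorem N16187 : nd 16187 = n48957 := ndS (p := 14018) (l := 8) rfl N14018 D48957
theorem N16188 : nd 16188 = n48958 := ndS (p := 14019) (l := 8) rfl N14019 D48958
theorem N16189 : nd 16189 = n48959 := ndS (p := 14021) (l := 5) rfl N14021 D48959
theorem N16190 : nd 16190 = n48960 := ndS (p := 14021) (l := 9) rfl N14021 D48960
theorem N16191 : nd 16191 = n48961 := ndS (p := 14022) (l := 8) rfl N14022 D48961
theorem N16192 : nd 16192 = n48962 := ndS (p := 14023) (l := 9) rfl N14023 D48962
theorem N16193 : nd 16193 = n48963 := ndS (p := 14024) (l := 8) rfl N14024 D48963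
theorem N16194 : nd 16194 = n48964 := ndS (p := 14026) (l := 3) rfl N14026 D48964
theorem N16195 : nd 16195 = n48965 := ndS (p := 14027) (l := 9) rfl N14027 D48965
theorem N16196 : nd 16196 = n48966 := ndS (p := 14028) (l := 2) rfl N14028 D48966
theorem N16197 : nd 16197 = n48967 := ndS (p := 14028) (l := 9) rfl N14028 D48967
theorem N16198 : nd 16198 = n48968 := ndS (p := 14030) (l := 1) rfl N14030 D48968
theorem N16199 : nd 16199 = n48969 := ndS (p := 14030) (l := 4) rfl N14030 D48969
theorem N16200 : nd 16200 = n48970 := ndS (p := 14030) (l := 9) rfl N14030 D48970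
theorem N16201 : nd 16201 = n48971 := ndS (p := 14031) (l := 9) rfl N14031 D48971
theorem N16202 : nd 16202 = n48972 := ndS (p := 14032) (l := 8) rfl N14032 D48972
theorem N16203 : nd 16203 = n48973 := ndS (p := 14033) (l := 9) rfl N14033 D48973
theorem N16204 : nd 16204 = n48974 := ndS (p := 14034) (l := 8) rfl N14034 D48974
theorem N16205 : nd 16205 = n48975 := ndS (p := 14035) (l := 9) rfl N14035 D48975
theorem N16206 : nd 16206 = n48976 := ndS (p := 14036) (l := 8) rfl N14036 D48976
theorem N16207 : nd 16207 = n48977 := ndS (p := 14038) (l := 9) rfl N14038 D48977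
theorem N16208 : nd 16208 = n48978 := ndS (p := 14039) (l := 8) rfl N14039 D48978
theorem N16209 : nd 16209 = n48979 := ndS (p := 14040) (l := 3) rfl N14040 D48979
theorem N16210 : nd 16210 = n48980 := ndS (p := 14042) (l := 9) rfl N14042 D48980
theorem N16211 : nd 16211 = n48981 := ndS (p := 14043) (l := 8) rfl N14043 D48981
theorem N16212 : nd 16212 = n48982 := ndS (p := 14044) (l := 4) rfl N14044 D48982
theorem N16213 : nd 16213 = n48983 := ndS (p := 14044) (l := 9) rfl N14044 D48983
theorem N16214 : nd 16214 = n48984 := ndS (p := 14045) (l := 9) rfl N14045 D48984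
theorem N16215 : nd 16215 = n48985 := ndS (p := 14046) (l := 8) rfl N14046 D48985
theorem N16216 : nd 16216 = n48986 := ndS (p := 14047) (l := 8) rfl N14047 D48986
theorem N16217 : nd 16217 = n48987 := ndS (p := 14049) (l := 8) rfl N14049 D48987
theorem N16218 : nd 16218 = n48988 := ndS (p := 14051) (l := 8) rfl N14051 D48988
theorem N16219 : nd 16219 = n48989 := ndS (p := 14052) (l := 3) rfl N14052 D48989
theorem N16220 : nd 16220 = n48990 := ndS (p := 14053) (l := 8) rfl N14053 D48990
theorem N16221 : nd 16221 = n48991 := ndS (p := 14054) (l := 3) rfl N14054 D48991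
theorem N16222 : nd 16222 = n48992 := ndS (p := 14055) (l := 4) rfl N14055 D48992
theorem N16223 : nd 16223 = n48993 := ndS (p := 14056) (l := 7) rfl N14056 D48993
theorem N16224 : nd 16224 = n48994 := ndS (p := 14056) (l := 8) rfl N14056 D48994
theorem N16225 : nd 16225 = n48995 := ndS (p := 14057) (l := 8) rfl N14057 D48995
theorem N16226 : nd 16226 = n48996 := ndS (p := 14058) (l := 3) rfl N14058 D48996
theorem N16227 : nd 16227 = n48997 := ndS (p := 14058) (l := 9) rfl N14058 D48997
theorem N16228 : nd 16228 = n48998 := ndS (p := 14059) (l := 9) rfl N14059 D48998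
theorem N16229 : nd 16229 = n48999 := ndS (p := 14061) (l := 6) rfl N14061 D48999
theorem N16230 : nd 16230 = n49000 := ndS (p := 14061) (l := 8) rfl N14061 D49000
theorem N16231 : nd 16231 = n49001 := ndS (p := 14062) (l := 3) rfl N14062 D49001
theorem N16232 : nd 16232 = n49002 := ndS (p := 14062) (l := 9) rfl N14062 D49002
theorem N16233 : nd 16233 = n49003 := ndS (p := 14063) (l := 3) rfl N14063 D49003
theorem N16234 : nd 16234 = n49004 := ndS (p := 14063) (l := 9) rfl N14063 D49004
theorem N16235 : nd 16235 = n49005 := ndS (p := 14064) (l := 2) rfl N14064 D49005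
theorem N16236 : nd 16236 = n49006 := ndS (p := 14064) (l := 4) rfl N14064 D49006
theorem N16237 : nd 16237 = n49007 := ndS (p := 14064) (l := 9) rfl N14064 D49007
theorem N16238 : nd 16238 = n49008 := ndS (p := 14066) (l := 9) rfl N14066 D49008
theorem N16239 : nd 16239 = n49009 := ndS (p := 14067) (l := 9) rfl N14067 D49009
theorem N16240 : nd 16240 = n49010 := ndS (p := 14068) (l := 8) rfl N14068 D49010
theorem N16241 : nd 16241 = n49011 := ndS (p := 14070) (l := 5) rfl N14070 D49011
theorem N16242 : nd 16242 = n49012 := ndS (p := 14070) (l := 9) rfl N14070 D49012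
theorem N16243 : nd 16243 = n49013 := ndS (p := 14071) (l := 8) rfl N14071 D49013
theorem N16244 : nd 16244 = n49014 := ndS (p := 14072) (l := 8) rfl N14072 D49014
theorem N16245 : nd 16245 = n49015 := ndS (p := 14073) (l := 8) rfl N14073 D49015
theorem N16246 : nd 16246 = n49016 := ndS (p := 14076) (l := 8) rfl N14076 D49016
theorem N16247 : nd 16247 = n49017 := ndS (p := 14077) (l := 8) rfl N14077 D49017
theorem N16248 : nd 16248 = n49018 := ndS (p := 14078) (l := 3) rfl N14078 D49018
theorem N16249 : nd 16249 = n49019 := ndS (p := 14078) (l := 9) rfl N14078 D49019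
theorem N16250 : nd 16250 = n49020 := ndS (p := 14079) (l := 3) rfl N14079 D49020
theorem N16251 : nd 16251 = n49021 := ndS (p := 14079) (l := 9) rfl N14079 D49021
theorem N16252 : nd 16252 = n49022 := ndS (p := 14080) (l := 2) rfl N14080 D49022
theorem N16253 : nd 16253 = n49023 := ndS (p := 14080) (l := 4) rfl N14080 D49023
theorem N16254 : nd 16254 = n49024 := ndS (p := 14080) (l := 9) rfl N14080 D49024
theorem N16255 : nd 16255 = n49025 := ndS (p := 14082) (l := 9) rfl N14082 D49025
theorem N16256 : nd 16256 = n49026 := ndS (p := 14083) (l := 9) rfl N14083 D49026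
theorem N16257 : nd 16257 = n49027 := ndS (p := 14084) (l := 8) rfl N14084 D49027
theorem N16258 : nd 16258 = n49028 := ndS (p := 14085) (l := 8) rfl N14085 D49028
theorem N16259 : nd 16259 = n49029 := ndS (p := 14086) (l := 3) rfl N14086 D49029
theorem N16260 : nd 16260 = n49030 := ndS (p := 14086) (l := 9) rfl N14086 D49030
theorem N16261 : nd 16261 = n49031 := ndS (p := 14087) (l := 2) rfl N14087 D49031
theorem N16262 : nd 16262 = n49032 := ndS (p := 14087) (l := 4) rfl N14087 D49032
theorem N16263 : nd 16263 = n49033 := ndS (p := 14087) (l := 9) rfl N14087 D49033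
theorem N16264 : nd 16264 = n49034 := ndS (p := 14089) (l := 9) rfl N14089 D49034
theorem N16265 : nd 16265 = n49035 := ndS (p := 14091) (l := 9) rfl N14091 D49035
theorem N16266 : nd 16266 = n49036 := ndS (p := 14092) (l := 5) rfl N14092 D49036
theorem N16267 : nd 16267 = n49037 := ndS (p := 14092) (l := 9) rfl N14092 D49037
theorem N16268 : nd 16268 = n49038 := ndS (p := 14093) (l := 8) rfl N14093 D49038
theorem N16269 : nd 16269 = n49039 := ndS (p := 14094) (l := 8) rfl N14094 D49039
theorem N16270 : nd 16270 = n49040 := ndS (p := 14095) (l := 6) rfl N14095 D49040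
theorem N16271 : nd 16271 = n49041 := ndS (p := 14095) (l := 9) rfl N14095 D49041
theorem N16272 : nd 16272 = n49042 := ndS (p := 14096) (l := 8) rfl N14096 D49042
theorem N16273 : nd 16273 = n49043 := ndS (p := 14098) (l := 6) rfl N14098 D49043
theorem N16274 : nd 16274 = n49044 := ndS (p := 14098) (l := 9) rfl N14098 D49044
theorem N16275 : nd 16275 = n49045 := ndS (p := 14099) (l := 8) rfl N14099 D49045
theorem N16276 : nd 16276 = n49046 := ndS (p := 14101) (l := 7) rfl N14101 D49046
theorem N16277 : nd 16277 = n49047 := ndS (p := 14101) (l := 9) rfl N14101 D49047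
theorem N16278 : nd 16278 = n49048 := ndS (p := 14102) (l := 8) rfl N14102 D49048
theorem N16279 : nd 16279 = n49049 := ndS (p := 14103) (l := 3) rfl N14103 D49049
theorem N16280 : nd 16280 = n49050 := ndS (p := 14104) (l := 9) rfl N14104 D49050
theorem N16281 : nd 16281 = n49051 := ndS (p := 14105) (l := 8) rfl N14105 D49051
theorem N16282 : nd 16282 = n49052 := ndS (p := 14107) (l := 9) rfl N14107 D49052
theorem N16283 : nd 16283 = n49053 := ndS (p := 14109) (l := 9) rfl N14109 D49053
theorem N16284 : nd 16284 = n49054 := ndS (p := 14110) (l := 8) rfl N14110 D49054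
theorem N16285 : nd 16285 = n49055 := ndS (p := 14111) (l := 8) rfl N14111 D49055
theorem N16286 : nd 16286 = n49056 := ndS (p := 14113) (l := 3) rfl N14113 D49056
theorem N16287 : nd 16287 = n49057 := ndS (p := 14114) (l := 8) rfl N14114 D49057
theorem N16288 : nd 16288 = n49058 := ndS (p := 14115) (l := 3) rfl N14115 D49058
theorem N16289 : nd 16289 = n49059 := ndS (p := 14115) (l := 9) rfl N14115 D49059
theorem N16290 : nd 16290 = n49060 := ndS (p := 14116) (l := 8) rfl N14116 D49060
theorem N16291 : nd 16291 = n49061 := ndS (p := 14117) (l := 3) rfl N14117 D49061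
theorem N16292 : nd 16292 = n49062 := ndS (p := 14117) (l := 9) rfl N14117 D49062
theorem N16293 : nd 16293 = n49063 := ndS (p := 14118) (l := 2) rfl N14118 D49063
theorem N16294 : nd 16294 = n49064 := ndS (p := 14118) (l := 4) rfl N14118 D49064
theorem N16295 : nd 16295 = n49065 := ndS (p := 14118) (l := 9) rfl N14118 D49065
theorem N16296 : nd 16296 = n49066 := ndS (p := 14120) (l := 2) rfl N14120 D49066
theorem N16297 : nd 16297 = n49067 := ndS (p := 14120) (l := 4) rfl N14120 D49067
theorem N16298 : nd 16298 = n49068 := ndS (p := 14120) (l := 9) rfl N14120 D49068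
theorem N16299 : nd 16299 = n49069 := ndS (p := 14122) (l := 1) rfl N14122 D49069
theorem N16300 : nd 16300 = n49070 := ndS (p := 14122) (l := 4) rfl N14122 D49070
theorem N16301 : nd 16301 = n49071 := ndS (p := 14122) (l := 9) rfl N14122 D49071
theorem N16302 : nd 16302 = n49072 := ndS (p := 14123) (l := 5) rfl N14123 D49072
theorem N16303 : nd 16303 = n49073 := ndS (p := 14123) (l := 9) rfl N14123 D49073
theorem N16304 : nd 16304 = n49074 := ndS (p := 14124) (l := 8) rfl N14124 D49074
theorem N16305 : nd 16305 = n49075 := ndS (p := 14125) (l := 9) rfl N14125 D49075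
theorem N16306 : nd 16306 = n49076 := ndS (p := 14126) (l := 9) rfl N14126 D49076
theorem N16307 : nd 16307 = n49077 := ndS (p := 14127) (l := 8) rfl N14127 D49077
theorem N16308 : nd 16308 = n49078 := ndS (p := 14128) (l := 6) rfl N14128 D49078
theorem N16309 : nd 16309 = n49079 := ndS (p := 14128) (l := 9) rfl N14128 D49079
theorem N16310 : nd 16310 = n49080 := ndS (p := 14129) (l := 8) rfl N14129 D49080
theorem N16311 : nd 16311 = n49081 := ndS (p := 14131) (l := 3) rfl N14131 D49081
theorem N16312 : nd 16312 = n49082 := ndS (p := 14131) (l := 9) rfl N14131 D49082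
theorem N16313 : nd 16313 = n49083 := ndS (p := 14132) (l := 2) rfl N14132 D49083
theorem N16314 : nd 16314 = n49084 := ndS (p := 14132) (l := 4) rfl N14132 D49084
theorem N16315 : nd 16315 = n49085 := ndS (p := 14132) (l := 9) rfl N14132 D49085
theorem N16316 : nd 16316 = n49086 := ndS (p := 14134) (l := 1) rfl N14134 D49086
theorem N16317 : nd 16317 = n49087 := ndS (p := 14134) (l := 4) rfl N14134 D49087
theorem N16318 : nd 16318 = n49088 := ndS (p := 14134) (l := 9) rfl N14134 D49088
theorem N16319 : nd 16319 = n49089 := ndS (p := 14135) (l := 5) rfl N14135 D49089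
theorem N16320 : nd 16320 = n49090 := ndS (p := 14135) (l := 9) rfl N14135 D49090
theorem N16321 : nd 16321 = n49091 := ndS (p := 14136) (l := 8) rfl N14136 D49091
theorem N16322 : nd 16322 = n49092 := ndS (p := 14137) (l := 1) rfl N14137 D49092
theorem N16323 : nd 16323 = n49093 := ndS (p := 14137) (l := 9) rfl N14137 D49093
theorem N16324 : nd 16324 = n49094 := ndS (p := 14138) (l := 5) rfl N14138 D49094
theorem N16325 : nd 16325 = n49095 := ndS (p := 14138) (l := 9) rfl N14138 D49095
theorem N16326 : nd 16326 = n49096 := ndS (p := 14139) (l := 8) rfl N14139 D49096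
theorem N16327 : nd 16327 = n49097 := ndS (p := 14140) (l := 0) rfl N14140 D49097
theorem N16328 : nd 16328 = n49098 := ndS (p := 14140) (l := 4) rfl N14140 D49098
theorem N16329 : nd 16329 = n49099 := ndS (p := 14140) (l := 9) rfl N14140 D49099
theorem N16330 : nd 16330 = n49100 := ndS (p := 14141) (l := 5) rfl N14141 D49100
theorem N16331 : nd 16331 = n49101 := ndS (p := 14141) (l := 9) rfl N14141 D49101
theorem N16332 : nd 16332 = n49102 := ndS (p := 14142) (l := 8) rfl N14142 D49102
theorem N16333 : nd 16333 = n49103 := ndS (p := 14143) (l := 6) rfl N14143 D49103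
theorem N16334 : nd 16334 = n49104 := ndS (p := 14143) (l := 9) rfl N14143 D49104
theorem N16335 : nd 16335 = n49105 := ndS (p := 14144) (l := 8) rfl N14144 D49105
theorem N16336 : nd 16336 = n49106 := ndS (p := 14146) (l := 9) rfl N14146 D49106
theorem N16337 : nd 16337 = n49107 := ndS (p := 14147) (l := 9) rfl N14147 D49107
theorem N16338 : nd 16338 = n49108 := ndS (p := 14148) (l := 8) rfl N14148 D49108
theorem N16339 : nd 16339 = n49109 := ndS (p := 14149) (l := 6) rfl N14149 D49109
theorem N16340 : nd 16340 = n49110 := ndS (p := 14149) (l := 9) rfl N14149 D49110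
theorem N16341 : nd 16341 = n49111 := ndS (p := 14150) (l := 8) rfl N14150 D49111
theorem N16342 : nd 16342 = n49112 := ndS (p := 14151) (l := 3) rfl N14151 D49112
theorem N16343 : nd 16343 = n49113 := ndS (p := 14152) (l := 7) rfl N14152 D49113
theorem N16344 : nd 16344 = n49114 := ndS (p := 14152) (l := 9) rfl N14152 D49114
theorem N16345 : nd 16345 = n49115 := ndS (p := 14153) (l := 8) rfl N14153 D49115
theorem N16346 : nd 16346 = n49116 := ndS (p := 14154) (l := 3) rfl N14154 D49116
theorem N16347 : nd 16347 = n49117 := ndS (p := 14155) (l := 6) rfl N14155 D49117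
theorem N16348 : nd 16348 = n49118 := ndS (p := 14155) (l := 9) rfl N14155 D49118
theorem N16349 : nd 16349 = n49119 := ndS (p := 14156) (l := 8) rfl N14156 D49119
theorem N16350 : nd 16350 = n49120 := ndS (p := 14158) (l := 7) rfl N14158 D49120
theorem N16351 : nd 16351 = n49121 := ndS (p := 14158) (l := 9) rfl N14158 D49121
theorem N16352 : nd 16352 = n49122 := ndS (p := 14159) (l := 8) rfl N14159 D49122
theorem N16353 : nd 16353 = n49123 := ndS (p := 14160) (l := 3) rfl N14160 D49123
theorem N16354 : nd 16354 = n49124 := ndS (p := 14161) (l := 9) rfl N14161 D49124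
theorem N16355 : nd 16355 = n49125 := ndS (p := 14162) (l := 8) rfl N14162 D49125
theorem N16356 : nd 16356 = n49126 := ndS (p := 14163) (l := 3) rfl N14163 D49126
theorem N16357 : nd 16357 = n49127 := ndS (p := 14164) (l := 2) rfl N14164 D49127
theorem N16358 : nd 16358 = n49128 := ndS (p := 14165) (l := 8) rfl N14165 D49128
theorem N16359 : nd 16359 = n49129 := ndS (p := 14168) (l := 1) rfl N14168 D49129
theorem N16360 : nd 16360 = n49130 := ndS (p := 14168) (l := 9) rfl N14168 D49130
theorem N16361 : nd 16361 = n49131 := ndS (p := 14169) (l := 8) rfl N14169 D49131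
theorem N16362 : nd 16362 = n49132 := ndS (p := 14170) (l := 0) rfl N14170 D49132
theorem N16363 : nd 16363 = n49133 := ndS (p := 14170) (l := 4) rfl N14170 D49133
theorem N16364 : nd 16364 = n49134 := ndS (p := 14170) (l := 9) rfl N14170 D49134
theorem N16365 : nd 16365 = n49135 := ndS (p := 14171) (l := 3) rfl N14171 D49135
theorem N16366 : nd 16366 = n49136 := ndS (p := 14171) (l := 9) rfl N14171 D49136
theorem N16367 : nd 16367 = n49137 := ndS (p := 14172) (l := 8) rfl N14172 D49137
theorem N16368 : nd 16368 = n49138 := ndS (p := 14173) (l := 8) rfl N14173 D49138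
theorem N16369 : nd 16369 = n49139 := ndS (p := 14175) (l := 0) rfl N14175 D49139
theorem N16370 : nd 16370 = n49140 := ndS (p := 14175) (l := 9) rfl N14175 D49140
theorem N16371 : nd 16371 = n49141 := ndS (p := 14176) (l := 8) rfl N14176 D49141
theorem N16372 : nd 16372 = n49142 := ndS (p := 14178) (l := 9) rfl N14178 D49142
theorem N16373 : nd 16373 = n49143 := ndS (p := 14179) (l := 8) rfl N14179 D49143
theorem N16374 : nd 16374 = n49144 := ndS (p := 14180) (l := 3) rfl N14180 D49144
theorem N16375 : nd 16375 = n49145 := ndS (p := 14181) (l := 8) rfl N14181 D49145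
theorem N16376 : nd 16376 = n49146 := ndS (p := 14182) (l := 3) rfl N14182 D49146
theorem N16377 : nd 16377 = n49147 := ndS (p := 14183) (l := 4) rfl N14183 D49147
theorem N16378 : nd 16378 = n49148 := ndS (p := 14184) (l := 0) rfl N14184 D49148
theorem N16379 : nd 16379 = n49149 := ndS (p := 14184) (l := 9) rfl N14184 D49149
theorem N16380 : nd 16380 = n49150 := ndS (p := 14185) (l := 8) rfl N14185 D49150
theorem N16381 : nd 16381 = n49151 := ndS (p := 14187) (l := 4) rfl N14187 D49151
theorem N16382 : nd 16382 = n49152 := ndS (p := 14187) (l := 9) rfl N14187 D49152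
theorem N16383 : nd 16383 = n49153 := ndS (p := 14188) (l := 9) rfl N14188 D49153
theorem N16384 : nd 16384 = n49154 := ndS (p := 14189) (l := 8) rfl N14189 D49154
theorem N16385 : nd 16385 = n49155 := ndS (p := 14190) (l := 8) rfl N14190 D49155
theorem N16386 : nd 16386 = n49156 := ndS (p := 14191) (l := 3) rfl N14191 D49156
theorem N16387 : nd 16387 = n49157 := ndS (p := 14193) (l := 9) rfl N14193 D49157
theorem N16388 : nd 16388 = n49158 := ndS (p := 14194) (l := 8) rfl N14194 D49158
theorem N16389 : nd 16389 = n49159 := ndS (p := 14195) (l := 3) rfl N14195 D49159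
theorem N16390 : nd 16390 = n49160 := ndS (p := 14196) (l := 8) rfl N14196 D49160
theorem N16391 : nd 16391 = n49161 := ndS (p := 14197) (l := 3) rfl N14197 D49161
theorem N16392 : nd 16392 = n49162 := ndS (p := 14198) (l := 4) rfl N14198 D49162
theorem N16393 : nd 16393 = n49163 := ndS (p := 14203) (l := 9) rfl N14203 D49163
theorem N16394 : nd 16394 = n49164 := ndS (p := 14205) (l := 8) rfl N14205 D49164
theorem N16395 : nd 16395 = n49165 := ndS (p := 14206) (l := 9) rfl N14206 D49165
theorem N16396 : nd 16396 = n49166 := ndS (p := 14209) (l := 9) rfl N14209 D49166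
theorem N16397 : nd 16397 = n49167 := ndS (p := 14210) (l := 8) rfl N14210 D49167
theorem N16398 : nd 16398 = n49168 := ndS (p := 14211) (l := 8) rfl N14211 D49168
theorem N16399 : nd 16399 = n49169 := ndS (p := 14213) (l := 9) rfl N14213 D49169
theorem N16400 : nd 16400 = n49170 := ndS (p := 14214) (l := 8) rfl N14214 D49170
theorem N16401 : nd 16401 = n49171 := ndS (p := 14216) (l := 9) rfl N14216 D49171
theorem N16402 : nd 16402 = n49172 := ndS (p := 14218) (l := 8) rfl N14218 D49172
theorem N16403 : nd 16403 = n49173 := ndS (p := 14219) (l := 9) rfl N14219 D49173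
theorem N16404 : nd 16404 = n49174 := ndS (p := 14220) (l := 8) rfl N14220 D49174
theorem N16405 : nd 16405 = n49175 := ndS (p := 14222) (l := 7) rfl N14222 D49175
theorem N16406 : nd 16406 = n49176 := ndS (p := 14222) (l := 8) rfl N14222 D49176
theorem N16407 : nd 16407 = n49177 := ndS (p := 14223) (l := 3) rfl N14223 D49177
theorem N16408 : nd 16408 = n49178 := ndS (p := 14223) (l := 9) rfl N14223 D49178
theorem N16409 : nd 16409 = n49179 := ndS (p := 14224) (l := 8) rfl N14224 D49179
theorem N16410 : nd 16410 = n49180 := ndS (p := 14225) (l := 9) rfl N14225 D49180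
theorem N16411 : nd 16411 = n49181 := ndS (p := 14227) (l := 7) rfl N14227 D49181
theorem N16412 : nd 16412 = n49182 := ndS (p := 14227) (l := 8) rfl N14227 D49182
theorem N16413 : nd 16413 = n49183 := ndS (p := 14228) (l := 3) rfl N14228 D49183
theorem N16414 : nd 16414 = n49184 := ndS (p := 14228) (l := 9) rfl N14228 D49184
theorem N16415 : nd 16415 = n49185 := ndS (p := 14229) (l := 7) rfl N14229 D49185
theorem N16416 : nd 16416 = n49186 := ndS (p := 14229) (l := 8) rfl N14229 D49186
theorem N16417 : nd 16417 = n49187 := ndS (p := 14230) (l := 8) rfl N14230 D49187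
theorem N16418 : nd 16418 = n49188 := ndS (p := 14231) (l := 3) rfl N14231 D49188
theorem N16419 : nd 16419 = n49189 := ndS (p := 14231) (l := 9) rfl N14231 D49189
theorem N16420 : nd 16420 = n49190 := ndS (p := 14232) (l := 2) rfl N14232 D49190
theorem N16421 : nd 16421 = n49191 := ndS (p := 14232) (l := 4) rfl N14232 D49191
theorem N16422 : nd 16422 = n49192 := ndS (p := 14232) (l := 9) rfl N14232 D49192
theorem N16423 : nd 16423 = n49193 := ndS (p := 14234) (l := 9) rfl N14234 D49193
theorem N16424 : nd 16424 = n49194 := ndS (p := 14236) (l := 9) rfl N14236 D49194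
theorem N16425 : nd 16425 = n49195 := ndS (p := 14237) (l := 8) rfl N14237 D49195
theorem N16426 : nd 16426 = n49196 := ndS (p := 14239) (l := 6) rfl N14239 D49196
theorem N16427 : nd 16427 = n49197 := ndS (p := 14239) (l := 8) rfl N14239 D49197
theorem N16428 : nd 16428 = n49198 := ndS (p := 14240) (l := 9) rfl N14240 D49198
theorem N16429 : nd 16429 = n49199 := ndS (p := 14241) (l := 9) rfl N14241 D49199
theorem N16430 : nd 16430 = n49200 := ndS (p := 14243) (l := 9) rfl N14243 D49200
theorem N16431 : nd 16431 = n49201 := ndS (p := 14244) (l := 8) rfl N14244 D49201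
theorem N16432 : nd 16432 = n49202 := ndS (p := 14247) (l := 3) rfl N14247 D49202
theorem N16433 : nd 16433 = n49203 := ndS (p := 14247) (l := 9) rfl N14247 D49203
theorem N16434 : nd 16434 = n49204 := ndS (p := 14248) (l := 2) rfl N14248 D49204
theorem N16435 : nd 16435 = n49205 := ndS (p := 14248) (l := 4) rfl N14248 D49205
theorem N16436 : nd 16436 = n49206 := ndS (p := 14248) (l := 9) rfl N14248 D49206
theorem N16437 : nd 16437 = n49207 := ndS (p := 14250) (l := 8) rfl N14250 D49207
theorem N16438 : nd 16438 = n49208 := ndS (p := 14251) (l := 3) rfl N14251 D49208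
theorem N16439 : nd 16439 = n49209 := ndS (p := 14251) (l := 9) rfl N14251 D49209
theorem N16440 : nd 16440 = n49210 := ndS (p := 14252) (l := 3) rfl N14252 D49210
theorem N16441 : nd 16441 = n49211 := ndS (p := 14252) (l := 9) rfl N14252 D49211
theorem N16442 : nd 16442 = n49212 := ndS (p := 14253) (l := 9) rfl N14253 D49212
theorem N16443 : nd 16443 = n49213 := ndS (p := 14255) (l := 1) rfl N14255 D49213
theorem N16444 : nd 16444 = n49214 := ndS (p := 14255) (l := 9) rfl N14255 D49214
theorem N16445 : nd 16445 = n49215 := ndS (p := 14256) (l := 5) rfl N14256 D49215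
theorem N16446 : nd 16446 = n49216 := ndS (p := 14256) (l := 9) rfl N14256 D49216
theorem N16447 : nd 16447 = n49217 := ndS (p := 14257) (l := 8) rfl N14257 D49217
theorem N16448 : nd 16448 = n49218 := ndS (p := 14258) (l := 9) rfl N14258 D49218
theorem N16449 : nd 16449 = n49219 := ndS (p := 14260) (l := 8) rfl N14260 D49219
theorem N16450 : nd 16450 = n49220 := ndS (p := 14261) (l := 9) rfl N14261 D49220
theorem N16451 : nd 16451 = n49221 := ndS (p := 14262) (l := 8) rfl N14262 D49221
theorem N16452 : nd 16452 = n49222 := ndS (p := 14264) (l := 8) rfl N14264 D49222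
theorem N16453 : nd 16453 = n49223 := ndS (p := 14269) (l := 9) rfl N14269 D49223
theorem N16454 : nd 16454 = n49224 := ndS (p := 14271) (l := 8) rfl N14271 D49224
theorem N16455 : nd 16455 = n49225 := ndS (p := 14272) (l := 9) rfl N14272 D49225
theorem N16456 : nd 16456 = n49226 := ndS (p := 14273) (l := 8) rfl N14273 D49226
theorem N16457 : nd 16457 = n49227 := ndS (p := 14277) (l := 9) rfl N14277 D49227
theorem N16458 : nd 16458 = n49228 := ndS (p := 14278) (l := 8) rfl N14278 D49228
theorem N16459 : nd 16459 = n49229 := ndS (p := 14280) (l := 3) rfl N14280 D49229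
theorem N16460 : nd 16460 = n49230 := ndS (p := 14280) (l := 9) rfl N14280 D49230
theorem N16461 : nd 16461 = n49231 := ndS (p := 14282) (l := 3) rfl N14282 D49231
theorem N16462 : nd 16462 = n49232 := ndS (p := 14282) (l := 9) rfl N14282 D49232
theorem N16463 : nd 16463 = n49233 := ndS (p := 14283) (l := 2) rfl N14283 D49233
theorem N16464 : nd 16464 = n49234 := ndS (p := 14283) (l := 9) rfl N14283 D49234
theorem N16465 : nd 16465 = n49235 := ndS (p := 14286) (l := 8) rfl N14286 D49235
theorem N16466 : nd 16466 = n49236 := ndS (p := 14287) (l := 3) rfl N14287 D49236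
theorem N16467 : nd 16467 = n49237 := ndS (p := 14287) (l := 9) rfl N14287 D49237
theorem N16468 : nd 16468 = n49238 := ndS (p := 14288) (l := 2) rfl N14288 D49238
theorem N16469 : nd 16469 = n49239 := ndS (p := 14288) (l := 4) rfl N14288 D49239
theorem N16470 : nd 16470 = n49240 := ndS (p := 14288) (l := 9) rfl N14288 D49240
theorem N16471 : nd 16471 = n49241 := ndS (p := 14290) (l := 6) rfl N14290 D49241
theorem N16472 : nd 16472 = n49242 := ndS (p := 14291) (l := 3) rfl N14291 D49242
theorem N16473 : nd 16473 = n49243 := ndS (p := 14291) (l := 9) rfl N14291 D49243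
theorem N16474 : nd 16474 = n49244 := ndS (p := 14292) (l := 3) rfl N14292 D49244
theorem N16475 : nd 16475 = n49245 := ndS (p := 14292) (l := 9) rfl N14292 D49245
theorem N16476 : nd 16476 = n49246 := ndS (p := 14293) (l := 2) rfl N14293 D49246
theorem N16477 : nd 16477 = n49247 := ndS (p := 14293) (l := 4) rfl N14293 D49247
theorem N16478 : nd 16478 = n49248 := ndS (p := 14293) (l := 9) rfl N14293 D49248
theorem N16479 : nd 16479 = n49249 := ndS (p := 14295) (l := 1) rfl N14295 D49249
theorem N16480 : nd 16480 = n49250 := ndS (p := 14295) (l := 4) rfl N14295 D49250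
theorem N16481 : nd 16481 = n49251 := ndS (p := 14295) (l := 9) rfl N14295 D49251
theorem N16482 : nd 16482 = n49252 := ndS (p := 14296) (l := 9) rfl N14296 D49252
theorem N16483 : nd 16483 = n49253 := ndS (p := 14297) (l := 8) rfl N14297 D49253
theorem N16484 : nd 16484 = n49254 := ndS (p := 14299) (l := 5) rfl N14299 D49254
theorem N16485 : nd 16485 = n49255 := ndS (p := 14299) (l := 9) rfl N14299 D49255
theorem N16486 : nd 16486 = n49256 := ndS (p := 14300) (l := 8) rfl N14300 D49256
theorem N16487 : nd 16487 = n49257 := ndS (p := 14301) (l := 8) rfl N14301 D49257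
theorem N16488 : nd 16488 = n49258 := ndS (p := 14306) (l := 1) rfl N14306 D49258
theorem N16489 : nd 16489 = n49259 := ndS (p := 14306) (l := 9) rfl N14306 D49259
theorem N16490 : nd 16490 = n49260 := ndS (p := 14307) (l := 8) rfl N14307 D49260
theorem N16491 : nd 16491 = n49261 := ndS (p := 14308) (l := 9) rfl N14308 D49261
theorem N16492 : nd 16492 = n49262 := ndS (p := 14309) (l := 8) rfl N14309 D49262
theorem N16493 : nd 16493 = n49263 := ndS (p := 14311) (l := 8) rfl N14311 D49263
theorem N16494 : nd 16494 = n49264 := ndS (p := 14312) (l := 3) rfl N14312 D49264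
theorem N16495 : nd 16495 = n49265 := ndS (p := 14312) (l := 9) rfl N14312 D49265
theorem N16496 : nd 16496 = n49266 := ndS (p := 14313) (l := 3) rfl N14313 D49266
theorem N16497 : nd 16497 = n49267 := ndS (p := 14313) (l := 9) rfl N14313 D49267
theorem N16498 : nd 16498 = n49268 := ndS (p := 14314) (l := 2) rfl N14314 D49268
theorem N16499 : nd 16499 = n49269 := ndS (p := 14314) (l := 4) rfl N14314 D49269
theorem N16500 : nd 16500 = n49270 := ndS (p := 14314) (l := 9) rfl N14314 D49270
theorem N16501 : nd 16501 = n49271 := ndS (p := 14316) (l := 1) rfl N14316 D49271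
theorem N16502 : nd 16502 = n49272 := ndS (p := 14316) (l := 4) rfl N14316 D49272
theorem N16503 : nd 16503 = n49273 := ndS (p := 14316) (l := 9) rfl N14316 D49273
theorem N16504 : nd 16504 = n49274 := ndS (p := 14317) (l := 5) rfl N14317 D49274
theorem N16505 : nd 16505 = n49275 := ndS (p := 14317) (l := 9) rfl N14317 D49275
theorem N16506 : nd 16506 = n49276 := ndS (p := 14318) (l := 8) rfl N14318 D49276
theorem N16507 : nd 16507 = n49277 := ndS (p := 14320) (l := 4) rfl N14320 D49277
theorem N16508 : nd 16508 = n49278 := ndS (p := 14320) (l := 9) rfl N14320 D49278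
theorem N16509 : nd 16509 = n49279 := ndS (p := 14322) (l := 9) rfl N14322 D49279
theorem N16510 : nd 16510 = n49280 := ndS (p := 14324) (l := 4) rfl N14324 D49280
theorem N16511 : nd 16511 = n49281 := ndS (p := 14324) (l := 9) rfl N14324 D49281
theorem N16512 : nd 16512 = n49282 := ndS (p := 14325) (l := 9) rfl N14325 D49282
theorem N16513 : nd 16513 = n49283 := ndS (p := 14326) (l := 8) rfl N14326 D49283
theorem N16514 : nd 16514 = n49284 := ndS (p := 14327) (l := 0) rfl N14327 D49284
theorem N16515 : nd 16515 = n49285 := ndS (p := 14327) (l := 4) rfl N14327 D49285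
theorem N16516 : nd 16516 = n49286 := ndS (p := 14327) (l := 9) rfl N14327 D49286
theorem N16517 : nd 16517 = n49287 := ndS (p := 14328) (l := 5) rfl N14328 D49287
theorem N16518 : nd 16518 = n49288 := ndS (p := 14328) (l := 9) rfl N14328 D49288
theorem N16519 : nd 16519 = n49289 := ndS (p := 14329) (l := 8) rfl N14329 D49289
theorem N16520 : nd 16520 = n49290 := ndS (p := 14330) (l := 6) rfl N14330 D49290
theorem N16521 : nd 16521 = n49291 := ndS (p := 14330) (l := 9) rfl N14330 D49291
theorem N16522 : nd 16522 = n49292 := ndS (p := 14331) (l := 8) rfl N14331 D49292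
theorem N16523 : nd 16523 = n49293 := ndS (p := 14333) (l := 8) rfl N14333 D49293
theorem N16524 : nd 16524 = n49294 := ndS (p := 14335) (l := 7) rfl N14335 D49294
theorem N16525 : nd 16525 = n49295 := ndS (p := 14335) (l := 9) rfl N14335 D49295
theorem N16526 : nd 16526 = n49296 := ndS (p := 14336) (l := 8) rfl N14336 D49296
theorem N16527 : nd 16527 = n49297 := ndS (p := 14337) (l := 3) rfl N14337 D49297
theorem N16528 : nd 16528 = n49298 := ndS (p := 14341) (l := 8) rfl N14341 D49298
theorem N16529 : nd 16529 = n49299 := ndS (p := 14343) (l := 9) rfl N14343 D49299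
theorem N16530 : nd 16530 = n49300 := ndS (p := 14344) (l := 8) rfl N14344 D49300
theorem N16531 : nd 16531 = n49301 := ndS (p := 14345) (l := 3) rfl N14345 D49301
theorem N16532 : nd 16532 = n49302 := ndS (p := 14346) (l := 8) rfl N14346 D49302
theorem N16533 : nd 16533 = n49303 := ndS (p := 14348) (l := 8) rfl N14348 D49303
theorem N16534 : nd 16534 = n49304 := ndS (p := 14349) (l := 9) rfl N14349 D49304
theorem N16535 : nd 16535 = n49305 := ndS (p := 14351) (l := 8) rfl N14351 D49305
theorem N16536 : nd 16536 = n49306 := ndS (p := 14353) (l := 9) rfl N14353 D49306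
theorem N16537 : nd 16537 = n49307 := ndS (p := 14355) (l := 8) rfl N14355 D49307
theorem N16538 : nd 16538 = n49308 := ndS (p := 14357) (l := 5) rfl N14357 D49308
theorem N16539 : nd 16539 = n49309 := ndS (p := 14357) (l := 9) rfl N14357 D49309
theorem N16540 : nd 16540 = n49310 := ndS (p := 14358) (l := 8) rfl N14358 D49310
theorem N16541 : nd 16541 = n49311 := ndS (p := 14359) (l := 9) rfl N14359 D49311
theorem N16542 : nd 16542 = n49312 := ndS (p := 14360) (l := 8) rfl N14360 D49312
theorem N16543 : nd 16543 = n49313 := ndS (p := 14362) (l := 8) rfl N14362 D49313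
theorem N16544 : nd 16544 = n49314 := ndS (p := 14363) (l := 3) rfl N14363 D49314
theorem N16545 : nd 16545 = n49315 := ndS (p := 14364) (l := 9) rfl N14364 D49315
theorem N16546 : nd 16546 = n49316 := ndS (p := 14366) (l := 9) rfl N14366 D49316
theorem N16547 : nd 16547 = n49317 := ndS (p := 14367) (l := 8) rfl N14367 D49317
theorem N16548 : nd 16548 = n49318 := ndS (p := 14368) (l := 9) rfl N14368 D49318
theorem N16549 : nd 16549 = n49319 := ndS (p := 14369) (l := 8) rfl N14369 D49319
theorem N16550 : nd 16550 = n49320 := ndS (p := 14371) (l := 9) rfl N14371 D49320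
theorem N16551 : nd 16551 = n49321 := ndS (p := 14373) (l := 9) rfl N14373 D49321
theorem N16552 : nd 16552 = n49322 := ndS (p := 14374) (l := 9) rfl N14374 D49322
theorem N16553 : nd 16553 = n49323 := ndS (p := 14375) (l := 8) rfl N14375 D49323
theorem N16554 : nd 16554 = n49324 := ndS (p := 14376) (l := 9) rfl N14376 D49324
theorem N16555 : nd 16555 = n49325 := ndS (p := 14377) (l := 8) rfl N14377 D49325
theorem N16556 : nd 16556 = n49326 := ndS (p := 14378) (l := 9) rfl N14378 D49326
theorem N16557 : nd 16557 = n49327 := ndS (p := 14379) (l := 8) rfl N14379 D49327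
theorem N16558 : nd 16558 = n49328 := ndS (p := 14381) (l := 9) rfl N14381 D49328
theorem N16559 : nd 16559 = n49329 := ndS (p := 14382) (l := 8) rfl N14382 D49329
theorem N16560 : nd 16560 = n49330 := ndS (p := 14383) (l := 3) rfl N14383 D49330
theorem N16561 : nd 16561 = n49331 := ndS (p := 14384) (l := 8) rfl N14384 D49331
theorem N16562 : nd 16562 = n49332 := ndS (p := 14385) (l := 9) rfl N14385 D49332
theorem N16563 : nd 16563 = n49333 := ndS (p := 14386) (l := 7) rfl N14386 D49333
theorem N16564 : nd 16564 = n49334 := ndS (p := 14386) (l := 8) rfl N14386 D49334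
theorem N16565 : nd 16565 = n49335 := ndS (p := 14387) (l := 8) rfl N14387 D49335
theorem N16566 : nd 16566 = n49336 := ndS (p := 14388) (l := 3) rfl N14388 D49336
theorem N16567 : nd 16567 = n49337 := ndS (p := 14388) (l := 9) rfl N14388 D49337
theorem N16568 : nd 16568 = n49338 := ndS (p := 14389) (l := 9) rfl N14389 D49338
theorem N16569 : nd 16569 = n49339 := ndS (p := 14391) (l := 9) rfl N14391 D49339
theorem N16570 : nd 16570 = n49340 := ndS (p := 14393) (l := 7) rfl N14393 D49340
theorem N16571 : nd 16571 = n49341 := ndS (p := 14393) (l := 8) rfl N14393 D49341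
theorem N16572 : nd 16572 = n49342 := ndS (p := 14394) (l := 8) rfl N14394 D49342
theorem N16573 : nd 16573 = n49343 := ndS (p := 14395) (l := 3) rfl N14395 D49343
theorem N16574 : nd 16574 = n49344 := ndS (p := 14395) (l := 9) rfl N14395 D49344
theorem N16575 : nd 16575 = n49345 := ndS (p := 14396) (l := 2) rfl N14396 D49345
theorem N16576 : nd 16576 = n49346 := ndS (p := 14396) (l := 4) rfl N14396 D49346
theorem N16577 : nd 16577 = n49347 := ndS (p := 14396) (l := 9) rfl N14396 D49347
theorem N16578 : nd 16578 = n49348 := ndS (p := 14398) (l := 6) rfl N14398 D49348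
theorem N16579 : nd 16579 = n49349 := ndS (p := 14398) (l := 8) rfl N14398 D49349
theorem N16580 : nd 16580 = n49350 := ndS (p := 14399) (l := 3) rfl N14399 D49350
theorem N16581 : nd 16581 = n49351 := ndS (p := 14399) (l := 9) rfl N14399 D49351
theorem N16582 : nd 16582 = n49352 := ndS (p := 14400) (l := 3) rfl N14400 D49352
theorem N16583 : nd 16583 = n49353 := ndS (p := 14400) (l := 9) rfl N14400 D49353
theorem N16584 : nd 16584 = n49354 := ndS (p := 14401) (l := 2) rfl N14401 D49354
theorem N16585 : nd 16585 = n49355 := ndS (p := 14401) (l := 4) rfl N14401 D49355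
theorem N16586 : nd 16586 = n49356 := ndS (p := 14401) (l := 9) rfl N14401 D49356
theorem N16587 : nd 16587 = n49357 := ndS (p := 14403) (l := 1) rfl N14403 D49357
theorem N16588 : nd 16588 = n49358 := ndS (p := 14403) (l := 9) rfl N14403 D49358
theorem N16589 : nd 16589 = n49359 := ndS (p := 14404) (l := 9) rfl N14404 D49359
theorem N16590 : nd 16590 = n49360 := ndS (p := 14405) (l := 8) rfl N14405 D49360
theorem N16591 : nd 16591 = n49361 := ndS (p := 14407) (l := 5) rfl N14407 D49361
theorem N16592 : nd 16592 = n49362 := ndS (p := 14407) (l := 9) rfl N14407 D49362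
theorem N16593 : nd 16593 = n49363 := ndS (p := 14408) (l := 8) rfl N14408 D49363
theorem N16594 : nd 16594 = n49364 := ndS (p := 14409) (l := 8) rfl N14409 D49364
theorem N16595 : nd 16595 = n49365 := ndS (p := 14411) (l := 8) rfl N14411 D49365
theorem N16596 : nd 16596 = n49366 := ndS (p := 14412) (l := 9) rfl N14412 D49366
theorem N16597 : nd 16597 = n49367 := ndS (p := 14413) (l := 2) rfl N14413 D49367
theorem N16598 : nd 16598 = n49368 := ndS (p := 14413) (l := 9) rfl N14413 D49368
theorem N16599 : nd 16599 = n49369 := ndS (p := 14416) (l := 9) rfl N14416 D49369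
theorem N16600 : nd 16600 = n49370 := ndS (p := 14417) (l := 8) rfl N14417 D49370
theorem N16601 : nd 16601 = n49371 := ndS (p := 14418) (l := 9) rfl N14418 D49371
theorem N16602 : nd 16602 = n49372 := ndS (p := 14419) (l := 8) rfl N14419 D49372
theorem N16603 : nd 16603 = n49373 := ndS (p := 14421) (l := 8) rfl N14421 D49373
theorem N16604 : nd 16604 = n49374 := ndS (p := 14422) (l := 8) rfl N14422 D49374
theorem N16605 : nd 16605 = n49375 := ndS (p := 14423) (l := 3) rfl N14423 D49375
theorem N16606 : nd 16606 = n49376 := ndS (p := 14423) (l := 9) rfl N14423 D49376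
theorem N16607 : nd 16607 = n49377 := ndS (p := 14424) (l := 3) rfl N14424 D49377
theorem N16608 : nd 16608 = n49378 := ndS (p := 14424) (l := 9) rfl N14424 D49378
theorem N16609 : nd 16609 = n49379 := ndS (p := 14425) (l := 2) rfl N14425 D49379
theorem N16610 : nd 16610 = n49380 := ndS (p := 14425) (l := 4) rfl N14425 D49380
theorem N16611 : nd 16611 = n49381 := ndS (p := 14425) (l := 9) rfl N14425 D49381
theorem N16612 : nd 16612 = n49382 := ndS (p := 14427) (l := 1) rfl N14427 D49382
theorem N16613 : nd 16613 = n49383 := ndS (p := 14427) (l := 4) rfl N14427 D49383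
theorem N16614 : nd 16614 = n49384 := ndS (p := 14427) (l := 9) rfl N14427 D49384
theorem N16615 : nd 16615 = n49385 := ndS (p := 14428) (l := 5) rfl N14428 D49385
theorem N16616 : nd 16616 = n49386 := ndS (p := 14428) (l := 9) rfl N14428 D49386
theorem N16617 : nd 16617 = n49387 := ndS (p := 14429) (l := 8) rfl N14429 D49387
theorem N16618 : nd 16618 = n49388 := ndS (p := 14430) (l := 8) rfl N14430 D49388
theorem N16619 : nd 16619 = n49389 := ndS (p := 14431) (l := 3) rfl N14431 D49389
theorem N16620 : nd 16620 = n49390 := ndS (p := 14431) (l := 9) rfl N14431 D49390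
theorem N16621 : nd 16621 = n49391 := ndS (p := 14432) (l := 2) rfl N14432 D49391
theorem N16622 : nd 16622 = n49392 := ndS (p := 14432) (l := 4) rfl N14432 D49392
theorem N16623 : nd 16623 = n49393 := ndS (p := 14432) (l := 9) rfl N14432 D49393
theorem N16624 : nd 16624 = n49394 := ndS (p := 14434) (l := 9) rfl N14434 D49394
theorem N16625 : nd 16625 = n49395 := ndS (p := 14436) (l := 1) rfl N14436 D49395
theorem N16626 : nd 16626 = n49396 := ndS (p := 14436) (l := 9) rfl N14436 D49396
theorem N16627 : nd 16627 = n49397 := ndS (p := 14437) (l := 5) rfl N14437 D49397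
theorem N16628 : nd 16628 = n49398 := ndS (p := 14437) (l := 9) rfl N14437 D49398
theorem N16629 : nd 16629 = n49399 := ndS (p := 14438) (l := 8) rfl N14438 D49399
theorem N16630 : nd 16630 = n49400 := ndS (p := 14439) (l := 0) rfl N14439 D49400
theorem N16631 : nd 16631 = n49401 := ndS (p := 14439) (l := 4) rfl N14439 D49401
theorem N16632 : nd 16632 = n49402 := ndS (p := 14439) (l := 9) rfl N14439 D49402
theorem N16633 : nd 16633 = n49403 := ndS (p := 14440) (l := 5) rfl N14440 D49403
theorem N16634 : nd 16634 = n49404 := ndS (p := 14440) (l := 9) rfl N14440 D49404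
theorem N16635 : nd 16635 = n49405 := ndS (p := 14441) (l := 8) rfl N14441 D49405
theorem N16636 : nd 16636 = n49406 := ndS (p := 14442) (l := 6) rfl N14442 D49406
theorem N16637 : nd 16637 = n49407 := ndS (p := 14442) (l := 9) rfl N14442 D49407
theorem N16638 : nd 16638 = n49408 := ndS (p := 14443) (l := 8) rfl N14443 D49408
theorem N16639 : nd 16639 = n49409 := ndS (p := 14445) (l := 8) rfl N14445 D49409
theorem N16640 : nd 16640 = n49410 := ndS (p := 14446) (l := 6) rfl N14446 D49410
theorem N16641 : nd 16641 = n49411 := ndS (p := 14446) (l := 9) rfl N14446 D49411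
theorem N16642 : nd 16642 = n49412 := ndS (p := 14447) (l := 8) rfl N14447 D49412
theorem N16643 : nd 16643 = n49413 := ndS (p := 14449) (l := 9) rfl N14449 D49413
theorem N16644 : nd 16644 = n49414 := ndS (p := 14450) (l := 8) rfl N14450 D49414
theorem N16645 : nd 16645 = n49415 := ndS (p := 14451) (l := 3) rfl N14451 D49415
theorem N16646 : nd 16646 = n49416 := ndS (p := 14452) (l := 8) rfl N14452 D49416
theorem N16647 : nd 16647 = n49417 := ndS (p := 14454) (l := 9) rfl N14454 D49417
theorem N16648 : nd 16648 = n49418 := ndS (p := 14455) (l := 4) rfl N14455 D49418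
theorem N16649 : nd 16649 = n49419 := ndS (p := 14455) (l := 9) rfl N14455 D49419
theorem N16650 : nd 16650 = n49420 := ndS (p := 14457) (l := 1) rfl N14457 D49420
theorem N16651 : nd 16651 = n49421 := ndS (p := 14457) (l := 4) rfl N14457 D49421
theorem N16652 : nd 16652 = n49422 := ndS (p := 14457) (l := 9) rfl N14457 D49422
theorem N16653 : nd 16653 = n49423 := ndS (p := 14458) (l := 9) rfl N14458 D49423
theorem N16654 : nd 16654 = n49424 := ndS (p := 14459) (l := 8) rfl N14459 D49424
theorem N16655 : nd 16655 = n49425 := ndS (p := 14460) (l := 8) rfl N14460 D49425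
theorem N16656 : nd 16656 = n49426 := ndS (p := 14461) (l := 9) rfl N14461 D49426
theorem N16657 : nd 16657 = n49427 := ndS (p := 14462) (l := 8) rfl N14462 D49427
theorem N16658 : nd 16658 = n49428 := ndS (p := 14464) (l := 9) rfl N14464 D49428
theorem N16659 : nd 16659 = n49429 := ndS (p := 14465) (l := 8) rfl N14465 D49429
theorem N16660 : nd 16660 = n49430 := ndS (p := 14466) (l := 3) rfl N14466 D49430
theorem N16661 : nd 16661 = n49431 := ndS (p := 14468) (l := 9) rfl N14468 D49431
theorem N16662 : nd 16662 = n49432 := ndS (p := 14469) (l := 8) rfl N14469 D49432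
theorem N16663 : nd 16663 = n49433 := ndS (p := 14470) (l := 0) rfl N14470 D49433
theorem N16664 : nd 16664 = n49434 := ndS (p := 14470) (l := 4) rfl N14470 D49434
theorem N16665 : nd 16665 = n49435 := ndS (p := 14470) (l := 9) rfl N14470 D49435
theorem N16666 : nd 16666 = n49436 := ndS (p := 14471) (l := 9) rfl N14471 D49436
theorem N16667 : nd 16667 = n49437 := ndS (p := 14472) (l := 8) rfl N14472 D49437
theorem N16668 : nd 16668 = n49438 := ndS (p := 14473) (l := 8) rfl N14473 D49438
theorem N16669 : nd 16669 = n49439 := ndS (p := 14475) (l := 9) rfl N14475 D49439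
theorem N16670 : nd 16670 = n49440 := ndS (p := 14478) (l := 9) rfl N14478 D49440
theorem N16671 : nd 16671 = n49441 := ndS (p := 14479) (l := 8) rfl N14479 D49441
theorem N16672 : nd 16672 = n49442 := ndS (p := 14481) (l := 8) rfl N14481 D49442
theorem N16673 : nd 16673 = n49443 := ndS (p := 14482) (l := 3) rfl N14482 D49443
theorem N16674 : nd 16674 = n49444 := ndS (p := 14485) (l := 8) rfl N14485 D49444
theorem N16675 : nd 16675 = n49445 := ndS (p := 14486) (l := 8) rfl N14486 D49445
theorem N16676 : nd 16676 = n49446 := ndS (p := 14487) (l := 3) rfl N14487 D49446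
theorem N16677 : nd 16677 = n49447 := ndS (p := 14487) (l := 9) rfl N14487 D49447
theorem N16678 : nd 16678 = n49448 := ndS (p := 14488) (l := 9) rfl N14488 D49448
theorem N16679 : nd 16679 = n49449 := ndS (p := 14490) (l := 8) rfl N14490 D49449
theorem N16680 : nd 16680 = n49450 := ndS (p := 14491) (l := 3) rfl N14491 D49450
theorem N16681 : nd 16681 = n49451 := ndS (p := 14491) (l := 9) rfl N14491 D49451
theorem N16682 : nd 16682 = n49452 := ndS (p := 14492) (l := 3) rfl N14492 D49452
theorem N16683 : nd 16683 = n49453 := ndS (p := 14492) (l := 9) rfl N14492 D49453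
theorem N16684 : nd 16684 = n49454 := ndS (p := 14493) (l := 2) rfl N14493 D49454
theorem N16685 : nd 16685 = n49455 := ndS (p := 14493) (l := 9) rfl N14493 D49455
theorem N16686 : nd 16686 = n49456 := ndS (p := 14495) (l := 1) rfl N14495 D49456
theorem N16687 : nd 16687 = n49457 := ndS (p := 14495) (l := 9) rfl N14495 D49457
theorem N16688 : nd 16688 = n49458 := ndS (p := 14496) (l := 8) rfl N14496 D49458
theorem N16689 : nd 16689 = n49459 := ndS (p := 14498) (l := 7) rfl N14498 D49459
theorem N16690 : nd 16690 = n49460 := ndS (p := 14498) (l := 8) rfl N14498 D49460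
theorem N16691 : nd 16691 = n49461 := ndS (p := 14499) (l := 8) rfl N14499 D49461
theorem N16692 : nd 16692 = n49462 := ndS (p := 14500) (l := 3) rfl N14500 D49462
theorem N16693 : nd 16693 = n49463 := ndS (p := 14500) (l := 9) rfl N14500 D49463
theorem N16694 : nd 16694 = n49464 := ndS (p := 14501) (l := 3) rfl N14501 D49464
theorem N16695 : nd 16695 = n49465 := ndS (p := 14501) (l := 9) rfl N14501 D49465
theorem N16696 : nd 16696 = n49466 := ndS (p := 14502) (l := 2) rfl N14502 D49466
theorem N16697 : nd 16697 = n49467 := ndS (p := 14502) (l := 4) rfl N14502 D49467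
theorem N16698 : nd 16698 = n49468 := ndS (p := 14502) (l := 9) rfl N14502 D49468
theorem N16699 : nd 16699 = n49469 := ndS (p := 14504) (l := 1) rfl N14504 D49469
theorem N16700 : nd 16700 = n49470 := ndS (p := 14504) (l := 4) rfl N14504 D49470
theorem N16701 : nd 16701 = n49471 := ndS (p := 14504) (l := 9) rfl N14504 D49471
theorem N16702 : nd 16702 = n49472 := ndS (p := 14505) (l := 9) rfl N14505 D49472
theorem N16703 : nd 16703 = n49473 := ndS (p := 14506) (l := 8) rfl N14506 D49473
theorem N16704 : nd 16704 = n49474 := ndS (p := 14507) (l := 8) rfl N14507 D49474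
theorem N16705 : nd 16705 = n49475 := ndS (p := 14508) (l := 3) rfl N14508 D49475
theorem N16706 : nd 16706 = n49476 := ndS (p := 14508) (l := 9) rfl N14508 D49476
theorem N16707 : nd 16707 = n49477 := ndS (p := 14509) (l := 2) rfl N14509 D49477
theorem N16708 : nd 16708 = n49478 := ndS (p := 14509) (l := 4) rfl N14509 D49478
theorem N16709 : nd 16709 = n49479 := ndS (p := 14509) (l := 9) rfl N14509 D49479
theorem N16710 : nd 16710 = n49480 := ndS (p := 14511) (l := 2) rfl N14511 D49480
theorem N16711 : nd 16711 = n49481 := ndS (p := 14511) (l := 4) rfl N14511 D49481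
theorem N16712 : nd 16712 = n49482 := ndS (p := 14511) (l := 9) rfl N14511 D49482
theorem N16713 : nd 16713 = n49483 := ndS (p := 14513) (l := 1) rfl N14513 D49483
theorem N16714 : nd 16714 = n49484 := ndS (p := 14513) (l := 4) rfl N14513 D49484
theorem N16715 : nd 16715 = n49485 := ndS (p := 14513) (l := 9) rfl N14513 D49485
theorem N16716 : nd 16716 = n49486 := ndS (p := 14514) (l := 5) rfl N14514 D49486
theorem N16717 : nd 16717 = n49487 := ndS (p := 14514) (l := 9) rfl N14514 D49487
theorem N16718 : nd 16718 = n49488 := ndS (p := 14515) (l := 8) rfl N14515 D49488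
theorem N16719 : nd 16719 = n49489 := ndS (p := 14516) (l := 0) rfl N14516 D49489
theorem N16720 : nd 16720 = n49490 := ndS (p := 14516) (l := 4) rfl N14516 D49490
theorem N16721 : nd 16721 = n49491 := ndS (p := 14516) (l := 9) rfl N14516 D49491
theorem N16722 : nd 16722 = n49492 := ndS (p := 14517) (l := 9) rfl N14517 D49492
theorem N16723 : nd 16723 = n49493 := ndS (p := 14518) (l := 8) rfl N14518 D49493
theorem N16724 : nd 16724 = n49494 := ndS (p := 14519) (l := 8) rfl N14519 D49494
theorem N16725 : nd 16725 = n49495 := ndS (p := 14521) (l := 5) rfl N14521 D49495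
theorem N16726 : nd 16726 = n49496 := ndS (p := 14521) (l := 9) rfl N14521 D49496
theorem N16727 : nd 16727 = n49497 := ndS (p := 14522) (l := 8) rfl N14522 D49497
theorem N16728 : nd 16728 = n49498 := ndS (p := 14523) (l := 9) rfl N14523 D49498
theorem N16729 : nd 16729 = n49499 := ndS (p := 14524) (l := 8) rfl N14524 D49499
theorem N16730 : nd 16730 = n49500 := ndS (p := 14526) (l := 3) rfl N14526 D49500
theorem N16731 : nd 16731 = n49501 := ndS (p := 14527) (l := 9) rfl N14527 D49501
theorem N16732 : nd 16732 = n49502 := ndS (p := 14528) (l := 2) rfl N14528 D49502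
theorem N16733 : nd 16733 = n49503 := ndS (p := 14528) (l := 4) rfl N14528 D49503
theorem N16734 : nd 16734 = n49504 := ndS (p := 14528) (l := 9) rfl N14528 D49504
theorem N16735 : nd 16735 = n49505 := ndS (p := 14530) (l := 1) rfl N14530 D49505
theorem N16736 : nd 16736 = n49506 := ndS (p := 14530) (l := 9) rfl N14530 D49506
theorem N16737 : nd 16737 = n49507 := ndS (p := 14531) (l := 9) rfl N14531 D49507
theorem N16738 : nd 16738 = n49508 := ndS (p := 14532) (l := 8) rfl N14532 D49508
theorem N16739 : nd 16739 = n49509 := ndS (p := 14533) (l := 1) rfl N14533 D49509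
theorem N16740 : nd 16740 = n49510 := ndS (p := 14533) (l := 9) rfl N14533 D49510
theorem N16741 : nd 16741 = n49511 := ndS (p := 14534) (l := 8) rfl N14534 D49511
theorem N16742 : nd 16742 = n49512 := ndS (p := 14535) (l := 0) rfl N14535 D49512
theorem N16743 : nd 16743 = n49513 := ndS (p := 14535) (l := 9) rfl N14535 D49513
theorem N16744 : nd 16744 = n49514 := ndS (p := 14536) (l := 8) rfl N14536 D49514
theorem N16745 : nd 16745 = n49515 := ndS (p := 14538) (l := 9) rfl N14538 D49515
theorem N16746 : nd 16746 = n49516 := ndS (p := 14539) (l := 8) rfl N14539 D49516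
theorem N16747 : nd 16747 = n49517 := ndS (p := 14540) (l := 3) rfl N14540 D49517
theorem N16748 : nd 16748 = n49518 := ndS (p := 14541) (l := 8) rfl N14541 D49518
theorem N16749 : nd 16749 = n49519 := ndS (p := 14542) (l := 3) rfl N14542 D49519
theorem N16750 : nd 16750 = n49520 := ndS (p := 14542) (l := 9) rfl N14542 D49520
theorem N16751 : nd 16751 = n49521 := ndS (p := 14543) (l := 8) rfl N14543 D49521
theorem N16752 : nd 16752 = n49522 := ndS (p := 14544) (l := 3) rfl N14544 D49522
theorem N16753 : nd 16753 = n49523 := ndS (p := 14544) (l := 9) rfl N14544 D49523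
theorem N16754 : nd 16754 = n49524 := ndS (p := 14545) (l := 2) rfl N14545 D49524
theorem N16755 : nd 16755 = n49525 := ndS (p := 14545) (l := 4) rfl N14545 D49525
theorem N16756 : nd 16756 = n49526 := ndS (p := 14545) (l := 9) rfl N14545 D49526
theorem N16757 : nd 16757 = n49527 := ndS (p := 14547) (l := 2) rfl N14547 D49527
theorem N16758 : nd 16758 = n49528 := ndS (p := 14547) (l := 4) rfl N14547 D49528
theorem N16759 : nd 16759 = n49529 := ndS (p := 14547) (l := 9) rfl N14547 D49529
theorem N16760 : nd 16760 = n49530 := ndS (p := 14549) (l := 1) rfl N14549 D49530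
theorem N16761 : nd 16761 = n49531 := ndS (p := 14549) (l := 4) rfl N14549 D49531
theorem N16762 : nd 16762 = n49532 := ndS (p := 14549) (l := 9) rfl N14549 D49532
theorem N16763 : nd 16763 = n49533 := ndS (p := 14550) (l := 5) rfl N14550 D49533
theorem N16764 : nd 16764 = n49534 := ndS (p := 14550) (l := 9) rfl N14550 D49534
theorem N16765 : nd 16765 = n49535 := ndS (p := 14551) (l := 8) rfl N14551 D49535
theorem N16766 : nd 16766 = n49536 := ndS (p := 14552) (l := 9) rfl N14552 D49536
theorem N16767 : nd 16767 = n49537 := ndS (p := 14553) (l := 9) rfl N14553 D49537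
theorem N16768 : nd 16768 = n49538 := ndS (p := 14554) (l := 8) rfl N14554 D49538
theorem N16769 : nd 16769 = n49539 := ndS (p := 14555) (l := 6) rfl N14555 D49539
theorem N16770 : nd 16770 = n49540 := ndS (p := 14555) (l := 9) rfl N14555 D49540
theorem N16771 : nd 16771 = n49541 := ndS (p := 14556) (l := 8) rfl N14556 D49541
theorem N16772 : nd 16772 = n49542 := ndS (p := 14558) (l := 3) rfl N14558 D49542
theorem N16773 : nd 16773 = n49543 := ndS (p := 14558) (l := 9) rfl N14558 D49543
theorem N16774 : nd 16774 = n49544 := ndS (p := 14559) (l := 2) rfl N14559 D49544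
theorem N16775 : nd 16775 = n49545 := ndS (p := 14559) (l := 4) rfl N14559 D49545
theorem N16776 : nd 16776 = n49546 := ndS (p := 14559) (l := 9) rfl N14559 D49546
theorem N16777 : nd 16777 = n49547 := ndS (p := 14561) (l := 1) rfl N14561 D49547
theorem N16778 : nd 16778 = n49548 := ndS (p := 14561) (l := 4) rfl N14561 D49548
theorem N16779 : nd 16779 = n49549 := ndS (p := 14561) (l := 9) rfl N14561 D49549
theorem N16780 : nd 16780 = n49550 := ndS (p := 14562) (l := 5) rfl N14562 D49550
theorem N16781 : nd 16781 = n49551 := ndS (p := 14562) (l := 9) rfl N14562 D49551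
theorem N16782 : nd 16782 = n49552 := ndS (p := 14563) (l := 8) rfl N14563 D49552
theorem N16783 : nd 16783 = n49553 := ndS (p := 14564) (l := 4) rfl N14564 D49553
theorem N16784 : nd 16784 = n49554 := ndS (p := 14564) (l := 9) rfl N14564 D49554
theorem N16785 : nd 16785 = n49555 := ndS (p := 14565) (l := 5) rfl N14565 D49555
theorem N16786 : nd 16786 = n49556 := ndS (p := 14565) (l := 9) rfl N14565 D49556
theorem N16787 : nd 16787 = n49557 := ndS (p := 14566) (l := 8) rfl N14566 D49557
theorem N16788 : nd 16788 = n49558 := ndS (p := 14567) (l := 0) rfl N14567 D49558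
theorem N16789 : nd 16789 = n49559 := ndS (p := 14567) (l := 4) rfl N14567 D49559
theorem N16790 : nd 16790 = n49560 := ndS (p := 14567) (l := 9) rfl N14567 D49560
theorem N16791 : nd 16791 = n49561 := ndS (p := 14568) (l := 5) rfl N14568 D49561
theorem N16792 : nd 16792 = n49562 := ndS (p := 14568) (l := 9) rfl N14568 D49562
theorem N16793 : nd 16793 = n49563 := ndS (p := 14569) (l := 8) rfl N14569 D49563
theorem N16794 : nd 16794 = n49564 := ndS (p := 14570) (l := 6) rfl N14570 D49564
theorem N16795 : nd 16795 = n49565 := ndS (p := 14570) (l := 9) rfl N14570 D49565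
theorem N16796 : nd 16796 = n49566 := ndS (p := 14571) (l := 8) rfl N14571 D49566
theorem N16797 : nd 16797 = n49567 := ndS (p := 14573) (l := 9) rfl N14573 D49567
theorem N16798 : nd 16798 = n49568 := ndS (p := 14574) (l := 9) rfl N14574 D49568
theorem N16799 : nd 16799 = n49569 := ndS (p := 14575) (l := 8) rfl N14575 D49569
theorem N16800 : nd 16800 = n49570 := ndS (p := 14576) (l := 6) rfl N14576 D49570
theorem N16801 : nd 16801 = n49571 := ndS (p := 14576) (l := 9) rfl N14576 D49571
theorem N16802 : nd 16802 = n49572 := ndS (p := 14577) (l := 8) rfl N14577 D49572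
theorem N16803 : nd 16803 = n49573 := ndS (p := 14578) (l := 3) rfl N14578 D49573
theorem N16804 : nd 16804 = n49574 := ndS (p := 14579) (l := 7) rfl N14579 D49574
theorem N16805 : nd 16805 = n49575 := ndS (p := 14579) (l := 9) rfl N14579 D49575
theorem N16806 : nd 16806 = n49576 := ndS (p := 14580) (l := 8) rfl N14580 D49576
theorem N16807 : nd 16807 = n49577 := ndS (p := 14581) (l := 3) rfl N14581 D49577
theorem N16808 : nd 16808 = n49578 := ndS (p := 14582) (l := 9) rfl N14582 D49578
theorem N16809 : nd 16809 = n49579 := ndS (p := 14583) (l := 8) rfl N14583 D49579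
theorem N16810 : nd 16810 = n49580 := ndS (p := 14585) (l := 7) rfl N14585 D49580
theorem N16811 : nd 16811 = n49581 := ndS (p := 14585) (l := 9) rfl N14585 D49581
theorem N16812 : nd 16812 = n49582 := ndS (p := 14586) (l := 8) rfl N14586 D49582
theorem N16813 : nd 16813 = n49583 := ndS (p := 14587) (l := 3) rfl N14587 D49583
theorem N16814 : nd 16814 = n49584 := ndS (p := 14588) (l := 9) rfl N14588 D49584
theorem N16815 : nd 16815 = n49585 := ndS (p := 14589) (l := 8) rfl N14589 D49585
theorem N16816 : nd 16816 = n49586 := ndS (p := 14590) (l := 3) rfl N14590 D49586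
theorem N16817 : nd 16817 = n49587 := ndS (p := 14591) (l := 2) rfl N14591 D49587
theorem N16818 : nd 16818 = n49588 := ndS (p := 14595) (l := 4) rfl N14595 D49588
theorem N16819 : nd 16819 = n49589 := ndS (p := 14595) (l := 9) rfl N14595 D49589
theorem N16820 : nd 16820 = n49590 := ndS (p := 14596) (l := 9) rfl N14596 D49590
theorem N16821 : nd 16821 = n49591 := ndS (p := 14597) (l := 8) rfl N14597 D49591
theorem N16822 : nd 16822 = n49592 := ndS (p := 14598) (l := 0) rfl N14598 D49592
theorem N16823 : nd 16823 = n49593 := ndS (p := 14598) (l := 4) rfl N14598 D49593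
theorem N16824 : nd 16824 = n49594 := ndS (p := 14598) (l := 9) rfl N14598 D49594
theorem N16825 : nd 16825 = n49595 := ndS (p := 14599) (l := 3) rfl N14599 D49595
theorem N16826 : nd 16826 = n49596 := ndS (p := 14599) (l := 9) rfl N14599 D49596
theorem N16827 : nd 16827 = n49597 := ndS (p := 14600) (l := 8) rfl N14600 D49597
theorem N16828 : nd 16828 = n49598 := ndS (p := 14601) (l := 8) rfl N14601 D49598
theorem N16829 : nd 16829 = n49599 := ndS (p := 14603) (l := 8) rfl N14603 D49599
theorem N16830 : nd 16830 = n49600 := ndS (p := 14605) (l := 9) rfl N14605 D49600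
theorem N16831 : nd 16831 = n49601 := ndS (p := 14606) (l := 8) rfl N14606 D49601
theorem N16832 : nd 16832 = n49602 := ndS (p := 14607) (l := 3) rfl N14607 D49602
theorem N16833 : nd 16833 = n49603 := ndS (p := 14608) (l := 8) rfl N14608 D49603
theorem N16834 : nd 16834 = n49604 := ndS (p := 14609) (l := 3) rfl N14609 D49604
theorem N16835 : nd 16835 = n49605 := ndS (p := 14610) (l := 4) rfl N14610 D49605
theorem N16836 : nd 16836 = n49606 := ndS (p := 14611) (l := 8) rfl N14611 D49606
theorem N16837 : nd 16837 = n49607 := ndS (p := 14613) (l := 4) rfl N14613 D49607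
theorem N16838 : nd 16838 = n49608 := ndS (p := 14613) (l := 9) rfl N14613 D49608
theorem N16839 : nd 16839 = n49609 := ndS (p := 14614) (l := 9) rfl N14614 D49609
theorem N16840 : nd 16840 = n49610 := ndS (p := 14615) (l := 8) rfl N14615 D49610
theorem N16841 : nd 16841 = n49611 := ndS (p := 14616) (l := 8) rfl N14616 D49611
theorem N16842 : nd 16842 = n49612 := ndS (p := 14618) (l := 3) rfl N14618 D49612
theorem N16843 : nd 16843 = n49613 := ndS (p := 14619) (l := 8) rfl N14619 D49613
theorem N16844 : nd 16844 = n49614 := ndS (p := 14625) (l := 9) rfl N14625 D49614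
theorem N16845 : nd 16845 = n49615 := ndS (p := 14626) (l := 8) rfl N14626 D49615
theorem N16846 : nd 16846 = n49616 := ndS (p := 14630) (l := 8) rfl N14630 D49616
theorem N16847 : nd 16847 = n49617 := ndS (p := 14631) (l := 6) rfl N14631 D49617
theorem N16848 : nd 16848 = n49618 := ndS (p := 14631) (l := 9) rfl N14631 D49618
theorem N16849 : nd 16849 = n49619 := ndS (p := 14632) (l := 8) rfl N14632 D49619
theorem N16850 : nd 16850 = n49620 := ndS (p := 14634) (l := 9) rfl N14634 D49620
theorem N16851 : nd 16851 = n49621 := ndS (p := 14635) (l := 8) rfl N14635 D49621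
theorem N16852 : nd 16852 = n49622 := ndS (p := 14637) (l := 8) rfl N14637 D49622
theorem N16853 : nd 16853 = n49623 := ndS (p := 14638) (l := 3) rfl N14638 D49623
theorem N16854 : nd 16854 = n49624 := ndS (p := 14641) (l := 8) rfl N14641 D49624
theorem N16855 : nd 16855 = n49625 := ndS (p := 14642) (l := 3) rfl N14642 D49625
theorem N16856 : nd 16856 = n49626 := ndS (p := 14642) (l := 9) rfl N14642 D49626
theorem N16857 : nd 16857 = n49627 := ndS (p := 14643) (l := 3) rfl N14643 D49627
theorem N16858 : nd 16858 = n49628 := ndS (p := 14643) (l := 9) rfl N14643 D49628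
theorem N16859 : nd 16859 = n49629 := ndS (p := 14644) (l := 2) rfl N14644 D49629
theorem N16860 : nd 16860 = n49630 := ndS (p := 14644) (l := 9) rfl N14644 D49630
theorem N16861 : nd 16861 = n49631 := ndS (p := 14646) (l := 9) rfl N14646 D49631
theorem N16862 : nd 16862 = n49632 := ndS (p := 14647) (l := 8) rfl N14647 D49632
theorem N16863 : nd 16863 = n49633 := ndS (p := 14649) (l := 8) rfl N14649 D49633
theorem N16864 : nd 16864 = n49634 := ndS (p := 14650) (l := 3) rfl N14650 D49634
theorem N16865 : nd 16865 = n49635 := ndS (p := 14650) (l := 9) rfl N14650 D49635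
theorem N16866 : nd 16866 = n49636 := ndS (p := 14651) (l := 4) rfl N14651 D49636
theorem N16867 : nd 16867 = n49637 := ndS (p := 14651) (l := 9) rfl N14651 D49637
theorem N16868 : nd 16868 = n49638 := ndS (p := 14653) (l := 4) rfl N14653 D49638
theorem N16869 : nd 16869 = n49639 := ndS (p := 14653) (l := 9) rfl N14653 D49639
theorem N16870 : nd 16870 = n49640 := ndS (p := 14655) (l := 5) rfl N14655 D49640
theorem N16871 : nd 16871 = n49641 := ndS (p := 14655) (l := 9) rfl N14655 D49641
theorem N16872 : nd 16872 = n49642 := ndS (p := 14656) (l := 8) rfl N14656 D49642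
theorem N16873 : nd 16873 = n49643 := ndS (p := 14657) (l := 8) rfl N14657 D49643
theorem N16874 : nd 16874 = n49644 := ndS (p := 14659) (l := 9) rfl N14659 D49644
theorem N16875 : nd 16875 = n49645 := ndS (p := 14660) (l := 8) rfl N14660 D49645
theorem N16876 : nd 16876 = n49646 := ndS (p := 14661) (l := 9) rfl N14661 D49646
theorem N16877 : nd 16877 = n49647 := ndS (p := 14662) (l := 8) rfl N14662 D49647
theorem N16878 : nd 16878 = n49648 := ndS (p := 14664) (l := 3) rfl N14664 D49648
theorem N16879 : nd 16879 = n49649 := ndS (p := 14665) (l := 9) rfl N14665 D49649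
theorem N16880 : nd 16880 = n49650 := ndS (p := 14667) (l := 8) rfl N14667 D49650
theorem N16881 : nd 16881 = n49651 := ndS (p := 14668) (l := 3) rfl N14668 D49651
theorem N16882 : nd 16882 = n49652 := ndS (p := 14668) (l := 9) rfl N14668 D49652
theorem N16883 : nd 16883 = n49653 := ndS (p := 14669) (l := 8) rfl N14669 D49653
theorem N16884 : nd 16884 = n49654 := ndS (p := 14670) (l := 3) rfl N14670 D49654
theorem N16885 : nd 16885 = n49655 := ndS (p := 14670) (l := 9) rfl N14670 D49655
theorem N16886 : nd 16886 = n49656 := ndS (p := 14671) (l := 4) rfl N14671 D49656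
theorem N16887 : nd 16887 = n49657 := ndS (p := 14671) (l := 9) rfl N14671 D49657
theorem N16888 : nd 16888 = n49658 := ndS (p := 14673) (l := 4) rfl N14673 D49658
theorem N16889 : nd 16889 = n49659 := ndS (p := 14673) (l := 9) rfl N14673 D49659
theorem N16890 : nd 16890 = n49660 := ndS (p := 14675) (l := 5) rfl N14675 D49660
theorem N16891 : nd 16891 = n49661 := ndS (p := 14675) (l := 9) rfl N14675 D49661
theorem N16892 : nd 16892 = n49662 := ndS (p := 14676) (l := 8) rfl N14676 D49662
theorem N16893 : nd 16893 = n49663 := ndS (p := 14677) (l := 8) rfl N14677 D49663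
theorem N16894 : nd 16894 = n49664 := ndS (p := 14679) (l := 3) rfl N14679 D49664
theorem N16895 : nd 16895 = n49665 := ndS (p := 14679) (l := 9) rfl N14679 D49665
theorem N16896 : nd 16896 = n49666 := ndS (p := 14680) (l := 2) rfl N14680 D49666
theorem N16897 : nd 16897 = n49667 := ndS (p := 14680) (l := 4) rfl N14680 D49667
theorem N16898 : nd 16898 = n49668 := ndS (p := 14680) (l := 9) rfl N14680 D49668
theorem N16899 : nd 16899 = n49669 := ndS (p := 14682) (l := 1) rfl N14682 D49669
theorem N16900 : nd 16900 = n49670 := ndS (p := 14682) (l := 4) rfl N14682 D49670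
theorem N16901 : nd 16901 = n49671 := ndS (p := 14682) (l := 9) rfl N14682 D49671
theorem N16902 : nd 16902 = n49672 := ndS (p := 14683) (l := 5) rfl N14683 D49672
theorem N16903 : nd 16903 = n49673 := ndS (p := 14683) (l := 9) rfl N14683 D49673
theorem N16904 : nd 16904 = n49674 := ndS (p := 14684) (l := 8) rfl N14684 D49674
theorem N16905 : nd 16905 = n49675 := ndS (p := 14685) (l := 9) rfl N14685 D49675
theorem N16906 : nd 16906 = n49676 := ndS (p := 14686) (l := 5) rfl N14686 D49676
theorem N16907 : nd 16907 = n49677 := ndS (p := 14686) (l := 9) rfl N14686 D49677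
theorem N16908 : nd 16908 = n49678 := ndS (p := 14687) (l := 8) rfl N14687 D49678
theorem N16909 : nd 16909 = n49679 := ndS (p := 14688) (l := 9) rfl N14688 D49679
theorem N16910 : nd 16910 = n49680 := ndS (p := 14689) (l := 5) rfl N14689 D49680
theorem N16911 : nd 16911 = n49681 := ndS (p := 14689) (l := 9) rfl N14689 D49681
theorem N16912 : nd 16912 = n49682 := ndS (p := 14690) (l := 8) rfl N14690 D49682
theorem N16913 : nd 16913 = n49683 := ndS (p := 14691) (l := 6) rfl N14691 D49683
theorem N16914 : nd 16914 = n49684 := ndS (p := 14691) (l := 9) rfl N14691 D49684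
theorem N16915 : nd 16915 = n49685 := ndS (p := 14692) (l := 8) rfl N14692 D49685
theorem N16916 : nd 16916 = n49686 := ndS (p := 14694) (l := 8) rfl N14694 D49686
theorem N16917 : nd 16917 = n49687 := ndS (p := 14695) (l := 8) rfl N14695 D49687
theorem N16918 : nd 16918 = n49688 := ndS (p := 14697) (l := 7) rfl N14697 D49688
theorem N16919 : nd 16919 = n49689 := ndS (p := 14697) (l := 9) rfl N14697 D49689
theorem N16920 : nd 16920 = n49690 := ndS (p := 14698) (l := 8) rfl N14698 D49690
theorem N16921 : nd 16921 = n49691 := ndS (p := 14699) (l := 3) rfl N14699 D49691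
theorem N16922 : nd 16922 = n49692 := ndS (p := 14700) (l := 6) rfl N14700 D49692
theorem N16923 : nd 16923 = n49693 := ndS (p := 14700) (l := 9) rfl N14700 D49693
theorem N16924 : nd 16924 = n49694 := ndS (p := 14701) (l := 8) rfl N14701 D49694
theorem N16925 : nd 16925 = n49695 := ndS (p := 14703) (l := 7) rfl N14703 D49695
theorem N16926 : nd 16926 = n49696 := ndS (p := 14703) (l := 9) rfl N14703 D49696
theorem N16927 : nd 16927 = n49697 := ndS (p := 14704) (l := 8) rfl N14704 D49697
theorem N16928 : nd 16928 = n49698 := ndS (p := 14705) (l := 3) rfl N14705 D49698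
theorem N16929 : nd 16929 = n49699 := ndS (p := 14706) (l := 9) rfl N14706 D49699
theorem N16930 : nd 16930 = n49700 := ndS (p := 14707) (l := 8) rfl N14707 D49700
theorem N16931 : nd 16931 = n49701 := ndS (p := 14708) (l := 3) rfl N14708 D49701
theorem N16932 : nd 16932 = n49702 := ndS (p := 14709) (l := 2) rfl N14709 D49702
theorem N16933 : nd 16933 = n49703 := ndS (p := 14710) (l := 8) rfl N14710 D49703
theorem N16934 : nd 16934 = n49704 := ndS (p := 14712) (l := 2) rfl N14712 D49704
theorem N16935 : nd 16935 = n49705 := ndS (p := 14712) (l := 9) rfl N14712 D49705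
theorem N16936 : nd 16936 = n49706 := ndS (p := 14714) (l := 9) rfl N14714 D49706
theorem N16937 : nd 16937 = n49707 := ndS (p := 14715) (l := 9) rfl N14715 D49707
theorem N16938 : nd 16938 = n49708 := ndS (p := 14717) (l := 9) rfl N14717 D49708
theorem N16939 : nd 16939 = n49709 := ndS (p := 14718) (l := 3) rfl N14718 D49709
theorem N16940 : nd 16940 = n49710 := ndS (p := 14718) (l := 9) rfl N14718 D49710
theorem N16941 : nd 16941 = n49711 := ndS (p := 14731) (l := 8) rfl N14731 D49711
theorem N16942 : nd 16942 = n49712 := ndS (p := 14732) (l := 3) rfl N14732 D49712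
theorem N16943 : nd 16943 = n49713 := ndS (p := 14732) (l := 9) rfl N14732 D49713
theorem N16944 : nd 16944 = n49714 := ndS (p := 14733) (l := 3) rfl N14733 D49714
theorem N16945 : nd 16945 = n49715 := ndS (p := 14733) (l := 9) rfl N14733 D49715
theorem N16946 : nd 16946 = n49716 := ndS (p := 14734) (l := 9) rfl N14734 D49716
theorem N16947 : nd 16947 = n49717 := ndS (p := 14736) (l := 8) rfl N14736 D49717
theorem N16948 : nd 16948 = n49718 := ndS (p := 14737) (l := 8) rfl N14737 D49718
theorem N16949 : nd 16949 = n49719 := ndS (p := 14738) (l := 3) rfl N14738 D49719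
theorem N16950 : nd 16950 = n49720 := ndS (p := 14738) (l := 9) rfl N14738 D49720
theorem N16951 : nd 16951 = n49721 := ndS (p := 14739) (l := 2) rfl N14739 D49721
theorem N16952 : nd 16952 = n49722 := ndS (p := 14739) (l := 4) rfl N14739 D49722
theorem N16953 : nd 16953 = n49723 := ndS (p := 14739) (l := 9) rfl N14739 D49723
theorem N16954 : nd 16954 = n49724 := ndS (p := 14741) (l := 2) rfl N14741 D49724
theorem N16955 : nd 16955 = n49725 := ndS (p := 14741) (l := 9) rfl N14741 D49725
theorem N16956 : nd 16956 = n49726 := ndS (p := 14743) (l := 9) rfl N14743 D49726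
theorem N16957 : nd 16957 = n49727 := ndS (p := 14744) (l := 8) rfl N14744 D49727
theorem N16958 : nd 16958 = n49728 := ndS (p := 14745) (l := 8) rfl N14745 D49728
theorem N16959 : nd 16959 = n49729 := ndS (p := 14747) (l := 8) rfl N14747 D49729
theorem N16960 : nd 16960 = n49730 := ndS (p := 14748) (l := 3) rfl N14748 D49730
theorem N16961 : nd 16961 = n49731 := ndS (p := 14748) (l := 9) rfl N14748 D49731
theorem N16962 : nd 16962 = n49732 := ndS (p := 14749) (l := 8) rfl N14749 D49732
theorem N16963 : nd 16963 = n49733 := ndS (p := 14750) (l := 3) rfl N14750 D49733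
theorem N16964 : nd 16964 = n49734 := ndS (p := 14750) (l := 9) rfl N14750 D49734
theorem N16965 : nd 16965 = n49735 := ndS (p := 14751) (l := 4) rfl N14751 D49735
theorem N16966 : nd 16966 = n49736 := ndS (p := 14751) (l := 9) rfl N14751 D49736
theorem N16967 : nd 16967 = n49737 := ndS (p := 14753) (l := 4) rfl N14753 D49737
theorem N16968 : nd 16968 = n49738 := ndS (p := 14753) (l := 9) rfl N14753 D49738
theorem N16969 : nd 16969 = n49739 := ndS (p := 14755) (l := 5) rfl N14755 D49739
theorem N16970 : nd 16970 = n49740 := ndS (p := 14755) (l := 9) rfl N14755 D49740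
theorem N16971 : nd 16971 = n49741 := ndS (p := 14756) (l := 8) rfl N14756 D49741
theorem N16972 : nd 16972 = n49742 := ndS (p := 14757) (l := 8) rfl N14757 D49742
theorem N16973 : nd 16973 = n49743 := ndS (p := 14759) (l := 3) rfl N14759 D49743
theorem N16974 : nd 16974 = n49744 := ndS (p := 14759) (l := 9) rfl N14759 D49744
theorem N16975 : nd 16975 = n49745 := ndS (p := 14760) (l := 2) rfl N14760 D49745
theorem N16976 : nd 16976 = n49746 := ndS (p := 14760) (l := 4) rfl N14760 D49746
theorem N16977 : nd 16977 = n49747 := ndS (p := 14760) (l := 9) rfl N14760 D49747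
theorem N16978 : nd 16978 = n49748 := ndS (p := 14762) (l := 1) rfl N14762 D49748
theorem N16979 : nd 16979 = n49749 := ndS (p := 14762) (l := 4) rfl N14762 D49749
theorem N16980 : nd 16980 = n49750 := ndS (p := 14762) (l := 9) rfl N14762 D49750
theorem N16981 : nd 16981 = n49751 := ndS (p := 14763) (l := 5) rfl N14763 D49751
theorem N16982 : nd 16982 = n49752 := ndS (p := 14763) (l := 9) rfl N14763 D49752
theorem N16983 : nd 16983 = n49753 := ndS (p := 14764) (l := 8) rfl N14764 D49753
theorem N16984 : nd 16984 = n49754 := ndS (p := 14765) (l := 4) rfl N14765 D49754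
theorem N16985 : nd 16985 = n49755 := ndS (p := 14765) (l := 9) rfl N14765 D49755
theorem N16986 : nd 16986 = n49756 := ndS (p := 14766) (l := 5) rfl N14766 D49756
theorem N16987 : nd 16987 = n49757 := ndS (p := 14766) (l := 9) rfl N14766 D49757
theorem N16988 : nd 16988 = n49758 := ndS (p := 14767) (l := 8) rfl N14767 D49758
theorem N16989 : nd 16989 = n49759 := ndS (p := 14768) (l := 9) rfl N14768 D49759
theorem N16990 : nd 16990 = n49760 := ndS (p := 14769) (l := 5) rfl N14769 D49760
theorem N16991 : nd 16991 = n49761 := ndS (p := 14769) (l := 9) rfl N14769 D49761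
theorem N16992 : nd 16992 = n49762 := ndS (p := 14770) (l := 8) rfl N14770 D49762
theorem N16993 : nd 16993 = n49763 := ndS (p := 14771) (l := 9) rfl N14771 D49763
theorem N16994 : nd 16994 = n49764 := ndS (p := 14772) (l := 8) rfl N14772 D49764
theorem N16995 : nd 16995 = n49765 := ndS (p := 14774) (l := 8) rfl N14774 D49765
theorem N16996 : nd 16996 = n49766 := ndS (p := 14775) (l := 8) rfl N14775 D49766
theorem N16997 : nd 16997 = n49767 := ndS (p := 14777) (l := 3) rfl N14777 D49767
theorem N16998 : nd 16998 = n49768 := ndS (p := 14778) (l := 6) rfl N14778 D49768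
theorem N16999 : nd 16999 = n49769 := ndS (p := 14778) (l := 9) rfl N14778 D49769
theorem N17000 : nd 17000 = n49770 := ndS (p := 14779) (l := 8) rfl N14779 D49770
theorem N17001 : nd 17001 = n49771 := ndS (p := 14781) (l := 8) rfl N14781 D49771
theorem N17002 : nd 17002 = n49772 := ndS (p := 14782) (l := 3) rfl N14782 D49772
theorem N17003 : nd 17003 = n49773 := ndS (p := 14783) (l := 2) rfl N14783 D49773
theorem N17004 : nd 17004 = n49774 := ndS (p := 14784) (l := 2) rfl N14784 D49774
theorem N17005 : nd 17005 = n49775 := ndS (p := 14784) (l := 4) rfl N14784 D49775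
theorem N17006 : nd 17006 = n49776 := ndS (p := 14784) (l := 9) rfl N14784 D49776
theorem N17007 : nd 17007 = n49777 := ndS (p := 14786) (l := 4) rfl N14786 D49777
theorem N17008 : nd 17008 = n49778 := ndS (p := 14786) (l := 9) rfl N14786 D49778
theorem N17009 : nd 17009 = n49779 := ndS (p := 14787) (l := 9) rfl N14787 D49779
theorem N17010 : nd 17010 = n49780 := ndS (p := 14789) (l := 0) rfl N14789 D49780
theorem N17011 : nd 17011 = n49781 := ndS (p := 14789) (l := 4) rfl N14789 D49781
theorem N17012 : nd 17012 = n49782 := ndS (p := 14789) (l := 9) rfl N14789 D49782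
theorem N17013 : nd 17013 = n49783 := ndS (p := 14790) (l := 3) rfl N14790 D49783
theorem N17014 : nd 17014 = n49784 := ndS (p := 14790) (l := 9) rfl N14790 D49784
theorem N17015 : nd 17015 = n49785 := ndS (p := 14794) (l := 9) rfl N14794 D49785
theorem N17016 : nd 17016 = n49786 := ndS (p := 14797) (l := 8) rfl N14797 D49786
theorem N17017 : nd 17017 = n49787 := ndS (p := 14798) (l := 3) rfl N14798 D49787
theorem N17018 : nd 17018 = n49788 := ndS (p := 14798) (l := 9) rfl N14798 D49788
theorem N17019 : nd 17019 = n49789 := ndS (p := 14799) (l := 2) rfl N14799 D49789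
theorem N17020 : nd 17020 = n49790 := ndS (p := 14799) (l := 4) rfl N14799 D49790
theorem N17021 : nd 17021 = n49791 := ndS (p := 14799) (l := 9) rfl N14799 D49791
theorem N17022 : nd 17022 = n49792 := ndS (p := 14801) (l := 3) rfl N14801 D49792
theorem N17023 : nd 17023 = n49793 := ndS (p := 14801) (l := 9) rfl N14801 D49793
theorem N17024 : nd 17024 = n49794 := ndS (p := 14802) (l := 2) rfl N14802 D49794
theorem N17025 : nd 17025 = n49795 := ndS (p := 14802) (l := 4) rfl N14802 D49795
theorem N17026 : nd 17026 = n49796 := ndS (p := 14802) (l := 9) rfl N14802 D49796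
theorem N17027 : nd 17027 = n49797 := ndS (p := 14804) (l := 1) rfl N14804 D49797
theorem N17028 : nd 17028 = n49798 := ndS (p := 14804) (l := 4) rfl N14804 D49798
theorem N17029 : nd 17029 = n49799 := ndS (p := 14804) (l := 9) rfl N14804 D49799
theorem N17030 : nd 17030 = n49800 := ndS (p := 14805) (l := 5) rfl N14805 D49800
theorem N17031 : nd 17031 = n49801 := ndS (p := 14805) (l := 9) rfl N14805 D49801
theorem N17032 : nd 17032 = n49802 := ndS (p := 14806) (l := 8) rfl N14806 D49802
theorem N17033 : nd 17033 = n49803 := ndS (p := 14807) (l := 1) rfl N14807 D49803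
theorem N17034 : nd 17034 = n49804 := ndS (p := 14807) (l := 4) rfl N14807 D49804
theorem N17035 : nd 17035 = n49805 := ndS (p := 14807) (l := 9) rfl N14807 D49805
theorem N17036 : nd 17036 = n49806 := ndS (p := 14808) (l := 5) rfl N14808 D49806
theorem N17037 : nd 17037 = n49807 := ndS (p := 14808) (l := 9) rfl N14808 D49807
theorem N17038 : nd 17038 = n49808 := ndS (p := 14809) (l := 8) rfl N14809 D49808
theorem N17039 : nd 17039 = n49809 := ndS (p := 14810) (l := 9) rfl N14810 D49809
theorem N17040 : nd 17040 = n49810 := ndS (p := 14811) (l := 5) rfl N14811 D49810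
theorem N17041 : nd 17041 = n49811 := ndS (p := 14811) (l := 9) rfl N14811 D49811
theorem N17042 : nd 17042 = n49812 := ndS (p := 14812) (l := 8) rfl N14812 D49812
theorem N17043 : nd 17043 = n49813 := ndS (p := 14813) (l := 6) rfl N14813 D49813
theorem N17044 : nd 17044 = n49814 := ndS (p := 14813) (l := 9) rfl N14813 D49814
theorem N17045 : nd 17045 = n49815 := ndS (p := 14814) (l := 8) rfl N14814 D49815
theorem N17046 : nd 17046 = n49816 := ndS (p := 14816) (l := 8) rfl N14816 D49816
theorem N17047 : nd 17047 = n49817 := ndS (p := 14817) (l := 6) rfl N14817 D49817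
theorem N17048 : nd 17048 = n49818 := ndS (p := 14817) (l := 9) rfl N14817 D49818
theorem N17049 : nd 17049 = n49819 := ndS (p := 14818) (l := 8) rfl N14818 D49819
theorem N17050 : nd 17050 = n49820 := ndS (p := 14820) (l := 7) rfl N14820 D49820
theorem N17051 : nd 17051 = n49821 := ndS (p := 14820) (l := 9) rfl N14820 D49821
theorem N17052 : nd 17052 = n49822 := ndS (p := 14821) (l := 8) rfl N14821 D49822
theorem N17053 : nd 17053 = n49823 := ndS (p := 14822) (l := 3) rfl N14822 D49823
theorem N17054 : nd 17054 = n49824 := ndS (p := 14823) (l := 2) rfl N14823 D49824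
theorem N17055 : nd 17055 = n49825 := ndS (p := 14823) (l := 4) rfl N14823 D49825
theorem N17056 : nd 17056 = n49826 := ndS (p := 14823) (l := 9) rfl N14823 D49826
theorem N17057 : nd 17057 = n49827 := ndS (p := 14825) (l := 1) rfl N14825 D49827
theorem N17058 : nd 17058 = n49828 := ndS (p := 14825) (l := 4) rfl N14825 D49828
theorem N17059 : nd 17059 = n49829 := ndS (p := 14825) (l := 9) rfl N14825 D49829
theorem N17060 : nd 17060 = n49830 := ndS (p := 14826) (l := 5) rfl N14826 D49830
theorem N17061 : nd 17061 = n49831 := ndS (p := 14826) (l := 9) rfl N14826 D49831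
theorem N17062 : nd 17062 = n49832 := ndS (p := 14827) (l := 8) rfl N14827 D49832
theorem N17063 : nd 17063 = n49833 := ndS (p := 14828) (l := 0) rfl N14828 D49833
theorem N17064 : nd 17064 = n49834 := ndS (p := 14828) (l := 4) rfl N14828 D49834
theorem N17065 : nd 17065 = n49835 := ndS (p := 14828) (l := 9) rfl N14828 D49835
theorem N17066 : nd 17066 = n49836 := ndS (p := 14829) (l := 3) rfl N14829 D49836
theorem N17067 : nd 17067 = n49837 := ndS (p := 14829) (l := 5) rfl N14829 D49837
theorem N17068 : nd 17068 = n49838 := ndS (p := 14829) (l := 9) rfl N14829 D49838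
theorem N17069 : nd 17069 = n49839 := ndS (p := 14830) (l := 8) rfl N14830 D49839
theorem N17070 : nd 17070 = n49840 := ndS (p := 14831) (l := 6) rfl N14831 D49840
theorem N17071 : nd 17071 = n49841 := ndS (p := 14831) (l := 9) rfl N14831 D49841
theorem N17072 : nd 17072 = n49842 := ndS (p := 14832) (l := 8) rfl N14832 D49842
theorem N17073 : nd 17073 = n49843 := ndS (p := 14834) (l := 0) rfl N14834 D49843
theorem N17074 : nd 17074 = n49844 := ndS (p := 14834) (l := 4) rfl N14834 D49844
theorem N17075 : nd 17075 = n49845 := ndS (p := 14834) (l := 9) rfl N14834 D49845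
theorem N17076 : nd 17076 = n49846 := ndS (p := 14835) (l := 5) rfl N14835 D49846
theorem N17077 : nd 17077 = n49847 := ndS (p := 14835) (l := 9) rfl N14835 D49847
theorem N17078 : nd 17078 = n49848 := ndS (p := 14836) (l := 8) rfl N14836 D49848
theorem N17079 : nd 17079 = n49849 := ndS (p := 14837) (l := 6) rfl N14837 D49849
theorem N17080 : nd 17080 = n49850 := ndS (p := 14837) (l := 9) rfl N14837 D49850
theorem N17081 : nd 17081 = n49851 := ndS (p := 14838) (l := 8) rfl N14838 D49851
theorem N17082 : nd 17082 = n49852 := ndS (p := 14840) (l := 9) rfl N14840 D49852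
theorem N17083 : nd 17083 = n49853 := ndS (p := 14841) (l := 5) rfl N14841 D49853
theorem N17084 : nd 17084 = n49854 := ndS (p := 14841) (l := 9) rfl N14841 D49854
theorem N17085 : nd 17085 = n49855 := ndS (p := 14842) (l := 8) rfl N14842 D49855
theorem N17086 : nd 17086 = n49856 := ndS (p := 14843) (l := 6) rfl N14843 D49856
theorem N17087 : nd 17087 = n49857 := ndS (p := 14843) (l := 9) rfl N14843 D49857
theorem N17088 : nd 17088 = n49858 := ndS (p := 14844) (l := 8) rfl N14844 D49858
theorem N17089 : nd 17089 = n49859 := ndS (p := 14845) (l := 3) rfl N14845 D49859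
theorem N17090 : nd 17090 = n49860 := ndS (p := 14846) (l := 7) rfl N14846 D49860
theorem N17091 : nd 17091 = n49861 := ndS (p := 14846) (l := 9) rfl N14846 D49861
theorem N17092 : nd 17092 = n49862 := ndS (p := 14847) (l := 8) rfl N14847 D49862
theorem N17093 : nd 17093 = n49863 := ndS (p := 14848) (l := 3) rfl N14848 D49863
theorem N17094 : nd 17094 = n49864 := ndS (p := 14849) (l := 8) rfl N14849 D49864
theorem N17095 : nd 17095 = n49865 := ndS (p := 14850) (l := 6) rfl N14850 D49865
theorem N17096 : nd 17096 = n49866 := ndS (p := 14850) (l := 9) rfl N14850 D49866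
theorem N17097 : nd 17097 = n49867 := ndS (p := 14851) (l := 8) rfl N14851 D49867
theorem N17098 : nd 17098 = n49868 := ndS (p := 14852) (l := 3) rfl N14852 D49868
theorem N17099 : nd 17099 = n49869 := ndS (p := 14853) (l := 7) rfl N14853 D49869
theorem N17100 : nd 17100 = n49870 := ndS (p := 14853) (l := 9) rfl N14853 D49870
theorem N17101 : nd 17101 = n49871 := ndS (p := 14854) (l := 8) rfl N14854 D49871
theorem N17102 : nd 17102 = n49872 := ndS (p := 14855) (l := 3) rfl N14855 D49872
theorem N17103 : nd 17103 = n49873 := ndS (p := 14856) (l := 4) rfl N14856 D49873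
theorem N17104 : nd 17104 = n49874 := ndS (p := 14857) (l := 9) rfl N14857 D49874
theorem N17105 : nd 17105 = n49875 := ndS (p := 14858) (l := 8) rfl N14858 D49875
theorem N17106 : nd 17106 = n49876 := ndS (p := 14859) (l := 3) rfl N14859 D49876
theorem N17107 : nd 17107 = n49877 := ndS (p := 14860) (l := 2) rfl N14860 D49877
theorem N17108 : nd 17108 = n49878 := ndS (p := 14861) (l := 7) rfl N14861 D49878
theorem N17109 : nd 17109 = n49879 := ndS (p := 14861) (l := 9) rfl N14861 D49879
theorem N17110 : nd 17110 = n49880 := ndS (p := 14862) (l := 8) rfl N14862 D49880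
theorem N17111 : nd 17111 = n49881 := ndS (p := 14863) (l := 3) rfl N14863 D49881
theorem N17112 : nd 17112 = n49882 := ndS (p := 14864) (l := 9) rfl N14864 D49882
theorem N17113 : nd 17113 = n49883 := ndS (p := 14865) (l := 8) rfl N14865 D49883
theorem N17114 : nd 17114 = n49884 := ndS (p := 14866) (l := 3) rfl N14866 D49884
theorem N17115 : nd 17115 = n49885 := ndS (p := 14867) (l := 2) rfl N14867 D49885
theorem N17116 : nd 17116 = n49886 := ndS (p := 14868) (l := 8) rfl N14868 D49886
theorem N17117 : nd 17117 = n49887 := ndS (p := 14869) (l := 3) rfl N14869 D49887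
theorem N17118 : nd 17118 = n49888 := ndS (p := 14870) (l := 2) rfl N14870 D49888
theorem N17119 : nd 17119 = n49889 := ndS (p := 14871) (l := 1) rfl N14871 D49889
theorem N17120 : nd 17120 = n49890 := ndS (p := 14873) (l := 1) rfl N14873 D49890
theorem N17121 : nd 17121 = n49891 := ndS (p := 14873) (l := 4) rfl N14873 D49891
theorem N17122 : nd 17122 = n49892 := ndS (p := 14873) (l := 9) rfl N14873 D49892
theorem N17123 : nd 17123 = n49893 := ndS (p := 14874) (l := 9) rfl N14874 D49893
theorem N17124 : nd 17124 = n49894 := ndS (p := 14875) (l := 8) rfl N14875 D49894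
theorem N17125 : nd 17125 = n49895 := ndS (p := 14876) (l := 0) rfl N14876 D49895
theorem N17126 : nd 17126 = n49896 := ndS (p := 14876) (l := 4) rfl N14876 D49896
theorem N17127 : nd 17127 = n49897 := ndS (p := 14876) (l := 9) rfl N14876 D49897
theorem N17128 : nd 17128 = n49898 := ndS (p := 14877) (l := 3) rfl N14877 D49898
theorem N17129 : nd 17129 = n49899 := ndS (p := 14877) (l := 9) rfl N14877 D49899
theorem N17130 : nd 17130 = n49900 := ndS (p := 14878) (l := 8) rfl N14878 D49900
theorem N17131 : nd 17131 = n49901 := ndS (p := 14879) (l := 8) rfl N14879 D49901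
theorem N17132 : nd 17132 = n49902 := ndS (p := 14881) (l := 4) rfl N14881 D49902
theorem N17133 : nd 17133 = n49903 := ndS (p := 14881) (l := 9) rfl N14881 D49903
theorem N17134 : nd 17134 = n49904 := ndS (p := 14882) (l := 3) rfl N14882 D49904
theorem N17135 : nd 17135 = n49905 := ndS (p := 14882) (l := 9) rfl N14882 D49905
theorem N17136 : nd 17136 = n49906 := ndS (p := 14883) (l := 8) rfl N14883 D49906
theorem N17137 : nd 17137 = n49907 := ndS (p := 14884) (l := 8) rfl N14884 D49907
theorem N17138 : nd 17138 = n49908 := ndS (p := 14884) (l := 9) rfl N14884 D49908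
theorem N17139 : nd 17139 = n49909 := ndS (p := 14885) (l := 8) rfl N14885 D49909
theorem N17140 : nd 17140 = n49910 := ndS (p := 14886) (l := 3) rfl N14886 D49910
theorem N17141 : nd 17141 = n49911 := ndS (p := 14887) (l := 3) rfl N14887 D49911
theorem N17142 : nd 17142 = n49912 := ndS (p := 14888) (l := 9) rfl N14888 D49912
theorem N17143 : nd 17143 = n49913 := ndS (p := 14889) (l := 8) rfl N14889 D49913
theorem N17144 : nd 17144 = n49914 := ndS (p := 14890) (l := 3) rfl N14890 D49914
theorem N17145 : nd 17145 = n49915 := ndS (p := 14891) (l := 8) rfl N14891 D49915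
theorem N17146 : nd 17146 = n49916 := ndS (p := 14892) (l := 3) rfl N14892 D49916
theorem N17147 : nd 17147 = n49917 := ndS (p := 14893) (l := 4) rfl N14893 D49917
theorem N17148 : nd 17148 = n49918 := ndS (p := 14901) (l := 9) rfl N14901 D49918
theorem N17149 : nd 17149 = n49919 := ndS (p := 14904) (l := 9) rfl N14904 D49919
theorem N17150 : nd 17150 = n49920 := ndS (p := 14905) (l := 8) rfl N14905 D49920
theorem N17151 : nd 17151 = n49921 := ndS (p := 14906) (l := 9) rfl N14906 D49921
theorem N17152 : nd 17152 = n49922 := ndS (p := 14908) (l := 3) rfl N14908 D49922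
theorem N17153 : nd 17153 = n49923 := ndS (p := 14912) (l := 8) rfl N14912 D49923
theorem N17154 : nd 17154 = n49924 := ndS (p := 14913) (l := 3) rfl N14913 D49924
theorem N17155 : nd 17155 = n49925 := ndS (p := 14918) (l := 8) rfl N14918 D49925
theorem N17156 : nd 17156 = n49926 := ndS (p := 14919) (l := 9) rfl N14919 D49926
theorem N17157 : nd 17157 = n49927 := ndS (p := 14920) (l := 9) rfl N14920 D49927
theorem N17158 : nd 17158 = n49928 := ndS (p := 14922) (l := 9) rfl N14922 D49928
theorem N17159 : nd 17159 = n49929 := ndS (p := 14924) (l := 9) rfl N14924 D49929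
theorem N17160 : nd 17160 = n49930 := ndS (p := 14925) (l := 2) rfl N14925 D49930
theorem N17161 : nd 17161 = n49931 := ndS (p := 14925) (l := 9) rfl N14925 D49931
theorem N17162 : nd 17162 = n49932 := ndS (p := 14928) (l := 4) rfl N14928 D49932
theorem N17163 : nd 17163 = n49933 := ndS (p := 14931) (l := 4) rfl N14931 D49933
theorem N17164 : nd 17164 = n49934 := ndS (p := 14933) (l := 8) rfl N14933 D49934
theorem N17165 : nd 17165 = n49935 := ndS (p := 14934) (l := 9) rfl N14934 D49935
theorem N17166 : nd 17166 = n49936 := ndS (p := 14935) (l := 2) rfl N14935 D49936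
theorem N17167 : nd 17167 = n49937 := ndS (p := 14935) (l := 9) rfl N14935 D49937
theorem N17168 : nd 17168 = n49938 := ndS (p := 14937) (l := 1) rfl N14937 D49938
theorem N17169 : nd 17169 = n49939 := ndS (p := 14937) (l := 4) rfl N14937 D49939
theorem N17170 : nd 17170 = n49940 := ndS (p := 14937) (l := 9) rfl N14937 D49940
theorem N17171 : nd 17171 = n49941 := ndS (p := 14938) (l := 9) rfl N14938 D49941
theorem N17172 : nd 17172 = n49942 := ndS (p := 14939) (l := 8) rfl N14939 D49942
theorem N17173 : nd 17173 = n49943 := ndS (p := 14941) (l := 1) rfl N14941 D49943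
theorem N17174 : nd 17174 = n49944 := ndS (p := 14941) (l := 9) rfl N14941 D49944
theorem N17175 : nd 17175 = n49945 := ndS (p := 14943) (l := 0) rfl N14943 D49945
theorem N17176 : nd 17176 = n49946 := ndS (p := 14943) (l := 4) rfl N14943 D49946
theorem N17177 : nd 17177 = n49947 := ndS (p := 14943) (l := 9) rfl N14943 D49947
theorem N17178 : nd 17178 = n49948 := ndS (p := 14944) (l := 3) rfl N14944 D49948
theorem N17179 : nd 17179 = n49949 := ndS (p := 14944) (l := 9) rfl N14944 D49949
theorem N17180 : nd 17180 = n49950 := ndS (p := 14947) (l := 9) rfl N14947 D49950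
theorem N17181 : nd 17181 = n49951 := ndS (p := 14949) (l := 9) rfl N14949 D49951
theorem N17182 : nd 17182 = n49952 := ndS (p := 14956) (l := 8) rfl N14956 D49952
theorem N17183 : nd 17183 = n49953 := ndS (p := 14961) (l := 8) rfl N14961 D49953
theorem N17184 : nd 17184 = n49954 := ndS (p := 14962) (l := 3) rfl N14962 D49954
theorem N17185 : nd 17185 = n49955 := ndS (p := 14963) (l := 8) rfl N14963 D49955
theorem N17186 : nd 17186 = n49956 := ndS (p := 14964) (l := 3) rfl N14964 D49956
theorem N17187 : nd 17187 = n49957 := ndS (p := 14965) (l := 9) rfl N14965 D49957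
theorem N17188 : nd 17188 = n49958 := ndS (p := 14966) (l := 8) rfl N14966 D49958
theorem N17189 : nd 17189 = n49959 := ndS (p := 14967) (l := 3) rfl N14967 D49959
theorem N17190 : nd 17190 = n49960 := ndS (p := 14968) (l := 4) rfl N14968 D49960
theorem N17191 : nd 17191 = n49961 := ndS (p := 14969) (l := 2) rfl N14969 D49961
theorem N17192 : nd 17192 = n49962 := ndS (p := 14970) (l := 8) rfl N14970 D49962
theorem N17193 : nd 17193 = n49963 := ndS (p := 14971) (l := 3) rfl N14971 D49963
theorem N17194 : nd 17194 = n49964 := ndS (p := 14972) (l := 4) rfl N14972 D49964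
theorem N17195 : nd 17195 = n49965 := ndS (p := 14975) (l := 5) rfl N14975 D49965
theorem N17196 : nd 17196 = n49966 := ndS (p := 14981) (l := 9) rfl N14981 D49966
theorem N17197 : nd 17197 = n49967 := ndS (p := 14983) (l := 8) rfl N14983 D49967
theorem N17198 : nd 17198 = n49968 := ndS (p := 14984) (l := 9) rfl N14984 D49968
theorem N17199 : nd 17199 = n49969 := ndS (p := 14986) (l := 9) rfl N14986 D49969
theorem N17200 : nd 17200 = n49970 := ndS (p := 14987) (l := 8) rfl N14987 D49970
theorem N17201 : nd 17201 = n49971 := ndS (p := 14991) (l := 8) rfl N14991 D49971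
theorem N17202 : nd 17202 = n49972 := ndS (p := 14992) (l := 9) rfl N14992 D49972
theorem N17203 : nd 17203 = n49973 := ndS (p := 14994) (l := 9) rfl N14994 D49973
theorem N17204 : nd 17204 = n49974 := ndS (p := 14995) (l := 8) rfl N14995 D49974
theorem N17205 : nd 17205 = n49975 := ndS (p := 14996) (l := 4) rfl N14996 D49975
theorem N17206 : nd 17206 = n49976 := ndS (p := 14996) (l := 9) rfl N14996 D49976
theorem N17207 : nd 17207 = n49977 := ndS (p := 14997) (l := 5) rfl N14997 D49977
theorem N17208 : nd 17208 = n49978 := ndS (p := 14997) (l := 9) rfl N14997 D49978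
theorem N17209 : nd 17209 = n49979 := ndS (p := 14998) (l := 8) rfl N14998 D49979
theorem N17210 : nd 17210 = n49980 := ndS (p := 14999) (l := 9) rfl N14999 D49980
theorem N17211 : nd 17211 = n49981 := ndS (p := 15000) (l := 8) rfl N15000 D49981
theorem N17212 : nd 17212 = n49982 := ndS (p := 15009) (l := 3) rfl N15009 D49982
theorem N17213 : nd 17213 = n49983 := ndS (p := 15009) (l := 9) rfl N15009 D49983
theorem N17214 : nd 17214 = n49984 := ndS (p := 15010) (l := 9) rfl N15010 D49984
theorem N17215 : nd 17215 = n49985 := ndS (p := 15012) (l := 9) rfl N15012 D49985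
theorem N17216 : nd 17216 = n49986 := ndS (p := 15013) (l := 8) rfl N15013 D49986
theorem N17217 : nd 17217 = n49987 := ndS (p := 15014) (l := 4) rfl N15014 D49987
theorem N17218 : nd 17218 = n49988 := ndS (p := 15014) (l := 9) rfl N15014 D49988
theorem N17219 : nd 17219 = n49989 := ndS (p := 15016) (l := 8) rfl N15016 D49989
theorem N17220 : nd 17220 = n49990 := ndS (p := 15017) (l := 8) rfl N15017 D49990
theorem N17221 : nd 17221 = n49991 := ndS (p := 15019) (l := 3) rfl N15019 D49991
theorem N17222 : nd 17222 = n49992 := ndS (p := 15020) (l := 3) rfl N15020 D49992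
theorem N17223 : nd 17223 = n49993 := ndS (p := 15020) (l := 9) rfl N15020 D49993
theorem N17224 : nd 17224 = n49994 := ndS (p := 15021) (l := 9) rfl N15021 D49994
theorem N17225 : nd 17225 = n49995 := ndS (p := 15023) (l := 8) rfl N15023 D49995
theorem N17226 : nd 17226 = n49996 := ndS (p := 15024) (l := 4) rfl N15024 D49996
theorem N17227 : nd 17227 = n49997 := ndS (p := 15024) (l := 9) rfl N15024 D49997
theorem N17228 : nd 17228 = n49998 := ndS (p := 15026) (l := 5) rfl N15026 D49998
theorem N17229 : nd 17229 = n49999 := ndS (p := 15026) (l := 9) rfl N15026 D49999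
theorem N17230 : nd 17230 = n50000 := ndS (p := 15027) (l := 8) rfl N15027 D50000
theorem N17231 : nd 17231 = n50001 := ndS (p := 15028) (l := 8) rfl N15028 D50001
theorem N17232 : nd 17232 = n50002 := ndS (p := 15030) (l := 9) rfl N15030 D50002
theorem N17233 : nd 17233 = n50003 := ndS (p := 15032) (l := 9) rfl N15032 D50003
theorem N17234 : nd 17234 = n50004 := ndS (p := 15033) (l := 9) rfl N15033 D50004
theorem N17235 : nd 17235 = n50005 := ndS (p := 15038) (l := 4) rfl N15038 D50005
theorem N17236 : nd 17236 = n50006 := ndS (p := 15038) (l := 9) rfl N15038 D50006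
theorem N17237 : nd 17237 = n50007 := ndS (p := 15040) (l := 8) rfl N15040 D50007
theorem N17238 : nd 17238 = n50008 := ndS (p := 15041) (l := 6) rfl N15041 D50008
theorem N17239 : nd 17239 = n50009 := ndS (p := 15041) (l := 9) rfl N15041 D50009
theorem N17240 : nd 17240 = n50010 := ndS (p := 15042) (l := 8) rfl N15042 D50010
theorem N17241 : nd 17241 = n50011 := ndS (p := 15044) (l := 3) rfl N15044 D50011
theorem N17242 : nd 17242 = n50012 := ndS (p := 15044) (l := 9) rfl N15044 D50012
theorem N17243 : nd 17243 = n50013 := ndS (p := 15045) (l := 2) rfl N15045 D50013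
theorem N17244 : nd 17244 = n50014 := ndS (p := 15045) (l := 4) rfl N15045 D50014
theorem N17245 : nd 17245 = n50015 := ndS (p := 15045) (l := 9) rfl N15045 D50015
theorem N17246 : nd 17246 = n50016 := ndS (p := 15047) (l := 1) rfl N15047 D50016
theorem N17247 : nd 17247 = n50017 := ndS (p := 15047) (l := 4) rfl N15047 D50017
theorem N17248 : nd 17248 = n50018 := ndS (p := 15047) (l := 9) rfl N15047 D50018
theorem N17249 : nd 17249 = n50019 := ndS (p := 15048) (l := 5) rfl N15048 D50019
theorem N17250 : nd 17250 = n50020 := ndS (p := 15048) (l := 9) rfl N15048 D50020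
theorem N17251 : nd 17251 = n50021 := ndS (p := 15049) (l := 8) rfl N15049 D50021
theorem N17252 : nd 17252 = n50022 := ndS (p := 15050) (l := 1) rfl N15050 D50022
theorem N17253 : nd 17253 = n50023 := ndS (p := 15050) (l := 9) rfl N15050 D50023
theorem N17254 : nd 17254 = n50024 := ndS (p := 15051) (l := 8) rfl N15051 D50024
theorem N17255 : nd 17255 = n50025 := ndS (p := 15052) (l := 4) rfl N15052 D50025
theorem N17256 : nd 17256 = n50026 := ndS (p := 15052) (l := 9) rfl N15052 D50026
theorem N17257 : nd 17257 = n50027 := ndS (p := 15053) (l := 5) rfl N15053 D50027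
theorem N17258 : nd 17258 = n50028 := ndS (p := 15053) (l := 9) rfl N15053 D50028
theorem N17259 : nd 17259 = n50029 := ndS (p := 15054) (l := 8) rfl N15054 D50029
theorem N17260 : nd 17260 = n50030 := ndS (p := 15055) (l := 6) rfl N15055 D50030
theorem N17261 : nd 17261 = n50031 := ndS (p := 15055) (l := 9) rfl N15055 D50031
theorem N17262 : nd 17262 = n50032 := ndS (p := 15056) (l := 8) rfl N15056 D50032
theorem N17263 : nd 17263 = n50033 := ndS (p := 15058) (l := 9) rfl N15058 D50033
theorem N17264 : nd 17264 = n50034 := ndS (p := 15059) (l := 8) rfl N15059 D50034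
theorem N17265 : nd 17265 = n50035 := ndS (p := 15060) (l := 6) rfl N15060 D50035
theorem N17266 : nd 17266 = n50036 := ndS (p := 15060) (l := 9) rfl N15060 D50036
theorem N17267 : nd 17267 = n50037 := ndS (p := 15061) (l := 8) rfl N15061 D50037
theorem N17268 : nd 17268 = n50038 := ndS (p := 15062) (l := 3) rfl N15062 D50038
theorem N17269 : nd 17269 = n50039 := ndS (p := 15063) (l := 7) rfl N15063 D50039
theorem N17270 : nd 17270 = n50040 := ndS (p := 15063) (l := 9) rfl N15063 D50040
theorem N17271 : nd 17271 = n50041 := ndS (p := 15064) (l := 8) rfl N15064 D50041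
theorem N17272 : nd 17272 = n50042 := ndS (p := 15066) (l := 9) rfl N15066 D50042
theorem N17273 : nd 17273 = n50043 := ndS (p := 15068) (l := 9) rfl N15068 D50043
theorem N17274 : nd 17274 = n50044 := ndS (p := 15072) (l := 9) rfl N15072 D50044
theorem N17275 : nd 17275 = n50045 := ndS (p := 15074) (l := 9) rfl N15074 D50045
theorem N17276 : nd 17276 = n50046 := ndS (p := 15075) (l := 3) rfl N15075 D50046
theorem N17277 : nd 17277 = n50047 := ndS (p := 15075) (l := 9) rfl N15075 D50047
theorem N17278 : nd 17278 = n50048 := ndS (p := 15078) (l := 9) rfl N15078 D50048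
theorem N17279 : nd 17279 = n50049 := ndS (p := 15080) (l := 8) rfl N15080 D50049
theorem N17280 : nd 17280 = n50050 := ndS (p := 15081) (l := 3) rfl N15081 D50050
theorem N17281 : nd 17281 = n50051 := ndS (p := 15084) (l := 9) rfl N15084 D50051
theorem N17282 : nd 17282 = n50052 := ndS (p := 15086) (l := 9) rfl N15086 D50052
theorem N17283 : nd 17283 = n50053 := ndS (p := 15088) (l := 8) rfl N15088 D50053
theorem N17284 : nd 17284 = n50054 := ndS (p := 15093) (l := 9) rfl N15093 D50054
theorem N17285 : nd 17285 = n50055 := ndS (p := 15094) (l := 8) rfl N15094 D50055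
theorem N17286 : nd 17286 = n50056 := ndS (p := 15095) (l := 3) rfl N15095 D50056
theorem N17287 : nd 17287 = n50057 := ndS (p := 15096) (l := 8) rfl N15096 D50057
theorem N17288 : nd 17288 = n50058 := ndS (p := 15097) (l := 3) rfl N15097 D50058
theorem N17289 : nd 17289 = n50059 := ndS (p := 15098) (l := 4) rfl N15098 D50059
theorem N17290 : nd 17290 = n50060 := ndS (p := 15099) (l := 3) rfl N15099 D50060
theorem N17291 : nd 17291 = n50061 := ndS (p := 15099) (l := 9) rfl N15099 D50061
theorem N17292 : nd 17292 = n50062 := ndS (p := 15100) (l := 3) rfl N15100 D50062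
theorem N17293 : nd 17293 = n50063 := ndS (p := 15100) (l := 9) rfl N15100 D50063
theorem N17294 : nd 17294 = n50064 := ndS (p := 15101) (l := 4) rfl N15101 D50064
theorem N17295 : nd 17295 = n50065 := ndS (p := 15101) (l := 9) rfl N15101 D50065
theorem N17296 : nd 17296 = n50066 := ndS (p := 15103) (l := 9) rfl N15103 D50066
theorem N17297 : nd 17297 = n50067 := ndS (p := 15105) (l := 8) rfl N15105 D50067
theorem N17298 : nd 17298 = n50068 := ndS (p := 15107) (l := 4) rfl N15107 D50068
theorem N17299 : nd 17299 = n50069 := ndS (p := 15107) (l := 9) rfl N15107 D50069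
theorem N17300 : nd 17300 = n50070 := ndS (p := 15109) (l := 1) rfl N15109 D50070
theorem N17301 : nd 17301 = n50071 := ndS (p := 15109) (l := 4) rfl N15109 D50071
theorem N17302 : nd 17302 = n50072 := ndS (p := 15109) (l := 9) rfl N15109 D50072
theorem N17303 : nd 17303 = n50073 := ndS (p := 15110) (l := 9) rfl N15110 D50073
theorem N17304 : nd 17304 = n50074 := ndS (p := 15111) (l := 8) rfl N15111 D50074
theorem N17305 : nd 17305 = n50075 := ndS (p := 15112) (l := 1) rfl N15112 D50075
theorem N17306 : nd 17306 = n50076 := ndS (p := 15112) (l := 9) rfl N15112 D50076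
theorem N17307 : nd 17307 = n50077 := ndS (p := 15113) (l := 8) rfl N15113 D50077
theorem N17308 : nd 17308 = n50078 := ndS (p := 15114) (l := 0) rfl N15114 D50078
theorem N17309 : nd 17309 = n50079 := ndS (p := 15114) (l := 9) rfl N15114 D50079
theorem N17310 : nd 17310 = n50080 := ndS (p := 15115) (l := 8) rfl N15115 D50080
theorem N17311 : nd 17311 = n50081 := ndS (p := 15117) (l := 9) rfl N15117 D50081
theorem N17312 : nd 17312 = n50082 := ndS (p := 15118) (l := 8) rfl N15118 D50082
theorem N17313 : nd 17313 = n50083 := ndS (p := 15119) (l := 3) rfl N15119 D50083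
theorem N17314 : nd 17314 = n50084 := ndS (p := 15120) (l := 0) rfl N15120 D50084
theorem N17315 : nd 17315 = n50085 := ndS (p := 15120) (l := 9) rfl N15120 D50085
theorem N17316 : nd 17316 = n50086 := ndS (p := 15121) (l := 8) rfl N15121 D50086
theorem N17317 : nd 17317 = n50087 := ndS (p := 15123) (l := 0) rfl N15123 D50087
theorem N17318 : nd 17318 = n50088 := ndS (p := 15123) (l := 9) rfl N15123 D50088
theorem N17319 : nd 17319 = n50089 := ndS (p := 15124) (l := 8) rfl N15124 D50089
theorem N17320 : nd 17320 = n50090 := ndS (p := 15126) (l := 9) rfl N15126 D50090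
theorem N17321 : nd 17321 = n50091 := ndS (p := 15127) (l := 8) rfl N15127 D50091
theorem N17322 : nd 17322 = n50092 := ndS (p := 15128) (l := 3) rfl N15128 D50092
theorem N17323 : nd 17323 = n50093 := ndS (p := 15129) (l := 8) rfl N15129 D50093
theorem N17324 : nd 17324 = n50094 := ndS (p := 15130) (l := 3) rfl N15130 D50094
theorem N17325 : nd 17325 = n50095 := ndS (p := 15131) (l := 4) rfl N15131 D50095
theorem N17326 : nd 17326 = n50096 := ndS (p := 15132) (l := 9) rfl N15132 D50096
theorem N17327 : nd 17327 = n50097 := ndS (p := 15133) (l := 8) rfl N15133 D50097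
theorem N17328 : nd 17328 = n50098 := ndS (p := 15134) (l := 3) rfl N15134 D50098
theorem N17329 : nd 17329 = n50099 := ndS (p := 15135) (l := 9) rfl N15135 D50099
theorem N17330 : nd 17330 = n50100 := ndS (p := 15136) (l := 8) rfl N15136 D50100
theorem N17331 : nd 17331 = n50101 := ndS (p := 15138) (l := 8) rfl N15138 D50101
theorem N17332 : nd 17332 = n50102 := ndS (p := 15139) (l := 3) rfl N15139 D50102
theorem N17333 : nd 17333 = n50103 := ndS (p := 15144) (l := 9) rfl N15144 D50103
theorem N17334 : nd 17334 = n50104 := ndS (p := 15146) (l := 3) rfl N15146 D50104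
theorem N17335 : nd 17335 = n50105 := ndS (p := 15146) (l := 9) rfl N15146 D50105
theorem N17336 : nd 17336 = n50106 := ndS (p := 15147) (l := 4) rfl N15147 D50106
theorem N17337 : nd 17337 = n50107 := ndS (p := 15147) (l := 9) rfl N15147 D50107
theorem N17338 : nd 17338 = n50108 := ndS (p := 15149) (l := 9) rfl N15149 D50108
theorem N17339 : nd 17339 = n50109 := ndS (p := 15151) (l := 8) rfl N15151 D50109
theorem N17340 : nd 17340 = n50110 := ndS (p := 15153) (l := 2) rfl N15153 D50110
theorem N17341 : nd 17341 = n50111 := ndS (p := 15153) (l := 4) rfl N15153 D50111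
theorem N17342 : nd 17342 = n50112 := ndS (p := 15153) (l := 9) rfl N15153 D50112
theorem N17343 : nd 17343 = n50113 := ndS (p := 15155) (l := 2) rfl N15155 D50113
theorem N17344 : nd 17344 = n50114 := ndS (p := 15155) (l := 9) rfl N15155 D50114
theorem N17345 : nd 17345 = n50115 := ndS (p := 15157) (l := 9) rfl N15157 D50115
theorem N17346 : nd 17346 = n50116 := ndS (p := 15158) (l := 8) rfl N15158 D50116
theorem N17347 : nd 17347 = n50117 := ndS (p := 15159) (l := 8) rfl N15159 D50117
theorem N17348 : nd 17348 = n50118 := ndS (p := 15161) (l := 3) rfl N15161 D50118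
theorem N17349 : nd 17349 = n50119 := ndS (p := 15161) (l := 9) rfl N15161 D50119
theorem N17350 : nd 17350 = n50120 := ndS (p := 15162) (l := 2) rfl N15162 D50120
theorem N17351 : nd 17351 = n50121 := ndS (p := 15162) (l := 4) rfl N15162 D50121
theorem N17352 : nd 17352 = n50122 := ndS (p := 15162) (l := 9) rfl N15162 D50122
theorem N17353 : nd 17353 = n50123 := ndS (p := 15164) (l := 1) rfl N15164 D50123
theorem N17354 : nd 17354 = n50124 := ndS (p := 15164) (l := 4) rfl N15164 D50124
theorem N17355 : nd 17355 = n50125 := ndS (p := 15164) (l := 9) rfl N15164 D50125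
theorem N17356 : nd 17356 = n50126 := ndS (p := 15165) (l := 5) rfl N15165 D50126
theorem N17357 : nd 17357 = n50127 := ndS (p := 15165) (l := 9) rfl N15165 D50127
theorem N17358 : nd 17358 = n50128 := ndS (p := 15166) (l := 8) rfl N15166 D50128
theorem N17359 : nd 17359 = n50129 := ndS (p := 15167) (l := 1) rfl N15167 D50129
theorem N17360 : nd 17360 = n50130 := ndS (p := 15167) (l := 4) rfl N15167 D50130
theorem N17361 : nd 17361 = n50131 := ndS (p := 15167) (l := 9) rfl N15167 D50131
theorem N17362 : nd 17362 = n50132 := ndS (p := 15168) (l := 5) rfl N15168 D50132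
theorem N17363 : nd 17363 = n50133 := ndS (p := 15168) (l := 9) rfl N15168 D50133
theorem N17364 : nd 17364 = n50134 := ndS (p := 15169) (l := 8) rfl N15169 D50134
theorem N17365 : nd 17365 = n50135 := ndS (p := 15170) (l := 9) rfl N15170 D50135
theorem N17366 : nd 17366 = n50136 := ndS (p := 15171) (l := 5) rfl N15171 D50136
theorem N17367 : nd 17367 = n50137 := ndS (p := 15171) (l := 9) rfl N15171 D50137
theorem N17368 : nd 17368 = n50138 := ndS (p := 15172) (l := 8) rfl N15172 D50138
theorem N17369 : nd 17369 = n50139 := ndS (p := 15173) (l := 9) rfl N15173 D50139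
theorem N17370 : nd 17370 = n50140 := ndS (p := 15174) (l := 8) rfl N15174 D50140
theorem N17371 : nd 17371 = n50141 := ndS (p := 15176) (l := 8) rfl N15176 D50141
theorem N17372 : nd 17372 = n50142 := ndS (p := 15177) (l := 8) rfl N15177 D50142
theorem N17373 : nd 17373 = n50143 := ndS (p := 15178) (l := 3) rfl N15178 D50143
theorem N17374 : nd 17374 = n50144 := ndS (p := 15180) (l := 9) rfl N15180 D50144
theorem N17375 : nd 17375 = n50145 := ndS (p := 15183) (l := 2) rfl N15183 D50145
theorem N17376 : nd 17376 = n50146 := ndS (p := 15183) (l := 9) rfl N15183 D50146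
theorem N17377 : nd 17377 = n50147 := ndS (p := 15185) (l := 1) rfl N15185 D50147
theorem N17378 : nd 17378 = n50148 := ndS (p := 15185) (l := 4) rfl N15185 D50148
theorem N17379 : nd 17379 = n50149 := ndS (p := 15185) (l := 9) rfl N15185 D50149
theorem N17380 : nd 17380 = n50150 := ndS (p := 15186) (l := 9) rfl N15186 D50150
theorem N17381 : nd 17381 = n50151 := ndS (p := 15187) (l := 8) rfl N15187 D50151
theorem N17382 : nd 17382 = n50152 := ndS (p := 15188) (l := 0) rfl N15188 D50152
theorem N17383 : nd 17383 = n50153 := ndS (p := 15188) (l := 4) rfl N15188 D50153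
theorem N17384 : nd 17384 = n50154 := ndS (p := 15188) (l := 9) rfl N15188 D50154
theorem N17385 : nd 17385 = n50155 := ndS (p := 15189) (l := 3) rfl N15189 D50155
theorem N17386 : nd 17386 = n50156 := ndS (p := 15189) (l := 9) rfl N15189 D50156
theorem N17387 : nd 17387 = n50157 := ndS (p := 15190) (l := 8) rfl N15190 D50157
theorem N17388 : nd 17388 = n50158 := ndS (p := 15191) (l := 8) rfl N15191 D50158
theorem N17389 : nd 17389 = n50159 := ndS (p := 15193) (l := 0) rfl N15193 D50159
theorem N17390 : nd 17390 = n50160 := ndS (p := 15193) (l := 9) rfl N15193 D50160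
theorem N17391 : nd 17391 = n50161 := ndS (p := 15194) (l := 8) rfl N15194 D50161
theorem N17392 : nd 17392 = n50162 := ndS (p := 15196) (l := 9) rfl N15196 D50162
theorem N17393 : nd 17393 = n50163 := ndS (p := 15197) (l := 8) rfl N15197 D50163
theorem N17394 : nd 17394 = n50164 := ndS (p := 15198) (l := 3) rfl N15198 D50164
theorem N17395 : nd 17395 = n50165 := ndS (p := 15199) (l := 8) rfl N15199 D50165
theorem N17396 : nd 17396 = n50166 := ndS (p := 15200) (l := 3) rfl N15200 D50166
theorem N17397 : nd 17397 = n50167 := ndS (p := 15201) (l := 4) rfl N15201 D50167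
theorem N17398 : nd 17398 = n50168 := ndS (p := 15202) (l := 2) rfl N15202 D50168
theorem N17399 : nd 17399 = n50169 := ndS (p := 15202) (l := 4) rfl N15202 D50169
theorem N17400 : nd 17400 = n50170 := ndS (p := 15202) (l := 9) rfl N15202 D50170
theorem N17401 : nd 17401 = n50171 := ndS (p := 15204) (l := 3) rfl N15204 D50171
theorem N17402 : nd 17402 = n50172 := ndS (p := 15204) (l := 9) rfl N15204 D50172
theorem N17403 : nd 17403 = n50173 := ndS (p := 15205) (l := 2) rfl N15205 D50173
theorem N17404 : nd 17404 = n50174 := ndS (p := 15205) (l := 4) rfl N15205 D50174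
theorem N17405 : nd 17405 = n50175 := ndS (p := 15205) (l := 9) rfl N15205 D50175
theorem N17406 : nd 17406 = n50176 := ndS (p := 15207) (l := 1) rfl N15207 D50176
theorem N17407 : nd 17407 = n50177 := ndS (p := 15207) (l := 4) rfl N15207 D50177
theorem N17408 : nd 17408 = n50178 := ndS (p := 15207) (l := 9) rfl N15207 D50178
theorem N17409 : nd 17409 = n50179 := ndS (p := 15208) (l := 5) rfl N15208 D50179
theorem N17410 : nd 17410 = n50180 := ndS (p := 15208) (l := 9) rfl N15208 D50180
theorem N17411 : nd 17411 = n50181 := ndS (p := 15209) (l := 8) rfl N15209 D50181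
theorem N17412 : nd 17412 = n50182 := ndS (p := 15210) (l := 1) rfl N15210 D50182
theorem N17413 : nd 17413 = n50183 := ndS (p := 15210) (l := 9) rfl N15210 D50183
theorem N17414 : nd 17414 = n50184 := ndS (p := 15211) (l := 8) rfl N15211 D50184
theorem N17415 : nd 17415 = n50185 := ndS (p := 15212) (l := 4) rfl N15212 D50185
theorem N17416 : nd 17416 = n50186 := ndS (p := 15212) (l := 9) rfl N15212 D50186
theorem N17417 : nd 17417 = n50187 := ndS (p := 15213) (l := 5) rfl N15213 D50187
theorem N17418 : nd 17418 = n50188 := ndS (p := 15213) (l := 9) rfl N15213 D50188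
theorem N17419 : nd 17419 = n50189 := ndS (p := 15214) (l := 8) rfl N15214 D50189
theorem N17420 : nd 17420 = n50190 := ndS (p := 15215) (l := 6) rfl N15215 D50190
theorem N17421 : nd 17421 = n50191 := ndS (p := 15215) (l := 9) rfl N15215 D50191
theorem N17422 : nd 17422 = n50192 := ndS (p := 15216) (l := 8) rfl N15216 D50192
theorem N17423 : nd 17423 = n50193 := ndS (p := 15218) (l := 9) rfl N15218 D50193
theorem N17424 : nd 17424 = n50194 := ndS (p := 15219) (l := 8) rfl N15219 D50194
theorem N17425 : nd 17425 = n50195 := ndS (p := 15220) (l := 8) rfl N15220 D50195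
theorem N17426 : nd 17426 = n50196 := ndS (p := 15221) (l := 3) rfl N15221 D50196
theorem N17427 : nd 17427 = n50197 := ndS (p := 15222) (l := 7) rfl N15222 D50197
theorem N17428 : nd 17428 = n50198 := ndS (p := 15222) (l := 9) rfl N15222 D50198
theorem N17429 : nd 17429 = n50199 := ndS (p := 15223) (l := 8) rfl N15223 D50199
theorem N17430 : nd 17430 = n50200 := ndS (p := 15225) (l := 2) rfl N15225 D50200
theorem N17431 : nd 17431 = n50201 := ndS (p := 15225) (l := 4) rfl N15225 D50201
theorem N17432 : nd 17432 = n50202 := ndS (p := 15225) (l := 9) rfl N15225 D50202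
theorem N17433 : nd 17433 = n50203 := ndS (p := 15227) (l := 1) rfl N15227 D50203
theorem N17434 : nd 17434 = n50204 := ndS (p := 15227) (l := 4) rfl N15227 D50204
theorem N17435 : nd 17435 = n50205 := ndS (p := 15227) (l := 9) rfl N15227 D50205
theorem N17436 : nd 17436 = n50206 := ndS (p := 15228) (l := 5) rfl N15228 D50206
theorem N17437 : nd 17437 = n50207 := ndS (p := 15228) (l := 9) rfl N15228 D50207
theorem N17438 : nd 17438 = n50208 := ndS (p := 15229) (l := 8) rfl N15229 D50208
theorem N17439 : nd 17439 = n50209 := ndS (p := 15230) (l := 0) rfl N15230 D50209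
theorem N17440 : nd 17440 = n50210 := ndS (p := 15230) (l := 4) rfl N15230 D50210
theorem N17441 : nd 17441 = n50211 := ndS (p := 15230) (l := 9) rfl N15230 D50211
theorem N17442 : nd 17442 = n50212 := ndS (p := 15231) (l := 3) rfl N15231 D50212
theorem N17443 : nd 17443 = n50213 := ndS (p := 15231) (l := 5) rfl N15231 D50213
theorem N17444 : nd 17444 = n50214 := ndS (p := 15231) (l := 9) rfl N15231 D50214
theorem N17445 : nd 17445 = n50215 := ndS (p := 15232) (l := 8) rfl N15232 D50215
theorem N17446 : nd 17446 = n50216 := ndS (p := 15233) (l := 6) rfl N15233 D50216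
theorem N17447 : nd 17447 = n50217 := ndS (p := 15233) (l := 9) rfl N15233 D50217
theorem N17448 : nd 17448 = n50218 := ndS (p := 15234) (l := 8) rfl N15234 D50218
theorem N17449 : nd 17449 = n50219 := ndS (p := 15236) (l := 0) rfl N15236 D50219
theorem N17450 : nd 17450 = n50220 := ndS (p := 15236) (l := 4) rfl N15236 D50220
theorem N17451 : nd 17451 = n50221 := ndS (p := 15236) (l := 9) rfl N15236 D50221
theorem N17452 : nd 17452 = n50222 := ndS (p := 15237) (l := 5) rfl N15237 D50222
theorem N17453 : nd 17453 = n50223 := ndS (p := 15237) (l := 9) rfl N15237 D50223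
theorem N17454 : nd 17454 = n50224 := ndS (p := 15238) (l := 8) rfl N15238 D50224
theorem N17455 : nd 17455 = n50225 := ndS (p := 15239) (l := 9) rfl N15239 D50225
theorem N17456 : nd 17456 = n50226 := ndS (p := 15240) (l := 8) rfl N15240 D50226
theorem N17457 : nd 17457 = n50227 := ndS (p := 15242) (l := 4) rfl N15242 D50227
theorem N17458 : nd 17458 = n50228 := ndS (p := 15242) (l := 9) rfl N15242 D50228
theorem N17459 : nd 17459 = n50229 := ndS (p := 15243) (l := 5) rfl N15243 D50229
theorem N17460 : nd 17460 = n50230 := ndS (p := 15243) (l := 9) rfl N15243 D50230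
theorem N17461 : nd 17461 = n50231 := ndS (p := 15244) (l := 8) rfl N15244 D50231
theorem N17462 : nd 17462 = n50232 := ndS (p := 15245) (l := 6) rfl N15245 D50232
theorem N17463 : nd 17463 = n50233 := ndS (p := 15245) (l := 9) rfl N15245 D50233
theorem N17464 : nd 17464 = n50234 := ndS (p := 15246) (l := 8) rfl N15246 D50234
theorem N17465 : nd 17465 = n50235 := ndS (p := 15247) (l := 3) rfl N15247 D50235
theorem N17466 : nd 17466 = n50236 := ndS (p := 15248) (l := 7) rfl N15248 D50236
theorem N17467 : nd 17467 = n50237 := ndS (p := 15248) (l := 9) rfl N15248 D50237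
theorem N17468 : nd 17468 = n50238 := ndS (p := 15249) (l := 8) rfl N15249 D50238
theorem N17469 : nd 17469 = n50239 := ndS (p := 15251) (l := 9) rfl N15251 D50239
theorem N17470 : nd 17470 = n50240 := ndS (p := 15252) (l := 8) rfl N15252 D50240
theorem N17471 : nd 17471 = n50241 := ndS (p := 15253) (l := 6) rfl N15253 D50241
theorem N17472 : nd 17472 = n50242 := ndS (p := 15253) (l := 9) rfl N15253 D50242
theorem N17473 : nd 17473 = n50243 := ndS (p := 15254) (l := 8) rfl N15254 D50243
theorem N17474 : nd 17474 = n50244 := ndS (p := 15255) (l := 3) rfl N15255 D50244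
theorem N17475 : nd 17475 = n50245 := ndS (p := 15256) (l := 7) rfl N15256 D50245
theorem N17476 : nd 17476 = n50246 := ndS (p := 15256) (l := 9) rfl N15256 D50246
theorem N17477 : nd 17477 = n50247 := ndS (p := 15257) (l := 8) rfl N15257 D50247
theorem N17478 : nd 17478 = n50248 := ndS (p := 15258) (l := 3) rfl N15258 D50248
theorem N17479 : nd 17479 = n50249 := ndS (p := 15259) (l := 4) rfl N15259 D50249
theorem N17480 : nd 17480 = n50250 := ndS (p := 15260) (l := 9) rfl N15260 D50250
theorem N17481 : nd 17481 = n50251 := ndS (p := 15261) (l := 8) rfl N15261 D50251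
theorem N17482 : nd 17482 = n50252 := ndS (p := 15264) (l := 9) rfl N15264 D50252
theorem N17483 : nd 17483 = n50253 := ndS (p := 15267) (l := 9) rfl N15267 D50253
theorem N17484 : nd 17484 = n50254 := ndS (p := 15268) (l := 8) rfl N15268 D50254
theorem N17485 : nd 17485 = n50255 := ndS (p := 15269) (l := 9) rfl N15269 D50255
theorem N17486 : nd 17486 = n50256 := ndS (p := 15270) (l := 3) rfl N15270 D50256
theorem N17487 : nd 17487 = n50257 := ndS (p := 15270) (l := 9) rfl N15270 D50257
theorem N17488 : nd 17488 = n50258 := ndS (p := 15271) (l := 8) rfl N15271 D50258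
theorem N17489 : nd 17489 = n50259 := ndS (p := 15272) (l := 8) rfl N15272 D50259
theorem N17490 : nd 17490 = n50260 := ndS (p := 15274) (l := 9) rfl N15274 D50260
theorem N17491 : nd 17491 = n50261 := ndS (p := 15275) (l := 3) rfl N15275 D50261
theorem N17492 : nd 17492 = n50262 := ndS (p := 15275) (l := 9) rfl N15275 D50262
theorem N17493 : nd 17493 = n50263 := ndS (p := 15276) (l := 8) rfl N15276 D50263
theorem N17494 : nd 17494 = n50264 := ndS (p := 15277) (l := 8) rfl N15277 D50264
theorem N17495 : nd 17495 = n50265 := ndS (p := 15277) (l := 9) rfl N15277 D50265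
theorem N17496 : nd 17496 = n50266 := ndS (p := 15278) (l := 8) rfl N15278 D50266
theorem N17497 : nd 17497 = n50267 := ndS (p := 15279) (l := 3) rfl N15279 D50267
theorem N17498 : nd 17498 = n50268 := ndS (p := 15281) (l := 9) rfl N15281 D50268
theorem N17499 : nd 17499 = n50269 := ndS (p := 15282) (l := 8) rfl N15282 D50269
theorem N17500 : nd 17500 = n50270 := ndS (p := 15283) (l := 3) rfl N15283 D50270
theorem N17501 : nd 17501 = n50271 := ndS (p := 15284) (l := 8) rfl N15284 D50271
theorem N17502 : nd 17502 = n50272 := ndS (p := 15285) (l := 3) rfl N15285 D50272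
theorem N17503 : nd 17503 = n50273 := ndS (p := 15286) (l := 4) rfl N15286 D50273
theorem N17504 : nd 17504 = n50274 := ndS (p := 15291) (l := 8) rfl N15291 D50274
theorem N17505 : nd 17505 = n50275 := ndS (p := 15292) (l := 8) rfl N15292 D50275
theorem N17506 : nd 17506 = n50276 := ndS (p := 15295) (l := 8) rfl N15295 D50276
theorem N17507 : nd 17507 = n50277 := ndS (p := 15296) (l := 8) rfl N15296 D50277
theorem N17508 : nd 17508 = n50278 := ndS (p := 15297) (l := 3) rfl N15297 D50278
theorem N17509 : nd 17509 = n50279 := ndS (p := 15301) (l := 8) rfl N15301 D50279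
theorem N17510 : nd 17510 = n50280 := ndS (p := 15305) (l := 9) rfl N15305 D50280
theorem N17511 : nd 17511 = n50281 := ndS (p := 15307) (l := 9) rfl N15307 D50281
theorem N17512 : nd 17512 = n50282 := ndS (p := 15309) (l := 9) rfl N15309 D50282
theorem N17513 : nd 17513 = n50283 := ndS (p := 15310) (l := 8) rfl N15310 D50283
theorem N17514 : nd 17514 = n50284 := ndS (p := 15311) (l := 9) rfl N15311 D50284
theorem N17515 : nd 17515 = n50285 := ndS (p := 15312) (l := 8) rfl N15312 D50285
theorem N17516 : nd 17516 = n50286 := ndS (p := 15314) (l := 9) rfl N15314 D50286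
theorem N17517 : nd 17517 = n50287 := ndS (p := 15315) (l := 8) rfl N15315 D50287
theorem N17518 : nd 17518 = n50288 := ndS (p := 15316) (l := 8) rfl N15316 D50288
theorem N17519 : nd 17519 = n50289 := ndS (p := 15317) (l := 9) rfl N15317 D50289
theorem N17520 : nd 17520 = n50290 := ndS (p := 15318) (l := 8) rfl N15318 D50290
theorem N17521 : nd 17521 = n50291 := ndS (p := 15319) (l := 8) rfl N15319 D50291
theorem N17522 : nd 17522 = n50292 := ndS (p := 15321) (l := 3) rfl N15321 D50292
theorem N17523 : nd 17523 = n50293 := ndS (p := 15322) (l := 9) rfl N15322 D50293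
theorem N17524 : nd 17524 = n50294 := ndS (p := 15323) (l := 8) rfl N15323 D50294
theorem N17525 : nd 17525 = n50295 := ndS (p := 15324) (l := 9) rfl N15324 D50295
theorem N17526 : nd 17526 = n50296 := ndS (p := 15327) (l := 8) rfl N15327 D50296
theorem N17527 : nd 17527 = n50297 := ndS (p := 15328) (l := 8) rfl N15328 D50297
theorem N17528 : nd 17528 = n50298 := ndS (p := 15331) (l := 8) rfl N15331 D50298
theorem N17529 : nd 17529 = n50299 := ndS (p := 15333) (l := 3) rfl N15333 D50299
theorem N17530 : nd 17530 = n50300 := ndS (p := 15334) (l := 9) rfl N15334 D50300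
theorem N17531 : nd 17531 = n50301 := ndS (p := 15335) (l := 8) rfl N15335 D50301
theorem N17532 : nd 17532 = n50302 := ndS (p := 15338) (l := 9) rfl N15338 D50302
theorem N17533 : nd 17533 = n50303 := ndS (p := 15339) (l := 9) rfl N15339 D50303
theorem N17534 : nd 17534 = n50304 := ndS (p := 15340) (l := 8) rfl N15340 D50304
theorem N17535 : nd 17535 = n50305 := ndS (p := 15341) (l := 9) rfl N15341 D50305
theorem N17536 : nd 17536 = n50306 := ndS (p := 15342) (l := 8) rfl N15342 D50306
theorem N17537 : nd 17537 = n50307 := ndS (p := 15344) (l := 9) rfl N15344 D50307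
theorem N17538 : nd 17538 = n50308 := ndS (p := 15345) (l := 9) rfl N15345 D50308
theorem N17539 : nd 17539 = n50309 := ndS (p := 15346) (l := 8) rfl N15346 D50309
theorem N17540 : nd 17540 = n50310 := ndS (p := 15347) (l := 9) rfl N15347 D50310
theorem N17541 : nd 17541 = n50311 := ndS (p := 15348) (l := 8) rfl N15348 D50311
theorem N17542 : nd 17542 = n50312 := ndS (p := 15349) (l := 3) rfl N15349 D50312
theorem N17543 : nd 17543 = n50313 := ndS (p := 15350) (l := 9) rfl N15350 D50313
theorem N17544 : nd 17544 = n50314 := ndS (p := 15351) (l := 8) rfl N15351 D50314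
theorem N17545 : nd 17545 = n50315 := ndS (p := 15355) (l := 8) rfl N15355 D50315
theorem N17546 : nd 17546 = n50316 := ndS (p := 15356) (l := 8) rfl N15356 D50316
theorem N17547 : nd 17547 = n50317 := ndS (p := 15358) (l := 8) rfl N15358 D50317
theorem N17548 : nd 17548 = n50318 := ndS (p := 15359) (l := 3) rfl N15359 D50318
theorem N17549 : nd 17549 = n50319 := ndS (p := 15360) (l := 8) rfl N15360 D50319
theorem N17550 : nd 17550 = n50320 := ndS (p := 15361) (l := 3) rfl N15361 D50320
theorem N17551 : nd 17551 = n50321 := ndS (p := 15362) (l := 4) rfl N15362 D50321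
theorem N17552 : nd 17552 = n50322 := ndS (p := 15365) (l := 8) rfl N15365 D50322
theorem N17553 : nd 17553 = n50323 := ndS (p := 15368) (l := 3) rfl N15368 D50323
theorem N17554 : nd 17554 = n50324 := ndS (p := 15368) (l := 9) rfl N15368 D50324
theorem N17555 : nd 17555 = n50325 := ndS (p := 15369) (l := 9) rfl N15369 D50325
theorem N17556 : nd 17556 = n50326 := ndS (p := 15371) (l := 8) rfl N15371 D50326
theorem N17557 : nd 17557 = n50327 := ndS (p := 15372) (l := 3) rfl N15372 D50327
theorem N17558 : nd 17558 = n50328 := ndS (p := 15372) (l := 9) rfl N15372 D50328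
theorem N17559 : nd 17559 = n50329 := ndS (p := 15373) (l := 2) rfl N15373 D50329
theorem N17560 : nd 17560 = n50330 := ndS (p := 15373) (l := 4) rfl N15373 D50330
theorem N17561 : nd 17561 = n50331 := ndS (p := 15373) (l := 9) rfl N15373 D50331
theorem N17562 : nd 17562 = n50332 := ndS (p := 15375) (l := 9) rfl N15375 D50332
theorem N17563 : nd 17563 = n50333 := ndS (p := 15377) (l := 9) rfl N15377 D50333
theorem N17564 : nd 17564 = n50334 := ndS (p := 15378) (l := 8) rfl N15378 D50334
theorem N17565 : nd 17565 = n50335 := ndS (p := 15379) (l := 8) rfl N15379 D50335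
theorem N17566 : nd 17566 = n50336 := ndS (p := 15382) (l := 1) rfl N15382 D50336
theorem N17567 : nd 17567 = n50337 := ndS (p := 15382) (l := 9) rfl N15382 D50337
theorem N17568 : nd 17568 = n50338 := ndS (p := 15383) (l := 8) rfl N15383 D50338
theorem N17569 : nd 17569 = n50339 := ndS (p := 15384) (l := 9) rfl N15384 D50339
theorem N17570 : nd 17570 = n50340 := ndS (p := 15385) (l := 8) rfl N15385 D50340
theorem N17571 : nd 17571 = n50341 := ndS (p := 15387) (l := 9) rfl N15387 D50341
theorem N17572 : nd 17572 = n50342 := ndS (p := 15388) (l := 8) rfl N15388 D50342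
theorem N17573 : nd 17573 = n50343 := ndS (p := 15389) (l := 3) rfl N15389 D50343
theorem N17574 : nd 17574 = n50344 := ndS (p := 15390) (l := 2) rfl N15390 D50344
theorem N17575 : nd 17575 = n50345 := ndS (p := 15390) (l := 4) rfl N15390 D50345
theorem N17576 : nd 17576 = n50346 := ndS (p := 15390) (l := 9) rfl N15390 D50346
theorem N17577 : nd 17577 = n50347 := ndS (p := 15392) (l := 9) rfl N15392 D50347
theorem N17578 : nd 17578 = n50348 := ndS (p := 15393) (l := 8) rfl N15393 D50348
theorem N17579 : nd 17579 = n50349 := ndS (p := 15394) (l := 9) rfl N15394 D50349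
theorem N17580 : nd 17580 = n50350 := ndS (p := 15395) (l := 8) rfl N15395 D50350
theorem N17581 : nd 17581 = n50351 := ndS (p := 15396) (l := 8) rfl N15396 D50351
theorem N17582 : nd 17582 = n50352 := ndS (p := 15398) (l := 4) rfl N15398 D50352
theorem N17583 : nd 17583 = n50353 := ndS (p := 15398) (l := 9) rfl N15398 D50353
theorem N17584 : nd 17584 = n50354 := ndS (p := 15400) (l := 4) rfl N15400 D50354
theorem N17585 : nd 17585 = n50355 := ndS (p := 15400) (l := 9) rfl N15400 D50355
theorem N17586 : nd 17586 = n50356 := ndS (p := 15401) (l := 5) rfl N15401 D50356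
theorem N17587 : nd 17587 = n50357 := ndS (p := 15401) (l := 9) rfl N15401 D50357
theorem N17588 : nd 17588 = n50358 := ndS (p := 15402) (l := 8) rfl N15402 D50358
theorem N17589 : nd 17589 = n50359 := ndS (p := 15403) (l := 8) rfl N15403 D50359
theorem N17590 : nd 17590 = n50360 := ndS (p := 15404) (l := 5) rfl N15404 D50360
theorem N17591 : nd 17591 = n50361 := ndS (p := 15404) (l := 9) rfl N15404 D50361
theorem N17592 : nd 17592 = n50362 := ndS (p := 15405) (l := 8) rfl N15405 D50362
theorem N17593 : nd 17593 = n50363 := ndS (p := 15406) (l := 9) rfl N15406 D50363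
theorem N17594 : nd 17594 = n50364 := ndS (p := 15407) (l := 8) rfl N15407 D50364
theorem N17595 : nd 17595 = n50365 := ndS (p := 15409) (l := 9) rfl N15409 D50365
theorem N17596 : nd 17596 = n50366 := ndS (p := 15410) (l := 9) rfl N15410 D50366
theorem N17597 : nd 17597 = n50367 := ndS (p := 15411) (l := 8) rfl N15411 D50367
theorem N17598 : nd 17598 = n50368 := ndS (p := 15412) (l := 8) rfl N15412 D50368
theorem N17599 : nd 17599 = n50369 := ndS (p := 15413) (l := 3) rfl N15413 D50369
theorem N17600 : nd 17600 = n50370 := ndS (p := 15416) (l := 3) rfl N15416 D50370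
theorem N17601 : nd 17601 = n50371 := ndS (p := 15416) (l := 9) rfl N15416 D50371
theorem N17602 : nd 17602 = n50372 := ndS (p := 15417) (l := 8) rfl N15417 D50372
theorem N17603 : nd 17603 = n50373 := ndS (p := 15418) (l := 8) rfl N15418 D50373
theorem N17604 : nd 17604 = n50374 := ndS (p := 15420) (l := 3) rfl N15420 D50374
theorem N17605 : nd 17605 = n50375 := ndS (p := 15421) (l := 8) rfl N15421 D50375
theorem N17606 : nd 17606 = n50376 := ndS (p := 15422) (l := 3) rfl N15422 D50376
theorem N17607 : nd 17607 = n50377 := ndS (p := 15423) (l := 4) rfl N15423 D50377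
theorem N17608 : nd 17608 = n50378 := ndS (p := 15428) (l := 2) rfl N15428 D50378
theorem N17609 : nd 17609 = n50379 := ndS (p := 15428) (l := 4) rfl N15428 D50379
theorem N17610 : nd 17610 = n50380 := ndS (p := 15428) (l := 9) rfl N15428 D50380
theorem N17611 : nd 17611 = n50381 := ndS (p := 15430) (l := 9) rfl N15430 D50381
theorem N17612 : nd 17612 = n50382 := ndS (p := 15431) (l := 8) rfl N15431 D50382
theorem N17613 : nd 17613 = n50383 := ndS (p := 15432) (l := 9) rfl N15432 D50383
theorem N17614 : nd 17614 = n50384 := ndS (p := 15433) (l := 8) rfl N15433 D50384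
theorem N17615 : nd 17615 = n50385 := ndS (p := 15435) (l := 3) rfl N15435 D50385
theorem N17616 : nd 17616 = n50386 := ndS (p := 15435) (l := 9) rfl N15435 D50386
theorem N17617 : nd 17617 = n50387 := ndS (p := 15436) (l := 4) rfl N15436 D50387
theorem N17618 : nd 17618 = n50388 := ndS (p := 15436) (l := 9) rfl N15436 D50388
theorem N17619 : nd 17619 = n50389 := ndS (p := 15438) (l := 4) rfl N15438 D50389
theorem N17620 : nd 17620 = n50390 := ndS (p := 15438) (l := 9) rfl N15438 D50390
theorem N17621 : nd 17621 = n50391 := ndS (p := 15439) (l := 9) rfl N15439 D50391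
theorem N17622 : nd 17622 = n50392 := ndS (p := 15440) (l := 8) rfl N15440 D50392
theorem N17623 : nd 17623 = n50393 := ndS (p := 15441) (l := 8) rfl N15441 D50393
theorem N17624 : nd 17624 = n50394 := ndS (p := 15442) (l := 8) rfl N15442 D50394
theorem N17625 : nd 17625 = n50395 := ndS (p := 15444) (l := 9) rfl N15444 D50395
theorem N17626 : nd 17626 = n50396 := ndS (p := 15445) (l := 8) rfl N15445 D50396
theorem N17627 : nd 17627 = n50397 := ndS (p := 15446) (l := 3) rfl N15446 D50397
theorem N17628 : nd 17628 = n50398 := ndS (p := 15447) (l := 9) rfl N15447 D50398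
theorem N17629 : nd 17629 = n50399 := ndS (p := 15449) (l := 8) rfl N15449 D50399
theorem N17630 : nd 17630 = n50400 := ndS (p := 15450) (l := 8) rfl N15450 D50400
theorem N17631 : nd 17631 = n50401 := ndS (p := 15451) (l := 8) rfl N15451 D50401
theorem N17632 : nd 17632 = n50402 := ndS (p := 15454) (l := 3) rfl N15454 D50402
theorem N17633 : nd 17633 = n50403 := ndS (p := 15455) (l := 8) rfl N15455 D50403
theorem N17634 : nd 17634 = n50404 := ndS (p := 15456) (l := 3) rfl N15456 D50404
theorem N17635 : nd 17635 = n50405 := ndS (p := 15457) (l := 4) rfl N15457 D50405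
theorem N17636 : nd 17636 = n50406 := ndS (p := 15458) (l := 1) rfl N15458 D50406
theorem N17637 : nd 17637 = n50407 := ndS (p := 15458) (l := 4) rfl N15458 D50407
theorem N17638 : nd 17638 = n50408 := ndS (p := 15458) (l := 9) rfl N15458 D50408
theorem N17639 : nd 17639 = n50409 := ndS (p := 15459) (l := 9) rfl N15459 D50409
theorem N17640 : nd 17640 = n50410 := ndS (p := 15460) (l := 8) rfl N15460 D50410
theorem N17641 : nd 17641 = n50411 := ndS (p := 15461) (l := 9) rfl N15461 D50411
theorem N17642 : nd 17642 = n50412 := ndS (p := 15462) (l := 8) rfl N15462 D50412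
theorem N17643 : nd 17643 = n50413 := ndS (p := 15464) (l := 9) rfl N15464 D50413
theorem N17644 : nd 17644 = n50414 := ndS (p := 15465) (l := 8) rfl N15465 D50414
theorem N17645 : nd 17645 = n50415 := ndS (p := 15467) (l := 8) rfl N15467 D50415
theorem N17646 : nd 17646 = n50416 := ndS (p := 15468) (l := 3) rfl N15468 D50416
theorem N17647 : nd 17647 = n50417 := ndS (p := 15471) (l := 2) rfl N15471 D50417
theorem N17648 : nd 17648 = n50418 := ndS (p := 15471) (l := 4) rfl N15471 D50418
theorem N17649 : nd 17649 = n50419 := ndS (p := 15471) (l := 9) rfl N15471 D50419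
theorem N17650 : nd 17650 = n50420 := ndS (p := 15473) (l := 1) rfl N15473 D50420
theorem N17651 : nd 17651 = n50421 := ndS (p := 15473) (l := 4) rfl N15473 D50421
theorem N17652 : nd 17652 = n50422 := ndS (p := 15473) (l := 9) rfl N15473 D50422
theorem N17653 : nd 17653 = n50423 := ndS (p := 15474) (l := 9) rfl N15474 D50423
theorem N17654 : nd 17654 = n50424 := ndS (p := 15475) (l := 8) rfl N15475 D50424
theorem N17655 : nd 17655 = n50425 := ndS (p := 15476) (l := 0) rfl N15476 D50425
theorem N17656 : nd 17656 = n50426 := ndS (p := 15476) (l := 4) rfl N15476 D50426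
theorem N17657 : nd 17657 = n50427 := ndS (p := 15476) (l := 9) rfl N15476 D50427
theorem N17658 : nd 17658 = n50428 := ndS (p := 15477) (l := 3) rfl N15477 D50428
theorem N17659 : nd 17659 = n50429 := ndS (p := 15477) (l := 5) rfl N15477 D50429
theorem N17660 : nd 17660 = n50430 := ndS (p := 15477) (l := 9) rfl N15477 D50430
theorem N17661 : nd 17661 = n50431 := ndS (p := 15478) (l := 8) rfl N15478 D50431
theorem N17662 : nd 17662 = n50432 := ndS (p := 15479) (l := 6) rfl N15479 D50432
theorem N17663 : nd 17663 = n50433 := ndS (p := 15479) (l := 9) rfl N15479 D50433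
theorem N17664 : nd 17664 = n50434 := ndS (p := 15480) (l := 8) rfl N15480 D50434
theorem N17665 : nd 17665 = n50435 := ndS (p := 15482) (l := 9) rfl N15482 D50435
theorem N17666 : nd 17666 = n50436 := ndS (p := 15483) (l := 8) rfl N15483 D50436
theorem N17667 : nd 17667 = n50437 := ndS (p := 15485) (l := 9) rfl N15485 D50437
theorem N17668 : nd 17668 = n50438 := ndS (p := 15486) (l := 5) rfl N15486 D50438
theorem N17669 : nd 17669 = n50439 := ndS (p := 15486) (l := 9) rfl N15486 D50439
theorem N17670 : nd 17670 = n50440 := ndS (p := 15487) (l := 8) rfl N15487 D50440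
theorem N17671 : nd 17671 = n50441 := ndS (p := 15488) (l := 6) rfl N15488 D50441
theorem N17672 : nd 17672 = n50442 := ndS (p := 15488) (l := 9) rfl N15488 D50442
theorem N17673 : nd 17673 = n50443 := ndS (p := 15489) (l := 8) rfl N15489 D50443
theorem N17674 : nd 17674 = n50444 := ndS (p := 15490) (l := 3) rfl N15490 D50444
theorem N17675 : nd 17675 = n50445 := ndS (p := 15491) (l := 7) rfl N15491 D50445
theorem N17676 : nd 17676 = n50446 := ndS (p := 15491) (l := 9) rfl N15491 D50446
theorem N17677 : nd 17677 = n50447 := ndS (p := 15492) (l := 8) rfl N15492 D50447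
theorem N17678 : nd 17678 = n50448 := ndS (p := 15494) (l := 9) rfl N15494 D50448
theorem N17679 : nd 17679 = n50449 := ndS (p := 15495) (l := 8) rfl N15495 D50449
theorem N17680 : nd 17680 = n50450 := ndS (p := 15496) (l := 9) rfl N15496 D50450
theorem N17681 : nd 17681 = n50451 := ndS (p := 15497) (l := 8) rfl N15497 D50451
theorem N17682 : nd 17682 = n50452 := ndS (p := 15498) (l := 3) rfl N15498 D50452
theorem N17683 : nd 17683 = n50453 := ndS (p := 15499) (l := 9) rfl N15499 D50453
theorem N17684 : nd 17684 = n50454 := ndS (p := 15500) (l := 8) rfl N15500 D50454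
theorem N17685 : nd 17685 = n50455 := ndS (p := 15501) (l := 3) rfl N15501 D50455
theorem N17686 : nd 17686 = n50456 := ndS (p := 15502) (l := 4) rfl N15502 D50456
theorem N17687 : nd 17687 = n50457 := ndS (p := 15503) (l := 9) rfl N15503 D50457
theorem N17688 : nd 17688 = n50458 := ndS (p := 15504) (l := 8) rfl N15504 D50458
theorem N17689 : nd 17689 = n50459 := ndS (p := 15506) (l := 9) rfl N15506 D50459
theorem N17690 : nd 17690 = n50460 := ndS (p := 15509) (l := 9) rfl N15509 D50460
theorem N17691 : nd 17691 = n50461 := ndS (p := 15510) (l := 8) rfl N15510 D50461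
theorem N17692 : nd 17692 = n50462 := ndS (p := 15511) (l := 9) rfl N15511 D50462
theorem N17693 : nd 17693 = n50463 := ndS (p := 15512) (l := 8) rfl N15512 D50463
theorem N17694 : nd 17694 = n50464 := ndS (p := 15515) (l := 9) rfl N15515 D50464
theorem N17695 : nd 17695 = n50465 := ndS (p := 15516) (l := 3) rfl N15516 D50465
theorem N17696 : nd 17696 = n50466 := ndS (p := 15516) (l := 9) rfl N15516 D50466
theorem N17697 : nd 17697 = n50467 := ndS (p := 15517) (l := 8) rfl N15517 D50467
theorem N17698 : nd 17698 = n50468 := ndS (p := 15518) (l := 8) rfl N15518 D50468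
theorem N17699 : nd 17699 = n50469 := ndS (p := 15518) (l := 9) rfl N15518 D50469
theorem N17700 : nd 17700 = n50470 := ndS (p := 15519) (l := 8) rfl N15519 D50470
theorem N17701 : nd 17701 = n50471 := ndS (p := 15520) (l := 3) rfl N15520 D50471
theorem N17702 : nd 17702 = n50472 := ndS (p := 15522) (l := 8) rfl N15522 D50472
theorem N17703 : nd 17703 = n50473 := ndS (p := 15523) (l := 3) rfl N15523 D50473
theorem N17704 : nd 17704 = n50474 := ndS (p := 15524) (l := 8) rfl N15524 D50474
theorem N17705 : nd 17705 = n50475 := ndS (p := 15525) (l := 3) rfl N15525 D50475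
theorem N17706 : nd 17706 = n50476 := ndS (p := 15526) (l := 4) rfl N15526 D50476
theorem N17707 : nd 17707 = n50477 := ndS (p := 15527) (l := 3) rfl N15527 D50477
theorem N17708 : nd 17708 = n50478 := ndS (p := 15528) (l := 2) rfl N15528 D50478
theorem N17709 : nd 17709 = n50479 := ndS (p := 15528) (l := 4) rfl N15528 D50479
theorem N17710 : nd 17710 = n50480 := ndS (p := 15529) (l := 5) rfl N15529 D50480
theorem N17711 : nd 17711 = n50481 := ndS (p := 15531) (l := 9) rfl N15531 D50481
theorem N17712 : nd 17712 = n50482 := ndS (p := 15532) (l := 9) rfl N15532 D50482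
theorem N17713 : nd 17713 = n50483 := ndS (p := 15533) (l := 8) rfl N15533 D50483
theorem N17714 : nd 17714 = n50484 := ndS (p := 15536) (l := 9) rfl N15536 D50484
theorem N17715 : nd 17715 = n50485 := ndS (p := 15537) (l := 8) rfl N15537 D50485
theorem N17716 : nd 17716 = n50486 := ndS (p := 15538) (l := 9) rfl N15538 D50486
theorem N17717 : nd 17717 = n50487 := ndS (p := 15539) (l := 8) rfl N15539 D50487
theorem N17718 : nd 17718 = n50488 := ndS (p := 15543) (l := 8) rfl N15543 D50488
theorem N17719 : nd 17719 = n50489 := ndS (p := 15545) (l := 3) rfl N15545 D50489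
theorem N17720 : nd 17720 = n50490 := ndS (p := 15546) (l := 2) rfl N15546 D50490
theorem N17721 : nd 17721 = n50491 := ndS (p := 15546) (l := 4) rfl N15546 D50491
theorem N17722 : nd 17722 = n50492 := ndS (p := 15552) (l := 3) rfl N15552 D50492
theorem N17723 : nd 17723 = n50493 := ndS (p := 15552) (l := 9) rfl N15552 D50493
theorem N17724 : nd 17724 = n50494 := ndS (p := 15553) (l := 4) rfl N15553 D50494
theorem N17725 : nd 17725 = n50495 := ndS (p := 15553) (l := 9) rfl N15553 D50495
theorem N17726 : nd 17726 = n50496 := ndS (p := 15555) (l := 9) rfl N15555 D50496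
theorem N17727 : nd 17727 = n50497 := ndS (p := 15556) (l := 8) rfl N15556 D50497
theorem N17728 : nd 17728 = n50498 := ndS (p := 15557) (l := 8) rfl N15557 D50498
theorem N17729 : nd 17729 = n50499 := ndS (p := 15560) (l := 4) rfl N15560 D50499
theorem N17730 : nd 17730 = n50500 := ndS (p := 15560) (l := 9) rfl N15560 D50500
theorem N17731 : nd 17731 = n50501 := ndS (p := 15562) (l := 3) rfl N15562 D50501
theorem N17732 : nd 17732 = n50502 := ndS (p := 15562) (l := 9) rfl N15562 D50502
theorem N17733 : nd 17733 = n50503 := ndS (p := 15563) (l := 4) rfl N15563 D50503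
theorem N17734 : nd 17734 = n50504 := ndS (p := 15563) (l := 9) rfl N15563 D50504
theorem N17735 : nd 17735 = n50505 := ndS (p := 15565) (l := 5) rfl N15565 D50505
theorem N17736 : nd 17736 = n50506 := ndS (p := 15565) (l := 9) rfl N15565 D50506
theorem N17737 : nd 17737 = n50507 := ndS (p := 15566) (l := 8) rfl N15566 D50507
theorem N17738 : nd 17738 = n50508 := ndS (p := 15567) (l := 9) rfl N15567 D50508
theorem N17739 : nd 17739 = n50509 := ndS (p := 15568) (l := 8) rfl N15568 D50509
theorem N17740 : nd 17740 = n50510 := ndS (p := 15569) (l := 9) rfl N15569 D50510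
theorem N17741 : nd 17741 = n50511 := ndS (p := 15570) (l := 8) rfl N15570 D50511
theorem N17742 : nd 17742 = n50512 := ndS (p := 15573) (l := 2) rfl N15573 D50512
theorem N17743 : nd 17743 = n50513 := ndS (p := 15573) (l := 4) rfl N15573 D50513
theorem N17744 : nd 17744 = n50514 := ndS (p := 15573) (l := 9) rfl N15573 D50514
theorem N17745 : nd 17745 = n50515 := ndS (p := 15575) (l := 1) rfl N15575 D50515
theorem N17746 : nd 17746 = n50516 := ndS (p := 15575) (l := 4) rfl N15575 D50516
theorem N17747 : nd 17747 = n50517 := ndS (p := 15575) (l := 9) rfl N15575 D50517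
theorem N17748 : nd 17748 = n50518 := ndS (p := 15576) (l := 5) rfl N15576 D50518
theorem N17749 : nd 17749 = n50519 := ndS (p := 15576) (l := 9) rfl N15576 D50519
theorem N17750 : nd 17750 = n50520 := ndS (p := 15577) (l := 8) rfl N15577 D50520
theorem N17751 : nd 17751 = n50521 := ndS (p := 15578) (l := 4) rfl N15578 D50521
theorem N17752 : nd 17752 = n50522 := ndS (p := 15578) (l := 9) rfl N15578 D50522
theorem N17753 : nd 17753 = n50523 := ndS (p := 15579) (l := 3) rfl N15579 D50523
theorem N17754 : nd 17754 = n50524 := ndS (p := 15579) (l := 5) rfl N15579 D50524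
theorem N17755 : nd 17755 = n50525 := ndS (p := 15579) (l := 9) rfl N15579 D50525
theorem N17756 : nd 17756 = n50526 := ndS (p := 15580) (l := 8) rfl N15580 D50526
theorem N17757 : nd 17757 = n50527 := ndS (p := 15581) (l := 9) rfl N15581 D50527
theorem N17758 : nd 17758 = n50528 := ndS (p := 15582) (l := 8) rfl N15582 D50528
theorem N17759 : nd 17759 = n50529 := ndS (p := 15584) (l := 4) rfl N15584 D50529
theorem N17760 : nd 17760 = n50530 := ndS (p := 15584) (l := 9) rfl N15584 D50530
theorem N17761 : nd 17761 = n50531 := ndS (p := 15585) (l := 5) rfl N15585 D50531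
theorem N17762 : nd 17762 = n50532 := ndS (p := 15585) (l := 9) rfl N15585 D50532
theorem N17763 : nd 17763 = n50533 := ndS (p := 15586) (l := 8) rfl N15586 D50533
theorem N17764 : nd 17764 = n50534 := ndS (p := 15587) (l := 6) rfl N15587 D50534
theorem N17765 : nd 17765 = n50535 := ndS (p := 15587) (l := 9) rfl N15587 D50535
theorem N17766 : nd 17766 = n50536 := ndS (p := 15588) (l := 8) rfl N15588 D50536
theorem N17767 : nd 17767 = n50537 := ndS (p := 15590) (l := 5) rfl N15590 D50537
theorem N17768 : nd 17768 = n50538 := ndS (p := 15590) (l := 9) rfl N15590 D50538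
theorem N17769 : nd 17769 = n50539 := ndS (p := 15591) (l := 8) rfl N15591 D50539
theorem N17770 : nd 17770 = n50540 := ndS (p := 15592) (l := 9) rfl N15592 D50540
theorem N17771 : nd 17771 = n50541 := ndS (p := 15593) (l := 8) rfl N15593 D50541
theorem N17772 : nd 17772 = n50542 := ndS (p := 15595) (l := 8) rfl N15595 D50542
theorem N17773 : nd 17773 = n50543 := ndS (p := 15597) (l := 8) rfl N15597 D50543
theorem N17774 : nd 17774 = n50544 := ndS (p := 15599) (l := 3) rfl N15599 D50544
theorem N17775 : nd 17775 = n50545 := ndS (p := 15600) (l := 9) rfl N15600 D50545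
theorem N17776 : nd 17776 = n50546 := ndS (p := 15602) (l := 9) rfl N15602 D50546
theorem N17777 : nd 17777 = n50547 := ndS (p := 15604) (l := 9) rfl N15604 D50547
theorem N17778 : nd 17778 = n50548 := ndS (p := 15605) (l := 3) rfl N15605 D50548
theorem N17779 : nd 17779 = n50549 := ndS (p := 15605) (l := 9) rfl N15605 D50549
theorem N17780 : nd 17780 = n50550 := ndS (p := 15608) (l := 9) rfl N15608 D50550
theorem N17781 : nd 17781 = n50551 := ndS (p := 15609) (l := 3) rfl N15609 D50551
theorem N17782 : nd 17782 = n50552 := ndS (p := 15609) (l := 9) rfl N15609 D50552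
theorem N17783 : nd 17783 = n50553 := ndS (p := 15611) (l := 9) rfl N15611 D50553
theorem N17784 : nd 17784 = n50554 := ndS (p := 15613) (l := 9) rfl N15613 D50554
theorem N17785 : nd 17785 = n50555 := ndS (p := 15617) (l := 8) rfl N15617 D50555
theorem N17786 : nd 17786 = n50556 := ndS (p := 15620) (l := 8) rfl N15620 D50556
theorem N17787 : nd 17787 = n50557 := ndS (p := 15626) (l := 2) rfl N15626 D50557
theorem N17788 : nd 17788 = n50558 := ndS (p := 15626) (l := 4) rfl N15626 D50558
theorem N17789 : nd 17789 = n50559 := ndS (p := 15626) (l := 9) rfl N15626 D50559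
theorem N17790 : nd 17790 = n50560 := ndS (p := 15628) (l := 4) rfl N15628 D50560
theorem N17791 : nd 17791 = n50561 := ndS (p := 15628) (l := 9) rfl N15628 D50561
theorem N17792 : nd 17792 = n50562 := ndS (p := 15630) (l := 9) rfl N15630 D50562
theorem N17793 : nd 17793 = n50563 := ndS (p := 15631) (l := 8) rfl N15631 D50563
theorem N17794 : nd 17794 = n50564 := ndS (p := 15632) (l := 8) rfl N15632 D50564
theorem N17795 : nd 17795 = n50565 := ndS (p := 15634) (l := 2) rfl N15634 D50565
theorem N17796 : nd 17796 = n50566 := ndS (p := 15634) (l := 4) rfl N15634 D50566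
theorem N17797 : nd 17797 = n50567 := ndS (p := 15634) (l := 9) rfl N15634 D50567
theorem N17798 : nd 17798 = n50568 := ndS (p := 15636) (l := 1) rfl N15636 D50568
theorem N17799 : nd 17799 = n50569 := ndS (p := 15636) (l := 4) rfl N15636 D50569
theorem N17800 : nd 17800 = n50570 := ndS (p := 15636) (l := 9) rfl N15636 D50570
theorem N17801 : nd 17801 = n50571 := ndS (p := 15637) (l := 9) rfl N15637 D50571
theorem N17802 : nd 17802 = n50572 := ndS (p := 15638) (l := 8) rfl N15638 D50572
theorem N17803 : nd 17803 = n50573 := ndS (p := 15639) (l := 0) rfl N15639 D50573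
theorem N17804 : nd 17804 = n50574 := ndS (p := 15639) (l := 4) rfl N15639 D50574
theorem N17805 : nd 17805 = n50575 := ndS (p := 15639) (l := 9) rfl N15639 D50575
theorem N17806 : nd 17806 = n50576 := ndS (p := 15640) (l := 3) rfl N15640 D50576
theorem N17807 : nd 17807 = n50577 := ndS (p := 15640) (l := 9) rfl N15640 D50577
theorem N17808 : nd 17808 = n50578 := ndS (p := 15641) (l := 8) rfl N15641 D50578
theorem N17809 : nd 17809 = n50579 := ndS (p := 15642) (l := 8) rfl N15642 D50579
theorem N17810 : nd 17810 = n50580 := ndS (p := 15644) (l := 0) rfl N15644 D50580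
theorem N17811 : nd 17811 = n50581 := ndS (p := 15644) (l := 9) rfl N15644 D50581
theorem N17812 : nd 17812 = n50582 := ndS (p := 15645) (l := 8) rfl N15645 D50582
theorem N17813 : nd 17813 = n50583 := ndS (p := 15647) (l := 9) rfl N15647 D50583
theorem N17814 : nd 17814 = n50584 := ndS (p := 15648) (l := 8) rfl N15648 D50584
theorem N17815 : nd 17815 = n50585 := ndS (p := 15650) (l := 8) rfl N15650 D50585
theorem N17816 : nd 17816 = n50586 := ndS (p := 15652) (l := 9) rfl N15652 D50586
theorem N17817 : nd 17817 = n50587 := ndS (p := 15654) (l := 9) rfl N15654 D50587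
theorem N17818 : nd 17818 = n50588 := ndS (p := 15655) (l := 9) rfl N15655 D50588
theorem N17819 : nd 17819 = n50589 := ndS (p := 15658) (l := 9) rfl N15658 D50589
theorem N17820 : nd 17820 = n50590 := ndS (p := 15659) (l := 3) rfl N15659 D50590
theorem N17821 : nd 17821 = n50591 := ndS (p := 15659) (l := 9) rfl N15659 D50591
theorem N17822 : nd 17822 = n50592 := ndS (p := 15661) (l := 8) rfl N15661 D50592
theorem N17823 : nd 17823 = n50593 := ndS (p := 15661) (l := 9) rfl N15661 D50593
theorem N17824 : nd 17824 = n50594 := ndS (p := 15663) (l := 9) rfl N15663 D50594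
theorem N17825 : nd 17825 = n50595 := ndS (p := 15667) (l := 1) rfl N15667 D50595
theorem N17826 : nd 17826 = n50596 := ndS (p := 15667) (l := 4) rfl N15667 D50596
theorem N17827 : nd 17827 = n50597 := ndS (p := 15667) (l := 9) rfl N15667 D50597
theorem N17828 : nd 17828 = n50598 := ndS (p := 15668) (l := 9) rfl N15668 D50598
theorem N17829 : nd 17829 = n50599 := ndS (p := 15669) (l := 8) rfl N15669 D50599
theorem N17830 : nd 17830 = n50600 := ndS (p := 15670) (l := 2) rfl N15670 D50600
theorem N17831 : nd 17831 = n50601 := ndS (p := 15670) (l := 4) rfl N15670 D50601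
theorem N17832 : nd 17832 = n50602 := ndS (p := 15670) (l := 9) rfl N15670 D50602
theorem N17833 : nd 17833 = n50603 := ndS (p := 15672) (l := 1) rfl N15672 D50603
theorem N17834 : nd 17834 = n50604 := ndS (p := 15672) (l := 4) rfl N15672 D50604
theorem N17835 : nd 17835 = n50605 := ndS (p := 15672) (l := 9) rfl N15672 D50605
theorem N17836 : nd 17836 = n50606 := ndS (p := 15673) (l := 9) rfl N15673 D50606
theorem N17837 : nd 17837 = n50607 := ndS (p := 15674) (l := 8) rfl N15674 D50607
theorem N17838 : nd 17838 = n50608 := ndS (p := 15675) (l := 0) rfl N15675 D50608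
theorem N17839 : nd 17839 = n50609 := ndS (p := 15675) (l := 4) rfl N15675 D50609
theorem N17840 : nd 17840 = n50610 := ndS (p := 15675) (l := 9) rfl N15675 D50610
theorem N17841 : nd 17841 = n50611 := ndS (p := 15676) (l := 3) rfl N15676 D50611
theorem N17842 : nd 17842 = n50612 := ndS (p := 15676) (l := 5) rfl N15676 D50612
theorem N17843 : nd 17843 = n50613 := ndS (p := 15676) (l := 9) rfl N15676 D50613
theorem N17844 : nd 17844 = n50614 := ndS (p := 15677) (l := 8) rfl N15677 D50614
theorem N17845 : nd 17845 = n50615 := ndS (p := 15678) (l := 6) rfl N15678 D50615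
theorem N17846 : nd 17846 = n50616 := ndS (p := 15678) (l := 9) rfl N15678 D50616
theorem N17847 : nd 17847 = n50617 := ndS (p := 15679) (l := 8) rfl N15679 D50617
theorem N17848 : nd 17848 = n50618 := ndS (p := 15681) (l := 0) rfl N15681 D50618
theorem N17849 : nd 17849 = n50619 := ndS (p := 15681) (l := 4) rfl N15681 D50619
theorem N17850 : nd 17850 = n50620 := ndS (p := 15681) (l := 9) rfl N15681 D50620
theorem N17851 : nd 17851 = n50621 := ndS (p := 15682) (l := 9) rfl N15682 D50621
theorem N17852 : nd 17852 = n50622 := ndS (p := 15683) (l := 8) rfl N15683 D50622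
theorem N17853 : nd 17853 = n50623 := ndS (p := 15684) (l := 8) rfl N15684 D50623
theorem N17854 : nd 17854 = n50624 := ndS (p := 15686) (l := 9) rfl N15686 D50624
theorem N17855 : nd 17855 = n50625 := ndS (p := 15687) (l := 5) rfl N15687 D50625
theorem N17856 : nd 17856 = n50626 := ndS (p := 15687) (l := 9) rfl N15687 D50626
theorem N17857 : nd 17857 = n50627 := ndS (p := 15688) (l := 8) rfl N15688 D50627
theorem N17858 : nd 17858 = n50628 := ndS (p := 15689) (l := 6) rfl N15689 D50628
theorem N17859 : nd 17859 = n50629 := ndS (p := 15689) (l := 9) rfl N15689 D50629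
theorem N17860 : nd 17860 = n50630 := ndS (p := 15690) (l := 8) rfl N15690 D50630
theorem N17861 : nd 17861 = n50631 := ndS (p := 15692) (l := 7) rfl N15692 D50631
theorem N17862 : nd 17862 = n50632 := ndS (p := 15692) (l := 9) rfl N15692 D50632
theorem N17863 : nd 17863 = n50633 := ndS (p := 15693) (l := 8) rfl N15693 D50633
theorem N17864 : nd 17864 = n50634 := ndS (p := 15695) (l := 8) rfl N15695 D50634
theorem N17865 : nd 17865 = n50635 := ndS (p := 15696) (l := 8) rfl N15696 D50635
theorem N17866 : nd 17866 = n50636 := ndS (p := 15698) (l := 7) rfl N15698 D50636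
theorem N17867 : nd 17867 = n50637 := ndS (p := 15698) (l := 9) rfl N15698 D50637
theorem N17868 : nd 17868 = n50638 := ndS (p := 15699) (l := 8) rfl N15699 D50638
theorem N17869 : nd 17869 = n50639 := ndS (p := 15700) (l := 3) rfl N15700 D50639
theorem N17870 : nd 17870 = n50640 := ndS (p := 15701) (l := 9) rfl N15701 D50640
theorem N17871 : nd 17871 = n50641 := ndS (p := 15702) (l := 8) rfl N15702 D50641
theorem N17872 : nd 17872 = n50642 := ndS (p := 15704) (l := 4) rfl N15704 D50642
theorem N17873 : nd 17873 = n50643 := ndS (p := 15704) (l := 9) rfl N15704 D50643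
theorem N17874 : nd 17874 = n50644 := ndS (p := 15705) (l := 5) rfl N15705 D50644
theorem N17875 : nd 17875 = n50645 := ndS (p := 15705) (l := 9) rfl N15705 D50645
theorem N17876 : nd 17876 = n50646 := ndS (p := 15706) (l := 8) rfl N15706 D50646
theorem N17877 : nd 17877 = n50647 := ndS (p := 15707) (l := 4) rfl N15707 D50647
theorem N17878 : nd 17878 = n50648 := ndS (p := 15707) (l := 9) rfl N15707 D50648
theorem N17879 : nd 17879 = n50649 := ndS (p := 15708) (l := 3) rfl N15708 D50649
theorem N17880 : nd 17880 = n50650 := ndS (p := 15708) (l := 5) rfl N15708 D50650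
theorem N17881 : nd 17881 = n50651 := ndS (p := 15708) (l := 9) rfl N15708 D50651
theorem N17882 : nd 17882 = n50652 := ndS (p := 15709) (l := 8) rfl N15709 D50652
theorem N17883 : nd 17883 = n50653 := ndS (p := 15710) (l := 6) rfl N15710 D50653
theorem N17884 : nd 17884 = n50654 := ndS (p := 15710) (l := 9) rfl N15710 D50654
theorem N17885 : nd 17885 = n50655 := ndS (p := 15711) (l := 8) rfl N15711 D50655
theorem N17886 : nd 17886 = n50656 := ndS (p := 15713) (l := 4) rfl N15713 D50656
theorem N17887 : nd 17887 = n50657 := ndS (p := 15713) (l := 9) rfl N15713 D50657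
theorem N17888 : nd 17888 = n50658 := ndS (p := 15714) (l := 3) rfl N15714 D50658
theorem N17889 : nd 17889 = n50659 := ndS (p := 15714) (l := 5) rfl N15714 D50659
theorem N17890 : nd 17890 = n50660 := ndS (p := 15714) (l := 9) rfl N15714 D50660
theorem N17891 : nd 17891 = n50661 := ndS (p := 15715) (l := 8) rfl N15715 D50661
theorem N17892 : nd 17892 = n50662 := ndS (p := 15716) (l := 5) rfl N15716 D50662
theorem N17893 : nd 17893 = n50663 := ndS (p := 15716) (l := 8) rfl N15716 D50663
theorem N17894 : nd 17894 = n50664 := ndS (p := 15716) (l := 9) rfl N15716 D50664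
theorem N17895 : nd 17895 = n50665 := ndS (p := 15717) (l := 6) rfl N15717 D50665
theorem N17896 : nd 17896 = n50666 := ndS (p := 15717) (l := 9) rfl N15717 D50666
theorem N17897 : nd 17897 = n50667 := ndS (p := 15718) (l := 8) rfl N15718 D50667
theorem N17898 : nd 17898 = n50668 := ndS (p := 15719) (l := 3) rfl N15719 D50668
theorem N17899 : nd 17899 = n50669 := ndS (p := 15720) (l := 7) rfl N15720 D50669
theorem N17900 : nd 17900 = n50670 := ndS (p := 15720) (l := 9) rfl N15720 D50670
theorem N17901 : nd 17901 = n50671 := ndS (p := 15721) (l := 8) rfl N15721 D50671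
theorem N17902 : nd 17902 = n50672 := ndS (p := 15722) (l := 3) rfl N15722 D50672
theorem N17903 : nd 17903 = n50673 := ndS (p := 15723) (l := 4) rfl N15723 D50673
theorem N17904 : nd 17904 = n50674 := ndS (p := 15723) (l := 9) rfl N15723 D50674
theorem N17905 : nd 17905 = n50675 := ndS (p := 15724) (l := 5) rfl N15724 D50675
theorem N17906 : nd 17906 = n50676 := ndS (p := 15724) (l := 9) rfl N15724 D50676
theorem N17907 : nd 17907 = n50677 := ndS (p := 15725) (l := 8) rfl N15725 D50677
theorem N17908 : nd 17908 = n50678 := ndS (p := 15726) (l := 9) rfl N15726 D50678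
theorem N17909 : nd 17909 = n50679 := ndS (p := 15727) (l := 8) rfl N15727 D50679
theorem N17910 : nd 17910 = n50680 := ndS (p := 15728) (l := 3) rfl N15728 D50680
theorem N17911 : nd 17911 = n50681 := ndS (p := 15729) (l := 7) rfl N15729 D50681
theorem N17912 : nd 17912 = n50682 := ndS (p := 15729) (l := 9) rfl N15729 D50682
theorem N17913 : nd 17913 = n50683 := ndS (p := 15730) (l := 8) rfl N15730 D50683
theorem N17914 : nd 17914 = n50684 := ndS (p := 15732) (l := 5) rfl N15732 D50684
theorem N17915 : nd 17915 = n50685 := ndS (p := 15732) (l := 9) rfl N15732 D50685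
theorem N17916 : nd 17916 = n50686 := ndS (p := 15733) (l := 8) rfl N15733 D50686
theorem N17917 : nd 17917 = n50687 := ndS (p := 15734) (l := 6) rfl N15734 D50687
theorem N17918 : nd 17918 = n50688 := ndS (p := 15734) (l := 9) rfl N15734 D50688
theorem N17919 : nd 17919 = n50689 := ndS (p := 15735) (l := 8) rfl N15735 D50689
theorem N17920 : nd 17920 = n50690 := ndS (p := 15736) (l := 3) rfl N15736 D50690
theorem N17921 : nd 17921 = n50691 := ndS (p := 15737) (l := 7) rfl N15737 D50691
theorem N17922 : nd 17922 = n50692 := ndS (p := 15737) (l := 9) rfl N15737 D50692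
theorem N17923 : nd 17923 = n50693 := ndS (p := 15738) (l := 8) rfl N15738 D50693
theorem N17924 : nd 17924 = n50694 := ndS (p := 15739) (l := 3) rfl N15739 D50694
theorem N17925 : nd 17925 = n50695 := ndS (p := 15740) (l := 4) rfl N15740 D50695
theorem N17926 : nd 17926 = n50696 := ndS (p := 15741) (l := 9) rfl N15741 D50696
theorem N17927 : nd 17927 = n50697 := ndS (p := 15742) (l := 8) rfl N15742 D50697
theorem N17928 : nd 17928 = n50698 := ndS (p := 15744) (l := 8) rfl N15744 D50698
theorem N17929 : nd 17929 = n50699 := ndS (p := 15746) (l := 7) rfl N15746 D50699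
theorem N17930 : nd 17930 = n50700 := ndS (p := 15746) (l := 9) rfl N15746 D50700
theorem N17931 : nd 17931 = n50701 := ndS (p := 15747) (l := 8) rfl N15747 D50701
theorem N17932 : nd 17932 = n50702 := ndS (p := 15748) (l := 3) rfl N15748 D50702
theorem N17933 : nd 17933 = n50703 := ndS (p := 15750) (l := 9) rfl N15750 D50703
theorem N17934 : nd 17934 = n50704 := ndS (p := 15751) (l := 8) rfl N15751 D50704
theorem N17935 : nd 17935 = n50705 := ndS (p := 15752) (l := 3) rfl N15752 D50705
theorem N17936 : nd 17936 = n50706 := ndS (p := 15753) (l := 4) rfl N15753 D50706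
theorem N17937 : nd 17937 = n50707 := ndS (p := 15755) (l := 8) rfl N15755 D50707
theorem N17938 : nd 17938 = n50708 := ndS (p := 15757) (l := 9) rfl N15757 D50708
theorem N17939 : nd 17939 = n50709 := ndS (p := 15762) (l := 9) rfl N15762 D50709
theorem N17940 : nd 17940 = n50710 := ndS (p := 15764) (l := 3) rfl N15764 D50710
theorem N17941 : nd 17941 = n50711 := ndS (p := 15767) (l := 9) rfl N15767 D50711
theorem N17942 : nd 17942 = n50712 := ndS (p := 15768) (l := 8) rfl N15768 D50712
theorem N17943 : nd 17943 = n50713 := ndS (p := 15769) (l := 4) rfl N15769 D50713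
theorem N17944 : nd 17944 = n50714 := ndS (p := 15771) (l := 4) rfl N15771 D50714
theorem N17945 : nd 17945 = n50715 := ndS (p := 15774) (l := 5) rfl N15774 D50715
theorem N17946 : nd 17946 = n50716 := ndS (p := 15777) (l := 8) rfl N15777 D50716
theorem N17947 : nd 17947 = n50717 := ndS (p := 15780) (l := 9) rfl N15780 D50717
theorem N17948 : nd 17948 = n50718 := ndS (p := 15781) (l := 8) rfl N15781 D50718
theorem N17949 : nd 17949 = n50719 := ndS (p := 15782) (l := 9) rfl N15782 D50719
theorem N17950 : nd 17950 = n50720 := ndS (p := 15783) (l := 1) rfl N15783 D50720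
theorem N17951 : nd 17951 = n50721 := ndS (p := 15783) (l := 4) rfl N15783 D50721
theorem N17952 : nd 17952 = n50722 := ndS (p := 15783) (l := 9) rfl N15783 D50722
theorem N17953 : nd 17953 = n50723 := ndS (p := 15784) (l := 9) rfl N15784 D50723
theorem N17954 : nd 17954 = n50724 := ndS (p := 15785) (l := 8) rfl N15785 D50724
theorem N17955 : nd 17955 = n50725 := ndS (p := 15786) (l := 0) rfl N15786 D50725
theorem N17956 : nd 17956 = n50726 := ndS (p := 15786) (l := 4) rfl N15786 D50726
theorem N17957 : nd 17957 = n50727 := ndS (p := 15786) (l := 9) rfl N15786 D50727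
theorem N17958 : nd 17958 = n50728 := ndS (p := 15787) (l := 3) rfl N15787 D50728
theorem N17959 : nd 17959 = n50729 := ndS (p := 15787) (l := 9) rfl N15787 D50729
theorem N17960 : nd 17960 = n50730 := ndS (p := 15788) (l := 8) rfl N15788 D50730
theorem N17961 : nd 17961 = n50731 := ndS (p := 15789) (l := 8) rfl N15789 D50731
theorem N17962 : nd 17962 = n50732 := ndS (p := 15791) (l := 9) rfl N15791 D50732
theorem N17963 : nd 17963 = n50733 := ndS (p := 15793) (l := 9) rfl N15793 D50733
theorem N17964 : nd 17964 = n50734 := ndS (p := 15794) (l := 3) rfl N15794 D50734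
theorem N17965 : nd 17965 = n50735 := ndS (p := 15794) (l := 9) rfl N15794 D50735
theorem N17966 : nd 17966 = n50736 := ndS (p := 15797) (l := 9) rfl N15797 D50736
theorem N17967 : nd 17967 = n50737 := ndS (p := 15798) (l := 3) rfl N15798 D50737
theorem N17968 : nd 17968 = n50738 := ndS (p := 15798) (l := 9) rfl N15798 D50738
theorem N17969 : nd 17969 = n50739 := ndS (p := 15800) (l := 8) rfl N15800 D50739
theorem N17970 : nd 17970 = n50740 := ndS (p := 15800) (l := 9) rfl N15800 D50740
theorem N17971 : nd 17971 = n50741 := ndS (p := 15802) (l := 9) rfl N15802 D50741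
theorem N17972 : nd 17972 = n50742 := ndS (p := 15805) (l := 9) rfl N15805 D50742
theorem N17973 : nd 17973 = n50743 := ndS (p := 15807) (l := 5) rfl N15807 D50743
theorem N17974 : nd 17974 = n50744 := ndS (p := 15808) (l := 5) rfl N15808 D50744
theorem N17975 : nd 17975 = n50745 := ndS (p := 15810) (l := 4) rfl N15810 D50745
theorem N17976 : nd 17976 = n50746 := ndS (p := 15813) (l := 3) rfl N15813 D50746
theorem N17977 : nd 17977 = n50747 := ndS (p := 15815) (l := 3) rfl N15815 D50747
theorem N17978 : nd 17978 = n50748 := ndS (p := 15816) (l := 2) rfl N15816 D50748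
theorem N17979 : nd 17979 = n50749 := ndS (p := 15816) (l := 4) rfl N15816 D50749
theorem N17980 : nd 17980 = n50750 := ndS (p := 15817) (l := 5) rfl N15817 D50750
theorem N17981 : nd 17981 = n50751 := ndS (p := 15818) (l := 3) rfl N15818 D50751
theorem N17982 : nd 17982 = n50752 := ndS (p := 15819) (l := 3) rfl N15819 D50752
theorem N17983 : nd 17983 = n50753 := ndS (p := 15823) (l := 3) rfl N15823 D50753
theorem N17984 : nd 17984 = n50754 := ndS (p := 15825) (l := 3) rfl N15825 D50754
theorem N17985 : nd 17985 = n50755 := ndS (p := 15826) (l := 2) rfl N15826 D50755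
theorem N17986 : nd 17986 = n50756 := ndS (p := 15826) (l := 4) rfl N15826 D50756
theorem N17987 : nd 17987 = n50757 := ndS (p := 15833) (l := 4) rfl N15833 D50757
theorem N17988 : nd 17988 = n50758 := ndS (p := 15837) (l := 9) rfl N15837 D50758
theorem N17989 : nd 17989 = n50759 := ndS (p := 15839) (l := 9) rfl N15839 D50759
theorem N17990 : nd 17990 = n50760 := ndS (p := 15843) (l := 9) rfl N15843 D50760
theorem N17991 : nd 17991 = n50761 := ndS (p := 15844) (l := 8) rfl N15844 D50761
theorem N17992 : nd 17992 = n50762 := ndS (p := 15847) (l := 3) rfl N15847 D50762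
theorem N17993 : nd 17993 = n50763 := ndS (p := 15851) (l := 4) rfl N15851 D50763
theorem N17994 : nd 17994 = n50764 := ndS (p := 15853) (l := 9) rfl N15853 D50764
theorem N17995 : nd 17995 = n50765 := ndS (p := 15854) (l := 8) rfl N15854 D50765
theorem N17996 : nd 17996 = n50766 := ndS (p := 15856) (l := 9) rfl N15856 D50766
theorem N17997 : nd 17997 = n50767 := ndS (p := 15857) (l := 8) rfl N15857 D50767
theorem N17998 : nd 17998 = n50768 := ndS (p := 15858) (l := 3) rfl N15858 D50768
theorem N17999 : nd 17999 = n50769 := ndS (p := 15860) (l := 3) rfl N15860 D50769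
theorem N18000 : nd 18000 = n50770 := ndS (p := 15861) (l := 2) rfl N15861 D50770
theorem N18001 : nd 18001 = n50771 := ndS (p := 15861) (l := 4) rfl N15861 D50771
theorem N18002 : nd 18002 = n50772 := ndS (p := 15862) (l := 5) rfl N15862 D50772
theorem N18003 : nd 18003 = n50773 := ndS (p := 15866) (l := 6) rfl N15866 D50773
theorem N18004 : nd 18004 = n50774 := ndS (p := 15867) (l := 3) rfl N15867 D50774
theorem N18005 : nd 18005 = n50775 := ndS (p := 15869) (l := 8) rfl N15869 D50775
theorem N18006 : nd 18006 = n50776 := ndS (p := 15870) (l := 3) rfl N15870 D50776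
theorem N18007 : nd 18007 = n50777 := ndS (p := 15872) (l := 2) rfl N15872 D50777
theorem N18008 : nd 18008 = n50778 := ndS (p := 15872) (l := 4) rfl N15872 D50778
theorem N18009 : nd 18009 = n50779 := ndS (p := 15874) (l := 3) rfl N15874 D50779
theorem N18010 : nd 18010 = n50780 := ndS (p := 15875) (l := 2) rfl N15875 D50780
theorem N18011 : nd 18011 = n50781 := ndS (p := 15875) (l := 4) rfl N15875 D50781
theorem N18012 : nd 18012 = n50782 := ndS (p := 15876) (l := 5) rfl N15876 D50782
theorem N18013 : nd 18013 = n50783 := ndS (p := 15879) (l := 5) rfl N15879 D50783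
theorem N18014 : nd 18014 = n50784 := ndS (p := 15886) (l := 9) rfl N15886 D50784
theorem N18015 : nd 18015 = n50785 := ndS (p := 15887) (l := 8) rfl N15887 D50785
theorem N18016 : nd 18016 = n50786 := ndS (p := 15888) (l := 3) rfl N15888 D50786
theorem N18017 : nd 18017 = n50787 := ndS (p := 15889) (l := 9) rfl N15889 D50787
theorem N18018 : nd 18018 = n50788 := ndS (p := 15890) (l := 8) rfl N15890 D50788
theorem N18019 : nd 18019 = n50789 := ndS (p := 15891) (l := 3) rfl N15891 D50789
theorem N18020 : nd 18020 = n50790 := ndS (p := 15892) (l := 8) rfl N15892 D50790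
theorem N18021 : nd 18021 = n50791 := ndS (p := 15893) (l := 3) rfl N15893 D50791
theorem N18022 : nd 18022 = n50792 := ndS (p := 15894) (l := 4) rfl N15894 D50792
theorem N18023 : nd 18023 = n50793 := ndS (p := 15900) (l := 9) rfl N15900 D50793
theorem N18024 : nd 18024 = n50794 := ndS (p := 15903) (l := 9) rfl N15903 D50794
theorem N18025 : nd 18025 = n50795 := ndS (p := 15904) (l := 8) rfl N15904 D50795
theorem N18026 : nd 18026 = n50796 := ndS (p := 15905) (l := 4) rfl N15905 D50796
theorem N18027 : nd 18027 = n50797 := ndS (p := 15906) (l := 4) rfl N15906 D50797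
theorem N18028 : nd 18028 = n50798 := ndS (p := 15908) (l := 5) rfl N15908 D50798
theorem N18029 : nd 18029 = n50799 := ndS (p := 15910) (l := 5) rfl N15910 D50799
theorem N18030 : nd 18030 = n50800 := ndS (p := 15911) (l := 6) rfl N15911 D50800
theorem N18031 : nd 18031 = n50801 := ndS (p := 15911) (l := 9) rfl N15911 D50801
theorem N18032 : nd 18032 = n50802 := ndS (p := 15912) (l := 8) rfl N15912 D50802
theorem N18033 : nd 18033 = n50803 := ndS (p := 15914) (l := 6) rfl N15914 D50803
theorem N18034 : nd 18034 = n50804 := ndS (p := 15914) (l := 8) rfl N15914 D50804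
theorem N18035 : nd 18035 = n50805 := ndS (p := 15914) (l := 9) rfl N15914 D50805
theorem N18036 : nd 18036 = n50806 := ndS (p := 15915) (l := 9) rfl N15915 D50806
theorem N18037 : nd 18037 = n50807 := ndS (p := 15916) (l := 8) rfl N15916 D50807
theorem N18038 : nd 18038 = n50808 := ndS (p := 15917) (l := 9) rfl N15917 D50808
theorem N18039 : nd 18039 = n50809 := ndS (p := 15918) (l := 8) rfl N15918 D50809
theorem N18040 : nd 18040 = n50810 := ndS (p := 15919) (l := 3) rfl N15919 D50810
theorem N18041 : nd 18041 = n50811 := ndS (p := 15920) (l := 4) rfl N15920 D50811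
theorem N18042 : nd 18042 = n50812 := ndS (p := 15921) (l := 8) rfl N15921 D50812
theorem N18043 : nd 18043 = n50813 := ndS (p := 15922) (l := 3) rfl N15922 D50813
theorem N18044 : nd 18044 = n50814 := ndS (p := 15923) (l := 2) rfl N15923 D50814
theorem N18045 : nd 18045 = n50815 := ndS (p := 15924) (l := 5) rfl N15924 D50815
theorem N18046 : nd 18046 = n50816 := ndS (p := 15925) (l := 9) rfl N15925 D50816
theorem N18047 : nd 18047 = n50817 := ndS (p := 15927) (l := 8) rfl N15927 D50817
theorem N18048 : nd 18048 = n50818 := ndS (p := 15928) (l := 3) rfl N15928 D50818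
theorem N18049 : nd 18049 = n50819 := ndS (p := 15930) (l := 9) rfl N15930 D50819
theorem N18050 : nd 18050 = n50820 := ndS (p := 15931) (l := 8) rfl N15931 D50820
theorem N18051 : nd 18051 = n50821 := ndS (p := 15933) (l := 9) rfl N15933 D50821
theorem N18052 : nd 18052 = n50822 := ndS (p := 15934) (l := 8) rfl N15934 D50822
theorem N18053 : nd 18053 = n50823 := ndS (p := 15935) (l := 3) rfl N15935 D50823
theorem N18054 : nd 18054 = n50824 := ndS (p := 15936) (l := 9) rfl N15936 D50824
theorem N18055 : nd 18055 = n50825 := ndS (p := 15937) (l := 8) rfl N15937 D50825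
theorem N18056 : nd 18056 = n50826 := ndS (p := 15938) (l := 3) rfl N15938 D50826
theorem N18057 : nd 18057 = n50827 := ndS (p := 15939) (l := 4) rfl N15939 D50827
theorem N18058 : nd 18058 = n50828 := ndS (p := 15940) (l := 5) rfl N15940 D50828
theorem N18059 : nd 18059 = n50829 := ndS (p := 15943) (l := 9) rfl N15943 D50829
theorem N18060 : nd 18060 = n50830 := ndS (p := 15944) (l := 8) rfl N15944 D50830
theorem N18061 : nd 18061 = n50831 := ndS (p := 15946) (l := 9) rfl N15946 D50831
theorem N18062 : nd 18062 = n50832 := ndS (p := 15947) (l := 8) rfl N15947 D50832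
theorem N18063 : nd 18063 = n50833 := ndS (p := 15948) (l := 3) rfl N15948 D50833
theorem N18064 : nd 18064 = n50834 := ndS (p := 15949) (l := 2) rfl N15949 D50834
theorem N18065 : nd 18065 = n50835 := ndS (p := 15951) (l := 3) rfl N15951 D50835
theorem N18066 : nd 18066 = n50836 := ndS (p := 15955) (l := 8) rfl N15955 D50836
theorem N18067 : nd 18067 = n50837 := ndS (p := 15960) (l := 8) rfl N15960 D50837
theorem N18068 : nd 18068 = n50838 := ndS (p := 15961) (l := 9) rfl N15961 D50838
theorem N18069 : nd 18069 = n50839 := ndS (p := 15962) (l := 8) rfl N15962 D50839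
theorem N18070 : nd 18070 = n50840 := ndS (p := 15963) (l := 9) rfl N15963 D50840
theorem N18071 : nd 18071 = n50841 := ndS (p := 15964) (l := 8) rfl N15964 D50841
theorem N18072 : nd 18072 = n50842 := ndS (p := 15966) (l := 9) rfl N15966 D50842
theorem N18073 : nd 18073 = n50843 := ndS (p := 15969) (l := 8) rfl N15969 D50843
theorem N18074 : nd 18074 = n50844 := ndS (p := 15971) (l := 8) rfl N15971 D50844
theorem N18075 : nd 18075 = n50845 := ndS (p := 15973) (l := 8) rfl N15973 D50845
theorem N18076 : nd 18076 = n50846 := ndS (p := 15975) (l := 8) rfl N15975 D50846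
theorem N18077 : nd 18077 = n50847 := ndS (p := 15976) (l := 3) rfl N15976 D50847
theorem N18078 : nd 18078 = n50848 := ndS (p := 15977) (l := 9) rfl N15977 D50848
theorem N18079 : nd 18079 = n50849 := ndS (p := 15978) (l := 8) rfl N15978 D50849
theorem N18080 : nd 18080 = n50850 := ndS (p := 15979) (l := 3) rfl N15979 D50850
theorem N18081 : nd 18081 = n50851 := ndS (p := 15980) (l := 9) rfl N15980 D50851
theorem N18082 : nd 18082 = n50852 := ndS (p := 15983) (l := 9) rfl N15983 D50852
theorem N18083 : nd 18083 = n50853 := ndS (p := 15986) (l := 9) rfl N15986 D50853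
theorem N18084 : nd 18084 = n50854 := ndS (p := 15987) (l := 8) rfl N15987 D50854
theorem N18085 : nd 18085 = n50855 := ndS (p := 15989) (l := 2) rfl N15989 D50855
theorem N18086 : nd 18086 = n50856 := ndS (p := 15990) (l := 3) rfl N15990 D50856
theorem N18087 : nd 18087 = n50857 := ndS (p := 15992) (l := 9) rfl N15992 D50857
theorem N18088 : nd 18088 = n50858 := ndS (p := 15993) (l := 8) rfl N15993 D50858
theorem N18089 : nd 18089 = n50859 := ndS (p := 15994) (l := 3) rfl N15994 D50859
theorem N18090 : nd 18090 = n50860 := ndS (p := 15996) (l := 7) rfl N15996 D50860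
theorem N18091 : nd 18091 = n50861 := ndS (p := 15996) (l := 9) rfl N15996 D50861
theorem N18092 : nd 18092 = n50862 := ndS (p := 15997) (l := 8) rfl N15997 D50862
theorem N18093 : nd 18093 = n50863 := ndS (p := 15999) (l := 9) rfl N15999 D50863
theorem N18094 : nd 18094 = n50864 := ndS (p := 16000) (l := 8) rfl N16000 D50864
theorem N18095 : nd 18095 = n50865 := ndS (p := 16002) (l := 8) rfl N16002 D50865
theorem N18096 : nd 18096 = n50866 := ndS (p := 16003) (l := 3) rfl N16003 D50866
theorem N18097 : nd 18097 = n50867 := ndS (p := 16004) (l := 2) rfl N16004 D50867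
theorem N18098 : nd 18098 = n50868 := ndS (p := 16004) (l := 4) rfl N16004 D50868
theorem N18099 : nd 18099 = n50869 := ndS (p := 16006) (l := 8) rfl N16006 D50869
theorem N18100 : nd 18100 = n50870 := ndS (p := 16009) (l := 9) rfl N16009 D50870
theorem N18101 : nd 18101 = n50871 := ndS (p := 16010) (l := 8) rfl N16010 D50871
theorem N18102 : nd 18102 = n50872 := ndS (p := 16012) (l := 9) rfl N16012 D50872
theorem N18103 : nd 18103 = n50873 := ndS (p := 16013) (l := 8) rfl N16013 D50873
theorem N18104 : nd 18104 = n50874 := ndS (p := 16014) (l := 3) rfl N16014 D50874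
theorem N18105 : nd 18105 = n50875 := ndS (p := 16015) (l := 8) rfl N16015 D50875
theorem N18106 : nd 18106 = n50876 := ndS (p := 16016) (l := 3) rfl N16016 D50876
theorem N18107 : nd 18107 = n50877 := ndS (p := 16019) (l := 2) rfl N16019 D50877
theorem N18108 : nd 18108 = n50878 := ndS (p := 16021) (l := 4) rfl N16021 D50878
theorem N18109 : nd 18109 = n50879 := ndS (p := 16021) (l := 9) rfl N16021 D50879
theorem N18110 : nd 18110 = n50880 := ndS (p := 16024) (l := 4) rfl N16024 D50880
theorem N18111 : nd 18111 = n50881 := ndS (p := 16024) (l := 9) rfl N16024 D50881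
theorem N18112 : nd 18112 = n50882 := ndS (p := 16026) (l := 4) rfl N16026 D50882
theorem N18113 : nd 18113 = n50883 := ndS (p := 16026) (l := 9) rfl N16026 D50883
theorem N18114 : nd 18114 = n50884 := ndS (p := 16027) (l := 9) rfl N16027 D50884
theorem N18115 : nd 18115 = n50885 := ndS (p := 16028) (l := 8) rfl N16028 D50885
theorem N18116 : nd 18116 = n50886 := ndS (p := 16030) (l := 9) rfl N16030 D50886
theorem N18117 : nd 18117 = n50887 := ndS (p := 16032) (l := 8) rfl N16032 D50887
theorem N18118 : nd 18118 = n50888 := ndS (p := 16035) (l := 9) rfl N16035 D50888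
theorem N18119 : nd 18119 = n50889 := ndS (p := 16038) (l := 8) rfl N16038 D50889
theorem N18120 : nd 18120 = n50890 := ndS (p := 16039) (l := 9) rfl N16039 D50890
theorem N18121 : nd 18121 = n50891 := ndS (p := 16040) (l := 8) rfl N16040 D50891
theorem N18122 : nd 18122 = n50892 := ndS (p := 16043) (l := 9) rfl N16043 D50892
theorem N18123 : nd 18123 = n50893 := ndS (p := 16045) (l := 9) rfl N16045 D50893
theorem N18124 : nd 18124 = n50894 := ndS (p := 16046) (l := 8) rfl N16046 D50894
theorem N18125 : nd 18125 = n50895 := ndS (p := 16047) (l := 8) rfl N16047 D50895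
theorem N18126 : nd 18126 = n50896 := ndS (p := 16048) (l := 8) rfl N16048 D50896
theorem N18127 : nd 18127 = n50897 := ndS (p := 16049) (l := 6) rfl N16049 D50897
theorem N18128 : nd 18128 = n50898 := ndS (p := 16049) (l := 9) rfl N16049 D50898
theorem N18129 : nd 18129 = n50899 := ndS (p := 16050) (l := 8) rfl N16050 D50899
theorem N18130 : nd 18130 = n50900 := ndS (p := 16052) (l := 9) rfl N16052 D50900
theorem N18131 : nd 18131 = n50901 := ndS (p := 16053) (l := 8) rfl N16053 D50901
theorem N18132 : nd 18132 = n50902 := ndS (p := 16054) (l := 3) rfl N16054 D50902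
theorem N18133 : nd 18133 = n50903 := ndS (p := 16059) (l := 3) rfl N16059 D50903
theorem N18134 : nd 18134 = n50904 := ndS (p := 16059) (l := 9) rfl N16059 D50904
theorem N18135 : nd 18135 = n50905 := ndS (p := 16060) (l := 4) rfl N16060 D50905
theorem N18136 : nd 18136 = n50906 := ndS (p := 16060) (l := 9) rfl N16060 D50906
theorem N18137 : nd 18137 = n50907 := ndS (p := 16062) (l := 1) rfl N16062 D50907
theorem N18138 : nd 18138 = n50908 := ndS (p := 16062) (l := 4) rfl N16062 D50908
theorem N18139 : nd 18139 = n50909 := ndS (p := 16063) (l := 9) rfl N16063 D50909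
theorem N18140 : nd 18140 = n50910 := ndS (p := 16064) (l := 8) rfl N16064 D50910
theorem N18141 : nd 18141 = n50911 := ndS (p := 16066) (l := 3) rfl N16066 D50911
theorem N18142 : nd 18142 = n50912 := ndS (p := 16066) (l := 9) rfl N16066 D50912
theorem N18143 : nd 18143 = n50913 := ndS (p := 16067) (l := 2) rfl N16067 D50913
theorem N18144 : nd 18144 = n50914 := ndS (p := 16067) (l := 4) rfl N16067 D50914
theorem N18145 : nd 18145 = n50915 := ndS (p := 16067) (l := 9) rfl N16067 D50915
theorem N18146 : nd 18146 = n50916 := ndS (p := 16069) (l := 4) rfl N16069 D50916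
theorem N18147 : nd 18147 = n50917 := ndS (p := 16069) (l := 9) rfl N16069 D50917
theorem N18148 : nd 18148 = n50918 := ndS (p := 16071) (l := 1) rfl N16071 D50918
theorem N18149 : nd 18149 = n50919 := ndS (p := 16071) (l := 4) rfl N16071 D50919
theorem N18150 : nd 18150 = n50920 := ndS (p := 16071) (l := 9) rfl N16071 D50920
theorem N18151 : nd 18151 = n50921 := ndS (p := 16072) (l := 5) rfl N16072 D50921
theorem N18152 : nd 18152 = n50922 := ndS (p := 16072) (l := 9) rfl N16072 D50922
theorem N18153 : nd 18153 = n50923 := ndS (p := 16073) (l := 8) rfl N16073 D50923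
theorem N18154 : nd 18154 = n50924 := ndS (p := 16074) (l := 0) rfl N16074 D50924
theorem N18155 : nd 18155 = n50925 := ndS (p := 16074) (l := 4) rfl N16074 D50925
theorem N18156 : nd 18156 = n50926 := ndS (p := 16074) (l := 9) rfl N16074 D50926
theorem N18157 : nd 18157 = n50927 := ndS (p := 16075) (l := 9) rfl N16075 D50927
theorem N18158 : nd 18158 = n50928 := ndS (p := 16076) (l := 8) rfl N16076 D50928
theorem N18159 : nd 18159 = n50929 := ndS (p := 16077) (l := 8) rfl N16077 D50929
theorem N18160 : nd 18160 = n50930 := ndS (p := 16079) (l := 5) rfl N16079 D50930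
theorem N18161 : nd 18161 = n50931 := ndS (p := 16079) (l := 9) rfl N16079 D50931
theorem N18162 : nd 18162 = n50932 := ndS (p := 16081) (l := 9) rfl N16081 D50932
theorem N18163 : nd 18163 = n50933 := ndS (p := 16082) (l := 8) rfl N16082 D50933
theorem N18164 : nd 18164 = n50934 := ndS (p := 16084) (l := 3) rfl N16084 D50934
theorem N18165 : nd 18165 = n50935 := ndS (p := 16086) (l := 9) rfl N16086 D50935
theorem N18166 : nd 18166 = n50936 := ndS (p := 16088) (l := 0) rfl N16088 D50936
theorem N18167 : nd 18167 = n50937 := ndS (p := 16088) (l := 9) rfl N16088 D50937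
theorem N18168 : nd 18168 = n50938 := ndS (p := 16090) (l := 9) rfl N16090 D50938
theorem N18169 : nd 18169 = n50939 := ndS (p := 16091) (l := 8) rfl N16091 D50939
theorem N18170 : nd 18170 = n50940 := ndS (p := 16093) (l := 9) rfl N16093 D50940
theorem N18171 : nd 18171 = n50941 := ndS (p := 16095) (l := 8) rfl N16095 D50941
theorem N18172 : nd 18172 = n50942 := ndS (p := 16099) (l := 3) rfl N16099 D50942
theorem N18173 : nd 18173 = n50943 := ndS (p := 16099) (l := 9) rfl N16099 D50943
theorem N18174 : nd 18174 = n50944 := ndS (p := 16100) (l := 9) rfl N16100 D50944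
theorem N18175 : nd 18175 = n50945 := ndS (p := 16102) (l := 9) rfl N16102 D50945
theorem N18176 : nd 18176 = n50946 := ndS (p := 16103) (l := 8) rfl N16103 D50946
theorem N18177 : nd 18177 = n50947 := ndS (p := 16104) (l := 8) rfl N16104 D50947
theorem N18178 : nd 18178 = n50948 := ndS (p := 16107) (l := 4) rfl N16107 D50948
theorem N18179 : nd 18179 = n50949 := ndS (p := 16107) (l := 9) rfl N16107 D50949
theorem N18180 : nd 18180 = n50950 := ndS (p := 16109) (l := 8) rfl N16109 D50950
theorem N18181 : nd 18181 = n50951 := ndS (p := 16110) (l := 6) rfl N16110 D50951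
theorem N18182 : nd 18182 = n50952 := ndS (p := 16110) (l := 9) rfl N16110 D50952
theorem N18183 : nd 18183 = n50953 := ndS (p := 16111) (l := 8) rfl N16111 D50953
theorem N18184 : nd 18184 = n50954 := ndS (p := 16113) (l := 9) rfl N16113 D50954
theorem N18185 : nd 18185 = n50955 := ndS (p := 16115) (l := 3) rfl N16115 D50955
theorem N18186 : nd 18186 = n50956 := ndS (p := 16116) (l := 9) rfl N16116 D50956
theorem N18187 : nd 18187 = n50957 := ndS (p := 16117) (l := 8) rfl N16117 D50957
theorem N18188 : nd 18188 = n50958 := ndS (p := 16119) (l := 3) rfl N16119 D50958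
theorem N18189 : nd 18189 = n50959 := ndS (p := 16119) (l := 9) rfl N16119 D50959
theorem N18190 : nd 18190 = n50960 := ndS (p := 16120) (l := 4) rfl N16120 D50960
theorem N18191 : nd 18191 = n50961 := ndS (p := 16120) (l := 9) rfl N16120 D50961
theorem N18192 : nd 18192 = n50962 := ndS (p := 16122) (l := 9) rfl N16122 D50962
theorem N18193 : nd 18193 = n50963 := ndS (p := 16124) (l := 5) rfl N16124 D50963
theorem N18194 : nd 18194 = n50964 := ndS (p := 16124) (l := 9) rfl N16124 D50964
theorem N18195 : nd 18195 = n50965 := ndS (p := 16125) (l := 8) rfl N16125 D50965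
theorem N18196 : nd 18196 = n50966 := ndS (p := 16126) (l := 6) rfl N16126 D50966
theorem N18197 : nd 18197 = n50967 := ndS (p := 16126) (l := 9) rfl N16126 D50967
theorem N18198 : nd 18198 = n50968 := ndS (p := 16127) (l := 8) rfl N16127 D50968
theorem N18199 : nd 18199 = n50969 := ndS (p := 16129) (l := 4) rfl N16129 D50969
theorem N18200 : nd 18200 = n50970 := ndS (p := 16129) (l := 9) rfl N16129 D50970
theorem N18201 : nd 18201 = n50971 := ndS (p := 16131) (l := 4) rfl N16131 D50971
theorem N18202 : nd 18202 = n50972 := ndS (p := 16131) (l := 9) rfl N16131 D50972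
theorem N18203 : nd 18203 = n50973 := ndS (p := 16132) (l := 5) rfl N16132 D50973
theorem N18204 : nd 18204 = n50974 := ndS (p := 16132) (l := 9) rfl N16132 D50974
theorem N18205 : nd 18205 = n50975 := ndS (p := 16133) (l := 8) rfl N16133 D50975
theorem N18206 : nd 18206 = n50976 := ndS (p := 16134) (l := 8) rfl N16134 D50976
theorem N18207 : nd 18207 = n50977 := ndS (p := 16135) (l := 8) rfl N16135 D50977
theorem N18208 : nd 18208 = n50978 := ndS (p := 16136) (l := 6) rfl N16136 D50978
theorem N18209 : nd 18209 = n50979 := ndS (p := 16136) (l := 9) rfl N16136 D50979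
theorem N18210 : nd 18210 = n50980 := ndS (p := 16137) (l := 8) rfl N16137 D50980
theorem N18211 : nd 18211 = n50981 := ndS (p := 16139) (l := 8) rfl N16139 D50981
theorem N18212 : nd 18212 = n50982 := ndS (p := 16140) (l := 6) rfl N16140 D50982
theorem N18213 : nd 18213 = n50983 := ndS (p := 16140) (l := 9) rfl N16140 D50983
theorem N18214 : nd 18214 = n50984 := ndS (p := 16141) (l := 8) rfl N16141 D50984
theorem N18215 : nd 18215 = n50985 := ndS (p := 16143) (l := 7) rfl N16143 D50985
theorem N18216 : nd 18216 = n50986 := ndS (p := 16143) (l := 9) rfl N16143 D50986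
theorem N18217 : nd 18217 = n50987 := ndS (p := 16144) (l := 8) rfl N16144 D50987
theorem N18218 : nd 18218 = n50988 := ndS (p := 16145) (l := 3) rfl N16145 D50988
theorem N18219 : nd 18219 = n50989 := ndS (p := 16146) (l := 7) rfl N16146 D50989
theorem N18220 : nd 18220 = n50990 := ndS (p := 16146) (l := 9) rfl N16146 D50990
theorem N18221 : nd 18221 = n50991 := ndS (p := 16147) (l := 8) rfl N16147 D50991
theorem N18222 : nd 18222 = n50992 := ndS (p := 16148) (l := 3) rfl N16148 D50992
theorem N18223 : nd 18223 = n50993 := ndS (p := 16149) (l := 9) rfl N16149 D50993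
theorem N18224 : nd 18224 = n50994 := ndS (p := 16150) (l := 8) rfl N16150 D50994
theorem N18225 : nd 18225 = n50995 := ndS (p := 16151) (l := 3) rfl N16151 D50995
theorem N18226 : nd 18226 = n50996 := ndS (p := 16152) (l := 2) rfl N16152 D50996
theorem N18227 : nd 18227 = n50997 := ndS (p := 16156) (l := 8) rfl N16156 D50997
theorem N18228 : nd 18228 = n50998 := ndS (p := 16157) (l := 3) rfl N16157 D50998
theorem N18229 : nd 18229 = n50999 := ndS (p := 16157) (l := 9) rfl N16157 D50999
theorem N18230 : nd 18230 = n51000 := ndS (p := 16158) (l := 8) rfl N16158 D51000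
theorem N18231 : nd 18231 = n51001 := ndS (p := 16159) (l := 3) rfl N16159 D51001
theorem N18232 : nd 18232 = n51002 := ndS (p := 16159) (l := 9) rfl N16159 D51002
theorem N18233 : nd 18233 = n51003 := ndS (p := 16160) (l := 2) rfl N16160 D51003
theorem N18234 : nd 18234 = n51004 := ndS (p := 16160) (l := 4) rfl N16160 D51004
theorem N18235 : nd 18235 = n51005 := ndS (p := 16160) (l := 9) rfl N16160 D51005
theorem N18236 : nd 18236 = n51006 := ndS (p := 16162) (l := 2) rfl N16162 D51006
theorem N18237 : nd 18237 = n51007 := ndS (p := 16162) (l := 4) rfl N16162 D51007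
theorem N18238 : nd 18238 = n51008 := ndS (p := 16162) (l := 9) rfl N16162 D51008
theorem N18239 : nd 18239 = n51009 := ndS (p := 16164) (l := 9) rfl N16164 D51009
theorem N18240 : nd 18240 = n51010 := ndS (p := 16165) (l := 5) rfl N16165 D51010
theorem N18241 : nd 18241 = n51011 := ndS (p := 16165) (l := 9) rfl N16165 D51011
theorem N18242 : nd 18242 = n51012 := ndS (p := 16166) (l := 8) rfl N16166 D51012
theorem N18243 : nd 18243 = n51013 := ndS (p := 16167) (l := 8) rfl N16167 D51013
theorem N18244 : nd 18244 = n51014 := ndS (p := 16168) (l := 8) rfl N16168 D51014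
theorem N18245 : nd 18245 = n51015 := ndS (p := 16170) (l := 3) rfl N16170 D51015
theorem N18246 : nd 18246 = n51016 := ndS (p := 16170) (l := 9) rfl N16170 D51016
theorem N18247 : nd 18247 = n51017 := ndS (p := 16171) (l := 2) rfl N16171 D51017
theorem N18248 : nd 18248 = n51018 := ndS (p := 16171) (l := 4) rfl N16171 D51018
theorem N18249 : nd 18249 = n51019 := ndS (p := 16171) (l := 9) rfl N16171 D51019
theorem N18250 : nd 18250 = n51020 := ndS (p := 16173) (l := 1) rfl N16173 D51020
theorem N18251 : nd 18251 = n51021 := ndS (p := 16173) (l := 4) rfl N16173 D51021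
theorem N18252 : nd 18252 = n51022 := ndS (p := 16173) (l := 9) rfl N16173 D51022
theorem N18253 : nd 18253 = n51023 := ndS (p := 16174) (l := 5) rfl N16174 D51023
theorem N18254 : nd 18254 = n51024 := ndS (p := 16174) (l := 9) rfl N16174 D51024
theorem N18255 : nd 18255 = n51025 := ndS (p := 16175) (l := 8) rfl N16175 D51025
theorem N18256 : nd 18256 = n51026 := ndS (p := 16176) (l := 4) rfl N16176 D51026
theorem N18257 : nd 18257 = n51027 := ndS (p := 16176) (l := 9) rfl N16176 D51027
theorem N18258 : nd 18258 = n51028 := ndS (p := 16177) (l := 5) rfl N16177 D51028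
theorem N18259 : nd 18259 = n51029 := ndS (p := 16177) (l := 9) rfl N16177 D51029
theorem N18260 : nd 18260 = n51030 := ndS (p := 16178) (l := 8) rfl N16178 D51030
theorem N18261 : nd 18261 = n51031 := ndS (p := 16179) (l := 9) rfl N16179 D51031
theorem N18262 : nd 18262 = n51032 := ndS (p := 16180) (l := 5) rfl N16180 D51032
theorem N18263 : nd 18263 = n51033 := ndS (p := 16180) (l := 9) rfl N16180 D51033
theorem N18264 : nd 18264 = n51034 := ndS (p := 16181) (l := 8) rfl N16181 D51034
theorem N18265 : nd 18265 = n51035 := ndS (p := 16182) (l := 9) rfl N16182 D51035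
theorem N18266 : nd 18266 = n51036 := ndS (p := 16183) (l := 8) rfl N16183 D51036
theorem N18267 : nd 18267 = n51037 := ndS (p := 16185) (l := 8) rfl N16185 D51037
theorem N18268 : nd 18268 = n51038 := ndS (p := 16186) (l := 8) rfl N16186 D51038
theorem N18269 : nd 18269 = n51039 := ndS (p := 16187) (l := 3) rfl N16187 D51039
theorem N18270 : nd 18270 = n51040 := ndS (p := 16188) (l := 3) rfl N16188 D51040
theorem N18271 : nd 18271 = n51041 := ndS (p := 16189) (l := 6) rfl N16189 D51041
theorem N18272 : nd 18272 = n51042 := ndS (p := 16189) (l := 9) rfl N16189 D51042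
theorem N18273 : nd 18273 = n51043 := ndS (p := 16190) (l := 8) rfl N16190 D51043
theorem N18274 : nd 18274 = n51044 := ndS (p := 16192) (l := 8) rfl N16192 D51044
theorem N18275 : nd 18275 = n51045 := ndS (p := 16193) (l := 3) rfl N16193 D51045
theorem N18276 : nd 18276 = n51046 := ndS (p := 16194) (l := 2) rfl N16194 D51046
theorem N18277 : nd 18277 = n51047 := ndS (p := 16196) (l := 9) rfl N16196 D51047
theorem N18278 : nd 18278 = n51048 := ndS (p := 16197) (l := 8) rfl N16197 D51048
theorem N18279 : nd 18279 = n51049 := ndS (p := 16198) (l := 4) rfl N16198 D51049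
theorem N18280 : nd 18280 = n51050 := ndS (p := 16198) (l := 9) rfl N16198 D51050
theorem N18281 : nd 18281 = n51051 := ndS (p := 16199) (l := 3) rfl N16199 D51051
theorem N18282 : nd 18282 = n51052 := ndS (p := 16199) (l := 9) rfl N16199 D51052
theorem N18283 : nd 18283 = n51053 := ndS (p := 16200) (l := 8) rfl N16200 D51053
theorem N18284 : nd 18284 = n51054 := ndS (p := 16201) (l := 8) rfl N16201 D51054
theorem N18285 : nd 18285 = n51055 := ndS (p := 16203) (l := 8) rfl N16203 D51055
theorem N18286 : nd 18286 = n51056 := ndS (p := 16205) (l := 8) rfl N16205 D51056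
theorem N18287 : nd 18287 = n51057 := ndS (p := 16206) (l := 3) rfl N16206 D51057
theorem N18288 : nd 18288 = n51058 := ndS (p := 16207) (l := 8) rfl N16207 D51058
theorem N18289 : nd 18289 = n51059 := ndS (p := 16208) (l := 3) rfl N16208 D51059
theorem N18290 : nd 18290 = n51060 := ndS (p := 16209) (l := 4) rfl N16209 D51060
theorem N18291 : nd 18291 = n51061 := ndS (p := 16210) (l := 8) rfl N16210 D51061
theorem N18292 : nd 18292 = n51062 := ndS (p := 16212) (l := 9) rfl N16212 D51062
theorem N18293 : nd 18293 = n51063 := ndS (p := 16213) (l := 8) rfl N16213 D51063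
theorem N18294 : nd 18294 = n51064 := ndS (p := 16214) (l := 8) rfl N16214 D51064
theorem N18295 : nd 18295 = n51065 := ndS (p := 16215) (l := 3) rfl N16215 D51065
theorem N18296 : nd 18296 = n51066 := ndS (p := 16217) (l := 3) rfl N16217 D51066
theorem N18297 : nd 18297 = n51067 := ndS (p := 16218) (l := 3) rfl N16218 D51067
theorem N18298 : nd 18298 = n51068 := ndS (p := 16219) (l := 4) rfl N16219 D51068
theorem N18299 : nd 18299 = n51069 := ndS (p := 16223) (l := 8) rfl N16223 D51069
theorem N18300 : nd 18300 = n51070 := ndS (p := 16224) (l := 3) rfl N16224 D51070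
theorem N18301 : nd 18301 = n51071 := ndS (p := 16224) (l := 9) rfl N16224 D51071
theorem N18302 : nd 18302 = n51072 := ndS (p := 16225) (l := 3) rfl N16225 D51072
theorem N18303 : nd 18303 = n51073 := ndS (p := 16225) (l := 9) rfl N16225 D51073
theorem N18304 : nd 18304 = n51074 := ndS (p := 16226) (l := 9) rfl N16226 D51074
theorem N18305 : nd 18305 = n51075 := ndS (p := 16228) (l := 8) rfl N16228 D51075
theorem N18306 : nd 18306 = n51076 := ndS (p := 16229) (l := 8) rfl N16229 D51076
theorem N18307 : nd 18307 = n51077 := ndS (p := 16230) (l := 3) rfl N16230 D51077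
theorem N18308 : nd 18308 = n51078 := ndS (p := 16230) (l := 9) rfl N16230 D51078
theorem N18309 : nd 18309 = n51079 := ndS (p := 16231) (l := 2) rfl N16231 D51079
theorem N18310 : nd 18310 = n51080 := ndS (p := 16231) (l := 4) rfl N16231 D51080
theorem N18311 : nd 18311 = n51081 := ndS (p := 16231) (l := 9) rfl N16231 D51081
theorem N18312 : nd 18312 = n51082 := ndS (p := 16233) (l := 2) rfl N16233 D51082
theorem N18313 : nd 18313 = n51083 := ndS (p := 16233) (l := 9) rfl N16233 D51083
theorem N18314 : nd 18314 = n51084 := ndS (p := 16235) (l := 9) rfl N16235 D51084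
theorem N18315 : nd 18315 = n51085 := ndS (p := 16236) (l := 5) rfl N16236 D51085
theorem N18316 : nd 18316 = n51086 := ndS (p := 16236) (l := 9) rfl N16236 D51086
theorem N18317 : nd 18317 = n51087 := ndS (p := 16237) (l := 8) rfl N16237 D51087
theorem N18318 : nd 18318 = n51088 := ndS (p := 16238) (l := 8) rfl N16238 D51088
theorem N18319 : nd 18319 = n51089 := ndS (p := 16239) (l := 8) rfl N16239 D51089
theorem N18320 : nd 18320 = n51090 := ndS (p := 16241) (l := 9) rfl N16241 D51090
theorem N18321 : nd 18321 = n51091 := ndS (p := 16242) (l := 8) rfl N16242 D51091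
theorem N18322 : nd 18322 = n51092 := ndS (p := 16245) (l := 3) rfl N16245 D51092
theorem N18323 : nd 18323 = n51093 := ndS (p := 16246) (l := 3) rfl N16246 D51093
theorem N18324 : nd 18324 = n51094 := ndS (p := 16246) (l := 9) rfl N16246 D51094
theorem N18325 : nd 18325 = n51095 := ndS (p := 16247) (l := 3) rfl N16247 D51095
theorem N18326 : nd 18326 = n51096 := ndS (p := 16247) (l := 9) rfl N16247 D51096
theorem N18327 : nd 18327 = n51097 := ndS (p := 16248) (l := 2) rfl N16248 D51097
theorem N18328 : nd 18328 = n51098 := ndS (p := 16248) (l := 4) rfl N16248 D51098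
theorem N18329 : nd 18329 = n51099 := ndS (p := 16248) (l := 9) rfl N16248 D51099
theorem N18330 : nd 18330 = n51100 := ndS (p := 16250) (l := 9) rfl N16250 D51100
theorem N18331 : nd 18331 = n51101 := ndS (p := 16252) (l := 9) rfl N16252 D51101
theorem N18332 : nd 18332 = n51102 := ndS (p := 16253) (l := 5) rfl N16253 D51102
theorem N18333 : nd 18333 = n51103 := ndS (p := 16253) (l := 9) rfl N16253 D51103
theorem N18334 : nd 18334 = n51104 := ndS (p := 16254) (l := 8) rfl N16254 D51104
theorem N18335 : nd 18335 = n51105 := ndS (p := 16255) (l := 8) rfl N16255 D51105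
theorem N18336 : nd 18336 = n51106 := ndS (p := 16256) (l := 8) rfl N16256 D51106
theorem N18337 : nd 18337 = n51107 := ndS (p := 16258) (l := 3) rfl N16258 D51107
theorem N18338 : nd 18338 = n51108 := ndS (p := 16258) (l := 9) rfl N16258 D51108
theorem N18339 : nd 18339 = n51109 := ndS (p := 16259) (l := 4) rfl N16259 D51109
theorem N18340 : nd 18340 = n51110 := ndS (p := 16259) (l := 9) rfl N16259 D51110
theorem N18341 : nd 18341 = n51111 := ndS (p := 16261) (l := 4) rfl N16261 D51111
theorem N18342 : nd 18342 = n51112 := ndS (p := 16261) (l := 9) rfl N16261 D51112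
theorem N18343 : nd 18343 = n51113 := ndS (p := 16262) (l := 5) rfl N16262 D51113
theorem N18344 : nd 18344 = n51114 := ndS (p := 16262) (l := 9) rfl N16262 D51114
theorem N18345 : nd 18345 = n51115 := ndS (p := 16263) (l := 8) rfl N16263 D51115
theorem N18346 : nd 18346 = n51116 := ndS (p := 16264) (l := 8) rfl N16264 D51116
theorem N18347 : nd 18347 = n51117 := ndS (p := 16265) (l := 8) rfl N16265 D51117
theorem N18348 : nd 18348 = n51118 := ndS (p := 16266) (l := 6) rfl N16266 D51118
theorem N18349 : nd 18349 = n51119 := ndS (p := 16266) (l := 9) rfl N16266 D51119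
theorem N18350 : nd 18350 = n51120 := ndS (p := 16267) (l := 8) rfl N16267 D51120
theorem N18351 : nd 18351 = n51121 := ndS (p := 16269) (l := 3) rfl N16269 D51121
theorem N18352 : nd 18352 = n51122 := ndS (p := 16270) (l := 7) rfl N16270 D51122
theorem N18353 : nd 18353 = n51123 := ndS (p := 16270) (l := 9) rfl N16270 D51123
theorem N18354 : nd 18354 = n51124 := ndS (p := 16271) (l := 8) rfl N16271 D51124
theorem N18355 : nd 18355 = n51125 := ndS (p := 16272) (l := 3) rfl N16272 D51125
theorem N18356 : nd 18356 = n51126 := ndS (p := 16273) (l := 7) rfl N16273 D51126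
theorem N18357 : nd 18357 = n51127 := ndS (p := 16273) (l := 9) rfl N16273 D51127
theorem N18358 : nd 18358 = n51128 := ndS (p := 16274) (l := 8) rfl N16274 D51128
theorem N18359 : nd 18359 = n51129 := ndS (p := 16275) (l := 3) rfl N16275 D51129
theorem N18360 : nd 18360 = n51130 := ndS (p := 16276) (l := 9) rfl N16276 D51130
theorem N18361 : nd 18361 = n51131 := ndS (p := 16277) (l := 8) rfl N16277 D51131
theorem N18362 : nd 18362 = n51132 := ndS (p := 16278) (l := 3) rfl N16278 D51132
theorem N18363 : nd 18363 = n51133 := ndS (p := 16280) (l := 8) rfl N16280 D51133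
theorem N18364 : nd 18364 = n51134 := ndS (p := 16283) (l := 8) rfl N16283 D51134
theorem N18365 : nd 18365 = n51135 := ndS (p := 16285) (l := 3) rfl N16285 D51135
theorem N18366 : nd 18366 = n51136 := ndS (p := 16287) (l := 3) rfl N16287 D51136
theorem N18367 : nd 18367 = n51137 := ndS (p := 16287) (l := 9) rfl N16287 D51137
theorem N18368 : nd 18368 = n51138 := ndS (p := 16288) (l := 2) rfl N16288 D51138
theorem N18369 : nd 18369 = n51139 := ndS (p := 16288) (l := 4) rfl N16288 D51139
theorem N18370 : nd 18370 = n51140 := ndS (p := 16288) (l := 9) rfl N16288 D51140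
theorem N18371 : nd 18371 = n51141 := ndS (p := 16290) (l := 3) rfl N16290 D51141
theorem N18372 : nd 18372 = n51142 := ndS (p := 16290) (l := 9) rfl N16290 D51142
theorem N18373 : nd 18373 = n51143 := ndS (p := 16291) (l := 2) rfl N16291 D51143
theorem N18374 : nd 18374 = n51144 := ndS (p := 16291) (l := 4) rfl N16291 D51144
theorem N18375 : nd 18375 = n51145 := ndS (p := 16291) (l := 9) rfl N16291 D51145
theorem N18376 : nd 18376 = n51146 := ndS (p := 16293) (l := 1) rfl N16293 D51146
theorem N18377 : nd 18377 = n51147 := ndS (p := 16293) (l := 4) rfl N16293 D51147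
theorem N18378 : nd 18378 = n51148 := ndS (p := 16293) (l := 9) rfl N16293 D51148
theorem N18379 : nd 18379 = n51149 := ndS (p := 16294) (l := 5) rfl N16294 D51149
theorem N18380 : nd 18380 = n51150 := ndS (p := 16294) (l := 9) rfl N16294 D51150
theorem N18381 : nd 18381 = n51151 := ndS (p := 16295) (l := 8) rfl N16295 D51151
theorem N18382 : nd 18382 = n51152 := ndS (p := 16296) (l := 1) rfl N16296 D51152
theorem N18383 : nd 18383 = n51153 := ndS (p := 16296) (l := 9) rfl N16296 D51153
theorem N18384 : nd 18384 = n51154 := ndS (p := 16297) (l := 5) rfl N16297 D51154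
theorem N18385 : nd 18385 = n51155 := ndS (p := 16297) (l := 9) rfl N16297 D51155
theorem N18386 : nd 18386 = n51156 := ndS (p := 16298) (l := 8) rfl N16298 D51156
theorem N18387 : nd 18387 = n51157 := ndS (p := 16299) (l := 9) rfl N16299 D51157
theorem N18388 : nd 18388 = n51158 := ndS (p := 16300) (l := 5) rfl N16300 D51158
theorem N18389 : nd 18389 = n51159 := ndS (p := 16300) (l := 9) rfl N16300 D51159
theorem N18390 : nd 18390 = n51160 := ndS (p := 16301) (l := 8) rfl N16301 D51160
theorem N18391 : nd 18391 = n51161 := ndS (p := 16302) (l := 6) rfl N16302 D51161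
theorem N18392 : nd 18392 = n51162 := ndS (p := 16302) (l := 9) rfl N16302 D51162
theorem N18393 : nd 18393 = n51163 := ndS (p := 16303) (l := 8) rfl N16303 D51163
theorem N18394 : nd 18394 = n51164 := ndS (p := 16305) (l := 8) rfl N16305 D51164
theorem N18395 : nd 18395 = n51165 := ndS (p := 16306) (l := 8) rfl N16306 D51165
theorem N18396 : nd 18396 = n51166 := ndS (p := 16307) (l := 3) rfl N16307 D51166
theorem N18397 : nd 18397 = n51167 := ndS (p := 16308) (l := 7) rfl N16308 D51167
theorem N18398 : nd 18398 = n51168 := ndS (p := 16308) (l := 9) rfl N16308 D51168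
theorem N18399 : nd 18399 = n51169 := ndS (p := 16309) (l := 8) rfl N16309 D51169
theorem N18400 : nd 18400 = n51170 := ndS (p := 16310) (l := 3) rfl N16310 D51170
theorem N18401 : nd 18401 = n51171 := ndS (p := 16311) (l := 4) rfl N16311 D51171
theorem N18402 : nd 18402 = n51172 := ndS (p := 16311) (l := 9) rfl N16311 D51172
theorem N18403 : nd 18403 = n51173 := ndS (p := 16313) (l := 1) rfl N16313 D51173
theorem N18404 : nd 18404 = n51174 := ndS (p := 16313) (l := 4) rfl N16313 D51174
theorem N18405 : nd 18405 = n51175 := ndS (p := 16313) (l := 9) rfl N16313 D51175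
theorem N18406 : nd 18406 = n51176 := ndS (p := 16314) (l := 5) rfl N16314 D51176
theorem N18407 : nd 18407 = n51177 := ndS (p := 16314) (l := 9) rfl N16314 D51177
theorem N18408 : nd 18408 = n51178 := ndS (p := 16315) (l := 8) rfl N16315 D51178
theorem N18409 : nd 18409 = n51179 := ndS (p := 16316) (l := 0) rfl N16316 D51179
theorem N18410 : nd 18410 = n51180 := ndS (p := 16316) (l := 4) rfl N16316 D51180
theorem N18411 : nd 18411 = n51181 := ndS (p := 16316) (l := 9) rfl N16316 D51181
theorem N18412 : nd 18412 = n51182 := ndS (p := 16317) (l := 3) rfl N16317 D51182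
theorem N18413 : nd 18413 = n51183 := ndS (p := 16317) (l := 5) rfl N16317 D51183
theorem N18414 : nd 18414 = n51184 := ndS (p := 16317) (l := 9) rfl N16317 D51184
theorem N18415 : nd 18415 = n51185 := ndS (p := 16318) (l := 8) rfl N16318 D51185
theorem N18416 : nd 18416 = n51186 := ndS (p := 16319) (l := 6) rfl N16319 D51186
theorem N18417 : nd 18417 = n51187 := ndS (p := 16319) (l := 9) rfl N16319 D51187
theorem N18418 : nd 18418 = n51188 := ndS (p := 16320) (l := 8) rfl N16320 D51188
theorem N18419 : nd 18419 = n51189 := ndS (p := 16322) (l := 0) rfl N16322 D51189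
theorem N18420 : nd 18420 = n51190 := ndS (p := 16322) (l := 9) rfl N16322 D51190
theorem N18421 : nd 18421 = n51191 := ndS (p := 16323) (l := 8) rfl N16323 D51191
theorem N18422 : nd 18422 = n51192 := ndS (p := 16324) (l := 6) rfl N16324 D51192
theorem N18423 : nd 18423 = n51193 := ndS (p := 16324) (l := 9) rfl N16324 D51193
theorem N18424 : nd 18424 = n51194 := ndS (p := 16325) (l := 8) rfl N16325 D51194
theorem N18425 : nd 18425 = n51195 := ndS (p := 16327) (l := 9) rfl N16327 D51195
theorem N18426 : nd 18426 = n51196 := ndS (p := 16328) (l := 5) rfl N16328 D51196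
theorem N18427 : nd 18427 = n51197 := ndS (p := 16328) (l := 9) rfl N16328 D51197
theorem N18428 : nd 18428 = n51198 := ndS (p := 16329) (l := 8) rfl N16329 D51198
theorem N18429 : nd 18429 = n51199 := ndS (p := 16330) (l := 6) rfl N16330 D51199
theorem N18430 : nd 18430 = n51200 := ndS (p := 16330) (l := 9) rfl N16330 D51200
theorem N18431 : nd 18431 = n51201 := ndS (p := 16331) (l := 8) rfl N16331 D51201
theorem N18432 : nd 18432 = n51202 := ndS (p := 16332) (l := 3) rfl N16332 D51202
theorem N18433 : nd 18433 = n51203 := ndS (p := 16333) (l := 7) rfl N16333 D51203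
theorem N18434 : nd 18434 = n51204 := ndS (p := 16333) (l := 9) rfl N16333 D51204
theorem N18435 : nd 18435 = n51205 := ndS (p := 16334) (l := 8) rfl N16334 D51205
theorem N18436 : nd 18436 = n51206 := ndS (p := 16335) (l := 3) rfl N16335 D51206
theorem N18437 : nd 18437 = n51207 := ndS (p := 16336) (l := 8) rfl N16336 D51207
theorem N18438 : nd 18438 = n51208 := ndS (p := 16337) (l := 8) rfl N16337 D51208
theorem N18439 : nd 18439 = n51209 := ndS (p := 16338) (l := 3) rfl N16338 D51209
theorem N18440 : nd 18440 = n51210 := ndS (p := 16339) (l := 7) rfl N16339 D51210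
theorem N18441 : nd 18441 = n51211 := ndS (p := 16339) (l := 9) rfl N16339 D51211
theorem N18442 : nd 18442 = n51212 := ndS (p := 16340) (l := 8) rfl N16340 D51212
theorem N18443 : nd 18443 = n51213 := ndS (p := 16342) (l := 4) rfl N16342 D51213
theorem N18444 : nd 18444 = n51214 := ndS (p := 16343) (l := 9) rfl N16343 D51214
theorem N18445 : nd 18445 = n51215 := ndS (p := 16344) (l := 8) rfl N16344 D51215
theorem N18446 : nd 18446 = n51216 := ndS (p := 16345) (l := 3) rfl N16345 D51216
theorem N18447 : nd 18447 = n51217 := ndS (p := 16346) (l := 2) rfl N16346 D51217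
theorem N18448 : nd 18448 = n51218 := ndS (p := 16347) (l := 7) rfl N16347 D51218
theorem N18449 : nd 18449 = n51219 := ndS (p := 16347) (l := 9) rfl N16347 D51219
theorem N18450 : nd 18450 = n51220 := ndS (p := 16348) (l := 8) rfl N16348 D51220
theorem N18451 : nd 18451 = n51221 := ndS (p := 16349) (l := 3) rfl N16349 D51221
theorem N18452 : nd 18452 = n51222 := ndS (p := 16350) (l := 9) rfl N16350 D51222
theorem N18453 : nd 18453 = n51223 := ndS (p := 16351) (l := 8) rfl N16351 D51223
theorem N18454 : nd 18454 = n51224 := ndS (p := 16352) (l := 3) rfl N16352 D51224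
theorem N18455 : nd 18455 = n51225 := ndS (p := 16353) (l := 2) rfl N16353 D51225
theorem N18456 : nd 18456 = n51226 := ndS (p := 16354) (l := 8) rfl N16354 D51226
theorem N18457 : nd 18457 = n51227 := ndS (p := 16355) (l := 3) rfl N16355 D51227
theorem N18458 : nd 18458 = n51228 := ndS (p := 16356) (l := 2) rfl N16356 D51228
theorem N18459 : nd 18459 = n51229 := ndS (p := 16357) (l := 1) rfl N16357 D51229
theorem N18460 : nd 18460 = n51230 := ndS (p := 16359) (l := 0) rfl N16359 D51230
theorem N18461 : nd 18461 = n51231 := ndS (p := 16359) (l := 9) rfl N16359 D51231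
theorem N18462 : nd 18462 = n51232 := ndS (p := 16360) (l := 8) rfl N16360 D51232
theorem N18463 : nd 18463 = n51233 := ndS (p := 16362) (l := 4) rfl N16362 D51233
theorem N18464 : nd 18464 = n51234 := ndS (p := 16362) (l := 9) rfl N16362 D51234
theorem N18465 : nd 18465 = n51235 := ndS (p := 16363) (l := 3) rfl N16363 D51235
theorem N18466 : nd 18466 = n51236 := ndS (p := 16363) (l := 9) rfl N16363 D51236
theorem N18467 : nd 18467 = n51237 := ndS (p := 16364) (l := 8) rfl N16364 D51237
theorem N18468 : nd 18468 = n51238 := ndS (p := 16365) (l := 8) rfl N16365 D51238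
theorem N18469 : nd 18469 = n51239 := ndS (p := 16365) (l := 9) rfl N16365 D51239
theorem N18470 : nd 18470 = n51240 := ndS (p := 16366) (l := 8) rfl N16366 D51240
theorem N18471 : nd 18471 = n51241 := ndS (p := 16367) (l := 3) rfl N16367 D51241
theorem N18472 : nd 18472 = n51242 := ndS (p := 16369) (l := 9) rfl N16369 D51242
theorem N18473 : nd 18473 = n51243 := ndS (p := 16370) (l := 8) rfl N16370 D51243
theorem N18474 : nd 18474 = n51244 := ndS (p := 16371) (l := 3) rfl N16371 D51244
theorem N18475 : nd 18475 = n51245 := ndS (p := 16372) (l := 8) rfl N16372 D51245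
theorem N18476 : nd 18476 = n51246 := ndS (p := 16373) (l := 3) rfl N16373 D51246
theorem N18477 : nd 18477 = n51247 := ndS (p := 16374) (l := 4) rfl N16374 D51247
theorem N18478 : nd 18478 = n51248 := ndS (p := 16376) (l := 4) rfl N16376 D51248
theorem N18479 : nd 18479 = n51249 := ndS (p := 16377) (l := 5) rfl N16377 D51249
theorem N18480 : nd 18480 = n51250 := ndS (p := 16378) (l := 9) rfl N16378 D51250
theorem N18481 : nd 18481 = n51251 := ndS (p := 16379) (l := 8) rfl N16379 D51251
theorem N18482 : nd 18482 = n51252 := ndS (p := 16380) (l := 3) rfl N16380 D51252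
theorem N18483 : nd 18483 = n51253 := ndS (p := 16381) (l := 9) rfl N16381 D51253
theorem N18484 : nd 18484 = n51254 := ndS (p := 16382) (l := 8) rfl N16382 D51254
theorem N18485 : nd 18485 = n51255 := ndS (p := 16383) (l := 8) rfl N16383 D51255
theorem N18486 : nd 18486 = n51256 := ndS (p := 16384) (l := 3) rfl N16384 D51256
theorem N18487 : nd 18487 = n51257 := ndS (p := 16387) (l := 8) rfl N16387 D51257
theorem N18488 : nd 18488 = n51258 := ndS (p := 16388) (l := 3) rfl N16388 D51258
theorem N18489 : nd 18489 = n51259 := ndS (p := 16389) (l := 4) rfl N16389 D51259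
theorem N18490 : nd 18490 = n51260 := ndS (p := 16393) (l := 8) rfl N16393 D51260
theorem N18491 : nd 18491 = n51261 := ndS (p := 16395) (l := 8) rfl N16395 D51261
theorem N18492 : nd 18492 = n51262 := ndS (p := 16396) (l := 8) rfl N16396 D51262
theorem N18493 : nd 18493 = n51263 := ndS (p := 16398) (l := 3) rfl N16398 D51263
theorem N18494 : nd 18494 = n51264 := ndS (p := 16399) (l := 8) rfl N16399 D51264
theorem N18495 : nd 18495 = n51265 := ndS (p := 16403) (l := 8) rfl N16403 D51265
theorem N18496 : nd 18496 = n51266 := ndS (p := 16405) (l := 8) rfl N16405 D51266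
theorem N18497 : nd 18497 = n51267 := ndS (p := 16406) (l := 3) rfl N16406 D51267
theorem N18498 : nd 18498 = n51268 := ndS (p := 16406) (l := 9) rfl N16406 D51268
theorem N18499 : nd 18499 = n51269 := ndS (p := 16407) (l := 9) rfl N16407 D51269
theorem N18500 : nd 18500 = n51270 := ndS (p := 16412) (l := 3) rfl N16412 D51270
theorem N18501 : nd 18501 = n51271 := ndS (p := 16412) (l := 9) rfl N16412 D51271
theorem N18502 : nd 18502 = n51272 := ndS (p := 16413) (l := 2) rfl N16413 D51272
theorem N18503 : nd 18503 = n51273 := ndS (p := 16413) (l := 4) rfl N16413 D51273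
theorem N18504 : nd 18504 = n51274 := ndS (p := 16413) (l := 9) rfl N16413 D51274
theorem N18505 : nd 18505 = n51275 := ndS (p := 16415) (l := 8) rfl N16415 D51275
theorem N18506 : nd 18506 = n51276 := ndS (p := 16416) (l := 3) rfl N16416 D51276
theorem N18507 : nd 18507 = n51277 := ndS (p := 16416) (l := 9) rfl N16416 D51277
theorem N18508 : nd 18508 = n51278 := ndS (p := 16417) (l := 9) rfl N16417 D51278
theorem N18509 : nd 18509 = n51279 := ndS (p := 16418) (l := 9) rfl N16418 D51279
theorem N18510 : nd 18510 = n51280 := ndS (p := 16420) (l := 9) rfl N16420 D51280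
theorem N18511 : nd 18511 = n51281 := ndS (p := 16421) (l := 9) rfl N16421 D51281
theorem N18512 : nd 18512 = n51282 := ndS (p := 16422) (l := 8) rfl N16422 D51282
theorem N18513 : nd 18513 = n51283 := ndS (p := 16424) (l := 8) rfl N16424 D51283
theorem N18514 : nd 18514 = n51284 := ndS (p := 16430) (l := 8) rfl N16430 D51284
theorem N18515 : nd 18515 = n51285 := ndS (p := 16432) (l := 9) rfl N16432 D51285
theorem N18516 : nd 18516 = n51286 := ndS (p := 16434) (l := 1) rfl N16434 D51286
theorem N18517 : nd 18517 = n51287 := ndS (p := 16434) (l := 9) rfl N16434 D51287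
theorem N18518 : nd 18518 = n51288 := ndS (p := 16435) (l := 5) rfl N16435 D51288
theorem N18519 : nd 18519 = n51289 := ndS (p := 16435) (l := 9) rfl N16435 D51289
theorem N18520 : nd 18520 = n51290 := ndS (p := 16436) (l := 8) rfl N16436 D51290
theorem N18521 : nd 18521 = n51291 := ndS (p := 16438) (l := 9) rfl N16438 D51291
theorem N18522 : nd 18522 = n51292 := ndS (p := 16440) (l := 9) rfl N16440 D51292
theorem N18523 : nd 18523 = n51293 := ndS (p := 16442) (l := 8) rfl N16442 D51293
theorem N18524 : nd 18524 = n51294 := ndS (p := 16443) (l := 9) rfl N16443 D51294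
theorem N18525 : nd 18525 = n51295 := ndS (p := 16444) (l := 8) rfl N16444 D51295
theorem N18526 : nd 18526 = n51296 := ndS (p := 16445) (l := 9) rfl N16445 D51296
theorem N18527 : nd 18527 = n51297 := ndS (p := 16446) (l := 8) rfl N16446 D51297
theorem N18528 : nd 18528 = n51298 := ndS (p := 16450) (l := 8) rfl N16450 D51298
theorem N18529 : nd 18529 = n51299 := ndS (p := 16451) (l := 3) rfl N16451 D51299
theorem N18530 : nd 18530 = n51300 := ndS (p := 16455) (l := 8) rfl N16455 D51300
theorem N18531 : nd 18531 = n51301 := ndS (p := 16456) (l := 3) rfl N16456 D51301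
theorem N18532 : nd 18532 = n51302 := ndS (p := 16457) (l := 8) rfl N16457 D51302
theorem N18533 : nd 18533 = n51303 := ndS (p := 16459) (l := 9) rfl N16459 D51303
theorem N18534 : nd 18534 = n51304 := ndS (p := 16461) (l := 9) rfl N16461 D51304
theorem N18535 : nd 18535 = n51305 := ndS (p := 16463) (l := 1) rfl N16463 D51305
theorem N18536 : nd 18536 = n51306 := ndS (p := 16463) (l := 9) rfl N16463 D51306
theorem N18537 : nd 18537 = n51307 := ndS (p := 16464) (l := 8) rfl N16464 D51307
theorem N18538 : nd 18538 = n51308 := ndS (p := 16465) (l := 3) rfl N16465 D51308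
theorem N18539 : nd 18539 = n51309 := ndS (p := 16465) (l := 9) rfl N16465 D51309
theorem N18540 : nd 18540 = n51310 := ndS (p := 16466) (l := 2) rfl N16466 D51310
theorem N18541 : nd 18541 = n51311 := ndS (p := 16466) (l := 9) rfl N16466 D51311
theorem N18542 : nd 18542 = n51312 := ndS (p := 16468) (l := 1) rfl N16468 D51312
theorem N18543 : nd 18543 = n51313 := ndS (p := 16468) (l := 4) rfl N16468 D51313
theorem N18544 : nd 18544 = n51314 := ndS (p := 16468) (l := 9) rfl N16468 D51314
theorem N18545 : nd 18545 = n51315 := ndS (p := 16469) (l := 9) rfl N16469 D51315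
theorem N18546 : nd 18546 = n51316 := ndS (p := 16470) (l := 8) rfl N16470 D51316
theorem N18547 : nd 18547 = n51317 := ndS (p := 16472) (l := 9) rfl N16472 D51317
theorem N18548 : nd 18548 = n51318 := ndS (p := 16474) (l := 9) rfl N16474 D51318
theorem N18549 : nd 18549 = n51319 := ndS (p := 16476) (l := 9) rfl N16476 D51319
theorem N18550 : nd 18550 = n51320 := ndS (p := 16477) (l := 5) rfl N16477 D51320
theorem N18551 : nd 18551 = n51321 := ndS (p := 16477) (l := 9) rfl N16477 D51321
theorem N18552 : nd 18552 = n51322 := ndS (p := 16478) (l := 8) rfl N16478 D51322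
theorem N18553 : nd 18553 = n51323 := ndS (p := 16479) (l := 9) rfl N16479 D51323
theorem N18554 : nd 18554 = n51324 := ndS (p := 16480) (l := 9) rfl N16480 D51324
theorem N18555 : nd 18555 = n51325 := ndS (p := 16481) (l := 8) rfl N16481 D51325
theorem N18556 : nd 18556 = n51326 := ndS (p := 16482) (l := 8) rfl N16482 D51326
theorem N18557 : nd 18557 = n51327 := ndS (p := 16484) (l := 9) rfl N16484 D51327
theorem N18558 : nd 18558 = n51328 := ndS (p := 16485) (l := 8) rfl N16485 D51328
theorem N18559 : nd 18559 = n51329 := ndS (p := 16487) (l := 3) rfl N16487 D51329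
theorem N18560 : nd 18560 = n51330 := ndS (p := 16488) (l := 9) rfl N16488 D51330
theorem N18561 : nd 18561 = n51331 := ndS (p := 16489) (l := 8) rfl N16489 D51331
theorem N18562 : nd 18562 = n51332 := ndS (p := 16491) (l := 8) rfl N16491 D51332
theorem N18563 : nd 18563 = n51333 := ndS (p := 16492) (l := 3) rfl N16492 D51333
theorem N18564 : nd 18564 = n51334 := ndS (p := 16494) (l := 9) rfl N16494 D51334
theorem N18565 : nd 18565 = n51335 := ndS (p := 16496) (l := 9) rfl N16496 D51335
theorem N18566 : nd 18566 = n51336 := ndS (p := 16498) (l := 9) rfl N16498 D51336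
theorem N18567 : nd 18567 = n51337 := ndS (p := 16499) (l := 9) rfl N16499 D51337
theorem N18568 : nd 18568 = n51338 := ndS (p := 16500) (l := 8) rfl N16500 D51338
theorem N18569 : nd 18569 = n51339 := ndS (p := 16501) (l := 9) rfl N16501 D51339
theorem N18570 : nd 18570 = n51340 := ndS (p := 16502) (l := 9) rfl N16502 D51340
theorem N18571 : nd 18571 = n51341 := ndS (p := 16503) (l := 8) rfl N16503 D51341
theorem N18572 : nd 18572 = n51342 := ndS (p := 16504) (l := 9) rfl N16504 D51342
theorem N18573 : nd 18573 = n51343 := ndS (p := 16505) (l := 8) rfl N16505 D51343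
theorem N18574 : nd 18574 = n51344 := ndS (p := 16507) (l := 9) rfl N16507 D51344
theorem N18575 : nd 18575 = n51345 := ndS (p := 16508) (l := 8) rfl N16508 D51345
theorem N18576 : nd 18576 = n51346 := ndS (p := 16509) (l := 8) rfl N16509 D51346
theorem N18577 : nd 18577 = n51347 := ndS (p := 16510) (l := 9) rfl N16510 D51347
theorem N18578 : nd 18578 = n51348 := ndS (p := 16511) (l := 8) rfl N16511 D51348
theorem N18579 : nd 18579 = n51349 := ndS (p := 16512) (l := 8) rfl N16512 D51349
theorem N18580 : nd 18580 = n51350 := ndS (p := 16514) (l := 9) rfl N16514 D51350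
theorem N18581 : nd 18581 = n51351 := ndS (p := 16515) (l := 9) rfl N16515 D51351
theorem N18582 : nd 18582 = n51352 := ndS (p := 16516) (l := 8) rfl N16516 D51352
theorem N18583 : nd 18583 = n51353 := ndS (p := 16517) (l := 9) rfl N16517 D51353
theorem N18584 : nd 18584 = n51354 := ndS (p := 16518) (l := 8) rfl N16518 D51354
theorem N18585 : nd 18585 = n51355 := ndS (p := 16519) (l := 3) rfl N16519 D51355
theorem N18586 : nd 18586 = n51356 := ndS (p := 16520) (l := 9) rfl N16520 D51356
theorem N18587 : nd 18587 = n51357 := ndS (p := 16521) (l := 8) rfl N16521 D51357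
theorem N18588 : nd 18588 = n51358 := ndS (p := 16522) (l := 3) rfl N16522 D51358
theorem N18589 : nd 18589 = n51359 := ndS (p := 16523) (l := 3) rfl N16523 D51359
theorem N18590 : nd 18590 = n51360 := ndS (p := 16526) (l := 3) rfl N16526 D51360
theorem N18591 : nd 18591 = n51361 := ndS (p := 16527) (l := 2) rfl N16527 D51361
theorem N18592 : nd 18592 = n51362 := ndS (p := 16528) (l := 3) rfl N16528 D51362
theorem N18593 : nd 18593 = n51363 := ndS (p := 16529) (l := 8) rfl N16529 D51363
theorem N18594 : nd 18594 = n51364 := ndS (p := 16530) (l := 3) rfl N16530 D51364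
theorem N18595 : nd 18595 = n51365 := ndS (p := 16531) (l := 4) rfl N16531 D51365
theorem N18596 : nd 18596 = n51366 := ndS (p := 16534) (l := 8) rfl N16534 D51366
theorem N18597 : nd 18597 = n51367 := ndS (p := 16536) (l := 8) rfl N16536 D51367
theorem N18598 : nd 18598 = n51368 := ndS (p := 16538) (l := 9) rfl N16538 D51368
theorem N18599 : nd 18599 = n51369 := ndS (p := 16539) (l := 8) rfl N16539 D51369
theorem N18600 : nd 18600 = n51370 := ndS (p := 16541) (l := 8) rfl N16541 D51370
theorem N18601 : nd 18601 = n51371 := ndS (p := 16545) (l := 8) rfl N16545 D51371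
theorem N18602 : nd 18602 = n51372 := ndS (p := 16546) (l := 8) rfl N16546 D51372
theorem N18603 : nd 18603 = n51373 := ndS (p := 16556) (l := 8) rfl N16556 D51373
theorem N18604 : nd 18604 = n51374 := ndS (p := 16561) (l := 9) rfl N16561 D51374
theorem N18605 : nd 18605 = n51375 := ndS (p := 16563) (l := 8) rfl N16563 D51375
theorem N18606 : nd 18606 = n51376 := ndS (p := 16564) (l := 3) rfl N16564 D51376
theorem N18607 : nd 18607 = n51377 := ndS (p := 16564) (l := 9) rfl N16564 D51377
theorem N18608 : nd 18608 = n51378 := ndS (p := 16565) (l := 3) rfl N16565 D51378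
theorem N18609 : nd 18609 = n51379 := ndS (p := 16565) (l := 9) rfl N16565 D51379
theorem N18610 : nd 18610 = n51380 := ndS (p := 16566) (l := 9) rfl N16566 D51380
theorem N18611 : nd 18611 = n51381 := ndS (p := 16568) (l := 8) rfl N16568 D51381
theorem N18612 : nd 18612 = n51382 := ndS (p := 16570) (l := 8) rfl N16570 D51382
theorem N18613 : nd 18613 = n51383 := ndS (p := 16571) (l := 3) rfl N16571 D51383
theorem N18614 : nd 18614 = n51384 := ndS (p := 16571) (l := 9) rfl N16571 D51384
theorem N18615 : nd 18615 = n51385 := ndS (p := 16572) (l := 3) rfl N16572 D51385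
theorem N18616 : nd 18616 = n51386 := ndS (p := 16572) (l := 9) rfl N16572 D51386
theorem N18617 : nd 18617 = n51387 := ndS (p := 16573) (l := 2) rfl N16573 D51387
theorem N18618 : nd 18618 = n51388 := ndS (p := 16573) (l := 4) rfl N16573 D51388
theorem N18619 : nd 18619 = n51389 := ndS (p := 16573) (l := 9) rfl N16573 D51389
theorem N18620 : nd 18620 = n51390 := ndS (p := 16575) (l := 9) rfl N16575 D51390
theorem N18621 : nd 18621 = n51391 := ndS (p := 16576) (l := 9) rfl N16576 D51391
theorem N18622 : nd 18622 = n51392 := ndS (p := 16577) (l := 8) rfl N16577 D51392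
theorem N18623 : nd 18623 = n51393 := ndS (p := 16578) (l := 8) rfl N16578 D51393
theorem N18624 : nd 18624 = n51394 := ndS (p := 16579) (l := 3) rfl N16579 D51394
theorem N18625 : nd 18625 = n51395 := ndS (p := 16579) (l := 9) rfl N16579 D51395
theorem N18626 : nd 18626 = n51396 := ndS (p := 16580) (l := 2) rfl N16580 D51396
theorem N18627 : nd 18627 = n51397 := ndS (p := 16580) (l := 4) rfl N16580 D51397
theorem N18628 : nd 18628 = n51398 := ndS (p := 16580) (l := 9) rfl N16580 D51398
theorem N18629 : nd 18629 = n51399 := ndS (p := 16582) (l := 9) rfl N16582 D51399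
theorem N18630 : nd 18630 = n51400 := ndS (p := 16584) (l := 9) rfl N16584 D51400
theorem N18631 : nd 18631 = n51401 := ndS (p := 16585) (l := 5) rfl N16585 D51401
theorem N18632 : nd 18632 = n51402 := ndS (p := 16585) (l := 9) rfl N16585 D51402
theorem N18633 : nd 18633 = n51403 := ndS (p := 16586) (l := 8) rfl N16586 D51403
theorem N18634 : nd 18634 = n51404 := ndS (p := 16587) (l := 9) rfl N16587 D51404
theorem N18635 : nd 18635 = n51405 := ndS (p := 16588) (l := 8) rfl N16588 D51405
theorem N18636 : nd 18636 = n51406 := ndS (p := 16589) (l := 8) rfl N16589 D51406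
theorem N18637 : nd 18637 = n51407 := ndS (p := 16591) (l := 9) rfl N16591 D51407
theorem N18638 : nd 18638 = n51408 := ndS (p := 16592) (l := 8) rfl N16592 D51408
theorem N18639 : nd 18639 = n51409 := ndS (p := 16594) (l := 3) rfl N16594 D51409
theorem N18640 : nd 18640 = n51410 := ndS (p := 16595) (l := 9) rfl N16595 D51410
theorem N18641 : nd 18641 = n51411 := ndS (p := 16597) (l := 9) rfl N16597 D51411
theorem N18642 : nd 18642 = n51412 := ndS (p := 16598) (l := 8) rfl N16598 D51412
theorem N18643 : nd 18643 = n51413 := ndS (p := 16599) (l := 8) rfl N16599 D51413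
theorem N18644 : nd 18644 = n51414 := ndS (p := 16602) (l := 3) rfl N16602 D51414
theorem N18645 : nd 18645 = n51415 := ndS (p := 16603) (l := 3) rfl N16603 D51415
theorem N18646 : nd 18646 = n51416 := ndS (p := 16603) (l := 9) rfl N16603 D51416
theorem N18647 : nd 18647 = n51417 := ndS (p := 16604) (l := 3) rfl N16604 D51417
theorem N18648 : nd 18648 = n51418 := ndS (p := 16604) (l := 9) rfl N16604 D51418
theorem N18649 : nd 18649 = n51419 := ndS (p := 16605) (l := 2) rfl N16605 D51419
theorem N18650 : nd 18650 = n51420 := ndS (p := 16605) (l := 4) rfl N16605 D51420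
theorem N18651 : nd 18651 = n51421 := ndS (p := 16605) (l := 9) rfl N16605 D51421
theorem N18652 : nd 18652 = n51422 := ndS (p := 16607) (l := 9) rfl N16607 D51422
theorem N18653 : nd 18653 = n51423 := ndS (p := 16609) (l := 1) rfl N16609 D51423
theorem N18654 : nd 18654 = n51424 := ndS (p := 16609) (l := 9) rfl N16609 D51424
theorem N18655 : nd 18655 = n51425 := ndS (p := 16610) (l := 5) rfl N16610 D51425
theorem N18656 : nd 18656 = n51426 := ndS (p := 16610) (l := 9) rfl N16610 D51426
theorem N18657 : nd 18657 = n51427 := ndS (p := 16611) (l := 8) rfl N16611 D51427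
theorem N18658 : nd 18658 = n51428 := ndS (p := 16612) (l := 9) rfl N16612 D51428
theorem N18659 : nd 18659 = n51429 := ndS (p := 16613) (l := 9) rfl N16613 D51429
theorem N18660 : nd 18660 = n51430 := ndS (p := 16614) (l := 8) rfl N16614 D51430
theorem N18661 : nd 18661 = n51431 := ndS (p := 16615) (l := 6) rfl N16615 D51431
theorem N18662 : nd 18662 = n51432 := ndS (p := 16615) (l := 9) rfl N16615 D51432
theorem N18663 : nd 18663 = n51433 := ndS (p := 16616) (l := 8) rfl N16616 D51433
theorem N18664 : nd 18664 = n51434 := ndS (p := 16618) (l := 3) rfl N16618 D51434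
theorem N18665 : nd 18665 = n51435 := ndS (p := 16618) (l := 9) rfl N16618 D51435
theorem N18666 : nd 18666 = n51436 := ndS (p := 16619) (l := 4) rfl N16619 D51436
theorem N18667 : nd 18667 = n51437 := ndS (p := 16619) (l := 9) rfl N16619 D51437
theorem N18668 : nd 18668 = n51438 := ndS (p := 16621) (l := 1) rfl N16621 D51438
theorem N18669 : nd 18669 = n51439 := ndS (p := 16621) (l := 4) rfl N16621 D51439
theorem N18670 : nd 18670 = n51440 := ndS (p := 16621) (l := 9) rfl N16621 D51440
theorem N18671 : nd 18671 = n51441 := ndS (p := 16622) (l := 5) rfl N16622 D51441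
theorem N18672 : nd 18672 = n51442 := ndS (p := 16622) (l := 9) rfl N16622 D51442
theorem N18673 : nd 18673 = n51443 := ndS (p := 16623) (l := 8) rfl N16623 D51443
theorem N18674 : nd 18674 = n51444 := ndS (p := 16624) (l := 8) rfl N16624 D51444
theorem N18675 : nd 18675 = n51445 := ndS (p := 16625) (l := 9) rfl N16625 D51445
theorem N18676 : nd 18676 = n51446 := ndS (p := 16626) (l := 8) rfl N16626 D51446
theorem N18677 : nd 18677 = n51447 := ndS (p := 16627) (l := 6) rfl N16627 D51447
theorem N18678 : nd 18678 = n51448 := ndS (p := 16627) (l := 9) rfl N16627 D51448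
theorem N18679 : nd 18679 = n51449 := ndS (p := 16628) (l := 8) rfl N16628 D51449
theorem N18680 : nd 18680 = n51450 := ndS (p := 16630) (l := 9) rfl N16630 D51450
theorem N18681 : nd 18681 = n51451 := ndS (p := 16631) (l := 9) rfl N16631 D51451
theorem N18682 : nd 18682 = n51452 := ndS (p := 16632) (l := 8) rfl N16632 D51452
theorem N18683 : nd 18683 = n51453 := ndS (p := 16633) (l := 6) rfl N16633 D51453
theorem N18684 : nd 18684 = n51454 := ndS (p := 16633) (l := 9) rfl N16633 D51454
theorem N18685 : nd 18685 = n51455 := ndS (p := 16634) (l := 8) rfl N16634 D51455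
theorem N18686 : nd 18686 = n51456 := ndS (p := 16635) (l := 3) rfl N16635 D51456
theorem N18687 : nd 18687 = n51457 := ndS (p := 16636) (l := 9) rfl N16636 D51457
theorem N18688 : nd 18688 = n51458 := ndS (p := 16637) (l := 8) rfl N16637 D51458
theorem N18689 : nd 18689 = n51459 := ndS (p := 16638) (l := 3) rfl N16638 D51459
theorem N18690 : nd 18690 = n51460 := ndS (p := 16640) (l := 9) rfl N16640 D51460
theorem N18691 : nd 18691 = n51461 := ndS (p := 16641) (l := 8) rfl N16641 D51461
theorem N18692 : nd 18692 = n51462 := ndS (p := 16642) (l := 3) rfl N16642 D51462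
theorem N18693 : nd 18693 = n51463 := ndS (p := 16643) (l := 8) rfl N16643 D51463
theorem N18694 : nd 18694 = n51464 := ndS (p := 16644) (l := 3) rfl N16644 D51464
theorem N18695 : nd 18695 = n51465 := ndS (p := 16645) (l := 2) rfl N16645 D51465
theorem N18696 : nd 18696 = n51466 := ndS (p := 16648) (l := 9) rfl N16648 D51466
theorem N18697 : nd 18697 = n51467 := ndS (p := 16649) (l := 8) rfl N16649 D51467
theorem N18698 : nd 18698 = n51468 := ndS (p := 16650) (l := 9) rfl N16650 D51468
theorem N18699 : nd 18699 = n51469 := ndS (p := 16651) (l := 3) rfl N16651 D51469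
theorem N18700 : nd 18700 = n51470 := ndS (p := 16651) (l := 9) rfl N16651 D51470
theorem N18701 : nd 18701 = n51471 := ndS (p := 16652) (l := 8) rfl N16652 D51471
theorem N18702 : nd 18702 = n51472 := ndS (p := 16653) (l := 8) rfl N16653 D51472
theorem N18703 : nd 18703 = n51473 := ndS (p := 16656) (l := 8) rfl N16656 D51473
theorem N18704 : nd 18704 = n51474 := ndS (p := 16657) (l := 3) rfl N16657 D51474
theorem N18705 : nd 18705 = n51475 := ndS (p := 16659) (l := 3) rfl N16659 D51475
theorem N18706 : nd 18706 = n51476 := ndS (p := 16660) (l := 4) rfl N16660 D51476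
theorem N18707 : nd 18707 = n51477 := ndS (p := 16663) (l := 9) rfl N16663 D51477
theorem N18708 : nd 18708 = n51478 := ndS (p := 16664) (l := 9) rfl N16664 D51478
theorem N18709 : nd 18709 = n51479 := ndS (p := 16665) (l := 8) rfl N16665 D51479
theorem N18710 : nd 18710 = n51480 := ndS (p := 16670) (l := 8) rfl N16670 D51480
theorem N18711 : nd 18711 = n51481 := ndS (p := 16674) (l := 3) rfl N16674 D51481
theorem N18712 : nd 18712 = n51482 := ndS (p := 16674) (l := 9) rfl N16674 D51482
theorem N18713 : nd 18713 = n51483 := ndS (p := 16675) (l := 9) rfl N16675 D51483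
theorem N18714 : nd 18714 = n51484 := ndS (p := 16676) (l := 9) rfl N16676 D51484
theorem N18715 : nd 18715 = n51485 := ndS (p := 16678) (l := 8) rfl N16678 D51485
theorem N18716 : nd 18716 = n51486 := ndS (p := 16679) (l := 3) rfl N16679 D51486
theorem N18717 : nd 18717 = n51487 := ndS (p := 16679) (l := 9) rfl N16679 D51487
theorem N18718 : nd 18718 = n51488 := ndS (p := 16680) (l := 2) rfl N16680 D51488
theorem N18719 : nd 18719 = n51489 := ndS (p := 16680) (l := 4) rfl N16680 D51489
theorem N18720 : nd 18720 = n51490 := ndS (p := 16680) (l := 9) rfl N16680 D51490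
theorem N18721 : nd 18721 = n51491 := ndS (p := 16682) (l := 9) rfl N16682 D51491
theorem N18722 : nd 18722 = n51492 := ndS (p := 16684) (l := 1) rfl N16684 D51492
theorem N18723 : nd 18723 = n51493 := ndS (p := 16684) (l := 9) rfl N16684 D51493
theorem N18724 : nd 18724 = n51494 := ndS (p := 16685) (l := 8) rfl N16685 D51494
theorem N18725 : nd 18725 = n51495 := ndS (p := 16686) (l := 9) rfl N16686 D51495
theorem N18726 : nd 18726 = n51496 := ndS (p := 16687) (l := 8) rfl N16687 D51496
theorem N18727 : nd 18727 = n51497 := ndS (p := 16689) (l := 8) rfl N16689 D51497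
theorem N18728 : nd 18728 = n51498 := ndS (p := 16690) (l := 3) rfl N16690 D51498
theorem N18729 : nd 18729 = n51499 := ndS (p := 16690) (l := 9) rfl N16690 D51499
theorem N18730 : nd 18730 = n51500 := ndS (p := 16691) (l := 3) rfl N16691 D51500
theorem N18731 : nd 18731 = n51501 := ndS (p := 16691) (l := 9) rfl N16691 D51501
theorem N18732 : nd 18732 = n51502 := ndS (p := 16692) (l := 2) rfl N16692 D51502
theorem N18733 : nd 18733 = n51503 := ndS (p := 16692) (l := 4) rfl N16692 D51503
theorem N18734 : nd 18734 = n51504 := ndS (p := 16692) (l := 9) rfl N16692 D51504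
theorem N18735 : nd 18735 = n51505 := ndS (p := 16694) (l := 2) rfl N16694 D51505
theorem N18736 : nd 18736 = n51506 := ndS (p := 16694) (l := 9) rfl N16694 D51506
theorem N18737 : nd 18737 = n51507 := ndS (p := 16696) (l := 1) rfl N16696 D51507
theorem N18738 : nd 18738 = n51508 := ndS (p := 16696) (l := 4) rfl N16696 D51508
theorem N18739 : nd 18739 = n51509 := ndS (p := 16696) (l := 9) rfl N16696 D51509
theorem N18740 : nd 18740 = n51510 := ndS (p := 16697) (l := 5) rfl N16697 D51510
theorem N18741 : nd 18741 = n51511 := ndS (p := 16697) (l := 9) rfl N16697 D51511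
theorem N18742 : nd 18742 = n51512 := ndS (p := 16698) (l := 8) rfl N16698 D51512
theorem N18743 : nd 18743 = n51513 := ndS (p := 16699) (l := 9) rfl N16699 D51513
theorem N18744 : nd 18744 = n51514 := ndS (p := 16700) (l := 9) rfl N16700 D51514
theorem N18745 : nd 18745 = n51515 := ndS (p := 16701) (l := 8) rfl N16701 D51515
theorem N18746 : nd 18746 = n51516 := ndS (p := 16702) (l := 8) rfl N16702 D51516
theorem N18747 : nd 18747 = n51517 := ndS (p := 16704) (l := 3) rfl N16704 D51517
theorem N18748 : nd 18748 = n51518 := ndS (p := 16704) (l := 9) rfl N16704 D51518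
theorem N18749 : nd 18749 = n51519 := ndS (p := 16705) (l := 2) rfl N16705 D51519
theorem N18750 : nd 18750 = n51520 := ndS (p := 16705) (l := 4) rfl N16705 D51520
theorem N18751 : nd 18751 = n51521 := ndS (p := 16705) (l := 9) rfl N16705 D51521
theorem N18752 : nd 18752 = n51522 := ndS (p := 16707) (l := 1) rfl N16707 D51522
theorem N18753 : nd 18753 = n51523 := ndS (p := 16707) (l := 4) rfl N16707 D51523
theorem N18754 : nd 18754 = n51524 := ndS (p := 16707) (l := 9) rfl N16707 D51524
theorem N18755 : nd 18755 = n51525 := ndS (p := 16708) (l := 5) rfl N16708 D51525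
theorem N18756 : nd 18756 = n51526 := ndS (p := 16708) (l := 9) rfl N16708 D51526
theorem N18757 : nd 18757 = n51527 := ndS (p := 16709) (l := 8) rfl N16709 D51527
theorem N18758 : nd 18758 = n51528 := ndS (p := 16710) (l := 9) rfl N16710 D51528
theorem N18759 : nd 18759 = n51529 := ndS (p := 16711) (l := 5) rfl N16711 D51529
theorem N18760 : nd 18760 = n51530 := ndS (p := 16711) (l := 9) rfl N16711 D51530
theorem N18761 : nd 18761 = n51531 := ndS (p := 16712) (l := 8) rfl N16712 D51531
theorem N18762 : nd 18762 = n51532 := ndS (p := 16713) (l := 0) rfl N16713 D51532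
theorem N18763 : nd 18763 = n51533 := ndS (p := 16713) (l := 9) rfl N16713 D51533
theorem N18764 : nd 18764 = n51534 := ndS (p := 16714) (l := 5) rfl N16714 D51534
theorem N18765 : nd 18765 = n51535 := ndS (p := 16714) (l := 9) rfl N16714 D51535
theorem N18766 : nd 18766 = n51536 := ndS (p := 16715) (l := 8) rfl N16715 D51536
theorem N18767 : nd 18767 = n51537 := ndS (p := 16716) (l := 9) rfl N16716 D51537
theorem N18768 : nd 18768 = n51538 := ndS (p := 16717) (l := 8) rfl N16717 D51538
theorem N18769 : nd 18769 = n51539 := ndS (p := 16719) (l := 9) rfl N16719 D51539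
theorem N18770 : nd 18770 = n51540 := ndS (p := 16720) (l := 9) rfl N16720 D51540
theorem N18771 : nd 18771 = n51541 := ndS (p := 16721) (l := 8) rfl N16721 D51541
theorem N18772 : nd 18772 = n51542 := ndS (p := 16722) (l := 8) rfl N16722 D51542
theorem N18773 : nd 18773 = n51543 := ndS (p := 16723) (l := 3) rfl N16723 D51543
theorem N18774 : nd 18774 = n51544 := ndS (p := 16724) (l := 3) rfl N16724 D51544
theorem N18775 : nd 18775 = n51545 := ndS (p := 16725) (l := 6) rfl N16725 D51545
theorem N18776 : nd 18776 = n51546 := ndS (p := 16725) (l := 9) rfl N16725 D51546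
theorem N18777 : nd 18777 = n51547 := ndS (p := 16726) (l := 8) rfl N16726 D51547
theorem N18778 : nd 18778 = n51548 := ndS (p := 16728) (l := 8) rfl N16728 D51548
theorem N18779 : nd 18779 = n51549 := ndS (p := 16729) (l := 3) rfl N16729 D51549
theorem N18780 : nd 18780 = n51550 := ndS (p := 16730) (l := 2) rfl N16730 D51550
theorem N18781 : nd 18781 = n51551 := ndS (p := 16732) (l := 1) rfl N16732 D51551
theorem N18782 : nd 18782 = n51552 := ndS (p := 16732) (l := 9) rfl N16732 D51552
theorem N18783 : nd 18783 = n51553 := ndS (p := 16733) (l := 9) rfl N16733 D51553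
theorem N18784 : nd 18784 = n51554 := ndS (p := 16734) (l := 8) rfl N16734 D51554
theorem N18785 : nd 18785 = n51555 := ndS (p := 16735) (l := 9) rfl N16735 D51555
theorem N18786 : nd 18786 = n51556 := ndS (p := 16736) (l := 8) rfl N16736 D51556
theorem N18787 : nd 18787 = n51557 := ndS (p := 16737) (l := 8) rfl N16737 D51557
theorem N18788 : nd 18788 = n51558 := ndS (p := 16739) (l := 9) rfl N16739 D51558
theorem N18789 : nd 18789 = n51559 := ndS (p := 16740) (l := 8) rfl N16740 D51559
theorem N18790 : nd 18790 = n51560 := ndS (p := 16742) (l := 9) rfl N16742 D51560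
theorem N18791 : nd 18791 = n51561 := ndS (p := 16743) (l := 8) rfl N16743 D51561
theorem N18792 : nd 18792 = n51562 := ndS (p := 16744) (l := 3) rfl N16744 D51562
theorem N18793 : nd 18793 = n51563 := ndS (p := 16745) (l := 8) rfl N16745 D51563
theorem N18794 : nd 18794 = n51564 := ndS (p := 16746) (l := 3) rfl N16746 D51564
theorem N18795 : nd 18795 = n51565 := ndS (p := 16747) (l := 4) rfl N16747 D51565
theorem N18796 : nd 18796 = n51566 := ndS (p := 16748) (l := 3) rfl N16748 D51566
theorem N18797 : nd 18797 = n51567 := ndS (p := 16748) (l := 9) rfl N16748 D51567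
theorem N18798 : nd 18798 = n51568 := ndS (p := 16749) (l := 2) rfl N16749 D51568
theorem N18799 : nd 18799 = n51569 := ndS (p := 16749) (l := 4) rfl N16749 D51569
theorem N18800 : nd 18800 = n51570 := ndS (p := 16749) (l := 9) rfl N16749 D51570
theorem N18801 : nd 18801 = n51571 := ndS (p := 16751) (l := 3) rfl N16751 D51571
theorem N18802 : nd 18802 = n51572 := ndS (p := 16751) (l := 9) rfl N16751 D51572
theorem N18803 : nd 18803 = n51573 := ndS (p := 16752) (l := 2) rfl N16752 D51573
theorem N18804 : nd 18804 = n51574 := ndS (p := 16752) (l := 4) rfl N16752 D51574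
theorem N18805 : nd 18805 = n51575 := ndS (p := 16752) (l := 9) rfl N16752 D51575
theorem N18806 : nd 18806 = n51576 := ndS (p := 16754) (l := 1) rfl N16754 D51576
theorem N18807 : nd 18807 = n51577 := ndS (p := 16754) (l := 4) rfl N16754 D51577
theorem N18808 : nd 18808 = n51578 := ndS (p := 16754) (l := 9) rfl N16754 D51578
theorem N18809 : nd 18809 = n51579 := ndS (p := 16755) (l := 5) rfl N16755 D51579
theorem N18810 : nd 18810 = n51580 := ndS (p := 16755) (l := 9) rfl N16755 D51580
theorem N18811 : nd 18811 = n51581 := ndS (p := 16756) (l := 8) rfl N16756 D51581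
theorem N18812 : nd 18812 = n51582 := ndS (p := 16757) (l := 9) rfl N16757 D51582
theorem N18813 : nd 18813 = n51583 := ndS (p := 16758) (l := 5) rfl N16758 D51583
theorem N18814 : nd 18814 = n51584 := ndS (p := 16758) (l := 9) rfl N16758 D51584
theorem N18815 : nd 18815 = n51585 := ndS (p := 16759) (l := 8) rfl N16759 D51585
theorem N18816 : nd 18816 = n51586 := ndS (p := 16760) (l := 9) rfl N16760 D51586
theorem N18817 : nd 18817 = n51587 := ndS (p := 16761) (l := 5) rfl N16761 D51587
theorem N18818 : nd 18818 = n51588 := ndS (p := 16761) (l := 9) rfl N16761 D51588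
theorem N18819 : nd 18819 = n51589 := ndS (p := 16762) (l := 8) rfl N16762 D51589
theorem N18820 : nd 18820 = n51590 := ndS (p := 16763) (l := 6) rfl N16763 D51590
theorem N18821 : nd 18821 = n51591 := ndS (p := 16763) (l := 9) rfl N16763 D51591
theorem N18822 : nd 18822 = n51592 := ndS (p := 16764) (l := 8) rfl N16764 D51592
theorem N18823 : nd 18823 = n51593 := ndS (p := 16766) (l := 8) rfl N16766 D51593
theorem N18824 : nd 18824 = n51594 := ndS (p := 16767) (l := 8) rfl N16767 D51594
theorem N18825 : nd 18825 = n51595 := ndS (p := 16768) (l := 3) rfl N16768 D51595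
theorem N18826 : nd 18826 = n51596 := ndS (p := 16769) (l := 9) rfl N16769 D51596
theorem N18827 : nd 18827 = n51597 := ndS (p := 16770) (l := 8) rfl N16770 D51597
theorem N18828 : nd 18828 = n51598 := ndS (p := 16771) (l := 3) rfl N16771 D51598
theorem N18829 : nd 18829 = n51599 := ndS (p := 16772) (l := 4) rfl N16772 D51599
theorem N18830 : nd 18830 = n51600 := ndS (p := 16772) (l := 9) rfl N16772 D51600
theorem N18831 : nd 18831 = n51601 := ndS (p := 16774) (l := 4) rfl N16774 D51601
theorem N18832 : nd 18832 = n51602 := ndS (p := 16774) (l := 9) rfl N16774 D51602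
theorem N18833 : nd 18833 = n51603 := ndS (p := 16775) (l := 5) rfl N16775 D51603
theorem N18834 : nd 18834 = n51604 := ndS (p := 16775) (l := 9) rfl N16775 D51604
theorem N18835 : nd 18835 = n51605 := ndS (p := 16776) (l := 8) rfl N16776 D51605
theorem N18836 : nd 18836 = n51606 := ndS (p := 16777) (l := 0) rfl N16777 D51606
theorem N18837 : nd 18837 = n51607 := ndS (p := 16777) (l := 4) rfl N16777 D51607
theorem N18838 : nd 18838 = n51608 := ndS (p := 16777) (l := 9) rfl N16777 D51608
theorem N18839 : nd 18839 = n51609 := ndS (p := 16778) (l := 3) rfl N16778 D51609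
theorem N18840 : nd 18840 = n51610 := ndS (p := 16778) (l := 5) rfl N16778 D51610
theorem N18841 : nd 18841 = n51611 := ndS (p := 16778) (l := 9) rfl N16778 D51611
theorem N18842 : nd 18842 = n51612 := ndS (p := 16779) (l := 8) rfl N16779 D51612
theorem N18843 : nd 18843 = n51613 := ndS (p := 16780) (l := 6) rfl N16780 D51613
theorem N18844 : nd 18844 = n51614 := ndS (p := 16780) (l := 9) rfl N16780 D51614
theorem N18845 : nd 18845 = n51615 := ndS (p := 16781) (l := 8) rfl N16781 D51615
theorem N18846 : nd 18846 = n51616 := ndS (p := 16783) (l := 5) rfl N16783 D51616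
theorem N18847 : nd 18847 = n51617 := ndS (p := 16783) (l := 9) rfl N16783 D51617
theorem N18848 : nd 18848 = n51618 := ndS (p := 16784) (l := 8) rfl N16784 D51618
theorem N18849 : nd 18849 = n51619 := ndS (p := 16785) (l := 9) rfl N16785 D51619
theorem N18850 : nd 18850 = n51620 := ndS (p := 16786) (l := 8) rfl N16786 D51620
theorem N18851 : nd 18851 = n51621 := ndS (p := 16788) (l := 9) rfl N16788 D51621
theorem N18852 : nd 18852 = n51622 := ndS (p := 16789) (l := 5) rfl N16789 D51622
theorem N18853 : nd 18853 = n51623 := ndS (p := 16789) (l := 9) rfl N16789 D51623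
theorem N18854 : nd 18854 = n51624 := ndS (p := 16790) (l := 8) rfl N16790 D51624
theorem N18855 : nd 18855 = n51625 := ndS (p := 16791) (l := 6) rfl N16791 D51625
theorem N18856 : nd 18856 = n51626 := ndS (p := 16791) (l := 9) rfl N16791 D51626
theorem N18857 : nd 18857 = n51627 := ndS (p := 16792) (l := 8) rfl N16792 D51627
theorem N18858 : nd 18858 = n51628 := ndS (p := 16793) (l := 3) rfl N16793 D51628
theorem N18859 : nd 18859 = n51629 := ndS (p := 16794) (l := 7) rfl N16794 D51629
theorem N18860 : nd 18860 = n51630 := ndS (p := 16794) (l := 9) rfl N16794 D51630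
theorem N18861 : nd 18861 = n51631 := ndS (p := 16795) (l := 8) rfl N16795 D51631
theorem N18862 : nd 18862 = n51632 := ndS (p := 16796) (l := 3) rfl N16796 D51632
theorem N18863 : nd 18863 = n51633 := ndS (p := 16797) (l := 8) rfl N16797 D51633
theorem N18864 : nd 18864 = n51634 := ndS (p := 16798) (l := 8) rfl N16798 D51634
theorem N18865 : nd 18865 = n51635 := ndS (p := 16799) (l := 3) rfl N16799 D51635
theorem N18866 : nd 18866 = n51636 := ndS (p := 16800) (l := 9) rfl N16800 D51636
theorem N18867 : nd 18867 = n51637 := ndS (p := 16801) (l := 8) rfl N16801 D51637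
theorem N18868 : nd 18868 = n51638 := ndS (p := 16802) (l := 3) rfl N16802 D51638
theorem N18869 : nd 18869 = n51639 := ndS (p := 16803) (l := 4) rfl N16803 D51639
theorem N18870 : nd 18870 = n51640 := ndS (p := 16804) (l := 9) rfl N16804 D51640
theorem N18871 : nd 18871 = n51641 := ndS (p := 16805) (l := 8) rfl N16805 D51641
theorem N18872 : nd 18872 = n51642 := ndS (p := 16806) (l := 3) rfl N16806 D51642
theorem N18873 : nd 18873 = n51643 := ndS (p := 16807) (l := 2) rfl N16807 D51643
theorem N18874 : nd 18874 = n51644 := ndS (p := 16808) (l := 8) rfl N16808 D51644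
theorem N18875 : nd 18875 = n51645 := ndS (p := 16809) (l := 3) rfl N16809 D51645
theorem N18876 : nd 18876 = n51646 := ndS (p := 16810) (l := 9) rfl N16810 D51646
theorem N18877 : nd 18877 = n51647 := ndS (p := 16811) (l := 8) rfl N16811 D51647
theorem N18878 : nd 18878 = n51648 := ndS (p := 16812) (l := 3) rfl N16812 D51648
theorem N18879 : nd 18879 = n51649 := ndS (p := 16813) (l := 2) rfl N16813 D51649
theorem N18880 : nd 18880 = n51650 := ndS (p := 16815) (l := 3) rfl N16815 D51650
theorem N18881 : nd 18881 = n51651 := ndS (p := 16816) (l := 2) rfl N16816 D51651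
theorem N18882 : nd 18882 = n51652 := ndS (p := 16817) (l := 1) rfl N16817 D51652
theorem N18883 : nd 18883 = n51653 := ndS (p := 16818) (l := 3) rfl N16818 D51653
theorem N18884 : nd 18884 = n51654 := ndS (p := 16818) (l := 9) rfl N16818 D51654
theorem N18885 : nd 18885 = n51655 := ndS (p := 16819) (l := 8) rfl N16819 D51655
theorem N18886 : nd 18886 = n51656 := ndS (p := 16820) (l := 8) rfl N16820 D51656
theorem N18887 : nd 18887 = n51657 := ndS (p := 16822) (l := 4) rfl N16822 D51657
theorem N18888 : nd 18888 = n51658 := ndS (p := 16822) (l := 9) rfl N16822 D51658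
theorem N18889 : nd 18889 = n51659 := ndS (p := 16823) (l := 3) rfl N16823 D51659
theorem N18890 : nd 18890 = n51660 := ndS (p := 16823) (l := 9) rfl N16823 D51660
theorem N18891 : nd 18891 = n51661 := ndS (p := 16824) (l := 8) rfl N16824 D51661
theorem N18892 : nd 18892 = n51662 := ndS (p := 16825) (l := 8) rfl N16825 D51662
theorem N18893 : nd 18893 = n51663 := ndS (p := 16825) (l := 9) rfl N16825 D51663
theorem N18894 : nd 18894 = n51664 := ndS (p := 16826) (l := 8) rfl N16826 D51664
theorem N18895 : nd 18895 = n51665 := ndS (p := 16827) (l := 3) rfl N16827 D51665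
theorem N18896 : nd 18896 = n51666 := ndS (p := 16828) (l := 3) rfl N16828 D51666
theorem N18897 : nd 18897 = n51667 := ndS (p := 16829) (l := 3) rfl N16829 D51667
theorem N18898 : nd 18898 = n51668 := ndS (p := 16830) (l := 8) rfl N16830 D51668
theorem N18899 : nd 18899 = n51669 := ndS (p := 16831) (l := 3) rfl N16831 D51669
theorem N18900 : nd 18900 = n51670 := ndS (p := 16832) (l := 4) rfl N16832 D51670
theorem N18901 : nd 18901 = n51671 := ndS (p := 16837) (l := 9) rfl N16837 D51671
theorem N18902 : nd 18902 = n51672 := ndS (p := 16838) (l := 8) rfl N16838 D51672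
theorem N18903 : nd 18903 = n51673 := ndS (p := 16839) (l := 8) rfl N16839 D51673
theorem N18904 : nd 18904 = n51674 := ndS (p := 16847) (l := 9) rfl N16847 D51674
theorem N18905 : nd 18905 = n51675 := ndS (p := 16848) (l := 8) rfl N16848 D51675
theorem N18906 : nd 18906 = n51676 := ndS (p := 16850) (l := 8) rfl N16850 D51676
theorem N18907 : nd 18907 = n51677 := ndS (p := 16852) (l := 3) rfl N16852 D51677
theorem N18908 : nd 18908 = n51678 := ndS (p := 16854) (l := 3) rfl N16854 D51678
theorem N18909 : nd 18909 = n51679 := ndS (p := 16854) (l := 9) rfl N16854 D51679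
theorem N18910 : nd 18910 = n51680 := ndS (p := 16855) (l := 2) rfl N16855 D51680
theorem N18911 : nd 18911 = n51681 := ndS (p := 16855) (l := 4) rfl N16855 D51681
theorem N18912 : nd 18912 = n51682 := ndS (p := 16855) (l := 9) rfl N16855 D51682
theorem N18913 : nd 18913 = n51683 := ndS (p := 16857) (l := 2) rfl N16857 D51683
theorem N18914 : nd 18914 = n51684 := ndS (p := 16857) (l := 9) rfl N16857 D51684
theorem N18915 : nd 18915 = n51685 := ndS (p := 16859) (l := 9) rfl N16859 D51685
theorem N18916 : nd 18916 = n51686 := ndS (p := 16860) (l := 8) rfl N16860 D51686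
theorem N18917 : nd 18917 = n51687 := ndS (p := 16861) (l := 8) rfl N16861 D51687
theorem N18918 : nd 18918 = n51688 := ndS (p := 16863) (l := 3) rfl N16863 D51688
theorem N18919 : nd 18919 = n51689 := ndS (p := 16863) (l := 9) rfl N16863 D51689
theorem N18920 : nd 18920 = n51690 := ndS (p := 16864) (l := 4) rfl N16864 D51690
theorem N18921 : nd 18921 = n51691 := ndS (p := 16864) (l := 9) rfl N16864 D51691
theorem N18922 : nd 18922 = n51692 := ndS (p := 16866) (l := 5) rfl N16866 D51692
theorem N18923 : nd 18923 = n51693 := ndS (p := 16866) (l := 9) rfl N16866 D51693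
theorem N18924 : nd 18924 = n51694 := ndS (p := 16867) (l := 8) rfl N16867 D51694
theorem N18925 : nd 18925 = n51695 := ndS (p := 16868) (l := 9) rfl N16868 D51695
theorem N18926 : nd 18926 = n51696 := ndS (p := 16869) (l := 8) rfl N16869 D51696
theorem N18927 : nd 18927 = n51697 := ndS (p := 16870) (l := 9) rfl N16870 D51697
theorem N18928 : nd 18928 = n51698 := ndS (p := 16871) (l := 8) rfl N16871 D51698
theorem N18929 : nd 18929 = n51699 := ndS (p := 16873) (l := 3) rfl N16873 D51699
theorem N18930 : nd 18930 = n51700 := ndS (p := 16874) (l := 8) rfl N16874 D51700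
theorem N18931 : nd 18931 = n51701 := ndS (p := 16876) (l := 8) rfl N16876 D51701
theorem N18932 : nd 18932 = n51702 := ndS (p := 16877) (l := 3) rfl N16877 D51702
theorem N18933 : nd 18933 = n51703 := ndS (p := 16880) (l := 3) rfl N16880 D51703
theorem N18934 : nd 18934 = n51704 := ndS (p := 16880) (l := 9) rfl N16880 D51704
theorem N18935 : nd 18935 = n51705 := ndS (p := 16881) (l := 2) rfl N16881 D51705
theorem N18936 : nd 18936 = n51706 := ndS (p := 16881) (l := 4) rfl N16881 D51706
theorem N18937 : nd 18937 = n51707 := ndS (p := 16881) (l := 9) rfl N16881 D51707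
theorem N18938 : nd 18938 = n51708 := ndS (p := 16883) (l := 3) rfl N16883 D51708
theorem N18939 : nd 18939 = n51709 := ndS (p := 16883) (l := 9) rfl N16883 D51709
theorem N18940 : nd 18940 = n51710 := ndS (p := 16884) (l := 4) rfl N16884 D51710
theorem N18941 : nd 18941 = n51711 := ndS (p := 16884) (l := 9) rfl N16884 D51711
theorem N18942 : nd 18942 = n51712 := ndS (p := 16886) (l := 5) rfl N16886 D51712
theorem N18943 : nd 18943 = n51713 := ndS (p := 16886) (l := 9) rfl N16886 D51713
theorem N18944 : nd 18944 = n51714 := ndS (p := 16887) (l := 8) rfl N16887 D51714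
theorem N18945 : nd 18945 = n51715 := ndS (p := 16888) (l := 5) rfl N16888 D51715
theorem N18946 : nd 18946 = n51716 := ndS (p := 16888) (l := 9) rfl N16888 D51716
theorem N18947 : nd 18947 = n51717 := ndS (p := 16889) (l := 8) rfl N16889 D51717
theorem N18948 : nd 18948 = n51718 := ndS (p := 16890) (l := 9) rfl N16890 D51718
theorem N18949 : nd 18949 = n51719 := ndS (p := 16891) (l := 8) rfl N16891 D51719
theorem N18950 : nd 18950 = n51720 := ndS (p := 16893) (l := 3) rfl N16893 D51720
theorem N18951 : nd 18951 = n51721 := ndS (p := 16894) (l := 2) rfl N16894 D51721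
theorem N18952 : nd 18952 = n51722 := ndS (p := 16894) (l := 4) rfl N16894 D51722
theorem N18953 : nd 18953 = n51723 := ndS (p := 16894) (l := 9) rfl N16894 D51723
theorem N18954 : nd 18954 = n51724 := ndS (p := 16896) (l := 4) rfl N16896 D51724
theorem N18955 : nd 18955 = n51725 := ndS (p := 16896) (l := 9) rfl N16896 D51725
theorem N18956 : nd 18956 = n51726 := ndS (p := 16897) (l := 5) rfl N16897 D51726
theorem N18957 : nd 18957 = n51727 := ndS (p := 16897) (l := 9) rfl N16897 D51727
theorem N18958 : nd 18958 = n51728 := ndS (p := 16898) (l := 8) rfl N16898 D51728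
theorem N18959 : nd 18959 = n51729 := ndS (p := 16899) (l := 4) rfl N16899 D51729
theorem N18960 : nd 18960 = n51730 := ndS (p := 16899) (l := 9) rfl N16899 D51730
theorem N18961 : nd 18961 = n51731 := ndS (p := 16900) (l := 3) rfl N16900 D51731
theorem N18962 : nd 18962 = n51732 := ndS (p := 16900) (l := 5) rfl N16900 D51732
theorem N18963 : nd 18963 = n51733 := ndS (p := 16900) (l := 9) rfl N16900 D51733
theorem N18964 : nd 18964 = n51734 := ndS (p := 16901) (l := 8) rfl N16901 D51734
theorem N18965 : nd 18965 = n51735 := ndS (p := 16902) (l := 6) rfl N16902 D51735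
theorem N18966 : nd 18966 = n51736 := ndS (p := 16902) (l := 9) rfl N16902 D51736
theorem N18967 : nd 18967 = n51737 := ndS (p := 16903) (l := 8) rfl N16903 D51737
theorem N18968 : nd 18968 = n51738 := ndS (p := 16905) (l := 8) rfl N16905 D51738
theorem N18969 : nd 18969 = n51739 := ndS (p := 16906) (l := 9) rfl N16906 D51739
theorem N18970 : nd 18970 = n51740 := ndS (p := 16907) (l := 8) rfl N16907 D51740
theorem N18971 : nd 18971 = n51741 := ndS (p := 16909) (l := 8) rfl N16909 D51741
theorem N18972 : nd 18972 = n51742 := ndS (p := 16910) (l := 9) rfl N16910 D51742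
theorem N18973 : nd 18973 = n51743 := ndS (p := 16911) (l := 8) rfl N16911 D51743
theorem N18974 : nd 18974 = n51744 := ndS (p := 16913) (l := 7) rfl N16913 D51744
theorem N18975 : nd 18975 = n51745 := ndS (p := 16913) (l := 9) rfl N16913 D51745
theorem N18976 : nd 18976 = n51746 := ndS (p := 16914) (l := 8) rfl N16914 D51746
theorem N18977 : nd 18977 = n51747 := ndS (p := 16915) (l := 3) rfl N16915 D51747
theorem N18978 : nd 18978 = n51748 := ndS (p := 16918) (l := 9) rfl N16918 D51748
theorem N18979 : nd 18979 = n51749 := ndS (p := 16919) (l := 8) rfl N16919 D51749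
theorem N18980 : nd 18980 = n51750 := ndS (p := 16920) (l := 3) rfl N16920 D51750
theorem N18981 : nd 18981 = n51751 := ndS (p := 16921) (l := 2) rfl N16921 D51751
theorem N18982 : nd 18982 = n51752 := ndS (p := 16922) (l := 9) rfl N16922 D51752
theorem N18983 : nd 18983 = n51753 := ndS (p := 16923) (l := 8) rfl N16923 D51753
theorem N18984 : nd 18984 = n51754 := ndS (p := 16924) (l := 3) rfl N16924 D51754
theorem N18985 : nd 18985 = n51755 := ndS (p := 16925) (l := 9) rfl N16925 D51755
theorem N18986 : nd 18986 = n51756 := ndS (p := 16926) (l := 8) rfl N16926 D51756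
theorem N18987 : nd 18987 = n51757 := ndS (p := 16927) (l := 3) rfl N16927 D51757
theorem N18988 : nd 18988 = n51758 := ndS (p := 16928) (l := 2) rfl N16928 D51758
theorem N18989 : nd 18989 = n51759 := ndS (p := 16929) (l := 8) rfl N16929 D51759
theorem N18990 : nd 18990 = n51760 := ndS (p := 16930) (l := 3) rfl N16930 D51760
theorem N18991 : nd 18991 = n51761 := ndS (p := 16934) (l := 9) rfl N16934 D51761
theorem N18992 : nd 18992 = n51762 := ndS (p := 16939) (l := 9) rfl N16939 D51762
theorem N18993 : nd 18993 = n51763 := ndS (p := 16941) (l := 3) rfl N16941 D51763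
theorem N18994 : nd 18994 = n51764 := ndS (p := 16941) (l := 9) rfl N16941 D51764
theorem N18995 : nd 18995 = n51765 := ndS (p := 16942) (l := 4) rfl N16942 D51765
theorem N18996 : nd 18996 = n51766 := ndS (p := 16942) (l := 9) rfl N16942 D51766
theorem N18997 : nd 18997 = n51767 := ndS (p := 16944) (l := 9) rfl N16944 D51767
theorem N18998 : nd 18998 = n51768 := ndS (p := 16946) (l := 8) rfl N16946 D51768
theorem N18999 : nd 18999 = n51769 := ndS (p := 16948) (l := 3) rfl N16948 D51769
theorem N19000 : nd 19000 = n51770 := ndS (p := 16948) (l := 9) rfl N16948 D51770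
theorem N19001 : nd 19001 = n51771 := ndS (p := 16949) (l := 2) rfl N16949 D51771
theorem N19002 : nd 19002 = n51772 := ndS (p := 16949) (l := 4) rfl N16949 D51772
theorem N19003 : nd 19003 = n51773 := ndS (p := 16949) (l := 9) rfl N16949 D51773
theorem N19004 : nd 19004 = n51774 := ndS (p := 16951) (l := 4) rfl N16951 D51774
theorem N19005 : nd 19005 = n51775 := ndS (p := 16951) (l := 9) rfl N16951 D51775
theorem N19006 : nd 19006 = n51776 := ndS (p := 16952) (l := 9) rfl N16952 D51776
theorem N19007 : nd 19007 = n51777 := ndS (p := 16953) (l := 8) rfl N16953 D51777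
theorem N19008 : nd 19008 = n51778 := ndS (p := 16954) (l := 9) rfl N16954 D51778
theorem N19009 : nd 19009 = n51779 := ndS (p := 16955) (l := 8) rfl N16955 D51779
theorem N19010 : nd 19010 = n51780 := ndS (p := 16956) (l := 8) rfl N16956 D51780
theorem N19011 : nd 19011 = n51781 := ndS (p := 16958) (l := 3) rfl N16958 D51781
theorem N19012 : nd 19012 = n51782 := ndS (p := 16959) (l := 3) rfl N16959 D51782
theorem N19013 : nd 19013 = n51783 := ndS (p := 16959) (l := 9) rfl N16959 D51783
theorem N19014 : nd 19014 = n51784 := ndS (p := 16960) (l := 2) rfl N16960 D51784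
theorem N19015 : nd 19015 = n51785 := ndS (p := 16960) (l := 4) rfl N16960 D51785
theorem N19016 : nd 19016 = n51786 := ndS (p := 16960) (l := 9) rfl N16960 D51786
theorem N19017 : nd 19017 = n51787 := ndS (p := 16962) (l := 3) rfl N16962 D51787
theorem N19018 : nd 19018 = n51788 := ndS (p := 16962) (l := 9) rfl N16962 D51788
theorem N19019 : nd 19019 = n51789 := ndS (p := 16963) (l := 4) rfl N16963 D51789
theorem N19020 : nd 19020 = n51790 := ndS (p := 16963) (l := 9) rfl N16963 D51790
theorem N19021 : nd 19021 = n51791 := ndS (p := 16965) (l := 5) rfl N16965 D51791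
theorem N19022 : nd 19022 = n51792 := ndS (p := 16965) (l := 9) rfl N16965 D51792
theorem N19023 : nd 19023 = n51793 := ndS (p := 16966) (l := 8) rfl N16966 D51793
theorem N19024 : nd 19024 = n51794 := ndS (p := 16967) (l := 5) rfl N16967 D51794
theorem N19025 : nd 19025 = n51795 := ndS (p := 16967) (l := 9) rfl N16967 D51795
theorem N19026 : nd 19026 = n51796 := ndS (p := 16968) (l := 8) rfl N16968 D51796
theorem N19027 : nd 19027 = n51797 := ndS (p := 16969) (l := 9) rfl N16969 D51797
theorem N19028 : nd 19028 = n51798 := ndS (p := 16970) (l := 8) rfl N16970 D51798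
theorem N19029 : nd 19029 = n51799 := ndS (p := 16972) (l := 3) rfl N16972 D51799
theorem N19030 : nd 19030 = n51800 := ndS (p := 16973) (l := 2) rfl N16973 D51800
theorem N19031 : nd 19031 = n51801 := ndS (p := 16973) (l := 4) rfl N16973 D51801
theorem N19032 : nd 19032 = n51802 := ndS (p := 16973) (l := 9) rfl N16973 D51802
theorem N19033 : nd 19033 = n51803 := ndS (p := 16975) (l := 4) rfl N16975 D51803
theorem N19034 : nd 19034 = n51804 := ndS (p := 16975) (l := 9) rfl N16975 D51804
theorem N19035 : nd 19035 = n51805 := ndS (p := 16976) (l := 5) rfl N16976 D51805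
theorem N19036 : nd 19036 = n51806 := ndS (p := 16976) (l := 9) rfl N16976 D51806
theorem N19037 : nd 19037 = n51807 := ndS (p := 16977) (l := 8) rfl N16977 D51807
theorem N19038 : nd 19038 = n51808 := ndS (p := 16978) (l := 4) rfl N16978 D51808
theorem N19039 : nd 19039 = n51809 := ndS (p := 16978) (l := 9) rfl N16978 D51809
theorem N19040 : nd 19040 = n51810 := ndS (p := 16979) (l := 3) rfl N16979 D51810
theorem N19041 : nd 19041 = n51811 := ndS (p := 16979) (l := 5) rfl N16979 D51811
theorem N19042 : nd 19042 = n51812 := ndS (p := 16979) (l := 9) rfl N16979 D51812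
theorem N19043 : nd 19043 = n51813 := ndS (p := 16980) (l := 8) rfl N16980 D51813
theorem N19044 : nd 19044 = n51814 := ndS (p := 16981) (l := 9) rfl N16981 D51814
theorem N19045 : nd 19045 = n51815 := ndS (p := 16982) (l := 8) rfl N16982 D51815
theorem N19046 : nd 19046 = n51816 := ndS (p := 16984) (l := 5) rfl N16984 D51816
theorem N19047 : nd 19047 = n51817 := ndS (p := 16984) (l := 9) rfl N16984 D51817
theorem N19048 : nd 19048 = n51818 := ndS (p := 16985) (l := 8) rfl N16985 D51818
theorem N19049 : nd 19049 = n51819 := ndS (p := 16986) (l := 6) rfl N16986 D51819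
theorem N19050 : nd 19050 = n51820 := ndS (p := 16986) (l := 9) rfl N16986 D51820
theorem N19051 : nd 19051 = n51821 := ndS (p := 16987) (l := 8) rfl N16987 D51821
theorem N19052 : nd 19052 = n51822 := ndS (p := 16989) (l := 8) rfl N16989 D51822
theorem N19053 : nd 19053 = n51823 := ndS (p := 16990) (l := 9) rfl N16990 D51823
theorem N19054 : nd 19054 = n51824 := ndS (p := 16991) (l := 8) rfl N16991 D51824
theorem N19055 : nd 19055 = n51825 := ndS (p := 16993) (l := 8) rfl N16993 D51825
theorem N19056 : nd 19056 = n51826 := ndS (p := 16994) (l := 3) rfl N16994 D51826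
theorem N19057 : nd 19057 = n51827 := ndS (p := 16996) (l := 3) rfl N16996 D51827
theorem N19058 : nd 19058 = n51828 := ndS (p := 16997) (l := 2) rfl N16997 D51828
theorem N19059 : nd 19059 = n51829 := ndS (p := 16998) (l := 9) rfl N16998 D51829
theorem N19060 : nd 19060 = n51830 := ndS (p := 16999) (l := 8) rfl N16999 D51830
theorem N19061 : nd 19061 = n51831 := ndS (p := 17000) (l := 3) rfl N17000 D51831
theorem N19062 : nd 19062 = n51832 := ndS (p := 17001) (l := 3) rfl N17001 D51832
theorem N19063 : nd 19063 = n51833 := ndS (p := 17002) (l := 2) rfl N17002 D51833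
theorem N19064 : nd 19064 = n51834 := ndS (p := 17004) (l := 4) rfl N17004 D51834
theorem N19065 : nd 19065 = n51835 := ndS (p := 17004) (l := 9) rfl N17004 D51835
theorem N19066 : nd 19066 = n51836 := ndS (p := 17005) (l := 9) rfl N17005 D51836
theorem N19067 : nd 19067 = n51837 := ndS (p := 17007) (l := 3) rfl N17007 D51837
theorem N19068 : nd 19068 = n51838 := ndS (p := 17007) (l := 9) rfl N17007 D51838
theorem N19069 : nd 19069 = n51839 := ndS (p := 17010) (l := 4) rfl N17010 D51839
theorem N19070 : nd 19070 = n51840 := ndS (p := 17010) (l := 9) rfl N17010 D51840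
theorem N19071 : nd 19071 = n51841 := ndS (p := 17011) (l := 3) rfl N17011 D51841
theorem N19072 : nd 19072 = n51842 := ndS (p := 17011) (l := 9) rfl N17011 D51842
theorem N19073 : nd 19073 = n51843 := ndS (p := 17013) (l := 8) rfl N17013 D51843
theorem N19074 : nd 19074 = n51844 := ndS (p := 17013) (l := 9) rfl N17013 D51844
theorem N19075 : nd 19075 = n51845 := ndS (p := 17016) (l := 3) rfl N17016 D51845
theorem N19076 : nd 19076 = n51846 := ndS (p := 17016) (l := 9) rfl N17016 D51846
theorem N19077 : nd 19077 = n51847 := ndS (p := 17017) (l := 2) rfl N17017 D51847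
theorem N19078 : nd 19078 = n51848 := ndS (p := 17017) (l := 4) rfl N17017 D51848
theorem N19079 : nd 19079 = n51849 := ndS (p := 17017) (l := 9) rfl N17017 D51849
theorem N19080 : nd 19080 = n51850 := ndS (p := 17019) (l := 1) rfl N17019 D51850
theorem N19081 : nd 19081 = n51851 := ndS (p := 17019) (l := 4) rfl N17019 D51851
theorem N19082 : nd 19082 = n51852 := ndS (p := 17019) (l := 9) rfl N17019 D51852
theorem N19083 : nd 19083 = n51853 := ndS (p := 17020) (l := 5) rfl N17020 D51853
theorem N19084 : nd 19084 = n51854 := ndS (p := 17020) (l := 9) rfl N17020 D51854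
theorem N19085 : nd 19085 = n51855 := ndS (p := 17021) (l := 8) rfl N17021 D51855
theorem N19086 : nd 19086 = n51856 := ndS (p := 17022) (l := 2) rfl N17022 D51856
theorem N19087 : nd 19087 = n51857 := ndS (p := 17022) (l := 4) rfl N17022 D51857
theorem N19088 : nd 19088 = n51858 := ndS (p := 17022) (l := 9) rfl N17022 D51858
theorem N19089 : nd 19089 = n51859 := ndS (p := 17024) (l := 1) rfl N17024 D51859
theorem N19090 : nd 19090 = n51860 := ndS (p := 17024) (l := 4) rfl N17024 D51860
theorem N19091 : nd 19091 = n51861 := ndS (p := 17024) (l := 9) rfl N17024 D51861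
theorem N19092 : nd 19092 = n51862 := ndS (p := 17025) (l := 5) rfl N17025 D51862
theorem N19093 : nd 19093 = n51863 := ndS (p := 17025) (l := 9) rfl N17025 D51863
theorem N19094 : nd 19094 = n51864 := ndS (p := 17026) (l := 8) rfl N17026 D51864
theorem N19095 : nd 19095 = n51865 := ndS (p := 17027) (l := 4) rfl N17027 D51865
theorem N19096 : nd 19096 = n51866 := ndS (p := 17027) (l := 9) rfl N17027 D51866
theorem N19097 : nd 19097 = n51867 := ndS (p := 17028) (l := 3) rfl N17028 D51867
theorem N19098 : nd 19098 = n51868 := ndS (p := 17028) (l := 5) rfl N17028 D51868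
theorem N19099 : nd 19099 = n51869 := ndS (p := 17028) (l := 9) rfl N17028 D51869
theorem N19100 : nd 19100 = n51870 := ndS (p := 17029) (l := 8) rfl N17029 D51870
theorem N19101 : nd 19101 = n51871 := ndS (p := 17030) (l := 6) rfl N17030 D51871
theorem N19102 : nd 19102 = n51872 := ndS (p := 17030) (l := 9) rfl N17030 D51872
theorem N19103 : nd 19103 = n51873 := ndS (p := 17031) (l := 8) rfl N17031 D51873
theorem N19104 : nd 19104 = n51874 := ndS (p := 17033) (l := 9) rfl N17033 D51874
theorem N19105 : nd 19105 = n51875 := ndS (p := 17034) (l := 5) rfl N17034 D51875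
theorem N19106 : nd 19106 = n51876 := ndS (p := 17034) (l := 9) rfl N17034 D51876
theorem N19107 : nd 19107 = n51877 := ndS (p := 17035) (l := 8) rfl N17035 D51877
theorem N19108 : nd 19108 = n51878 := ndS (p := 17036) (l := 6) rfl N17036 D51878
theorem N19109 : nd 19109 = n51879 := ndS (p := 17036) (l := 9) rfl N17036 D51879
theorem N19110 : nd 19110 = n51880 := ndS (p := 17037) (l := 8) rfl N17037 D51880
theorem N19111 : nd 19111 = n51881 := ndS (p := 17039) (l := 8) rfl N17039 D51881
theorem N19112 : nd 19112 = n51882 := ndS (p := 17040) (l := 6) rfl N17040 D51882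
theorem N19113 : nd 19113 = n51883 := ndS (p := 17040) (l := 9) rfl N17040 D51883
theorem N19114 : nd 19114 = n51884 := ndS (p := 17041) (l := 8) rfl N17041 D51884
theorem N19115 : nd 19115 = n51885 := ndS (p := 17043) (l := 7) rfl N17043 D51885
theorem N19116 : nd 19116 = n51886 := ndS (p := 17043) (l := 9) rfl N17043 D51886
theorem N19117 : nd 19117 = n51887 := ndS (p := 17044) (l := 8) rfl N17044 D51887
theorem N19118 : nd 19118 = n51888 := ndS (p := 17045) (l := 3) rfl N17045 D51888
theorem N19119 : nd 19119 = n51889 := ndS (p := 17047) (l := 7) rfl N17047 D51889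
theorem N19120 : nd 19120 = n51890 := ndS (p := 17047) (l := 9) rfl N17047 D51890
theorem N19121 : nd 19121 = n51891 := ndS (p := 17048) (l := 8) rfl N17048 D51891
theorem N19122 : nd 19122 = n51892 := ndS (p := 17049) (l := 3) rfl N17049 D51892
theorem N19123 : nd 19123 = n51893 := ndS (p := 17050) (l := 9) rfl N17050 D51893
theorem N19124 : nd 19124 = n51894 := ndS (p := 17051) (l := 8) rfl N17051 D51894
theorem N19125 : nd 19125 = n51895 := ndS (p := 17052) (l := 3) rfl N17052 D51895
theorem N19126 : nd 19126 = n51896 := ndS (p := 17053) (l := 2) rfl N17053 D51896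
theorem N19127 : nd 19127 = n51897 := ndS (p := 17054) (l := 1) rfl N17054 D51897
theorem N19128 : nd 19128 = n51898 := ndS (p := 17054) (l := 4) rfl N17054 D51898
theorem N19129 : nd 19129 = n51899 := ndS (p := 17054) (l := 9) rfl N17054 D51899
theorem N19130 : nd 19130 = n51900 := ndS (p := 17055) (l := 5) rfl N17055 D51900
theorem N19131 : nd 19131 = n51901 := ndS (p := 17055) (l := 9) rfl N17055 D51901
theorem N19132 : nd 19132 = n51902 := ndS (p := 17056) (l := 8) rfl N17056 D51902
theorem N19133 : nd 19133 = n51903 := ndS (p := 17057) (l := 0) rfl N17057 D51903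
theorem N19134 : nd 19134 = n51904 := ndS (p := 17057) (l := 4) rfl N17057 D51904
theorem N19135 : nd 19135 = n51905 := ndS (p := 17057) (l := 9) rfl N17057 D51905
theorem N19136 : nd 19136 = n51906 := ndS (p := 17058) (l := 3) rfl N17058 D51906
theorem N19137 : nd 19137 = n51907 := ndS (p := 17058) (l := 5) rfl N17058 D51907
theorem N19138 : nd 19138 = n51908 := ndS (p := 17058) (l := 9) rfl N17058 D51908
theorem N19139 : nd 19139 = n51909 := ndS (p := 17059) (l := 8) rfl N17059 D51909
theorem N19140 : nd 19140 = n51910 := ndS (p := 17060) (l := 6) rfl N17060 D51910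
theorem N19141 : nd 19141 = n51911 := ndS (p := 17060) (l := 9) rfl N17060 D51911
theorem N19142 : nd 19142 = n51912 := ndS (p := 17061) (l := 8) rfl N17061 D51912
theorem N19143 : nd 19143 = n51913 := ndS (p := 17063) (l := 4) rfl N17063 D51913
theorem N19144 : nd 19144 = n51914 := ndS (p := 17063) (l := 9) rfl N17063 D51914
theorem N19145 : nd 19145 = n51915 := ndS (p := 17064) (l := 3) rfl N17064 D51915
theorem N19146 : nd 19146 = n51916 := ndS (p := 17064) (l := 5) rfl N17064 D51916
theorem N19147 : nd 19147 = n51917 := ndS (p := 17064) (l := 9) rfl N17064 D51917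
theorem N19148 : nd 19148 = n51918 := ndS (p := 17065) (l := 8) rfl N17065 D51918
theorem N19149 : nd 19149 = n51919 := ndS (p := 17066) (l := 5) rfl N17066 D51919
theorem N19150 : nd 19150 = n51920 := ndS (p := 17066) (l := 8) rfl N17066 D51920
theorem N19151 : nd 19151 = n51921 := ndS (p := 17066) (l := 9) rfl N17066 D51921
theorem N19152 : nd 19152 = n51922 := ndS (p := 17067) (l := 6) rfl N17067 D51922
theorem N19153 : nd 19153 = n51923 := ndS (p := 17067) (l := 9) rfl N17067 D51923
theorem N19154 : nd 19154 = n51924 := ndS (p := 17068) (l := 8) rfl N17068 D51924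
theorem N19155 : nd 19155 = n51925 := ndS (p := 17069) (l := 3) rfl N17069 D51925
theorem N19156 : nd 19156 = n51926 := ndS (p := 17070) (l := 7) rfl N17070 D51926
theorem N19157 : nd 19157 = n51927 := ndS (p := 17070) (l := 9) rfl N17070 D51927
theorem N19158 : nd 19158 = n51928 := ndS (p := 17071) (l := 8) rfl N17071 D51928
theorem N19159 : nd 19159 = n51929 := ndS (p := 17072) (l := 3) rfl N17072 D51929
theorem N19160 : nd 19160 = n51930 := ndS (p := 17073) (l := 9) rfl N17073 D51930
theorem N19161 : nd 19161 = n51931 := ndS (p := 17074) (l := 5) rfl N17074 D51931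
theorem N19162 : nd 19162 = n51932 := ndS (p := 17074) (l := 9) rfl N17074 D51932
theorem N19163 : nd 19163 = n51933 := ndS (p := 17075) (l := 8) rfl N17075 D51933
theorem N19164 : nd 19164 = n51934 := ndS (p := 17076) (l := 6) rfl N17076 D51934
theorem N19165 : nd 19165 = n51935 := ndS (p := 17076) (l := 9) rfl N17076 D51935
theorem N19166 : nd 19166 = n51936 := ndS (p := 17077) (l := 8) rfl N17077 D51936
theorem N19167 : nd 19167 = n51937 := ndS (p := 17078) (l := 3) rfl N17078 D51937
theorem N19168 : nd 19168 = n51938 := ndS (p := 17079) (l := 7) rfl N17079 D51938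
theorem N19169 : nd 19169 = n51939 := ndS (p := 17079) (l := 9) rfl N17079 D51939
theorem N19170 : nd 19170 = n51940 := ndS (p := 17080) (l := 8) rfl N17080 D51940
theorem N19171 : nd 19171 = n51941 := ndS (p := 17081) (l := 3) rfl N17081 D51941
theorem N19172 : nd 19172 = n51942 := ndS (p := 17082) (l := 8) rfl N17082 D51942
theorem N19173 : nd 19173 = n51943 := ndS (p := 17083) (l := 6) rfl N17083 D51943
theorem N19174 : nd 19174 = n51944 := ndS (p := 17083) (l := 9) rfl N17083 D51944
theorem N19175 : nd 19175 = n51945 := ndS (p := 17084) (l := 8) rfl N17084 D51945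
theorem N19176 : nd 19176 = n51946 := ndS (p := 17085) (l := 3) rfl N17085 D51946
theorem N19177 : nd 19177 = n51947 := ndS (p := 17086) (l := 7) rfl N17086 D51947
theorem N19178 : nd 19178 = n51948 := ndS (p := 17086) (l := 9) rfl N17086 D51948
theorem N19179 : nd 19179 = n51949 := ndS (p := 17087) (l := 8) rfl N17087 D51949
theorem N19180 : nd 19180 = n51950 := ndS (p := 17088) (l := 3) rfl N17088 D51950
theorem N19181 : nd 19181 = n51951 := ndS (p := 17089) (l := 4) rfl N17089 D51951
theorem N19182 : nd 19182 = n51952 := ndS (p := 17090) (l := 9) rfl N17090 D51952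
theorem N19183 : nd 19183 = n51953 := ndS (p := 17091) (l := 8) rfl N17091 D51953
theorem N19184 : nd 19184 = n51954 := ndS (p := 17092) (l := 3) rfl N17092 D51954
theorem N19185 : nd 19185 = n51955 := ndS (p := 17093) (l := 2) rfl N17093 D51955
theorem N19186 : nd 19186 = n51956 := ndS (p := 17095) (l := 7) rfl N17095 D51956
theorem N19187 : nd 19187 = n51957 := ndS (p := 17095) (l := 9) rfl N17095 D51957
theorem N19188 : nd 19188 = n51958 := ndS (p := 17096) (l := 8) rfl N17096 D51958
theorem N19189 : nd 19189 = n51959 := ndS (p := 17097) (l := 3) rfl N17097 D51959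
theorem N19190 : nd 19190 = n51960 := ndS (p := 17099) (l := 9) rfl N17099 D51960
theorem N19191 : nd 19191 = n51961 := ndS (p := 17100) (l := 8) rfl N17100 D51961
theorem N19192 : nd 19192 = n51962 := ndS (p := 17101) (l := 3) rfl N17101 D51962
theorem N19193 : nd 19193 = n51963 := ndS (p := 17102) (l := 2) rfl N17102 D51963
theorem N19194 : nd 19194 = n51964 := ndS (p := 17102) (l := 4) rfl N17102 D51964
theorem N19195 : nd 19195 = n51965 := ndS (p := 17104) (l := 8) rfl N17104 D51965
theorem N19196 : nd 19196 = n51966 := ndS (p := 17105) (l := 3) rfl N17105 D51966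
theorem N19197 : nd 19197 = n51967 := ndS (p := 17106) (l := 2) rfl N17106 D51967
theorem N19198 : nd 19198 = n51968 := ndS (p := 17107) (l := 1) rfl N17107 D51968
theorem N19199 : nd 19199 = n51969 := ndS (p := 17108) (l := 9) rfl N17108 D51969
theorem N19200 : nd 19200 = n51970 := ndS (p := 17109) (l := 8) rfl N17109 D51970
theorem N19201 : nd 19201 = n51971 := ndS (p := 17110) (l := 3) rfl N17110 D51971
theorem N19202 : nd 19202 = n51972 := ndS (p := 17111) (l := 2) rfl N17111 D51972
theorem N19203 : nd 19203 = n51973 := ndS (p := 17112) (l := 8) rfl N17112 D51973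
theorem N19204 : nd 19204 = n51974 := ndS (p := 17113) (l := 3) rfl N17113 D51974
theorem N19205 : nd 19205 = n51975 := ndS (p := 17114) (l := 2) rfl N17114 D51975
theorem N19206 : nd 19206 = n51976 := ndS (p := 17114) (l := 4) rfl N17114 D51976
theorem N19207 : nd 19207 = n51977 := ndS (p := 17115) (l := 1) rfl N17115 D51977
theorem N19208 : nd 19208 = n51978 := ndS (p := 17116) (l := 3) rfl N17116 D51978
theorem N19209 : nd 19209 = n51979 := ndS (p := 17117) (l := 2) rfl N17117 D51979
theorem N19210 : nd 19210 = n51980 := ndS (p := 17119) (l := 0) rfl N17119 D51980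
theorem N19211 : nd 19211 = n51981 := ndS (p := 17120) (l := 9) rfl N17120 D51981
theorem N19212 : nd 19212 = n51982 := ndS (p := 17121) (l := 3) rfl N17121 D51982
theorem N19213 : nd 19213 = n51983 := ndS (p := 17121) (l := 9) rfl N17121 D51983
theorem N19214 : nd 19214 = n51984 := ndS (p := 17122) (l := 8) rfl N17122 D51984
theorem N19215 : nd 19215 = n51985 := ndS (p := 17125) (l := 9) rfl N17125 D51985
theorem N19216 : nd 19216 = n51986 := ndS (p := 17126) (l := 3) rfl N17126 D51986
theorem N19217 : nd 19217 = n51987 := ndS (p := 17128) (l := 8) rfl N17128 D51987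
theorem N19218 : nd 19218 = n51988 := ndS (p := 17128) (l := 9) rfl N17128 D51988
theorem N19219 : nd 19219 = n51989 := ndS (p := 17130) (l := 3) rfl N17130 D51989
theorem N19220 : nd 19220 = n51990 := ndS (p := 17132) (l := 9) rfl N17132 D51990
theorem N19221 : nd 19221 = n51991 := ndS (p := 17133) (l := 8) rfl N17133 D51991
theorem N19222 : nd 19222 = n51992 := ndS (p := 17134) (l := 9) rfl N17134 D51992
theorem N19223 : nd 19223 = n51993 := ndS (p := 17136) (l := 3) rfl N17136 D51993
theorem N19224 : nd 19224 = n51994 := ndS (p := 17137) (l := 9) rfl N17137 D51994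
theorem N19225 : nd 19225 = n51995 := ndS (p := 17138) (l := 8) rfl N17138 D51995
theorem N19226 : nd 19226 = n51996 := ndS (p := 17139) (l := 3) rfl N17139 D51996
theorem N19227 : nd 19227 = n51997 := ndS (p := 17140) (l := 4) rfl N17140 D51997
theorem N19228 : nd 19228 = n51998 := ndS (p := 17141) (l := 2) rfl N17141 D51998
theorem N19229 : nd 19229 = n51999 := ndS (p := 17142) (l := 8) rfl N17142 D51999
theorem N19230 : nd 19230 = n52000 := ndS (p := 17143) (l := 3) rfl N17143 D52000
theorem N19231 : nd 19231 = n52001 := ndS (p := 17144) (l := 4) rfl N17144 D52001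
theorem N19232 : nd 19232 = n52002 := ndS (p := 17147) (l := 5) rfl N17147 D52002
theorem N19233 : nd 19233 = n52003 := ndS (p := 17155) (l := 9) rfl N17155 D52003
theorem N19234 : nd 19234 = n52004 := ndS (p := 17157) (l := 8) rfl N17157 D52004
theorem N19235 : nd 19235 = n52005 := ndS (p := 17160) (l := 9) rfl N17160 D52005
theorem N19236 : nd 19236 = n52006 := ndS (p := 17161) (l := 8) rfl N17161 D52006
theorem N19237 : nd 19237 = n52007 := ndS (p := 17164) (l := 9) rfl N17164 D52007
theorem N19238 : nd 19238 = n52008 := ndS (p := 17166) (l := 1) rfl N17166 D52008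
theorem N19239 : nd 19239 = n52009 := ndS (p := 17166) (l := 9) rfl N17166 D52009
theorem N19240 : nd 19240 = n52010 := ndS (p := 17167) (l := 8) rfl N17167 D52010
theorem N19241 : nd 19241 = n52011 := ndS (p := 17168) (l := 0) rfl N17168 D52011
theorem N19242 : nd 19242 = n52012 := ndS (p := 17168) (l := 4) rfl N17168 D52012
theorem N19243 : nd 19243 = n52013 := ndS (p := 17168) (l := 9) rfl N17168 D52013
theorem N19244 : nd 19244 = n52014 := ndS (p := 17169) (l := 3) rfl N17169 D52014
theorem N19245 : nd 19245 = n52015 := ndS (p := 17169) (l := 9) rfl N17169 D52015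
theorem N19246 : nd 19246 = n52016 := ndS (p := 17170) (l := 8) rfl N17170 D52016
theorem N19247 : nd 19247 = n52017 := ndS (p := 17171) (l := 8) rfl N17171 D52017
theorem N19248 : nd 19248 = n52018 := ndS (p := 17173) (l := 9) rfl N17173 D52018
theorem N19249 : nd 19249 = n52019 := ndS (p := 17175) (l := 9) rfl N17175 D52019
theorem N19250 : nd 19250 = n52020 := ndS (p := 17176) (l := 3) rfl N17176 D52020
theorem N19251 : nd 19251 = n52021 := ndS (p := 17176) (l := 9) rfl N17176 D52021
theorem N19252 : nd 19252 = n52022 := ndS (p := 17178) (l := 8) rfl N17178 D52022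
theorem N19253 : nd 19253 = n52023 := ndS (p := 17178) (l := 9) rfl N17178 D52023
theorem N19254 : nd 19254 = n52024 := ndS (p := 17182) (l := 9) rfl N17182 D52024
theorem N19255 : nd 19255 = n52025 := ndS (p := 17183) (l := 9) rfl N17183 D52025
theorem N19256 : nd 19256 = n52026 := ndS (p := 17184) (l := 4) rfl N17184 D52026
theorem N19257 : nd 19257 = n52027 := ndS (p := 17186) (l := 4) rfl N17186 D52027
theorem N19258 : nd 19258 = n52028 := ndS (p := 17187) (l := 8) rfl N17187 D52028
theorem N19259 : nd 19259 = n52029 := ndS (p := 17188) (l := 3) rfl N17188 D52029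
theorem N19260 : nd 19260 = n52030 := ndS (p := 17189) (l := 2) rfl N17189 D52030
theorem N19261 : nd 19261 = n52031 := ndS (p := 17189) (l := 4) rfl N17189 D52031
theorem N19262 : nd 19262 = n52032 := ndS (p := 17190) (l := 5) rfl N17190 D52032
theorem N19263 : nd 19263 = n52033 := ndS (p := 17196) (l := 8) rfl N17196 D52033
theorem N19264 : nd 19264 = n52034 := ndS (p := 17198) (l := 8) rfl N17198 D52034
theorem N19265 : nd 19265 = n52035 := ndS (p := 17199) (l := 8) rfl N17199 D52035
theorem N19266 : nd 19266 = n52036 := ndS (p := 17202) (l := 8) rfl N17202 D52036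
theorem N19267 : nd 19267 = n52037 := ndS (p := 17203) (l := 8) rfl N17203 D52037
theorem N19268 : nd 19268 = n52038 := ndS (p := 17205) (l := 9) rfl N17205 D52038
theorem N19269 : nd 19269 = n52039 := ndS (p := 17206) (l := 8) rfl N17206 D52039
theorem N19270 : nd 19270 = n52040 := ndS (p := 17207) (l := 9) rfl N17207 D52040
theorem N19271 : nd 19271 = n52041 := ndS (p := 17208) (l := 8) rfl N17208 D52041
theorem N19272 : nd 19272 = n52042 := ndS (p := 17210) (l := 8) rfl N17210 D52042
theorem N19273 : nd 19273 = n52043 := ndS (p := 17212) (l := 4) rfl N17212 D52043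
theorem N19274 : nd 19274 = n52044 := ndS (p := 17212) (l := 9) rfl N17212 D52044
theorem N19275 : nd 19275 = n52045 := ndS (p := 17214) (l := 8) rfl N17214 D52045
theorem N19276 : nd 19276 = n52046 := ndS (p := 17215) (l := 8) rfl N17215 D52046
theorem N19277 : nd 19277 = n52047 := ndS (p := 17217) (l := 9) rfl N17217 D52047
theorem N19278 : nd 19278 = n52048 := ndS (p := 17218) (l := 8) rfl N17218 D52048
theorem N19279 : nd 19279 = n52049 := ndS (p := 17220) (l := 3) rfl N17220 D52049
theorem N19280 : nd 19280 = n52050 := ndS (p := 17222) (l := 4) rfl N17222 D52050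
theorem N19281 : nd 19281 = n52051 := ndS (p := 17222) (l := 9) rfl N17222 D52051
theorem N19282 : nd 19282 = n52052 := ndS (p := 17224) (l := 8) rfl N17224 D52052
theorem N19283 : nd 19283 = n52053 := ndS (p := 17226) (l := 5) rfl N17226 D52053
theorem N19284 : nd 19284 = n52054 := ndS (p := 17226) (l := 9) rfl N17226 D52054
theorem N19285 : nd 19285 = n52055 := ndS (p := 17227) (l := 8) rfl N17227 D52055
theorem N19286 : nd 19286 = n52056 := ndS (p := 17228) (l := 9) rfl N17228 D52056
theorem N19287 : nd 19287 = n52057 := ndS (p := 17229) (l := 8) rfl N17229 D52057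
theorem N19288 : nd 19288 = n52058 := ndS (p := 17235) (l := 9) rfl N17235 D52058
theorem N19289 : nd 19289 = n52059 := ndS (p := 17236) (l := 8) rfl N17236 D52059
theorem N19290 : nd 19290 = n52060 := ndS (p := 17238) (l := 9) rfl N17238 D52060
theorem N19291 : nd 19291 = n52061 := ndS (p := 17239) (l := 8) rfl N17239 D52061
theorem N19292 : nd 19292 = n52062 := ndS (p := 17241) (l := 4) rfl N17241 D52062
theorem N19293 : nd 19293 = n52063 := ndS (p := 17241) (l := 9) rfl N17241 D52063
theorem N19294 : nd 19294 = n52064 := ndS (p := 17243) (l := 4) rfl N17243 D52064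
theorem N19295 : nd 19295 = n52065 := ndS (p := 17243) (l := 9) rfl N17243 D52065
theorem N19296 : nd 19296 = n52066 := ndS (p := 17244) (l := 9) rfl N17244 D52066
theorem N19297 : nd 19297 = n52067 := ndS (p := 17245) (l := 8) rfl N17245 D52067
theorem N19298 : nd 19298 = n52068 := ndS (p := 17246) (l := 4) rfl N17246 D52068
theorem N19299 : nd 19299 = n52069 := ndS (p := 17246) (l := 9) rfl N17246 D52069
theorem N19300 : nd 19300 = n52070 := ndS (p := 17247) (l := 3) rfl N17247 D52070
theorem N19301 : nd 19301 = n52071 := ndS (p := 17247) (l := 5) rfl N17247 D52071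
theorem N19302 : nd 19302 = n52072 := ndS (p := 17247) (l := 9) rfl N17247 D52072
theorem N19303 : nd 19303 = n52073 := ndS (p := 17248) (l := 8) rfl N17248 D52073
theorem N19304 : nd 19304 = n52074 := ndS (p := 17249) (l := 6) rfl N17249 D52074
theorem N19305 : nd 19305 = n52075 := ndS (p := 17249) (l := 9) rfl N17249 D52075
theorem N19306 : nd 19306 = n52076 := ndS (p := 17250) (l := 8) rfl N17250 D52076
theorem N19307 : nd 19307 = n52077 := ndS (p := 17252) (l := 9) rfl N17252 D52077
theorem N19308 : nd 19308 = n52078 := ndS (p := 17253) (l := 8) rfl N17253 D52078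
theorem N19309 : nd 19309 = n52079 := ndS (p := 17255) (l := 5) rfl N17255 D52079
theorem N19310 : nd 19310 = n52080 := ndS (p := 17255) (l := 9) rfl N17255 D52080
theorem N19311 : nd 19311 = n52081 := ndS (p := 17256) (l := 8) rfl N17256 D52081
theorem N19312 : nd 19312 = n52082 := ndS (p := 17257) (l := 6) rfl N17257 D52082
theorem N19313 : nd 19313 = n52083 := ndS (p := 17257) (l := 9) rfl N17257 D52083
theorem N19314 : nd 19314 = n52084 := ndS (p := 17258) (l := 8) rfl N17258 D52084
theorem N19315 : nd 19315 = n52085 := ndS (p := 17259) (l := 3) rfl N17259 D52085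
theorem N19316 : nd 19316 = n52086 := ndS (p := 17260) (l := 9) rfl N17260 D52086
theorem N19317 : nd 19317 = n52087 := ndS (p := 17261) (l := 8) rfl N17261 D52087
theorem N19318 : nd 19318 = n52088 := ndS (p := 17263) (l := 8) rfl N17263 D52088
theorem N19319 : nd 19319 = n52089 := ndS (p := 17265) (l := 9) rfl N17265 D52089
theorem N19320 : nd 19320 = n52090 := ndS (p := 17266) (l := 8) rfl N17266 D52090
theorem N19321 : nd 19321 = n52091 := ndS (p := 17267) (l := 3) rfl N17267 D52091
theorem N19322 : nd 19322 = n52092 := ndS (p := 17269) (l := 9) rfl N17269 D52092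
theorem N19323 : nd 19323 = n52093 := ndS (p := 17270) (l := 8) rfl N17270 D52093
theorem N19324 : nd 19324 = n52094 := ndS (p := 17276) (l := 9) rfl N17276 D52094
theorem N19325 : nd 19325 = n52095 := ndS (p := 17284) (l := 8) rfl N17284 D52095
theorem N19326 : nd 19326 = n52096 := ndS (p := 17285) (l := 3) rfl N17285 D52096
theorem N19327 : nd 19327 = n52097 := ndS (p := 17290) (l := 2) rfl N17290 D52097
theorem N19328 : nd 19328 = n52098 := ndS (p := 17290) (l := 4) rfl N17290 D52098
theorem N19329 : nd 19329 = n52099 := ndS (p := 17290) (l := 9) rfl N17290 D52099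
theorem N19330 : nd 19330 = n52100 := ndS (p := 17292) (l := 4) rfl N17292 D52100
theorem N19331 : nd 19331 = n52101 := ndS (p := 17292) (l := 9) rfl N17292 D52101
theorem N19332 : nd 19332 = n52102 := ndS (p := 17294) (l := 9) rfl N17294 D52102
theorem N19333 : nd 19333 = n52103 := ndS (p := 17295) (l := 8) rfl N17295 D52103
theorem N19334 : nd 19334 = n52104 := ndS (p := 17296) (l := 8) rfl N17296 D52104
theorem N19335 : nd 19335 = n52105 := ndS (p := 17298) (l := 9) rfl N17298 D52105
theorem N19336 : nd 19336 = n52106 := ndS (p := 17299) (l := 8) rfl N17299 D52106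
theorem N19337 : nd 19337 = n52107 := ndS (p := 17300) (l := 0) rfl N17300 D52107
theorem N19338 : nd 19338 = n52108 := ndS (p := 17300) (l := 4) rfl N17300 D52108
theorem N19339 : nd 19339 = n52109 := ndS (p := 17300) (l := 9) rfl N17300 D52109
theorem N19340 : nd 19340 = n52110 := ndS (p := 17301) (l := 9) rfl N17301 D52110
theorem N19341 : nd 19341 = n52111 := ndS (p := 17302) (l := 8) rfl N17302 D52111
theorem N19342 : nd 19342 = n52112 := ndS (p := 17303) (l := 8) rfl N17303 D52112
theorem N19343 : nd 19343 = n52113 := ndS (p := 17305) (l := 0) rfl N17305 D52113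
theorem N19344 : nd 19344 = n52114 := ndS (p := 17305) (l := 9) rfl N17305 D52114
theorem N19345 : nd 19345 = n52115 := ndS (p := 17306) (l := 8) rfl N17306 D52115
theorem N19346 : nd 19346 = n52116 := ndS (p := 17308) (l := 9) rfl N17308 D52116
theorem N19347 : nd 19347 = n52117 := ndS (p := 17309) (l := 8) rfl N17309 D52117
theorem N19348 : nd 19348 = n52118 := ndS (p := 17310) (l := 3) rfl N17310 D52118
theorem N19349 : nd 19349 = n52119 := ndS (p := 17311) (l := 8) rfl N17311 D52119
theorem N19350 : nd 19350 = n52120 := ndS (p := 17312) (l := 3) rfl N17312 D52120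
theorem N19351 : nd 19351 = n52121 := ndS (p := 17314) (l := 9) rfl N17314 D52121
theorem N19352 : nd 19352 = n52122 := ndS (p := 17315) (l := 8) rfl N17315 D52122
theorem N19353 : nd 19353 = n52123 := ndS (p := 17316) (l := 3) rfl N17316 D52123
theorem N19354 : nd 19354 = n52124 := ndS (p := 17317) (l := 9) rfl N17317 D52124
theorem N19355 : nd 19355 = n52125 := ndS (p := 17318) (l := 8) rfl N17318 D52125
theorem N19356 : nd 19356 = n52126 := ndS (p := 17319) (l := 3) rfl N17319 D52126
theorem N19357 : nd 19357 = n52127 := ndS (p := 17320) (l := 8) rfl N17320 D52127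
theorem N19358 : nd 19358 = n52128 := ndS (p := 17321) (l := 3) rfl N17321 D52128
theorem N19359 : nd 19359 = n52129 := ndS (p := 17322) (l := 4) rfl N17322 D52129
theorem N19360 : nd 19360 = n52130 := ndS (p := 17326) (l := 8) rfl N17326 D52130
theorem N19361 : nd 19361 = n52131 := ndS (p := 17327) (l := 3) rfl N17327 D52131
theorem N19362 : nd 19362 = n52132 := ndS (p := 17329) (l := 8) rfl N17329 D52132
theorem N19363 : nd 19363 = n52133 := ndS (p := 17334) (l := 4) rfl N17334 D52133
theorem N19364 : nd 19364 = n52134 := ndS (p := 17334) (l := 9) rfl N17334 D52134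
theorem N19365 : nd 19365 = n52135 := ndS (p := 17336) (l := 9) rfl N17336 D52135
theorem N19366 : nd 19366 = n52136 := ndS (p := 17337) (l := 8) rfl N17337 D52136
theorem N19367 : nd 19367 = n52137 := ndS (p := 17338) (l := 8) rfl N17338 D52137
theorem N19368 : nd 19368 = n52138 := ndS (p := 17340) (l := 4) rfl N17340 D52138
theorem N19369 : nd 19369 = n52139 := ndS (p := 17340) (l := 9) rfl N17340 D52139
theorem N19370 : nd 19370 = n52140 := ndS (p := 17341) (l := 9) rfl N17341 D52140
theorem N19371 : nd 19371 = n52141 := ndS (p := 17342) (l := 8) rfl N17342 D52141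
theorem N19372 : nd 19372 = n52142 := ndS (p := 17343) (l := 9) rfl N17343 D52142
theorem N19373 : nd 19373 = n52143 := ndS (p := 17344) (l := 8) rfl N17344 D52143
theorem N19374 : nd 19374 = n52144 := ndS (p := 17345) (l := 8) rfl N17345 D52144
theorem N19375 : nd 19375 = n52145 := ndS (p := 17347) (l := 3) rfl N17347 D52145
theorem N19376 : nd 19376 = n52146 := ndS (p := 17348) (l := 2) rfl N17348 D52146
theorem N19377 : nd 19377 = n52147 := ndS (p := 17348) (l := 4) rfl N17348 D52147
theorem N19378 : nd 19378 = n52148 := ndS (p := 17348) (l := 9) rfl N17348 D52148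
theorem N19379 : nd 19379 = n52149 := ndS (p := 17350) (l := 1) rfl N17350 D52149
theorem N19380 : nd 19380 = n52150 := ndS (p := 17350) (l := 4) rfl N17350 D52150
theorem N19381 : nd 19381 = n52151 := ndS (p := 17350) (l := 9) rfl N17350 D52151
theorem N19382 : nd 19382 = n52152 := ndS (p := 17351) (l := 5) rfl N17351 D52152
theorem N19383 : nd 19383 = n52153 := ndS (p := 17351) (l := 9) rfl N17351 D52153
theorem N19384 : nd 19384 = n52154 := ndS (p := 17352) (l := 8) rfl N17352 D52154
theorem N19385 : nd 19385 = n52155 := ndS (p := 17353) (l := 4) rfl N17353 D52155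
theorem N19386 : nd 19386 = n52156 := ndS (p := 17353) (l := 9) rfl N17353 D52156
theorem N19387 : nd 19387 = n52157 := ndS (p := 17354) (l := 3) rfl N17354 D52157
theorem N19388 : nd 19388 = n52158 := ndS (p := 17354) (l := 5) rfl N17354 D52158
theorem N19389 : nd 19389 = n52159 := ndS (p := 17354) (l := 9) rfl N17354 D52159
theorem N19390 : nd 19390 = n52160 := ndS (p := 17355) (l := 8) rfl N17355 D52160
theorem N19391 : nd 19391 = n52161 := ndS (p := 17356) (l := 9) rfl N17356 D52161
theorem N19392 : nd 19392 = n52162 := ndS (p := 17357) (l := 8) rfl N17357 D52162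
theorem N19393 : nd 19393 = n52163 := ndS (p := 17359) (l := 9) rfl N17359 D52163
theorem N19394 : nd 19394 = n52164 := ndS (p := 17360) (l := 5) rfl N17360 D52164
theorem N19395 : nd 19395 = n52165 := ndS (p := 17360) (l := 9) rfl N17360 D52165
theorem N19396 : nd 19396 = n52166 := ndS (p := 17361) (l := 8) rfl N17361 D52166
theorem N19397 : nd 19397 = n52167 := ndS (p := 17362) (l := 9) rfl N17362 D52167
theorem N19398 : nd 19398 = n52168 := ndS (p := 17363) (l := 8) rfl N17363 D52168
theorem N19399 : nd 19399 = n52169 := ndS (p := 17365) (l := 8) rfl N17365 D52169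
theorem N19400 : nd 19400 = n52170 := ndS (p := 17366) (l := 9) rfl N17366 D52170
theorem N19401 : nd 19401 = n52171 := ndS (p := 17367) (l := 8) rfl N17367 D52171
theorem N19402 : nd 19402 = n52172 := ndS (p := 17368) (l := 3) rfl N17368 D52172
theorem N19403 : nd 19403 = n52173 := ndS (p := 17369) (l := 8) rfl N17369 D52173
theorem N19404 : nd 19404 = n52174 := ndS (p := 17371) (l := 3) rfl N17371 D52174
theorem N19405 : nd 19405 = n52175 := ndS (p := 17372) (l := 3) rfl N17372 D52175
theorem N19406 : nd 19406 = n52176 := ndS (p := 17373) (l := 4) rfl N17373 D52176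
theorem N19407 : nd 19407 = n52177 := ndS (p := 17375) (l := 1) rfl N17375 D52177
theorem N19408 : nd 19408 = n52178 := ndS (p := 17375) (l := 9) rfl N17375 D52178
theorem N19409 : nd 19409 = n52179 := ndS (p := 17376) (l := 8) rfl N17376 D52179
theorem N19410 : nd 19410 = n52180 := ndS (p := 17377) (l := 9) rfl N17377 D52180
theorem N19411 : nd 19411 = n52181 := ndS (p := 17378) (l := 3) rfl N17378 D52181
theorem N19412 : nd 19412 = n52182 := ndS (p := 17378) (l := 9) rfl N17378 D52182
theorem N19413 : nd 19413 = n52183 := ndS (p := 17379) (l := 8) rfl N17379 D52183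
theorem N19414 : nd 19414 = n52184 := ndS (p := 17380) (l := 8) rfl N17380 D52184
theorem N19415 : nd 19415 = n52185 := ndS (p := 17382) (l := 9) rfl N17382 D52185
theorem N19416 : nd 19416 = n52186 := ndS (p := 17383) (l := 3) rfl N17383 D52186
theorem N19417 : nd 19417 = n52187 := ndS (p := 17383) (l := 9) rfl N17383 D52187
theorem N19418 : nd 19418 = n52188 := ndS (p := 17384) (l := 8) rfl N17384 D52188
theorem N19419 : nd 19419 = n52189 := ndS (p := 17385) (l := 9) rfl N17385 D52189
theorem N19420 : nd 19420 = n52190 := ndS (p := 17386) (l := 8) rfl N17386 D52190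
theorem N19421 : nd 19421 = n52191 := ndS (p := 17387) (l := 3) rfl N17387 D52191
theorem N19422 : nd 19422 = n52192 := ndS (p := 17389) (l := 9) rfl N17389 D52192
theorem N19423 : nd 19423 = n52193 := ndS (p := 17390) (l := 8) rfl N17390 D52193
theorem N19424 : nd 19424 = n52194 := ndS (p := 17391) (l := 3) rfl N17391 D52194
theorem N19425 : nd 19425 = n52195 := ndS (p := 17392) (l := 8) rfl N17392 D52195
theorem N19426 : nd 19426 = n52196 := ndS (p := 17393) (l := 3) rfl N17393 D52196
theorem N19427 : nd 19427 = n52197 := ndS (p := 17394) (l := 4) rfl N17394 D52197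
theorem N19428 : nd 19428 = n52198 := ndS (p := 17396) (l := 4) rfl N17396 D52198
theorem N19429 : nd 19429 = n52199 := ndS (p := 17398) (l := 1) rfl N17398 D52199
theorem N19430 : nd 19430 = n52200 := ndS (p := 17398) (l := 4) rfl N17398 D52200
theorem N19431 : nd 19431 = n52201 := ndS (p := 17398) (l := 9) rfl N17398 D52201
theorem N19432 : nd 19432 = n52202 := ndS (p := 17399) (l := 9) rfl N17399 D52202
theorem N19433 : nd 19433 = n52203 := ndS (p := 17400) (l := 8) rfl N17400 D52203
theorem N19434 : nd 19434 = n52204 := ndS (p := 17401) (l := 2) rfl N17401 D52204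
theorem N19435 : nd 19435 = n52205 := ndS (p := 17401) (l := 4) rfl N17401 D52205
theorem N19436 : nd 19436 = n52206 := ndS (p := 17401) (l := 9) rfl N17401 D52206
theorem N19437 : nd 19437 = n52207 := ndS (p := 17403) (l := 1) rfl N17403 D52207
theorem N19438 : nd 19438 = n52208 := ndS (p := 17403) (l := 4) rfl N17403 D52208
theorem N19439 : nd 19439 = n52209 := ndS (p := 17403) (l := 9) rfl N17403 D52209
theorem N19440 : nd 19440 = n52210 := ndS (p := 17404) (l := 9) rfl N17404 D52210
theorem N19441 : nd 19441 = n52211 := ndS (p := 17405) (l := 8) rfl N17405 D52211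
theorem N19442 : nd 19442 = n52212 := ndS (p := 17406) (l := 4) rfl N17406 D52212
theorem N19443 : nd 19443 = n52213 := ndS (p := 17406) (l := 9) rfl N17406 D52213
theorem N19444 : nd 19444 = n52214 := ndS (p := 17407) (l := 3) rfl N17407 D52214
theorem N19445 : nd 19445 = n52215 := ndS (p := 17407) (l := 5) rfl N17407 D52215
theorem N19446 : nd 19446 = n52216 := ndS (p := 17407) (l := 9) rfl N17407 D52216
theorem N19447 : nd 19447 = n52217 := ndS (p := 17408) (l := 8) rfl N17408 D52217
theorem N19448 : nd 19448 = n52218 := ndS (p := 17409) (l := 6) rfl N17409 D52218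
theorem N19449 : nd 19449 = n52219 := ndS (p := 17409) (l := 9) rfl N17409 D52219
theorem N19450 : nd 19450 = n52220 := ndS (p := 17410) (l := 8) rfl N17410 D52220
theorem N19451 : nd 19451 = n52221 := ndS (p := 17412) (l := 9) rfl N17412 D52221
theorem N19452 : nd 19452 = n52222 := ndS (p := 17413) (l := 8) rfl N17413 D52222
theorem N19453 : nd 19453 = n52223 := ndS (p := 17415) (l := 5) rfl N17415 D52223
theorem N19454 : nd 19454 = n52224 := ndS (p := 17415) (l := 9) rfl N17415 D52224
theorem N19455 : nd 19455 = n52225 := ndS (p := 17416) (l := 8) rfl N17416 D52225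
theorem N19456 : nd 19456 = n52226 := ndS (p := 17417) (l := 9) rfl N17417 D52226
theorem N19457 : nd 19457 = n52227 := ndS (p := 17418) (l := 8) rfl N17418 D52227
theorem N19458 : nd 19458 = n52228 := ndS (p := 17419) (l := 3) rfl N17419 D52228
theorem N19459 : nd 19459 = n52229 := ndS (p := 17420) (l := 9) rfl N17420 D52229
theorem N19460 : nd 19460 = n52230 := ndS (p := 17421) (l := 8) rfl N17421 D52230
theorem N19461 : nd 19461 = n52231 := ndS (p := 17423) (l := 8) rfl N17423 D52231
theorem N19462 : nd 19462 = n52232 := ndS (p := 17424) (l := 3) rfl N17424 D52232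
theorem N19463 : nd 19463 = n52233 := ndS (p := 17427) (l := 9) rfl N17427 D52233
theorem N19464 : nd 19464 = n52234 := ndS (p := 17428) (l := 8) rfl N17428 D52234
theorem N19465 : nd 19465 = n52235 := ndS (p := 17430) (l := 4) rfl N17430 D52235
theorem N19466 : nd 19466 = n52236 := ndS (p := 17430) (l := 9) rfl N17430 D52236
theorem N19467 : nd 19467 = n52237 := ndS (p := 17431) (l := 5) rfl N17431 D52237
theorem N19468 : nd 19468 = n52238 := ndS (p := 17431) (l := 9) rfl N17431 D52238
theorem N19469 : nd 19469 = n52239 := ndS (p := 17432) (l := 8) rfl N17432 D52239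
theorem N19470 : nd 19470 = n52240 := ndS (p := 17433) (l := 4) rfl N17433 D52240
theorem N19471 : nd 19471 = n52241 := ndS (p := 17433) (l := 9) rfl N17433 D52241
theorem N19472 : nd 19472 = n52242 := ndS (p := 17434) (l := 3) rfl N17434 D52242
theorem N19473 : nd 19473 = n52243 := ndS (p := 17434) (l := 5) rfl N17434 D52243
theorem N19474 : nd 19474 = n52244 := ndS (p := 17434) (l := 9) rfl N17434 D52244
theorem N19475 : nd 19475 = n52245 := ndS (p := 17435) (l := 8) rfl N17435 D52245
theorem N19476 : nd 19476 = n52246 := ndS (p := 17436) (l := 9) rfl N17436 D52246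
theorem N19477 : nd 19477 = n52247 := ndS (p := 17437) (l := 8) rfl N17437 D52247
theorem N19478 : nd 19478 = n52248 := ndS (p := 17439) (l := 4) rfl N17439 D52248
theorem N19479 : nd 19479 = n52249 := ndS (p := 17439) (l := 9) rfl N17439 D52249
theorem N19480 : nd 19480 = n52250 := ndS (p := 17440) (l := 3) rfl N17440 D52250
theorem N19481 : nd 19481 = n52251 := ndS (p := 17440) (l := 5) rfl N17440 D52251
theorem N19482 : nd 19482 = n52252 := ndS (p := 17440) (l := 9) rfl N17440 D52252
theorem N19483 : nd 19483 = n52253 := ndS (p := 17441) (l := 8) rfl N17441 D52253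
theorem N19484 : nd 19484 = n52254 := ndS (p := 17442) (l := 5) rfl N17442 D52254
theorem N19485 : nd 19485 = n52255 := ndS (p := 17442) (l := 8) rfl N17442 D52255
theorem N19486 : nd 19486 = n52256 := ndS (p := 17442) (l := 9) rfl N17442 D52256
theorem N19487 : nd 19487 = n52257 := ndS (p := 17443) (l := 6) rfl N17443 D52257
theorem N19488 : nd 19488 = n52258 := ndS (p := 17443) (l := 9) rfl N17443 D52258
theorem N19489 : nd 19489 = n52259 := ndS (p := 17444) (l := 8) rfl N17444 D52259
theorem N19490 : nd 19490 = n52260 := ndS (p := 17445) (l := 3) rfl N17445 D52260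
theorem N19491 : nd 19491 = n52261 := ndS (p := 17446) (l := 7) rfl N17446 D52261
theorem N19492 : nd 19492 = n52262 := ndS (p := 17446) (l := 9) rfl N17446 D52262
theorem N19493 : nd 19493 = n52263 := ndS (p := 17447) (l := 8) rfl N17447 D52263
theorem N19494 : nd 19494 = n52264 := ndS (p := 17448) (l := 3) rfl N17448 D52264
theorem N19495 : nd 19495 = n52265 := ndS (p := 17449) (l := 4) rfl N17449 D52265
theorem N19496 : nd 19496 = n52266 := ndS (p := 17449) (l := 9) rfl N17449 D52266
theorem N19497 : nd 19497 = n52267 := ndS (p := 17450) (l := 5) rfl N17450 D52267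
theorem N19498 : nd 19498 = n52268 := ndS (p := 17450) (l := 9) rfl N17450 D52268
theorem N19499 : nd 19499 = n52269 := ndS (p := 17451) (l := 8) rfl N17451 D52269
theorem N19500 : nd 19500 = n52270 := ndS (p := 17452) (l := 9) rfl N17452 D52270
theorem N19501 : nd 19501 = n52271 := ndS (p := 17453) (l := 8) rfl N17453 D52271
theorem N19502 : nd 19502 = n52272 := ndS (p := 17454) (l := 3) rfl N17454 D52272
theorem N19503 : nd 19503 = n52273 := ndS (p := 17455) (l := 8) rfl N17455 D52273
theorem N19504 : nd 19504 = n52274 := ndS (p := 17457) (l := 5) rfl N17457 D52274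
theorem N19505 : nd 19505 = n52275 := ndS (p := 17457) (l := 9) rfl N17457 D52275
theorem N19506 : nd 19506 = n52276 := ndS (p := 17458) (l := 8) rfl N17458 D52276
theorem N19507 : nd 19507 = n52277 := ndS (p := 17459) (l := 6) rfl N17459 D52277
theorem N19508 : nd 19508 = n52278 := ndS (p := 17459) (l := 9) rfl N17459 D52278
theorem N19509 : nd 19509 = n52279 := ndS (p := 17460) (l := 8) rfl N17460 D52279
theorem N19510 : nd 19510 = n52280 := ndS (p := 17461) (l := 3) rfl N17461 D52280
theorem N19511 : nd 19511 = n52281 := ndS (p := 17462) (l := 7) rfl N17462 D52281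
theorem N19512 : nd 19512 = n52282 := ndS (p := 17462) (l := 9) rfl N17462 D52282
theorem N19513 : nd 19513 = n52283 := ndS (p := 17463) (l := 8) rfl N17463 D52283
theorem N19514 : nd 19514 = n52284 := ndS (p := 17464) (l := 3) rfl N17464 D52284
theorem N19515 : nd 19515 = n52285 := ndS (p := 17465) (l := 4) rfl N17465 D52285
theorem N19516 : nd 19516 = n52286 := ndS (p := 17466) (l := 9) rfl N17466 D52286
theorem N19517 : nd 19517 = n52287 := ndS (p := 17467) (l := 8) rfl N17467 D52287
theorem N19518 : nd 19518 = n52288 := ndS (p := 17469) (l := 8) rfl N17469 D52288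
theorem N19519 : nd 19519 = n52289 := ndS (p := 17471) (l := 7) rfl N17471 D52289
theorem N19520 : nd 19520 = n52290 := ndS (p := 17471) (l := 9) rfl N17471 D52290
theorem N19521 : nd 19521 = n52291 := ndS (p := 17472) (l := 8) rfl N17472 D52291
theorem N19522 : nd 19522 = n52292 := ndS (p := 17473) (l := 3) rfl N17473 D52292
theorem N19523 : nd 19523 = n52293 := ndS (p := 17475) (l := 9) rfl N17475 D52293
theorem N19524 : nd 19524 = n52294 := ndS (p := 17476) (l := 8) rfl N17476 D52294
theorem N19525 : nd 19525 = n52295 := ndS (p := 17477) (l := 3) rfl N17477 D52295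
theorem N19526 : nd 19526 = n52296 := ndS (p := 17480) (l := 8) rfl N17480 D52296
theorem N19527 : nd 19527 = n52297 := ndS (p := 17483) (l := 8) rfl N17483 D52297
theorem N19528 : nd 19528 = n52298 := ndS (p := 17485) (l := 8) rfl N17485 D52298
theorem N19529 : nd 19529 = n52299 := ndS (p := 17486) (l := 8) rfl N17486 D52299
theorem N19530 : nd 19530 = n52300 := ndS (p := 17486) (l := 9) rfl N17486 D52300
theorem N19531 : nd 19531 = n52301 := ndS (p := 17487) (l := 8) rfl N17487 D52301
theorem N19532 : nd 19532 = n52302 := ndS (p := 17488) (l := 3) rfl N17488 D52302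
theorem N19533 : nd 19533 = n52303 := ndS (p := 17490) (l := 8) rfl N17490 D52303
theorem N19534 : nd 19534 = n52304 := ndS (p := 17491) (l := 8) rfl N17491 D52304
theorem N19535 : nd 19535 = n52305 := ndS (p := 17491) (l := 9) rfl N17491 D52305
theorem N19536 : nd 19536 = n52306 := ndS (p := 17492) (l := 8) rfl N17492 D52306
theorem N19537 : nd 19537 = n52307 := ndS (p := 17493) (l := 3) rfl N17493 D52307
theorem N19538 : nd 19538 = n52308 := ndS (p := 17494) (l := 9) rfl N17494 D52308
theorem N19539 : nd 19539 = n52309 := ndS (p := 17495) (l := 8) rfl N17495 D52309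
theorem N19540 : nd 19540 = n52310 := ndS (p := 17496) (l := 3) rfl N17496 D52310
theorem N19541 : nd 19541 = n52311 := ndS (p := 17497) (l := 4) rfl N17497 D52311
theorem N19542 : nd 19542 = n52312 := ndS (p := 17498) (l := 8) rfl N17498 D52312
theorem N19543 : nd 19543 = n52313 := ndS (p := 17499) (l := 3) rfl N17499 D52313
theorem N19544 : nd 19544 = n52314 := ndS (p := 17500) (l := 4) rfl N17500 D52314
theorem N19545 : nd 19545 = n52315 := ndS (p := 17503) (l := 5) rfl N17503 D52315
theorem N19546 : nd 19546 = n52316 := ndS (p := 17510) (l := 8) rfl N17510 D52316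
theorem N19547 : nd 19547 = n52317 := ndS (p := 17511) (l := 8) rfl N17511 D52317
theorem N19548 : nd 19548 = n52318 := ndS (p := 17512) (l := 8) rfl N17512 D52318
theorem N19549 : nd 19549 = n52319 := ndS (p := 17514) (l := 8) rfl N17514 D52319
theorem N19550 : nd 19550 = n52320 := ndS (p := 17515) (l := 3) rfl N17515 D52320
theorem N19551 : nd 19551 = n52321 := ndS (p := 17516) (l := 8) rfl N17516 D52321
theorem N19552 : nd 19552 = n52322 := ndS (p := 17519) (l := 8) rfl N17519 D52322
theorem N19553 : nd 19553 = n52323 := ndS (p := 17520) (l := 3) rfl N17520 D52323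
theorem N19554 : nd 19554 = n52324 := ndS (p := 17522) (l := 4) rfl N17522 D52324
theorem N19555 : nd 19555 = n52325 := ndS (p := 17523) (l := 8) rfl N17523 D52325
theorem N19556 : nd 19556 = n52326 := ndS (p := 17525) (l := 8) rfl N17525 D52326
theorem N19557 : nd 19557 = n52327 := ndS (p := 17527) (l := 3) rfl N17527 D52327
theorem N19558 : nd 19558 = n52328 := ndS (p := 17529) (l := 4) rfl N17529 D52328
theorem N19559 : nd 19559 = n52329 := ndS (p := 17530) (l := 8) rfl N17530 D52329
theorem N19560 : nd 19560 = n52330 := ndS (p := 17531) (l := 3) rfl N17531 D52330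
theorem N19561 : nd 19561 = n52331 := ndS (p := 17532) (l := 8) rfl N17532 D52331
theorem N19562 : nd 19562 = n52332 := ndS (p := 17533) (l := 8) rfl N17533 D52332
theorem N19563 : nd 19563 = n52333 := ndS (p := 17535) (l := 8) rfl N17535 D52333
theorem N19564 : nd 19564 = n52334 := ndS (p := 17536) (l := 3) rfl N17536 D52334
theorem N19565 : nd 19565 = n52335 := ndS (p := 17537) (l := 8) rfl N17537 D52335
theorem N19566 : nd 19566 = n52336 := ndS (p := 17538) (l := 8) rfl N17538 D52336
theorem N19567 : nd 19567 = n52337 := ndS (p := 17539) (l := 3) rfl N17539 D52337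
theorem N19568 : nd 19568 = n52338 := ndS (p := 17540) (l := 8) rfl N17540 D52338
theorem N19569 : nd 19569 = n52339 := ndS (p := 17541) (l := 3) rfl N17541 D52339
theorem N19570 : nd 19570 = n52340 := ndS (p := 17542) (l := 4) rfl N17542 D52340
theorem N19571 : nd 19571 = n52341 := ndS (p := 17545) (l := 3) rfl N17545 D52341
theorem N19572 : nd 19572 = n52342 := ndS (p := 17547) (l := 3) rfl N17547 D52342
theorem N19573 : nd 19573 = n52343 := ndS (p := 17549) (l := 3) rfl N17549 D52343
theorem N19574 : nd 19574 = n52344 := ndS (p := 17550) (l := 4) rfl N17550 D52344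
theorem N19575 : nd 19575 = n52345 := ndS (p := 17551) (l := 5) rfl N17551 D52345
theorem N19576 : nd 19576 = n52346 := ndS (p := 17553) (l := 4) rfl N17553 D52346
theorem N19577 : nd 19577 = n52347 := ndS (p := 17553) (l := 9) rfl N17553 D52347
theorem N19578 : nd 19578 = n52348 := ndS (p := 17555) (l := 8) rfl N17555 D52348
theorem N19579 : nd 19579 = n52349 := ndS (p := 17557) (l := 4) rfl N17557 D52349
theorem N19580 : nd 19580 = n52350 := ndS (p := 17557) (l := 9) rfl N17557 D52350
theorem N19581 : nd 19581 = n52351 := ndS (p := 17559) (l := 4) rfl N17559 D52351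
theorem N19582 : nd 19582 = n52352 := ndS (p := 17559) (l := 9) rfl N17559 D52352
theorem N19583 : nd 19583 = n52353 := ndS (p := 17560) (l := 9) rfl N17560 D52353
theorem N19584 : nd 19584 = n52354 := ndS (p := 17561) (l := 8) rfl N17561 D52354
theorem N19585 : nd 19585 = n52355 := ndS (p := 17562) (l := 8) rfl N17562 D52355
theorem N19586 : nd 19586 = n52356 := ndS (p := 17563) (l := 8) rfl N17563 D52356
theorem N19587 : nd 19587 = n52357 := ndS (p := 17565) (l := 3) rfl N17565 D52357
theorem N19588 : nd 19588 = n52358 := ndS (p := 17566) (l := 9) rfl N17566 D52358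
theorem N19589 : nd 19589 = n52359 := ndS (p := 17567) (l := 8) rfl N17567 D52359
theorem N19590 : nd 19590 = n52360 := ndS (p := 17569) (l := 8) rfl N17569 D52360
theorem N19591 : nd 19591 = n52361 := ndS (p := 17570) (l := 3) rfl N17570 D52361
theorem N19592 : nd 19592 = n52362 := ndS (p := 17572) (l := 3) rfl N17572 D52362
theorem N19593 : nd 19593 = n52363 := ndS (p := 17573) (l := 4) rfl N17573 D52363
theorem N19594 : nd 19594 = n52364 := ndS (p := 17574) (l := 4) rfl N17574 D52364
theorem N19595 : nd 19595 = n52365 := ndS (p := 17574) (l := 9) rfl N17574 D52365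
theorem N19596 : nd 19596 = n52366 := ndS (p := 17575) (l := 9) rfl N17575 D52366
theorem N19597 : nd 19597 = n52367 := ndS (p := 17576) (l := 8) rfl N17576 D52367
theorem N19598 : nd 19598 = n52368 := ndS (p := 17577) (l := 8) rfl N17577 D52368
theorem N19599 : nd 19599 = n52369 := ndS (p := 17579) (l := 8) rfl N17579 D52369
theorem N19600 : nd 19600 = n52370 := ndS (p := 17580) (l := 3) rfl N17580 D52370
theorem N19601 : nd 19601 = n52371 := ndS (p := 17582) (l := 9) rfl N17582 D52371
theorem N19602 : nd 19602 = n52372 := ndS (p := 17583) (l := 8) rfl N17583 D52372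
theorem N19603 : nd 19603 = n52373 := ndS (p := 17584) (l := 3) rfl N17584 D52373
theorem N19604 : nd 19604 = n52374 := ndS (p := 17584) (l := 5) rfl N17584 D52374
theorem N19605 : nd 19605 = n52375 := ndS (p := 17584) (l := 9) rfl N17584 D52375
theorem N19606 : nd 19606 = n52376 := ndS (p := 17585) (l := 8) rfl N17585 D52376
theorem N19607 : nd 19607 = n52377 := ndS (p := 17586) (l := 9) rfl N17586 D52377
theorem N19608 : nd 19608 = n52378 := ndS (p := 17587) (l := 8) rfl N17587 D52378
theorem N19609 : nd 19609 = n52379 := ndS (p := 17590) (l := 9) rfl N17590 D52379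
theorem N19610 : nd 19610 = n52380 := ndS (p := 17591) (l := 8) rfl N17591 D52380
theorem N19611 : nd 19611 = n52381 := ndS (p := 17592) (l := 3) rfl N17592 D52381
theorem N19612 : nd 19612 = n52382 := ndS (p := 17593) (l := 8) rfl N17593 D52382
theorem N19613 : nd 19613 = n52383 := ndS (p := 17595) (l := 8) rfl N17595 D52383
theorem N19614 : nd 19614 = n52384 := ndS (p := 17596) (l := 8) rfl N17596 D52384
theorem N19615 : nd 19615 = n52385 := ndS (p := 17597) (l := 3) rfl N17597 D52385
theorem N19616 : nd 19616 = n52386 := ndS (p := 17598) (l := 3) rfl N17598 D52386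
theorem N19617 : nd 19617 = n52387 := ndS (p := 17599) (l := 4) rfl N17599 D52387
theorem N19618 : nd 19618 = n52388 := ndS (p := 17600) (l := 8) rfl N17600 D52388
theorem N19619 : nd 19619 = n52389 := ndS (p := 17600) (l := 9) rfl N17600 D52389
theorem N19620 : nd 19620 = n52390 := ndS (p := 17601) (l := 8) rfl N17601 D52390
theorem N19621 : nd 19621 = n52391 := ndS (p := 17602) (l := 3) rfl N17602 D52391
theorem N19622 : nd 19622 = n52392 := ndS (p := 17604) (l := 4) rfl N17604 D52392
theorem N19623 : nd 19623 = n52393 := ndS (p := 17607) (l := 5) rfl N17607 D52393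
theorem N19624 : nd 19624 = n52394 := ndS (p := 17608) (l := 4) rfl N17608 D52394
theorem N19625 : nd 19625 = n52395 := ndS (p := 17608) (l := 9) rfl N17608 D52395
theorem N19626 : nd 19626 = n52396 := ndS (p := 17609) (l := 9) rfl N17609 D52396
theorem N19627 : nd 19627 = n52397 := ndS (p := 17610) (l := 8) rfl N17610 D52397
theorem N19628 : nd 19628 = n52398 := ndS (p := 17611) (l := 8) rfl N17611 D52398
theorem N19629 : nd 19629 = n52399 := ndS (p := 17613) (l := 8) rfl N17613 D52399
theorem N19630 : nd 19630 = n52400 := ndS (p := 17614) (l := 3) rfl N17614 D52400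
theorem N19631 : nd 19631 = n52401 := ndS (p := 17615) (l := 4) rfl N17615 D52401
theorem N19632 : nd 19632 = n52402 := ndS (p := 17615) (l := 9) rfl N17615 D52402
theorem N19633 : nd 19633 = n52403 := ndS (p := 17617) (l := 9) rfl N17617 D52403
theorem N19634 : nd 19634 = n52404 := ndS (p := 17618) (l := 8) rfl N17618 D52404
theorem N19635 : nd 19635 = n52405 := ndS (p := 17619) (l := 9) rfl N17619 D52405
theorem N19636 : nd 19636 = n52406 := ndS (p := 17620) (l := 8) rfl N17620 D52406
theorem N19637 : nd 19637 = n52407 := ndS (p := 17621) (l := 8) rfl N17621 D52407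
theorem N19638 : nd 19638 = n52408 := ndS (p := 17624) (l := 3) rfl N17624 D52408
theorem N19639 : nd 19639 = n52409 := ndS (p := 17625) (l := 8) rfl N17625 D52409
theorem N19640 : nd 19640 = n52410 := ndS (p := 17626) (l := 3) rfl N17626 D52410
theorem N19641 : nd 19641 = n52411 := ndS (p := 17627) (l := 4) rfl N17627 D52411
theorem N19642 : nd 19642 = n52412 := ndS (p := 17628) (l := 8) rfl N17628 D52412
theorem N19643 : nd 19643 = n52413 := ndS (p := 17630) (l := 3) rfl N17630 D52413
theorem N19644 : nd 19644 = n52414 := ndS (p := 17632) (l := 4) rfl N17632 D52414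
theorem N19645 : nd 19645 = n52415 := ndS (p := 17636) (l := 4) rfl N17636 D52415
theorem N19646 : nd 19646 = n52416 := ndS (p := 17636) (l := 9) rfl N17636 D52416
theorem N19647 : nd 19647 = n52417 := ndS (p := 17637) (l := 3) rfl N17637 D52417
theorem N19648 : nd 19648 = n52418 := ndS (p := 17637) (l := 9) rfl N17637 D52418
theorem N19649 : nd 19649 = n52419 := ndS (p := 17638) (l := 8) rfl N17638 D52419
theorem N19650 : nd 19650 = n52420 := ndS (p := 17639) (l := 8) rfl N17639 D52420
theorem N19651 : nd 19651 = n52421 := ndS (p := 17641) (l := 8) rfl N17641 D52421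
theorem N19652 : nd 19652 = n52422 := ndS (p := 17642) (l := 3) rfl N17642 D52422
theorem N19653 : nd 19653 = n52423 := ndS (p := 17643) (l := 8) rfl N17643 D52423
theorem N19654 : nd 19654 = n52424 := ndS (p := 17644) (l := 3) rfl N17644 D52424
theorem N19655 : nd 19655 = n52425 := ndS (p := 17646) (l := 4) rfl N17646 D52425
theorem N19656 : nd 19656 = n52426 := ndS (p := 17647) (l := 4) rfl N17647 D52426
theorem N19657 : nd 19657 = n52427 := ndS (p := 17647) (l := 9) rfl N17647 D52427
theorem N19658 : nd 19658 = n52428 := ndS (p := 17648) (l := 5) rfl N17648 D52428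
theorem N19659 : nd 19659 = n52429 := ndS (p := 17648) (l := 9) rfl N17648 D52429
theorem N19660 : nd 19660 = n52430 := ndS (p := 17649) (l := 8) rfl N17649 D52430
theorem N19661 : nd 19661 = n52431 := ndS (p := 17650) (l := 4) rfl N17650 D52431
theorem N19662 : nd 19662 = n52432 := ndS (p := 17650) (l := 9) rfl N17650 D52432
theorem N19663 : nd 19663 = n52433 := ndS (p := 17651) (l := 9) rfl N17651 D52433
theorem N19664 : nd 19664 = n52434 := ndS (p := 17652) (l := 8) rfl N17652 D52434
theorem N19665 : nd 19665 = n52435 := ndS (p := 17653) (l := 8) rfl N17653 D52435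
theorem N19666 : nd 19666 = n52436 := ndS (p := 17655) (l := 4) rfl N17655 D52436
theorem N19667 : nd 19667 = n52437 := ndS (p := 17655) (l := 9) rfl N17655 D52437
theorem N19668 : nd 19668 = n52438 := ndS (p := 17656) (l := 3) rfl N17656 D52438
theorem N19669 : nd 19669 = n52439 := ndS (p := 17656) (l := 5) rfl N17656 D52439
theorem N19670 : nd 19670 = n52440 := ndS (p := 17656) (l := 9) rfl N17656 D52440
theorem N19671 : nd 19671 = n52441 := ndS (p := 17657) (l := 8) rfl N17657 D52441
theorem N19672 : nd 19672 = n52442 := ndS (p := 17658) (l := 8) rfl N17658 D52442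
theorem N19673 : nd 19673 = n52443 := ndS (p := 17658) (l := 9) rfl N17658 D52443
theorem N19674 : nd 19674 = n52444 := ndS (p := 17659) (l := 6) rfl N17659 D52444
theorem N19675 : nd 19675 = n52445 := ndS (p := 17659) (l := 9) rfl N17659 D52445
theorem N19676 : nd 19676 = n52446 := ndS (p := 17660) (l := 8) rfl N17660 D52446
theorem N19677 : nd 19677 = n52447 := ndS (p := 17661) (l := 3) rfl N17661 D52447
theorem N19678 : nd 19678 = n52448 := ndS (p := 17662) (l := 7) rfl N17662 D52448
theorem N19679 : nd 19679 = n52449 := ndS (p := 17662) (l := 9) rfl N17662 D52449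
theorem N19680 : nd 19680 = n52450 := ndS (p := 17663) (l := 8) rfl N17663 D52450
theorem N19681 : nd 19681 = n52451 := ndS (p := 17664) (l := 3) rfl N17664 D52451
theorem N19682 : nd 19682 = n52452 := ndS (p := 17665) (l := 8) rfl N17665 D52452
theorem N19683 : nd 19683 = n52453 := ndS (p := 17666) (l := 3) rfl N17666 D52453
theorem N19684 : nd 19684 = n52454 := ndS (p := 17667) (l := 8) rfl N17667 D52454
theorem N19685 : nd 19685 = n52455 := ndS (p := 17668) (l := 9) rfl N17668 D52455
theorem N19686 : nd 19686 = n52456 := ndS (p := 17669) (l := 8) rfl N17669 D52456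
theorem N19687 : nd 19687 = n52457 := ndS (p := 17670) (l := 3) rfl N17670 D52457
theorem N19688 : nd 19688 = n52458 := ndS (p := 17671) (l := 9) rfl N17671 D52458
theorem N19689 : nd 19689 = n52459 := ndS (p := 17672) (l := 8) rfl N17672 D52459
theorem N19690 : nd 19690 = n52460 := ndS (p := 17673) (l := 3) rfl N17673 D52460
theorem N19691 : nd 19691 = n52461 := ndS (p := 17674) (l := 4) rfl N17674 D52461
theorem N19692 : nd 19692 = n52462 := ndS (p := 17675) (l := 9) rfl N17675 D52462
theorem N19693 : nd 19693 = n52463 := ndS (p := 17676) (l := 8) rfl N17676 D52463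
theorem N19694 : nd 19694 = n52464 := ndS (p := 17678) (l := 8) rfl N17678 D52464
theorem N19695 : nd 19695 = n52465 := ndS (p := 17679) (l := 3) rfl N17679 D52465
theorem N19696 : nd 19696 = n52466 := ndS (p := 17680) (l := 8) rfl N17680 D52466
theorem N19697 : nd 19697 = n52467 := ndS (p := 17681) (l := 3) rfl N17681 D52467
theorem N19698 : nd 19698 = n52468 := ndS (p := 17682) (l := 2) rfl N17682 D52468
theorem N19699 : nd 19699 = n52469 := ndS (p := 17682) (l := 4) rfl N17682 D52469
theorem N19700 : nd 19700 = n52470 := ndS (p := 17683) (l := 8) rfl N17683 D52470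
theorem N19701 : nd 19701 = n52471 := ndS (p := 17685) (l := 4) rfl N17685 D52471
theorem N19702 : nd 19702 = n52472 := ndS (p := 17686) (l := 5) rfl N17686 D52472
theorem N19703 : nd 19703 = n52473 := ndS (p := 17690) (l := 8) rfl N17690 D52473
theorem N19704 : nd 19704 = n52474 := ndS (p := 17692) (l := 8) rfl N17692 D52474
theorem N19705 : nd 19705 = n52475 := ndS (p := 17693) (l := 3) rfl N17693 D52475
theorem N19706 : nd 19706 = n52476 := ndS (p := 17694) (l := 8) rfl N17694 D52476
theorem N19707 : nd 19707 = n52477 := ndS (p := 17695) (l := 9) rfl N17695 D52477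
theorem N19708 : nd 19708 = n52478 := ndS (p := 17696) (l := 8) rfl N17696 D52478
theorem N19709 : nd 19709 = n52479 := ndS (p := 17697) (l := 3) rfl N17697 D52479
theorem N19710 : nd 19710 = n52480 := ndS (p := 17698) (l := 9) rfl N17698 D52480
theorem N19711 : nd 19711 = n52481 := ndS (p := 17699) (l := 8) rfl N17699 D52481
theorem N19712 : nd 19712 = n52482 := ndS (p := 17700) (l := 3) rfl N17700 D52482
theorem N19713 : nd 19713 = n52483 := ndS (p := 17701) (l := 4) rfl N17701 D52483
theorem N19714 : nd 19714 = n52484 := ndS (p := 17702) (l := 3) rfl N17702 D52484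
theorem N19715 : nd 19715 = n52485 := ndS (p := 17704) (l := 3) rfl N17704 D52485
theorem N19716 : nd 19716 = n52486 := ndS (p := 17705) (l := 2) rfl N17705 D52486
theorem N19717 : nd 19717 = n52487 := ndS (p := 17705) (l := 4) rfl N17705 D52487
theorem N19718 : nd 19718 = n52488 := ndS (p := 17706) (l := 5) rfl N17706 D52488
theorem N19719 : nd 19719 = n52489 := ndS (p := 17710) (l := 6) rfl N17710 D52489
theorem N19720 : nd 19720 = n52490 := ndS (p := 17711) (l := 8) rfl N17711 D52490
theorem N19721 : nd 19721 = n52491 := ndS (p := 17714) (l := 8) rfl N17714 D52491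
theorem N19722 : nd 19722 = n52492 := ndS (p := 17722) (l := 4) rfl N17722 D52492
theorem N19723 : nd 19723 = n52493 := ndS (p := 17722) (l := 9) rfl N17722 D52493
theorem N19724 : nd 19724 = n52494 := ndS (p := 17724) (l := 9) rfl N17724 D52494
theorem N19725 : nd 19725 = n52495 := ndS (p := 17725) (l := 8) rfl N17725 D52495
theorem N19726 : nd 19726 = n52496 := ndS (p := 17726) (l := 8) rfl N17726 D52496
theorem N19727 : nd 19727 = n52497 := ndS (p := 17729) (l := 9) rfl N17729 D52497
theorem N19728 : nd 19728 = n52498 := ndS (p := 17730) (l := 8) rfl N17730 D52498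
theorem N19729 : nd 19729 = n52499 := ndS (p := 17731) (l := 4) rfl N17731 D52499
theorem N19730 : nd 19730 = n52500 := ndS (p := 17731) (l := 9) rfl N17731 D52500
theorem N19731 : nd 19731 = n52501 := ndS (p := 17733) (l := 9) rfl N17733 D52501
theorem N19732 : nd 19732 = n52502 := ndS (p := 17734) (l := 8) rfl N17734 D52502
theorem N19733 : nd 19733 = n52503 := ndS (p := 17735) (l := 9) rfl N17735 D52503
theorem N19734 : nd 19734 = n52504 := ndS (p := 17736) (l := 8) rfl N17736 D52504
theorem N19735 : nd 19735 = n52505 := ndS (p := 17738) (l := 8) rfl N17738 D52505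
theorem N19736 : nd 19736 = n52506 := ndS (p := 17740) (l := 8) rfl N17740 D52506
theorem N19737 : nd 19737 = n52507 := ndS (p := 17742) (l := 4) rfl N17742 D52507
theorem N19738 : nd 19738 = n52508 := ndS (p := 17742) (l := 9) rfl N17742 D52508
theorem N19739 : nd 19739 = n52509 := ndS (p := 17743) (l := 5) rfl N17743 D52509
theorem N19740 : nd 19740 = n52510 := ndS (p := 17743) (l := 9) rfl N17743 D52510
theorem N19741 : nd 19741 = n52511 := ndS (p := 17744) (l := 8) rfl N17744 D52511
theorem N19742 : nd 19742 = n52512 := ndS (p := 17745) (l := 4) rfl N17745 D52512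
theorem N19743 : nd 19743 = n52513 := ndS (p := 17745) (l := 9) rfl N17745 D52513
theorem N19744 : nd 19744 = n52514 := ndS (p := 17746) (l := 3) rfl N17746 D52514
theorem N19745 : nd 19745 = n52515 := ndS (p := 17746) (l := 5) rfl N17746 D52515
theorem N19746 : nd 19746 = n52516 := ndS (p := 17746) (l := 9) rfl N17746 D52516
theorem N19747 : nd 19747 = n52517 := ndS (p := 17747) (l := 8) rfl N17747 D52517
theorem N19748 : nd 19748 = n52518 := ndS (p := 17748) (l := 6) rfl N17748 D52518
theorem N19749 : nd 19749 = n52519 := ndS (p := 17748) (l := 9) rfl N17748 D52519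
theorem N19750 : nd 19750 = n52520 := ndS (p := 17749) (l := 8) rfl N17749 D52520
theorem N19751 : nd 19751 = n52521 := ndS (p := 17751) (l := 3) rfl N17751 D52521
theorem N19752 : nd 19752 = n52522 := ndS (p := 17751) (l := 5) rfl N17751 D52522
theorem N19753 : nd 19753 = n52523 := ndS (p := 17751) (l := 9) rfl N17751 D52523
theorem N19754 : nd 19754 = n52524 := ndS (p := 17752) (l := 8) rfl N17752 D52524
theorem N19755 : nd 19755 = n52525 := ndS (p := 17753) (l := 5) rfl N17753 D52525
theorem N19756 : nd 19756 = n52526 := ndS (p := 17753) (l := 9) rfl N17753 D52526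
theorem N19757 : nd 19757 = n52527 := ndS (p := 17754) (l := 9) rfl N17754 D52527
theorem N19758 : nd 19758 = n52528 := ndS (p := 17755) (l := 8) rfl N17755 D52528
theorem N19759 : nd 19759 = n52529 := ndS (p := 17757) (l := 8) rfl N17757 D52529
theorem N19760 : nd 19760 = n52530 := ndS (p := 17758) (l := 3) rfl N17758 D52530
theorem N19761 : nd 19761 = n52531 := ndS (p := 17759) (l := 5) rfl N17759 D52531
theorem N19762 : nd 19762 = n52532 := ndS (p := 17759) (l := 9) rfl N17759 D52532
theorem N19763 : nd 19763 = n52533 := ndS (p := 17760) (l := 8) rfl N17760 D52533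
theorem N19764 : nd 19764 = n52534 := ndS (p := 17761) (l := 9) rfl N17761 D52534
theorem N19765 : nd 19765 = n52535 := ndS (p := 17762) (l := 8) rfl N17762 D52535
theorem N19766 : nd 19766 = n52536 := ndS (p := 17764) (l := 9) rfl N17764 D52536
theorem N19767 : nd 19767 = n52537 := ndS (p := 17765) (l := 8) rfl N17765 D52537
theorem N19768 : nd 19768 = n52538 := ndS (p := 17767) (l := 9) rfl N17767 D52538
theorem N19769 : nd 19769 = n52539 := ndS (p := 17768) (l := 8) rfl N17768 D52539
theorem N19770 : nd 19770 = n52540 := ndS (p := 17770) (l := 8) rfl N17770 D52540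
theorem N19771 : nd 19771 = n52541 := ndS (p := 17771) (l := 3) rfl N17771 D52541
theorem N19772 : nd 19772 = n52542 := ndS (p := 17773) (l := 3) rfl N17773 D52542
theorem N19773 : nd 19773 = n52543 := ndS (p := 17778) (l := 9) rfl N17778 D52543
theorem N19774 : nd 19774 = n52544 := ndS (p := 17781) (l := 9) rfl N17781 D52544
theorem N19775 : nd 19775 = n52545 := ndS (p := 17783) (l := 8) rfl N17783 D52545
theorem N19776 : nd 19776 = n52546 := ndS (p := 17787) (l := 4) rfl N17787 D52546
theorem N19777 : nd 19777 = n52547 := ndS (p := 17787) (l := 9) rfl N17787 D52547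
theorem N19778 : nd 19778 = n52548 := ndS (p := 17788) (l := 9) rfl N17788 D52548
theorem N19779 : nd 19779 = n52549 := ndS (p := 17789) (l := 8) rfl N17789 D52549
theorem N19780 : nd 19780 = n52550 := ndS (p := 17790) (l := 9) rfl N17790 D52550
theorem N19781 : nd 19781 = n52551 := ndS (p := 17791) (l := 8) rfl N17791 D52551
theorem N19782 : nd 19782 = n52552 := ndS (p := 17792) (l := 8) rfl N17792 D52552
theorem N19783 : nd 19783 = n52553 := ndS (p := 17795) (l := 4) rfl N17795 D52553
theorem N19784 : nd 19784 = n52554 := ndS (p := 17795) (l := 9) rfl N17795 D52554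
theorem N19785 : nd 19785 = n52555 := ndS (p := 17796) (l := 5) rfl N17796 D52555
theorem N19786 : nd 19786 = n52556 := ndS (p := 17796) (l := 9) rfl N17796 D52556
theorem N19787 : nd 19787 = n52557 := ndS (p := 17797) (l := 8) rfl N17797 D52557
theorem N19788 : nd 19788 = n52558 := ndS (p := 17798) (l := 4) rfl N17798 D52558
theorem N19789 : nd 19789 = n52559 := ndS (p := 17798) (l := 9) rfl N17798 D52559
theorem N19790 : nd 19790 = n52560 := ndS (p := 17799) (l := 9) rfl N17799 D52560
theorem N19791 : nd 19791 = n52561 := ndS (p := 17800) (l := 8) rfl N17800 D52561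
theorem N19792 : nd 19792 = n52562 := ndS (p := 17801) (l := 8) rfl N17801 D52562
theorem N19793 : nd 19793 = n52563 := ndS (p := 17803) (l := 4) rfl N17803 D52563
theorem N19794 : nd 19794 = n52564 := ndS (p := 17803) (l := 9) rfl N17803 D52564
theorem N19795 : nd 19795 = n52565 := ndS (p := 17804) (l := 3) rfl N17804 D52565
theorem N19796 : nd 19796 = n52566 := ndS (p := 17804) (l := 9) rfl N17804 D52566
theorem N19797 : nd 19797 = n52567 := ndS (p := 17805) (l := 8) rfl N17805 D52567
theorem N19798 : nd 19798 = n52568 := ndS (p := 17806) (l := 8) rfl N17806 D52568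
theorem N19799 : nd 19799 = n52569 := ndS (p := 17806) (l := 9) rfl N17806 D52569
theorem N19800 : nd 19800 = n52570 := ndS (p := 17807) (l := 8) rfl N17807 D52570
theorem N19801 : nd 19801 = n52571 := ndS (p := 17809) (l := 3) rfl N17809 D52571
theorem N19802 : nd 19802 = n52572 := ndS (p := 17810) (l := 9) rfl N17810 D52572
theorem N19803 : nd 19803 = n52573 := ndS (p := 17811) (l := 8) rfl N17811 D52573
theorem N19804 : nd 19804 = n52574 := ndS (p := 17813) (l := 8) rfl N17813 D52574
theorem N19805 : nd 19805 = n52575 := ndS (p := 17820) (l := 9) rfl N17820 D52575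
theorem N19806 : nd 19806 = n52576 := ndS (p := 17822) (l := 9) rfl N17822 D52576
theorem N19807 : nd 19807 = n52577 := ndS (p := 17823) (l := 8) rfl N17823 D52577
theorem N19808 : nd 19808 = n52578 := ndS (p := 17825) (l := 0) rfl N17825 D52578
theorem N19809 : nd 19809 = n52579 := ndS (p := 17825) (l := 4) rfl N17825 D52579
theorem N19810 : nd 19810 = n52580 := ndS (p := 17825) (l := 9) rfl N17825 D52580
theorem N19811 : nd 19811 = n52581 := ndS (p := 17826) (l := 3) rfl N17826 D52581
theorem N19812 : nd 19812 = n52582 := ndS (p := 17826) (l := 9) rfl N17826 D52582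
theorem N19813 : nd 19813 = n52583 := ndS (p := 17827) (l := 8) rfl N17827 D52583
theorem N19814 : nd 19814 = n52584 := ndS (p := 17828) (l := 8) rfl N17828 D52584
theorem N19815 : nd 19815 = n52585 := ndS (p := 17830) (l := 4) rfl N17830 D52585
theorem N19816 : nd 19816 = n52586 := ndS (p := 17830) (l := 9) rfl N17830 D52586
theorem N19817 : nd 19817 = n52587 := ndS (p := 17831) (l := 5) rfl N17831 D52587
theorem N19818 : nd 19818 = n52588 := ndS (p := 17831) (l := 9) rfl N17831 D52588
theorem N19819 : nd 19819 = n52589 := ndS (p := 17832) (l := 8) rfl N17832 D52589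
theorem N19820 : nd 19820 = n52590 := ndS (p := 17833) (l := 4) rfl N17833 D52590
theorem N19821 : nd 19821 = n52591 := ndS (p := 17833) (l := 9) rfl N17833 D52591
theorem N19822 : nd 19822 = n52592 := ndS (p := 17834) (l := 3) rfl N17834 D52592
theorem N19823 : nd 19823 = n52593 := ndS (p := 17834) (l := 9) rfl N17834 D52593
theorem N19824 : nd 19824 = n52594 := ndS (p := 17835) (l := 8) rfl N17835 D52594
theorem N19825 : nd 19825 = n52595 := ndS (p := 17836) (l := 8) rfl N17836 D52595
theorem N19826 : nd 19826 = n52596 := ndS (p := 17838) (l := 4) rfl N17838 D52596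
theorem N19827 : nd 19827 = n52597 := ndS (p := 17838) (l := 9) rfl N17838 D52597
theorem N19828 : nd 19828 = n52598 := ndS (p := 17839) (l := 3) rfl N17839 D52598
theorem N19829 : nd 19829 = n52599 := ndS (p := 17839) (l := 5) rfl N17839 D52599
theorem N19830 : nd 19830 = n52600 := ndS (p := 17839) (l := 9) rfl N17839 D52600
theorem N19831 : nd 19831 = n52601 := ndS (p := 17840) (l := 8) rfl N17840 D52601
theorem N19832 : nd 19832 = n52602 := ndS (p := 17841) (l := 5) rfl N17841 D52602
theorem N19833 : nd 19833 = n52603 := ndS (p := 17841) (l := 8) rfl N17841 D52603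
theorem N19834 : nd 19834 = n52604 := ndS (p := 17841) (l := 9) rfl N17841 D52604
theorem N19835 : nd 19835 = n52605 := ndS (p := 17842) (l := 6) rfl N17842 D52605
theorem N19836 : nd 19836 = n52606 := ndS (p := 17842) (l := 9) rfl N17842 D52606
theorem N19837 : nd 19837 = n52607 := ndS (p := 17843) (l := 8) rfl N17843 D52607
theorem N19838 : nd 19838 = n52608 := ndS (p := 17845) (l := 7) rfl N17845 D52608
theorem N19839 : nd 19839 = n52609 := ndS (p := 17845) (l := 9) rfl N17845 D52609
theorem N19840 : nd 19840 = n52610 := ndS (p := 17846) (l := 8) rfl N17846 D52610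
theorem N19841 : nd 19841 = n52611 := ndS (p := 17847) (l := 3) rfl N17847 D52611
theorem N19842 : nd 19842 = n52612 := ndS (p := 17848) (l := 9) rfl N17848 D52612
theorem N19843 : nd 19843 = n52613 := ndS (p := 17849) (l := 9) rfl N17849 D52613
theorem N19844 : nd 19844 = n52614 := ndS (p := 17850) (l := 8) rfl N17850 D52614
theorem N19845 : nd 19845 = n52615 := ndS (p := 17851) (l := 8) rfl N17851 D52615
theorem N19846 : nd 19846 = n52616 := ndS (p := 17854) (l := 8) rfl N17854 D52616
theorem N19847 : nd 19847 = n52617 := ndS (p := 17855) (l := 9) rfl N17855 D52617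
theorem N19848 : nd 19848 = n52618 := ndS (p := 17856) (l := 8) rfl N17856 D52618
theorem N19849 : nd 19849 = n52619 := ndS (p := 17858) (l := 7) rfl N17858 D52619
theorem N19850 : nd 19850 = n52620 := ndS (p := 17858) (l := 9) rfl N17858 D52620
theorem N19851 : nd 19851 = n52621 := ndS (p := 17859) (l := 8) rfl N17859 D52621
theorem N19852 : nd 19852 = n52622 := ndS (p := 17860) (l := 3) rfl N17860 D52622
theorem N19853 : nd 19853 = n52623 := ndS (p := 17861) (l := 9) rfl N17861 D52623
theorem N19854 : nd 19854 = n52624 := ndS (p := 17862) (l := 8) rfl N17862 D52624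
theorem N19855 : nd 19855 = n52625 := ndS (p := 17865) (l := 3) rfl N17865 D52625
theorem N19856 : nd 19856 = n52626 := ndS (p := 17866) (l := 9) rfl N17866 D52626
theorem N19857 : nd 19857 = n52627 := ndS (p := 17867) (l := 8) rfl N17867 D52627
theorem N19858 : nd 19858 = n52628 := ndS (p := 17868) (l := 3) rfl N17868 D52628
theorem N19859 : nd 19859 = n52629 := ndS (p := 17870) (l := 8) rfl N17870 D52629
theorem N19860 : nd 19860 = n52630 := ndS (p := 17872) (l := 5) rfl N17872 D52630
theorem N19861 : nd 19861 = n52631 := ndS (p := 17872) (l := 9) rfl N17872 D52631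
theorem N19862 : nd 19862 = n52632 := ndS (p := 17873) (l := 8) rfl N17873 D52632
theorem N19863 : nd 19863 = n52633 := ndS (p := 17874) (l := 6) rfl N17874 D52633
theorem N19864 : nd 19864 = n52634 := ndS (p := 17874) (l := 9) rfl N17874 D52634
theorem N19865 : nd 19865 = n52635 := ndS (p := 17875) (l := 8) rfl N17875 D52635
theorem N19866 : nd 19866 = n52636 := ndS (p := 17877) (l := 5) rfl N17877 D52636
theorem N19867 : nd 19867 = n52637 := ndS (p := 17877) (l := 9) rfl N17877 D52637
theorem N19868 : nd 19868 = n52638 := ndS (p := 17878) (l := 8) rfl N17878 D52638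
theorem N19869 : nd 19869 = n52639 := ndS (p := 17879) (l := 9) rfl N17879 D52639
theorem N19870 : nd 19870 = n52640 := ndS (p := 17880) (l := 9) rfl N17880 D52640
theorem N19871 : nd 19871 = n52641 := ndS (p := 17881) (l := 8) rfl N17881 D52641
theorem N19872 : nd 19872 = n52642 := ndS (p := 17882) (l := 3) rfl N17882 D52642
theorem N19873 : nd 19873 = n52643 := ndS (p := 17883) (l := 7) rfl N17883 D52643
theorem N19874 : nd 19874 = n52644 := ndS (p := 17883) (l := 9) rfl N17883 D52644
theorem N19875 : nd 19875 = n52645 := ndS (p := 17884) (l := 8) rfl N17884 D52645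
theorem N19876 : nd 19876 = n52646 := ndS (p := 17885) (l := 3) rfl N17885 D52646
theorem N19877 : nd 19877 = n52647 := ndS (p := 17886) (l := 5) rfl N17886 D52647
theorem N19878 : nd 19878 = n52648 := ndS (p := 17886) (l := 9) rfl N17886 D52648
theorem N19879 : nd 19879 = n52649 := ndS (p := 17887) (l := 8) rfl N17887 D52649
theorem N19880 : nd 19880 = n52650 := ndS (p := 17888) (l := 5) rfl N17888 D52650
theorem N19881 : nd 19881 = n52651 := ndS (p := 17888) (l := 9) rfl N17888 D52651
theorem N19882 : nd 19882 = n52652 := ndS (p := 17889) (l := 6) rfl N17889 D52652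
theorem N19883 : nd 19883 = n52653 := ndS (p := 17889) (l := 9) rfl N17889 D52653
theorem N19884 : nd 19884 = n52654 := ndS (p := 17890) (l := 8) rfl N17890 D52654
theorem N19885 : nd 19885 = n52655 := ndS (p := 17891) (l := 3) rfl N17891 D52655
theorem N19886 : nd 19886 = n52656 := ndS (p := 17892) (l := 6) rfl N17892 D52656
theorem N19887 : nd 19887 = n52657 := ndS (p := 17892) (l := 8) rfl N17892 D52657
theorem N19888 : nd 19888 = n52658 := ndS (p := 17892) (l := 9) rfl N17892 D52658
theorem N19889 : nd 19889 = n52659 := ndS (p := 17893) (l := 9) rfl N17893 D52659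
theorem N19890 : nd 19890 = n52660 := ndS (p := 17894) (l := 8) rfl N17894 D52660
theorem N19891 : nd 19891 = n52661 := ndS (p := 17895) (l := 7) rfl N17895 D52661
theorem N19892 : nd 19892 = n52662 := ndS (p := 17895) (l := 9) rfl N17895 D52662
theorem N19893 : nd 19893 = n52663 := ndS (p := 17896) (l := 8) rfl N17896 D52663
theorem N19894 : nd 19894 = n52664 := ndS (p := 17897) (l := 3) rfl N17897 D52664
theorem N19895 : nd 19895 = n52665 := ndS (p := 17898) (l := 4) rfl N17898 D52665
theorem N19896 : nd 19896 = n52666 := ndS (p := 17899) (l := 9) rfl N17899 D52666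
theorem N19897 : nd 19897 = n52667 := ndS (p := 17900) (l := 8) rfl N17900 D52667
theorem N19898 : nd 19898 = n52668 := ndS (p := 17901) (l := 3) rfl N17901 D52668
theorem N19899 : nd 19899 = n52669 := ndS (p := 17902) (l := 2) rfl N17902 D52669
theorem N19900 : nd 19900 = n52670 := ndS (p := 17903) (l := 5) rfl N17903 D52670
theorem N19901 : nd 19901 = n52671 := ndS (p := 17903) (l := 9) rfl N17903 D52671
theorem N19902 : nd 19902 = n52672 := ndS (p := 17904) (l := 8) rfl N17904 D52672
theorem N19903 : nd 19903 = n52673 := ndS (p := 17905) (l := 9) rfl N17905 D52673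
theorem N19904 : nd 19904 = n52674 := ndS (p := 17906) (l := 8) rfl N17906 D52674
theorem N19905 : nd 19905 = n52675 := ndS (p := 17908) (l := 8) rfl N17908 D52675
theorem N19906 : nd 19906 = n52676 := ndS (p := 17909) (l := 3) rfl N17909 D52676
theorem N19907 : nd 19907 = n52677 := ndS (p := 17910) (l := 4) rfl N17910 D52677
theorem N19908 : nd 19908 = n52678 := ndS (p := 17911) (l := 9) rfl N17911 D52678
theorem N19909 : nd 19909 = n52679 := ndS (p := 17912) (l := 8) rfl N17912 D52679
theorem N19910 : nd 19910 = n52680 := ndS (p := 17914) (l := 9) rfl N17914 D52680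
theorem N19911 : nd 19911 = n52681 := ndS (p := 17915) (l := 8) rfl N17915 D52681
theorem N19912 : nd 19912 = n52682 := ndS (p := 17917) (l := 9) rfl N17917 D52682
theorem N19913 : nd 19913 = n52683 := ndS (p := 17918) (l := 8) rfl N17918 D52683
theorem N19914 : nd 19914 = n52684 := ndS (p := 17919) (l := 3) rfl N17919 D52684
theorem N19915 : nd 19915 = n52685 := ndS (p := 17921) (l := 9) rfl N17921 D52685
theorem N19916 : nd 19916 = n52686 := ndS (p := 17922) (l := 8) rfl N17922 D52686
theorem N19917 : nd 19917 = n52687 := ndS (p := 17923) (l := 3) rfl N17923 D52687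
theorem N19918 : nd 19918 = n52688 := ndS (p := 17924) (l := 4) rfl N17924 D52688
theorem N19919 : nd 19919 = n52689 := ndS (p := 17925) (l := 5) rfl N17925 D52689
theorem N19920 : nd 19920 = n52690 := ndS (p := 17926) (l := 8) rfl N17926 D52690
theorem N19921 : nd 19921 = n52691 := ndS (p := 17929) (l := 9) rfl N17929 D52691
theorem N19922 : nd 19922 = n52692 := ndS (p := 17930) (l := 8) rfl N17930 D52692
theorem N19923 : nd 19923 = n52693 := ndS (p := 17931) (l := 3) rfl N17931 D52693
theorem N19924 : nd 19924 = n52694 := ndS (p := 17932) (l := 2) rfl N17932 D52694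
theorem N19925 : nd 19925 = n52695 := ndS (p := 17933) (l := 8) rfl N17933 D52695
theorem N19926 : nd 19926 = n52696 := ndS (p := 17934) (l := 3) rfl N17934 D52696
theorem N19927 : nd 19927 = n52697 := ndS (p := 17941) (l := 8) rfl N17941 D52697
theorem N19928 : nd 19928 = n52698 := ndS (p := 17943) (l := 5) rfl N17943 D52698
theorem N19929 : nd 19929 = n52699 := ndS (p := 17944) (l := 5) rfl N17944 D52699
theorem N19930 : nd 19930 = n52700 := ndS (p := 17947) (l := 8) rfl N17947 D52700
theorem N19931 : nd 19931 = n52701 := ndS (p := 17950) (l := 4) rfl N17950 D52701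
theorem N19932 : nd 19932 = n52702 := ndS (p := 17950) (l := 9) rfl N17950 D52702
theorem N19933 : nd 19933 = n52703 := ndS (p := 17951) (l := 3) rfl N17951 D52703
theorem N19934 : nd 19934 = n52704 := ndS (p := 17951) (l := 9) rfl N17951 D52704
theorem N19935 : nd 19935 = n52705 := ndS (p := 17952) (l := 8) rfl N17952 D52705
theorem N19936 : nd 19936 = n52706 := ndS (p := 17953) (l := 8) rfl N17953 D52706
theorem N19937 : nd 19937 = n52707 := ndS (p := 17955) (l := 9) rfl N17955 D52707
theorem N19938 : nd 19938 = n52708 := ndS (p := 17956) (l := 3) rfl N17956 D52708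
theorem N19939 : nd 19939 = n52709 := ndS (p := 17956) (l := 9) rfl N17956 D52709
theorem N19940 : nd 19940 = n52710 := ndS (p := 17957) (l := 8) rfl N17957 D52710
theorem N19941 : nd 19941 = n52711 := ndS (p := 17958) (l := 8) rfl N17958 D52711
theorem N19942 : nd 19942 = n52712 := ndS (p := 17958) (l := 9) rfl N17958 D52712
theorem N19943 : nd 19943 = n52713 := ndS (p := 17959) (l := 8) rfl N17959 D52713
theorem N19944 : nd 19944 = n52714 := ndS (p := 17960) (l := 3) rfl N17960 D52714
theorem N19945 : nd 19945 = n52715 := ndS (p := 17964) (l := 9) rfl N17964 D52715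
theorem N19946 : nd 19946 = n52716 := ndS (p := 17967) (l := 2) rfl N17967 D52716
theorem N19947 : nd 19947 = n52717 := ndS (p := 17967) (l := 9) rfl N17967 D52717
theorem N19948 : nd 19948 = n52718 := ndS (p := 17969) (l := 9) rfl N17969 D52718
theorem N19949 : nd 19949 = n52719 := ndS (p := 17970) (l := 8) rfl N17970 D52719
theorem N19950 : nd 19950 = n52720 := ndS (p := 17974) (l := 6) rfl N17974 D52720
theorem N19951 : nd 19951 = n52721 := ndS (p := 17987) (l := 5) rfl N17987 D52721
theorem N19952 : nd 19952 = n52722 := ndS (p := 17994) (l := 8) rfl N17994 D52722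
theorem N19953 : nd 19953 = n52723 := ndS (p := 17995) (l := 3) rfl N17995 D52723
theorem N19954 : nd 19954 = n52724 := ndS (p := 17996) (l := 8) rfl N17996 D52724
theorem N19955 : nd 19955 = n52725 := ndS (p := 17997) (l := 3) rfl N17997 D52725
theorem N19956 : nd 19956 = n52726 := ndS (p := 18001) (l := 5) rfl N18001 D52726
theorem N19957 : nd 19957 = n52727 := ndS (p := 18002) (l := 6) rfl N18002 D52727
theorem N19958 : nd 19958 = n52728 := ndS (p := 18006) (l := 2) rfl N18006 D52728
theorem N19959 : nd 19959 = n52729 := ndS (p := 18006) (l := 4) rfl N18006 D52729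
theorem N19960 : nd 19960 = n52730 := ndS (p := 18007) (l := 4) rfl N18007 D52730
theorem N19961 : nd 19961 = n52731 := ndS (p := 18014) (l := 8) rfl N18014 D52731
theorem N19962 : nd 19962 = n52732 := ndS (p := 18015) (l := 3) rfl N18015 D52732
theorem N19963 : nd 19963 = n52733 := ndS (p := 18016) (l := 4) rfl N18016 D52733
theorem N19964 : nd 19964 = n52734 := ndS (p := 18019) (l := 4) rfl N18019 D52734
theorem N19965 : nd 19965 = n52735 := ndS (p := 18022) (l := 5) rfl N18022 D52735
theorem N19966 : nd 19966 = n52736 := ndS (p := 18023) (l := 8) rfl N18023 D52736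
theorem N19967 : nd 19967 = n52737 := ndS (p := 18024) (l := 8) rfl N18024 D52737
theorem N19968 : nd 19968 = n52738 := ndS (p := 18026) (l := 5) rfl N18026 D52738
theorem N19969 : nd 19969 = n52739 := ndS (p := 18027) (l := 5) rfl N18027 D52739
theorem N19970 : nd 19970 = n52740 := ndS (p := 18030) (l := 9) rfl N18030 D52740
theorem N19971 : nd 19971 = n52741 := ndS (p := 18031) (l := 8) rfl N18031 D52741
theorem N19972 : nd 19972 = n52742 := ndS (p := 18032) (l := 3) rfl N18032 D52742
theorem N19973 : nd 19973 = n52743 := ndS (p := 18033) (l := 8) rfl N18033 D52743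
theorem N19974 : nd 19974 = n52744 := ndS (p := 18033) (l := 9) rfl N18033 D52744
theorem N19975 : nd 19975 = n52745 := ndS (p := 18034) (l := 9) rfl N18034 D52745
theorem N19976 : nd 19976 = n52746 := ndS (p := 18035) (l := 8) rfl N18035 D52746
theorem N19977 : nd 19977 = n52747 := ndS (p := 18036) (l := 8) rfl N18036 D52747
theorem N19978 : nd 19978 = n52748 := ndS (p := 18037) (l := 3) rfl N18037 D52748
theorem N19979 : nd 19979 = n52749 := ndS (p := 18038) (l := 8) rfl N18038 D52749
theorem N19980 : nd 19980 = n52750 := ndS (p := 18039) (l := 3) rfl N18039 D52750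
theorem N19981 : nd 19981 = n52751 := ndS (p := 18040) (l := 2) rfl N18040 D52751
theorem N19982 : nd 19982 = n52752 := ndS (p := 18040) (l := 4) rfl N18040 D52752
theorem N19983 : nd 19983 = n52753 := ndS (p := 18041) (l := 5) rfl N18041 D52753
theorem N19984 : nd 19984 = n52754 := ndS (p := 18043) (l := 2) rfl N18043 D52754
theorem N19985 : nd 19985 = n52755 := ndS (p := 18044) (l := 1) rfl N18044 D52755
theorem N19986 : nd 19986 = n52756 := ndS (p := 18047) (l := 3) rfl N18047 D52756
theorem N19987 : nd 19987 = n52757 := ndS (p := 18049) (l := 8) rfl N18049 D52757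
theorem N19988 : nd 19988 = n52758 := ndS (p := 18051) (l := 8) rfl N18051 D52758
theorem N19989 : nd 19989 = n52759 := ndS (p := 18052) (l := 3) rfl N18052 D52759
theorem N19990 : nd 19990 = n52760 := ndS (p := 18053) (l := 2) rfl N18053 D52760
theorem N19991 : nd 19991 = n52761 := ndS (p := 18055) (l := 3) rfl N18055 D52761
theorem N19992 : nd 19992 = n52762 := ndS (p := 18056) (l := 4) rfl N18056 D52762
theorem N19993 : nd 19993 = n52763 := ndS (p := 18057) (l := 5) rfl N18057 D52763
theorem N19994 : nd 19994 = n52764 := ndS (p := 18059) (l := 8) rfl N18059 D52764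
theorem N19995 : nd 19995 = n52765 := ndS (p := 18062) (l := 3) rfl N18062 D52765
theorem N19996 : nd 19996 = n52766 := ndS (p := 18068) (l := 8) rfl N18068 D52766
theorem N19997 : nd 19997 = n52767 := ndS (p := 18070) (l := 8) rfl N18070 D52767
theorem N19998 : nd 19998 = n52768 := ndS (p := 18071) (l := 3) rfl N18071 D52768
theorem N19999 : nd 19999 = n52769 := ndS (p := 18074) (l := 3) rfl N18074 D52769
theorem N20000 : nd 20000 = n52770 := ndS (p := 18076) (l := 3) rfl N18076 D52770

end Cfsg.Agent.Helper17.Fi23TC
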