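import Cfsg.Agent.Helper17.Fi23TC.Fin2

set_option autoImplicit false
set_option linter.all false
set_option maxRecDepth 100000

noncomputable section

namespace Cfsg.Agent.Helper17.Fi23TC

theorem N20001 : nd 20001 = n52771 := ndS (p := 18087) (l := 8) rfl N18087 D52771
theorem N20002 : nd 20002 = n52772 := ndS (p := 18090) (l := 9) rfl N18090 D52772
theorem N20003 : nd 20003 = n52773 := ndS (p := 18091) (l := 8) rfl N18091 D52773
theorem N20004 : nd 20004 = n52774 := ndS (p := 18093) (l := 8) rfl N18093 D52774
theorem N20005 : nd 20005 = n52775 := ndS (p := 18096) (l := 4) rfl N18096 D52775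
theorem N20006 : nd 20006 = n52776 := ndS (p := 18100) (l := 8) rfl N18100 D52776
theorem N20007 : nd 20007 = n52777 := ndS (p := 18102) (l := 8) rfl N18102 D52777
theorem N20008 : nd 20008 = n52778 := ndS (p := 18103) (l := 3) rfl N18103 D52778
theorem N20009 : nd 20009 = n52779 := ndS (p := 18106) (l := 2) rfl N18106 D52779
theorem N20010 : nd 20010 = n52780 := ndS (p := 18108) (l := 9) rfl N18108 D52780
theorem N20011 : nd 20011 = n52781 := ndS (p := 18109) (l := 8) rfl N18109 D52781
theorem N20012 : nd 20012 = n52782 := ndS (p := 18110) (l := 9) rfl N18110 D52782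
theorem N20013 : nd 20013 = n52783 := ndS (p := 18111) (l := 8) rfl N18111 D52783
theorem N20014 : nd 20014 = n52784 := ndS (p := 18112) (l := 9) rfl N18112 D52784
theorem N20015 : nd 20015 = n52785 := ndS (p := 18113) (l := 8) rfl N18113 D52785
theorem N20016 : nd 20016 = n52786 := ndS (p := 18114) (l := 8) rfl N18114 D52786
theorem N20017 : nd 20017 = n52787 := ndS (p := 18117) (l := 3) rfl N18117 D52787
theorem N20018 : nd 20018 = n52788 := ndS (p := 18118) (l := 8) rfl N18118 D52788
theorem N20019 : nd 20019 = n52789 := ndS (p := 18122) (l := 8) rfl N18122 D52789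
theorem N20020 : nd 20020 = n52790 := ndS (p := 18123) (l := 8) rfl N18123 D52790
theorem N20021 : nd 20021 = n52791 := ndS (p := 18127) (l := 9) rfl N18127 D52791
theorem N20022 : nd 20022 = n52792 := ndS (p := 18128) (l := 8) rfl N18128 D52792
theorem N20023 : nd 20023 = n52793 := ndS (p := 18129) (l := 3) rfl N18129 D52793
theorem N20024 : nd 20024 = n52794 := ndS (p := 18131) (l := 3) rfl N18131 D52794
theorem N20025 : nd 20025 = n52795 := ndS (p := 18132) (l := 2) rfl N18132 D52795
theorem N20026 : nd 20026 = n52796 := ndS (p := 18133) (l := 4) rfl N18133 D52796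
theorem N20027 : nd 20027 = n52797 := ndS (p := 18133) (l := 9) rfl N18133 D52797
theorem N20028 : nd 20028 = n52798 := ndS (p := 18135) (l := 5) rfl N18135 D52798
theorem N20029 : nd 20029 = n52799 := ndS (p := 18135) (l := 9) rfl N18135 D52799
theorem N20030 : nd 20030 = n52800 := ndS (p := 18136) (l := 8) rfl N18136 D52800
theorem N20031 : nd 20031 = n52801 := ndS (p := 18139) (l := 8) rfl N18139 D52801
theorem N20032 : nd 20032 = n52802 := ndS (p := 18141) (l := 4) rfl N18141 D52802
theorem N20033 : nd 20033 = n52803 := ndS (p := 18141) (l := 9) rfl N18141 D52803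
theorem N20034 : nd 20034 = n52804 := ndS (p := 18143) (l := 4) rfl N18143 D52804
theorem N20035 : nd 20035 = n52805 := ndS (p := 18143) (l := 9) rfl N18143 D52805
theorem N20036 : nd 20036 = n52806 := ndS (p := 18144) (l := 5) rfl N18144 D52806
theorem N20037 : nd 20037 = n52807 := ndS (p := 18144) (l := 9) rfl N18144 D52807
theorem N20038 : nd 20038 = n52808 := ndS (p := 18145) (l := 8) rfl N18145 D52808
theorem N20039 : nd 20039 = n52809 := ndS (p := 18146) (l := 5) rfl N18146 D52809
theorem N20040 : nd 20040 = n52810 := ndS (p := 18146) (l := 9) rfl N18146 D52810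
theorem N20041 : nd 20041 = n52811 := ndS (p := 18147) (l := 8) rfl N18147 D52811
theorem N20042 : nd 20042 = n52812 := ndS (p := 18148) (l := 0) rfl N18148 D52812
theorem N20043 : nd 20043 = n52813 := ndS (p := 18148) (l := 4) rfl N18148 D52813
theorem N20044 : nd 20044 = n52814 := ndS (p := 18148) (l := 9) rfl N18148 D52814
theorem N20045 : nd 20045 = n52815 := ndS (p := 18149) (l := 5) rfl N18149 D52815
theorem N20046 : nd 20046 = n52816 := ndS (p := 18149) (l := 9) rfl N18149 D52816
theorem N20047 : nd 20047 = n52817 := ndS (p := 18150) (l := 8) rfl N18150 D52817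
theorem N20048 : nd 20048 = n52818 := ndS (p := 18151) (l := 9) rfl N18151 D52818
theorem N20049 : nd 20049 = n52819 := ndS (p := 18152) (l := 8) rfl N18152 D52819
theorem N20050 : nd 20050 = n52820 := ndS (p := 18154) (l := 9) rfl N18154 D52820
theorem N20051 : nd 20051 = n52821 := ndS (p := 18155) (l := 9) rfl N18155 D52821
theorem N20052 : nd 20052 = n52822 := ndS (p := 18156) (l := 8) rfl N18156 D52822
theorem N20053 : nd 20053 = n52823 := ndS (p := 18157) (l := 8) rfl N18157 D52823
theorem N20054 : nd 20054 = n52824 := ndS (p := 18159) (l := 3) rfl N18159 D52824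
theorem N20055 : nd 20055 = n52825 := ndS (p := 18160) (l := 9) rfl N18160 D52825
theorem N20056 : nd 20056 = n52826 := ndS (p := 18162) (l := 8) rfl N18162 D52826
theorem N20057 : nd 20057 = n52827 := ndS (p := 18163) (l := 3) rfl N18163 D52827
theorem N20058 : nd 20058 = n52828 := ndS (p := 18164) (l := 2) rfl N18164 D52828
theorem N20059 : nd 20059 = n52829 := ndS (p := 18166) (l := 9) rfl N18166 D52829
theorem N20060 : nd 20060 = n52830 := ndS (p := 18168) (l := 8) rfl N18168 D52830
theorem N20061 : nd 20061 = n52831 := ndS (p := 18172) (l := 4) rfl N18172 D52831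
theorem N20062 : nd 20062 = n52832 := ndS (p := 18172) (l := 9) rfl N18172 D52832
theorem N20063 : nd 20063 = n52833 := ndS (p := 18174) (l := 8) rfl N18174 D52833
theorem N20064 : nd 20064 = n52834 := ndS (p := 18175) (l := 8) rfl N18175 D52834
theorem N20065 : nd 20065 = n52835 := ndS (p := 18177) (l := 3) rfl N18177 D52835
theorem N20066 : nd 20066 = n52836 := ndS (p := 18178) (l := 9) rfl N18178 D52836
theorem N20067 : nd 20067 = n52837 := ndS (p := 18179) (l := 8) rfl N18179 D52837
theorem N20068 : nd 20068 = n52838 := ndS (p := 18181) (l := 9) rfl N18181 D52838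
theorem N20069 : nd 20069 = n52839 := ndS (p := 18182) (l := 8) rfl N18182 D52839
theorem N20070 : nd 20070 = n52840 := ndS (p := 18183) (l := 3) rfl N18183 D52840
theorem N20071 : nd 20071 = n52841 := ndS (p := 18188) (l := 4) rfl N18188 D52841
theorem N20072 : nd 20072 = n52842 := ndS (p := 18188) (l := 9) rfl N18188 D52842
theorem N20073 : nd 20073 = n52843 := ndS (p := 18190) (l := 5) rfl N18190 D52843
theorem N20074 : nd 20074 = n52844 := ndS (p := 18190) (l := 9) rfl N18190 D52844
theorem N20075 : nd 20075 = n52845 := ndS (p := 18191) (l := 8) rfl N18191 D52845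
theorem N20076 : nd 20076 = n52846 := ndS (p := 18192) (l := 8) rfl N18192 D52846
theorem N20077 : nd 20077 = n52847 := ndS (p := 18193) (l := 6) rfl N18193 D52847
theorem N20078 : nd 20078 = n52848 := ndS (p := 18193) (l := 9) rfl N18193 D52848
theorem N20079 : nd 20079 = n52849 := ndS (p := 18194) (l := 8) rfl N18194 D52849
theorem N20080 : nd 20080 = n52850 := ndS (p := 18196) (l := 9) rfl N18196 D52850
theorem N20081 : nd 20081 = n52851 := ndS (p := 18197) (l := 8) rfl N18197 D52851
theorem N20082 : nd 20082 = n52852 := ndS (p := 18198) (l := 3) rfl N18198 D52852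
theorem N20083 : nd 20083 = n52853 := ndS (p := 18199) (l := 9) rfl N18199 D52853
theorem N20084 : nd 20084 = n52854 := ndS (p := 18200) (l := 8) rfl N18200 D52854
theorem N20085 : nd 20085 = n52855 := ndS (p := 18201) (l := 9) rfl N18201 D52855
theorem N20086 : nd 20086 = n52856 := ndS (p := 18202) (l := 8) rfl N18202 D52856
theorem N20087 : nd 20087 = n52857 := ndS (p := 18203) (l := 6) rfl N18203 D52857
theorem N20088 : nd 20088 = n52858 := ndS (p := 18203) (l := 9) rfl N18203 D52858
theorem N20089 : nd 20089 = n52859 := ndS (p := 18204) (l := 8) rfl N18204 D52859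
theorem N20090 : nd 20090 = n52860 := ndS (p := 18208) (l := 7) rfl N18208 D52860
theorem N20091 : nd 20091 = n52861 := ndS (p := 18208) (l := 9) rfl N18208 D52861
theorem N20092 : nd 20092 = n52862 := ndS (p := 18209) (l := 8) rfl N18209 D52862
theorem N20093 : nd 20093 = n52863 := ndS (p := 18210) (l := 3) rfl N18210 D52863
theorem N20094 : nd 20094 = n52864 := ndS (p := 18212) (l := 9) rfl N18212 D52864
theorem N20095 : nd 20095 = n52865 := ndS (p := 18213) (l := 8) rfl N18213 D52865
theorem N20096 : nd 20096 = n52866 := ndS (p := 18215) (l := 9) rfl N18215 D52866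
theorem N20097 : nd 20097 = n52867 := ndS (p := 18216) (l := 8) rfl N18216 D52867
theorem N20098 : nd 20098 = n52868 := ndS (p := 18217) (l := 3) rfl N18217 D52868
theorem N20099 : nd 20099 = n52869 := ndS (p := 18218) (l := 2) rfl N18218 D52869
theorem N20100 : nd 20100 = n52870 := ndS (p := 18219) (l := 9) rfl N18219 D52870
theorem N20101 : nd 20101 = n52871 := ndS (p := 18220) (l := 8) rfl N18220 D52871
theorem N20102 : nd 20102 = n52872 := ndS (p := 18221) (l := 3) rfl N18221 D52872
theorem N20103 : nd 20103 = n52873 := ndS (p := 18222) (l := 2) rfl N18222 D52873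
theorem N20104 : nd 20104 = n52874 := ndS (p := 18224) (l := 3) rfl N18224 D52874
theorem N20105 : nd 20105 = n52875 := ndS (p := 18226) (l := 1) rfl N18226 D52875
theorem N20106 : nd 20106 = n52876 := ndS (p := 18227) (l := 3) rfl N18227 D52876
theorem N20107 : nd 20107 = n52877 := ndS (p := 18227) (l := 9) rfl N18227 D52877
theorem N20108 : nd 20108 = n52878 := ndS (p := 18228) (l := 2) rfl N18228 D52878
theorem N20109 : nd 20109 = n52879 := ndS (p := 18228) (l := 4) rfl N18228 D52879
theorem N20110 : nd 20110 = n52880 := ndS (p := 18228) (l := 9) rfl N18228 D52880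
theorem N20111 : nd 20111 = n52881 := ndS (p := 18230) (l := 3) rfl N18230 D52881
theorem N20112 : nd 20112 = n52882 := ndS (p := 18230) (l := 9) rfl N18230 D52882
theorem N20113 : nd 20113 = n52883 := ndS (p := 18231) (l := 2) rfl N18231 D52883
theorem N20114 : nd 20114 = n52884 := ndS (p := 18231) (l := 4) rfl N18231 D52884
theorem N20115 : nd 20115 = n52885 := ndS (p := 18231) (l := 9) rfl N18231 D52885
theorem N20116 : nd 20116 = n52886 := ndS (p := 18233) (l := 4) rfl N18233 D52886
theorem N20117 : nd 20117 = n52887 := ndS (p := 18233) (l := 9) rfl N18233 D52887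
theorem N20118 : nd 20118 = n52888 := ndS (p := 18234) (l := 5) rfl N18234 D52888
theorem N20119 : nd 20119 = n52889 := ndS (p := 18234) (l := 9) rfl N18234 D52889
theorem N20120 : nd 20120 = n52890 := ndS (p := 18235) (l := 8) rfl N18235 D52890
theorem N20121 : nd 20121 = n52891 := ndS (p := 18236) (l := 9) rfl N18236 D52891
theorem N20122 : nd 20122 = n52892 := ndS (p := 18237) (l := 5) rfl N18237 D52892
theorem N20123 : nd 20123 = n52893 := ndS (p := 18237) (l := 9) rfl N18237 D52893
theorem N20124 : nd 20124 = n52894 := ndS (p := 18238) (l := 8) rfl N18238 D52894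
theorem N20125 : nd 20125 = n52895 := ndS (p := 18239) (l := 8) rfl N18239 D52895
theorem N20126 : nd 20126 = n52896 := ndS (p := 18240) (l := 9) rfl N18240 D52896
theorem N20127 : nd 20127 = n52897 := ndS (p := 18241) (l := 8) rfl N18241 D52897
theorem N20128 : nd 20128 = n52898 := ndS (p := 18243) (l := 3) rfl N18243 D52898
theorem N20129 : nd 20129 = n52899 := ndS (p := 18244) (l := 3) rfl N18244 D52899
theorem N20130 : nd 20130 = n52900 := ndS (p := 18245) (l := 4) rfl N18245 D52900
theorem N20131 : nd 20131 = n52901 := ndS (p := 18245) (l := 9) rfl N18245 D52901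
theorem N20132 : nd 20132 = n52902 := ndS (p := 18247) (l := 4) rfl N18247 D52902
theorem N20133 : nd 20133 = n52903 := ndS (p := 18247) (l := 9) rfl N18247 D52903
theorem N20134 : nd 20134 = n52904 := ndS (p := 18248) (l := 5) rfl N18248 D52904
theorem N20135 : nd 20135 = n52905 := ndS (p := 18248) (l := 9) rfl N18248 D52905
theorem N20136 : nd 20136 = n52906 := ndS (p := 18249) (l := 8) rfl N18249 D52906
theorem N20137 : nd 20137 = n52907 := ndS (p := 18250) (l := 4) rfl N18250 D52907
theorem N20138 : nd 20138 = n52908 := ndS (p := 18250) (l := 9) rfl N18250 D52908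
theorem N20139 : nd 20139 = n52909 := ndS (p := 18251) (l := 3) rfl N18251 D52909
theorem N20140 : nd 20140 = n52910 := ndS (p := 18251) (l := 5) rfl N18251 D52910
theorem N20141 : nd 20141 = n52911 := ndS (p := 18251) (l := 9) rfl N18251 D52911
theorem N20142 : nd 20142 = n52912 := ndS (p := 18252) (l := 8) rfl N18252 D52912
theorem N20143 : nd 20143 = n52913 := ndS (p := 18253) (l := 9) rfl N18253 D52913
theorem N20144 : nd 20144 = n52914 := ndS (p := 18254) (l := 8) rfl N18254 D52914
theorem N20145 : nd 20145 = n52915 := ndS (p := 18256) (l := 5) rfl N18256 D52915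
theorem N20146 : nd 20146 = n52916 := ndS (p := 18256) (l := 9) rfl N18256 D52916
theorem N20147 : nd 20147 = n52917 := ndS (p := 18257) (l := 8) rfl N18257 D52917
theorem N20148 : nd 20148 = n52918 := ndS (p := 18258) (l := 6) rfl N18258 D52918
theorem N20149 : nd 20149 = n52919 := ndS (p := 18258) (l := 9) rfl N18258 D52919
theorem N20150 : nd 20150 = n52920 := ndS (p := 18259) (l := 8) rfl N18259 D52920
theorem N20151 : nd 20151 = n52921 := ndS (p := 18261) (l := 8) rfl N18261 D52921
theorem N20152 : nd 20152 = n52922 := ndS (p := 18262) (l := 9) rfl N18262 D52922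
theorem N20153 : nd 20153 = n52923 := ndS (p := 18263) (l := 8) rfl N18263 D52923
theorem N20154 : nd 20154 = n52924 := ndS (p := 18264) (l := 3) rfl N18264 D52924
theorem N20155 : nd 20155 = n52925 := ndS (p := 18265) (l := 8) rfl N18265 D52925
theorem N20156 : nd 20156 = n52926 := ndS (p := 18266) (l := 3) rfl N18266 D52926
theorem N20157 : nd 20157 = n52927 := ndS (p := 18267) (l := 3) rfl N18267 D52927
theorem N20158 : nd 20158 = n52928 := ndS (p := 18268) (l := 3) rfl N18268 D52928
theorem N20159 : nd 20159 = n52929 := ndS (p := 18269) (l := 4) rfl N18269 D52929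
theorem N20160 : nd 20160 = n52930 := ndS (p := 18270) (l := 2) rfl N18270 D52930
theorem N20161 : nd 20161 = n52931 := ndS (p := 18271) (l := 9) rfl N18271 D52931
theorem N20162 : nd 20162 = n52932 := ndS (p := 18272) (l := 8) rfl N18272 D52932
theorem N20163 : nd 20163 = n52933 := ndS (p := 18273) (l := 3) rfl N18273 D52933
theorem N20164 : nd 20164 = n52934 := ndS (p := 18274) (l := 3) rfl N18274 D52934
theorem N20165 : nd 20165 = n52935 := ndS (p := 18275) (l := 2) rfl N18275 D52935
theorem N20166 : nd 20166 = n52936 := ndS (p := 18276) (l := 1) rfl N18276 D52936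
theorem N20167 : nd 20167 = n52937 := ndS (p := 18277) (l := 8) rfl N18277 D52937
theorem N20168 : nd 20168 = n52938 := ndS (p := 18279) (l := 3) rfl N18279 D52938
theorem N20169 : nd 20169 = n52939 := ndS (p := 18279) (l := 9) rfl N18279 D52939
theorem N20170 : nd 20170 = n52940 := ndS (p := 18280) (l := 8) rfl N18280 D52940
theorem N20171 : nd 20171 = n52941 := ndS (p := 18281) (l := 8) rfl N18281 D52941
theorem N20172 : nd 20172 = n52942 := ndS (p := 18281) (l := 9) rfl N18281 D52942
theorem N20173 : nd 20173 = n52943 := ndS (p := 18282) (l := 8) rfl N18282 D52943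
theorem N20174 : nd 20174 = n52944 := ndS (p := 18283) (l := 3) rfl N18283 D52944
theorem N20175 : nd 20175 = n52945 := ndS (p := 18285) (l := 3) rfl N18285 D52945
theorem N20176 : nd 20176 = n52946 := ndS (p := 18286) (l := 3) rfl N18286 D52946
theorem N20177 : nd 20177 = n52947 := ndS (p := 18287) (l := 4) rfl N18287 D52947
theorem N20178 : nd 20178 = n52948 := ndS (p := 18292) (l := 8) rfl N18292 D52948
theorem N20179 : nd 20179 = n52949 := ndS (p := 18293) (l := 3) rfl N18293 D52949
theorem N20180 : nd 20180 = n52950 := ndS (p := 18299) (l := 3) rfl N18299 D52950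
theorem N20181 : nd 20181 = n52951 := ndS (p := 18299) (l := 9) rfl N18299 D52951
theorem N20182 : nd 20182 = n52952 := ndS (p := 18300) (l := 4) rfl N18300 D52952
theorem N20183 : nd 20183 = n52953 := ndS (p := 18300) (l := 9) rfl N18300 D52953
theorem N20184 : nd 20184 = n52954 := ndS (p := 18302) (l := 9) rfl N18302 D52954
theorem N20185 : nd 20185 = n52955 := ndS (p := 18304) (l := 8) rfl N18304 D52955
theorem N20186 : nd 20186 = n52956 := ndS (p := 18306) (l := 3) rfl N18306 D52956
theorem N20187 : nd 20187 = n52957 := ndS (p := 18306) (l := 9) rfl N18306 D52957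
theorem N20188 : nd 20188 = n52958 := ndS (p := 18307) (l := 2) rfl N18307 D52958
theorem N20189 : nd 20189 = n52959 := ndS (p := 18307) (l := 4) rfl N18307 D52959
theorem N20190 : nd 20190 = n52960 := ndS (p := 18307) (l := 9) rfl N18307 D52960
theorem N20191 : nd 20191 = n52961 := ndS (p := 18309) (l := 4) rfl N18309 D52961
theorem N20192 : nd 20192 = n52962 := ndS (p := 18309) (l := 9) rfl N18309 D52962
theorem N20193 : nd 20193 = n52963 := ndS (p := 18310) (l := 5) rfl N18310 D52963
theorem N20194 : nd 20194 = n52964 := ndS (p := 18310) (l := 9) rfl N18310 D52964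
theorem N20195 : nd 20195 = n52965 := ndS (p := 18311) (l := 8) rfl N18311 D52965
theorem N20196 : nd 20196 = n52966 := ndS (p := 18312) (l := 9) rfl N18312 D52966
theorem N20197 : nd 20197 = n52967 := ndS (p := 18313) (l := 8) rfl N18313 D52967
theorem N20198 : nd 20198 = n52968 := ndS (p := 18314) (l := 8) rfl N18314 D52968
theorem N20199 : nd 20199 = n52969 := ndS (p := 18315) (l := 9) rfl N18315 D52969
theorem N20200 : nd 20200 = n52970 := ndS (p := 18316) (l := 8) rfl N18316 D52970
theorem N20201 : nd 20201 = n52971 := ndS (p := 18318) (l := 3) rfl N18318 D52971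
theorem N20202 : nd 20202 = n52972 := ndS (p := 18319) (l := 3) rfl N18319 D52972
theorem N20203 : nd 20203 = n52973 := ndS (p := 18320) (l := 8) rfl N18320 D52973
theorem N20204 : nd 20204 = n52974 := ndS (p := 18321) (l := 3) rfl N18321 D52974
theorem N20205 : nd 20205 = n52975 := ndS (p := 18323) (l := 4) rfl N18323 D52975
theorem N20206 : nd 20206 = n52976 := ndS (p := 18323) (l := 9) rfl N18323 D52976
theorem N20207 : nd 20207 = n52977 := ndS (p := 18325) (l := 4) rfl N18325 D52977
theorem N20208 : nd 20208 = n52978 := ndS (p := 18325) (l := 9) rfl N18325 D52978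
theorem N20209 : nd 20209 = n52979 := ndS (p := 18327) (l := 4) rfl N18327 D52979
theorem N20210 : nd 20210 = n52980 := ndS (p := 18327) (l := 9) rfl N18327 D52980
theorem N20211 : nd 20211 = n52981 := ndS (p := 18328) (l := 5) rfl N18328 D52981
theorem N20212 : nd 20212 = n52982 := ndS (p := 18328) (l := 9) rfl N18328 D52982
theorem N20213 : nd 20213 = n52983 := ndS (p := 18329) (l := 8) rfl N18329 D52983
theorem N20214 : nd 20214 = n52984 := ndS (p := 18330) (l := 8) rfl N18330 D52984
theorem N20215 : nd 20215 = n52985 := ndS (p := 18331) (l := 8) rfl N18331 D52985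
theorem N20216 : nd 20216 = n52986 := ndS (p := 18332) (l := 9) rfl N18332 D52986
theorem N20217 : nd 20217 = n52987 := ndS (p := 18333) (l := 8) rfl N18333 D52987
theorem N20218 : nd 20218 = n52988 := ndS (p := 18335) (l := 3) rfl N18335 D52988
theorem N20219 : nd 20219 = n52989 := ndS (p := 18336) (l := 3) rfl N18336 D52989
theorem N20220 : nd 20220 = n52990 := ndS (p := 18337) (l := 4) rfl N18337 D52990
theorem N20221 : nd 20221 = n52991 := ndS (p := 18337) (l := 9) rfl N18337 D52991
theorem N20222 : nd 20222 = n52992 := ndS (p := 18339) (l := 9) rfl N18339 D52992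
theorem N20223 : nd 20223 = n52993 := ndS (p := 18340) (l := 8) rfl N18340 D52993
theorem N20224 : nd 20224 = n52994 := ndS (p := 18341) (l := 9) rfl N18341 D52994
theorem N20225 : nd 20225 = n52995 := ndS (p := 18342) (l := 8) rfl N18342 D52995
theorem N20226 : nd 20226 = n52996 := ndS (p := 18343) (l := 6) rfl N18343 D52996
theorem N20227 : nd 20227 = n52997 := ndS (p := 18343) (l := 9) rfl N18343 D52997
theorem N20228 : nd 20228 = n52998 := ndS (p := 18344) (l := 8) rfl N18344 D52998
theorem N20229 : nd 20229 = n52999 := ndS (p := 18347) (l := 3) rfl N18347 D52999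
theorem N20230 : nd 20230 = n53000 := ndS (p := 18348) (l := 7) rfl N18348 D53000
theorem N20231 : nd 20231 = n53001 := ndS (p := 18348) (l := 9) rfl N18348 D53001
theorem N20232 : nd 20232 = n53002 := ndS (p := 18349) (l := 8) rfl N18349 D53002
theorem N20233 : nd 20233 = n53003 := ndS (p := 18350) (l := 3) rfl N18350 D53003
theorem N20234 : nd 20234 = n53004 := ndS (p := 18352) (l := 9) rfl N18352 D53004
theorem N20235 : nd 20235 = n53005 := ndS (p := 18353) (l := 8) rfl N18353 D53005
theorem N20236 : nd 20236 = n53006 := ndS (p := 18354) (l := 3) rfl N18354 D53006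
theorem N20237 : nd 20237 = n53007 := ndS (p := 18356) (l := 9) rfl N18356 D53007
theorem N20238 : nd 20238 = n53008 := ndS (p := 18357) (l := 8) rfl N18357 D53008
theorem N20239 : nd 20239 = n53009 := ndS (p := 18358) (l := 3) rfl N18358 D53009
theorem N20240 : nd 20240 = n53010 := ndS (p := 18360) (l := 8) rfl N18360 D53010
theorem N20241 : nd 20241 = n53011 := ndS (p := 18361) (l := 3) rfl N18361 D53011
theorem N20242 : nd 20242 = n53012 := ndS (p := 18364) (l := 3) rfl N18364 D53012
theorem N20243 : nd 20243 = n53013 := ndS (p := 18366) (l := 2) rfl N18366 D53013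
theorem N20244 : nd 20244 = n53014 := ndS (p := 18366) (l := 4) rfl N18366 D53014
theorem N20245 : nd 20245 = n53015 := ndS (p := 18366) (l := 9) rfl N18366 D53015
theorem N20246 : nd 20246 = n53016 := ndS (p := 18368) (l := 1) rfl N18368 D53016
theorem N20247 : nd 20247 = n53017 := ndS (p := 18368) (l := 4) rfl N18368 D53017
theorem N20248 : nd 20248 = n53018 := ndS (p := 18368) (l := 9) rfl N18368 D53018
theorem N20249 : nd 20249 = n53019 := ndS (p := 18369) (l := 5) rfl N18369 D53019
theorem N20250 : nd 20250 = n53020 := ndS (p := 18369) (l := 9) rfl N18369 D53020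
theorem N20251 : nd 20251 = n53021 := ndS (p := 18370) (l := 8) rfl N18370 D53021
theorem N20252 : nd 20252 = n53022 := ndS (p := 18371) (l := 4) rfl N18371 D53022
theorem N20253 : nd 20253 = n53023 := ndS (p := 18371) (l := 9) rfl N18371 D53023
theorem N20254 : nd 20254 = n53024 := ndS (p := 18373) (l := 1) rfl N18373 D53024
theorem N20255 : nd 20255 = n53025 := ndS (p := 18373) (l := 4) rfl N18373 D53025
theorem N20256 : nd 20256 = n53026 := ndS (p := 18373) (l := 9) rfl N18373 D53026
theorem N20257 : nd 20257 = n53027 := ndS (p := 18374) (l := 5) rfl N18374 D53027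
theorem N20258 : nd 20258 = n53028 := ndS (p := 18374) (l := 9) rfl N18374 D53028
theorem N20259 : nd 20259 = n53029 := ndS (p := 18375) (l := 8) rfl N18375 D53029
theorem N20260 : nd 20260 = n53030 := ndS (p := 18376) (l := 4) rfl N18376 D53030
theorem N20261 : nd 20261 = n53031 := ndS (p := 18376) (l := 9) rfl N18376 D53031
theorem N20262 : nd 20262 = n53032 := ndS (p := 18377) (l := 3) rfl N18377 D53032
theorem N20263 : nd 20263 = n53033 := ndS (p := 18377) (l := 5) rfl N18377 D53033
theorem N20264 : nd 20264 = n53034 := ndS (p := 18377) (l := 9) rfl N18377 D53034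
theorem N20265 : nd 20265 = n53035 := ndS (p := 18378) (l := 8) rfl N18378 D53035
theorem N20266 : nd 20266 = n53036 := ndS (p := 18379) (l := 6) rfl N18379 D53036
theorem N20267 : nd 20267 = n53037 := ndS (p := 18379) (l := 9) rfl N18379 D53037
theorem N20268 : nd 20268 = n53038 := ndS (p := 18380) (l := 8) rfl N18380 D53038
theorem N20269 : nd 20269 = n53039 := ndS (p := 18382) (l := 9) rfl N18382 D53039
theorem N20270 : nd 20270 = n53040 := ndS (p := 18383) (l := 8) rfl N18383 D53040
theorem N20271 : nd 20271 = n53041 := ndS (p := 18384) (l := 6) rfl N18384 D53041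
theorem N20272 : nd 20272 = n53042 := ndS (p := 18384) (l := 9) rfl N18384 D53042
theorem N20273 : nd 20273 = n53043 := ndS (p := 18385) (l := 8) rfl N18385 D53043
theorem N20274 : nd 20274 = n53044 := ndS (p := 18387) (l := 8) rfl N18387 D53044
theorem N20275 : nd 20275 = n53045 := ndS (p := 18388) (l := 9) rfl N18388 D53045
theorem N20276 : nd 20276 = n53046 := ndS (p := 18389) (l := 8) rfl N18389 D53046
theorem N20277 : nd 20277 = n53047 := ndS (p := 18390) (l := 3) rfl N18390 D53047
theorem N20278 : nd 20278 = n53048 := ndS (p := 18391) (l := 7) rfl N18391 D53048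
theorem N20279 : nd 20279 = n53049 := ndS (p := 18391) (l := 9) rfl N18391 D53049
theorem N20280 : nd 20280 = n53050 := ndS (p := 18392) (l := 8) rfl N18392 D53050
theorem N20281 : nd 20281 = n53051 := ndS (p := 18393) (l := 3) rfl N18393 D53051
theorem N20282 : nd 20282 = n53052 := ndS (p := 18394) (l := 3) rfl N18394 D53052
theorem N20283 : nd 20283 = n53053 := ndS (p := 18396) (l := 4) rfl N18396 D53053
theorem N20284 : nd 20284 = n53054 := ndS (p := 18397) (l := 9) rfl N18397 D53054
theorem N20285 : nd 20285 = n53055 := ndS (p := 18398) (l := 8) rfl N18398 D53055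
theorem N20286 : nd 20286 = n53056 := ndS (p := 18399) (l := 3) rfl N18399 D53056
theorem N20287 : nd 20287 = n53057 := ndS (p := 18400) (l := 2) rfl N18400 D53057
theorem N20288 : nd 20288 = n53058 := ndS (p := 18401) (l := 5) rfl N18401 D53058
theorem N20289 : nd 20289 = n53059 := ndS (p := 18401) (l := 9) rfl N18401 D53059
theorem N20290 : nd 20290 = n53060 := ndS (p := 18402) (l := 8) rfl N18402 D53060
theorem N20291 : nd 20291 = n53061 := ndS (p := 18403) (l := 0) rfl N18403 D53061
theorem N20292 : nd 20292 = n53062 := ndS (p := 18403) (l := 4) rfl N18403 D53062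
theorem N20293 : nd 20293 = n53063 := ndS (p := 18403) (l := 9) rfl N18403 D53063
theorem N20294 : nd 20294 = n53064 := ndS (p := 18404) (l := 9) rfl N18404 D53064
theorem N20295 : nd 20295 = n53065 := ndS (p := 18405) (l := 8) rfl N18405 D53065
theorem N20296 : nd 20296 = n53066 := ndS (p := 18406) (l := 6) rfl N18406 D53066
theorem N20297 : nd 20297 = n53067 := ndS (p := 18406) (l := 9) rfl N18406 D53067
theorem N20298 : nd 20298 = n53068 := ndS (p := 18407) (l := 8) rfl N18407 D53068
theorem N20299 : nd 20299 = n53069 := ndS (p := 18409) (l := 4) rfl N18409 D53069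
theorem N20300 : nd 20300 = n53070 := ndS (p := 18409) (l := 9) rfl N18409 D53070
theorem N20301 : nd 20301 = n53071 := ndS (p := 18410) (l := 3) rfl N18410 D53071
theorem N20302 : nd 20302 = n53072 := ndS (p := 18410) (l := 5) rfl N18410 D53072
theorem N20303 : nd 20303 = n53073 := ndS (p := 18410) (l := 9) rfl N18410 D53073
theorem N20304 : nd 20304 = n53074 := ndS (p := 18411) (l := 8) rfl N18411 D53074
theorem N20305 : nd 20305 = n53075 := ndS (p := 18412) (l := 8) rfl N18412 D53075
theorem N20306 : nd 20306 = n53076 := ndS (p := 18412) (l := 9) rfl N18412 D53076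
theorem N20307 : nd 20307 = n53077 := ndS (p := 18413) (l := 6) rfl N18413 D53077
theorem N20308 : nd 20308 = n53078 := ndS (p := 18413) (l := 9) rfl N18413 D53078
theorem N20309 : nd 20309 = n53079 := ndS (p := 18414) (l := 8) rfl N18414 D53079
theorem N20310 : nd 20310 = n53080 := ndS (p := 18415) (l := 3) rfl N18415 D53080
theorem N20311 : nd 20311 = n53081 := ndS (p := 18416) (l := 7) rfl N18416 D53081
theorem N20312 : nd 20312 = n53082 := ndS (p := 18416) (l := 9) rfl N18416 D53082
theorem N20313 : nd 20313 = n53083 := ndS (p := 18417) (l := 8) rfl N18417 D53083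
theorem N20314 : nd 20314 = n53084 := ndS (p := 18418) (l := 3) rfl N18418 D53084
theorem N20315 : nd 20315 = n53085 := ndS (p := 18419) (l := 9) rfl N18419 D53085
theorem N20316 : nd 20316 = n53086 := ndS (p := 18420) (l := 8) rfl N18420 D53086
theorem N20317 : nd 20317 = n53087 := ndS (p := 18421) (l := 3) rfl N18421 D53087
theorem N20318 : nd 20318 = n53088 := ndS (p := 18422) (l := 7) rfl N18422 D53088
theorem N20319 : nd 20319 = n53089 := ndS (p := 18422) (l := 9) rfl N18422 D53089
theorem N20320 : nd 20320 = n53090 := ndS (p := 18423) (l := 8) rfl N18423 D53090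
theorem N20321 : nd 20321 = n53091 := ndS (p := 18424) (l := 3) rfl N18424 D53091
theorem N20322 : nd 20322 = n53092 := ndS (p := 18425) (l := 8) rfl N18425 D53092
theorem N20323 : nd 20323 = n53093 := ndS (p := 18426) (l := 9) rfl N18426 D53093
theorem N20324 : nd 20324 = n53094 := ndS (p := 18427) (l := 8) rfl N18427 D53094
theorem N20325 : nd 20325 = n53095 := ndS (p := 18428) (l := 3) rfl N18428 D53095
theorem N20326 : nd 20326 = n53096 := ndS (p := 18429) (l := 7) rfl N18429 D53096
theorem N20327 : nd 20327 = n53097 := ndS (p := 18429) (l := 9) rfl N18429 D53097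
theorem N20328 : nd 20328 = n53098 := ndS (p := 18430) (l := 8) rfl N18430 D53098
theorem N20329 : nd 20329 = n53099 := ndS (p := 18432) (l := 4) rfl N18432 D53099
theorem N20330 : nd 20330 = n53100 := ndS (p := 18433) (l := 9) rfl N18433 D53100
theorem N20331 : nd 20331 = n53101 := ndS (p := 18434) (l := 8) rfl N18434 D53101
theorem N20332 : nd 20332 = n53102 := ndS (p := 18435) (l := 3) rfl N18435 D53102
theorem N20333 : nd 20333 = n53103 := ndS (p := 18436) (l := 2) rfl N18436 D53103
theorem N20334 : nd 20334 = n53104 := ndS (p := 18437) (l := 3) rfl N18437 D53104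
theorem N20335 : nd 20335 = n53105 := ndS (p := 18439) (l := 4) rfl N18439 D53105
theorem N20336 : nd 20336 = n53106 := ndS (p := 18440) (l := 9) rfl N18440 D53106
theorem N20337 : nd 20337 = n53107 := ndS (p := 18441) (l := 8) rfl N18441 D53107
theorem N20338 : nd 20338 = n53108 := ndS (p := 18443) (l := 5) rfl N18443 D53108
theorem N20339 : nd 20339 = n53109 := ndS (p := 18444) (l := 8) rfl N18444 D53109
theorem N20340 : nd 20340 = n53110 := ndS (p := 18445) (l := 3) rfl N18445 D53110
theorem N20341 : nd 20341 = n53111 := ndS (p := 18447) (l := 1) rfl N18447 D53111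
theorem N20342 : nd 20342 = n53112 := ndS (p := 18448) (l := 9) rfl N18448 D53112
theorem N20343 : nd 20343 = n53113 := ndS (p := 18449) (l := 8) rfl N18449 D53113
theorem N20344 : nd 20344 = n53114 := ndS (p := 18450) (l := 3) rfl N18450 D53114
theorem N20345 : nd 20345 = n53115 := ndS (p := 18451) (l := 2) rfl N18451 D53115
theorem N20346 : nd 20346 = n53116 := ndS (p := 18452) (l := 8) rfl N18452 D53116
theorem N20347 : nd 20347 = n53117 := ndS (p := 18453) (l := 3) rfl N18453 D53117
theorem N20348 : nd 20348 = n53118 := ndS (p := 18454) (l := 2) rfl N18454 D53118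
theorem N20349 : nd 20349 = n53119 := ndS (p := 18454) (l := 4) rfl N18454 D53119
theorem N20350 : nd 20350 = n53120 := ndS (p := 18455) (l := 1) rfl N18455 D53120
theorem N20351 : nd 20351 = n53121 := ndS (p := 18456) (l := 3) rfl N18456 D53121
theorem N20352 : nd 20352 = n53122 := ndS (p := 18457) (l := 2) rfl N18457 D53122
theorem N20353 : nd 20353 = n53123 := ndS (p := 18460) (l := 9) rfl N18460 D53123
theorem N20354 : nd 20354 = n53124 := ndS (p := 18461) (l := 8) rfl N18461 D53124
theorem N20355 : nd 20355 = n53125 := ndS (p := 18462) (l := 3) rfl N18462 D53125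
theorem N20356 : nd 20356 = n53126 := ndS (p := 18463) (l := 3) rfl N18463 D53126
theorem N20357 : nd 20357 = n53127 := ndS (p := 18463) (l := 9) rfl N18463 D53127
theorem N20358 : nd 20358 = n53128 := ndS (p := 18464) (l := 8) rfl N18464 D53128
theorem N20359 : nd 20359 = n53129 := ndS (p := 18465) (l := 8) rfl N18465 D53129
theorem N20360 : nd 20360 = n53130 := ndS (p := 18465) (l := 9) rfl N18465 D53130
theorem N20361 : nd 20361 = n53131 := ndS (p := 18466) (l := 8) rfl N18466 D53131
theorem N20362 : nd 20362 = n53132 := ndS (p := 18467) (l := 3) rfl N18467 D53132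
theorem N20363 : nd 20363 = n53133 := ndS (p := 18468) (l := 9) rfl N18468 D53133
theorem N20364 : nd 20364 = n53134 := ndS (p := 18469) (l := 8) rfl N18469 D53134
theorem N20365 : nd 20365 = n53135 := ndS (p := 18470) (l := 3) rfl N18470 D53135
theorem N20366 : nd 20366 = n53136 := ndS (p := 18471) (l := 4) rfl N18471 D53136
theorem N20367 : nd 20367 = n53137 := ndS (p := 18472) (l := 8) rfl N18472 D53137
theorem N20368 : nd 20368 = n53138 := ndS (p := 18473) (l := 3) rfl N18473 D53138
theorem N20369 : nd 20369 = n53139 := ndS (p := 18474) (l := 4) rfl N18474 D53139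
theorem N20370 : nd 20370 = n53140 := ndS (p := 18476) (l := 4) rfl N18476 D53140
theorem N20371 : nd 20371 = n53141 := ndS (p := 18477) (l := 5) rfl N18477 D53141
theorem N20372 : nd 20372 = n53142 := ndS (p := 18479) (l := 6) rfl N18479 D53142
theorem N20373 : nd 20373 = n53143 := ndS (p := 18480) (l := 8) rfl N18480 D53143
theorem N20374 : nd 20374 = n53144 := ndS (p := 18481) (l := 3) rfl N18481 D53144
theorem N20375 : nd 20375 = n53145 := ndS (p := 18483) (l := 8) rfl N18483 D53145
theorem N20376 : nd 20376 = n53146 := ndS (p := 18497) (l := 9) rfl N18497 D53146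
theorem N20377 : nd 20377 = n53147 := ndS (p := 18499) (l := 8) rfl N18499 D53147
theorem N20378 : nd 20378 = n53148 := ndS (p := 18500) (l := 9) rfl N18500 D53148
theorem N20379 : nd 20379 = n53149 := ndS (p := 18502) (l := 9) rfl N18502 D53149
theorem N20380 : nd 20380 = n53150 := ndS (p := 18503) (l := 9) rfl N18503 D53150
theorem N20381 : nd 20381 = n53151 := ndS (p := 18504) (l := 8) rfl N18504 D53151
theorem N20382 : nd 20382 = n53152 := ndS (p := 18506) (l := 9) rfl N18506 D53152
theorem N20383 : nd 20383 = n53153 := ndS (p := 18509) (l := 8) rfl N18509 D53153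
theorem N20384 : nd 20384 = n53154 := ndS (p := 18510) (l := 8) rfl N18510 D53154
theorem N20385 : nd 20385 = n53155 := ndS (p := 18511) (l := 8) rfl N18511 D53155
theorem N20386 : nd 20386 = n53156 := ndS (p := 18513) (l := 3) rfl N18513 D53156
theorem N20387 : nd 20387 = n53157 := ndS (p := 18514) (l := 3) rfl N18514 D53157
theorem N20388 : nd 20388 = n53158 := ndS (p := 18515) (l := 8) rfl N18515 D53158
theorem N20389 : nd 20389 = n53159 := ndS (p := 18516) (l := 9) rfl N18516 D53159
theorem N20390 : nd 20390 = n53160 := ndS (p := 18517) (l := 8) rfl N18517 D53160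
theorem N20391 : nd 20391 = n53161 := ndS (p := 18518) (l := 9) rfl N18518 D53161
theorem N20392 : nd 20392 = n53162 := ndS (p := 18519) (l := 8) rfl N18519 D53162
theorem N20393 : nd 20393 = n53163 := ndS (p := 18521) (l := 8) rfl N18521 D53163
theorem N20394 : nd 20394 = n53164 := ndS (p := 18522) (l := 8) rfl N18522 D53164
theorem N20395 : nd 20395 = n53165 := ndS (p := 18524) (l := 8) rfl N18524 D53165
theorem N20396 : nd 20396 = n53166 := ndS (p := 18525) (l := 3) rfl N18525 D53166
theorem N20397 : nd 20397 = n53167 := ndS (p := 18526) (l := 8) rfl N18526 D53167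
theorem N20398 : nd 20398 = n53168 := ndS (p := 18527) (l := 3) rfl N18527 D53168
theorem N20399 : nd 20399 = n53169 := ndS (p := 18528) (l := 3) rfl N18528 D53169
theorem N20400 : nd 20400 = n53170 := ndS (p := 18529) (l := 2) rfl N18529 D53170
theorem N20401 : nd 20401 = n53171 := ndS (p := 18530) (l := 3) rfl N18530 D53171
theorem N20402 : nd 20402 = n53172 := ndS (p := 18531) (l := 4) rfl N18531 D53172
theorem N20403 : nd 20403 = n53173 := ndS (p := 18533) (l := 8) rfl N18533 D53173
theorem N20404 : nd 20404 = n53174 := ndS (p := 18534) (l := 8) rfl N18534 D53174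
theorem N20405 : nd 20405 = n53175 := ndS (p := 18535) (l := 9) rfl N18535 D53175
theorem N20406 : nd 20406 = n53176 := ndS (p := 18536) (l := 8) rfl N18536 D53176
theorem N20407 : nd 20407 = n53177 := ndS (p := 18538) (l := 9) rfl N18538 D53177
theorem N20408 : nd 20408 = n53178 := ndS (p := 18540) (l := 9) rfl N18540 D53178
theorem N20409 : nd 20409 = n53179 := ndS (p := 18541) (l := 8) rfl N18541 D53179
theorem N20410 : nd 20410 = n53180 := ndS (p := 18542) (l := 9) rfl N18542 D53180
theorem N20411 : nd 20411 = n53181 := ndS (p := 18543) (l := 9) rfl N18543 D53181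
theorem N20412 : nd 20412 = n53182 := ndS (p := 18544) (l := 8) rfl N18544 D53182
theorem N20413 : nd 20413 = n53183 := ndS (p := 18545) (l := 8) rfl N18545 D53183
theorem N20414 : nd 20414 = n53184 := ndS (p := 18547) (l := 8) rfl N18547 D53184
theorem N20415 : nd 20415 = n53185 := ndS (p := 18548) (l := 8) rfl N18548 D53185
theorem N20416 : nd 20416 = n53186 := ndS (p := 18549) (l := 8) rfl N18549 D53186
theorem N20417 : nd 20417 = n53187 := ndS (p := 18550) (l := 9) rfl N18550 D53187
theorem N20418 : nd 20418 = n53188 := ndS (p := 18551) (l := 8) rfl N18551 D53188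
theorem N20419 : nd 20419 = n53189 := ndS (p := 18553) (l := 8) rfl N18553 D53189
theorem N20420 : nd 20420 = n53190 := ndS (p := 18554) (l := 8) rfl N18554 D53190
theorem N20421 : nd 20421 = n53191 := ndS (p := 18555) (l := 3) rfl N18555 D53191
theorem N20422 : nd 20422 = n53192 := ndS (p := 18556) (l := 3) rfl N18556 D53192
theorem N20423 : nd 20423 = n53193 := ndS (p := 18557) (l := 8) rfl N18557 D53193
theorem N20424 : nd 20424 = n53194 := ndS (p := 18559) (l := 2) rfl N18559 D53194
theorem N20425 : nd 20425 = n53195 := ndS (p := 18562) (l := 3) rfl N18562 D53195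
theorem N20426 : nd 20426 = n53196 := ndS (p := 18563) (l := 4) rfl N18563 D53196
theorem N20427 : nd 20427 = n53197 := ndS (p := 18564) (l := 8) rfl N18564 D53197
theorem N20428 : nd 20428 = n53198 := ndS (p := 18565) (l := 8) rfl N18565 D53198
theorem N20429 : nd 20429 = n53199 := ndS (p := 18566) (l := 8) rfl N18566 D53199
theorem N20430 : nd 20430 = n53200 := ndS (p := 18567) (l := 8) rfl N18567 D53200
theorem N20431 : nd 20431 = n53201 := ndS (p := 18569) (l := 8) rfl N18569 D53201
theorem N20432 : nd 20432 = n53202 := ndS (p := 18570) (l := 8) rfl N18570 D53202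
theorem N20433 : nd 20433 = n53203 := ndS (p := 18571) (l := 3) rfl N18571 D53203
theorem N20434 : nd 20434 = n53204 := ndS (p := 18572) (l := 8) rfl N18572 D53204
theorem N20435 : nd 20435 = n53205 := ndS (p := 18573) (l := 3) rfl N18573 D53205
theorem N20436 : nd 20436 = n53206 := ndS (p := 18574) (l := 8) rfl N18574 D53206
theorem N20437 : nd 20437 = n53207 := ndS (p := 18577) (l := 8) rfl N18577 D53207
theorem N20438 : nd 20438 = n53208 := ndS (p := 18578) (l := 3) rfl N18578 D53208
theorem N20439 : nd 20439 = n53209 := ndS (p := 18579) (l := 3) rfl N18579 D53209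
theorem N20440 : nd 20440 = n53210 := ndS (p := 18580) (l := 8) rfl N18580 D53210
theorem N20441 : nd 20441 = n53211 := ndS (p := 18581) (l := 8) rfl N18581 D53211
theorem N20442 : nd 20442 = n53212 := ndS (p := 18582) (l := 3) rfl N18582 D53212
theorem N20443 : nd 20443 = n53213 := ndS (p := 18583) (l := 8) rfl N18583 D53213
theorem N20444 : nd 20444 = n53214 := ndS (p := 18584) (l := 3) rfl N18584 D53214
theorem N20445 : nd 20445 = n53215 := ndS (p := 18585) (l := 4) rfl N18585 D53215
theorem N20446 : nd 20446 = n53216 := ndS (p := 18586) (l := 8) rfl N18586 D53216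
theorem N20447 : nd 20447 = n53217 := ndS (p := 18587) (l := 3) rfl N18587 D53217
theorem N20448 : nd 20448 = n53218 := ndS (p := 18588) (l := 2) rfl N18588 D53218
theorem N20449 : nd 20449 = n53219 := ndS (p := 18590) (l := 2) rfl N18590 D53219
theorem N20450 : nd 20450 = n53220 := ndS (p := 18591) (l := 1) rfl N18591 D53220
theorem N20451 : nd 20451 = n53221 := ndS (p := 18598) (l := 8) rfl N18598 D53221
theorem N20452 : nd 20452 = n53222 := ndS (p := 18605) (l := 3) rfl N18605 D53222
theorem N20453 : nd 20453 = n53223 := ndS (p := 18605) (l := 9) rfl N18605 D53223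
theorem N20454 : nd 20454 = n53224 := ndS (p := 18606) (l := 4) rfl N18606 D53224
theorem N20455 : nd 20455 = n53225 := ndS (p := 18606) (l := 9) rfl N18606 D53225
theorem N20456 : nd 20456 = n53226 := ndS (p := 18608) (l := 9) rfl N18608 D53226
theorem N20457 : nd 20457 = n53227 := ndS (p := 18610) (l := 8) rfl N18610 D53227
theorem N20458 : nd 20458 = n53228 := ndS (p := 18612) (l := 3) rfl N18612 D53228
theorem N20459 : nd 20459 = n53229 := ndS (p := 18612) (l := 9) rfl N18612 D53229
theorem N20460 : nd 20460 = n53230 := ndS (p := 18613) (l := 2) rfl N18613 D53230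
theorem N20461 : nd 20461 = n53231 := ndS (p := 18613) (l := 4) rfl N18613 D53231
theorem N20462 : nd 20462 = n53232 := ndS (p := 18613) (l := 9) rfl N18613 D53232
theorem N20463 : nd 20463 = n53233 := ndS (p := 18615) (l := 9) rfl N18615 D53233
theorem N20464 : nd 20464 = n53234 := ndS (p := 18617) (l := 9) rfl N18617 D53234
theorem N20465 : nd 20465 = n53235 := ndS (p := 18618) (l := 5) rfl N18618 D53235
theorem N20466 : nd 20466 = n53236 := ndS (p := 18618) (l := 9) rfl N18618 D53236
theorem N20467 : nd 20467 = n53237 := ndS (p := 18619) (l := 8) rfl N18619 D53237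
theorem N20468 : nd 20468 = n53238 := ndS (p := 18620) (l := 8) rfl N18620 D53238
theorem N20469 : nd 20469 = n53239 := ndS (p := 18621) (l := 8) rfl N18621 D53239
theorem N20470 : nd 20470 = n53240 := ndS (p := 18623) (l := 3) rfl N18623 D53240
theorem N20471 : nd 20471 = n53241 := ndS (p := 18623) (l := 9) rfl N18623 D53241
theorem N20472 : nd 20472 = n53242 := ndS (p := 18624) (l := 4) rfl N18624 D53242
theorem N20473 : nd 20473 = n53243 := ndS (p := 18624) (l := 9) rfl N18624 D53243
theorem N20474 : nd 20474 = n53244 := ndS (p := 18626) (l := 4) rfl N18626 D53244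
theorem N20475 : nd 20475 = n53245 := ndS (p := 18626) (l := 9) rfl N18626 D53245
theorem N20476 : nd 20476 = n53246 := ndS (p := 18627) (l := 5) rfl N18627 D53246
theorem N20477 : nd 20477 = n53247 := ndS (p := 18627) (l := 9) rfl N18627 D53247
theorem N20478 : nd 20478 = n53248 := ndS (p := 18628) (l := 8) rfl N18628 D53248
theorem N20479 : nd 20479 = n53249 := ndS (p := 18629) (l := 8) rfl N18629 D53249
theorem N20480 : nd 20480 = n53250 := ndS (p := 18630) (l := 8) rfl N18630 D53250
theorem N20481 : nd 20481 = n53251 := ndS (p := 18631) (l := 9) rfl N18631 D53251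
theorem N20482 : nd 20482 = n53252 := ndS (p := 18632) (l := 8) rfl N18632 D53252
theorem N20483 : nd 20483 = n53253 := ndS (p := 18634) (l := 8) rfl N18634 D53253
theorem N20484 : nd 20484 = n53254 := ndS (p := 18635) (l := 3) rfl N18635 D53254
theorem N20485 : nd 20485 = n53255 := ndS (p := 18636) (l := 3) rfl N18636 D53255
theorem N20486 : nd 20486 = n53256 := ndS (p := 18637) (l := 8) rfl N18637 D53256
theorem N20487 : nd 20487 = n53257 := ndS (p := 18638) (l := 3) rfl N18638 D53257
theorem N20488 : nd 20488 = n53258 := ndS (p := 18641) (l := 8) rfl N18641 D53258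
theorem N20489 : nd 20489 = n53259 := ndS (p := 18643) (l := 3) rfl N18643 D53259
theorem N20490 : nd 20490 = n53260 := ndS (p := 18645) (l := 2) rfl N18645 D53260
theorem N20491 : nd 20491 = n53261 := ndS (p := 18645) (l := 4) rfl N18645 D53261
theorem N20492 : nd 20492 = n53262 := ndS (p := 18645) (l := 9) rfl N18645 D53262
theorem N20493 : nd 20493 = n53263 := ndS (p := 18647) (l := 4) rfl N18647 D53263
theorem N20494 : nd 20494 = n53264 := ndS (p := 18647) (l := 9) rfl N18647 D53264
theorem N20495 : nd 20495 = n53265 := ndS (p := 18649) (l := 1) rfl N18649 D53265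
theorem N20496 : nd 20496 = n53266 := ndS (p := 18649) (l := 4) rfl N18649 D53266
theorem N20497 : nd 20497 = n53267 := ndS (p := 18649) (l := 9) rfl N18649 D53267
theorem N20498 : nd 20498 = n53268 := ndS (p := 18650) (l := 5) rfl N18650 D53268
theorem N20499 : nd 20499 = n53269 := ndS (p := 18650) (l := 9) rfl N18650 D53269
theorem N20500 : nd 20500 = n53270 := ndS (p := 18651) (l := 8) rfl N18651 D53270
theorem N20501 : nd 20501 = n53271 := ndS (p := 18652) (l := 8) rfl N18652 D53271
theorem N20502 : nd 20502 = n53272 := ndS (p := 18653) (l := 9) rfl N18653 D53272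
theorem N20503 : nd 20503 = n53273 := ndS (p := 18654) (l := 8) rfl N18654 D53273
theorem N20504 : nd 20504 = n53274 := ndS (p := 18655) (l := 6) rfl N18655 D53274
theorem N20505 : nd 20505 = n53275 := ndS (p := 18655) (l := 9) rfl N18655 D53275
theorem N20506 : nd 20506 = n53276 := ndS (p := 18656) (l := 8) rfl N18656 D53276
theorem N20507 : nd 20507 = n53277 := ndS (p := 18658) (l := 8) rfl N18658 D53277
theorem N20508 : nd 20508 = n53278 := ndS (p := 18659) (l := 8) rfl N18659 D53278
theorem N20509 : nd 20509 = n53279 := ndS (p := 18660) (l := 3) rfl N18660 D53279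
theorem N20510 : nd 20510 = n53280 := ndS (p := 18661) (l := 9) rfl N18661 D53280
theorem N20511 : nd 20511 = n53281 := ndS (p := 18662) (l := 8) rfl N18662 D53281
theorem N20512 : nd 20512 = n53282 := ndS (p := 18663) (l := 3) rfl N18663 D53282
theorem N20513 : nd 20513 = n53283 := ndS (p := 18664) (l := 4) rfl N18664 D53283
theorem N20514 : nd 20514 = n53284 := ndS (p := 18664) (l := 9) rfl N18664 D53284
theorem N20515 : nd 20515 = n53285 := ndS (p := 18666) (l := 9) rfl N18666 D53285
theorem N20516 : nd 20516 = n53286 := ndS (p := 18667) (l := 8) rfl N18667 D53286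
theorem N20517 : nd 20517 = n53287 := ndS (p := 18668) (l := 4) rfl N18668 D53287
theorem N20518 : nd 20518 = n53288 := ndS (p := 18668) (l := 9) rfl N18668 D53288
theorem N20519 : nd 20519 = n53289 := ndS (p := 18669) (l := 3) rfl N18669 D53289
theorem N20520 : nd 20520 = n53290 := ndS (p := 18669) (l := 9) rfl N18669 D53290
theorem N20521 : nd 20521 = n53291 := ndS (p := 18670) (l := 8) rfl N18670 D53291
theorem N20522 : nd 20522 = n53292 := ndS (p := 18671) (l := 6) rfl N18671 D53292
theorem N20523 : nd 20523 = n53293 := ndS (p := 18671) (l := 9) rfl N18671 D53293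
theorem N20524 : nd 20524 = n53294 := ndS (p := 18672) (l := 8) rfl N18672 D53294
theorem N20525 : nd 20525 = n53295 := ndS (p := 18675) (l := 8) rfl N18675 D53295
theorem N20526 : nd 20526 = n53296 := ndS (p := 18676) (l := 3) rfl N18676 D53296
theorem N20527 : nd 20527 = n53297 := ndS (p := 18677) (l := 9) rfl N18677 D53297
theorem N20528 : nd 20528 = n53298 := ndS (p := 18678) (l := 8) rfl N18678 D53298
theorem N20529 : nd 20529 = n53299 := ndS (p := 18679) (l := 3) rfl N18679 D53299
theorem N20530 : nd 20530 = n53300 := ndS (p := 18680) (l := 8) rfl N18680 D53300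
theorem N20531 : nd 20531 = n53301 := ndS (p := 18681) (l := 8) rfl N18681 D53301
theorem N20532 : nd 20532 = n53302 := ndS (p := 18682) (l := 3) rfl N18682 D53302
theorem N20533 : nd 20533 = n53303 := ndS (p := 18683) (l := 9) rfl N18683 D53303
theorem N20534 : nd 20534 = n53304 := ndS (p := 18684) (l := 8) rfl N18684 D53304
theorem N20535 : nd 20535 = n53305 := ndS (p := 18686) (l := 4) rfl N18686 D53305
theorem N20536 : nd 20536 = n53306 := ndS (p := 18687) (l := 8) rfl N18687 D53306
theorem N20537 : nd 20537 = n53307 := ndS (p := 18688) (l := 3) rfl N18688 D53307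
theorem N20538 : nd 20538 = n53308 := ndS (p := 18689) (l := 2) rfl N18689 D53308
theorem N20539 : nd 20539 = n53309 := ndS (p := 18690) (l := 8) rfl N18690 D53309
theorem N20540 : nd 20540 = n53310 := ndS (p := 18691) (l := 3) rfl N18691 D53310
theorem N20541 : nd 20541 = n53311 := ndS (p := 18692) (l := 2) rfl N18692 D53311
theorem N20542 : nd 20542 = n53312 := ndS (p := 18693) (l := 3) rfl N18693 D53312
theorem N20543 : nd 20543 = n53313 := ndS (p := 18698) (l := 8) rfl N18698 D53313
theorem N20544 : nd 20544 = n53314 := ndS (p := 18699) (l := 9) rfl N18699 D53314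
theorem N20545 : nd 20545 = n53315 := ndS (p := 18700) (l := 8) rfl N18700 D53315
theorem N20546 : nd 20546 = n53316 := ndS (p := 18701) (l := 3) rfl N18701 D53316
theorem N20547 : nd 20547 = n53317 := ndS (p := 18703) (l := 3) rfl N18703 D53317
theorem N20548 : nd 20548 = n53318 := ndS (p := 18704) (l := 4) rfl N18704 D53318
theorem N20549 : nd 20549 = n53319 := ndS (p := 18707) (l := 8) rfl N18707 D53319
theorem N20550 : nd 20550 = n53320 := ndS (p := 18711) (l := 4) rfl N18711 D53320
theorem N20551 : nd 20551 = n53321 := ndS (p := 18711) (l := 9) rfl N18711 D53321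
theorem N20552 : nd 20552 = n53322 := ndS (p := 18714) (l := 8) rfl N18714 D53322
theorem N20553 : nd 20553 = n53323 := ndS (p := 18716) (l := 4) rfl N18716 D53323
theorem N20554 : nd 20554 = n53324 := ndS (p := 18716) (l := 9) rfl N18716 D53324
theorem N20555 : nd 20555 = n53325 := ndS (p := 18718) (l := 1) rfl N18718 D53325
theorem N20556 : nd 20556 = n53326 := ndS (p := 18718) (l := 4) rfl N18718 D53326
theorem N20557 : nd 20557 = n53327 := ndS (p := 18718) (l := 9) rfl N18718 D53327
theorem N20558 : nd 20558 = n53328 := ndS (p := 18719) (l := 9) rfl N18719 D53328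
theorem N20559 : nd 20559 = n53329 := ndS (p := 18720) (l := 8) rfl N18720 D53329
theorem N20560 : nd 20560 = n53330 := ndS (p := 18721) (l := 8) rfl N18721 D53330
theorem N20561 : nd 20561 = n53331 := ndS (p := 18722) (l := 9) rfl N18722 D53331
theorem N20562 : nd 20562 = n53332 := ndS (p := 18723) (l := 8) rfl N18723 D53332
theorem N20563 : nd 20563 = n53333 := ndS (p := 18725) (l := 8) rfl N18725 D53333
theorem N20564 : nd 20564 = n53334 := ndS (p := 18726) (l := 3) rfl N18726 D53334
theorem N20565 : nd 20565 = n53335 := ndS (p := 18727) (l := 3) rfl N18727 D53335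
theorem N20566 : nd 20566 = n53336 := ndS (p := 18727) (l := 9) rfl N18727 D53336
theorem N20567 : nd 20567 = n53337 := ndS (p := 18728) (l := 2) rfl N18728 D53337
theorem N20568 : nd 20568 = n53338 := ndS (p := 18728) (l := 4) rfl N18728 D53338
theorem N20569 : nd 20569 = n53339 := ndS (p := 18728) (l := 9) rfl N18728 D53339
theorem N20570 : nd 20570 = n53340 := ndS (p := 18730) (l := 2) rfl N18730 D53340
theorem N20571 : nd 20571 = n53341 := ndS (p := 18730) (l := 4) rfl N18730 D53341
theorem N20572 : nd 20572 = n53342 := ndS (p := 18730) (l := 9) rfl N18730 D53342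
theorem N20573 : nd 20573 = n53343 := ndS (p := 18732) (l := 1) rfl N18732 D53343
theorem N20574 : nd 20574 = n53344 := ndS (p := 18732) (l := 4) rfl N18732 D53344
theorem N20575 : nd 20575 = n53345 := ndS (p := 18732) (l := 9) rfl N18732 D53345
theorem N20576 : nd 20576 = n53346 := ndS (p := 18733) (l := 5) rfl N18733 D53346
theorem N20577 : nd 20577 = n53347 := ndS (p := 18733) (l := 9) rfl N18733 D53347
theorem N20578 : nd 20578 = n53348 := ndS (p := 18734) (l := 8) rfl N18734 D53348
theorem N20579 : nd 20579 = n53349 := ndS (p := 18735) (l := 9) rfl N18735 D53349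
theorem N20580 : nd 20580 = n53350 := ndS (p := 18736) (l := 8) rfl N18736 D53350
theorem N20581 : nd 20581 = n53351 := ndS (p := 18737) (l := 9) rfl N18737 D53351
theorem N20582 : nd 20582 = n53352 := ndS (p := 18738) (l := 5) rfl N18738 D53352
theorem N20583 : nd 20583 = n53353 := ndS (p := 18738) (l := 9) rfl N18738 D53353
theorem N20584 : nd 20584 = n53354 := ndS (p := 18739) (l := 8) rfl N18739 D53354
theorem N20585 : nd 20585 = n53355 := ndS (p := 18740) (l := 9) rfl N18740 D53355
theorem N20586 : nd 20586 = n53356 := ndS (p := 18741) (l := 8) rfl N18741 D53356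
theorem N20587 : nd 20587 = n53357 := ndS (p := 18743) (l := 8) rfl N18743 D53357
theorem N20588 : nd 20588 = n53358 := ndS (p := 18744) (l := 8) rfl N18744 D53358
theorem N20589 : nd 20589 = n53359 := ndS (p := 18745) (l := 3) rfl N18745 D53359
theorem N20590 : nd 20590 = n53360 := ndS (p := 18746) (l := 3) rfl N18746 D53360
theorem N20591 : nd 20591 = n53361 := ndS (p := 18747) (l := 4) rfl N18747 D53361
theorem N20592 : nd 20592 = n53362 := ndS (p := 18747) (l := 9) rfl N18747 D53362
theorem N20593 : nd 20593 = n53363 := ndS (p := 18749) (l := 4) rfl N18749 D53363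
theorem N20594 : nd 20594 = n53364 := ndS (p := 18749) (l := 9) rfl N18749 D53364
theorem N20595 : nd 20595 = n53365 := ndS (p := 18750) (l := 5) rfl N18750 D53365
theorem N20596 : nd 20596 = n53366 := ndS (p := 18750) (l := 9) rfl N18750 D53366
theorem N20597 : nd 20597 = n53367 := ndS (p := 18751) (l := 8) rfl N18751 D53367
theorem N20598 : nd 20598 = n53368 := ndS (p := 18752) (l := 0) rfl N18752 D53368
theorem N20599 : nd 20599 = n53369 := ndS (p := 18752) (l := 4) rfl N18752 D53369
theorem N20600 : nd 20600 = n53370 := ndS (p := 18752) (l := 9) rfl N18752 D53370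
theorem N20601 : nd 20601 = n53371 := ndS (p := 18753) (l := 5) rfl N18753 D53371
theorem N20602 : nd 20602 = n53372 := ndS (p := 18753) (l := 9) rfl N18753 D53372
theorem N20603 : nd 20603 = n53373 := ndS (p := 18754) (l := 8) rfl N18754 D53373
theorem N20604 : nd 20604 = n53374 := ndS (p := 18755) (l := 9) rfl N18755 D53374
theorem N20605 : nd 20605 = n53375 := ndS (p := 18756) (l := 8) rfl N18756 D53375
theorem N20606 : nd 20606 = n53376 := ndS (p := 18758) (l := 8) rfl N18758 D53376
theorem N20607 : nd 20607 = n53377 := ndS (p := 18759) (l := 9) rfl N18759 D53377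
theorem N20608 : nd 20608 = n53378 := ndS (p := 18760) (l := 8) rfl N18760 D53378
theorem N20609 : nd 20609 = n53379 := ndS (p := 18762) (l := 9) rfl N18762 D53379
theorem N20610 : nd 20610 = n53380 := ndS (p := 18763) (l := 8) rfl N18763 D53380
theorem N20611 : nd 20611 = n53381 := ndS (p := 18764) (l := 9) rfl N18764 D53381
theorem N20612 : nd 20612 = n53382 := ndS (p := 18765) (l := 8) rfl N18765 D53382
theorem N20613 : nd 20613 = n53383 := ndS (p := 18766) (l := 3) rfl N18766 D53383
theorem N20614 : nd 20614 = n53384 := ndS (p := 18767) (l := 8) rfl N18767 D53384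
theorem N20615 : nd 20615 = n53385 := ndS (p := 18768) (l := 3) rfl N18768 D53385
theorem N20616 : nd 20616 = n53386 := ndS (p := 18769) (l := 8) rfl N18769 D53386
theorem N20617 : nd 20617 = n53387 := ndS (p := 18770) (l := 8) rfl N18770 D53387
theorem N20618 : nd 20618 = n53388 := ndS (p := 18771) (l := 3) rfl N18771 D53388
theorem N20619 : nd 20619 = n53389 := ndS (p := 18772) (l := 3) rfl N18772 D53389
theorem N20620 : nd 20620 = n53390 := ndS (p := 18773) (l := 4) rfl N18773 D53390
theorem N20621 : nd 20621 = n53391 := ndS (p := 18774) (l := 2) rfl N18774 D53391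
theorem N20622 : nd 20622 = n53392 := ndS (p := 18775) (l := 9) rfl N18775 D53392
theorem N20623 : nd 20623 = n53393 := ndS (p := 18776) (l := 8) rfl N18776 D53393
theorem N20624 : nd 20624 = n53394 := ndS (p := 18778) (l := 3) rfl N18778 D53394
theorem N20625 : nd 20625 = n53395 := ndS (p := 18779) (l := 2) rfl N18779 D53395
theorem N20626 : nd 20626 = n53396 := ndS (p := 18781) (l := 9) rfl N18781 D53396
theorem N20627 : nd 20627 = n53397 := ndS (p := 18782) (l := 8) rfl N18782 D53397
theorem N20628 : nd 20628 = n53398 := ndS (p := 18783) (l := 8) rfl N18783 D53398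
theorem N20629 : nd 20629 = n53399 := ndS (p := 18785) (l := 8) rfl N18785 D53399
theorem N20630 : nd 20630 = n53400 := ndS (p := 18786) (l := 3) rfl N18786 D53400
theorem N20631 : nd 20631 = n53401 := ndS (p := 18790) (l := 8) rfl N18790 D53401
theorem N20632 : nd 20632 = n53402 := ndS (p := 18791) (l := 3) rfl N18791 D53402
theorem N20633 : nd 20633 = n53403 := ndS (p := 18792) (l := 4) rfl N18792 D53403
theorem N20634 : nd 20634 = n53404 := ndS (p := 18794) (l := 2) rfl N18794 D53404
theorem N20635 : nd 20635 = n53405 := ndS (p := 18794) (l := 4) rfl N18794 D53405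
theorem N20636 : nd 20636 = n53406 := ndS (p := 18796) (l := 2) rfl N18796 D53406
theorem N20637 : nd 20637 = n53407 := ndS (p := 18796) (l := 4) rfl N18796 D53407
theorem N20638 : nd 20638 = n53408 := ndS (p := 18796) (l := 9) rfl N18796 D53408
theorem N20639 : nd 20639 = n53409 := ndS (p := 18798) (l := 1) rfl N18798 D53409
theorem N20640 : nd 20640 = n53410 := ndS (p := 18798) (l := 4) rfl N18798 D53410
theorem N20641 : nd 20641 = n53411 := ndS (p := 18798) (l := 9) rfl N18798 D53411
theorem N20642 : nd 20642 = n53412 := ndS (p := 18799) (l := 5) rfl N18799 D53412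
theorem N20643 : nd 20643 = n53413 := ndS (p := 18799) (l := 9) rfl N18799 D53413
theorem N20644 : nd 20644 = n53414 := ndS (p := 18800) (l := 8) rfl N18800 D53414
theorem N20645 : nd 20645 = n53415 := ndS (p := 18801) (l := 4) rfl N18801 D53415
theorem N20646 : nd 20646 = n53416 := ndS (p := 18801) (l := 9) rfl N18801 D53416
theorem N20647 : nd 20647 = n53417 := ndS (p := 18803) (l := 4) rfl N18803 D53417
theorem N20648 : nd 20648 = n53418 := ndS (p := 18803) (l := 9) rfl N18803 D53418
theorem N20649 : nd 20649 = n53419 := ndS (p := 18804) (l := 5) rfl N18804 D53419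
theorem N20650 : nd 20650 = n53420 := ndS (p := 18804) (l := 9) rfl N18804 D53420
theorem N20651 : nd 20651 = n53421 := ndS (p := 18805) (l := 8) rfl N18805 D53421
theorem N20652 : nd 20652 = n53422 := ndS (p := 18806) (l := 4) rfl N18806 D53422
theorem N20653 : nd 20653 = n53423 := ndS (p := 18806) (l := 9) rfl N18806 D53423
theorem N20654 : nd 20654 = n53424 := ndS (p := 18807) (l := 3) rfl N18807 D53424
theorem N20655 : nd 20655 = n53425 := ndS (p := 18807) (l := 5) rfl N18807 D53425
theorem N20656 : nd 20656 = n53426 := ndS (p := 18807) (l := 9) rfl N18807 D53426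
theorem N20657 : nd 20657 = n53427 := ndS (p := 18808) (l := 8) rfl N18808 D53427
theorem N20658 : nd 20658 = n53428 := ndS (p := 18809) (l := 6) rfl N18809 D53428
theorem N20659 : nd 20659 = n53429 := ndS (p := 18809) (l := 9) rfl N18809 D53429
theorem N20660 : nd 20660 = n53430 := ndS (p := 18810) (l := 8) rfl N18810 D53430
theorem N20661 : nd 20661 = n53431 := ndS (p := 18812) (l := 8) rfl N18812 D53431
theorem N20662 : nd 20662 = n53432 := ndS (p := 18813) (l := 9) rfl N18813 D53432
theorem N20663 : nd 20663 = n53433 := ndS (p := 18814) (l := 8) rfl N18814 D53433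
theorem N20664 : nd 20664 = n53434 := ndS (p := 18816) (l := 8) rfl N18816 D53434
theorem N20665 : nd 20665 = n53435 := ndS (p := 18817) (l := 9) rfl N18817 D53435
theorem N20666 : nd 20666 = n53436 := ndS (p := 18818) (l := 8) rfl N18818 D53436
theorem N20667 : nd 20667 = n53437 := ndS (p := 18819) (l := 3) rfl N18819 D53437
theorem N20668 : nd 20668 = n53438 := ndS (p := 18820) (l := 9) rfl N18820 D53438
theorem N20669 : nd 20669 = n53439 := ndS (p := 18821) (l := 8) rfl N18821 D53439
theorem N20670 : nd 20670 = n53440 := ndS (p := 18822) (l := 3) rfl N18822 D53440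
theorem N20671 : nd 20671 = n53441 := ndS (p := 18823) (l := 3) rfl N18823 D53441
theorem N20672 : nd 20672 = n53442 := ndS (p := 18824) (l := 3) rfl N18824 D53442
theorem N20673 : nd 20673 = n53443 := ndS (p := 18825) (l := 4) rfl N18825 D53443
theorem N20674 : nd 20674 = n53444 := ndS (p := 18826) (l := 8) rfl N18826 D53444
theorem N20675 : nd 20675 = n53445 := ndS (p := 18827) (l := 3) rfl N18827 D53445
theorem N20676 : nd 20676 = n53446 := ndS (p := 18828) (l := 2) rfl N18828 D53446
theorem N20677 : nd 20677 = n53447 := ndS (p := 18829) (l := 5) rfl N18829 D53447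
theorem N20678 : nd 20678 = n53448 := ndS (p := 18829) (l := 9) rfl N18829 D53448
theorem N20679 : nd 20679 = n53449 := ndS (p := 18830) (l := 8) rfl N18830 D53449
theorem N20680 : nd 20680 = n53450 := ndS (p := 18831) (l := 3) rfl N18831 D53450
theorem N20681 : nd 20681 = n53451 := ndS (p := 18831) (l := 5) rfl N18831 D53451
theorem N20682 : nd 20682 = n53452 := ndS (p := 18831) (l := 9) rfl N18831 D53452
theorem N20683 : nd 20683 = n53453 := ndS (p := 18832) (l := 8) rfl N18832 D53453
theorem N20684 : nd 20684 = n53454 := ndS (p := 18833) (l := 9) rfl N18833 D53454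
theorem N20685 : nd 20685 = n53455 := ndS (p := 18834) (l := 8) rfl N18834 D53455
theorem N20686 : nd 20686 = n53456 := ndS (p := 18836) (l := 4) rfl N18836 D53456
theorem N20687 : nd 20687 = n53457 := ndS (p := 18836) (l := 9) rfl N18836 D53457
theorem N20688 : nd 20688 = n53458 := ndS (p := 18837) (l := 3) rfl N18837 D53458
theorem N20689 : nd 20689 = n53459 := ndS (p := 18837) (l := 5) rfl N18837 D53459
theorem N20690 : nd 20690 = n53460 := ndS (p := 18837) (l := 9) rfl N18837 D53460
theorem N20691 : nd 20691 = n53461 := ndS (p := 18838) (l := 8) rfl N18838 D53461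
theorem N20692 : nd 20692 = n53462 := ndS (p := 18839) (l := 5) rfl N18839 D53462
theorem N20693 : nd 20693 = n53463 := ndS (p := 18839) (l := 8) rfl N18839 D53463
theorem N20694 : nd 20694 = n53464 := ndS (p := 18839) (l := 9) rfl N18839 D53464
theorem N20695 : nd 20695 = n53465 := ndS (p := 18840) (l := 6) rfl N18840 D53465
theorem N20696 : nd 20696 = n53466 := ndS (p := 18840) (l := 9) rfl N18840 D53466
theorem N20697 : nd 20697 = n53467 := ndS (p := 18841) (l := 8) rfl N18841 D53467
theorem N20698 : nd 20698 = n53468 := ndS (p := 18842) (l := 3) rfl N18842 D53468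
theorem N20699 : nd 20699 = n53469 := ndS (p := 18843) (l := 7) rfl N18843 D53469
theorem N20700 : nd 20700 = n53470 := ndS (p := 18843) (l := 9) rfl N18843 D53470
theorem N20701 : nd 20701 = n53471 := ndS (p := 18844) (l := 8) rfl N18844 D53471
theorem N20702 : nd 20702 = n53472 := ndS (p := 18845) (l := 3) rfl N18845 D53472
theorem N20703 : nd 20703 = n53473 := ndS (p := 18846) (l := 9) rfl N18846 D53473
theorem N20704 : nd 20704 = n53474 := ndS (p := 18847) (l := 8) rfl N18847 D53474
theorem N20705 : nd 20705 = n53475 := ndS (p := 18848) (l := 3) rfl N18848 D53475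
theorem N20706 : nd 20706 = n53476 := ndS (p := 18849) (l := 8) rfl N18849 D53476
theorem N20707 : nd 20707 = n53477 := ndS (p := 18850) (l := 3) rfl N18850 D53477
theorem N20708 : nd 20708 = n53478 := ndS (p := 18851) (l := 8) rfl N18851 D53478
theorem N20709 : nd 20709 = n53479 := ndS (p := 18852) (l := 9) rfl N18852 D53479
theorem N20710 : nd 20710 = n53480 := ndS (p := 18853) (l := 8) rfl N18853 D53480
theorem N20711 : nd 20711 = n53481 := ndS (p := 18854) (l := 3) rfl N18854 D53481
theorem N20712 : nd 20712 = n53482 := ndS (p := 18855) (l := 9) rfl N18855 D53482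
theorem N20713 : nd 20713 = n53483 := ndS (p := 18856) (l := 8) rfl N18856 D53483
theorem N20714 : nd 20714 = n53484 := ndS (p := 18857) (l := 3) rfl N18857 D53484
theorem N20715 : nd 20715 = n53485 := ndS (p := 18858) (l := 4) rfl N18858 D53485
theorem N20716 : nd 20716 = n53486 := ndS (p := 18859) (l := 9) rfl N18859 D53486
theorem N20717 : nd 20717 = n53487 := ndS (p := 18860) (l := 8) rfl N18860 D53487
theorem N20718 : nd 20718 = n53488 := ndS (p := 18861) (l := 3) rfl N18861 D53488
theorem N20719 : nd 20719 = n53489 := ndS (p := 18862) (l := 2) rfl N18862 D53489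
theorem N20720 : nd 20720 = n53490 := ndS (p := 18864) (l := 3) rfl N18864 D53490
theorem N20721 : nd 20721 = n53491 := ndS (p := 18865) (l := 4) rfl N18865 D53491
theorem N20722 : nd 20722 = n53492 := ndS (p := 18866) (l := 8) rfl N18866 D53492
theorem N20723 : nd 20723 = n53493 := ndS (p := 18867) (l := 3) rfl N18867 D53493
theorem N20724 : nd 20724 = n53494 := ndS (p := 18868) (l := 2) rfl N18868 D53494
theorem N20725 : nd 20725 = n53495 := ndS (p := 18868) (l := 4) rfl N18868 D53495
theorem N20726 : nd 20726 = n53496 := ndS (p := 18869) (l := 5) rfl N18869 D53496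
theorem N20727 : nd 20727 = n53497 := ndS (p := 18870) (l := 8) rfl N18870 D53497
theorem N20728 : nd 20728 = n53498 := ndS (p := 18871) (l := 3) rfl N18871 D53498
theorem N20729 : nd 20729 = n53499 := ndS (p := 18874) (l := 3) rfl N18874 D53499
theorem N20730 : nd 20730 = n53500 := ndS (p := 18877) (l := 3) rfl N18877 D53500
theorem N20731 : nd 20731 = n53501 := ndS (p := 18878) (l := 2) rfl N18878 D53501
theorem N20732 : nd 20732 = n53502 := ndS (p := 18878) (l := 4) rfl N18878 D53502
theorem N20733 : nd 20733 = n53503 := ndS (p := 18879) (l := 1) rfl N18879 D53503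
theorem N20734 : nd 20734 = n53504 := ndS (p := 18880) (l := 2) rfl N18880 D53504
theorem N20735 : nd 20735 = n53505 := ndS (p := 18883) (l := 8) rfl N18883 D53505
theorem N20736 : nd 20736 = n53506 := ndS (p := 18883) (l := 9) rfl N18883 D53506
theorem N20737 : nd 20737 = n53507 := ndS (p := 18884) (l := 8) rfl N18884 D53507
theorem N20738 : nd 20738 = n53508 := ndS (p := 18885) (l := 3) rfl N18885 D53508
theorem N20739 : nd 20739 = n53509 := ndS (p := 18887) (l := 3) rfl N18887 D53509
theorem N20740 : nd 20740 = n53510 := ndS (p := 18887) (l := 9) rfl N18887 D53510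
theorem N20741 : nd 20741 = n53511 := ndS (p := 18888) (l := 8) rfl N18888 D53511
theorem N20742 : nd 20742 = n53512 := ndS (p := 18889) (l := 8) rfl N18889 D53512
theorem N20743 : nd 20743 = n53513 := ndS (p := 18889) (l := 9) rfl N18889 D53513
theorem N20744 : nd 20744 = n53514 := ndS (p := 18890) (l := 8) rfl N18890 D53514
theorem N20745 : nd 20745 = n53515 := ndS (p := 18891) (l := 3) rfl N18891 D53515
theorem N20746 : nd 20746 = n53516 := ndS (p := 18892) (l := 9) rfl N18892 D53516
theorem N20747 : nd 20747 = n53517 := ndS (p := 18893) (l := 8) rfl N18893 D53517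
theorem N20748 : nd 20748 = n53518 := ndS (p := 18894) (l := 3) rfl N18894 D53518
theorem N20749 : nd 20749 = n53519 := ndS (p := 18895) (l := 4) rfl N18895 D53519
theorem N20750 : nd 20750 = n53520 := ndS (p := 18896) (l := 2) rfl N18896 D53520
theorem N20751 : nd 20751 = n53521 := ndS (p := 18900) (l := 5) rfl N18900 D53521
theorem N20752 : nd 20752 = n53522 := ndS (p := 18901) (l := 8) rfl N18901 D53522
theorem N20753 : nd 20753 = n53523 := ndS (p := 18904) (l := 8) rfl N18904 D53523
theorem N20754 : nd 20754 = n53524 := ndS (p := 18908) (l := 4) rfl N18908 D53524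
theorem N20755 : nd 20755 = n53525 := ndS (p := 18908) (l := 9) rfl N18908 D53525
theorem N20756 : nd 20756 = n53526 := ndS (p := 18910) (l := 4) rfl N18910 D53526
theorem N20757 : nd 20757 = n53527 := ndS (p := 18910) (l := 9) rfl N18910 D53527
theorem N20758 : nd 20758 = n53528 := ndS (p := 18911) (l := 9) rfl N18911 D53528
theorem N20759 : nd 20759 = n53529 := ndS (p := 18912) (l := 8) rfl N18912 D53529
theorem N20760 : nd 20760 = n53530 := ndS (p := 18913) (l := 9) rfl N18913 D53530
theorem N20761 : nd 20761 = n53531 := ndS (p := 18914) (l := 8) rfl N18914 D53531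
theorem N20762 : nd 20762 = n53532 := ndS (p := 18915) (l := 8) rfl N18915 D53532
theorem N20763 : nd 20763 = n53533 := ndS (p := 18917) (l := 3) rfl N18917 D53533
theorem N20764 : nd 20764 = n53534 := ndS (p := 18918) (l := 4) rfl N18918 D53534
theorem N20765 : nd 20765 = n53535 := ndS (p := 18918) (l := 9) rfl N18918 D53535
theorem N20766 : nd 20766 = n53536 := ndS (p := 18920) (l := 9) rfl N18920 D53536
theorem N20767 : nd 20767 = n53537 := ndS (p := 18921) (l := 8) rfl N18921 D53537
theorem N20768 : nd 20768 = n53538 := ndS (p := 18922) (l := 9) rfl N18922 D53538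
theorem N20769 : nd 20769 = n53539 := ndS (p := 18923) (l := 8) rfl N18923 D53539
theorem N20770 : nd 20770 = n53540 := ndS (p := 18925) (l := 8) rfl N18925 D53540
theorem N20771 : nd 20771 = n53541 := ndS (p := 18927) (l := 8) rfl N18927 D53541
theorem N20772 : nd 20772 = n53542 := ndS (p := 18928) (l := 3) rfl N18928 D53542
theorem N20773 : nd 20773 = n53543 := ndS (p := 18930) (l := 3) rfl N18930 D53543
theorem N20774 : nd 20774 = n53544 := ndS (p := 18931) (l := 3) rfl N18931 D53544
theorem N20775 : nd 20775 = n53545 := ndS (p := 18933) (l := 4) rfl N18933 D53545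
theorem N20776 : nd 20776 = n53546 := ndS (p := 18933) (l := 9) rfl N18933 D53546
theorem N20777 : nd 20777 = n53547 := ndS (p := 18935) (l := 4) rfl N18935 D53547
theorem N20778 : nd 20778 = n53548 := ndS (p := 18935) (l := 9) rfl N18935 D53548
theorem N20779 : nd 20779 = n53549 := ndS (p := 18936) (l := 5) rfl N18936 D53549
theorem N20780 : nd 20780 = n53550 := ndS (p := 18936) (l := 9) rfl N18936 D53550
theorem N20781 : nd 20781 = n53551 := ndS (p := 18937) (l := 8) rfl N18937 D53551
theorem N20782 : nd 20782 = n53552 := ndS (p := 18938) (l := 4) rfl N18938 D53552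
theorem N20783 : nd 20783 = n53553 := ndS (p := 18938) (l := 9) rfl N18938 D53553
theorem N20784 : nd 20784 = n53554 := ndS (p := 18940) (l := 5) rfl N18940 D53554
theorem N20785 : nd 20785 = n53555 := ndS (p := 18940) (l := 9) rfl N18940 D53555
theorem N20786 : nd 20786 = n53556 := ndS (p := 18941) (l := 8) rfl N18941 D53556
theorem N20787 : nd 20787 = n53557 := ndS (p := 18942) (l := 9) rfl N18942 D53557
theorem N20788 : nd 20788 = n53558 := ndS (p := 18943) (l := 8) rfl N18943 D53558
theorem N20789 : nd 20789 = n53559 := ndS (p := 18945) (l := 9) rfl N18945 D53559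
theorem N20790 : nd 20790 = n53560 := ndS (p := 18946) (l := 8) rfl N18946 D53560
theorem N20791 : nd 20791 = n53561 := ndS (p := 18948) (l := 8) rfl N18948 D53561
theorem N20792 : nd 20792 = n53562 := ndS (p := 18949) (l := 3) rfl N18949 D53562
theorem N20793 : nd 20793 = n53563 := ndS (p := 18951) (l := 4) rfl N18951 D53563
theorem N20794 : nd 20794 = n53564 := ndS (p := 18951) (l := 9) rfl N18951 D53564
theorem N20795 : nd 20795 = n53565 := ndS (p := 18952) (l := 5) rfl N18952 D53565
theorem N20796 : nd 20796 = n53566 := ndS (p := 18952) (l := 9) rfl N18952 D53566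
theorem N20797 : nd 20797 = n53567 := ndS (p := 18953) (l := 8) rfl N18953 D53567
theorem N20798 : nd 20798 = n53568 := ndS (p := 18954) (l := 9) rfl N18954 D53568
theorem N20799 : nd 20799 = n53569 := ndS (p := 18955) (l := 8) rfl N18955 D53569
theorem N20800 : nd 20800 = n53570 := ndS (p := 18956) (l := 9) rfl N18956 D53570
theorem N20801 : nd 20801 = n53571 := ndS (p := 18957) (l := 8) rfl N18957 D53571
theorem N20802 : nd 20802 = n53572 := ndS (p := 18959) (l := 9) rfl N18959 D53572
theorem N20803 : nd 20803 = n53573 := ndS (p := 18960) (l := 8) rfl N18960 D53573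
theorem N20804 : nd 20804 = n53574 := ndS (p := 18961) (l := 9) rfl N18961 D53574
theorem N20805 : nd 20805 = n53575 := ndS (p := 18962) (l := 9) rfl N18962 D53575
theorem N20806 : nd 20806 = n53576 := ndS (p := 18963) (l := 8) rfl N18963 D53576
theorem N20807 : nd 20807 = n53577 := ndS (p := 18965) (l := 7) rfl N18965 D53577
theorem N20808 : nd 20808 = n53578 := ndS (p := 18965) (l := 9) rfl N18965 D53578
theorem N20809 : nd 20809 = n53579 := ndS (p := 18966) (l := 8) rfl N18966 D53579
theorem N20810 : nd 20810 = n53580 := ndS (p := 18967) (l := 3) rfl N18967 D53580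
theorem N20811 : nd 20811 = n53581 := ndS (p := 18969) (l := 8) rfl N18969 D53581
theorem N20812 : nd 20812 = n53582 := ndS (p := 18970) (l := 3) rfl N18970 D53582
theorem N20813 : nd 20813 = n53583 := ndS (p := 18972) (l := 8) rfl N18972 D53583
theorem N20814 : nd 20814 = n53584 := ndS (p := 18974) (l := 9) rfl N18974 D53584
theorem N20815 : nd 20815 = n53585 := ndS (p := 18975) (l := 8) rfl N18975 D53585
theorem N20816 : nd 20816 = n53586 := ndS (p := 18976) (l := 3) rfl N18976 D53586
theorem N20817 : nd 20817 = n53587 := ndS (p := 18977) (l := 2) rfl N18977 D53587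
theorem N20818 : nd 20818 = n53588 := ndS (p := 18978) (l := 8) rfl N18978 D53588
theorem N20819 : nd 20819 = n53589 := ndS (p := 18979) (l := 3) rfl N18979 D53589
theorem N20820 : nd 20820 = n53590 := ndS (p := 18982) (l := 8) rfl N18982 D53590
theorem N20821 : nd 20821 = n53591 := ndS (p := 18983) (l := 3) rfl N18983 D53591
theorem N20822 : nd 20822 = n53592 := ndS (p := 18985) (l := 8) rfl N18985 D53592
theorem N20823 : nd 20823 = n53593 := ndS (p := 18986) (l := 3) rfl N18986 D53593
theorem N20824 : nd 20824 = n53594 := ndS (p := 18987) (l := 2) rfl N18987 D53594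
theorem N20825 : nd 20825 = n53595 := ndS (p := 18987) (l := 4) rfl N18987 D53595
theorem N20826 : nd 20826 = n53596 := ndS (p := 18989) (l := 3) rfl N18989 D53596
theorem N20827 : nd 20827 = n53597 := ndS (p := 18992) (l := 8) rfl N18992 D53597
theorem N20828 : nd 20828 = n53598 := ndS (p := 18993) (l := 4) rfl N18993 D53598
theorem N20829 : nd 20829 = n53599 := ndS (p := 18993) (l := 9) rfl N18993 D53599
theorem N20830 : nd 20830 = n53600 := ndS (p := 18995) (l := 9) rfl N18995 D53600
theorem N20831 : nd 20831 = n53601 := ndS (p := 18996) (l := 8) rfl N18996 D53601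
theorem N20832 : nd 20832 = n53602 := ndS (p := 18997) (l := 8) rfl N18997 D53602
theorem N20833 : nd 20833 = n53603 := ndS (p := 18999) (l := 4) rfl N18999 D53603
theorem N20834 : nd 20834 = n53604 := ndS (p := 18999) (l := 9) rfl N18999 D53604
theorem N20835 : nd 20835 = n53605 := ndS (p := 19001) (l := 4) rfl N19001 D53605
theorem N20836 : nd 20836 = n53606 := ndS (p := 19001) (l := 9) rfl N19001 D53606
theorem N20837 : nd 20837 = n53607 := ndS (p := 19002) (l := 9) rfl N19002 D53607
theorem N20838 : nd 20838 = n53608 := ndS (p := 19003) (l := 8) rfl N19003 D53608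
theorem N20839 : nd 20839 = n53609 := ndS (p := 19004) (l := 3) rfl N19004 D53609
theorem N20840 : nd 20840 = n53610 := ndS (p := 19004) (l := 9) rfl N19004 D53610
theorem N20841 : nd 20841 = n53611 := ndS (p := 19005) (l := 8) rfl N19005 D53611
theorem N20842 : nd 20842 = n53612 := ndS (p := 19006) (l := 8) rfl N19006 D53612
theorem N20843 : nd 20843 = n53613 := ndS (p := 19008) (l := 8) rfl N19008 D53613
theorem N20844 : nd 20844 = n53614 := ndS (p := 19010) (l := 3) rfl N19010 D53614
theorem N20845 : nd 20845 = n53615 := ndS (p := 19012) (l := 4) rfl N19012 D53615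
theorem N20846 : nd 20846 = n53616 := ndS (p := 19012) (l := 9) rfl N19012 D53616
theorem N20847 : nd 20847 = n53617 := ndS (p := 19014) (l := 4) rfl N19014 D53617
theorem N20848 : nd 20848 = n53618 := ndS (p := 19014) (l := 9) rfl N19014 D53618
theorem N20849 : nd 20849 = n53619 := ndS (p := 19015) (l := 5) rfl N19015 D53619
theorem N20850 : nd 20850 = n53620 := ndS (p := 19015) (l := 9) rfl N19015 D53620
theorem N20851 : nd 20851 = n53621 := ndS (p := 19016) (l := 8) rfl N19016 D53621
theorem N20852 : nd 20852 = n53622 := ndS (p := 19017) (l := 4) rfl N19017 D53622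
theorem N20853 : nd 20853 = n53623 := ndS (p := 19017) (l := 9) rfl N19017 D53623
theorem N20854 : nd 20854 = n53624 := ndS (p := 19019) (l := 5) rfl N19019 D53624
theorem N20855 : nd 20855 = n53625 := ndS (p := 19019) (l := 9) rfl N19019 D53625
theorem N20856 : nd 20856 = n53626 := ndS (p := 19020) (l := 8) rfl N19020 D53626
theorem N20857 : nd 20857 = n53627 := ndS (p := 19021) (l := 9) rfl N19021 D53627
theorem N20858 : nd 20858 = n53628 := ndS (p := 19022) (l := 8) rfl N19022 D53628
theorem N20859 : nd 20859 = n53629 := ndS (p := 19024) (l := 6) rfl N19024 D53629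
theorem N20860 : nd 20860 = n53630 := ndS (p := 19024) (l := 9) rfl N19024 D53630
theorem N20861 : nd 20861 = n53631 := ndS (p := 19025) (l := 8) rfl N19025 D53631
theorem N20862 : nd 20862 = n53632 := ndS (p := 19027) (l := 8) rfl N19027 D53632
theorem N20863 : nd 20863 = n53633 := ndS (p := 19028) (l := 3) rfl N19028 D53633
theorem N20864 : nd 20864 = n53634 := ndS (p := 19029) (l := 2) rfl N19029 D53634
theorem N20865 : nd 20865 = n53635 := ndS (p := 19030) (l := 4) rfl N19030 D53635
theorem N20866 : nd 20866 = n53636 := ndS (p := 19030) (l := 9) rfl N19030 D53636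
theorem N20867 : nd 20867 = n53637 := ndS (p := 19031) (l := 5) rfl N19031 D53637
theorem N20868 : nd 20868 = n53638 := ndS (p := 19031) (l := 9) rfl N19031 D53638
theorem N20869 : nd 20869 = n53639 := ndS (p := 19032) (l := 8) rfl N19032 D53639
theorem N20870 : nd 20870 = n53640 := ndS (p := 19033) (l := 3) rfl N19033 D53640
theorem N20871 : nd 20871 = n53641 := ndS (p := 19033) (l := 5) rfl N19033 D53641
theorem N20872 : nd 20872 = n53642 := ndS (p := 19033) (l := 9) rfl N19033 D53642
theorem N20873 : nd 20873 = n53643 := ndS (p := 19034) (l := 8) rfl N19034 D53643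
theorem N20874 : nd 20874 = n53644 := ndS (p := 19035) (l := 6) rfl N19035 D53644
theorem N20875 : nd 20875 = n53645 := ndS (p := 19035) (l := 9) rfl N19035 D53645
theorem N20876 : nd 20876 = n53646 := ndS (p := 19036) (l := 8) rfl N19036 D53646
theorem N20877 : nd 20877 = n53647 := ndS (p := 19038) (l := 3) rfl N19038 D53647
theorem N20878 : nd 20878 = n53648 := ndS (p := 19038) (l := 9) rfl N19038 D53648
theorem N20879 : nd 20879 = n53649 := ndS (p := 19039) (l := 8) rfl N19039 D53649
theorem N20880 : nd 20880 = n53650 := ndS (p := 19040) (l := 5) rfl N19040 D53650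
theorem N20881 : nd 20881 = n53651 := ndS (p := 19040) (l := 8) rfl N19040 D53651
theorem N20882 : nd 20882 = n53652 := ndS (p := 19040) (l := 9) rfl N19040 D53652
theorem N20883 : nd 20883 = n53653 := ndS (p := 19041) (l := 9) rfl N19041 D53653
theorem N20884 : nd 20884 = n53654 := ndS (p := 19042) (l := 8) rfl N19042 D53654
theorem N20885 : nd 20885 = n53655 := ndS (p := 19044) (l := 8) rfl N19044 D53655
theorem N20886 : nd 20886 = n53656 := ndS (p := 19045) (l := 3) rfl N19045 D53656
theorem N20887 : nd 20887 = n53657 := ndS (p := 19046) (l := 6) rfl N19046 D53657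
theorem N20888 : nd 20888 = n53658 := ndS (p := 19046) (l := 9) rfl N19046 D53658
theorem N20889 : nd 20889 = n53659 := ndS (p := 19047) (l := 8) rfl N19047 D53659
theorem N20890 : nd 20890 = n53660 := ndS (p := 19049) (l := 9) rfl N19049 D53660
theorem N20891 : nd 20891 = n53661 := ndS (p := 19050) (l := 8) rfl N19050 D53661
theorem N20892 : nd 20892 = n53662 := ndS (p := 19051) (l := 3) rfl N19051 D53662
theorem N20893 : nd 20893 = n53663 := ndS (p := 19053) (l := 8) rfl N19053 D53663
theorem N20894 : nd 20894 = n53664 := ndS (p := 19054) (l := 3) rfl N19054 D53664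
theorem N20895 : nd 20895 = n53665 := ndS (p := 19055) (l := 3) rfl N19055 D53665
theorem N20896 : nd 20896 = n53666 := ndS (p := 19056) (l := 2) rfl N19056 D53666
theorem N20897 : nd 20897 = n53667 := ndS (p := 19057) (l := 2) rfl N19057 D53667
theorem N20898 : nd 20898 = n53668 := ndS (p := 19059) (l := 8) rfl N19059 D53668
theorem N20899 : nd 20899 = n53669 := ndS (p := 19060) (l := 3) rfl N19060 D53669
theorem N20900 : nd 20900 = n53670 := ndS (p := 19061) (l := 2) rfl N19061 D53670
theorem N20901 : nd 20901 = n53671 := ndS (p := 19062) (l := 2) rfl N19062 D53671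
theorem N20902 : nd 20902 = n53672 := ndS (p := 19062) (l := 4) rfl N19062 D53672
theorem N20903 : nd 20903 = n53673 := ndS (p := 19064) (l := 9) rfl N19064 D53673
theorem N20904 : nd 20904 = n53674 := ndS (p := 19067) (l := 9) rfl N19067 D53674
theorem N20905 : nd 20905 = n53675 := ndS (p := 19069) (l := 3) rfl N19069 D53675
theorem N20906 : nd 20906 = n53676 := ndS (p := 19069) (l := 9) rfl N19069 D53676
theorem N20907 : nd 20907 = n53677 := ndS (p := 19071) (l := 2) rfl N19071 D53677
theorem N20908 : nd 20908 = n53678 := ndS (p := 19071) (l := 9) rfl N19071 D53678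
theorem N20909 : nd 20909 = n53679 := ndS (p := 19073) (l := 9) rfl N19073 D53679
theorem N20910 : nd 20910 = n53680 := ndS (p := 19074) (l := 8) rfl N19074 D53680
theorem N20911 : nd 20911 = n53681 := ndS (p := 19075) (l := 4) rfl N19075 D53681
theorem N20912 : nd 20912 = n53682 := ndS (p := 19075) (l := 9) rfl N19075 D53682
theorem N20913 : nd 20913 = n53683 := ndS (p := 19077) (l := 1) rfl N19077 D53683
theorem N20914 : nd 20914 = n53684 := ndS (p := 19077) (l := 4) rfl N19077 D53684
theorem N20915 : nd 20915 = n53685 := ndS (p := 19077) (l := 9) rfl N19077 D53685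
theorem N20916 : nd 20916 = n53686 := ndS (p := 19078) (l := 5) rfl N19078 D53686
theorem N20917 : nd 20917 = n53687 := ndS (p := 19078) (l := 9) rfl N19078 D53687
theorem N20918 : nd 20918 = n53688 := ndS (p := 19079) (l := 8) rfl N19079 D53688
theorem N20919 : nd 20919 = n53689 := ndS (p := 19080) (l := 0) rfl N19080 D53689
theorem N20920 : nd 20920 = n53690 := ndS (p := 19080) (l := 4) rfl N19080 D53690
theorem N20921 : nd 20921 = n53691 := ndS (p := 19080) (l := 9) rfl N19080 D53691
theorem N20922 : nd 20922 = n53692 := ndS (p := 19081) (l := 3) rfl N19081 D53692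
theorem N20923 : nd 20923 = n53693 := ndS (p := 19081) (l := 5) rfl N19081 D53693
theorem N20924 : nd 20924 = n53694 := ndS (p := 19081) (l := 9) rfl N19081 D53694
theorem N20925 : nd 20925 = n53695 := ndS (p := 19082) (l := 8) rfl N19082 D53695
theorem N20926 : nd 20926 = n53696 := ndS (p := 19083) (l := 6) rfl N19083 D53696
theorem N20927 : nd 20927 = n53697 := ndS (p := 19083) (l := 9) rfl N19083 D53697
theorem N20928 : nd 20928 = n53698 := ndS (p := 19084) (l := 8) rfl N19084 D53698
theorem N20929 : nd 20929 = n53699 := ndS (p := 19086) (l := 4) rfl N19086 D53699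
theorem N20930 : nd 20930 = n53700 := ndS (p := 19086) (l := 9) rfl N19086 D53700
theorem N20931 : nd 20931 = n53701 := ndS (p := 19087) (l := 5) rfl N19087 D53701
theorem N20932 : nd 20932 = n53702 := ndS (p := 19087) (l := 9) rfl N19087 D53702
theorem N20933 : nd 20933 = n53703 := ndS (p := 19088) (l := 8) rfl N19088 D53703
theorem N20934 : nd 20934 = n53704 := ndS (p := 19089) (l := 4) rfl N19089 D53704
theorem N20935 : nd 20935 = n53705 := ndS (p := 19089) (l := 9) rfl N19089 D53705
theorem N20936 : nd 20936 = n53706 := ndS (p := 19090) (l := 5) rfl N19090 D53706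
theorem N20937 : nd 20937 = n53707 := ndS (p := 19090) (l := 9) rfl N19090 D53707
theorem N20938 : nd 20938 = n53708 := ndS (p := 19091) (l := 8) rfl N19091 D53708
theorem N20939 : nd 20939 = n53709 := ndS (p := 19092) (l := 6) rfl N19092 D53709
theorem N20940 : nd 20940 = n53710 := ndS (p := 19092) (l := 9) rfl N19092 D53710
theorem N20941 : nd 20941 = n53711 := ndS (p := 19093) (l := 8) rfl N19093 D53711
theorem N20942 : nd 20942 = n53712 := ndS (p := 19095) (l := 3) rfl N19095 D53712
theorem N20943 : nd 20943 = n53713 := ndS (p := 19095) (l := 9) rfl N19095 D53713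
theorem N20944 : nd 20944 = n53714 := ndS (p := 19096) (l := 8) rfl N19096 D53714
theorem N20945 : nd 20945 = n53715 := ndS (p := 19097) (l := 5) rfl N19097 D53715
theorem N20946 : nd 20946 = n53716 := ndS (p := 19097) (l := 8) rfl N19097 D53716
theorem N20947 : nd 20947 = n53717 := ndS (p := 19097) (l := 9) rfl N19097 D53717
theorem N20948 : nd 20948 = n53718 := ndS (p := 19098) (l := 6) rfl N19098 D53718
theorem N20949 : nd 20949 = n53719 := ndS (p := 19098) (l := 9) rfl N19098 D53719
theorem N20950 : nd 20950 = n53720 := ndS (p := 19099) (l := 8) rfl N19099 D53720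
theorem N20951 : nd 20951 = n53721 := ndS (p := 19101) (l := 7) rfl N19101 D53721
theorem N20952 : nd 20952 = n53722 := ndS (p := 19101) (l := 9) rfl N19101 D53722
theorem N20953 : nd 20953 = n53723 := ndS (p := 19102) (l := 8) rfl N19102 D53723
theorem N20954 : nd 20954 = n53724 := ndS (p := 19103) (l := 3) rfl N19103 D53724
theorem N20955 : nd 20955 = n53725 := ndS (p := 19104) (l := 8) rfl N19104 D53725
theorem N20956 : nd 20956 = n53726 := ndS (p := 19105) (l := 6) rfl N19105 D53726
theorem N20957 : nd 20957 = n53727 := ndS (p := 19105) (l := 9) rfl N19105 D53727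
theorem N20958 : nd 20958 = n53728 := ndS (p := 19106) (l := 8) rfl N19106 D53728
theorem N20959 : nd 20959 = n53729 := ndS (p := 19108) (l := 7) rfl N19108 D53729
theorem N20960 : nd 20960 = n53730 := ndS (p := 19108) (l := 9) rfl N19108 D53730
theorem N20961 : nd 20961 = n53731 := ndS (p := 19109) (l := 8) rfl N19109 D53731
theorem N20962 : nd 20962 = n53732 := ndS (p := 19110) (l := 3) rfl N19110 D53732
theorem N20963 : nd 20963 = n53733 := ndS (p := 19112) (l := 7) rfl N19112 D53733
theorem N20964 : nd 20964 = n53734 := ndS (p := 19112) (l := 9) rfl N19112 D53734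
theorem N20965 : nd 20965 = n53735 := ndS (p := 19113) (l := 8) rfl N19113 D53735
theorem N20966 : nd 20966 = n53736 := ndS (p := 19114) (l := 3) rfl N19114 D53736
theorem N20967 : nd 20967 = n53737 := ndS (p := 19115) (l := 9) rfl N19115 D53737
theorem N20968 : nd 20968 = n53738 := ndS (p := 19116) (l := 8) rfl N19116 D53738
theorem N20969 : nd 20969 = n53739 := ndS (p := 19117) (l := 3) rfl N19117 D53739
theorem N20970 : nd 20970 = n53740 := ndS (p := 19118) (l := 2) rfl N19118 D53740
theorem N20971 : nd 20971 = n53741 := ndS (p := 19119) (l := 9) rfl N19119 D53741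
theorem N20972 : nd 20972 = n53742 := ndS (p := 19120) (l := 8) rfl N19120 D53742
theorem N20973 : nd 20973 = n53743 := ndS (p := 19123) (l := 8) rfl N19123 D53743
theorem N20974 : nd 20974 = n53744 := ndS (p := 19124) (l := 3) rfl N19124 D53744
theorem N20975 : nd 20975 = n53745 := ndS (p := 19125) (l := 2) rfl N19125 D53745
theorem N20976 : nd 20976 = n53746 := ndS (p := 19126) (l := 1) rfl N19126 D53746
theorem N20977 : nd 20977 = n53747 := ndS (p := 19127) (l := 4) rfl N19127 D53747
theorem N20978 : nd 20978 = n53748 := ndS (p := 19127) (l := 9) rfl N19127 D53748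
theorem N20979 : nd 20979 = n53749 := ndS (p := 19128) (l := 3) rfl N19128 D53749
theorem N20980 : nd 20980 = n53750 := ndS (p := 19128) (l := 5) rfl N19128 D53750
theorem N20981 : nd 20981 = n53751 := ndS (p := 19128) (l := 9) rfl N19128 D53751
theorem N20982 : nd 20982 = n53752 := ndS (p := 19129) (l := 8) rfl N19129 D53752
theorem N20983 : nd 20983 = n53753 := ndS (p := 19130) (l := 6) rfl N19130 D53753
theorem N20984 : nd 20984 = n53754 := ndS (p := 19130) (l := 9) rfl N19130 D53754
theorem N20985 : nd 20985 = n53755 := ndS (p := 19131) (l := 8) rfl N19131 D53755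
theorem N20986 : nd 20986 = n53756 := ndS (p := 19133) (l := 4) rfl N19133 D53756
theorem N20987 : nd 20987 = n53757 := ndS (p := 19133) (l := 9) rfl N19133 D53757
theorem N20988 : nd 20988 = n53758 := ndS (p := 19134) (l := 3) rfl N19134 D53758
theorem N20989 : nd 20989 = n53759 := ndS (p := 19134) (l := 5) rfl N19134 D53759
theorem N20990 : nd 20990 = n53760 := ndS (p := 19134) (l := 9) rfl N19134 D53760
theorem N20991 : nd 20991 = n53761 := ndS (p := 19135) (l := 8) rfl N19135 D53761
theorem N20992 : nd 20992 = n53762 := ndS (p := 19136) (l := 5) rfl N19136 D53762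
theorem N20993 : nd 20993 = n53763 := ndS (p := 19136) (l := 8) rfl N19136 D53763
theorem N20994 : nd 20994 = n53764 := ndS (p := 19136) (l := 9) rfl N19136 D53764
theorem N20995 : nd 20995 = n53765 := ndS (p := 19137) (l := 6) rfl N19137 D53765
theorem N20996 : nd 20996 = n53766 := ndS (p := 19137) (l := 9) rfl N19137 D53766
theorem N20997 : nd 20997 = n53767 := ndS (p := 19138) (l := 8) rfl N19138 D53767
theorem N20998 : nd 20998 = n53768 := ndS (p := 19139) (l := 3) rfl N19139 D53768
theorem N20999 : nd 20999 = n53769 := ndS (p := 19140) (l := 7) rfl N19140 D53769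
theorem N21000 : nd 21000 = n53770 := ndS (p := 19140) (l := 9) rfl N19140 D53770
theorem N21001 : nd 21001 = n53771 := ndS (p := 19141) (l := 8) rfl N19141 D53771
theorem N21002 : nd 21002 = n53772 := ndS (p := 19142) (l := 3) rfl N19142 D53772
theorem N21003 : nd 21003 = n53773 := ndS (p := 19143) (l := 9) rfl N19143 D53773
theorem N21004 : nd 21004 = n53774 := ndS (p := 19144) (l := 8) rfl N19144 D53774
theorem N21005 : nd 21005 = n53775 := ndS (p := 19145) (l := 5) rfl N19145 D53775
theorem N21006 : nd 21006 = n53776 := ndS (p := 19145) (l := 9) rfl N19145 D53776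
theorem N21007 : nd 21007 = n53777 := ndS (p := 19146) (l := 6) rfl N19146 D53777
theorem N21008 : nd 21008 = n53778 := ndS (p := 19146) (l := 9) rfl N19146 D53778
theorem N21009 : nd 21009 = n53779 := ndS (p := 19147) (l := 8) rfl N19147 D53779
theorem N21010 : nd 21010 = n53780 := ndS (p := 19148) (l := 3) rfl N19148 D53780
theorem N21011 : nd 21011 = n53781 := ndS (p := 19149) (l := 6) rfl N19149 D53781
theorem N21012 : nd 21012 = n53782 := ndS (p := 19149) (l := 8) rfl N19149 D53782
theorem N21013 : nd 21013 = n53783 := ndS (p := 19149) (l := 9) rfl N19149 D53783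
theorem N21014 : nd 21014 = n53784 := ndS (p := 19150) (l := 9) rfl N19150 D53784
theorem N21015 : nd 21015 = n53785 := ndS (p := 19151) (l := 8) rfl N19151 D53785
theorem N21016 : nd 21016 = n53786 := ndS (p := 19152) (l := 7) rfl N19152 D53786
theorem N21017 : nd 21017 = n53787 := ndS (p := 19152) (l := 9) rfl N19152 D53787
theorem N21018 : nd 21018 = n53788 := ndS (p := 19153) (l := 8) rfl N19153 D53788
theorem N21019 : nd 21019 = n53789 := ndS (p := 19154) (l := 3) rfl N19154 D53789
theorem N21020 : nd 21020 = n53790 := ndS (p := 19155) (l := 4) rfl N19155 D53790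
theorem N21021 : nd 21021 = n53791 := ndS (p := 19156) (l := 9) rfl N19156 D53791
theorem N21022 : nd 21022 = n53792 := ndS (p := 19157) (l := 8) rfl N19157 D53792
theorem N21023 : nd 21023 = n53793 := ndS (p := 19158) (l := 3) rfl N19158 D53793
theorem N21024 : nd 21024 = n53794 := ndS (p := 19159) (l := 2) rfl N19159 D53794
theorem N21025 : nd 21025 = n53795 := ndS (p := 19160) (l := 8) rfl N19160 D53795
theorem N21026 : nd 21026 = n53796 := ndS (p := 19161) (l := 9) rfl N19161 D53796
theorem N21027 : nd 21027 = n53797 := ndS (p := 19162) (l := 8) rfl N19162 D53797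
theorem N21028 : nd 21028 = n53798 := ndS (p := 19163) (l := 3) rfl N19163 D53798
theorem N21029 : nd 21029 = n53799 := ndS (p := 19164) (l := 7) rfl N19164 D53799
theorem N21030 : nd 21030 = n53800 := ndS (p := 19164) (l := 9) rfl N19164 D53800
theorem N21031 : nd 21031 = n53801 := ndS (p := 19165) (l := 8) rfl N19165 D53801
theorem N21032 : nd 21032 = n53802 := ndS (p := 19166) (l := 3) rfl N19166 D53802
theorem N21033 : nd 21033 = n53803 := ndS (p := 19167) (l := 4) rfl N19167 D53803
theorem N21034 : nd 21034 = n53804 := ndS (p := 19168) (l := 9) rfl N19168 D53804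
theorem N21035 : nd 21035 = n53805 := ndS (p := 19169) (l := 8) rfl N19169 D53805
theorem N21036 : nd 21036 = n53806 := ndS (p := 19170) (l := 3) rfl N19170 D53806
theorem N21037 : nd 21037 = n53807 := ndS (p := 19171) (l := 2) rfl N19171 D53807
theorem N21038 : nd 21038 = n53808 := ndS (p := 19173) (l := 7) rfl N19173 D53808
theorem N21039 : nd 21039 = n53809 := ndS (p := 19173) (l := 9) rfl N19173 D53809
theorem N21040 : nd 21040 = n53810 := ndS (p := 19174) (l := 8) rfl N19174 D53810
theorem N21041 : nd 21041 = n53811 := ndS (p := 19175) (l := 3) rfl N19175 D53811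
theorem N21042 : nd 21042 = n53812 := ndS (p := 19177) (l := 9) rfl N19177 D53812
theorem N21043 : nd 21043 = n53813 := ndS (p := 19178) (l := 8) rfl N19178 D53813
theorem N21044 : nd 21044 = n53814 := ndS (p := 19179) (l := 3) rfl N19179 D53814
theorem N21045 : nd 21045 = n53815 := ndS (p := 19180) (l := 2) rfl N19180 D53815
theorem N21046 : nd 21046 = n53816 := ndS (p := 19180) (l := 4) rfl N19180 D53816
theorem N21047 : nd 21047 = n53817 := ndS (p := 19181) (l := 5) rfl N19181 D53817
theorem N21048 : nd 21048 = n53818 := ndS (p := 19182) (l := 8) rfl N19182 D53818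
theorem N21049 : nd 21049 = n53819 := ndS (p := 19183) (l := 3) rfl N19183 D53819
theorem N21050 : nd 21050 = n53820 := ndS (p := 19184) (l := 2) rfl N19184 D53820
theorem N21051 : nd 21051 = n53821 := ndS (p := 19184) (l := 4) rfl N19184 D53821
theorem N21052 : nd 21052 = n53822 := ndS (p := 19185) (l := 1) rfl N19185 D53822
theorem N21053 : nd 21053 = n53823 := ndS (p := 19186) (l := 9) rfl N19186 D53823
theorem N21054 : nd 21054 = n53824 := ndS (p := 19187) (l := 8) rfl N19187 D53824
theorem N21055 : nd 21055 = n53825 := ndS (p := 19190) (l := 8) rfl N19190 D53825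
theorem N21056 : nd 21056 = n53826 := ndS (p := 19191) (l := 3) rfl N19191 D53826
theorem N21057 : nd 21057 = n53827 := ndS (p := 19192) (l := 4) rfl N19192 D53827
theorem N21058 : nd 21058 = n53828 := ndS (p := 19195) (l := 3) rfl N19195 D53828
theorem N21059 : nd 21059 = n53829 := ndS (p := 19196) (l := 2) rfl N19196 D53829
theorem N21060 : nd 21060 = n53830 := ndS (p := 19198) (l := 0) rfl N19198 D53830
theorem N21061 : nd 21061 = n53831 := ndS (p := 19199) (l := 8) rfl N19199 D53831
theorem N21062 : nd 21062 = n53832 := ndS (p := 19200) (l := 3) rfl N19200 D53832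
theorem N21063 : nd 21063 = n53833 := ndS (p := 19201) (l := 2) rfl N19201 D53833
theorem N21064 : nd 21064 = n53834 := ndS (p := 19201) (l := 4) rfl N19201 D53834
theorem N21065 : nd 21065 = n53835 := ndS (p := 19202) (l := 1) rfl N19202 D53835
theorem N21066 : nd 21066 = n53836 := ndS (p := 19203) (l := 3) rfl N19203 D53836
theorem N21067 : nd 21067 = n53837 := ndS (p := 19204) (l := 2) rfl N19204 D53837
theorem N21068 : nd 21068 = n53838 := ndS (p := 19204) (l := 4) rfl N19204 D53838
theorem N21069 : nd 21069 = n53839 := ndS (p := 19205) (l := 1) rfl N19205 D53839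
theorem N21070 : nd 21070 = n53840 := ndS (p := 19205) (l := 4) rfl N19205 D53840
theorem N21071 : nd 21071 = n53841 := ndS (p := 19207) (l := 0) rfl N19207 D53841
theorem N21072 : nd 21072 = n53842 := ndS (p := 19208) (l := 2) rfl N19208 D53842
theorem N21073 : nd 21073 = n53843 := ndS (p := 19212) (l := 9) rfl N19212 D53843
theorem N21074 : nd 21074 = n53844 := ndS (p := 19214) (l := 3) rfl N19214 D53844
theorem N21075 : nd 21075 = n53845 := ndS (p := 19217) (l := 9) rfl N19217 D53845
theorem N21076 : nd 21076 = n53846 := ndS (p := 19218) (l := 8) rfl N19218 D53846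
theorem N21077 : nd 21077 = n53847 := ndS (p := 19219) (l := 4) rfl N19219 D53847
theorem N21078 : nd 21078 = n53848 := ndS (p := 19222) (l := 8) rfl N19222 D53848
theorem N21079 : nd 21079 = n53849 := ndS (p := 19223) (l := 4) rfl N19223 D53849
theorem N21080 : nd 21080 = n53850 := ndS (p := 19224) (l := 8) rfl N19224 D53850
theorem N21081 : nd 21081 = n53851 := ndS (p := 19225) (l := 3) rfl N19225 D53851
theorem N21082 : nd 21082 = n53852 := ndS (p := 19226) (l := 2) rfl N19226 D53852
theorem N21083 : nd 21083 = n53853 := ndS (p := 19226) (l := 4) rfl N19226 D53853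
theorem N21084 : nd 21084 = n53854 := ndS (p := 19227) (l := 5) rfl N19227 D53854
theorem N21085 : nd 21085 = n53855 := ndS (p := 19235) (l := 8) rfl N19235 D53855
theorem N21086 : nd 21086 = n53856 := ndS (p := 19238) (l := 9) rfl N19238 D53856
theorem N21087 : nd 21087 = n53857 := ndS (p := 19239) (l := 8) rfl N19239 D53857
theorem N21088 : nd 21088 = n53858 := ndS (p := 19241) (l := 9) rfl N19241 D53858
theorem N21089 : nd 21089 = n53859 := ndS (p := 19242) (l := 9) rfl N19242 D53859
theorem N21090 : nd 21090 = n53860 := ndS (p := 19243) (l := 8) rfl N19243 D53860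
theorem N21091 : nd 21091 = n53861 := ndS (p := 19244) (l := 9) rfl N19244 D53861
theorem N21092 : nd 21092 = n53862 := ndS (p := 19245) (l := 8) rfl N19245 D53862
theorem N21093 : nd 21093 = n53863 := ndS (p := 19246) (l := 3) rfl N19246 D53863
theorem N21094 : nd 21094 = n53864 := ndS (p := 19250) (l := 9) rfl N19250 D53864
theorem N21095 : nd 21095 = n53865 := ndS (p := 19252) (l := 9) rfl N19252 D53865
theorem N21096 : nd 21096 = n53866 := ndS (p := 19253) (l := 8) rfl N19253 D53866
theorem N21097 : nd 21097 = n53867 := ndS (p := 19258) (l := 3) rfl N19258 D53867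
theorem N21098 : nd 21098 = n53868 := ndS (p := 19259) (l := 2) rfl N19259 D53868
theorem N21099 : nd 21099 = n53869 := ndS (p := 19259) (l := 4) rfl N19259 D53869
theorem N21100 : nd 21100 = n53870 := ndS (p := 19260) (l := 4) rfl N19260 D53870
theorem N21101 : nd 21101 = n53871 := ndS (p := 19261) (l := 5) rfl N19261 D53871
theorem N21102 : nd 21102 = n53872 := ndS (p := 19268) (l := 8) rfl N19268 D53872
theorem N21103 : nd 21103 = n53873 := ndS (p := 19270) (l := 8) rfl N19270 D53873
theorem N21104 : nd 21104 = n53874 := ndS (p := 19271) (l := 3) rfl N19271 D53874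
theorem N21105 : nd 21105 = n53875 := ndS (p := 19273) (l := 9) rfl N19273 D53875
theorem N21106 : nd 21106 = n53876 := ndS (p := 19274) (l := 8) rfl N19274 D53876
theorem N21107 : nd 21107 = n53877 := ndS (p := 19277) (l := 8) rfl N19277 D53877
theorem N21108 : nd 21108 = n53878 := ndS (p := 19280) (l := 9) rfl N19280 D53878
theorem N21109 : nd 21109 = n53879 := ndS (p := 19281) (l := 8) rfl N19281 D53879
theorem N21110 : nd 21110 = n53880 := ndS (p := 19283) (l := 9) rfl N19283 D53880
theorem N21111 : nd 21111 = n53881 := ndS (p := 19284) (l := 8) rfl N19284 D53881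
theorem N21112 : nd 21112 = n53882 := ndS (p := 19286) (l := 8) rfl N19286 D53882
theorem N21113 : nd 21113 = n53883 := ndS (p := 19288) (l := 8) rfl N19288 D53883
theorem N21114 : nd 21114 = n53884 := ndS (p := 19290) (l := 8) rfl N19290 D53884
theorem N21115 : nd 21115 = n53885 := ndS (p := 19292) (l := 9) rfl N19292 D53885
theorem N21116 : nd 21116 = n53886 := ndS (p := 19293) (l := 8) rfl N19293 D53886
theorem N21117 : nd 21117 = n53887 := ndS (p := 19294) (l := 9) rfl N19294 D53887
theorem N21118 : nd 21118 = n53888 := ndS (p := 19295) (l := 8) rfl N19295 D53888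
theorem N21119 : nd 21119 = n53889 := ndS (p := 19296) (l := 8) rfl N19296 D53889
theorem N21120 : nd 21120 = n53890 := ndS (p := 19298) (l := 5) rfl N19298 D53890
theorem N21121 : nd 21121 = n53891 := ndS (p := 19298) (l := 9) rfl N19298 D53891
theorem N21122 : nd 21122 = n53892 := ndS (p := 19299) (l := 8) rfl N19299 D53892
theorem N21123 : nd 21123 = n53893 := ndS (p := 19300) (l := 5) rfl N19300 D53893
theorem N21124 : nd 21124 = n53894 := ndS (p := 19300) (l := 9) rfl N19300 D53894
theorem N21125 : nd 21125 = n53895 := ndS (p := 19301) (l := 6) rfl N19301 D53895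
theorem N21126 : nd 21126 = n53896 := ndS (p := 19301) (l := 9) rfl N19301 D53896
theorem N21127 : nd 21127 = n53897 := ndS (p := 19302) (l := 8) rfl N19302 D53897
theorem N21128 : nd 21128 = n53898 := ndS (p := 19304) (l := 9) rfl N19304 D53898
theorem N21129 : nd 21129 = n53899 := ndS (p := 19305) (l := 8) rfl N19305 D53899
theorem N21130 : nd 21130 = n53900 := ndS (p := 19306) (l := 3) rfl N19306 D53900
theorem N21131 : nd 21131 = n53901 := ndS (p := 19307) (l := 8) rfl N19307 D53901
theorem N21132 : nd 21132 = n53902 := ndS (p := 19309) (l := 9) rfl N19309 D53902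
theorem N21133 : nd 21133 = n53903 := ndS (p := 19310) (l := 8) rfl N19310 D53903
theorem N21134 : nd 21134 = n53904 := ndS (p := 19312) (l := 9) rfl N19312 D53904
theorem N21135 : nd 21135 = n53905 := ndS (p := 19313) (l := 8) rfl N19313 D53905
theorem N21136 : nd 21136 = n53906 := ndS (p := 19314) (l := 3) rfl N19314 D53906
theorem N21137 : nd 21137 = n53907 := ndS (p := 19316) (l := 8) rfl N19316 D53907
theorem N21138 : nd 21138 = n53908 := ndS (p := 19318) (l := 3) rfl N19318 D53908
theorem N21139 : nd 21139 = n53909 := ndS (p := 19319) (l := 8) rfl N19319 D53909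
theorem N21140 : nd 21140 = n53910 := ndS (p := 19320) (l := 3) rfl N19320 D53910
theorem N21141 : nd 21141 = n53911 := ndS (p := 19322) (l := 8) rfl N19322 D53911
theorem N21142 : nd 21142 = n53912 := ndS (p := 19324) (l := 8) rfl N19324 D53912
theorem N21143 : nd 21143 = n53913 := ndS (p := 19327) (l := 4) rfl N19327 D53913
theorem N21144 : nd 21144 = n53914 := ndS (p := 19327) (l := 9) rfl N19327 D53914
theorem N21145 : nd 21145 = n53915 := ndS (p := 19328) (l := 9) rfl N19328 D53915
theorem N21146 : nd 21146 = n53916 := ndS (p := 19329) (l := 8) rfl N19329 D53916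
theorem N21147 : nd 21147 = n53917 := ndS (p := 19330) (l := 9) rfl N19330 D53917
theorem N21148 : nd 21148 = n53918 := ndS (p := 19331) (l := 8) rfl N19331 D53918
theorem N21149 : nd 21149 = n53919 := ndS (p := 19332) (l := 8) rfl N19332 D53919
theorem N21150 : nd 21150 = n53920 := ndS (p := 19335) (l := 8) rfl N19335 D53920
theorem N21151 : nd 21151 = n53921 := ndS (p := 19337) (l := 4) rfl N19337 D53921
theorem N21152 : nd 21152 = n53922 := ndS (p := 19337) (l := 9) rfl N19337 D53922
theorem N21153 : nd 21153 = n53923 := ndS (p := 19338) (l := 9) rfl N19338 D53923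
theorem N21154 : nd 21154 = n53924 := ndS (p := 19339) (l := 8) rfl N19339 D53924
theorem N21155 : nd 21155 = n53925 := ndS (p := 19340) (l := 8) rfl N19340 D53925
theorem N21156 : nd 21156 = n53926 := ndS (p := 19341) (l := 3) rfl N19341 D53926
theorem N21157 : nd 21157 = n53927 := ndS (p := 19342) (l := 3) rfl N19342 D53927
theorem N21158 : nd 21158 = n53928 := ndS (p := 19343) (l := 9) rfl N19343 D53928
theorem N21159 : nd 21159 = n53929 := ndS (p := 19344) (l := 8) rfl N19344 D53929
theorem N21160 : nd 21160 = n53930 := ndS (p := 19345) (l := 3) rfl N19345 D53930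
theorem N21161 : nd 21161 = n53931 := ndS (p := 19346) (l := 8) rfl N19346 D53931
theorem N21162 : nd 21162 = n53932 := ndS (p := 19347) (l := 3) rfl N19347 D53932
theorem N21163 : nd 21163 = n53933 := ndS (p := 19351) (l := 8) rfl N19351 D53933
theorem N21164 : nd 21164 = n53934 := ndS (p := 19352) (l := 3) rfl N19352 D53934
theorem N21165 : nd 21165 = n53935 := ndS (p := 19353) (l := 4) rfl N19353 D53935
theorem N21166 : nd 21166 = n53936 := ndS (p := 19354) (l := 8) rfl N19354 D53936
theorem N21167 : nd 21167 = n53937 := ndS (p := 19355) (l := 3) rfl N19355 D53937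
theorem N21168 : nd 21168 = n53938 := ndS (p := 19356) (l := 4) rfl N19356 D53938
theorem N21169 : nd 21169 = n53939 := ndS (p := 19359) (l := 5) rfl N19359 D53939
theorem N21170 : nd 21170 = n53940 := ndS (p := 19363) (l := 9) rfl N19363 D53940
theorem N21171 : nd 21171 = n53941 := ndS (p := 19364) (l := 8) rfl N19364 D53941
theorem N21172 : nd 21172 = n53942 := ndS (p := 19365) (l := 8) rfl N19365 D53942
theorem N21173 : nd 21173 = n53943 := ndS (p := 19368) (l := 3) rfl N19368 D53943
theorem N21174 : nd 21174 = n53944 := ndS (p := 19368) (l := 9) rfl N19368 D53944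
theorem N21175 : nd 21175 = n53945 := ndS (p := 19369) (l := 8) rfl N19369 D53945
theorem N21176 : nd 21176 = n53946 := ndS (p := 19370) (l := 8) rfl N19370 D53946
theorem N21177 : nd 21177 = n53947 := ndS (p := 19372) (l := 8) rfl N19372 D53947
theorem N21178 : nd 21178 = n53948 := ndS (p := 19374) (l := 3) rfl N19374 D53948
theorem N21179 : nd 21179 = n53949 := ndS (p := 19376) (l := 1) rfl N19376 D53949
theorem N21180 : nd 21180 = n53950 := ndS (p := 19376) (l := 4) rfl N19376 D53950
theorem N21181 : nd 21181 = n53951 := ndS (p := 19376) (l := 9) rfl N19376 D53951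
theorem N21182 : nd 21182 = n53952 := ndS (p := 19377) (l := 5) rfl N19377 D53952
theorem N21183 : nd 21183 = n53953 := ndS (p := 19377) (l := 9) rfl N19377 D53953
theorem N21184 : nd 21184 = n53954 := ndS (p := 19378) (l := 8) rfl N19378 D53954
theorem N21185 : nd 21185 = n53955 := ndS (p := 19379) (l := 4) rfl N19379 D53955
theorem N21186 : nd 21186 = n53956 := ndS (p := 19379) (l := 9) rfl N19379 D53956
theorem N21187 : nd 21187 = n53957 := ndS (p := 19380) (l := 3) rfl N19380 D53957
theorem N21188 : nd 21188 = n53958 := ndS (p := 19380) (l := 5) rfl N19380 D53958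
theorem N21189 : nd 21189 = n53959 := ndS (p := 19380) (l := 9) rfl N19380 D53959
theorem N21190 : nd 21190 = n53960 := ndS (p := 19381) (l := 8) rfl N19381 D53960
theorem N21191 : nd 21191 = n53961 := ndS (p := 19382) (l := 9) rfl N19382 D53961
theorem N21192 : nd 21192 = n53962 := ndS (p := 19383) (l := 8) rfl N19383 D53962
theorem N21193 : nd 21193 = n53963 := ndS (p := 19385) (l := 3) rfl N19385 D53963
theorem N21194 : nd 21194 = n53964 := ndS (p := 19385) (l := 9) rfl N19385 D53964
theorem N21195 : nd 21195 = n53965 := ndS (p := 19386) (l := 8) rfl N19386 D53965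
theorem N21196 : nd 21196 = n53966 := ndS (p := 19387) (l := 5) rfl N19387 D53966
theorem N21197 : nd 21197 = n53967 := ndS (p := 19387) (l := 9) rfl N19387 D53967
theorem N21198 : nd 21198 = n53968 := ndS (p := 19388) (l := 9) rfl N19388 D53968
theorem N21199 : nd 21199 = n53969 := ndS (p := 19389) (l := 8) rfl N19389 D53969
theorem N21200 : nd 21200 = n53970 := ndS (p := 19390) (l := 3) rfl N19390 D53970
theorem N21201 : nd 21201 = n53971 := ndS (p := 19391) (l := 8) rfl N19391 D53971
theorem N21202 : nd 21202 = n53972 := ndS (p := 19392) (l := 3) rfl N19392 D53972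
theorem N21203 : nd 21203 = n53973 := ndS (p := 19393) (l := 8) rfl N19393 D53973
theorem N21204 : nd 21204 = n53974 := ndS (p := 19394) (l := 9) rfl N19394 D53974
theorem N21205 : nd 21205 = n53975 := ndS (p := 19395) (l := 8) rfl N19395 D53975
theorem N21206 : nd 21206 = n53976 := ndS (p := 19396) (l := 3) rfl N19396 D53976
theorem N21207 : nd 21207 = n53977 := ndS (p := 19397) (l := 8) rfl N19397 D53977
theorem N21208 : nd 21208 = n53978 := ndS (p := 19399) (l := 3) rfl N19399 D53978
theorem N21209 : nd 21209 = n53979 := ndS (p := 19400) (l := 8) rfl N19400 D53979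
theorem N21210 : nd 21210 = n53980 := ndS (p := 19401) (l := 3) rfl N19401 D53980
theorem N21211 : nd 21211 = n53981 := ndS (p := 19402) (l := 4) rfl N19402 D53981
theorem N21212 : nd 21212 = n53982 := ndS (p := 19404) (l := 4) rfl N19404 D53982
theorem N21213 : nd 21213 = n53983 := ndS (p := 19407) (l := 9) rfl N19407 D53983
theorem N21214 : nd 21214 = n53984 := ndS (p := 19408) (l := 8) rfl N19408 D53984
theorem N21215 : nd 21215 = n53985 := ndS (p := 19410) (l := 8) rfl N19410 D53985
theorem N21216 : nd 21216 = n53986 := ndS (p := 19411) (l := 9) rfl N19411 D53986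
theorem N21217 : nd 21217 = n53987 := ndS (p := 19412) (l := 8) rfl N19412 D53987
theorem N21218 : nd 21218 = n53988 := ndS (p := 19413) (l := 3) rfl N19413 D53988
theorem N21219 : nd 21219 = n53989 := ndS (p := 19415) (l := 8) rfl N19415 D53989
theorem N21220 : nd 21220 = n53990 := ndS (p := 19416) (l := 9) rfl N19416 D53990
theorem N21221 : nd 21221 = n53991 := ndS (p := 19417) (l := 8) rfl N19417 D53991
theorem N21222 : nd 21222 = n53992 := ndS (p := 19418) (l := 3) rfl N19418 D53992
theorem N21223 : nd 21223 = n53993 := ndS (p := 19419) (l := 8) rfl N19419 D53993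
theorem N21224 : nd 21224 = n53994 := ndS (p := 19420) (l := 3) rfl N19420 D53994
theorem N21225 : nd 21225 = n53995 := ndS (p := 19421) (l := 4) rfl N19421 D53995
theorem N21226 : nd 21226 = n53996 := ndS (p := 19422) (l := 8) rfl N19422 D53996
theorem N21227 : nd 21227 = n53997 := ndS (p := 19423) (l := 3) rfl N19423 D53997
theorem N21228 : nd 21228 = n53998 := ndS (p := 19424) (l := 4) rfl N19424 D53998
theorem N21229 : nd 21229 = n53999 := ndS (p := 19426) (l := 4) rfl N19426 D53999
theorem N21230 : nd 21230 = n54000 := ndS (p := 19427) (l := 5) rfl N19427 D54000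
theorem N21231 : nd 21231 = n54001 := ndS (p := 19429) (l := 0) rfl N19429 D54001
theorem N21232 : nd 21232 = n54002 := ndS (p := 19429) (l := 4) rfl N19429 D54002
theorem N21233 : nd 21233 = n54003 := ndS (p := 19429) (l := 9) rfl N19429 D54003
theorem N21234 : nd 21234 = n54004 := ndS (p := 19430) (l := 3) rfl N19430 D54004
theorem N21235 : nd 21235 = n54005 := ndS (p := 19430) (l := 9) rfl N19430 D54005
theorem N21236 : nd 21236 = n54006 := ndS (p := 19431) (l := 8) rfl N19431 D54006
theorem N21237 : nd 21237 = n54007 := ndS (p := 19432) (l := 8) rfl N19432 D54007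
theorem N21238 : nd 21238 = n54008 := ndS (p := 19434) (l := 4) rfl N19434 D54008
theorem N21239 : nd 21239 = n54009 := ndS (p := 19434) (l := 9) rfl N19434 D54009
theorem N21240 : nd 21240 = n54010 := ndS (p := 19435) (l := 9) rfl N19435 D54010
theorem N21241 : nd 21241 = n54011 := ndS (p := 19436) (l := 8) rfl N19436 D54011
theorem N21242 : nd 21242 = n54012 := ndS (p := 19437) (l := 4) rfl N19437 D54012
theorem N21243 : nd 21243 = n54013 := ndS (p := 19437) (l := 9) rfl N19437 D54013
theorem N21244 : nd 21244 = n54014 := ndS (p := 19438) (l := 3) rfl N19438 D54014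
theorem N21245 : nd 21245 = n54015 := ndS (p := 19438) (l := 9) rfl N19438 D54015
theorem N21246 : nd 21246 = n54016 := ndS (p := 19439) (l := 8) rfl N19439 D54016
theorem N21247 : nd 21247 = n54017 := ndS (p := 19440) (l := 8) rfl N19440 D54017
theorem N21248 : nd 21248 = n54018 := ndS (p := 19442) (l := 3) rfl N19442 D54018
theorem N21249 : nd 21249 = n54019 := ndS (p := 19442) (l := 5) rfl N19442 D54019
theorem N21250 : nd 21250 = n54020 := ndS (p := 19442) (l := 9) rfl N19442 D54020
theorem N21251 : nd 21251 = n54021 := ndS (p := 19443) (l := 8) rfl N19443 D54021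
theorem N21252 : nd 21252 = n54022 := ndS (p := 19444) (l := 5) rfl N19444 D54022
theorem N21253 : nd 21253 = n54023 := ndS (p := 19444) (l := 8) rfl N19444 D54023
theorem N21254 : nd 21254 = n54024 := ndS (p := 19444) (l := 9) rfl N19444 D54024
theorem N21255 : nd 21255 = n54025 := ndS (p := 19445) (l := 9) rfl N19445 D54025
theorem N21256 : nd 21256 = n54026 := ndS (p := 19446) (l := 8) rfl N19446 D54026
theorem N21257 : nd 21257 = n54027 := ndS (p := 19447) (l := 3) rfl N19447 D54027
theorem N21258 : nd 21258 = n54028 := ndS (p := 19448) (l := 9) rfl N19448 D54028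
theorem N21259 : nd 21259 = n54029 := ndS (p := 19449) (l := 8) rfl N19449 D54029
theorem N21260 : nd 21260 = n54030 := ndS (p := 19450) (l := 3) rfl N19450 D54030
theorem N21261 : nd 21261 = n54031 := ndS (p := 19451) (l := 8) rfl N19451 D54031
theorem N21262 : nd 21262 = n54032 := ndS (p := 19452) (l := 3) rfl N19452 D54032
theorem N21263 : nd 21263 = n54033 := ndS (p := 19453) (l := 9) rfl N19453 D54033
theorem N21264 : nd 21264 = n54034 := ndS (p := 19454) (l := 8) rfl N19454 D54034
theorem N21265 : nd 21265 = n54035 := ndS (p := 19455) (l := 3) rfl N19455 D54035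
theorem N21266 : nd 21266 = n54036 := ndS (p := 19456) (l := 8) rfl N19456 D54036
theorem N21267 : nd 21267 = n54037 := ndS (p := 19459) (l := 8) rfl N19459 D54037
theorem N21268 : nd 21268 = n54038 := ndS (p := 19463) (l := 8) rfl N19463 D54038
theorem N21269 : nd 21269 = n54039 := ndS (p := 19465) (l := 5) rfl N19465 D54039
theorem N21270 : nd 21270 = n54040 := ndS (p := 19465) (l := 9) rfl N19465 D54040
theorem N21271 : nd 21271 = n54041 := ndS (p := 19466) (l := 8) rfl N19466 D54041
theorem N21272 : nd 21272 = n54042 := ndS (p := 19467) (l := 9) rfl N19467 D54042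
theorem N21273 : nd 21273 = n54043 := ndS (p := 19468) (l := 8) rfl N19468 D54043
theorem N21274 : nd 21274 = n54044 := ndS (p := 19470) (l := 5) rfl N19470 D54044
theorem N21275 : nd 21275 = n54045 := ndS (p := 19470) (l := 9) rfl N19470 D54045
theorem N21276 : nd 21276 = n54046 := ndS (p := 19471) (l := 8) rfl N19471 D54046
theorem N21277 : nd 21277 = n54047 := ndS (p := 19472) (l := 5) rfl N19472 D54047
theorem N21278 : nd 21278 = n54048 := ndS (p := 19472) (l := 8) rfl N19472 D54048
theorem N21279 : nd 21279 = n54049 := ndS (p := 19472) (l := 9) rfl N19472 D54049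
theorem N21280 : nd 21280 = n54050 := ndS (p := 19473) (l := 9) rfl N19473 D54050
theorem N21281 : nd 21281 = n54051 := ndS (p := 19474) (l := 8) rfl N19474 D54051
theorem N21282 : nd 21282 = n54052 := ndS (p := 19475) (l := 3) rfl N19475 D54052
theorem N21283 : nd 21283 = n54053 := ndS (p := 19476) (l := 8) rfl N19476 D54053
theorem N21284 : nd 21284 = n54054 := ndS (p := 19477) (l := 3) rfl N19477 D54054
theorem N21285 : nd 21285 = n54055 := ndS (p := 19478) (l := 5) rfl N19478 D54055
theorem N21286 : nd 21286 = n54056 := ndS (p := 19478) (l := 9) rfl N19478 D54056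
theorem N21287 : nd 21287 = n54057 := ndS (p := 19479) (l := 8) rfl N19479 D54057
theorem N21288 : nd 21288 = n54058 := ndS (p := 19480) (l := 5) rfl N19480 D54058
theorem N21289 : nd 21289 = n54059 := ndS (p := 19480) (l := 8) rfl N19480 D54059
theorem N21290 : nd 21290 = n54060 := ndS (p := 19480) (l := 9) rfl N19480 D54060
theorem N21291 : nd 21291 = n54061 := ndS (p := 19481) (l := 6) rfl N19481 D54061
theorem N21292 : nd 21292 = n54062 := ndS (p := 19481) (l := 9) rfl N19481 D54062
theorem N21293 : nd 21293 = n54063 := ndS (p := 19482) (l := 8) rfl N19482 D54063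
theorem N21294 : nd 21294 = n54064 := ndS (p := 19483) (l := 3) rfl N19483 D54064
theorem N21295 : nd 21295 = n54065 := ndS (p := 19484) (l := 6) rfl N19484 D54065
theorem N21296 : nd 21296 = n54066 := ndS (p := 19484) (l := 8) rfl N19484 D54066
theorem N21297 : nd 21297 = n54067 := ndS (p := 19484) (l := 9) rfl N19484 D54067
theorem N21298 : nd 21298 = n54068 := ndS (p := 19485) (l := 9) rfl N19485 D54068
theorem N21299 : nd 21299 = n54069 := ndS (p := 19486) (l := 8) rfl N19486 D54069
theorem N21300 : nd 21300 = n54070 := ndS (p := 19487) (l := 7) rfl N19487 D54070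
theorem N21301 : nd 21301 = n54071 := ndS (p := 19487) (l := 9) rfl N19487 D54071
theorem N21302 : nd 21302 = n54072 := ndS (p := 19488) (l := 8) rfl N19488 D54072
theorem N21303 : nd 21303 = n54073 := ndS (p := 19489) (l := 3) rfl N19489 D54073
theorem N21304 : nd 21304 = n54074 := ndS (p := 19490) (l := 4) rfl N19490 D54074
theorem N21305 : nd 21305 = n54075 := ndS (p := 19491) (l := 9) rfl N19491 D54075
theorem N21306 : nd 21306 = n54076 := ndS (p := 19492) (l := 8) rfl N19492 D54076
theorem N21307 : nd 21307 = n54077 := ndS (p := 19493) (l := 3) rfl N19493 D54077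
theorem N21308 : nd 21308 = n54078 := ndS (p := 19494) (l := 2) rfl N19494 D54078
theorem N21309 : nd 21309 = n54079 := ndS (p := 19495) (l := 5) rfl N19495 D54079
theorem N21310 : nd 21310 = n54080 := ndS (p := 19495) (l := 9) rfl N19495 D54080
theorem N21311 : nd 21311 = n54081 := ndS (p := 19496) (l := 8) rfl N19496 D54081
theorem N21312 : nd 21312 = n54082 := ndS (p := 19497) (l := 9) rfl N19497 D54082
theorem N21313 : nd 21313 = n54083 := ndS (p := 19498) (l := 8) rfl N19498 D54083
theorem N21314 : nd 21314 = n54084 := ndS (p := 19499) (l := 3) rfl N19499 D54084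
theorem N21315 : nd 21315 = n54085 := ndS (p := 19500) (l := 8) rfl N19500 D54085
theorem N21316 : nd 21316 = n54086 := ndS (p := 19501) (l := 3) rfl N19501 D54086
theorem N21317 : nd 21317 = n54087 := ndS (p := 19502) (l := 4) rfl N19502 D54087
theorem N21318 : nd 21318 = n54088 := ndS (p := 19504) (l := 9) rfl N19504 D54088
theorem N21319 : nd 21319 = n54089 := ndS (p := 19505) (l := 8) rfl N19505 D54089
theorem N21320 : nd 21320 = n54090 := ndS (p := 19507) (l := 9) rfl N19507 D54090
theorem N21321 : nd 21321 = n54091 := ndS (p := 19508) (l := 8) rfl N19508 D54091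
theorem N21322 : nd 21322 = n54092 := ndS (p := 19509) (l := 3) rfl N19509 D54092
theorem N21323 : nd 21323 = n54093 := ndS (p := 19511) (l := 9) rfl N19511 D54093
theorem N21324 : nd 21324 = n54094 := ndS (p := 19512) (l := 8) rfl N19512 D54094
theorem N21325 : nd 21325 = n54095 := ndS (p := 19513) (l := 3) rfl N19513 D54095
theorem N21326 : nd 21326 = n54096 := ndS (p := 19515) (l := 5) rfl N19515 D54096
theorem N21327 : nd 21327 = n54097 := ndS (p := 19516) (l := 8) rfl N19516 D54097
theorem N21328 : nd 21328 = n54098 := ndS (p := 19518) (l := 3) rfl N19518 D54098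
theorem N21329 : nd 21329 = n54099 := ndS (p := 19519) (l := 9) rfl N19519 D54099
theorem N21330 : nd 21330 = n54100 := ndS (p := 19520) (l := 8) rfl N19520 D54100
theorem N21331 : nd 21331 = n54101 := ndS (p := 19523) (l := 8) rfl N19523 D54101
theorem N21332 : nd 21332 = n54102 := ndS (p := 19524) (l := 3) rfl N19524 D54102
theorem N21333 : nd 21333 = n54103 := ndS (p := 19527) (l := 3) rfl N19527 D54103
theorem N21334 : nd 21334 = n54104 := ndS (p := 19528) (l := 3) rfl N19528 D54104
theorem N21335 : nd 21335 = n54105 := ndS (p := 19529) (l := 9) rfl N19529 D54105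
theorem N21336 : nd 21336 = n54106 := ndS (p := 19530) (l := 8) rfl N19530 D54106
theorem N21337 : nd 21337 = n54107 := ndS (p := 19531) (l := 3) rfl N19531 D54107
theorem N21338 : nd 21338 = n54108 := ndS (p := 19532) (l := 4) rfl N19532 D54108
theorem N21339 : nd 21339 = n54109 := ndS (p := 19534) (l := 9) rfl N19534 D54109
theorem N21340 : nd 21340 = n54110 := ndS (p := 19535) (l := 8) rfl N19535 D54110
theorem N21341 : nd 21341 = n54111 := ndS (p := 19536) (l := 3) rfl N19536 D54111
theorem N21342 : nd 21342 = n54112 := ndS (p := 19537) (l := 4) rfl N19537 D54112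
theorem N21343 : nd 21343 = n54113 := ndS (p := 19538) (l := 8) rfl N19538 D54113
theorem N21344 : nd 21344 = n54114 := ndS (p := 19539) (l := 3) rfl N19539 D54114
theorem N21345 : nd 21345 = n54115 := ndS (p := 19540) (l := 4) rfl N19540 D54115
theorem N21346 : nd 21346 = n54116 := ndS (p := 19541) (l := 5) rfl N19541 D54116
theorem N21347 : nd 21347 = n54117 := ndS (p := 19544) (l := 5) rfl N19544 D54117
theorem N21348 : nd 21348 = n54118 := ndS (p := 19548) (l := 3) rfl N19548 D54118
theorem N21349 : nd 21349 = n54119 := ndS (p := 19549) (l := 3) rfl N19549 D54119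
theorem N21350 : nd 21350 = n54120 := ndS (p := 19550) (l := 4) rfl N19550 D54120
theorem N21351 : nd 21351 = n54121 := ndS (p := 19551) (l := 3) rfl N19551 D54121
theorem N21352 : nd 21352 = n54122 := ndS (p := 19552) (l := 3) rfl N19552 D54122
theorem N21353 : nd 21353 = n54123 := ndS (p := 19553) (l := 4) rfl N19553 D54123
theorem N21354 : nd 21354 = n54124 := ndS (p := 19554) (l := 5) rfl N19554 D54124
theorem N21355 : nd 21355 = n54125 := ndS (p := 19555) (l := 3) rfl N19555 D54125
theorem N21356 : nd 21356 = n54126 := ndS (p := 19557) (l := 4) rfl N19557 D54126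
theorem N21357 : nd 21357 = n54127 := ndS (p := 19559) (l := 3) rfl N19559 D54127
theorem N21358 : nd 21358 = n54128 := ndS (p := 19560) (l := 4) rfl N19560 D54128
theorem N21359 : nd 21359 = n54129 := ndS (p := 19561) (l := 3) rfl N19561 D54129
theorem N21360 : nd 21360 = n54130 := ndS (p := 19562) (l := 3) rfl N19562 D54130
theorem N21361 : nd 21361 = n54131 := ndS (p := 19563) (l := 3) rfl N19563 D54131
theorem N21362 : nd 21362 = n54132 := ndS (p := 19565) (l := 3) rfl N19565 D54132
theorem N21363 : nd 21363 = n54133 := ndS (p := 19567) (l := 4) rfl N19567 D54133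
theorem N21364 : nd 21364 = n54134 := ndS (p := 19570) (l := 5) rfl N19570 D54134
theorem N21365 : nd 21365 = n54135 := ndS (p := 19576) (l := 9) rfl N19576 D54135
theorem N21366 : nd 21366 = n54136 := ndS (p := 19577) (l := 8) rfl N19577 D54136
theorem N21367 : nd 21367 = n54137 := ndS (p := 19579) (l := 9) rfl N19579 D54137
theorem N21368 : nd 21368 = n54138 := ndS (p := 19580) (l := 8) rfl N19580 D54138
theorem N21369 : nd 21369 = n54139 := ndS (p := 19581) (l := 9) rfl N19581 D54139
theorem N21370 : nd 21370 = n54140 := ndS (p := 19582) (l := 8) rfl N19582 D54140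
theorem N21371 : nd 21371 = n54141 := ndS (p := 19583) (l := 8) rfl N19583 D54141
theorem N21372 : nd 21372 = n54142 := ndS (p := 19586) (l := 3) rfl N19586 D54142
theorem N21373 : nd 21373 = n54143 := ndS (p := 19587) (l := 4) rfl N19587 D54143
theorem N21374 : nd 21374 = n54144 := ndS (p := 19588) (l := 8) rfl N19588 D54144
theorem N21375 : nd 21375 = n54145 := ndS (p := 19589) (l := 3) rfl N19589 D54145
theorem N21376 : nd 21376 = n54146 := ndS (p := 19590) (l := 3) rfl N19590 D54146
theorem N21377 : nd 21377 = n54147 := ndS (p := 19591) (l := 4) rfl N19591 D54147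
theorem N21378 : nd 21378 = n54148 := ndS (p := 19594) (l := 3) rfl N19594 D54148
theorem N21379 : nd 21379 = n54149 := ndS (p := 19594) (l := 9) rfl N19594 D54149
theorem N21380 : nd 21380 = n54150 := ndS (p := 19595) (l := 8) rfl N19595 D54150
theorem N21381 : nd 21381 = n54151 := ndS (p := 19596) (l := 8) rfl N19596 D54151
theorem N21382 : nd 21382 = n54152 := ndS (p := 19598) (l := 3) rfl N19598 D54152
theorem N21383 : nd 21383 = n54153 := ndS (p := 19599) (l := 3) rfl N19599 D54153
theorem N21384 : nd 21384 = n54154 := ndS (p := 19600) (l := 4) rfl N19600 D54154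
theorem N21385 : nd 21385 = n54155 := ndS (p := 19601) (l := 8) rfl N19601 D54155
theorem N21386 : nd 21386 = n54156 := ndS (p := 19603) (l := 5) rfl N19603 D54156
theorem N21387 : nd 21387 = n54157 := ndS (p := 19603) (l := 8) rfl N19603 D54157
theorem N21388 : nd 21388 = n54158 := ndS (p := 19603) (l := 9) rfl N19603 D54158
theorem N21389 : nd 21389 = n54159 := ndS (p := 19604) (l := 9) rfl N19604 D54159
theorem N21390 : nd 21390 = n54160 := ndS (p := 19605) (l := 8) rfl N19605 D54160
theorem N21391 : nd 21391 = n54161 := ndS (p := 19606) (l := 3) rfl N19606 D54161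
theorem N21392 : nd 21392 = n54162 := ndS (p := 19607) (l := 8) rfl N19607 D54162
theorem N21393 : nd 21393 = n54163 := ndS (p := 19608) (l := 3) rfl N19608 D54163
theorem N21394 : nd 21394 = n54164 := ndS (p := 19609) (l := 8) rfl N19609 D54164
theorem N21395 : nd 21395 = n54165 := ndS (p := 19610) (l := 3) rfl N19610 D54165
theorem N21396 : nd 21396 = n54166 := ndS (p := 19611) (l := 4) rfl N19611 D54166
theorem N21397 : nd 21397 = n54167 := ndS (p := 19614) (l := 3) rfl N19614 D54167
theorem N21398 : nd 21398 = n54168 := ndS (p := 19616) (l := 4) rfl N19616 D54168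
theorem N21399 : nd 21399 = n54169 := ndS (p := 19617) (l := 5) rfl N19617 D54169
theorem N21400 : nd 21400 = n54170 := ndS (p := 19618) (l := 9) rfl N19618 D54170
theorem N21401 : nd 21401 = n54171 := ndS (p := 19619) (l := 8) rfl N19619 D54171
theorem N21402 : nd 21402 = n54172 := ndS (p := 19620) (l := 3) rfl N19620 D54172
theorem N21403 : nd 21403 = n54173 := ndS (p := 19621) (l := 4) rfl N19621 D54173
theorem N21404 : nd 21404 = n54174 := ndS (p := 19622) (l := 5) rfl N19622 D54174
theorem N21405 : nd 21405 = n54175 := ndS (p := 19623) (l := 6) rfl N19623 D54175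
theorem N21406 : nd 21406 = n54176 := ndS (p := 19624) (l := 3) rfl N19624 D54176
theorem N21407 : nd 21407 = n54177 := ndS (p := 19624) (l := 9) rfl N19624 D54177
theorem N21408 : nd 21408 = n54178 := ndS (p := 19625) (l := 8) rfl N19625 D54178
theorem N21409 : nd 21409 = n54179 := ndS (p := 19626) (l := 8) rfl N19626 D54179
theorem N21410 : nd 21410 = n54180 := ndS (p := 19628) (l := 3) rfl N19628 D54180
theorem N21411 : nd 21411 = n54181 := ndS (p := 19629) (l := 3) rfl N19629 D54181
theorem N21412 : nd 21412 = n54182 := ndS (p := 19631) (l := 9) rfl N19631 D54182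
theorem N21413 : nd 21413 = n54183 := ndS (p := 19632) (l := 8) rfl N19632 D54183
theorem N21414 : nd 21414 = n54184 := ndS (p := 19633) (l := 8) rfl N19633 D54184
theorem N21415 : nd 21415 = n54185 := ndS (p := 19635) (l := 8) rfl N19635 D54185
theorem N21416 : nd 21416 = n54186 := ndS (p := 19636) (l := 3) rfl N19636 D54186
theorem N21417 : nd 21417 = n54187 := ndS (p := 19637) (l := 3) rfl N19637 D54187
theorem N21418 : nd 21418 = n54188 := ndS (p := 19638) (l := 4) rfl N19638 D54188
theorem N21419 : nd 21419 = n54189 := ndS (p := 19643) (l := 4) rfl N19643 D54189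
theorem N21420 : nd 21420 = n54190 := ndS (p := 19644) (l := 5) rfl N19644 D54190
theorem N21421 : nd 21421 = n54191 := ndS (p := 19645) (l := 9) rfl N19645 D54191
theorem N21422 : nd 21422 = n54192 := ndS (p := 19646) (l := 8) rfl N19646 D54192
theorem N21423 : nd 21423 = n54193 := ndS (p := 19647) (l := 8) rfl N19647 D54193
theorem N21424 : nd 21424 = n54194 := ndS (p := 19647) (l := 9) rfl N19647 D54194
theorem N21425 : nd 21425 = n54195 := ndS (p := 19648) (l := 8) rfl N19648 D54195
theorem N21426 : nd 21426 = n54196 := ndS (p := 19649) (l := 3) rfl N19649 D54196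
theorem N21427 : nd 21427 = n54197 := ndS (p := 19650) (l := 3) rfl N19650 D54197
theorem N21428 : nd 21428 = n54198 := ndS (p := 19651) (l := 3) rfl N19651 D54198
theorem N21429 : nd 21429 = n54199 := ndS (p := 19652) (l := 4) rfl N19652 D54199
theorem N21430 : nd 21430 = n54200 := ndS (p := 19654) (l := 4) rfl N19654 D54200
theorem N21431 : nd 21431 = n54201 := ndS (p := 19656) (l := 9) rfl N19656 D54201
theorem N21432 : nd 21432 = n54202 := ndS (p := 19657) (l := 8) rfl N19657 D54202
theorem N21433 : nd 21433 = n54203 := ndS (p := 19658) (l := 9) rfl N19658 D54203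
theorem N21434 : nd 21434 = n54204 := ndS (p := 19659) (l := 8) rfl N19659 D54204
theorem N21435 : nd 21435 = n54205 := ndS (p := 19661) (l := 9) rfl N19661 D54205
theorem N21436 : nd 21436 = n54206 := ndS (p := 19662) (l := 8) rfl N19662 D54206
theorem N21437 : nd 21437 = n54207 := ndS (p := 19663) (l := 8) rfl N19663 D54207
theorem N21438 : nd 21438 = n54208 := ndS (p := 19664) (l := 3) rfl N19664 D54208
theorem N21439 : nd 21439 = n54209 := ndS (p := 19665) (l := 3) rfl N19665 D54209
theorem N21440 : nd 21440 = n54210 := ndS (p := 19666) (l := 9) rfl N19666 D54210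
theorem N21441 : nd 21441 = n54211 := ndS (p := 19667) (l := 8) rfl N19667 D54211
theorem N21442 : nd 21442 = n54212 := ndS (p := 19668) (l := 9) rfl N19668 D54212
theorem N21443 : nd 21443 = n54213 := ndS (p := 19669) (l := 9) rfl N19669 D54213
theorem N21444 : nd 21444 = n54214 := ndS (p := 19670) (l := 8) rfl N19670 D54214
theorem N21445 : nd 21445 = n54215 := ndS (p := 19671) (l := 3) rfl N19671 D54215
theorem N21446 : nd 21446 = n54216 := ndS (p := 19672) (l := 9) rfl N19672 D54216
theorem N21447 : nd 21447 = n54217 := ndS (p := 19673) (l := 8) rfl N19673 D54217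
theorem N21448 : nd 21448 = n54218 := ndS (p := 19674) (l := 9) rfl N19674 D54218
theorem N21449 : nd 21449 = n54219 := ndS (p := 19675) (l := 8) rfl N19675 D54219
theorem N21450 : nd 21450 = n54220 := ndS (p := 19676) (l := 3) rfl N19676 D54220
theorem N21451 : nd 21451 = n54221 := ndS (p := 19677) (l := 4) rfl N19677 D54221
theorem N21452 : nd 21452 = n54222 := ndS (p := 19678) (l := 9) rfl N19678 D54222
theorem N21453 : nd 21453 = n54223 := ndS (p := 19679) (l := 8) rfl N19679 D54223
theorem N21454 : nd 21454 = n54224 := ndS (p := 19680) (l := 3) rfl N19680 D54224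
theorem N21455 : nd 21455 = n54225 := ndS (p := 19681) (l := 2) rfl N19681 D54225
theorem N21456 : nd 21456 = n54226 := ndS (p := 19682) (l := 3) rfl N19682 D54226
theorem N21457 : nd 21457 = n54227 := ndS (p := 19684) (l := 3) rfl N19684 D54227
theorem N21458 : nd 21458 = n54228 := ndS (p := 19685) (l := 8) rfl N19685 D54228
theorem N21459 : nd 21459 = n54229 := ndS (p := 19687) (l := 2) rfl N19687 D54229
theorem N21460 : nd 21460 = n54230 := ndS (p := 19687) (l := 4) rfl N19687 D54230
theorem N21461 : nd 21461 = n54231 := ndS (p := 19688) (l := 8) rfl N19688 D54231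
theorem N21462 : nd 21462 = n54232 := ndS (p := 19689) (l := 3) rfl N19689 D54232
theorem N21463 : nd 21463 = n54233 := ndS (p := 19691) (l := 5) rfl N19691 D54233
theorem N21464 : nd 21464 = n54234 := ndS (p := 19702) (l := 6) rfl N19702 D54234
theorem N21465 : nd 21465 = n54235 := ndS (p := 19703) (l := 3) rfl N19703 D54235
theorem N21466 : nd 21466 = n54236 := ndS (p := 19704) (l := 3) rfl N19704 D54236
theorem N21467 : nd 21467 = n54237 := ndS (p := 19705) (l := 4) rfl N19705 D54237
theorem N21468 : nd 21468 = n54238 := ndS (p := 19706) (l := 3) rfl N19706 D54238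
theorem N21469 : nd 21469 = n54239 := ndS (p := 19707) (l := 8) rfl N19707 D54239
theorem N21470 : nd 21470 = n54240 := ndS (p := 19708) (l := 3) rfl N19708 D54240
theorem N21471 : nd 21471 = n54241 := ndS (p := 19709) (l := 4) rfl N19709 D54241
theorem N21472 : nd 21472 = n54242 := ndS (p := 19710) (l := 8) rfl N19710 D54242
theorem N21473 : nd 21473 = n54243 := ndS (p := 19711) (l := 3) rfl N19711 D54243
theorem N21474 : nd 21474 = n54244 := ndS (p := 19712) (l := 4) rfl N19712 D54244
theorem N21475 : nd 21475 = n54245 := ndS (p := 19713) (l := 5) rfl N19713 D54245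
theorem N21476 : nd 21476 = n54246 := ndS (p := 19717) (l := 5) rfl N19717 D54246
theorem N21477 : nd 21477 = n54247 := ndS (p := 19718) (l := 6) rfl N19718 D54247
theorem N21478 : nd 21478 = n54248 := ndS (p := 19722) (l := 5) rfl N19722 D54248
theorem N21479 : nd 21479 = n54249 := ndS (p := 19722) (l := 9) rfl N19722 D54249
theorem N21480 : nd 21480 = n54250 := ndS (p := 19723) (l := 8) rfl N19723 D54250
theorem N21481 : nd 21481 = n54251 := ndS (p := 19724) (l := 8) rfl N19724 D54251
theorem N21482 : nd 21482 = n54252 := ndS (p := 19726) (l := 3) rfl N19726 D54252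
theorem N21483 : nd 21483 = n54253 := ndS (p := 19727) (l := 8) rfl N19727 D54253
theorem N21484 : nd 21484 = n54254 := ndS (p := 19729) (l := 9) rfl N19729 D54254
theorem N21485 : nd 21485 = n54255 := ndS (p := 19730) (l := 8) rfl N19730 D54255
theorem N21486 : nd 21486 = n54256 := ndS (p := 19731) (l := 8) rfl N19731 D54256
theorem N21487 : nd 21487 = n54257 := ndS (p := 19733) (l := 8) rfl N19733 D54257
theorem N21488 : nd 21488 = n54258 := ndS (p := 19734) (l := 3) rfl N19734 D54258
theorem N21489 : nd 21489 = n54259 := ndS (p := 19737) (l := 5) rfl N19737 D54259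
theorem N21490 : nd 21490 = n54260 := ndS (p := 19737) (l := 9) rfl N19737 D54260
theorem N21491 : nd 21491 = n54261 := ndS (p := 19738) (l := 8) rfl N19738 D54261
theorem N21492 : nd 21492 = n54262 := ndS (p := 19739) (l := 6) rfl N19739 D54262
theorem N21493 : nd 21493 = n54263 := ndS (p := 19739) (l := 9) rfl N19739 D54263
theorem N21494 : nd 21494 = n54264 := ndS (p := 19740) (l := 8) rfl N19740 D54264
theorem N21495 : nd 21495 = n54265 := ndS (p := 19742) (l := 5) rfl N19742 D54265
theorem N21496 : nd 21496 = n54266 := ndS (p := 19742) (l := 9) rfl N19742 D54266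
theorem N21497 : nd 21497 = n54267 := ndS (p := 19743) (l := 8) rfl N19743 D54267
theorem N21498 : nd 21498 = n54268 := ndS (p := 19744) (l := 5) rfl N19744 D54268
theorem N21499 : nd 21499 = n54269 := ndS (p := 19744) (l := 9) rfl N19744 D54269
theorem N21500 : nd 21500 = n54270 := ndS (p := 19745) (l := 9) rfl N19745 D54270
theorem N21501 : nd 21501 = n54271 := ndS (p := 19746) (l := 8) rfl N19746 D54271
theorem N21502 : nd 21502 = n54272 := ndS (p := 19748) (l := 9) rfl N19748 D54272
theorem N21503 : nd 21503 = n54273 := ndS (p := 19749) (l := 8) rfl N19749 D54273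
theorem N21504 : nd 21504 = n54274 := ndS (p := 19750) (l := 3) rfl N19750 D54274
theorem N21505 : nd 21505 = n54275 := ndS (p := 19751) (l := 5) rfl N19751 D54275
theorem N21506 : nd 21506 = n54276 := ndS (p := 19751) (l := 9) rfl N19751 D54276
theorem N21507 : nd 21507 = n54277 := ndS (p := 19752) (l := 9) rfl N19752 D54277
theorem N21508 : nd 21508 = n54278 := ndS (p := 19753) (l := 8) rfl N19753 D54278
theorem N21509 : nd 21509 = n54279 := ndS (p := 19755) (l := 9) rfl N19755 D54279
theorem N21510 : nd 21510 = n54280 := ndS (p := 19756) (l := 8) rfl N19756 D54280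
theorem N21511 : nd 21511 = n54281 := ndS (p := 19757) (l := 8) rfl N19757 D54281
theorem N21512 : nd 21512 = n54282 := ndS (p := 19758) (l := 3) rfl N19758 D54282
theorem N21513 : nd 21513 = n54283 := ndS (p := 19759) (l := 3) rfl N19759 D54283
theorem N21514 : nd 21514 = n54284 := ndS (p := 19760) (l := 2) rfl N19760 D54284
theorem N21515 : nd 21515 = n54285 := ndS (p := 19761) (l := 9) rfl N19761 D54285
theorem N21516 : nd 21516 = n54286 := ndS (p := 19762) (l := 8) rfl N19762 D54286
theorem N21517 : nd 21517 = n54287 := ndS (p := 19764) (l := 8) rfl N19764 D54287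
theorem N21518 : nd 21518 = n54288 := ndS (p := 19765) (l := 3) rfl N19765 D54288
theorem N21519 : nd 21519 = n54289 := ndS (p := 19766) (l := 8) rfl N19766 D54289
theorem N21520 : nd 21520 = n54290 := ndS (p := 19768) (l := 8) rfl N19768 D54290
theorem N21521 : nd 21521 = n54291 := ndS (p := 19769) (l := 3) rfl N19769 D54291
theorem N21522 : nd 21522 = n54292 := ndS (p := 19770) (l := 3) rfl N19770 D54292
theorem N21523 : nd 21523 = n54293 := ndS (p := 19773) (l := 8) rfl N19773 D54293
theorem N21524 : nd 21524 = n54294 := ndS (p := 19774) (l := 8) rfl N19774 D54294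
theorem N21525 : nd 21525 = n54295 := ndS (p := 19776) (l := 9) rfl N19776 D54295
theorem N21526 : nd 21526 = n54296 := ndS (p := 19777) (l := 8) rfl N19777 D54296
theorem N21527 : nd 21527 = n54297 := ndS (p := 19778) (l := 8) rfl N19778 D54297
theorem N21528 : nd 21528 = n54298 := ndS (p := 19780) (l := 8) rfl N19780 D54298
theorem N21529 : nd 21529 = n54299 := ndS (p := 19782) (l := 3) rfl N19782 D54299
theorem N21530 : nd 21530 = n54300 := ndS (p := 19783) (l := 9) rfl N19783 D54300
theorem N21531 : nd 21531 = n54301 := ndS (p := 19784) (l := 8) rfl N19784 D54301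
theorem N21532 : nd 21532 = n54302 := ndS (p := 19785) (l := 9) rfl N19785 D54302
theorem N21533 : nd 21533 = n54303 := ndS (p := 19786) (l := 8) rfl N19786 D54303
theorem N21534 : nd 21534 = n54304 := ndS (p := 19788) (l := 9) rfl N19788 D54304
theorem N21535 : nd 21535 = n54305 := ndS (p := 19789) (l := 8) rfl N19789 D54305
theorem N21536 : nd 21536 = n54306 := ndS (p := 19790) (l := 8) rfl N19790 D54306
theorem N21537 : nd 21537 = n54307 := ndS (p := 19792) (l := 3) rfl N19792 D54307
theorem N21538 : nd 21538 = n54308 := ndS (p := 19793) (l := 9) rfl N19793 D54308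
theorem N21539 : nd 21539 = n54309 := ndS (p := 19794) (l := 8) rfl N19794 D54309
theorem N21540 : nd 21540 = n54310 := ndS (p := 19795) (l := 9) rfl N19795 D54310
theorem N21541 : nd 21541 = n54311 := ndS (p := 19796) (l := 8) rfl N19796 D54311
theorem N21542 : nd 21542 = n54312 := ndS (p := 19798) (l := 9) rfl N19798 D54312
theorem N21543 : nd 21543 = n54313 := ndS (p := 19799) (l := 8) rfl N19799 D54313
theorem N21544 : nd 21544 = n54314 := ndS (p := 19800) (l := 3) rfl N19800 D54314
theorem N21545 : nd 21545 = n54315 := ndS (p := 19801) (l := 2) rfl N19801 D54315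
theorem N21546 : nd 21546 = n54316 := ndS (p := 19802) (l := 8) rfl N19802 D54316
theorem N21547 : nd 21547 = n54317 := ndS (p := 19805) (l := 8) rfl N19805 D54317
theorem N21548 : nd 21548 = n54318 := ndS (p := 19806) (l := 8) rfl N19806 D54318
theorem N21549 : nd 21549 = n54319 := ndS (p := 19808) (l := 4) rfl N19808 D54319
theorem N21550 : nd 21550 = n54320 := ndS (p := 19808) (l := 9) rfl N19808 D54320
theorem N21551 : nd 21551 = n54321 := ndS (p := 19809) (l := 3) rfl N19809 D54321
theorem N21552 : nd 21552 = n54322 := ndS (p := 19809) (l := 9) rfl N19809 D54322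
theorem N21553 : nd 21553 = n54323 := ndS (p := 19810) (l := 8) rfl N19810 D54323
theorem N21554 : nd 21554 = n54324 := ndS (p := 19811) (l := 8) rfl N19811 D54324
theorem N21555 : nd 21555 = n54325 := ndS (p := 19811) (l := 9) rfl N19811 D54325
theorem N21556 : nd 21556 = n54326 := ndS (p := 19812) (l := 8) rfl N19812 D54326
theorem N21557 : nd 21557 = n54327 := ndS (p := 19813) (l := 3) rfl N19813 D54327
theorem N21558 : nd 21558 = n54328 := ndS (p := 19814) (l := 3) rfl N19814 D54328
theorem N21559 : nd 21559 = n54329 := ndS (p := 19815) (l := 5) rfl N19815 D54329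
theorem N21560 : nd 21560 = n54330 := ndS (p := 19815) (l := 9) rfl N19815 D54330
theorem N21561 : nd 21561 = n54331 := ndS (p := 19816) (l := 8) rfl N19816 D54331
theorem N21562 : nd 21562 = n54332 := ndS (p := 19817) (l := 9) rfl N19817 D54332
theorem N21563 : nd 21563 = n54333 := ndS (p := 19818) (l := 8) rfl N19818 D54333
theorem N21564 : nd 21564 = n54334 := ndS (p := 19820) (l := 9) rfl N19820 D54334
theorem N21565 : nd 21565 = n54335 := ndS (p := 19821) (l := 8) rfl N19821 D54335
theorem N21566 : nd 21566 = n54336 := ndS (p := 19822) (l := 9) rfl N19822 D54336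
theorem N21567 : nd 21567 = n54337 := ndS (p := 19823) (l := 8) rfl N19823 D54337
theorem N21568 : nd 21568 = n54338 := ndS (p := 19825) (l := 3) rfl N19825 D54338
theorem N21569 : nd 21569 = n54339 := ndS (p := 19826) (l := 9) rfl N19826 D54339
theorem N21570 : nd 21570 = n54340 := ndS (p := 19827) (l := 8) rfl N19827 D54340
theorem N21571 : nd 21571 = n54341 := ndS (p := 19828) (l := 2) rfl N19828 D54341
theorem N21572 : nd 21572 = n54342 := ndS (p := 19828) (l := 5) rfl N19828 D54342
theorem N21573 : nd 21573 = n54343 := ndS (p := 19828) (l := 9) rfl N19828 D54343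
theorem N21574 : nd 21574 = n54344 := ndS (p := 19829) (l := 9) rfl N19829 D54344
theorem N21575 : nd 21575 = n54345 := ndS (p := 19830) (l := 8) rfl N19830 D54345
theorem N21576 : nd 21576 = n54346 := ndS (p := 19832) (l := 6) rfl N19832 D54346
theorem N21577 : nd 21577 = n54347 := ndS (p := 19832) (l := 8) rfl N19832 D54347
theorem N21578 : nd 21578 = n54348 := ndS (p := 19832) (l := 9) rfl N19832 D54348
theorem N21579 : nd 21579 = n54349 := ndS (p := 19833) (l := 9) rfl N19833 D54349
theorem N21580 : nd 21580 = n54350 := ndS (p := 19834) (l := 8) rfl N19834 D54350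
theorem N21581 : nd 21581 = n54351 := ndS (p := 19835) (l := 7) rfl N19835 D54351
theorem N21582 : nd 21582 = n54352 := ndS (p := 19835) (l := 9) rfl N19835 D54352
theorem N21583 : nd 21583 = n54353 := ndS (p := 19836) (l := 8) rfl N19836 D54353
theorem N21584 : nd 21584 = n54354 := ndS (p := 19837) (l := 3) rfl N19837 D54354
theorem N21585 : nd 21585 = n54355 := ndS (p := 19838) (l := 9) rfl N19838 D54355
theorem N21586 : nd 21586 = n54356 := ndS (p := 19839) (l := 8) rfl N19839 D54356
theorem N21587 : nd 21587 = n54357 := ndS (p := 19840) (l := 3) rfl N19840 D54357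
theorem N21588 : nd 21588 = n54358 := ndS (p := 19841) (l := 2) rfl N19841 D54358
theorem N21589 : nd 21589 = n54359 := ndS (p := 19842) (l := 8) rfl N19842 D54359
theorem N21590 : nd 21590 = n54360 := ndS (p := 19843) (l := 8) rfl N19843 D54360
theorem N21591 : nd 21591 = n54361 := ndS (p := 19845) (l := 3) rfl N19845 D54361
theorem N21592 : nd 21592 = n54362 := ndS (p := 19847) (l := 8) rfl N19847 D54362
theorem N21593 : nd 21593 = n54363 := ndS (p := 19848) (l := 3) rfl N19848 D54363
theorem N21594 : nd 21594 = n54364 := ndS (p := 19849) (l := 9) rfl N19849 D54364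
theorem N21595 : nd 21595 = n54365 := ndS (p := 19850) (l := 8) rfl N19850 D54365
theorem N21596 : nd 21596 = n54366 := ndS (p := 19851) (l := 3) rfl N19851 D54366
theorem N21597 : nd 21597 = n54367 := ndS (p := 19853) (l := 8) rfl N19853 D54367
theorem N21598 : nd 21598 = n54368 := ndS (p := 19855) (l := 2) rfl N19855 D54368
theorem N21599 : nd 21599 = n54369 := ndS (p := 19856) (l := 8) rfl N19856 D54369
theorem N21600 : nd 21600 = n54370 := ndS (p := 19857) (l := 3) rfl N19857 D54370
theorem N21601 : nd 21601 = n54371 := ndS (p := 19860) (l := 9) rfl N19860 D54371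
theorem N21602 : nd 21602 = n54372 := ndS (p := 19861) (l := 8) rfl N19861 D54372
theorem N21603 : nd 21603 = n54373 := ndS (p := 19863) (l := 9) rfl N19863 D54373
theorem N21604 : nd 21604 = n54374 := ndS (p := 19864) (l := 8) rfl N19864 D54374
theorem N21605 : nd 21605 = n54375 := ndS (p := 19865) (l := 3) rfl N19865 D54375
theorem N21606 : nd 21606 = n54376 := ndS (p := 19866) (l := 9) rfl N19866 D54376
theorem N21607 : nd 21607 = n54377 := ndS (p := 19867) (l := 8) rfl N19867 D54377
theorem N21608 : nd 21608 = n54378 := ndS (p := 19869) (l := 8) rfl N19869 D54378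
theorem N21609 : nd 21609 = n54379 := ndS (p := 19870) (l := 8) rfl N19870 D54379
theorem N21610 : nd 21610 = n54380 := ndS (p := 19871) (l := 3) rfl N19871 D54380
theorem N21611 : nd 21611 = n54381 := ndS (p := 19872) (l := 4) rfl N19872 D54381
theorem N21612 : nd 21612 = n54382 := ndS (p := 19873) (l := 9) rfl N19873 D54382
theorem N21613 : nd 21613 = n54383 := ndS (p := 19874) (l := 8) rfl N19874 D54383
theorem N21614 : nd 21614 = n54384 := ndS (p := 19875) (l := 3) rfl N19875 D54384
theorem N21615 : nd 21615 = n54385 := ndS (p := 19876) (l := 2) rfl N19876 D54385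
theorem N21616 : nd 21616 = n54386 := ndS (p := 19877) (l := 9) rfl N19877 D54386
theorem N21617 : nd 21617 = n54387 := ndS (p := 19878) (l := 8) rfl N19878 D54387
theorem N21618 : nd 21618 = n54388 := ndS (p := 19880) (l := 6) rfl N19880 D54388
theorem N21619 : nd 21619 = n54389 := ndS (p := 19880) (l := 9) rfl N19880 D54389
theorem N21620 : nd 21620 = n54390 := ndS (p := 19882) (l := 9) rfl N19882 D54390
theorem N21621 : nd 21621 = n54391 := ndS (p := 19883) (l := 8) rfl N19883 D54391
theorem N21622 : nd 21622 = n54392 := ndS (p := 19884) (l := 3) rfl N19884 D54392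
theorem N21623 : nd 21623 = n54393 := ndS (p := 19886) (l := 8) rfl N19886 D54393
theorem N21624 : nd 21624 = n54394 := ndS (p := 19886) (l := 9) rfl N19886 D54394
theorem N21625 : nd 21625 = n54395 := ndS (p := 19887) (l := 9) rfl N19887 D54395
theorem N21626 : nd 21626 = n54396 := ndS (p := 19888) (l := 8) rfl N19888 D54396
theorem N21627 : nd 21627 = n54397 := ndS (p := 19889) (l := 8) rfl N19889 D54397
theorem N21628 : nd 21628 = n54398 := ndS (p := 19890) (l := 3) rfl N19890 D54398
theorem N21629 : nd 21629 = n54399 := ndS (p := 19891) (l := 9) rfl N19891 D54399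
theorem N21630 : nd 21630 = n54400 := ndS (p := 19892) (l := 8) rfl N19892 D54400
theorem N21631 : nd 21631 = n54401 := ndS (p := 19893) (l := 3) rfl N19893 D54401
theorem N21632 : nd 21632 = n54402 := ndS (p := 19894) (l := 2) rfl N19894 D54402
theorem N21633 : nd 21633 = n54403 := ndS (p := 19894) (l := 4) rfl N19894 D54403
theorem N21634 : nd 21634 = n54404 := ndS (p := 19895) (l := 5) rfl N19895 D54404
theorem N21635 : nd 21635 = n54405 := ndS (p := 19896) (l := 8) rfl N19896 D54405
theorem N21636 : nd 21636 = n54406 := ndS (p := 19897) (l := 3) rfl N19897 D54406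
theorem N21637 : nd 21637 = n54407 := ndS (p := 19898) (l := 2) rfl N19898 D54407
theorem N21638 : nd 21638 = n54408 := ndS (p := 19899) (l := 1) rfl N19899 D54408
theorem N21639 : nd 21639 = n54409 := ndS (p := 19900) (l := 9) rfl N19900 D54409
theorem N21640 : nd 21640 = n54410 := ndS (p := 19901) (l := 8) rfl N19901 D54410
theorem N21641 : nd 21641 = n54411 := ndS (p := 19903) (l := 8) rfl N19903 D54411
theorem N21642 : nd 21642 = n54412 := ndS (p := 19904) (l := 3) rfl N19904 D54412
theorem N21643 : nd 21643 = n54413 := ndS (p := 19905) (l := 3) rfl N19905 D54413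
theorem N21644 : nd 21644 = n54414 := ndS (p := 19906) (l := 4) rfl N19906 D54414
theorem N21645 : nd 21645 = n54415 := ndS (p := 19907) (l := 5) rfl N19907 D54415
theorem N21646 : nd 21646 = n54416 := ndS (p := 19908) (l := 8) rfl N19908 D54416
theorem N21647 : nd 21647 = n54417 := ndS (p := 19910) (l := 8) rfl N19910 D54417
theorem N21648 : nd 21648 = n54418 := ndS (p := 19912) (l := 8) rfl N19912 D54418
theorem N21649 : nd 21649 = n54419 := ndS (p := 19913) (l := 3) rfl N19913 D54419
theorem N21650 : nd 21650 = n54420 := ndS (p := 19914) (l := 2) rfl N19914 D54420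
theorem N21651 : nd 21651 = n54421 := ndS (p := 19915) (l := 8) rfl N19915 D54421
theorem N21652 : nd 21652 = n54422 := ndS (p := 19916) (l := 3) rfl N19916 D54422
theorem N21653 : nd 21653 = n54423 := ndS (p := 19917) (l := 4) rfl N19917 D54423
theorem N21654 : nd 21654 = n54424 := ndS (p := 19918) (l := 5) rfl N19918 D54424
theorem N21655 : nd 21655 = n54425 := ndS (p := 19921) (l := 8) rfl N19921 D54425
theorem N21656 : nd 21656 = n54426 := ndS (p := 19922) (l := 3) rfl N19922 D54426
theorem N21657 : nd 21657 = n54427 := ndS (p := 19925) (l := 3) rfl N19925 D54427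
theorem N21658 : nd 21658 = n54428 := ndS (p := 19929) (l := 6) rfl N19929 D54428
theorem N21659 : nd 21659 = n54429 := ndS (p := 19930) (l := 3) rfl N19930 D54429
theorem N21660 : nd 21660 = n54430 := ndS (p := 19931) (l := 9) rfl N19931 D54430
theorem N21661 : nd 21661 = n54431 := ndS (p := 19932) (l := 8) rfl N19932 D54431
theorem N21662 : nd 21662 = n54432 := ndS (p := 19933) (l := 9) rfl N19933 D54432
theorem N21663 : nd 21663 = n54433 := ndS (p := 19934) (l := 8) rfl N19934 D54433
theorem N21664 : nd 21664 = n54434 := ndS (p := 19937) (l := 8) rfl N19937 D54434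
theorem N21665 : nd 21665 = n54435 := ndS (p := 19938) (l := 9) rfl N19938 D54435
theorem N21666 : nd 21666 = n54436 := ndS (p := 19939) (l := 8) rfl N19939 D54436
theorem N21667 : nd 21667 = n54437 := ndS (p := 19940) (l := 3) rfl N19940 D54437
theorem N21668 : nd 21668 = n54438 := ndS (p := 19941) (l := 9) rfl N19941 D54438
theorem N21669 : nd 21669 = n54439 := ndS (p := 19942) (l := 8) rfl N19942 D54439
theorem N21670 : nd 21670 = n54440 := ndS (p := 19943) (l := 3) rfl N19943 D54440
theorem N21671 : nd 21671 = n54441 := ndS (p := 19944) (l := 4) rfl N19944 D54441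
theorem N21672 : nd 21672 = n54442 := ndS (p := 19945) (l := 8) rfl N19945 D54442
theorem N21673 : nd 21673 = n54443 := ndS (p := 19946) (l := 9) rfl N19946 D54443
theorem N21674 : nd 21674 = n54444 := ndS (p := 19947) (l := 8) rfl N19947 D54444
theorem N21675 : nd 21675 = n54445 := ndS (p := 19948) (l := 8) rfl N19948 D54445
theorem N21676 : nd 21676 = n54446 := ndS (p := 19952) (l := 3) rfl N19952 D54446
theorem N21677 : nd 21677 = n54447 := ndS (p := 19954) (l := 3) rfl N19954 D54447
theorem N21678 : nd 21678 = n54448 := ndS (p := 19963) (l := 5) rfl N19963 D54448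
theorem N21679 : nd 21679 = n54449 := ndS (p := 19964) (l := 5) rfl N19964 D54449
theorem N21680 : nd 21680 = n54450 := ndS (p := 19970) (l := 8) rfl N19970 D54450
theorem N21681 : nd 21681 = n54451 := ndS (p := 19971) (l := 3) rfl N19971 D54451
theorem N21682 : nd 21682 = n54452 := ndS (p := 19973) (l := 9) rfl N19973 D54452
theorem N21683 : nd 21683 = n54453 := ndS (p := 19974) (l := 8) rfl N19974 D54453
theorem N21684 : nd 21684 = n54454 := ndS (p := 19975) (l := 8) rfl N19975 D54454
theorem N21685 : nd 21685 = n54455 := ndS (p := 19976) (l := 3) rfl N19976 D54455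
theorem N21686 : nd 21686 = n54456 := ndS (p := 19977) (l := 3) rfl N19977 D54456
theorem N21687 : nd 21687 = n54457 := ndS (p := 19979) (l := 3) rfl N19979 D54457
theorem N21688 : nd 21688 = n54458 := ndS (p := 19980) (l := 2) rfl N19980 D54458
theorem N21689 : nd 21689 = n54459 := ndS (p := 19980) (l := 4) rfl N19980 D54459
theorem N21690 : nd 21690 = n54460 := ndS (p := 19981) (l := 1) rfl N19981 D54460
theorem N21691 : nd 21691 = n54461 := ndS (p := 19981) (l := 4) rfl N19981 D54461
theorem N21692 : nd 21692 = n54462 := ndS (p := 19982) (l := 5) rfl N19982 D54462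
theorem N21693 : nd 21693 = n54463 := ndS (p := 19986) (l := 4) rfl N19986 D54463
theorem N21694 : nd 21694 = n54464 := ndS (p := 19988) (l := 3) rfl N19988 D54464
theorem N21695 : nd 21695 = n54465 := ndS (p := 19989) (l := 2) rfl N19989 D54465
theorem N21696 : nd 21696 = n54466 := ndS (p := 19989) (l := 4) rfl N19989 D54466
theorem N21697 : nd 21697 = n54467 := ndS (p := 19991) (l := 4) rfl N19991 D54467
theorem N21698 : nd 21698 = n54468 := ndS (p := 19992) (l := 5) rfl N19992 D54468
theorem N21699 : nd 21699 = n54469 := ndS (p := 19996) (l := 3) rfl N19996 D54469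
theorem N21700 : nd 21700 = n54470 := ndS (p := 19997) (l := 3) rfl N19997 D54470
theorem N21701 : nd 21701 = n54471 := ndS (p := 20000) (l := 2) rfl N20000 D54471
theorem N21702 : nd 21702 = n54472 := ndS (p := 20002) (l := 8) rfl N20002 D54472
theorem N21703 : nd 21703 = n54473 := ndS (p := 20010) (l := 8) rfl N20010 D54473
theorem N21704 : nd 21704 = n54474 := ndS (p := 20012) (l := 8) rfl N20012 D54474
theorem N21705 : nd 21705 = n54475 := ndS (p := 20014) (l := 8) rfl N20014 D54475
theorem N21706 : nd 21706 = n54476 := ndS (p := 20016) (l := 3) rfl N20016 D54476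
theorem N21707 : nd 21707 = n54477 := ndS (p := 20017) (l := 2) rfl N20017 D54477
theorem N21708 : nd 21708 = n54478 := ndS (p := 20020) (l := 3) rfl N20020 D54478
theorem N21709 : nd 21709 = n54479 := ndS (p := 20021) (l := 8) rfl N20021 D54479
theorem N21710 : nd 21710 = n54480 := ndS (p := 20022) (l := 3) rfl N20022 D54480
theorem N21711 : nd 21711 = n54481 := ndS (p := 20023) (l := 2) rfl N20023 D54481
theorem N21712 : nd 21712 = n54482 := ndS (p := 20025) (l := 1) rfl N20025 D54482
theorem N21713 : nd 21713 = n54483 := ndS (p := 20026) (l := 5) rfl N20026 D54483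
theorem N21714 : nd 21714 = n54484 := ndS (p := 20026) (l := 9) rfl N20026 D54484
theorem N21715 : nd 21715 = n54485 := ndS (p := 20027) (l := 8) rfl N20027 D54485
theorem N21716 : nd 21716 = n54486 := ndS (p := 20028) (l := 9) rfl N20028 D54486
theorem N21717 : nd 21717 = n54487 := ndS (p := 20029) (l := 8) rfl N20029 D54487
theorem N21718 : nd 21718 = n54488 := ndS (p := 20031) (l := 3) rfl N20031 D54488
theorem N21719 : nd 21719 = n54489 := ndS (p := 20032) (l := 5) rfl N20032 D54489
theorem N21720 : nd 21720 = n54490 := ndS (p := 20032) (l := 9) rfl N20032 D54490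
theorem N21721 : nd 21721 = n54491 := ndS (p := 20033) (l := 8) rfl N20033 D54491
theorem N21722 : nd 21722 = n54492 := ndS (p := 20034) (l := 5) rfl N20034 D54492
theorem N21723 : nd 21723 = n54493 := ndS (p := 20034) (l := 9) rfl N20034 D54493
theorem N21724 : nd 21724 = n54494 := ndS (p := 20035) (l := 8) rfl N20035 D54494
theorem N21725 : nd 21725 = n54495 := ndS (p := 20036) (l := 9) rfl N20036 D54495
theorem N21726 : nd 21726 = n54496 := ndS (p := 20037) (l := 8) rfl N20037 D54496
theorem N21727 : nd 21727 = n54497 := ndS (p := 20039) (l := 9) rfl N20039 D54497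
theorem N21728 : nd 21728 = n54498 := ndS (p := 20040) (l := 8) rfl N20040 D54498
theorem N21729 : nd 21729 = n54499 := ndS (p := 20042) (l := 9) rfl N20042 D54499
theorem N21730 : nd 21730 = n54500 := ndS (p := 20043) (l := 5) rfl N20043 D54500
theorem N21731 : nd 21731 = n54501 := ndS (p := 20043) (l := 9) rfl N20043 D54501
theorem N21732 : nd 21732 = n54502 := ndS (p := 20044) (l := 8) rfl N20044 D54502
theorem N21733 : nd 21733 = n54503 := ndS (p := 20045) (l := 9) rfl N20045 D54503
theorem N21734 : nd 21734 = n54504 := ndS (p := 20046) (l := 8) rfl N20046 D54504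
theorem N21735 : nd 21735 = n54505 := ndS (p := 20048) (l := 8) rfl N20048 D54505
theorem N21736 : nd 21736 = n54506 := ndS (p := 20049) (l := 3) rfl N20049 D54506
theorem N21737 : nd 21737 = n54507 := ndS (p := 20050) (l := 8) rfl N20050 D54507
theorem N21738 : nd 21738 = n54508 := ndS (p := 20051) (l := 8) rfl N20051 D54508
theorem N21739 : nd 21739 = n54509 := ndS (p := 20054) (l := 2) rfl N20054 D54509
theorem N21740 : nd 21740 = n54510 := ndS (p := 20056) (l := 3) rfl N20056 D54510
theorem N21741 : nd 21741 = n54511 := ndS (p := 20057) (l := 2) rfl N20057 D54511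
theorem N21742 : nd 21742 = n54512 := ndS (p := 20061) (l := 9) rfl N20061 D54512
theorem N21743 : nd 21743 = n54513 := ndS (p := 20062) (l := 8) rfl N20062 D54513
theorem N21744 : nd 21744 = n54514 := ndS (p := 20064) (l := 3) rfl N20064 D54514
theorem N21745 : nd 21745 = n54515 := ndS (p := 20066) (l := 8) rfl N20066 D54515
theorem N21746 : nd 21746 = n54516 := ndS (p := 20068) (l := 8) rfl N20068 D54516
theorem N21747 : nd 21747 = n54517 := ndS (p := 20071) (l := 9) rfl N20071 D54517
theorem N21748 : nd 21748 = n54518 := ndS (p := 20072) (l := 8) rfl N20072 D54518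
theorem N21749 : nd 21749 = n54519 := ndS (p := 20073) (l := 9) rfl N20073 D54519
theorem N21750 : nd 21750 = n54520 := ndS (p := 20074) (l := 8) rfl N20074 D54520
theorem N21751 : nd 21751 = n54521 := ndS (p := 20077) (l := 9) rfl N20077 D54521
theorem N21752 : nd 21752 = n54522 := ndS (p := 20078) (l := 8) rfl N20078 D54522
theorem N21753 : nd 21753 = n54523 := ndS (p := 20079) (l := 3) rfl N20079 D54523
theorem N21754 : nd 21754 = n54524 := ndS (p := 20080) (l := 8) rfl N20080 D54524
theorem N21755 : nd 21755 = n54525 := ndS (p := 20081) (l := 3) rfl N20081 D54525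
theorem N21756 : nd 21756 = n54526 := ndS (p := 20083) (l := 8) rfl N20083 D54526
theorem N21757 : nd 21757 = n54527 := ndS (p := 20085) (l := 8) rfl N20085 D54527
theorem N21758 : nd 21758 = n54528 := ndS (p := 20087) (l := 7) rfl N20087 D54528
theorem N21759 : nd 21759 = n54529 := ndS (p := 20087) (l := 9) rfl N20087 D54529
theorem N21760 : nd 21760 = n54530 := ndS (p := 20088) (l := 8) rfl N20088 D54530
theorem N21761 : nd 21761 = n54531 := ndS (p := 20089) (l := 3) rfl N20089 D54531
theorem N21762 : nd 21762 = n54532 := ndS (p := 20090) (l := 9) rfl N20090 D54532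
theorem N21763 : nd 21763 = n54533 := ndS (p := 20091) (l := 8) rfl N20091 D54533
theorem N21764 : nd 21764 = n54534 := ndS (p := 20092) (l := 3) rfl N20092 D54534
theorem N21765 : nd 21765 = n54535 := ndS (p := 20093) (l := 2) rfl N20093 D54535
theorem N21766 : nd 21766 = n54536 := ndS (p := 20094) (l := 8) rfl N20094 D54536
theorem N21767 : nd 21767 = n54537 := ndS (p := 20096) (l := 8) rfl N20096 D54537
theorem N21768 : nd 21768 = n54538 := ndS (p := 20097) (l := 3) rfl N20097 D54538
theorem N21769 : nd 21769 = n54539 := ndS (p := 20099) (l := 1) rfl N20099 D54539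
theorem N21770 : nd 21770 = n54540 := ndS (p := 20101) (l := 3) rfl N20101 D54540
theorem N21771 : nd 21771 = n54541 := ndS (p := 20102) (l := 2) rfl N20102 D54541
theorem N21772 : nd 21772 = n54542 := ndS (p := 20102) (l := 4) rfl N20102 D54542
theorem N21773 : nd 21773 = n54543 := ndS (p := 20103) (l := 1) rfl N20103 D54543
theorem N21774 : nd 21774 = n54544 := ndS (p := 20106) (l := 4) rfl N20106 D54544
theorem N21775 : nd 21775 = n54545 := ndS (p := 20106) (l := 9) rfl N20106 D54545
theorem N21776 : nd 21776 = n54546 := ndS (p := 20108) (l := 1) rfl N20108 D54546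
theorem N21777 : nd 21777 = n54547 := ndS (p := 20108) (l := 4) rfl N20108 D54547
theorem N21778 : nd 21778 = n54548 := ndS (p := 20108) (l := 9) rfl N20108 D54548
theorem N21779 : nd 21779 = n54549 := ndS (p := 20109) (l := 5) rfl N20109 D54549
theorem N21780 : nd 21780 = n54550 := ndS (p := 20109) (l := 9) rfl N20109 D54550
theorem N21781 : nd 21781 = n54551 := ndS (p := 20110) (l := 8) rfl N20110 D54551
theorem N21782 : nd 21782 = n54552 := ndS (p := 20111) (l := 4) rfl N20111 D54552
theorem N21783 : nd 21783 = n54553 := ndS (p := 20111) (l := 9) rfl N20111 D54553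
theorem N21784 : nd 21784 = n54554 := ndS (p := 20113) (l := 4) rfl N20113 D54554
theorem N21785 : nd 21785 = n54555 := ndS (p := 20113) (l := 9) rfl N20113 D54555
theorem N21786 : nd 21786 = n54556 := ndS (p := 20114) (l := 5) rfl N20114 D54556
theorem N21787 : nd 21787 = n54557 := ndS (p := 20114) (l := 9) rfl N20114 D54557
theorem N21788 : nd 21788 = n54558 := ndS (p := 20115) (l := 8) rfl N20115 D54558
theorem N21789 : nd 21789 = n54559 := ndS (p := 20116) (l := 3) rfl N20116 D54559
theorem N21790 : nd 21790 = n54560 := ndS (p := 20116) (l := 9) rfl N20116 D54560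
theorem N21791 : nd 21791 = n54561 := ndS (p := 20117) (l := 8) rfl N20117 D54561
theorem N21792 : nd 21792 = n54562 := ndS (p := 20118) (l := 9) rfl N20118 D54562
theorem N21793 : nd 21793 = n54563 := ndS (p := 20119) (l := 8) rfl N20119 D54563
theorem N21794 : nd 21794 = n54564 := ndS (p := 20121) (l := 8) rfl N20121 D54564
theorem N21795 : nd 21795 = n54565 := ndS (p := 20122) (l := 6) rfl N20122 D54565
theorem N21796 : nd 21796 = n54566 := ndS (p := 20122) (l := 9) rfl N20122 D54566
theorem N21797 : nd 21797 = n54567 := ndS (p := 20123) (l := 8) rfl N20123 D54567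
theorem N21798 : nd 21798 = n54568 := ndS (p := 20125) (l := 3) rfl N20125 D54568
theorem N21799 : nd 21799 = n54569 := ndS (p := 20126) (l := 8) rfl N20126 D54569
theorem N21800 : nd 21800 = n54570 := ndS (p := 20127) (l := 3) rfl N20127 D54570
theorem N21801 : nd 21801 = n54571 := ndS (p := 20128) (l := 4) rfl N20128 D54571
theorem N21802 : nd 21802 = n54572 := ndS (p := 20129) (l := 2) rfl N20129 D54572
theorem N21803 : nd 21803 = n54573 := ndS (p := 20130) (l := 9) rfl N20130 D54573
theorem N21804 : nd 21804 = n54574 := ndS (p := 20131) (l := 8) rfl N20131 D54574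
theorem N21805 : nd 21805 = n54575 := ndS (p := 20132) (l := 5) rfl N20132 D54575
theorem N21806 : nd 21806 = n54576 := ndS (p := 20132) (l := 9) rfl N20132 D54576
theorem N21807 : nd 21807 = n54577 := ndS (p := 20133) (l := 8) rfl N20133 D54577
theorem N21808 : nd 21808 = n54578 := ndS (p := 20134) (l := 6) rfl N20134 D54578
theorem N21809 : nd 21809 = n54579 := ndS (p := 20134) (l := 9) rfl N20134 D54579
theorem N21810 : nd 21810 = n54580 := ndS (p := 20135) (l := 8) rfl N20135 D54580
theorem N21811 : nd 21811 = n54581 := ndS (p := 20137) (l := 3) rfl N20137 D54581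
theorem N21812 : nd 21812 = n54582 := ndS (p := 20137) (l := 9) rfl N20137 D54582
theorem N21813 : nd 21813 = n54583 := ndS (p := 20138) (l := 8) rfl N20138 D54583
theorem N21814 : nd 21814 = n54584 := ndS (p := 20139) (l := 5) rfl N20139 D54584
theorem N21815 : nd 21815 = n54585 := ndS (p := 20139) (l := 8) rfl N20139 D54585
theorem N21816 : nd 21816 = n54586 := ndS (p := 20139) (l := 9) rfl N20139 D54586
theorem N21817 : nd 21817 = n54587 := ndS (p := 20140) (l := 9) rfl N20140 D54587
theorem N21818 : nd 21818 = n54588 := ndS (p := 20141) (l := 8) rfl N20141 D54588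
theorem N21819 : nd 21819 = n54589 := ndS (p := 20142) (l := 3) rfl N20142 D54589
theorem N21820 : nd 21820 = n54590 := ndS (p := 20143) (l := 8) rfl N20143 D54590
theorem N21821 : nd 21821 = n54591 := ndS (p := 20144) (l := 3) rfl N20144 D54591
theorem N21822 : nd 21822 = n54592 := ndS (p := 20145) (l := 9) rfl N20145 D54592
theorem N21823 : nd 21823 = n54593 := ndS (p := 20146) (l := 8) rfl N20146 D54593
theorem N21824 : nd 21824 = n54594 := ndS (p := 20147) (l := 3) rfl N20147 D54594
theorem N21825 : nd 21825 = n54595 := ndS (p := 20148) (l := 9) rfl N20148 D54595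
theorem N21826 : nd 21826 = n54596 := ndS (p := 20149) (l := 8) rfl N20149 D54596
theorem N21827 : nd 21827 = n54597 := ndS (p := 20150) (l := 3) rfl N20150 D54597
theorem N21828 : nd 21828 = n54598 := ndS (p := 20151) (l := 3) rfl N20151 D54598
theorem N21829 : nd 21829 = n54599 := ndS (p := 20152) (l := 8) rfl N20152 D54599
theorem N21830 : nd 21830 = n54600 := ndS (p := 20153) (l := 3) rfl N20153 D54600
theorem N21831 : nd 21831 = n54601 := ndS (p := 20154) (l := 4) rfl N20154 D54601
theorem N21832 : nd 21832 = n54602 := ndS (p := 20155) (l := 3) rfl N20155 D54602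
theorem N21833 : nd 21833 = n54603 := ndS (p := 20156) (l := 2) rfl N20156 D54603
theorem N21834 : nd 21834 = n54604 := ndS (p := 20158) (l := 2) rfl N20158 D54604
theorem N21835 : nd 21835 = n54605 := ndS (p := 20158) (l := 4) rfl N20158 D54605
theorem N21836 : nd 21836 = n54606 := ndS (p := 20159) (l := 5) rfl N20159 D54606
theorem N21837 : nd 21837 = n54607 := ndS (p := 20161) (l := 8) rfl N20161 D54607
theorem N21838 : nd 21838 = n54608 := ndS (p := 20162) (l := 3) rfl N20162 D54608
theorem N21839 : nd 21839 = n54609 := ndS (p := 20163) (l := 2) rfl N20163 D54609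
theorem N21840 : nd 21840 = n54610 := ndS (p := 20164) (l := 2) rfl N20164 D54610
theorem N21841 : nd 21841 = n54611 := ndS (p := 20164) (l := 4) rfl N20164 D54611
theorem N21842 : nd 21842 = n54612 := ndS (p := 20165) (l := 1) rfl N20165 D54612
theorem N21843 : nd 21843 = n54613 := ndS (p := 20167) (l := 3) rfl N20167 D54613
theorem N21844 : nd 21844 = n54614 := ndS (p := 20168) (l := 8) rfl N20168 D54614
theorem N21845 : nd 21845 = n54615 := ndS (p := 20168) (l := 9) rfl N20168 D54615
theorem N21846 : nd 21846 = n54616 := ndS (p := 20169) (l := 8) rfl N20169 D54616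
theorem N21847 : nd 21847 = n54617 := ndS (p := 20170) (l := 3) rfl N20170 D54617
theorem N21848 : nd 21848 = n54618 := ndS (p := 20171) (l := 9) rfl N20171 D54618
theorem N21849 : nd 21849 = n54619 := ndS (p := 20172) (l := 8) rfl N20172 D54619
theorem N21850 : nd 21850 = n54620 := ndS (p := 20173) (l := 3) rfl N20173 D54620
theorem N21851 : nd 21851 = n54621 := ndS (p := 20174) (l := 4) rfl N20174 D54621
theorem N21852 : nd 21852 = n54622 := ndS (p := 20175) (l := 4) rfl N20175 D54622
theorem N21853 : nd 21853 = n54623 := ndS (p := 20177) (l := 5) rfl N20177 D54623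
theorem N21854 : nd 21854 = n54624 := ndS (p := 20180) (l := 4) rfl N20180 D54624
theorem N21855 : nd 21855 = n54625 := ndS (p := 20180) (l := 9) rfl N20180 D54625
theorem N21856 : nd 21856 = n54626 := ndS (p := 20182) (l := 9) rfl N20182 D54626
theorem N21857 : nd 21857 = n54627 := ndS (p := 20183) (l := 8) rfl N20183 D54627
theorem N21858 : nd 21858 = n54628 := ndS (p := 20184) (l := 8) rfl N20184 D54628
theorem N21859 : nd 21859 = n54629 := ndS (p := 20186) (l := 2) rfl N20186 D54629
theorem N21860 : nd 21860 = n54630 := ndS (p := 20186) (l := 4) rfl N20186 D54630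
theorem N21861 : nd 21861 = n54631 := ndS (p := 20186) (l := 9) rfl N20186 D54631
theorem N21862 : nd 21862 = n54632 := ndS (p := 20188) (l := 4) rfl N20188 D54632
theorem N21863 : nd 21863 = n54633 := ndS (p := 20188) (l := 9) rfl N20188 D54633
theorem N21864 : nd 21864 = n54634 := ndS (p := 20189) (l := 9) rfl N20189 D54634
theorem N21865 : nd 21865 = n54635 := ndS (p := 20190) (l := 8) rfl N20190 D54635
theorem N21866 : nd 21866 = n54636 := ndS (p := 20191) (l := 3) rfl N20191 D54636
theorem N21867 : nd 21867 = n54637 := ndS (p := 20191) (l := 9) rfl N20191 D54637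
theorem N21868 : nd 21868 = n54638 := ndS (p := 20192) (l := 8) rfl N20192 D54638
theorem N21869 : nd 21869 = n54639 := ndS (p := 20193) (l := 9) rfl N20193 D54639
theorem N21870 : nd 21870 = n54640 := ndS (p := 20194) (l := 8) rfl N20194 D54640
theorem N21871 : nd 21871 = n54641 := ndS (p := 20196) (l := 8) rfl N20196 D54641
theorem N21872 : nd 21872 = n54642 := ndS (p := 20198) (l := 3) rfl N20198 D54642
theorem N21873 : nd 21873 = n54643 := ndS (p := 20199) (l := 8) rfl N20199 D54643
theorem N21874 : nd 21874 = n54644 := ndS (p := 20200) (l := 3) rfl N20200 D54644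
theorem N21875 : nd 21875 = n54645 := ndS (p := 20203) (l := 3) rfl N20203 D54645
theorem N21876 : nd 21876 = n54646 := ndS (p := 20205) (l := 5) rfl N20205 D54646
theorem N21877 : nd 21877 = n54647 := ndS (p := 20205) (l := 9) rfl N20205 D54647
theorem N21878 : nd 21878 = n54648 := ndS (p := 20206) (l := 8) rfl N20206 D54648
theorem N21879 : nd 21879 = n54649 := ndS (p := 20207) (l := 9) rfl N20207 D54649
theorem N21880 : nd 21880 = n54650 := ndS (p := 20208) (l := 8) rfl N20208 D54650
theorem N21881 : nd 21881 = n54651 := ndS (p := 20209) (l := 3) rfl N20209 D54651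
theorem N21882 : nd 21882 = n54652 := ndS (p := 20209) (l := 9) rfl N20209 D54652
theorem N21883 : nd 21883 = n54653 := ndS (p := 20210) (l := 8) rfl N20210 D54653
theorem N21884 : nd 21884 = n54654 := ndS (p := 20211) (l := 9) rfl N20211 D54654
theorem N21885 : nd 21885 = n54655 := ndS (p := 20212) (l := 8) rfl N20212 D54655
theorem N21886 : nd 21886 = n54656 := ndS (p := 20215) (l := 3) rfl N20215 D54656
theorem N21887 : nd 21887 = n54657 := ndS (p := 20216) (l := 8) rfl N20216 D54657
theorem N21888 : nd 21888 = n54658 := ndS (p := 20217) (l := 3) rfl N20217 D54658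
theorem N21889 : nd 21889 = n54659 := ndS (p := 20220) (l := 5) rfl N20220 D54659
theorem N21890 : nd 21890 = n54660 := ndS (p := 20220) (l := 9) rfl N20220 D54660
theorem N21891 : nd 21891 = n54661 := ndS (p := 20221) (l := 8) rfl N20221 D54661
theorem N21892 : nd 21892 = n54662 := ndS (p := 20222) (l := 8) rfl N20222 D54662
theorem N21893 : nd 21893 = n54663 := ndS (p := 20224) (l := 8) rfl N20224 D54663
theorem N21894 : nd 21894 = n54664 := ndS (p := 20225) (l := 3) rfl N20225 D54664
theorem N21895 : nd 21895 = n54665 := ndS (p := 20226) (l := 7) rfl N20226 D54665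
theorem N21896 : nd 21896 = n54666 := ndS (p := 20226) (l := 9) rfl N20226 D54666
theorem N21897 : nd 21897 = n54667 := ndS (p := 20227) (l := 8) rfl N20227 D54667
theorem N21898 : nd 21898 = n54668 := ndS (p := 20228) (l := 3) rfl N20228 D54668
theorem N21899 : nd 21899 = n54669 := ndS (p := 20230) (l := 9) rfl N20230 D54669
theorem N21900 : nd 21900 = n54670 := ndS (p := 20231) (l := 8) rfl N20231 D54670
theorem N21901 : nd 21901 = n54671 := ndS (p := 20232) (l := 3) rfl N20232 D54671
theorem N21902 : nd 21902 = n54672 := ndS (p := 20234) (l := 8) rfl N20234 D54672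
theorem N21903 : nd 21903 = n54673 := ndS (p := 20235) (l := 3) rfl N20235 D54673
theorem N21904 : nd 21904 = n54674 := ndS (p := 20237) (l := 8) rfl N20237 D54674
theorem N21905 : nd 21905 = n54675 := ndS (p := 20238) (l := 3) rfl N20238 D54675
theorem N21906 : nd 21906 = n54676 := ndS (p := 20239) (l := 4) rfl N20239 D54676
theorem N21907 : nd 21907 = n54677 := ndS (p := 20240) (l := 3) rfl N20240 D54677
theorem N21908 : nd 21908 = n54678 := ndS (p := 20242) (l := 4) rfl N20242 D54678
theorem N21909 : nd 21909 = n54679 := ndS (p := 20243) (l := 1) rfl N20243 D54679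
theorem N21910 : nd 21910 = n54680 := ndS (p := 20243) (l := 4) rfl N20243 D54680
theorem N21911 : nd 21911 = n54681 := ndS (p := 20243) (l := 9) rfl N20243 D54681
theorem N21912 : nd 21912 = n54682 := ndS (p := 20244) (l := 5) rfl N20244 D54682
theorem N21913 : nd 21913 = n54683 := ndS (p := 20244) (l := 9) rfl N20244 D54683
theorem N21914 : nd 21914 = n54684 := ndS (p := 20245) (l := 8) rfl N20245 D54684
theorem N21915 : nd 21915 = n54685 := ndS (p := 20246) (l := 0) rfl N20246 D54685
theorem N21916 : nd 21916 = n54686 := ndS (p := 20246) (l := 4) rfl N20246 D54686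
theorem N21917 : nd 21917 = n54687 := ndS (p := 20246) (l := 9) rfl N20246 D54687
theorem N21918 : nd 21918 = n54688 := ndS (p := 20247) (l := 3) rfl N20247 D54688
theorem N21919 : nd 21919 = n54689 := ndS (p := 20247) (l := 5) rfl N20247 D54689
theorem N21920 : nd 21920 = n54690 := ndS (p := 20247) (l := 9) rfl N20247 D54690
theorem N21921 : nd 21921 = n54691 := ndS (p := 20248) (l := 8) rfl N20248 D54691
theorem N21922 : nd 21922 = n54692 := ndS (p := 20249) (l := 9) rfl N20249 D54692
theorem N21923 : nd 21923 = n54693 := ndS (p := 20250) (l := 8) rfl N20250 D54693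
theorem N21924 : nd 21924 = n54694 := ndS (p := 20252) (l := 5) rfl N20252 D54694
theorem N21925 : nd 21925 = n54695 := ndS (p := 20252) (l := 9) rfl N20252 D54695
theorem N21926 : nd 21926 = n54696 := ndS (p := 20253) (l := 8) rfl N20253 D54696
theorem N21927 : nd 21927 = n54697 := ndS (p := 20254) (l := 4) rfl N20254 D54697
theorem N21928 : nd 21928 = n54698 := ndS (p := 20254) (l := 9) rfl N20254 D54698
theorem N21929 : nd 21929 = n54699 := ndS (p := 20255) (l := 3) rfl N20255 D54699
theorem N21930 : nd 21930 = n54700 := ndS (p := 20255) (l := 9) rfl N20255 D54700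
theorem N21931 : nd 21931 = n54701 := ndS (p := 20256) (l := 8) rfl N20256 D54701
theorem N21932 : nd 21932 = n54702 := ndS (p := 20257) (l := 6) rfl N20257 D54702
theorem N21933 : nd 21933 = n54703 := ndS (p := 20257) (l := 9) rfl N20257 D54703
theorem N21934 : nd 21934 = n54704 := ndS (p := 20258) (l := 8) rfl N20258 D54704
theorem N21935 : nd 21935 = n54705 := ndS (p := 20260) (l := 3) rfl N20260 D54705
theorem N21936 : nd 21936 = n54706 := ndS (p := 20260) (l := 9) rfl N20260 D54706
theorem N21937 : nd 21937 = n54707 := ndS (p := 20261) (l := 8) rfl N20261 D54707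
theorem N21938 : nd 21938 = n54708 := ndS (p := 20262) (l := 5) rfl N20262 D54708
theorem N21939 : nd 21939 = n54709 := ndS (p := 20262) (l := 8) rfl N20262 D54709
theorem N21940 : nd 21940 = n54710 := ndS (p := 20262) (l := 9) rfl N20262 D54710
theorem N21941 : nd 21941 = n54711 := ndS (p := 20263) (l := 9) rfl N20263 D54711
theorem N21942 : nd 21942 = n54712 := ndS (p := 20264) (l := 8) rfl N20264 D54712
theorem N21943 : nd 21943 = n54713 := ndS (p := 20265) (l := 3) rfl N20265 D54713
theorem N21944 : nd 21944 = n54714 := ndS (p := 20266) (l := 7) rfl N20266 D54714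
theorem N21945 : nd 21945 = n54715 := ndS (p := 20266) (l := 9) rfl N20266 D54715
theorem N21946 : nd 21946 = n54716 := ndS (p := 20267) (l := 8) rfl N20267 D54716
theorem N21947 : nd 21947 = n54717 := ndS (p := 20268) (l := 3) rfl N20268 D54717
theorem N21948 : nd 21948 = n54718 := ndS (p := 20269) (l := 8) rfl N20269 D54718
theorem N21949 : nd 21949 = n54719 := ndS (p := 20270) (l := 3) rfl N20270 D54719
theorem N21950 : nd 21950 = n54720 := ndS (p := 20271) (l := 9) rfl N20271 D54720
theorem N21951 : nd 21951 = n54721 := ndS (p := 20272) (l := 8) rfl N20272 D54721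
theorem N21952 : nd 21952 = n54722 := ndS (p := 20273) (l := 3) rfl N20273 D54722
theorem N21953 : nd 21953 = n54723 := ndS (p := 20274) (l := 3) rfl N20274 D54723
theorem N21954 : nd 21954 = n54724 := ndS (p := 20275) (l := 8) rfl N20275 D54724
theorem N21955 : nd 21955 = n54725 := ndS (p := 20277) (l := 4) rfl N20277 D54725
theorem N21956 : nd 21956 = n54726 := ndS (p := 20278) (l := 9) rfl N20278 D54726
theorem N21957 : nd 21957 = n54727 := ndS (p := 20279) (l := 8) rfl N20279 D54727
theorem N21958 : nd 21958 = n54728 := ndS (p := 20280) (l := 3) rfl N20280 D54728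
theorem N21959 : nd 21959 = n54729 := ndS (p := 20281) (l := 2) rfl N20281 D54729
theorem N21960 : nd 21960 = n54730 := ndS (p := 20284) (l := 8) rfl N20284 D54730
theorem N21961 : nd 21961 = n54731 := ndS (p := 20285) (l := 3) rfl N20285 D54731
theorem N21962 : nd 21962 = n54732 := ndS (p := 20288) (l := 6) rfl N20288 D54732
theorem N21963 : nd 21963 = n54733 := ndS (p := 20288) (l := 9) rfl N20288 D54733
theorem N21964 : nd 21964 = n54734 := ndS (p := 20289) (l := 8) rfl N20289 D54734
theorem N21965 : nd 21965 = n54735 := ndS (p := 20291) (l := 4) rfl N20291 D54735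
theorem N21966 : nd 21966 = n54736 := ndS (p := 20291) (l := 9) rfl N20291 D54736
theorem N21967 : nd 21967 = n54737 := ndS (p := 20292) (l := 9) rfl N20292 D54737
theorem N21968 : nd 21968 = n54738 := ndS (p := 20293) (l := 8) rfl N20293 D54738
theorem N21969 : nd 21969 = n54739 := ndS (p := 20294) (l := 8) rfl N20294 D54739
theorem N21970 : nd 21970 = n54740 := ndS (p := 20295) (l := 3) rfl N20295 D54740
theorem N21971 : nd 21971 = n54741 := ndS (p := 20296) (l := 7) rfl N20296 D54741
theorem N21972 : nd 21972 = n54742 := ndS (p := 20296) (l := 9) rfl N20296 D54742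
theorem N21973 : nd 21973 = n54743 := ndS (p := 20297) (l := 8) rfl N20297 D54743
theorem N21974 : nd 21974 = n54744 := ndS (p := 20298) (l := 3) rfl N20298 D54744
theorem N21975 : nd 21975 = n54745 := ndS (p := 20299) (l := 3) rfl N20299 D54745
theorem N21976 : nd 21976 = n54746 := ndS (p := 20299) (l := 9) rfl N20299 D54746
theorem N21977 : nd 21977 = n54747 := ndS (p := 20300) (l := 8) rfl N20300 D54747
theorem N21978 : nd 21978 = n54748 := ndS (p := 20301) (l := 8) rfl N20301 D54748
theorem N21979 : nd 21979 = n54749 := ndS (p := 20301) (l := 9) rfl N20301 D54749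
theorem N21980 : nd 21980 = n54750 := ndS (p := 20302) (l := 9) rfl N20302 D54750
theorem N21981 : nd 21981 = n54751 := ndS (p := 20303) (l := 8) rfl N20303 D54751
theorem N21982 : nd 21982 = n54752 := ndS (p := 20304) (l := 3) rfl N20304 D54752
theorem N21983 : nd 21983 = n54753 := ndS (p := 20305) (l := 9) rfl N20305 D54753
theorem N21984 : nd 21984 = n54754 := ndS (p := 20306) (l := 8) rfl N20306 D54754
theorem N21985 : nd 21985 = n54755 := ndS (p := 20307) (l := 7) rfl N20307 D54755
theorem N21986 : nd 21986 = n54756 := ndS (p := 20307) (l := 9) rfl N20307 D54756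
theorem N21987 : nd 21987 = n54757 := ndS (p := 20308) (l := 8) rfl N20308 D54757
theorem N21988 : nd 21988 = n54758 := ndS (p := 20309) (l := 3) rfl N20309 D54758
theorem N21989 : nd 21989 = n54759 := ndS (p := 20310) (l := 4) rfl N20310 D54759
theorem N21990 : nd 21990 = n54760 := ndS (p := 20311) (l := 9) rfl N20311 D54760
theorem N21991 : nd 21991 = n54761 := ndS (p := 20312) (l := 8) rfl N20312 D54761
theorem N21992 : nd 21992 = n54762 := ndS (p := 20313) (l := 3) rfl N20313 D54762
theorem N21993 : nd 21993 = n54763 := ndS (p := 20314) (l := 2) rfl N20314 D54763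
theorem N21994 : nd 21994 = n54764 := ndS (p := 20315) (l := 8) rfl N20315 D54764
theorem N21995 : nd 21995 = n54765 := ndS (p := 20316) (l := 3) rfl N20316 D54765
theorem N21996 : nd 21996 = n54766 := ndS (p := 20317) (l := 4) rfl N20317 D54766
theorem N21997 : nd 21997 = n54767 := ndS (p := 20318) (l := 9) rfl N20318 D54767
theorem N21998 : nd 21998 = n54768 := ndS (p := 20319) (l := 8) rfl N20319 D54768
theorem N21999 : nd 21999 = n54769 := ndS (p := 20320) (l := 3) rfl N20320 D54769
theorem N22000 : nd 22000 = n54770 := ndS (p := 20321) (l := 2) rfl N20321 D54770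
theorem N22001 : nd 22001 = n54771 := ndS (p := 20322) (l := 3) rfl N20322 D54771
theorem N22002 : nd 22002 = n54772 := ndS (p := 20323) (l := 8) rfl N20323 D54772
theorem N22003 : nd 22003 = n54773 := ndS (p := 20325) (l := 4) rfl N20325 D54773
theorem N22004 : nd 22004 = n54774 := ndS (p := 20326) (l := 9) rfl N20326 D54774
theorem N22005 : nd 22005 = n54775 := ndS (p := 20327) (l := 8) rfl N20327 D54775
theorem N22006 : nd 22006 = n54776 := ndS (p := 20329) (l := 5) rfl N20329 D54776
theorem N22007 : nd 22007 = n54777 := ndS (p := 20330) (l := 8) rfl N20330 D54777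
theorem N22008 : nd 22008 = n54778 := ndS (p := 20331) (l := 3) rfl N20331 D54778
theorem N22009 : nd 22009 = n54779 := ndS (p := 20332) (l := 2) rfl N20332 D54779
theorem N22010 : nd 22010 = n54780 := ndS (p := 20332) (l := 4) rfl N20332 D54780
theorem N22011 : nd 22011 = n54781 := ndS (p := 20333) (l := 1) rfl N20333 D54781
theorem N22012 : nd 22012 = n54782 := ndS (p := 20336) (l := 8) rfl N20336 D54782
theorem N22013 : nd 22013 = n54783 := ndS (p := 20338) (l := 6) rfl N20338 D54783
theorem N22014 : nd 22014 = n54784 := ndS (p := 20339) (l := 3) rfl N20339 D54784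
theorem N22015 : nd 22015 = n54785 := ndS (p := 20342) (l := 8) rfl N20342 D54785
theorem N22016 : nd 22016 = n54786 := ndS (p := 20343) (l := 3) rfl N20343 D54786
theorem N22017 : nd 22017 = n54787 := ndS (p := 20344) (l := 2) rfl N20344 D54787
theorem N22018 : nd 22018 = n54788 := ndS (p := 20344) (l := 4) rfl N20344 D54788
theorem N22019 : nd 22019 = n54789 := ndS (p := 20345) (l := 1) rfl N20345 D54789
theorem N22020 : nd 22020 = n54790 := ndS (p := 20346) (l := 3) rfl N20346 D54790
theorem N22021 : nd 22021 = n54791 := ndS (p := 20347) (l := 2) rfl N20347 D54791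
theorem N22022 : nd 22022 = n54792 := ndS (p := 20347) (l := 4) rfl N20347 D54792
theorem N22023 : nd 22023 = n54793 := ndS (p := 20348) (l := 1) rfl N20348 D54793
theorem N22024 : nd 22024 = n54794 := ndS (p := 20348) (l := 4) rfl N20348 D54794
theorem N22025 : nd 22025 = n54795 := ndS (p := 20351) (l := 2) rfl N20351 D54795
theorem N22026 : nd 22026 = n54796 := ndS (p := 20353) (l := 8) rfl N20353 D54796
theorem N22027 : nd 22027 = n54797 := ndS (p := 20354) (l := 3) rfl N20354 D54797
theorem N22028 : nd 22028 = n54798 := ndS (p := 20355) (l := 4) rfl N20355 D54798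
theorem N22029 : nd 22029 = n54799 := ndS (p := 20356) (l := 9) rfl N20356 D54799
theorem N22030 : nd 22030 = n54800 := ndS (p := 20357) (l := 8) rfl N20357 D54800
theorem N22031 : nd 22031 = n54801 := ndS (p := 20359) (l := 9) rfl N20359 D54801
theorem N22032 : nd 22032 = n54802 := ndS (p := 20360) (l := 8) rfl N20360 D54802
theorem N22033 : nd 22033 = n54803 := ndS (p := 20361) (l := 3) rfl N20361 D54803
theorem N22034 : nd 22034 = n54804 := ndS (p := 20362) (l := 4) rfl N20362 D54804
theorem N22035 : nd 22035 = n54805 := ndS (p := 20363) (l := 8) rfl N20363 D54805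
theorem N22036 : nd 22036 = n54806 := ndS (p := 20364) (l := 3) rfl N20364 D54806
theorem N22037 : nd 22037 = n54807 := ndS (p := 20365) (l := 4) rfl N20365 D54807
theorem N22038 : nd 22038 = n54808 := ndS (p := 20366) (l := 5) rfl N20366 D54808
theorem N22039 : nd 22039 = n54809 := ndS (p := 20368) (l := 4) rfl N20368 D54809
theorem N22040 : nd 22040 = n54810 := ndS (p := 20369) (l := 5) rfl N20369 D54810
theorem N22041 : nd 22041 = n54811 := ndS (p := 20370) (l := 5) rfl N20370 D54811
theorem N22042 : nd 22042 = n54812 := ndS (p := 20371) (l := 6) rfl N20371 D54812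
theorem N22043 : nd 22043 = n54813 := ndS (p := 20376) (l := 8) rfl N20376 D54813
theorem N22044 : nd 22044 = n54814 := ndS (p := 20378) (l := 8) rfl N20378 D54814
theorem N22045 : nd 22045 = n54815 := ndS (p := 20379) (l := 8) rfl N20379 D54815
theorem N22046 : nd 22046 = n54816 := ndS (p := 20380) (l := 8) rfl N20380 D54816
theorem N22047 : nd 22047 = n54817 := ndS (p := 20382) (l := 8) rfl N20382 D54817
theorem N22048 : nd 22048 = n54818 := ndS (p := 20384) (l := 3) rfl N20384 D54818
theorem N22049 : nd 22049 = n54819 := ndS (p := 20385) (l := 3) rfl N20385 D54819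
theorem N22050 : nd 22050 = n54820 := ndS (p := 20389) (l := 8) rfl N20389 D54820
theorem N22051 : nd 22051 = n54821 := ndS (p := 20390) (l := 3) rfl N20390 D54821
theorem N22052 : nd 22052 = n54822 := ndS (p := 20391) (l := 8) rfl N20391 D54822
theorem N22053 : nd 22053 = n54823 := ndS (p := 20392) (l := 3) rfl N20392 D54823
theorem N22054 : nd 22054 = n54824 := ndS (p := 20395) (l := 3) rfl N20395 D54824
theorem N22055 : nd 22055 = n54825 := ndS (p := 20396) (l := 4) rfl N20396 D54825
theorem N22056 : nd 22056 = n54826 := ndS (p := 20397) (l := 3) rfl N20397 D54826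
theorem N22057 : nd 22057 = n54827 := ndS (p := 20398) (l := 2) rfl N20398 D54827
theorem N22058 : nd 22058 = n54828 := ndS (p := 20405) (l := 8) rfl N20405 D54828
theorem N22059 : nd 22059 = n54829 := ndS (p := 20406) (l := 3) rfl N20406 D54829
theorem N22060 : nd 22060 = n54830 := ndS (p := 20407) (l := 8) rfl N20407 D54830
theorem N22061 : nd 22061 = n54831 := ndS (p := 20408) (l := 8) rfl N20408 D54831
theorem N22062 : nd 22062 = n54832 := ndS (p := 20410) (l := 8) rfl N20410 D54832
theorem N22063 : nd 22063 = n54833 := ndS (p := 20411) (l := 8) rfl N20411 D54833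
theorem N22064 : nd 22064 = n54834 := ndS (p := 20412) (l := 3) rfl N20412 D54834
theorem N22065 : nd 22065 = n54835 := ndS (p := 20413) (l := 3) rfl N20413 D54835
theorem N22066 : nd 22066 = n54836 := ndS (p := 20417) (l := 8) rfl N20417 D54836
theorem N22067 : nd 22067 = n54837 := ndS (p := 20419) (l := 3) rfl N20419 D54837
theorem N22068 : nd 22068 = n54838 := ndS (p := 20420) (l := 3) rfl N20420 D54838
theorem N22069 : nd 22069 = n54839 := ndS (p := 20421) (l := 4) rfl N20421 D54839
theorem N22070 : nd 22070 = n54840 := ndS (p := 20422) (l := 2) rfl N20422 D54840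
theorem N22071 : nd 22071 = n54841 := ndS (p := 20425) (l := 2) rfl N20425 D54841
theorem N22072 : nd 22072 = n54842 := ndS (p := 20425) (l := 4) rfl N20425 D54842
theorem N22073 : nd 22073 = n54843 := ndS (p := 20429) (l := 3) rfl N20429 D54843
theorem N22074 : nd 22074 = n54844 := ndS (p := 20430) (l := 3) rfl N20430 D54844
theorem N22075 : nd 22075 = n54845 := ndS (p := 20431) (l := 3) rfl N20431 D54845
theorem N22076 : nd 22076 = n54846 := ndS (p := 20432) (l := 3) rfl N20432 D54846
theorem N22077 : nd 22077 = n54847 := ndS (p := 20433) (l := 4) rfl N20433 D54847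
theorem N22078 : nd 22078 = n54848 := ndS (p := 20434) (l := 3) rfl N20434 D54848
theorem N22079 : nd 22079 = n54849 := ndS (p := 20435) (l := 2) rfl N20435 D54849
theorem N22080 : nd 22080 = n54850 := ndS (p := 20436) (l := 3) rfl N20436 D54850
theorem N22081 : nd 22081 = n54851 := ndS (p := 20437) (l := 3) rfl N20437 D54851
theorem N22082 : nd 22082 = n54852 := ndS (p := 20441) (l := 3) rfl N20441 D54852
theorem N22083 : nd 22083 = n54853 := ndS (p := 20442) (l := 4) rfl N20442 D54853
theorem N22084 : nd 22084 = n54854 := ndS (p := 20443) (l := 3) rfl N20443 D54854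
theorem N22085 : nd 22085 = n54855 := ndS (p := 20444) (l := 2) rfl N20444 D54855
theorem N22086 : nd 22086 = n54856 := ndS (p := 20444) (l := 4) rfl N20444 D54856
theorem N22087 : nd 22087 = n54857 := ndS (p := 20445) (l := 5) rfl N20445 D54857
theorem N22088 : nd 22088 = n54858 := ndS (p := 20452) (l := 4) rfl N20452 D54858
theorem N22089 : nd 22089 = n54859 := ndS (p := 20452) (l := 9) rfl N20452 D54859
theorem N22090 : nd 22090 = n54860 := ndS (p := 20454) (l := 9) rfl N20454 D54860
theorem N22091 : nd 22091 = n54861 := ndS (p := 20455) (l := 8) rfl N20455 D54861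
theorem N22092 : nd 22092 = n54862 := ndS (p := 20456) (l := 8) rfl N20456 D54862
theorem N22093 : nd 22093 = n54863 := ndS (p := 20458) (l := 4) rfl N20458 D54863
theorem N22094 : nd 22094 = n54864 := ndS (p := 20458) (l := 9) rfl N20458 D54864
theorem N22095 : nd 22095 = n54865 := ndS (p := 20460) (l := 4) rfl N20460 D54865
theorem N22096 : nd 22096 = n54866 := ndS (p := 20460) (l := 9) rfl N20460 D54866
theorem N22097 : nd 22097 = n54867 := ndS (p := 20461) (l := 5) rfl N20461 D54867
theorem N22098 : nd 22098 = n54868 := ndS (p := 20461) (l := 9) rfl N20461 D54868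
theorem N22099 : nd 22099 = n54869 := ndS (p := 20462) (l := 8) rfl N20462 D54869
theorem N22100 : nd 22100 = n54870 := ndS (p := 20463) (l := 8) rfl N20463 D54870
theorem N22101 : nd 22101 = n54871 := ndS (p := 20464) (l := 8) rfl N20464 D54871
theorem N22102 : nd 22102 = n54872 := ndS (p := 20465) (l := 9) rfl N20465 D54872
theorem N22103 : nd 22103 = n54873 := ndS (p := 20466) (l := 8) rfl N20466 D54873
theorem N22104 : nd 22104 = n54874 := ndS (p := 20468) (l := 3) rfl N20468 D54874
theorem N22105 : nd 22105 = n54875 := ndS (p := 20469) (l := 3) rfl N20469 D54875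
theorem N22106 : nd 22106 = n54876 := ndS (p := 20470) (l := 4) rfl N20470 D54876
theorem N22107 : nd 22107 = n54877 := ndS (p := 20470) (l := 9) rfl N20470 D54877
theorem N22108 : nd 22108 = n54878 := ndS (p := 20472) (l := 9) rfl N20472 D54878
theorem N22109 : nd 22109 = n54879 := ndS (p := 20473) (l := 8) rfl N20473 D54879
theorem N22110 : nd 22110 = n54880 := ndS (p := 20474) (l := 9) rfl N20474 D54880
theorem N22111 : nd 22111 = n54881 := ndS (p := 20475) (l := 8) rfl N20475 D54881
theorem N22112 : nd 22112 = n54882 := ndS (p := 20476) (l := 9) rfl N20476 D54882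
theorem N22113 : nd 22113 = n54883 := ndS (p := 20477) (l := 8) rfl N20477 D54883
theorem N22114 : nd 22114 = n54884 := ndS (p := 20480) (l := 3) rfl N20480 D54884
theorem N22115 : nd 22115 = n54885 := ndS (p := 20481) (l := 8) rfl N20481 D54885
theorem N22116 : nd 22116 = n54886 := ndS (p := 20482) (l := 3) rfl N20482 D54886
theorem N22117 : nd 22117 = n54887 := ndS (p := 20486) (l := 3) rfl N20486 D54887
theorem N22118 : nd 22118 = n54888 := ndS (p := 20488) (l := 3) rfl N20488 D54888
theorem N22119 : nd 22119 = n54889 := ndS (p := 20490) (l := 4) rfl N20490 D54889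
theorem N22120 : nd 22120 = n54890 := ndS (p := 20490) (l := 9) rfl N20490 D54890
theorem N22121 : nd 22121 = n54891 := ndS (p := 20491) (l := 5) rfl N20491 D54891
theorem N22122 : nd 22122 = n54892 := ndS (p := 20491) (l := 9) rfl N20491 D54892
theorem N22123 : nd 22123 = n54893 := ndS (p := 20492) (l := 8) rfl N20492 D54893
theorem N22124 : nd 22124 = n54894 := ndS (p := 20493) (l := 9) rfl N20493 D54894
theorem N22125 : nd 22125 = n54895 := ndS (p := 20494) (l := 8) rfl N20494 D54895
theorem N22126 : nd 22126 = n54896 := ndS (p := 20495) (l := 4) rfl N20495 D54896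
theorem N22127 : nd 22127 = n54897 := ndS (p := 20495) (l := 9) rfl N20495 D54897
theorem N22128 : nd 22128 = n54898 := ndS (p := 20496) (l := 3) rfl N20496 D54898
theorem N22129 : nd 22129 = n54899 := ndS (p := 20496) (l := 9) rfl N20496 D54899
theorem N22130 : nd 22130 = n54900 := ndS (p := 20497) (l := 8) rfl N20497 D54900
theorem N22131 : nd 22131 = n54901 := ndS (p := 20498) (l := 6) rfl N20498 D54901
theorem N22132 : nd 22132 = n54902 := ndS (p := 20498) (l := 9) rfl N20498 D54902
theorem N22133 : nd 22133 = n54903 := ndS (p := 20499) (l := 8) rfl N20499 D54903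
theorem N22134 : nd 22134 = n54904 := ndS (p := 20502) (l := 8) rfl N20502 D54904
theorem N22135 : nd 22135 = n54905 := ndS (p := 20503) (l := 3) rfl N20503 D54905
theorem N22136 : nd 22136 = n54906 := ndS (p := 20504) (l := 9) rfl N20504 D54906
theorem N22137 : nd 22137 = n54907 := ndS (p := 20505) (l := 8) rfl N20505 D54907
theorem N22138 : nd 22138 = n54908 := ndS (p := 20506) (l := 3) rfl N20506 D54908
theorem N22139 : nd 22139 = n54909 := ndS (p := 20507) (l := 3) rfl N20507 D54909
theorem N22140 : nd 22140 = n54910 := ndS (p := 20509) (l := 4) rfl N20509 D54910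
theorem N22141 : nd 22141 = n54911 := ndS (p := 20510) (l := 8) rfl N20510 D54911
theorem N22142 : nd 22142 = n54912 := ndS (p := 20511) (l := 3) rfl N20511 D54912
theorem N22143 : nd 22143 = n54913 := ndS (p := 20512) (l := 2) rfl N20512 D54913
theorem N22144 : nd 22144 = n54914 := ndS (p := 20513) (l := 9) rfl N20513 D54914
theorem N22145 : nd 22145 = n54915 := ndS (p := 20514) (l := 8) rfl N20514 D54915
theorem N22146 : nd 22146 = n54916 := ndS (p := 20515) (l := 8) rfl N20515 D54916
theorem N22147 : nd 22147 = n54917 := ndS (p := 20517) (l := 9) rfl N20517 D54917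
theorem N22148 : nd 22148 = n54918 := ndS (p := 20518) (l := 8) rfl N20518 D54918
theorem N22149 : nd 22149 = n54919 := ndS (p := 20519) (l := 9) rfl N20519 D54919
theorem N22150 : nd 22150 = n54920 := ndS (p := 20520) (l := 8) rfl N20520 D54920
theorem N22151 : nd 22151 = n54921 := ndS (p := 20521) (l := 3) rfl N20521 D54921
theorem N22152 : nd 22152 = n54922 := ndS (p := 20522) (l := 9) rfl N20522 D54922
theorem N22153 : nd 22153 = n54923 := ndS (p := 20523) (l := 8) rfl N20523 D54923
theorem N22154 : nd 22154 = n54924 := ndS (p := 20524) (l := 3) rfl N20524 D54924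
theorem N22155 : nd 22155 = n54925 := ndS (p := 20525) (l := 3) rfl N20525 D54925
theorem N22156 : nd 22156 = n54926 := ndS (p := 20526) (l := 4) rfl N20526 D54926
theorem N22157 : nd 22157 = n54927 := ndS (p := 20527) (l := 8) rfl N20527 D54927
theorem N22158 : nd 22158 = n54928 := ndS (p := 20528) (l := 3) rfl N20528 D54928
theorem N22159 : nd 22159 = n54929 := ndS (p := 20529) (l := 2) rfl N20529 D54929
theorem N22160 : nd 22160 = n54930 := ndS (p := 20533) (l := 8) rfl N20533 D54930
theorem N22161 : nd 22161 = n54931 := ndS (p := 20536) (l := 3) rfl N20536 D54931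
theorem N22162 : nd 22162 = n54932 := ndS (p := 20539) (l := 3) rfl N20539 D54932
theorem N22163 : nd 22163 = n54933 := ndS (p := 20540) (l := 2) rfl N20540 D54933
theorem N22164 : nd 22164 = n54934 := ndS (p := 20540) (l := 4) rfl N20540 D54934
theorem N22165 : nd 22165 = n54935 := ndS (p := 20543) (l := 3) rfl N20543 D54935
theorem N22166 : nd 22166 = n54936 := ndS (p := 20544) (l := 8) rfl N20544 D54936
theorem N22167 : nd 22167 = n54937 := ndS (p := 20545) (l := 3) rfl N20545 D54937
theorem N22168 : nd 22168 = n54938 := ndS (p := 20546) (l := 4) rfl N20546 D54938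
theorem N22169 : nd 22169 = n54939 := ndS (p := 20548) (l := 5) rfl N20548 D54939
theorem N22170 : nd 22170 = n54940 := ndS (p := 20550) (l := 9) rfl N20550 D54940
theorem N22171 : nd 22171 = n54941 := ndS (p := 20551) (l := 8) rfl N20551 D54941
theorem N22172 : nd 22172 = n54942 := ndS (p := 20553) (l := 9) rfl N20553 D54942
theorem N22173 : nd 22173 = n54943 := ndS (p := 20554) (l := 8) rfl N20554 D54943
theorem N22174 : nd 22174 = n54944 := ndS (p := 20555) (l := 4) rfl N20555 D54944
theorem N22175 : nd 22175 = n54945 := ndS (p := 20555) (l := 9) rfl N20555 D54945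
theorem N22176 : nd 22176 = n54946 := ndS (p := 20556) (l := 3) rfl N20556 D54946
theorem N22177 : nd 22177 = n54947 := ndS (p := 20556) (l := 9) rfl N20556 D54947
theorem N22178 : nd 22178 = n54948 := ndS (p := 20557) (l := 8) rfl N20557 D54948
theorem N22179 : nd 22179 = n54949 := ndS (p := 20558) (l := 8) rfl N20558 D54949
theorem N22180 : nd 22180 = n54950 := ndS (p := 20561) (l := 8) rfl N20561 D54950
theorem N22181 : nd 22181 = n54951 := ndS (p := 20562) (l := 3) rfl N20562 D54951
theorem N22182 : nd 22182 = n54952 := ndS (p := 20565) (l := 4) rfl N20565 D54952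
theorem N22183 : nd 22183 = n54953 := ndS (p := 20565) (l := 9) rfl N20565 D54953
theorem N22184 : nd 22184 = n54954 := ndS (p := 20567) (l := 4) rfl N20567 D54954
theorem N22185 : nd 22185 = n54955 := ndS (p := 20567) (l := 9) rfl N20567 D54955
theorem N22186 : nd 22186 = n54956 := ndS (p := 20568) (l := 5) rfl N20568 D54956
theorem N22187 : nd 22187 = n54957 := ndS (p := 20568) (l := 9) rfl N20568 D54957
theorem N22188 : nd 22188 = n54958 := ndS (p := 20569) (l := 8) rfl N20569 D54958
theorem N22189 : nd 22189 = n54959 := ndS (p := 20570) (l := 4) rfl N20570 D54959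
theorem N22190 : nd 22190 = n54960 := ndS (p := 20570) (l := 9) rfl N20570 D54960
theorem N22191 : nd 22191 = n54961 := ndS (p := 20571) (l := 9) rfl N20571 D54961
theorem N22192 : nd 22192 = n54962 := ndS (p := 20572) (l := 8) rfl N20572 D54962
theorem N22193 : nd 22193 = n54963 := ndS (p := 20573) (l := 4) rfl N20573 D54963
theorem N22194 : nd 22194 = n54964 := ndS (p := 20573) (l := 9) rfl N20573 D54964
theorem N22195 : nd 22195 = n54965 := ndS (p := 20574) (l := 3) rfl N20574 D54965
theorem N22196 : nd 22196 = n54966 := ndS (p := 20574) (l := 5) rfl N20574 D54966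
theorem N22197 : nd 22197 = n54967 := ndS (p := 20574) (l := 9) rfl N20574 D54967
theorem N22198 : nd 22198 = n54968 := ndS (p := 20575) (l := 8) rfl N20575 D54968
theorem N22199 : nd 22199 = n54969 := ndS (p := 20576) (l := 9) rfl N20576 D54969
theorem N22200 : nd 22200 = n54970 := ndS (p := 20577) (l := 8) rfl N20577 D54970
theorem N22201 : nd 22201 = n54971 := ndS (p := 20579) (l := 8) rfl N20579 D54971
theorem N22202 : nd 22202 = n54972 := ndS (p := 20581) (l := 8) rfl N20581 D54972
theorem N22203 : nd 22203 = n54973 := ndS (p := 20582) (l := 9) rfl N20582 D54973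
theorem N22204 : nd 22204 = n54974 := ndS (p := 20583) (l := 8) rfl N20583 D54974
theorem N22205 : nd 22205 = n54975 := ndS (p := 20584) (l := 3) rfl N20584 D54975
theorem N22206 : nd 22206 = n54976 := ndS (p := 20585) (l := 8) rfl N20585 D54976
theorem N22207 : nd 22207 = n54977 := ndS (p := 20586) (l := 3) rfl N20586 D54977
theorem N22208 : nd 22208 = n54978 := ndS (p := 20587) (l := 3) rfl N20587 D54978
theorem N22209 : nd 22209 = n54979 := ndS (p := 20589) (l := 4) rfl N20589 D54979
theorem N22210 : nd 22210 = n54980 := ndS (p := 20590) (l := 2) rfl N20590 D54980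
theorem N22211 : nd 22211 = n54981 := ndS (p := 20591) (l := 9) rfl N20591 D54981
theorem N22212 : nd 22212 = n54982 := ndS (p := 20592) (l := 8) rfl N20592 D54982
theorem N22213 : nd 22213 = n54983 := ndS (p := 20593) (l := 9) rfl N20593 D54983
theorem N22214 : nd 22214 = n54984 := ndS (p := 20594) (l := 8) rfl N20594 D54984
theorem N22215 : nd 22215 = n54985 := ndS (p := 20595) (l := 6) rfl N20595 D54985
theorem N22216 : nd 22216 = n54986 := ndS (p := 20595) (l := 9) rfl N20595 D54986
theorem N22217 : nd 22217 = n54987 := ndS (p := 20596) (l := 8) rfl N20596 D54987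
theorem N22218 : nd 22218 = n54988 := ndS (p := 20598) (l := 9) rfl N20598 D54988
theorem N22219 : nd 22219 = n54989 := ndS (p := 20599) (l := 9) rfl N20599 D54989
theorem N22220 : nd 22220 = n54990 := ndS (p := 20600) (l := 8) rfl N20600 D54990
theorem N22221 : nd 22221 = n54991 := ndS (p := 20601) (l := 9) rfl N20601 D54991
theorem N22222 : nd 22222 = n54992 := ndS (p := 20602) (l := 8) rfl N20602 D54992
theorem N22223 : nd 22223 = n54993 := ndS (p := 20603) (l := 3) rfl N20603 D54993
theorem N22224 : nd 22224 = n54994 := ndS (p := 20604) (l := 8) rfl N20604 D54994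
theorem N22225 : nd 22225 = n54995 := ndS (p := 20605) (l := 3) rfl N20605 D54995
theorem N22226 : nd 22226 = n54996 := ndS (p := 20607) (l := 8) rfl N20607 D54996
theorem N22227 : nd 22227 = n54997 := ndS (p := 20609) (l := 8) rfl N20609 D54997
theorem N22228 : nd 22228 = n54998 := ndS (p := 20610) (l := 3) rfl N20610 D54998
theorem N22229 : nd 22229 = n54999 := ndS (p := 20611) (l := 8) rfl N20611 D54999
theorem N22230 : nd 22230 = n55000 := ndS (p := 20612) (l := 3) rfl N20612 D55000
theorem N22231 : nd 22231 = n55001 := ndS (p := 20613) (l := 4) rfl N20613 D55001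
theorem N22232 : nd 22232 = n55002 := ndS (p := 20614) (l := 3) rfl N20614 D55002
theorem N22233 : nd 22233 = n55003 := ndS (p := 20615) (l := 2) rfl N20615 D55003
theorem N22234 : nd 22234 = n55004 := ndS (p := 20618) (l := 2) rfl N20618 D55004
theorem N22235 : nd 22235 = n55005 := ndS (p := 20618) (l := 4) rfl N20618 D55005
theorem N22236 : nd 22236 = n55006 := ndS (p := 20619) (l := 2) rfl N20619 D55006
theorem N22237 : nd 22237 = n55007 := ndS (p := 20619) (l := 4) rfl N20619 D55007
theorem N22238 : nd 22238 = n55008 := ndS (p := 20622) (l := 8) rfl N20622 D55008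
theorem N22239 : nd 22239 = n55009 := ndS (p := 20624) (l := 2) rfl N20624 D55009
theorem N22240 : nd 22240 = n55010 := ndS (p := 20624) (l := 4) rfl N20624 D55010
theorem N22241 : nd 22241 = n55011 := ndS (p := 20629) (l := 3) rfl N20629 D55011
theorem N22242 : nd 22242 = n55012 := ndS (p := 20630) (l := 4) rfl N20630 D55012
theorem N22243 : nd 22243 = n55013 := ndS (p := 20632) (l := 2) rfl N20632 D55013
theorem N22244 : nd 22244 = n55014 := ndS (p := 20632) (l := 4) rfl N20632 D55014
theorem N22245 : nd 22245 = n55015 := ndS (p := 20633) (l := 5) rfl N20633 D55015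
theorem N22246 : nd 22246 = n55016 := ndS (p := 20636) (l := 4) rfl N20636 D55016
theorem N22247 : nd 22247 = n55017 := ndS (p := 20636) (l := 9) rfl N20636 D55017
theorem N22248 : nd 22248 = n55018 := ndS (p := 20637) (l := 5) rfl N20637 D55018
theorem N22249 : nd 22249 = n55019 := ndS (p := 20637) (l := 9) rfl N20637 D55019
theorem N22250 : nd 22250 = n55020 := ndS (p := 20638) (l := 8) rfl N20638 D55020
theorem N22251 : nd 22251 = n55021 := ndS (p := 20639) (l := 4) rfl N20639 D55021
theorem N22252 : nd 22252 = n55022 := ndS (p := 20639) (l := 9) rfl N20639 D55022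
theorem N22253 : nd 22253 = n55023 := ndS (p := 20640) (l := 3) rfl N20640 D55023
theorem N22254 : nd 22254 = n55024 := ndS (p := 20640) (l := 5) rfl N20640 D55024
theorem N22255 : nd 22255 = n55025 := ndS (p := 20640) (l := 9) rfl N20640 D55025
theorem N22256 : nd 22256 = n55026 := ndS (p := 20641) (l := 8) rfl N20641 D55026
theorem N22257 : nd 22257 = n55027 := ndS (p := 20642) (l := 9) rfl N20642 D55027
theorem N22258 : nd 22258 = n55028 := ndS (p := 20643) (l := 8) rfl N20643 D55028
theorem N22259 : nd 22259 = n55029 := ndS (p := 20645) (l := 9) rfl N20645 D55029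
theorem N22260 : nd 22260 = n55030 := ndS (p := 20646) (l := 8) rfl N20646 D55030
theorem N22261 : nd 22261 = n55031 := ndS (p := 20647) (l := 3) rfl N20647 D55031
theorem N22262 : nd 22262 = n55032 := ndS (p := 20647) (l := 9) rfl N20647 D55032
theorem N22263 : nd 22263 = n55033 := ndS (p := 20648) (l := 8) rfl N20648 D55033
theorem N22264 : nd 22264 = n55034 := ndS (p := 20649) (l := 9) rfl N20649 D55034
theorem N22265 : nd 22265 = n55035 := ndS (p := 20650) (l := 8) rfl N20650 D55035
theorem N22266 : nd 22266 = n55036 := ndS (p := 20652) (l := 3) rfl N20652 D55036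
theorem N22267 : nd 22267 = n55037 := ndS (p := 20652) (l := 9) rfl N20652 D55037
theorem N22268 : nd 22268 = n55038 := ndS (p := 20653) (l := 8) rfl N20653 D55038
theorem N22269 : nd 22269 = n55039 := ndS (p := 20654) (l := 8) rfl N20654 D55039
theorem N22270 : nd 22270 = n55040 := ndS (p := 20654) (l := 9) rfl N20654 D55040
theorem N22271 : nd 22271 = n55041 := ndS (p := 20655) (l := 9) rfl N20655 D55041
theorem N22272 : nd 22272 = n55042 := ndS (p := 20656) (l := 8) rfl N20656 D55042
theorem N22273 : nd 22273 = n55043 := ndS (p := 20657) (l := 3) rfl N20657 D55043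
theorem N22274 : nd 22274 = n55044 := ndS (p := 20658) (l := 9) rfl N20658 D55044
theorem N22275 : nd 22275 = n55045 := ndS (p := 20659) (l := 8) rfl N20659 D55045
theorem N22276 : nd 22276 = n55046 := ndS (p := 20660) (l := 3) rfl N20660 D55046
theorem N22277 : nd 22277 = n55047 := ndS (p := 20661) (l := 3) rfl N20661 D55047
theorem N22278 : nd 22278 = n55048 := ndS (p := 20662) (l := 8) rfl N20662 D55048
theorem N22279 : nd 22279 = n55049 := ndS (p := 20663) (l := 3) rfl N20663 D55049
theorem N22280 : nd 22280 = n55050 := ndS (p := 20664) (l := 3) rfl N20664 D55050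
theorem N22281 : nd 22281 = n55051 := ndS (p := 20665) (l := 8) rfl N20665 D55051
theorem N22282 : nd 22282 = n55052 := ndS (p := 20666) (l := 3) rfl N20666 D55052
theorem N22283 : nd 22283 = n55053 := ndS (p := 20667) (l := 4) rfl N20667 D55053
theorem N22284 : nd 22284 = n55054 := ndS (p := 20668) (l := 8) rfl N20668 D55054
theorem N22285 : nd 22285 = n55055 := ndS (p := 20669) (l := 3) rfl N20669 D55055
theorem N22286 : nd 22286 = n55056 := ndS (p := 20670) (l := 2) rfl N20670 D55056
theorem N22287 : nd 22287 = n55057 := ndS (p := 20671) (l := 4) rfl N20671 D55057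
theorem N22288 : nd 22288 = n55058 := ndS (p := 20674) (l := 3) rfl N20674 D55058
theorem N22289 : nd 22289 = n55059 := ndS (p := 20677) (l := 9) rfl N20677 D55059
theorem N22290 : nd 22290 = n55060 := ndS (p := 20678) (l := 8) rfl N20678 D55060
theorem N22291 : nd 22291 = n55061 := ndS (p := 20680) (l := 5) rfl N20680 D55061
theorem N22292 : nd 22292 = n55062 := ndS (p := 20680) (l := 8) rfl N20680 D55062
theorem N22293 : nd 22293 = n55063 := ndS (p := 20680) (l := 9) rfl N20680 D55063
theorem N22294 : nd 22294 = n55064 := ndS (p := 20681) (l := 9) rfl N20681 D55064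
theorem N22295 : nd 22295 = n55065 := ndS (p := 20682) (l := 8) rfl N20682 D55065
theorem N22296 : nd 22296 = n55066 := ndS (p := 20683) (l := 3) rfl N20683 D55066
theorem N22297 : nd 22297 = n55067 := ndS (p := 20684) (l := 8) rfl N20684 D55067
theorem N22298 : nd 22298 = n55068 := ndS (p := 20685) (l := 3) rfl N20685 D55068
theorem N22299 : nd 22299 = n55069 := ndS (p := 20686) (l := 3) rfl N20686 D55069
theorem N22300 : nd 22300 = n55070 := ndS (p := 20686) (l := 9) rfl N20686 D55070
theorem N22301 : nd 22301 = n55071 := ndS (p := 20687) (l := 8) rfl N20687 D55071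
theorem N22302 : nd 22302 = n55072 := ndS (p := 20688) (l := 5) rfl N20688 D55072
theorem N22303 : nd 22303 = n55073 := ndS (p := 20688) (l := 8) rfl N20688 D55073
theorem N22304 : nd 22304 = n55074 := ndS (p := 20688) (l := 9) rfl N20688 D55074
theorem N22305 : nd 22305 = n55075 := ndS (p := 20689) (l := 9) rfl N20689 D55075
theorem N22306 : nd 22306 = n55076 := ndS (p := 20690) (l := 8) rfl N20690 D55076
theorem N22307 : nd 22307 = n55077 := ndS (p := 20691) (l := 3) rfl N20691 D55077
theorem N22308 : nd 22308 = n55078 := ndS (p := 20692) (l := 8) rfl N20692 D55078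
theorem N22309 : nd 22309 = n55079 := ndS (p := 20692) (l := 9) rfl N20692 D55079
theorem N22310 : nd 22310 = n55080 := ndS (p := 20693) (l := 9) rfl N20693 D55080
theorem N22311 : nd 22311 = n55081 := ndS (p := 20694) (l := 8) rfl N20694 D55081
theorem N22312 : nd 22312 = n55082 := ndS (p := 20695) (l := 9) rfl N20695 D55082
theorem N22313 : nd 22313 = n55083 := ndS (p := 20696) (l := 8) rfl N20696 D55083
theorem N22314 : nd 22314 = n55084 := ndS (p := 20697) (l := 3) rfl N20697 D55084
theorem N22315 : nd 22315 = n55085 := ndS (p := 20698) (l := 4) rfl N20698 D55085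
theorem N22316 : nd 22316 = n55086 := ndS (p := 20699) (l := 9) rfl N20699 D55086
theorem N22317 : nd 22317 = n55087 := ndS (p := 20700) (l := 8) rfl N20700 D55087
theorem N22318 : nd 22318 = n55088 := ndS (p := 20701) (l := 3) rfl N20701 D55088
theorem N22319 : nd 22319 = n55089 := ndS (p := 20702) (l := 2) rfl N20702 D55089
theorem N22320 : nd 22320 = n55090 := ndS (p := 20703) (l := 8) rfl N20703 D55090
theorem N22321 : nd 22321 = n55091 := ndS (p := 20704) (l := 3) rfl N20704 D55091
theorem N22322 : nd 22322 = n55092 := ndS (p := 20706) (l := 3) rfl N20706 D55092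
theorem N22323 : nd 22323 = n55093 := ndS (p := 20709) (l := 8) rfl N20709 D55093
theorem N22324 : nd 22324 = n55094 := ndS (p := 20710) (l := 3) rfl N20710 D55094
theorem N22325 : nd 22325 = n55095 := ndS (p := 20711) (l := 4) rfl N20711 D55095
theorem N22326 : nd 22326 = n55096 := ndS (p := 20712) (l := 8) rfl N20712 D55096
theorem N22327 : nd 22327 = n55097 := ndS (p := 20713) (l := 3) rfl N20713 D55097
theorem N22328 : nd 22328 = n55098 := ndS (p := 20714) (l := 2) rfl N20714 D55098
theorem N22329 : nd 22329 = n55099 := ndS (p := 20714) (l := 4) rfl N20714 D55099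
theorem N22330 : nd 22330 = n55100 := ndS (p := 20715) (l := 5) rfl N20715 D55100
theorem N22331 : nd 22331 = n55101 := ndS (p := 20716) (l := 8) rfl N20716 D55101
theorem N22332 : nd 22332 = n55102 := ndS (p := 20717) (l := 3) rfl N20717 D55102
theorem N22333 : nd 22333 = n55103 := ndS (p := 20718) (l := 2) rfl N20718 D55103
theorem N22334 : nd 22334 = n55104 := ndS (p := 20718) (l := 4) rfl N20718 D55104
theorem N22335 : nd 22335 = n55105 := ndS (p := 20719) (l := 1) rfl N20719 D55105
theorem N22336 : nd 22336 = n55106 := ndS (p := 20720) (l := 4) rfl N20720 D55106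
theorem N22337 : nd 22337 = n55107 := ndS (p := 20722) (l := 3) rfl N20722 D55107
theorem N22338 : nd 22338 = n55108 := ndS (p := 20729) (l := 4) rfl N20729 D55108
theorem N22339 : nd 22339 = n55109 := ndS (p := 20730) (l := 2) rfl N20730 D55109
theorem N22340 : nd 22340 = n55110 := ndS (p := 20730) (l := 4) rfl N20730 D55110
theorem N22341 : nd 22341 = n55111 := ndS (p := 20731) (l := 1) rfl N20731 D55111
theorem N22342 : nd 22342 = n55112 := ndS (p := 20731) (l := 4) rfl N20731 D55112
theorem N22343 : nd 22343 = n55113 := ndS (p := 20735) (l := 9) rfl N20735 D55113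
theorem N22344 : nd 22344 = n55114 := ndS (p := 20736) (l := 8) rfl N20736 D55114
theorem N22345 : nd 22345 = n55115 := ndS (p := 20737) (l := 3) rfl N20737 D55115
theorem N22346 : nd 22346 = n55116 := ndS (p := 20738) (l := 4) rfl N20738 D55116
theorem N22347 : nd 22347 = n55117 := ndS (p := 20739) (l := 9) rfl N20739 D55117
theorem N22348 : nd 22348 = n55118 := ndS (p := 20740) (l := 8) rfl N20740 D55118
theorem N22349 : nd 22349 = n55119 := ndS (p := 20742) (l := 9) rfl N20742 D55119
theorem N22350 : nd 22350 = n55120 := ndS (p := 20743) (l := 8) rfl N20743 D55120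
theorem N22351 : nd 22351 = n55121 := ndS (p := 20744) (l := 3) rfl N20744 D55121
theorem N22352 : nd 22352 = n55122 := ndS (p := 20745) (l := 4) rfl N20745 D55122
theorem N22353 : nd 22353 = n55123 := ndS (p := 20746) (l := 8) rfl N20746 D55123
theorem N22354 : nd 22354 = n55124 := ndS (p := 20747) (l := 3) rfl N20747 D55124
theorem N22355 : nd 22355 = n55125 := ndS (p := 20748) (l := 2) rfl N20748 D55125
theorem N22356 : nd 22356 = n55126 := ndS (p := 20748) (l := 4) rfl N20748 D55126
theorem N22357 : nd 22357 = n55127 := ndS (p := 20749) (l := 5) rfl N20749 D55127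
theorem N22358 : nd 22358 = n55128 := ndS (p := 20754) (l := 9) rfl N20754 D55128
theorem N22359 : nd 22359 = n55129 := ndS (p := 20755) (l := 8) rfl N20755 D55129
theorem N22360 : nd 22360 = n55130 := ndS (p := 20756) (l := 9) rfl N20756 D55130
theorem N22361 : nd 22361 = n55131 := ndS (p := 20757) (l := 8) rfl N20757 D55131
theorem N22362 : nd 22362 = n55132 := ndS (p := 20758) (l := 8) rfl N20758 D55132
theorem N22363 : nd 22363 = n55133 := ndS (p := 20760) (l := 8) rfl N20760 D55133
theorem N22364 : nd 22364 = n55134 := ndS (p := 20762) (l := 3) rfl N20762 D55134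
theorem N22365 : nd 22365 = n55135 := ndS (p := 20764) (l := 9) rfl N20764 D55135
theorem N22366 : nd 22366 = n55136 := ndS (p := 20765) (l := 8) rfl N20765 D55136
theorem N22367 : nd 22367 = n55137 := ndS (p := 20766) (l := 8) rfl N20766 D55137
theorem N22368 : nd 22368 = n55138 := ndS (p := 20768) (l := 8) rfl N20768 D55138
theorem N22369 : nd 22369 = n55139 := ndS (p := 20769) (l := 3) rfl N20769 D55139
theorem N22370 : nd 22370 = n55140 := ndS (p := 20770) (l := 3) rfl N20770 D55140
theorem N22371 : nd 22371 = n55141 := ndS (p := 20771) (l := 3) rfl N20771 D55141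
theorem N22372 : nd 22372 = n55142 := ndS (p := 20774) (l := 4) rfl N20774 D55142
theorem N22373 : nd 22373 = n55143 := ndS (p := 20775) (l := 5) rfl N20775 D55143
theorem N22374 : nd 22374 = n55144 := ndS (p := 20775) (l := 9) rfl N20775 D55144
theorem N22375 : nd 22375 = n55145 := ndS (p := 20776) (l := 8) rfl N20776 D55145
theorem N22376 : nd 22376 = n55146 := ndS (p := 20777) (l := 9) rfl N20777 D55146
theorem N22377 : nd 22377 = n55147 := ndS (p := 20778) (l := 8) rfl N20778 D55147
theorem N22378 : nd 22378 = n55148 := ndS (p := 20779) (l := 9) rfl N20779 D55148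
theorem N22379 : nd 22379 = n55149 := ndS (p := 20780) (l := 8) rfl N20780 D55149
theorem N22380 : nd 22380 = n55150 := ndS (p := 20782) (l := 5) rfl N20782 D55150
theorem N22381 : nd 22381 = n55151 := ndS (p := 20782) (l := 9) rfl N20782 D55151
theorem N22382 : nd 22382 = n55152 := ndS (p := 20783) (l := 8) rfl N20783 D55152
theorem N22383 : nd 22383 = n55153 := ndS (p := 20784) (l := 9) rfl N20784 D55153
theorem N22384 : nd 22384 = n55154 := ndS (p := 20785) (l := 8) rfl N20785 D55154
theorem N22385 : nd 22385 = n55155 := ndS (p := 20787) (l := 8) rfl N20787 D55155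
theorem N22386 : nd 22386 = n55156 := ndS (p := 20788) (l := 3) rfl N20788 D55156
theorem N22387 : nd 22387 = n55157 := ndS (p := 20789) (l := 8) rfl N20789 D55157
theorem N22388 : nd 22388 = n55158 := ndS (p := 20790) (l := 3) rfl N20790 D55158
theorem N22389 : nd 22389 = n55159 := ndS (p := 20791) (l := 3) rfl N20791 D55159
theorem N22390 : nd 22390 = n55160 := ndS (p := 20793) (l := 9) rfl N20793 D55160
theorem N22391 : nd 22391 = n55161 := ndS (p := 20794) (l := 8) rfl N20794 D55161
theorem N22392 : nd 22392 = n55162 := ndS (p := 20795) (l := 9) rfl N20795 D55162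
theorem N22393 : nd 22393 = n55163 := ndS (p := 20796) (l := 8) rfl N20796 D55163
theorem N22394 : nd 22394 = n55164 := ndS (p := 20798) (l := 8) rfl N20798 D55164
theorem N22395 : nd 22395 = n55165 := ndS (p := 20800) (l := 8) rfl N20800 D55165
theorem N22396 : nd 22396 = n55166 := ndS (p := 20801) (l := 3) rfl N20801 D55166
theorem N22397 : nd 22397 = n55167 := ndS (p := 20802) (l := 8) rfl N20802 D55167
theorem N22398 : nd 22398 = n55168 := ndS (p := 20804) (l := 8) rfl N20804 D55168
theorem N22399 : nd 22399 = n55169 := ndS (p := 20805) (l := 8) rfl N20805 D55169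
theorem N22400 : nd 22400 = n55170 := ndS (p := 20806) (l := 3) rfl N20806 D55170
theorem N22401 : nd 22401 = n55171 := ndS (p := 20807) (l := 9) rfl N20807 D55171
theorem N22402 : nd 22402 = n55172 := ndS (p := 20808) (l := 8) rfl N20808 D55172
theorem N22403 : nd 22403 = n55173 := ndS (p := 20809) (l := 3) rfl N20809 D55173
theorem N22404 : nd 22404 = n55174 := ndS (p := 20810) (l := 2) rfl N20810 D55174
theorem N22405 : nd 22405 = n55175 := ndS (p := 20811) (l := 3) rfl N20811 D55175
theorem N22406 : nd 22406 = n55176 := ndS (p := 20814) (l := 8) rfl N20814 D55176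
theorem N22407 : nd 22407 = n55177 := ndS (p := 20815) (l := 3) rfl N20815 D55177
theorem N22408 : nd 22408 = n55178 := ndS (p := 20816) (l := 2) rfl N20816 D55178
theorem N22409 : nd 22409 = n55179 := ndS (p := 20816) (l := 4) rfl N20816 D55179
theorem N22410 : nd 22410 = n55180 := ndS (p := 20818) (l := 3) rfl N20818 D55180
theorem N22411 : nd 22411 = n55181 := ndS (p := 20820) (l := 3) rfl N20820 D55181
theorem N22412 : nd 22412 = n55182 := ndS (p := 20821) (l := 4) rfl N20821 D55182
theorem N22413 : nd 22413 = n55183 := ndS (p := 20822) (l := 3) rfl N20822 D55183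
theorem N22414 : nd 22414 = n55184 := ndS (p := 20823) (l := 4) rfl N20823 D55184
theorem N22415 : nd 22415 = n55185 := ndS (p := 20824) (l := 4) rfl N20824 D55185
theorem N22416 : nd 22416 = n55186 := ndS (p := 20828) (l := 9) rfl N20828 D55186
theorem N22417 : nd 22417 = n55187 := ndS (p := 20829) (l := 8) rfl N20829 D55187
theorem N22418 : nd 22418 = n55188 := ndS (p := 20830) (l := 8) rfl N20830 D55188
theorem N22419 : nd 22419 = n55189 := ndS (p := 20833) (l := 9) rfl N20833 D55189
theorem N22420 : nd 22420 = n55190 := ndS (p := 20834) (l := 8) rfl N20834 D55190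
theorem N22421 : nd 22421 = n55191 := ndS (p := 20835) (l := 9) rfl N20835 D55191
theorem N22422 : nd 22422 = n55192 := ndS (p := 20836) (l := 8) rfl N20836 D55192
theorem N22423 : nd 22423 = n55193 := ndS (p := 20837) (l := 8) rfl N20837 D55193
theorem N22424 : nd 22424 = n55194 := ndS (p := 20839) (l := 9) rfl N20839 D55194
theorem N22425 : nd 22425 = n55195 := ndS (p := 20840) (l := 8) rfl N20840 D55195
theorem N22426 : nd 22426 = n55196 := ndS (p := 20841) (l := 3) rfl N20841 D55196
theorem N22427 : nd 22427 = n55197 := ndS (p := 20842) (l := 3) rfl N20842 D55197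
theorem N22428 : nd 22428 = n55198 := ndS (p := 20843) (l := 3) rfl N20843 D55198
theorem N22429 : nd 22429 = n55199 := ndS (p := 20845) (l := 5) rfl N20845 D55199
theorem N22430 : nd 22430 = n55200 := ndS (p := 20845) (l := 9) rfl N20845 D55200
theorem N22431 : nd 22431 = n55201 := ndS (p := 20846) (l := 8) rfl N20846 D55201
theorem N22432 : nd 22432 = n55202 := ndS (p := 20847) (l := 5) rfl N20847 D55202
theorem N22433 : nd 22433 = n55203 := ndS (p := 20847) (l := 9) rfl N20847 D55203
theorem N22434 : nd 22434 = n55204 := ndS (p := 20848) (l := 8) rfl N20848 D55204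
theorem N22435 : nd 22435 = n55205 := ndS (p := 20849) (l := 9) rfl N20849 D55205
theorem N22436 : nd 22436 = n55206 := ndS (p := 20850) (l := 8) rfl N20850 D55206
theorem N22437 : nd 22437 = n55207 := ndS (p := 20852) (l := 5) rfl N20852 D55207
theorem N22438 : nd 22438 = n55208 := ndS (p := 20852) (l := 9) rfl N20852 D55208
theorem N22439 : nd 22439 = n55209 := ndS (p := 20853) (l := 8) rfl N20853 D55209
theorem N22440 : nd 22440 = n55210 := ndS (p := 20854) (l := 6) rfl N20854 D55210
theorem N22441 : nd 22441 = n55211 := ndS (p := 20854) (l := 9) rfl N20854 D55211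
theorem N22442 : nd 22442 = n55212 := ndS (p := 20855) (l := 8) rfl N20855 D55212
theorem N22443 : nd 22443 = n55213 := ndS (p := 20857) (l := 8) rfl N20857 D55213
theorem N22444 : nd 22444 = n55214 := ndS (p := 20858) (l := 3) rfl N20858 D55214
theorem N22445 : nd 22445 = n55215 := ndS (p := 20859) (l := 9) rfl N20859 D55215
theorem N22446 : nd 22446 = n55216 := ndS (p := 20860) (l := 8) rfl N20860 D55216
theorem N22447 : nd 22447 = n55217 := ndS (p := 20861) (l := 3) rfl N20861 D55217
theorem N22448 : nd 22448 = n55218 := ndS (p := 20862) (l := 3) rfl N20862 D55218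
theorem N22449 : nd 22449 = n55219 := ndS (p := 20863) (l := 2) rfl N20863 D55219
theorem N22450 : nd 22450 = n55220 := ndS (p := 20865) (l := 5) rfl N20865 D55220
theorem N22451 : nd 22451 = n55221 := ndS (p := 20865) (l := 9) rfl N20865 D55221
theorem N22452 : nd 22452 = n55222 := ndS (p := 20866) (l := 8) rfl N20866 D55222
theorem N22453 : nd 22453 = n55223 := ndS (p := 20867) (l := 9) rfl N20867 D55223
theorem N22454 : nd 22454 = n55224 := ndS (p := 20868) (l := 8) rfl N20868 D55224
theorem N22455 : nd 22455 = n55225 := ndS (p := 20870) (l := 5) rfl N20870 D55225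
theorem N22456 : nd 22456 = n55226 := ndS (p := 20870) (l := 9) rfl N20870 D55226
theorem N22457 : nd 22457 = n55227 := ndS (p := 20871) (l := 6) rfl N20871 D55227
theorem N22458 : nd 22458 = n55228 := ndS (p := 20871) (l := 9) rfl N20871 D55228
theorem N22459 : nd 22459 = n55229 := ndS (p := 20872) (l := 8) rfl N20872 D55229
theorem N22460 : nd 22460 = n55230 := ndS (p := 20874) (l := 9) rfl N20874 D55230
theorem N22461 : nd 22461 = n55231 := ndS (p := 20875) (l := 8) rfl N20875 D55231
theorem N22462 : nd 22462 = n55232 := ndS (p := 20876) (l := 3) rfl N20876 D55232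
theorem N22463 : nd 22463 = n55233 := ndS (p := 20877) (l := 2) rfl N20877 D55233
theorem N22464 : nd 22464 = n55234 := ndS (p := 20877) (l := 9) rfl N20877 D55234
theorem N22465 : nd 22465 = n55235 := ndS (p := 20878) (l := 8) rfl N20878 D55235
theorem N22466 : nd 22466 = n55236 := ndS (p := 20880) (l := 8) rfl N20880 D55236
theorem N22467 : nd 22467 = n55237 := ndS (p := 20880) (l := 9) rfl N20880 D55237
theorem N22468 : nd 22468 = n55238 := ndS (p := 20881) (l := 9) rfl N20881 D55238
theorem N22469 : nd 22469 = n55239 := ndS (p := 20882) (l := 8) rfl N20882 D55239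
theorem N22470 : nd 22470 = n55240 := ndS (p := 20883) (l := 8) rfl N20883 D55240
theorem N22471 : nd 22471 = n55241 := ndS (p := 20884) (l := 3) rfl N20884 D55241
theorem N22472 : nd 22472 = n55242 := ndS (p := 20885) (l := 3) rfl N20885 D55242
theorem N22473 : nd 22473 = n55243 := ndS (p := 20886) (l := 2) rfl N20886 D55243
theorem N22474 : nd 22474 = n55244 := ndS (p := 20887) (l := 9) rfl N20887 D55244
theorem N22475 : nd 22475 = n55245 := ndS (p := 20888) (l := 8) rfl N20888 D55245
theorem N22476 : nd 22476 = n55246 := ndS (p := 20889) (l := 3) rfl N20889 D55246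
theorem N22477 : nd 22477 = n55247 := ndS (p := 20890) (l := 8) rfl N20890 D55247
theorem N22478 : nd 22478 = n55248 := ndS (p := 20891) (l := 3) rfl N20891 D55248
theorem N22479 : nd 22479 = n55249 := ndS (p := 20892) (l := 2) rfl N20892 D55249
theorem N22480 : nd 22480 = n55250 := ndS (p := 20893) (l := 3) rfl N20893 D55250
theorem N22481 : nd 22481 = n55251 := ndS (p := 20894) (l := 2) rfl N20894 D55251
theorem N22482 : nd 22482 = n55252 := ndS (p := 20895) (l := 2) rfl N20895 D55252
theorem N22483 : nd 22483 = n55253 := ndS (p := 20895) (l := 4) rfl N20895 D55253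
theorem N22484 : nd 22484 = n55254 := ndS (p := 20898) (l := 3) rfl N20898 D55254
theorem N22485 : nd 22485 = n55255 := ndS (p := 20899) (l := 2) rfl N20899 D55255
theorem N22486 : nd 22486 = n55256 := ndS (p := 20899) (l := 4) rfl N20899 D55256
theorem N22487 : nd 22487 = n55257 := ndS (p := 20901) (l := 4) rfl N20901 D55257
theorem N22488 : nd 22488 = n55258 := ndS (p := 20904) (l := 8) rfl N20904 D55258
theorem N22489 : nd 22489 = n55259 := ndS (p := 20905) (l := 9) rfl N20905 D55259
theorem N22490 : nd 22490 = n55260 := ndS (p := 20907) (l := 9) rfl N20907 D55260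
theorem N22491 : nd 22491 = n55261 := ndS (p := 20908) (l := 8) rfl N20908 D55261
theorem N22492 : nd 22492 = n55262 := ndS (p := 20909) (l := 8) rfl N20909 D55262
theorem N22493 : nd 22493 = n55263 := ndS (p := 20911) (l := 9) rfl N20911 D55263
theorem N22494 : nd 22494 = n55264 := ndS (p := 20912) (l := 8) rfl N20912 D55264
theorem N22495 : nd 22495 = n55265 := ndS (p := 20913) (l := 4) rfl N20913 D55265
theorem N22496 : nd 22496 = n55266 := ndS (p := 20913) (l := 9) rfl N20913 D55266
theorem N22497 : nd 22497 = n55267 := ndS (p := 20914) (l := 5) rfl N20914 D55267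
theorem N22498 : nd 22498 = n55268 := ndS (p := 20914) (l := 9) rfl N20914 D55268
theorem N22499 : nd 22499 = n55269 := ndS (p := 20915) (l := 8) rfl N20915 D55269
theorem N22500 : nd 22500 = n55270 := ndS (p := 20916) (l := 6) rfl N20916 D55270
theorem N22501 : nd 22501 = n55271 := ndS (p := 20916) (l := 9) rfl N20916 D55271
theorem N22502 : nd 22502 = n55272 := ndS (p := 20917) (l := 8) rfl N20917 D55272
theorem N22503 : nd 22503 = n55273 := ndS (p := 20919) (l := 4) rfl N20919 D55273
theorem N22504 : nd 22504 = n55274 := ndS (p := 20919) (l := 9) rfl N20919 D55274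
theorem N22505 : nd 22505 = n55275 := ndS (p := 20920) (l := 3) rfl N20920 D55275
theorem N22506 : nd 22506 = n55276 := ndS (p := 20920) (l := 5) rfl N20920 D55276
theorem N22507 : nd 22507 = n55277 := ndS (p := 20920) (l := 9) rfl N20920 D55277
theorem N22508 : nd 22508 = n55278 := ndS (p := 20921) (l := 8) rfl N20921 D55278
theorem N22509 : nd 22509 = n55279 := ndS (p := 20922) (l := 5) rfl N20922 D55279
theorem N22510 : nd 22510 = n55280 := ndS (p := 20922) (l := 8) rfl N20922 D55280
theorem N22511 : nd 22511 = n55281 := ndS (p := 20922) (l := 9) rfl N20922 D55281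
theorem N22512 : nd 22512 = n55282 := ndS (p := 20923) (l := 6) rfl N20923 D55282
theorem N22513 : nd 22513 = n55283 := ndS (p := 20923) (l := 9) rfl N20923 D55283
theorem N22514 : nd 22514 = n55284 := ndS (p := 20924) (l := 8) rfl N20924 D55284
theorem N22515 : nd 22515 = n55285 := ndS (p := 20925) (l := 3) rfl N20925 D55285
theorem N22516 : nd 22516 = n55286 := ndS (p := 20926) (l := 9) rfl N20926 D55286
theorem N22517 : nd 22517 = n55287 := ndS (p := 20927) (l := 8) rfl N20927 D55287
theorem N22518 : nd 22518 = n55288 := ndS (p := 20928) (l := 3) rfl N20928 D55288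
theorem N22519 : nd 22519 = n55289 := ndS (p := 20929) (l := 9) rfl N20929 D55289
theorem N22520 : nd 22520 = n55290 := ndS (p := 20930) (l := 8) rfl N20930 D55290
theorem N22521 : nd 22521 = n55291 := ndS (p := 20931) (l := 6) rfl N20931 D55291
theorem N22522 : nd 22522 = n55292 := ndS (p := 20931) (l := 9) rfl N20931 D55292
theorem N22523 : nd 22523 = n55293 := ndS (p := 20932) (l := 8) rfl N20932 D55293
theorem N22524 : nd 22524 = n55294 := ndS (p := 20934) (l := 9) rfl N20934 D55294
theorem N22525 : nd 22525 = n55295 := ndS (p := 20935) (l := 8) rfl N20935 D55295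
theorem N22526 : nd 22526 = n55296 := ndS (p := 20936) (l := 6) rfl N20936 D55296
theorem N22527 : nd 22527 = n55297 := ndS (p := 20936) (l := 9) rfl N20936 D55297
theorem N22528 : nd 22528 = n55298 := ndS (p := 20937) (l := 8) rfl N20937 D55298
theorem N22529 : nd 22529 = n55299 := ndS (p := 20939) (l := 7) rfl N20939 D55299
theorem N22530 : nd 22530 = n55300 := ndS (p := 20939) (l := 9) rfl N20939 D55300
theorem N22531 : nd 22531 = n55301 := ndS (p := 20940) (l := 8) rfl N20940 D55301
theorem N22532 : nd 22532 = n55302 := ndS (p := 20941) (l := 3) rfl N20941 D55302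
theorem N22533 : nd 22533 = n55303 := ndS (p := 20942) (l := 9) rfl N20942 D55303
theorem N22534 : nd 22534 = n55304 := ndS (p := 20943) (l := 8) rfl N20943 D55304
theorem N22535 : nd 22535 = n55305 := ndS (p := 20945) (l := 8) rfl N20945 D55305
theorem N22536 : nd 22536 = n55306 := ndS (p := 20945) (l := 9) rfl N20945 D55306
theorem N22537 : nd 22537 = n55307 := ndS (p := 20946) (l := 9) rfl N20946 D55307
theorem N22538 : nd 22538 = n55308 := ndS (p := 20947) (l := 8) rfl N20947 D55308
theorem N22539 : nd 22539 = n55309 := ndS (p := 20948) (l := 9) rfl N20948 D55309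
theorem N22540 : nd 22540 = n55310 := ndS (p := 20949) (l := 8) rfl N20949 D55310
theorem N22541 : nd 22541 = n55311 := ndS (p := 20950) (l := 3) rfl N20950 D55311
theorem N22542 : nd 22542 = n55312 := ndS (p := 20951) (l := 9) rfl N20951 D55312
theorem N22543 : nd 22543 = n55313 := ndS (p := 20952) (l := 8) rfl N20952 D55313
theorem N22544 : nd 22544 = n55314 := ndS (p := 20953) (l := 3) rfl N20953 D55314
theorem N22545 : nd 22545 = n55315 := ndS (p := 20954) (l := 2) rfl N20954 D55315
theorem N22546 : nd 22546 = n55316 := ndS (p := 20956) (l := 9) rfl N20956 D55316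
theorem N22547 : nd 22547 = n55317 := ndS (p := 20957) (l := 8) rfl N20957 D55317
theorem N22548 : nd 22548 = n55318 := ndS (p := 20958) (l := 3) rfl N20958 D55318
theorem N22549 : nd 22549 = n55319 := ndS (p := 20959) (l := 9) rfl N20959 D55319
theorem N22550 : nd 22550 = n55320 := ndS (p := 20960) (l := 8) rfl N20960 D55320
theorem N22551 : nd 22551 = n55321 := ndS (p := 20961) (l := 3) rfl N20961 D55321
theorem N22552 : nd 22552 = n55322 := ndS (p := 20962) (l := 2) rfl N20962 D55322
theorem N22553 : nd 22553 = n55323 := ndS (p := 20963) (l := 9) rfl N20963 D55323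
theorem N22554 : nd 22554 = n55324 := ndS (p := 20964) (l := 8) rfl N20964 D55324
theorem N22555 : nd 22555 = n55325 := ndS (p := 20965) (l := 3) rfl N20965 D55325
theorem N22556 : nd 22556 = n55326 := ndS (p := 20967) (l := 8) rfl N20967 D55326
theorem N22557 : nd 22557 = n55327 := ndS (p := 20968) (l := 3) rfl N20968 D55327
theorem N22558 : nd 22558 = n55328 := ndS (p := 20969) (l := 2) rfl N20969 D55328
theorem N22559 : nd 22559 = n55329 := ndS (p := 20969) (l := 4) rfl N20969 D55329
theorem N22560 : nd 22560 = n55330 := ndS (p := 20970) (l := 1) rfl N20970 D55330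
theorem N22561 : nd 22561 = n55331 := ndS (p := 20971) (l := 8) rfl N20971 D55331
theorem N22562 : nd 22562 = n55332 := ndS (p := 20973) (l := 3) rfl N20973 D55332
theorem N22563 : nd 22563 = n55333 := ndS (p := 20974) (l := 2) rfl N20974 D55333
theorem N22564 : nd 22564 = n55334 := ndS (p := 20977) (l := 9) rfl N20977 D55334
theorem N22565 : nd 22565 = n55335 := ndS (p := 20978) (l := 8) rfl N20978 D55335
theorem N22566 : nd 22566 = n55336 := ndS (p := 20979) (l := 9) rfl N20979 D55336
theorem N22567 : nd 22567 = n55337 := ndS (p := 20980) (l := 6) rfl N20980 D55337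
theorem N22568 : nd 22568 = n55338 := ndS (p := 20980) (l := 9) rfl N20980 D55338
theorem N22569 : nd 22569 = n55339 := ndS (p := 20981) (l := 8) rfl N20981 D55339
theorem N22570 : nd 22570 = n55340 := ndS (p := 20982) (l := 3) rfl N20982 D55340
theorem N22571 : nd 22571 = n55341 := ndS (p := 20983) (l := 9) rfl N20983 D55341
theorem N22572 : nd 22572 = n55342 := ndS (p := 20984) (l := 8) rfl N20984 D55342
theorem N22573 : nd 22573 = n55343 := ndS (p := 20985) (l := 3) rfl N20985 D55343
theorem N22574 : nd 22574 = n55344 := ndS (p := 20986) (l := 9) rfl N20986 D55344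
theorem N22575 : nd 22575 = n55345 := ndS (p := 20987) (l := 8) rfl N20987 D55345
theorem N22576 : nd 22576 = n55346 := ndS (p := 20988) (l := 5) rfl N20988 D55346
theorem N22577 : nd 22577 = n55347 := ndS (p := 20988) (l := 9) rfl N20988 D55347
theorem N22578 : nd 22578 = n55348 := ndS (p := 20989) (l := 9) rfl N20989 D55348
theorem N22579 : nd 22579 = n55349 := ndS (p := 20990) (l := 8) rfl N20990 D55349
theorem N22580 : nd 22580 = n55350 := ndS (p := 20991) (l := 3) rfl N20991 D55350
theorem N22581 : nd 22581 = n55351 := ndS (p := 20992) (l := 6) rfl N20992 D55351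
theorem N22582 : nd 22582 = n55352 := ndS (p := 20992) (l := 8) rfl N20992 D55352
theorem N22583 : nd 22583 = n55353 := ndS (p := 20992) (l := 9) rfl N20992 D55353
theorem N22584 : nd 22584 = n55354 := ndS (p := 20993) (l := 9) rfl N20993 D55354
theorem N22585 : nd 22585 = n55355 := ndS (p := 20994) (l := 8) rfl N20994 D55355
theorem N22586 : nd 22586 = n55356 := ndS (p := 20995) (l := 7) rfl N20995 D55356
theorem N22587 : nd 22587 = n55357 := ndS (p := 20995) (l := 9) rfl N20995 D55357
theorem N22588 : nd 22588 = n55358 := ndS (p := 20996) (l := 8) rfl N20996 D55358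
theorem N22589 : nd 22589 = n55359 := ndS (p := 20997) (l := 3) rfl N20997 D55359
theorem N22590 : nd 22590 = n55360 := ndS (p := 20998) (l := 4) rfl N20998 D55360
theorem N22591 : nd 22591 = n55361 := ndS (p := 20999) (l := 9) rfl N20999 D55361
theorem N22592 : nd 22592 = n55362 := ndS (p := 21000) (l := 8) rfl N21000 D55362
theorem N22593 : nd 22593 = n55363 := ndS (p := 21001) (l := 3) rfl N21001 D55363
theorem N22594 : nd 22594 = n55364 := ndS (p := 21002) (l := 2) rfl N21002 D55364
theorem N22595 : nd 22595 = n55365 := ndS (p := 21003) (l := 8) rfl N21003 D55365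
theorem N22596 : nd 22596 = n55366 := ndS (p := 21005) (l := 6) rfl N21005 D55366
theorem N22597 : nd 22597 = n55367 := ndS (p := 21005) (l := 9) rfl N21005 D55367
theorem N22598 : nd 22598 = n55368 := ndS (p := 21006) (l := 8) rfl N21006 D55368
theorem N22599 : nd 22599 = n55369 := ndS (p := 21007) (l := 9) rfl N21007 D55369
theorem N22600 : nd 22600 = n55370 := ndS (p := 21008) (l := 8) rfl N21008 D55370
theorem N22601 : nd 22601 = n55371 := ndS (p := 21009) (l := 3) rfl N21009 D55371
theorem N22602 : nd 22602 = n55372 := ndS (p := 21010) (l := 4) rfl N21010 D55372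
theorem N22603 : nd 22603 = n55373 := ndS (p := 21011) (l := 7) rfl N21011 D55373
theorem N22604 : nd 22604 = n55374 := ndS (p := 21011) (l := 8) rfl N21011 D55374
theorem N22605 : nd 22605 = n55375 := ndS (p := 21011) (l := 9) rfl N21011 D55375
theorem N22606 : nd 22606 = n55376 := ndS (p := 21012) (l := 9) rfl N21012 D55376
theorem N22607 : nd 22607 = n55377 := ndS (p := 21013) (l := 8) rfl N21013 D55377
theorem N22608 : nd 22608 = n55378 := ndS (p := 21014) (l := 8) rfl N21014 D55378
theorem N22609 : nd 22609 = n55379 := ndS (p := 21015) (l := 3) rfl N21015 D55379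
theorem N22610 : nd 22610 = n55380 := ndS (p := 21016) (l := 9) rfl N21016 D55380
theorem N22611 : nd 22611 = n55381 := ndS (p := 21017) (l := 8) rfl N21017 D55381
theorem N22612 : nd 22612 = n55382 := ndS (p := 21018) (l := 3) rfl N21018 D55382
theorem N22613 : nd 22613 = n55383 := ndS (p := 21019) (l := 2) rfl N21019 D55383
theorem N22614 : nd 22614 = n55384 := ndS (p := 21019) (l := 4) rfl N21019 D55384
theorem N22615 : nd 22615 = n55385 := ndS (p := 21020) (l := 5) rfl N21020 D55385
theorem N22616 : nd 22616 = n55386 := ndS (p := 21021) (l := 8) rfl N21021 D55386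
theorem N22617 : nd 22617 = n55387 := ndS (p := 21022) (l := 3) rfl N21022 D55387
theorem N22618 : nd 22618 = n55388 := ndS (p := 21023) (l := 2) rfl N21023 D55388
theorem N22619 : nd 22619 = n55389 := ndS (p := 21023) (l := 4) rfl N21023 D55389
theorem N22620 : nd 22620 = n55390 := ndS (p := 21024) (l := 1) rfl N21024 D55390
theorem N22621 : nd 22621 = n55391 := ndS (p := 21026) (l := 8) rfl N21026 D55391
theorem N22622 : nd 22622 = n55392 := ndS (p := 21027) (l := 3) rfl N21027 D55392
theorem N22623 : nd 22623 = n55393 := ndS (p := 21029) (l := 9) rfl N21029 D55393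
theorem N22624 : nd 22624 = n55394 := ndS (p := 21030) (l := 8) rfl N21030 D55394
theorem N22625 : nd 22625 = n55395 := ndS (p := 21031) (l := 3) rfl N21031 D55395
theorem N22626 : nd 22626 = n55396 := ndS (p := 21032) (l := 2) rfl N21032 D55396
theorem N22627 : nd 22627 = n55397 := ndS (p := 21032) (l := 4) rfl N21032 D55397
theorem N22628 : nd 22628 = n55398 := ndS (p := 21034) (l := 8) rfl N21034 D55398
theorem N22629 : nd 22629 = n55399 := ndS (p := 21035) (l := 3) rfl N21035 D55399
theorem N22630 : nd 22630 = n55400 := ndS (p := 21036) (l := 2) rfl N21036 D55400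
theorem N22631 : nd 22631 = n55401 := ndS (p := 21036) (l := 4) rfl N21036 D55401
theorem N22632 : nd 22632 = n55402 := ndS (p := 21037) (l := 1) rfl N21037 D55402
theorem N22633 : nd 22633 = n55403 := ndS (p := 21038) (l := 9) rfl N21038 D55403
theorem N22634 : nd 22634 = n55404 := ndS (p := 21039) (l := 8) rfl N21039 D55404
theorem N22635 : nd 22635 = n55405 := ndS (p := 21040) (l := 3) rfl N21040 D55405
theorem N22636 : nd 22636 = n55406 := ndS (p := 21042) (l := 8) rfl N21042 D55406
theorem N22637 : nd 22637 = n55407 := ndS (p := 21043) (l := 3) rfl N21043 D55407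
theorem N22638 : nd 22638 = n55408 := ndS (p := 21044) (l := 2) rfl N21044 D55408
theorem N22639 : nd 22639 = n55409 := ndS (p := 21044) (l := 4) rfl N21044 D55409
theorem N22640 : nd 22640 = n55410 := ndS (p := 21046) (l := 5) rfl N21046 D55410
theorem N22641 : nd 22641 = n55411 := ndS (p := 21048) (l := 3) rfl N21048 D55411
theorem N22642 : nd 22642 = n55412 := ndS (p := 21049) (l := 2) rfl N21049 D55412
theorem N22643 : nd 22643 = n55413 := ndS (p := 21049) (l := 4) rfl N21049 D55413
theorem N22644 : nd 22644 = n55414 := ndS (p := 21050) (l := 1) rfl N21050 D55414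
theorem N22645 : nd 22645 = n55415 := ndS (p := 21050) (l := 4) rfl N21050 D55415
theorem N22646 : nd 22646 = n55416 := ndS (p := 21052) (l := 0) rfl N21052 D55416
theorem N22647 : nd 22647 = n55417 := ndS (p := 21053) (l := 8) rfl N21053 D55417
theorem N22648 : nd 22648 = n55418 := ndS (p := 21055) (l := 3) rfl N21055 D55418
theorem N22649 : nd 22649 = n55419 := ndS (p := 21056) (l := 4) rfl N21056 D55419
theorem N22650 : nd 22650 = n55420 := ndS (p := 21058) (l := 2) rfl N21058 D55420
theorem N22651 : nd 22651 = n55421 := ndS (p := 21061) (l := 3) rfl N21061 D55421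
theorem N22652 : nd 22652 = n55422 := ndS (p := 21062) (l := 2) rfl N21062 D55422
theorem N22653 : nd 22653 = n55423 := ndS (p := 21062) (l := 4) rfl N21062 D55423
theorem N22654 : nd 22654 = n55424 := ndS (p := 21063) (l := 1) rfl N21063 D55424
theorem N22655 : nd 22655 = n55425 := ndS (p := 21063) (l := 4) rfl N21063 D55425
theorem N22656 : nd 22656 = n55426 := ndS (p := 21065) (l := 0) rfl N21065 D55426
theorem N22657 : nd 22657 = n55427 := ndS (p := 21066) (l := 2) rfl N21066 D55427
theorem N22658 : nd 22658 = n55428 := ndS (p := 21066) (l := 4) rfl N21066 D55428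
theorem N22659 : nd 22659 = n55429 := ndS (p := 21067) (l := 4) rfl N21067 D55429
theorem N22660 : nd 22660 = n55430 := ndS (p := 21069) (l := 0) rfl N21069 D55430
theorem N22661 : nd 22661 = n55431 := ndS (p := 21069) (l := 4) rfl N21069 D55431
theorem N22662 : nd 22662 = n55432 := ndS (p := 21070) (l := 3) rfl N21070 D55432
theorem N22663 : nd 22663 = n55433 := ndS (p := 21075) (l := 8) rfl N21075 D55433
theorem N22664 : nd 22664 = n55434 := ndS (p := 21080) (l := 3) rfl N21080 D55434
theorem N22665 : nd 22665 = n55435 := ndS (p := 21081) (l := 2) rfl N21081 D55435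
theorem N22666 : nd 22666 = n55436 := ndS (p := 21081) (l := 4) rfl N21081 D55436
theorem N22667 : nd 22667 = n55437 := ndS (p := 21082) (l := 4) rfl N21082 D55437
theorem N22668 : nd 22668 = n55438 := ndS (p := 21083) (l := 5) rfl N21083 D55438
theorem N22669 : nd 22669 = n55439 := ndS (p := 21085) (l := 3) rfl N21085 D55439
theorem N22670 : nd 22670 = n55440 := ndS (p := 21086) (l := 8) rfl N21086 D55440
theorem N22671 : nd 22671 = n55441 := ndS (p := 21087) (l := 3) rfl N21087 D55441
theorem N22672 : nd 22672 = n55442 := ndS (p := 21088) (l := 8) rfl N21088 D55442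
theorem N22673 : nd 22673 = n55443 := ndS (p := 21089) (l := 8) rfl N21089 D55443
theorem N22674 : nd 22674 = n55444 := ndS (p := 21090) (l := 3) rfl N21090 D55444
theorem N22675 : nd 22675 = n55445 := ndS (p := 21091) (l := 8) rfl N21091 D55445
theorem N22676 : nd 22676 = n55446 := ndS (p := 21093) (l := 4) rfl N21093 D55446
theorem N22677 : nd 22677 = n55447 := ndS (p := 21094) (l := 8) rfl N21094 D55447
theorem N22678 : nd 22678 = n55448 := ndS (p := 21095) (l := 8) rfl N21095 D55448
theorem N22679 : nd 22679 = n55449 := ndS (p := 21097) (l := 2) rfl N21097 D55449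
theorem N22680 : nd 22680 = n55450 := ndS (p := 21097) (l := 4) rfl N21097 D55450
theorem N22681 : nd 22681 = n55451 := ndS (p := 21098) (l := 4) rfl N21098 D55451
theorem N22682 : nd 22682 = n55452 := ndS (p := 21100) (l := 5) rfl N21100 D55452
theorem N22683 : nd 22683 = n55453 := ndS (p := 21102) (l := 3) rfl N21102 D55453
theorem N22684 : nd 22684 = n55454 := ndS (p := 21103) (l := 3) rfl N21103 D55454
theorem N22685 : nd 22685 = n55455 := ndS (p := 21105) (l := 8) rfl N21105 D55455
theorem N22686 : nd 22686 = n55456 := ndS (p := 21107) (l := 3) rfl N21107 D55456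
theorem N22687 : nd 22687 = n55457 := ndS (p := 21108) (l := 8) rfl N21108 D55457
theorem N22688 : nd 22688 = n55458 := ndS (p := 21110) (l := 8) rfl N21110 D55458
theorem N22689 : nd 22689 = n55459 := ndS (p := 21111) (l := 3) rfl N21111 D55459
theorem N22690 : nd 22690 = n55460 := ndS (p := 21113) (l := 3) rfl N21113 D55460
theorem N22691 : nd 22691 = n55461 := ndS (p := 21115) (l := 8) rfl N21115 D55461
theorem N22692 : nd 22692 = n55462 := ndS (p := 21117) (l := 8) rfl N21117 D55462
theorem N22693 : nd 22693 = n55463 := ndS (p := 21119) (l := 3) rfl N21119 D55463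
theorem N22694 : nd 22694 = n55464 := ndS (p := 21120) (l := 9) rfl N21120 D55464
theorem N22695 : nd 22695 = n55465 := ndS (p := 21121) (l := 8) rfl N21121 D55465
theorem N22696 : nd 22696 = n55466 := ndS (p := 21123) (l := 9) rfl N21123 D55466
theorem N22697 : nd 22697 = n55467 := ndS (p := 21124) (l := 8) rfl N21124 D55467
theorem N22698 : nd 22698 = n55468 := ndS (p := 21125) (l := 9) rfl N21125 D55468
theorem N22699 : nd 22699 = n55469 := ndS (p := 21126) (l := 8) rfl N21126 D55469
theorem N22700 : nd 22700 = n55470 := ndS (p := 21127) (l := 3) rfl N21127 D55470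
theorem N22701 : nd 22701 = n55471 := ndS (p := 21128) (l := 8) rfl N21128 D55471
theorem N22702 : nd 22702 = n55472 := ndS (p := 21129) (l := 3) rfl N21129 D55472
theorem N22703 : nd 22703 = n55473 := ndS (p := 21130) (l := 2) rfl N21130 D55473
theorem N22704 : nd 22704 = n55474 := ndS (p := 21132) (l := 8) rfl N21132 D55474
theorem N22705 : nd 22705 = n55475 := ndS (p := 21133) (l := 3) rfl N21133 D55475
theorem N22706 : nd 22706 = n55476 := ndS (p := 21134) (l := 8) rfl N21134 D55476
theorem N22707 : nd 22707 = n55477 := ndS (p := 21135) (l := 3) rfl N21135 D55477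
theorem N22708 : nd 22708 = n55478 := ndS (p := 21139) (l := 3) rfl N21139 D55478
theorem N22709 : nd 22709 = n55479 := ndS (p := 21143) (l := 9) rfl N21143 D55479
theorem N22710 : nd 22710 = n55480 := ndS (p := 21144) (l := 8) rfl N21144 D55480
theorem N22711 : nd 22711 = n55481 := ndS (p := 21145) (l := 8) rfl N21145 D55481
theorem N22712 : nd 22712 = n55482 := ndS (p := 21147) (l := 8) rfl N21147 D55482
theorem N22713 : nd 22713 = n55483 := ndS (p := 21149) (l := 3) rfl N21149 D55483
theorem N22714 : nd 22714 = n55484 := ndS (p := 21150) (l := 3) rfl N21150 D55484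
theorem N22715 : nd 22715 = n55485 := ndS (p := 21151) (l := 9) rfl N21151 D55485
theorem N22716 : nd 22716 = n55486 := ndS (p := 21152) (l := 8) rfl N21152 D55486
theorem N22717 : nd 22717 = n55487 := ndS (p := 21153) (l := 8) rfl N21153 D55487
theorem N22718 : nd 22718 = n55488 := ndS (p := 21154) (l := 3) rfl N21154 D55488
theorem N22719 : nd 22719 = n55489 := ndS (p := 21155) (l := 3) rfl N21155 D55489
theorem N22720 : nd 22720 = n55490 := ndS (p := 21156) (l := 4) rfl N21156 D55490
theorem N22721 : nd 22721 = n55491 := ndS (p := 21157) (l := 2) rfl N21157 D55491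
theorem N22722 : nd 22722 = n55492 := ndS (p := 21158) (l := 8) rfl N21158 D55492
theorem N22723 : nd 22723 = n55493 := ndS (p := 21159) (l := 3) rfl N21159 D55493
theorem N22724 : nd 22724 = n55494 := ndS (p := 21164) (l := 4) rfl N21164 D55494
theorem N22725 : nd 22725 = n55495 := ndS (p := 21165) (l := 5) rfl N21165 D55495
theorem N22726 : nd 22726 = n55496 := ndS (p := 21168) (l := 5) rfl N21168 D55496
theorem N22727 : nd 22727 = n55497 := ndS (p := 21170) (l := 8) rfl N21170 D55497
theorem N22728 : nd 22728 = n55498 := ndS (p := 21172) (l := 3) rfl N21172 D55498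
theorem N22729 : nd 22729 = n55499 := ndS (p := 21173) (l := 9) rfl N21173 D55499
theorem N22730 : nd 22730 = n55500 := ndS (p := 21174) (l := 8) rfl N21174 D55500
theorem N22731 : nd 22731 = n55501 := ndS (p := 21175) (l := 3) rfl N21175 D55501
theorem N22732 : nd 22732 = n55502 := ndS (p := 21176) (l := 3) rfl N21176 D55502
theorem N22733 : nd 22733 = n55503 := ndS (p := 21177) (l := 3) rfl N21177 D55503
theorem N22734 : nd 22734 = n55504 := ndS (p := 21179) (l := 4) rfl N21179 D55504
theorem N22735 : nd 22735 = n55505 := ndS (p := 21179) (l := 9) rfl N21179 D55505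
theorem N22736 : nd 22736 = n55506 := ndS (p := 21180) (l := 9) rfl N21180 D55506
theorem N22737 : nd 22737 = n55507 := ndS (p := 21181) (l := 8) rfl N21181 D55507
theorem N22738 : nd 22738 = n55508 := ndS (p := 21182) (l := 9) rfl N21182 D55508
theorem N22739 : nd 22739 = n55509 := ndS (p := 21183) (l := 8) rfl N21183 D55509
theorem N22740 : nd 22740 = n55510 := ndS (p := 21185) (l := 9) rfl N21185 D55510
theorem N22741 : nd 22741 = n55511 := ndS (p := 21186) (l := 8) rfl N21186 D55511
theorem N22742 : nd 22742 = n55512 := ndS (p := 21187) (l := 5) rfl N21187 D55512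
theorem N22743 : nd 22743 = n55513 := ndS (p := 21187) (l := 9) rfl N21187 D55513
theorem N22744 : nd 22744 = n55514 := ndS (p := 21188) (l := 9) rfl N21188 D55514
theorem N22745 : nd 22745 = n55515 := ndS (p := 21189) (l := 8) rfl N21189 D55515
theorem N22746 : nd 22746 = n55516 := ndS (p := 21190) (l := 3) rfl N21190 D55516
theorem N22747 : nd 22747 = n55517 := ndS (p := 21191) (l := 8) rfl N21191 D55517
theorem N22748 : nd 22748 = n55518 := ndS (p := 21192) (l := 3) rfl N21192 D55518
theorem N22749 : nd 22749 = n55519 := ndS (p := 21193) (l := 9) rfl N21193 D55519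
theorem N22750 : nd 22750 = n55520 := ndS (p := 21194) (l := 8) rfl N21194 D55520
theorem N22751 : nd 22751 = n55521 := ndS (p := 21195) (l := 3) rfl N21195 D55521
theorem N22752 : nd 22752 = n55522 := ndS (p := 21196) (l := 9) rfl N21196 D55522
theorem N22753 : nd 22753 = n55523 := ndS (p := 21197) (l := 8) rfl N21197 D55523
theorem N22754 : nd 22754 = n55524 := ndS (p := 21198) (l := 8) rfl N21198 D55524
theorem N22755 : nd 22755 = n55525 := ndS (p := 21199) (l := 3) rfl N21199 D55525
theorem N22756 : nd 22756 = n55526 := ndS (p := 21200) (l := 4) rfl N21200 D55526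
theorem N22757 : nd 22757 = n55527 := ndS (p := 21201) (l := 3) rfl N21201 D55527
theorem N22758 : nd 22758 = n55528 := ndS (p := 21202) (l := 2) rfl N21202 D55528
theorem N22759 : nd 22759 = n55529 := ndS (p := 21203) (l := 3) rfl N21203 D55529
theorem N22760 : nd 22760 = n55530 := ndS (p := 21204) (l := 8) rfl N21204 D55530
theorem N22761 : nd 22761 = n55531 := ndS (p := 21205) (l := 3) rfl N21205 D55531
theorem N22762 : nd 22762 = n55532 := ndS (p := 21206) (l := 4) rfl N21206 D55532
theorem N22763 : nd 22763 = n55533 := ndS (p := 21208) (l := 4) rfl N21208 D55533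
theorem N22764 : nd 22764 = n55534 := ndS (p := 21209) (l := 3) rfl N21209 D55534
theorem N22765 : nd 22765 = n55535 := ndS (p := 21211) (l := 5) rfl N21211 D55535
theorem N22766 : nd 22766 = n55536 := ndS (p := 21213) (l := 8) rfl N21213 D55536
theorem N22767 : nd 22767 = n55537 := ndS (p := 21214) (l := 3) rfl N21214 D55537
theorem N22768 : nd 22768 = n55538 := ndS (p := 21215) (l := 3) rfl N21215 D55538
theorem N22769 : nd 22769 = n55539 := ndS (p := 21216) (l := 8) rfl N21216 D55539
theorem N22770 : nd 22770 = n55540 := ndS (p := 21217) (l := 3) rfl N21217 D55540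
theorem N22771 : nd 22771 = n55541 := ndS (p := 21218) (l := 4) rfl N21218 D55541
theorem N22772 : nd 22772 = n55542 := ndS (p := 21220) (l := 8) rfl N21220 D55542
theorem N22773 : nd 22773 = n55543 := ndS (p := 21221) (l := 3) rfl N21221 D55543
theorem N22774 : nd 22774 = n55544 := ndS (p := 21222) (l := 4) rfl N21222 D55544
theorem N22775 : nd 22775 = n55545 := ndS (p := 21223) (l := 3) rfl N21223 D55545
theorem N22776 : nd 22776 = n55546 := ndS (p := 21224) (l := 4) rfl N21224 D55546
theorem N22777 : nd 22777 = n55547 := ndS (p := 21225) (l := 5) rfl N21225 D55547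
theorem N22778 : nd 22778 = n55548 := ndS (p := 21227) (l := 4) rfl N21227 D55548
theorem N22779 : nd 22779 = n55549 := ndS (p := 21228) (l := 5) rfl N21228 D55549
theorem N22780 : nd 22780 = n55550 := ndS (p := 21229) (l := 5) rfl N21229 D55550
theorem N22781 : nd 22781 = n55551 := ndS (p := 21231) (l := 9) rfl N21231 D55551
theorem N22782 : nd 22782 = n55552 := ndS (p := 21232) (l := 9) rfl N21232 D55552
theorem N22783 : nd 22783 = n55553 := ndS (p := 21233) (l := 8) rfl N21233 D55553
theorem N22784 : nd 22784 = n55554 := ndS (p := 21234) (l := 9) rfl N21234 D55554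
theorem N22785 : nd 22785 = n55555 := ndS (p := 21235) (l := 8) rfl N21235 D55555
theorem N22786 : nd 22786 = n55556 := ndS (p := 21236) (l := 3) rfl N21236 D55556
theorem N22787 : nd 22787 = n55557 := ndS (p := 21237) (l := 3) rfl N21237 D55557
theorem N22788 : nd 22788 = n55558 := ndS (p := 21238) (l := 3) rfl N21238 D55558
theorem N22789 : nd 22789 = n55559 := ndS (p := 21238) (l := 9) rfl N21238 D55559
theorem N22790 : nd 22790 = n55560 := ndS (p := 21239) (l := 8) rfl N21239 D55560
theorem N22791 : nd 22791 = n55561 := ndS (p := 21240) (l := 8) rfl N21240 D55561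
theorem N22792 : nd 22792 = n55562 := ndS (p := 21242) (l := 3) rfl N21242 D55562
theorem N22793 : nd 22793 = n55563 := ndS (p := 21242) (l := 9) rfl N21242 D55563
theorem N22794 : nd 22794 = n55564 := ndS (p := 21243) (l := 8) rfl N21243 D55564
theorem N22795 : nd 22795 = n55565 := ndS (p := 21244) (l := 8) rfl N21244 D55565
theorem N22796 : nd 22796 = n55566 := ndS (p := 21244) (l := 9) rfl N21244 D55566
theorem N22797 : nd 22797 = n55567 := ndS (p := 21245) (l := 8) rfl N21245 D55567
theorem N22798 : nd 22798 = n55568 := ndS (p := 21246) (l := 3) rfl N21246 D55568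
theorem N22799 : nd 22799 = n55569 := ndS (p := 21247) (l := 3) rfl N21247 D55569
theorem N22800 : nd 22800 = n55570 := ndS (p := 21248) (l := 9) rfl N21248 D55570
theorem N22801 : nd 22801 = n55571 := ndS (p := 21249) (l := 9) rfl N21249 D55571
theorem N22802 : nd 22802 = n55572 := ndS (p := 21250) (l := 8) rfl N21250 D55572
theorem N22803 : nd 22803 = n55573 := ndS (p := 21251) (l := 3) rfl N21251 D55573
theorem N22804 : nd 22804 = n55574 := ndS (p := 21252) (l := 9) rfl N21252 D55574
theorem N22805 : nd 22805 = n55575 := ndS (p := 21253) (l := 9) rfl N21253 D55575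
theorem N22806 : nd 22806 = n55576 := ndS (p := 21254) (l := 8) rfl N21254 D55576
theorem N22807 : nd 22807 = n55577 := ndS (p := 21255) (l := 8) rfl N21255 D55577
theorem N22808 : nd 22808 = n55578 := ndS (p := 21256) (l := 3) rfl N21256 D55578
theorem N22809 : nd 22809 = n55579 := ndS (p := 21257) (l := 4) rfl N21257 D55579
theorem N22810 : nd 22810 = n55580 := ndS (p := 21258) (l := 8) rfl N21258 D55580
theorem N22811 : nd 22811 = n55581 := ndS (p := 21259) (l := 3) rfl N21259 D55581
theorem N22812 : nd 22812 = n55582 := ndS (p := 21260) (l := 2) rfl N21260 D55582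
theorem N22813 : nd 22813 = n55583 := ndS (p := 21261) (l := 3) rfl N21261 D55583
theorem N22814 : nd 22814 = n55584 := ndS (p := 21263) (l := 8) rfl N21263 D55584
theorem N22815 : nd 22815 = n55585 := ndS (p := 21269) (l := 9) rfl N21269 D55585
theorem N22816 : nd 22816 = n55586 := ndS (p := 21270) (l := 8) rfl N21270 D55586
theorem N22817 : nd 22817 = n55587 := ndS (p := 21271) (l := 3) rfl N21271 D55587
theorem N22818 : nd 22818 = n55588 := ndS (p := 21272) (l := 8) rfl N21272 D55588
theorem N22819 : nd 22819 = n55589 := ndS (p := 21273) (l := 3) rfl N21273 D55589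
theorem N22820 : nd 22820 = n55590 := ndS (p := 21274) (l := 9) rfl N21274 D55590
theorem N22821 : nd 22821 = n55591 := ndS (p := 21275) (l := 8) rfl N21275 D55591
theorem N22822 : nd 22822 = n55592 := ndS (p := 21276) (l := 3) rfl N21276 D55592
theorem N22823 : nd 22823 = n55593 := ndS (p := 21277) (l := 8) rfl N21277 D55593
theorem N22824 : nd 22824 = n55594 := ndS (p := 21277) (l := 9) rfl N21277 D55594
theorem N22825 : nd 22825 = n55595 := ndS (p := 21278) (l := 9) rfl N21278 D55595
theorem N22826 : nd 22826 = n55596 := ndS (p := 21279) (l := 8) rfl N21279 D55596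
theorem N22827 : nd 22827 = n55597 := ndS (p := 21280) (l := 8) rfl N21280 D55597
theorem N22828 : nd 22828 = n55598 := ndS (p := 21281) (l := 3) rfl N21281 D55598
theorem N22829 : nd 22829 = n55599 := ndS (p := 21282) (l := 4) rfl N21282 D55599
theorem N22830 : nd 22830 = n55600 := ndS (p := 21283) (l := 3) rfl N21283 D55600
theorem N22831 : nd 22831 = n55601 := ndS (p := 21284) (l := 2) rfl N21284 D55601
theorem N22832 : nd 22832 = n55602 := ndS (p := 21285) (l := 9) rfl N21285 D55602
theorem N22833 : nd 22833 = n55603 := ndS (p := 21286) (l := 8) rfl N21286 D55603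
theorem N22834 : nd 22834 = n55604 := ndS (p := 21288) (l := 9) rfl N21288 D55604
theorem N22835 : nd 22835 = n55605 := ndS (p := 21289) (l := 9) rfl N21289 D55605
theorem N22836 : nd 22836 = n55606 := ndS (p := 21290) (l := 8) rfl N21290 D55606
theorem N22837 : nd 22837 = n55607 := ndS (p := 21291) (l := 9) rfl N21291 D55607
theorem N22838 : nd 22838 = n55608 := ndS (p := 21292) (l := 8) rfl N21292 D55608
theorem N22839 : nd 22839 = n55609 := ndS (p := 21293) (l := 3) rfl N21293 D55609
theorem N22840 : nd 22840 = n55610 := ndS (p := 21294) (l := 4) rfl N21294 D55610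
theorem N22841 : nd 22841 = n55611 := ndS (p := 21295) (l := 9) rfl N21295 D55611
theorem N22842 : nd 22842 = n55612 := ndS (p := 21296) (l := 9) rfl N21296 D55612
theorem N22843 : nd 22843 = n55613 := ndS (p := 21297) (l := 8) rfl N21297 D55613
theorem N22844 : nd 22844 = n55614 := ndS (p := 21298) (l := 8) rfl N21298 D55614
theorem N22845 : nd 22845 = n55615 := ndS (p := 21299) (l := 3) rfl N21299 D55615
theorem N22846 : nd 22846 = n55616 := ndS (p := 21300) (l := 9) rfl N21300 D55616
theorem N22847 : nd 22847 = n55617 := ndS (p := 21301) (l := 8) rfl N21301 D55617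
theorem N22848 : nd 22848 = n55618 := ndS (p := 21302) (l := 3) rfl N21302 D55618
theorem N22849 : nd 22849 = n55619 := ndS (p := 21303) (l := 2) rfl N21303 D55619
theorem N22850 : nd 22850 = n55620 := ndS (p := 21303) (l := 4) rfl N21303 D55620
theorem N22851 : nd 22851 = n55621 := ndS (p := 21304) (l := 5) rfl N21304 D55621
theorem N22852 : nd 22852 = n55622 := ndS (p := 21305) (l := 8) rfl N21305 D55622
theorem N22853 : nd 22853 = n55623 := ndS (p := 21306) (l := 3) rfl N21306 D55623
theorem N22854 : nd 22854 = n55624 := ndS (p := 21307) (l := 2) rfl N21307 D55624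
theorem N22855 : nd 22855 = n55625 := ndS (p := 21308) (l := 1) rfl N21308 D55625
theorem N22856 : nd 22856 = n55626 := ndS (p := 21309) (l := 9) rfl N21309 D55626
theorem N22857 : nd 22857 = n55627 := ndS (p := 21310) (l := 8) rfl N21310 D55627
theorem N22858 : nd 22858 = n55628 := ndS (p := 21312) (l := 8) rfl N21312 D55628
theorem N22859 : nd 22859 = n55629 := ndS (p := 21313) (l := 3) rfl N21313 D55629
theorem N22860 : nd 22860 = n55630 := ndS (p := 21315) (l := 3) rfl N21315 D55630
theorem N22861 : nd 22861 = n55631 := ndS (p := 21317) (l := 5) rfl N21317 D55631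
theorem N22862 : nd 22862 = n55632 := ndS (p := 21318) (l := 8) rfl N21318 D55632
theorem N22863 : nd 22863 = n55633 := ndS (p := 21319) (l := 3) rfl N21319 D55633
theorem N22864 : nd 22864 = n55634 := ndS (p := 21320) (l := 8) rfl N21320 D55634
theorem N22865 : nd 22865 = n55635 := ndS (p := 21321) (l := 3) rfl N21321 D55635
theorem N22866 : nd 22866 = n55636 := ndS (p := 21323) (l := 8) rfl N21323 D55636
theorem N22867 : nd 22867 = n55637 := ndS (p := 21324) (l := 3) rfl N21324 D55637
theorem N22868 : nd 22868 = n55638 := ndS (p := 21325) (l := 4) rfl N21325 D55638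
theorem N22869 : nd 22869 = n55639 := ndS (p := 21329) (l := 8) rfl N21329 D55639
theorem N22870 : nd 22870 = n55640 := ndS (p := 21331) (l := 3) rfl N21331 D55640
theorem N22871 : nd 22871 = n55641 := ndS (p := 21333) (l := 4) rfl N21333 D55641
theorem N22872 : nd 22872 = n55642 := ndS (p := 21334) (l := 4) rfl N21334 D55642
theorem N22873 : nd 22873 = n55643 := ndS (p := 21335) (l := 8) rfl N21335 D55643
theorem N22874 : nd 22874 = n55644 := ndS (p := 21336) (l := 3) rfl N21336 D55644
theorem N22875 : nd 22875 = n55645 := ndS (p := 21337) (l := 4) rfl N21337 D55645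
theorem N22876 : nd 22876 = n55646 := ndS (p := 21338) (l := 5) rfl N21338 D55646
theorem N22877 : nd 22877 = n55647 := ndS (p := 21339) (l := 8) rfl N21339 D55647
theorem N22878 : nd 22878 = n55648 := ndS (p := 21340) (l := 3) rfl N21340 D55648
theorem N22879 : nd 22879 = n55649 := ndS (p := 21341) (l := 4) rfl N21341 D55649
theorem N22880 : nd 22880 = n55650 := ndS (p := 21343) (l := 3) rfl N21343 D55650
theorem N22881 : nd 22881 = n55651 := ndS (p := 21344) (l := 4) rfl N21344 D55651
theorem N22882 : nd 22882 = n55652 := ndS (p := 21345) (l := 5) rfl N21345 D55652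
theorem N22883 : nd 22883 = n55653 := ndS (p := 21347) (l := 6) rfl N21347 D55653
theorem N22884 : nd 22884 = n55654 := ndS (p := 21348) (l := 4) rfl N21348 D55654
theorem N22885 : nd 22885 = n55655 := ndS (p := 21351) (l := 4) rfl N21351 D55655
theorem N22886 : nd 22886 = n55656 := ndS (p := 21352) (l := 4) rfl N21352 D55656
theorem N22887 : nd 22887 = n55657 := ndS (p := 21353) (l := 5) rfl N21353 D55657
theorem N22888 : nd 22888 = n55658 := ndS (p := 21365) (l := 8) rfl N21365 D55658
theorem N22889 : nd 22889 = n55659 := ndS (p := 21367) (l := 8) rfl N21367 D55659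
theorem N22890 : nd 22890 = n55660 := ndS (p := 21369) (l := 8) rfl N21369 D55660
theorem N22891 : nd 22891 = n55661 := ndS (p := 21370) (l := 3) rfl N21370 D55661
theorem N22892 : nd 22892 = n55662 := ndS (p := 21371) (l := 3) rfl N21371 D55662
theorem N22893 : nd 22893 = n55663 := ndS (p := 21372) (l := 4) rfl N21372 D55663
theorem N22894 : nd 22894 = n55664 := ndS (p := 21374) (l := 3) rfl N21374 D55664
theorem N22895 : nd 22895 = n55665 := ndS (p := 21375) (l := 4) rfl N21375 D55665
theorem N22896 : nd 22896 = n55666 := ndS (p := 21377) (l := 5) rfl N21377 D55666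
theorem N22897 : nd 22897 = n55667 := ndS (p := 21378) (l := 8) rfl N21378 D55667
theorem N22898 : nd 22898 = n55668 := ndS (p := 21378) (l := 9) rfl N21378 D55668
theorem N22899 : nd 22899 = n55669 := ndS (p := 21379) (l := 8) rfl N21379 D55669
theorem N22900 : nd 22900 = n55670 := ndS (p := 21380) (l := 3) rfl N21380 D55670
theorem N22901 : nd 22901 = n55671 := ndS (p := 21381) (l := 3) rfl N21381 D55671
theorem N22902 : nd 22902 = n55672 := ndS (p := 21382) (l := 4) rfl N21382 D55672
theorem N22903 : nd 22903 = n55673 := ndS (p := 21385) (l := 3) rfl N21385 D55673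
theorem N22904 : nd 22904 = n55674 := ndS (p := 21386) (l := 8) rfl N21386 D55674
theorem N22905 : nd 22905 = n55675 := ndS (p := 21386) (l := 9) rfl N21386 D55675
theorem N22906 : nd 22906 = n55676 := ndS (p := 21387) (l := 9) rfl N21387 D55676
theorem N22907 : nd 22907 = n55677 := ndS (p := 21388) (l := 8) rfl N21388 D55677
theorem N22908 : nd 22908 = n55678 := ndS (p := 21389) (l := 8) rfl N21389 D55678
theorem N22909 : nd 22909 = n55679 := ndS (p := 21390) (l := 3) rfl N21390 D55679
theorem N22910 : nd 22910 = n55680 := ndS (p := 21391) (l := 4) rfl N21391 D55680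
theorem N22911 : nd 22911 = n55681 := ndS (p := 21392) (l := 3) rfl N21392 D55681
theorem N22912 : nd 22912 = n55682 := ndS (p := 21393) (l := 2) rfl N21393 D55682
theorem N22913 : nd 22913 = n55683 := ndS (p := 21394) (l := 3) rfl N21394 D55683
theorem N22914 : nd 22914 = n55684 := ndS (p := 21395) (l := 4) rfl N21395 D55684
theorem N22915 : nd 22915 = n55685 := ndS (p := 21396) (l := 5) rfl N21396 D55685
theorem N22916 : nd 22916 = n55686 := ndS (p := 21399) (l := 6) rfl N21399 D55686
theorem N22917 : nd 22917 = n55687 := ndS (p := 21400) (l := 8) rfl N21400 D55687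
theorem N22918 : nd 22918 = n55688 := ndS (p := 21401) (l := 3) rfl N21401 D55688
theorem N22919 : nd 22919 = n55689 := ndS (p := 21402) (l := 4) rfl N21402 D55689
theorem N22920 : nd 22920 = n55690 := ndS (p := 21403) (l := 5) rfl N21403 D55690
theorem N22921 : nd 22921 = n55691 := ndS (p := 21404) (l := 6) rfl N21404 D55691
theorem N22922 : nd 22922 = n55692 := ndS (p := 21406) (l := 9) rfl N21406 D55692
theorem N22923 : nd 22923 = n55693 := ndS (p := 21407) (l := 8) rfl N21407 D55693
theorem N22924 : nd 22924 = n55694 := ndS (p := 21408) (l := 3) rfl N21408 D55694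
theorem N22925 : nd 22925 = n55695 := ndS (p := 21409) (l := 3) rfl N21409 D55695
theorem N22926 : nd 22926 = n55696 := ndS (p := 21412) (l := 8) rfl N21412 D55696
theorem N22927 : nd 22927 = n55697 := ndS (p := 21414) (l := 3) rfl N21414 D55697
theorem N22928 : nd 22928 = n55698 := ndS (p := 21415) (l := 3) rfl N21415 D55698
theorem N22929 : nd 22929 = n55699 := ndS (p := 21416) (l := 4) rfl N21416 D55699
theorem N22930 : nd 22930 = n55700 := ndS (p := 21417) (l := 2) rfl N21417 D55700
theorem N22931 : nd 22931 = n55701 := ndS (p := 21418) (l := 5) rfl N21418 D55701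
theorem N22932 : nd 22932 = n55702 := ndS (p := 21419) (l := 5) rfl N21419 D55702
theorem N22933 : nd 22933 = n55703 := ndS (p := 21421) (l := 8) rfl N21421 D55703
theorem N22934 : nd 22934 = n55704 := ndS (p := 21422) (l := 3) rfl N21422 D55704
theorem N22935 : nd 22935 = n55705 := ndS (p := 21423) (l := 9) rfl N21423 D55705
theorem N22936 : nd 22936 = n55706 := ndS (p := 21424) (l := 8) rfl N21424 D55706
theorem N22937 : nd 22937 = n55707 := ndS (p := 21425) (l := 3) rfl N21425 D55707
theorem N22938 : nd 22938 = n55708 := ndS (p := 21426) (l := 4) rfl N21426 D55708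
theorem N22939 : nd 22939 = n55709 := ndS (p := 21427) (l := 2) rfl N21427 D55709
theorem N22940 : nd 22940 = n55710 := ndS (p := 21428) (l := 4) rfl N21428 D55710
theorem N22941 : nd 22941 = n55711 := ndS (p := 21429) (l := 5) rfl N21429 D55711
theorem N22942 : nd 22942 = n55712 := ndS (p := 21431) (l := 8) rfl N21431 D55712
theorem N22943 : nd 22943 = n55713 := ndS (p := 21432) (l := 3) rfl N21432 D55713
theorem N22944 : nd 22944 = n55714 := ndS (p := 21433) (l := 8) rfl N21433 D55714
theorem N22945 : nd 22945 = n55715 := ndS (p := 21434) (l := 3) rfl N21434 D55715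
theorem N22946 : nd 22946 = n55716 := ndS (p := 21435) (l := 8) rfl N21435 D55716
theorem N22947 : nd 22947 = n55717 := ndS (p := 21436) (l := 3) rfl N21436 D55717
theorem N22948 : nd 22948 = n55718 := ndS (p := 21437) (l := 3) rfl N21437 D55718
theorem N22949 : nd 22949 = n55719 := ndS (p := 21438) (l := 4) rfl N21438 D55719
theorem N22950 : nd 22950 = n55720 := ndS (p := 21439) (l := 2) rfl N21439 D55720
theorem N22951 : nd 22951 = n55721 := ndS (p := 21440) (l := 8) rfl N21440 D55721
theorem N22952 : nd 22952 = n55722 := ndS (p := 21441) (l := 3) rfl N21441 D55722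
theorem N22953 : nd 22953 = n55723 := ndS (p := 21442) (l := 8) rfl N21442 D55723
theorem N22954 : nd 22954 = n55724 := ndS (p := 21443) (l := 8) rfl N21443 D55724
theorem N22955 : nd 22955 = n55725 := ndS (p := 21444) (l := 3) rfl N21444 D55725
theorem N22956 : nd 22956 = n55726 := ndS (p := 21445) (l := 4) rfl N21445 D55726
theorem N22957 : nd 22957 = n55727 := ndS (p := 21446) (l := 8) rfl N21446 D55727
theorem N22958 : nd 22958 = n55728 := ndS (p := 21447) (l := 3) rfl N21447 D55728
theorem N22959 : nd 22959 = n55729 := ndS (p := 21448) (l := 8) rfl N21448 D55729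
theorem N22960 : nd 22960 = n55730 := ndS (p := 21449) (l := 3) rfl N21449 D55730
theorem N22961 : nd 22961 = n55731 := ndS (p := 21450) (l := 2) rfl N21450 D55731
theorem N22962 : nd 22962 = n55732 := ndS (p := 21450) (l := 4) rfl N21450 D55732
theorem N22963 : nd 22963 = n55733 := ndS (p := 21451) (l := 5) rfl N21451 D55733
theorem N22964 : nd 22964 = n55734 := ndS (p := 21452) (l := 8) rfl N21452 D55734
theorem N22965 : nd 22965 = n55735 := ndS (p := 21453) (l := 3) rfl N21453 D55735
theorem N22966 : nd 22966 = n55736 := ndS (p := 21454) (l := 2) rfl N21454 D55736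
theorem N22967 : nd 22967 = n55737 := ndS (p := 21455) (l := 1) rfl N21455 D55737
theorem N22968 : nd 22968 = n55738 := ndS (p := 21460) (l := 5) rfl N21460 D55738
theorem N22969 : nd 22969 = n55739 := ndS (p := 21463) (l := 6) rfl N21463 D55739
theorem N22970 : nd 22970 = n55740 := ndS (p := 21465) (l := 4) rfl N21465 D55740
theorem N22971 : nd 22971 = n55741 := ndS (p := 21466) (l := 4) rfl N21466 D55741
theorem N22972 : nd 22972 = n55742 := ndS (p := 21468) (l := 4) rfl N21468 D55742
theorem N22973 : nd 22973 = n55743 := ndS (p := 21469) (l := 3) rfl N21469 D55743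
theorem N22974 : nd 22974 = n55744 := ndS (p := 21470) (l := 4) rfl N21470 D55744
theorem N22975 : nd 22975 = n55745 := ndS (p := 21471) (l := 5) rfl N21471 D55745
theorem N22976 : nd 22976 = n55746 := ndS (p := 21472) (l := 3) rfl N21472 D55746
theorem N22977 : nd 22977 = n55747 := ndS (p := 21473) (l := 4) rfl N21473 D55747
theorem N22978 : nd 22978 = n55748 := ndS (p := 21475) (l := 6) rfl N21475 D55748
theorem N22979 : nd 22979 = n55749 := ndS (p := 21478) (l := 9) rfl N21478 D55749
theorem N22980 : nd 22980 = n55750 := ndS (p := 21479) (l := 8) rfl N21479 D55750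
theorem N22981 : nd 22981 = n55751 := ndS (p := 21481) (l := 3) rfl N21481 D55751
theorem N22982 : nd 22982 = n55752 := ndS (p := 21482) (l := 2) rfl N21482 D55752
theorem N22983 : nd 22983 = n55753 := ndS (p := 21483) (l := 3) rfl N21483 D55753
theorem N22984 : nd 22984 = n55754 := ndS (p := 21484) (l := 8) rfl N21484 D55754
theorem N22985 : nd 22985 = n55755 := ndS (p := 21486) (l := 3) rfl N21486 D55755
theorem N22986 : nd 22986 = n55756 := ndS (p := 21487) (l := 3) rfl N21487 D55756
theorem N22987 : nd 22987 = n55757 := ndS (p := 21488) (l := 2) rfl N21488 D55757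
theorem N22988 : nd 22988 = n55758 := ndS (p := 21489) (l := 9) rfl N21489 D55758
theorem N22989 : nd 22989 = n55759 := ndS (p := 21490) (l := 8) rfl N21490 D55759
theorem N22990 : nd 22990 = n55760 := ndS (p := 21492) (l := 9) rfl N21492 D55760
theorem N22991 : nd 22991 = n55761 := ndS (p := 21493) (l := 8) rfl N21493 D55761
theorem N22992 : nd 22992 = n55762 := ndS (p := 21494) (l := 3) rfl N21494 D55762
theorem N22993 : nd 22993 = n55763 := ndS (p := 21495) (l := 9) rfl N21495 D55763
theorem N22994 : nd 22994 = n55764 := ndS (p := 21496) (l := 8) rfl N21496 D55764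
theorem N22995 : nd 22995 = n55765 := ndS (p := 21498) (l := 9) rfl N21498 D55765
theorem N22996 : nd 22996 = n55766 := ndS (p := 21499) (l := 8) rfl N21499 D55766
theorem N22997 : nd 22997 = n55767 := ndS (p := 21500) (l := 8) rfl N21500 D55767
theorem N22998 : nd 22998 = n55768 := ndS (p := 21501) (l := 3) rfl N21501 D55768
theorem N22999 : nd 22999 = n55769 := ndS (p := 21502) (l := 8) rfl N21502 D55769
theorem N23000 : nd 23000 = n55770 := ndS (p := 21503) (l := 3) rfl N21503 D55770
theorem N23001 : nd 23001 = n55771 := ndS (p := 21504) (l := 2) rfl N21504 D55771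
theorem N23002 : nd 23002 = n55772 := ndS (p := 21505) (l := 9) rfl N21505 D55772
theorem N23003 : nd 23003 = n55773 := ndS (p := 21506) (l := 8) rfl N21506 D55773
theorem N23004 : nd 23004 = n55774 := ndS (p := 21507) (l := 8) rfl N21507 D55774
theorem N23005 : nd 23005 = n55775 := ndS (p := 21508) (l := 3) rfl N21508 D55775
theorem N23006 : nd 23006 = n55776 := ndS (p := 21509) (l := 8) rfl N21509 D55776
theorem N23007 : nd 23007 = n55777 := ndS (p := 21510) (l := 3) rfl N21510 D55777
theorem N23008 : nd 23008 = n55778 := ndS (p := 21511) (l := 3) rfl N21511 D55778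
theorem N23009 : nd 23009 = n55779 := ndS (p := 21512) (l := 2) rfl N21512 D55779
theorem N23010 : nd 23010 = n55780 := ndS (p := 21513) (l := 2) rfl N21513 D55780
theorem N23011 : nd 23011 = n55781 := ndS (p := 21514) (l := 1) rfl N21514 D55781
theorem N23012 : nd 23012 = n55782 := ndS (p := 21515) (l := 8) rfl N21515 D55782
theorem N23013 : nd 23013 = n55783 := ndS (p := 21516) (l := 3) rfl N21516 D55783
theorem N23014 : nd 23014 = n55784 := ndS (p := 21517) (l := 3) rfl N21517 D55784
theorem N23015 : nd 23015 = n55785 := ndS (p := 21520) (l := 3) rfl N21520 D55785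
theorem N23016 : nd 23016 = n55786 := ndS (p := 21522) (l := 4) rfl N21522 D55786
theorem N23017 : nd 23017 = n55787 := ndS (p := 21525) (l := 8) rfl N21525 D55787
theorem N23018 : nd 23018 = n55788 := ndS (p := 21526) (l := 3) rfl N21526 D55788
theorem N23019 : nd 23019 = n55789 := ndS (p := 21527) (l := 3) rfl N21527 D55789
theorem N23020 : nd 23020 = n55790 := ndS (p := 21528) (l := 3) rfl N21528 D55790
theorem N23021 : nd 23021 = n55791 := ndS (p := 21529) (l := 2) rfl N21529 D55791
theorem N23022 : nd 23022 = n55792 := ndS (p := 21530) (l := 8) rfl N21530 D55792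
theorem N23023 : nd 23023 = n55793 := ndS (p := 21532) (l := 8) rfl N21532 D55793
theorem N23024 : nd 23024 = n55794 := ndS (p := 21533) (l := 3) rfl N21533 D55794
theorem N23025 : nd 23025 = n55795 := ndS (p := 21534) (l := 8) rfl N21534 D55795
theorem N23026 : nd 23026 = n55796 := ndS (p := 21536) (l := 3) rfl N21536 D55796
theorem N23027 : nd 23027 = n55797 := ndS (p := 21537) (l := 2) rfl N21537 D55797
theorem N23028 : nd 23028 = n55798 := ndS (p := 21538) (l := 8) rfl N21538 D55798
theorem N23029 : nd 23029 = n55799 := ndS (p := 21540) (l := 8) rfl N21540 D55799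
theorem N23030 : nd 23030 = n55800 := ndS (p := 21541) (l := 3) rfl N21541 D55800
theorem N23031 : nd 23031 = n55801 := ndS (p := 21542) (l := 8) rfl N21542 D55801
theorem N23032 : nd 23032 = n55802 := ndS (p := 21543) (l := 3) rfl N21543 D55802
theorem N23033 : nd 23033 = n55803 := ndS (p := 21544) (l := 2) rfl N21544 D55803
theorem N23034 : nd 23034 = n55804 := ndS (p := 21545) (l := 1) rfl N21545 D55804
theorem N23035 : nd 23035 = n55805 := ndS (p := 21549) (l := 9) rfl N21549 D55805
theorem N23036 : nd 23036 = n55806 := ndS (p := 21550) (l := 8) rfl N21550 D55806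
theorem N23037 : nd 23037 = n55807 := ndS (p := 21551) (l := 9) rfl N21551 D55807
theorem N23038 : nd 23038 = n55808 := ndS (p := 21552) (l := 8) rfl N21552 D55808
theorem N23039 : nd 23039 = n55809 := ndS (p := 21553) (l := 3) rfl N21553 D55809
theorem N23040 : nd 23040 = n55810 := ndS (p := 21554) (l := 9) rfl N21554 D55810
theorem N23041 : nd 23041 = n55811 := ndS (p := 21555) (l := 8) rfl N21555 D55811
theorem N23042 : nd 23042 = n55812 := ndS (p := 21556) (l := 3) rfl N21556 D55812
theorem N23043 : nd 23043 = n55813 := ndS (p := 21557) (l := 4) rfl N21557 D55813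
theorem N23044 : nd 23044 = n55814 := ndS (p := 21558) (l := 2) rfl N21558 D55814
theorem N23045 : nd 23045 = n55815 := ndS (p := 21559) (l := 9) rfl N21559 D55815
theorem N23046 : nd 23046 = n55816 := ndS (p := 21560) (l := 8) rfl N21560 D55816
theorem N23047 : nd 23047 = n55817 := ndS (p := 21562) (l := 8) rfl N21562 D55817
theorem N23048 : nd 23048 = n55818 := ndS (p := 21563) (l := 3) rfl N21563 D55818
theorem N23049 : nd 23049 = n55819 := ndS (p := 21564) (l := 8) rfl N21564 D55819
theorem N23050 : nd 23050 = n55820 := ndS (p := 21566) (l := 8) rfl N21566 D55820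
theorem N23051 : nd 23051 = n55821 := ndS (p := 21567) (l := 3) rfl N21567 D55821
theorem N23052 : nd 23052 = n55822 := ndS (p := 21568) (l := 2) rfl N21568 D55822
theorem N23053 : nd 23053 = n55823 := ndS (p := 21569) (l := 8) rfl N21569 D55823
theorem N23054 : nd 23054 = n55824 := ndS (p := 21571) (l := 9) rfl N21571 D55824
theorem N23055 : nd 23055 = n55825 := ndS (p := 21572) (l := 9) rfl N21572 D55825
theorem N23056 : nd 23056 = n55826 := ndS (p := 21573) (l := 8) rfl N21573 D55826
theorem N23057 : nd 23057 = n55827 := ndS (p := 21574) (l := 8) rfl N21574 D55827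
theorem N23058 : nd 23058 = n55828 := ndS (p := 21575) (l := 3) rfl N21575 D55828
theorem N23059 : nd 23059 = n55829 := ndS (p := 21576) (l := 8) rfl N21576 D55829
theorem N23060 : nd 23060 = n55830 := ndS (p := 21576) (l := 9) rfl N21576 D55830
theorem N23061 : nd 23061 = n55831 := ndS (p := 21577) (l := 9) rfl N21577 D55831
theorem N23062 : nd 23062 = n55832 := ndS (p := 21578) (l := 8) rfl N21578 D55832
theorem N23063 : nd 23063 = n55833 := ndS (p := 21579) (l := 8) rfl N21579 D55833
theorem N23064 : nd 23064 = n55834 := ndS (p := 21580) (l := 3) rfl N21580 D55834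
theorem N23065 : nd 23065 = n55835 := ndS (p := 21581) (l := 9) rfl N21581 D55835
theorem N23066 : nd 23066 = n55836 := ndS (p := 21582) (l := 8) rfl N21582 D55836
theorem N23067 : nd 23067 = n55837 := ndS (p := 21583) (l := 3) rfl N21583 D55837
theorem N23068 : nd 23068 = n55838 := ndS (p := 21584) (l := 2) rfl N21584 D55838
theorem N23069 : nd 23069 = n55839 := ndS (p := 21585) (l := 8) rfl N21585 D55839
theorem N23070 : nd 23070 = n55840 := ndS (p := 21586) (l := 3) rfl N21586 D55840
theorem N23071 : nd 23071 = n55841 := ndS (p := 21587) (l := 2) rfl N21587 D55841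
theorem N23072 : nd 23072 = n55842 := ndS (p := 21588) (l := 1) rfl N21588 D55842
theorem N23073 : nd 23073 = n55843 := ndS (p := 21590) (l := 3) rfl N21590 D55843
theorem N23074 : nd 23074 = n55844 := ndS (p := 21592) (l := 3) rfl N21592 D55844
theorem N23075 : nd 23075 = n55845 := ndS (p := 21593) (l := 2) rfl N21593 D55845
theorem N23076 : nd 23076 = n55846 := ndS (p := 21594) (l := 8) rfl N21594 D55846
theorem N23077 : nd 23077 = n55847 := ndS (p := 21595) (l := 3) rfl N21595 D55847
theorem N23078 : nd 23078 = n55848 := ndS (p := 21596) (l := 4) rfl N21596 D55848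
theorem N23079 : nd 23079 = n55849 := ndS (p := 21599) (l := 3) rfl N21599 D55849
theorem N23080 : nd 23080 = n55850 := ndS (p := 21601) (l := 8) rfl N21601 D55850
theorem N23081 : nd 23081 = n55851 := ndS (p := 21602) (l := 3) rfl N21602 D55851
theorem N23082 : nd 23082 = n55852 := ndS (p := 21603) (l := 8) rfl N21603 D55852
theorem N23083 : nd 23083 = n55853 := ndS (p := 21604) (l := 3) rfl N21604 D55853
theorem N23084 : nd 23084 = n55854 := ndS (p := 21605) (l := 2) rfl N21605 D55854
theorem N23085 : nd 23085 = n55855 := ndS (p := 21606) (l := 8) rfl N21606 D55855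
theorem N23086 : nd 23086 = n55856 := ndS (p := 21607) (l := 3) rfl N21607 D55856
theorem N23087 : nd 23087 = n55857 := ndS (p := 21608) (l := 3) rfl N21608 D55857
theorem N23088 : nd 23088 = n55858 := ndS (p := 21609) (l := 3) rfl N21609 D55858
theorem N23089 : nd 23089 = n55859 := ndS (p := 21610) (l := 2) rfl N21610 D55859
theorem N23090 : nd 23090 = n55860 := ndS (p := 21610) (l := 4) rfl N21610 D55860
theorem N23091 : nd 23091 = n55861 := ndS (p := 21611) (l := 5) rfl N21611 D55861
theorem N23092 : nd 23092 = n55862 := ndS (p := 21612) (l := 8) rfl N21612 D55862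
theorem N23093 : nd 23093 = n55863 := ndS (p := 21613) (l := 3) rfl N21613 D55863
theorem N23094 : nd 23094 = n55864 := ndS (p := 21614) (l := 2) rfl N21614 D55864
theorem N23095 : nd 23095 = n55865 := ndS (p := 21615) (l := 1) rfl N21615 D55865
theorem N23096 : nd 23096 = n55866 := ndS (p := 21616) (l := 8) rfl N21616 D55866
theorem N23097 : nd 23097 = n55867 := ndS (p := 21617) (l := 3) rfl N21617 D55867
theorem N23098 : nd 23098 = n55868 := ndS (p := 21618) (l := 9) rfl N21618 D55868
theorem N23099 : nd 23099 = n55869 := ndS (p := 21620) (l := 8) rfl N21620 D55869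
theorem N23100 : nd 23100 = n55870 := ndS (p := 21621) (l := 3) rfl N21621 D55870
theorem N23101 : nd 23101 = n55871 := ndS (p := 21622) (l := 2) rfl N21622 D55871
theorem N23102 : nd 23102 = n55872 := ndS (p := 21623) (l := 9) rfl N21623 D55872
theorem N23103 : nd 23103 = n55873 := ndS (p := 21624) (l := 8) rfl N21624 D55873
theorem N23104 : nd 23104 = n55874 := ndS (p := 21625) (l := 8) rfl N21625 D55874
theorem N23105 : nd 23105 = n55875 := ndS (p := 21626) (l := 3) rfl N21626 D55875
theorem N23106 : nd 23106 = n55876 := ndS (p := 21627) (l := 3) rfl N21627 D55876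
theorem N23107 : nd 23107 = n55877 := ndS (p := 21628) (l := 2) rfl N21628 D55877
theorem N23108 : nd 23108 = n55878 := ndS (p := 21629) (l := 8) rfl N21629 D55878
theorem N23109 : nd 23109 = n55879 := ndS (p := 21630) (l := 3) rfl N21630 D55879
theorem N23110 : nd 23110 = n55880 := ndS (p := 21631) (l := 2) rfl N21631 D55880
theorem N23111 : nd 23111 = n55881 := ndS (p := 21631) (l := 4) rfl N21631 D55881
theorem N23112 : nd 23112 = n55882 := ndS (p := 21632) (l := 1) rfl N21632 D55882
theorem N23113 : nd 23113 = n55883 := ndS (p := 21632) (l := 4) rfl N21632 D55883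
theorem N23114 : nd 23114 = n55884 := ndS (p := 21633) (l := 5) rfl N21633 D55884
theorem N23115 : nd 23115 = n55885 := ndS (p := 21635) (l := 3) rfl N21635 D55885
theorem N23116 : nd 23116 = n55886 := ndS (p := 21636) (l := 2) rfl N21636 D55886
theorem N23117 : nd 23117 = n55887 := ndS (p := 21637) (l := 1) rfl N21637 D55887
theorem N23118 : nd 23118 = n55888 := ndS (p := 21638) (l := 0) rfl N21638 D55888
theorem N23119 : nd 23119 = n55889 := ndS (p := 21639) (l := 8) rfl N21639 D55889
theorem N23120 : nd 23120 = n55890 := ndS (p := 21641) (l := 3) rfl N21641 D55890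
theorem N23121 : nd 23121 = n55891 := ndS (p := 21642) (l := 2) rfl N21642 D55891
theorem N23122 : nd 23122 = n55892 := ndS (p := 21643) (l := 4) rfl N21643 D55892
theorem N23123 : nd 23123 = n55893 := ndS (p := 21644) (l := 5) rfl N21644 D55893
theorem N23124 : nd 23124 = n55894 := ndS (p := 21645) (l := 6) rfl N21645 D55894
theorem N23125 : nd 23125 = n55895 := ndS (p := 21648) (l := 3) rfl N21648 D55895
theorem N23126 : nd 23126 = n55896 := ndS (p := 21649) (l := 2) rfl N21649 D55896
theorem N23127 : nd 23127 = n55897 := ndS (p := 21649) (l := 4) rfl N21649 D55897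
theorem N23128 : nd 23128 = n55898 := ndS (p := 21651) (l := 3) rfl N21651 D55898
theorem N23129 : nd 23129 = n55899 := ndS (p := 21652) (l := 4) rfl N21652 D55899
theorem N23130 : nd 23130 = n55900 := ndS (p := 21653) (l := 5) rfl N21653 D55900
theorem N23131 : nd 23131 = n55901 := ndS (p := 21655) (l := 3) rfl N21655 D55901
theorem N23132 : nd 23132 = n55902 := ndS (p := 21659) (l := 4) rfl N21659 D55902
theorem N23133 : nd 23133 = n55903 := ndS (p := 21660) (l := 8) rfl N21660 D55903
theorem N23134 : nd 23134 = n55904 := ndS (p := 21662) (l := 8) rfl N21662 D55904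
theorem N23135 : nd 23135 = n55905 := ndS (p := 21663) (l := 3) rfl N21663 D55905
theorem N23136 : nd 23136 = n55906 := ndS (p := 21664) (l := 3) rfl N21664 D55906
theorem N23137 : nd 23137 = n55907 := ndS (p := 21665) (l := 8) rfl N21665 D55907
theorem N23138 : nd 23138 = n55908 := ndS (p := 21666) (l := 3) rfl N21666 D55908
theorem N23139 : nd 23139 = n55909 := ndS (p := 21667) (l := 2) rfl N21667 D55909
theorem N23140 : nd 23140 = n55910 := ndS (p := 21667) (l := 4) rfl N21667 D55910
theorem N23141 : nd 23141 = n55911 := ndS (p := 21668) (l := 8) rfl N21668 D55911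
theorem N23142 : nd 23142 = n55912 := ndS (p := 21669) (l := 3) rfl N21669 D55912
theorem N23143 : nd 23143 = n55913 := ndS (p := 21670) (l := 4) rfl N21670 D55913
theorem N23144 : nd 23144 = n55914 := ndS (p := 21673) (l := 8) rfl N21673 D55914
theorem N23145 : nd 23145 = n55915 := ndS (p := 21680) (l := 3) rfl N21680 D55915
theorem N23146 : nd 23146 = n55916 := ndS (p := 21681) (l := 4) rfl N21681 D55916
theorem N23147 : nd 23147 = n55917 := ndS (p := 21682) (l := 8) rfl N21682 D55917
theorem N23148 : nd 23148 = n55918 := ndS (p := 21683) (l := 3) rfl N21683 D55918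
theorem N23149 : nd 23149 = n55919 := ndS (p := 21684) (l := 3) rfl N21684 D55919
theorem N23150 : nd 23150 = n55920 := ndS (p := 21685) (l := 4) rfl N21685 D55920
theorem N23151 : nd 23151 = n55921 := ndS (p := 21687) (l := 4) rfl N21687 D55921
theorem N23152 : nd 23152 = n55922 := ndS (p := 21688) (l := 4) rfl N21688 D55922
theorem N23153 : nd 23153 = n55923 := ndS (p := 21689) (l := 5) rfl N21689 D55923
theorem N23154 : nd 23154 = n55924 := ndS (p := 21691) (l := 5) rfl N21691 D55924
theorem N23155 : nd 23155 = n55925 := ndS (p := 21694) (l := 4) rfl N21694 D55925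
theorem N23156 : nd 23156 = n55926 := ndS (p := 21695) (l := 4) rfl N21695 D55926
theorem N23157 : nd 23157 = n55927 := ndS (p := 21700) (l := 2) rfl N21700 D55927
theorem N23158 : nd 23158 = n55928 := ndS (p := 21703) (l := 3) rfl N21703 D55928
theorem N23159 : nd 23159 = n55929 := ndS (p := 21706) (l := 2) rfl N21706 D55929
theorem N23160 : nd 23160 = n55930 := ndS (p := 21711) (l := 1) rfl N21711 D55930
theorem N23161 : nd 23161 = n55931 := ndS (p := 21713) (l := 9) rfl N21713 D55931
theorem N23162 : nd 23162 = n55932 := ndS (p := 21714) (l := 8) rfl N21714 D55932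
theorem N23163 : nd 23163 = n55933 := ndS (p := 21716) (l := 8) rfl N21716 D55933
theorem N23164 : nd 23164 = n55934 := ndS (p := 21717) (l := 3) rfl N21717 D55934
theorem N23165 : nd 23165 = n55935 := ndS (p := 21719) (l := 9) rfl N21719 D55935
theorem N23166 : nd 23166 = n55936 := ndS (p := 21720) (l := 8) rfl N21720 D55936
theorem N23167 : nd 23167 = n55937 := ndS (p := 21722) (l := 9) rfl N21722 D55937
theorem N23168 : nd 23168 = n55938 := ndS (p := 21723) (l := 8) rfl N21723 D55938
theorem N23169 : nd 23169 = n55939 := ndS (p := 21725) (l := 8) rfl N21725 D55939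
theorem N23170 : nd 23170 = n55940 := ndS (p := 21726) (l := 3) rfl N21726 D55940
theorem N23171 : nd 23171 = n55941 := ndS (p := 21727) (l := 8) rfl N21727 D55941
theorem N23172 : nd 23172 = n55942 := ndS (p := 21729) (l := 8) rfl N21729 D55942
theorem N23173 : nd 23173 = n55943 := ndS (p := 21730) (l := 9) rfl N21730 D55943
theorem N23174 : nd 23174 = n55944 := ndS (p := 21731) (l := 8) rfl N21731 D55944
theorem N23175 : nd 23175 = n55945 := ndS (p := 21733) (l := 8) rfl N21733 D55945
theorem N23176 : nd 23176 = n55946 := ndS (p := 21735) (l := 3) rfl N21735 D55946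
theorem N23177 : nd 23177 = n55947 := ndS (p := 21736) (l := 2) rfl N21736 D55947
theorem N23178 : nd 23178 = n55948 := ndS (p := 21740) (l := 2) rfl N21740 D55948
theorem N23179 : nd 23179 = n55949 := ndS (p := 21740) (l := 4) rfl N21740 D55949
theorem N23180 : nd 23180 = n55950 := ndS (p := 21742) (l := 8) rfl N21742 D55950
theorem N23181 : nd 23181 = n55951 := ndS (p := 21745) (l := 3) rfl N21745 D55951
theorem N23182 : nd 23182 = n55952 := ndS (p := 21747) (l := 8) rfl N21747 D55952
theorem N23183 : nd 23183 = n55953 := ndS (p := 21749) (l := 8) rfl N21749 D55953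
theorem N23184 : nd 23184 = n55954 := ndS (p := 21750) (l := 3) rfl N21750 D55954
theorem N23185 : nd 23185 = n55955 := ndS (p := 21751) (l := 8) rfl N21751 D55955
theorem N23186 : nd 23186 = n55956 := ndS (p := 21752) (l := 3) rfl N21752 D55956
theorem N23187 : nd 23187 = n55957 := ndS (p := 21754) (l := 3) rfl N21754 D55957
theorem N23188 : nd 23188 = n55958 := ndS (p := 21756) (l := 3) rfl N21756 D55958
theorem N23189 : nd 23189 = n55959 := ndS (p := 21757) (l := 3) rfl N21757 D55959
theorem N23190 : nd 23190 = n55960 := ndS (p := 21758) (l := 9) rfl N21758 D55960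
theorem N23191 : nd 23191 = n55961 := ndS (p := 21759) (l := 8) rfl N21759 D55961
theorem N23192 : nd 23192 = n55962 := ndS (p := 21760) (l := 3) rfl N21760 D55962
theorem N23193 : nd 23193 = n55963 := ndS (p := 21761) (l := 2) rfl N21761 D55963
theorem N23194 : nd 23194 = n55964 := ndS (p := 21762) (l := 8) rfl N21762 D55964
theorem N23195 : nd 23195 = n55965 := ndS (p := 21763) (l := 3) rfl N21763 D55965
theorem N23196 : nd 23196 = n55966 := ndS (p := 21764) (l := 2) rfl N21764 D55966
theorem N23197 : nd 23197 = n55967 := ndS (p := 21764) (l := 4) rfl N21764 D55967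
theorem N23198 : nd 23198 = n55968 := ndS (p := 21765) (l := 1) rfl N21765 D55968
theorem N23199 : nd 23199 = n55969 := ndS (p := 21770) (l := 4) rfl N21770 D55969
theorem N23200 : nd 23200 = n55970 := ndS (p := 21771) (l := 1) rfl N21771 D55970
theorem N23201 : nd 23201 = n55971 := ndS (p := 21771) (l := 4) rfl N21771 D55971
theorem N23202 : nd 23202 = n55972 := ndS (p := 21774) (l := 5) rfl N21774 D55972
theorem N23203 : nd 23203 = n55973 := ndS (p := 21774) (l := 9) rfl N21774 D55973
theorem N23204 : nd 23204 = n55974 := ndS (p := 21775) (l := 8) rfl N21775 D55974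
theorem N23205 : nd 23205 = n55975 := ndS (p := 21776) (l := 4) rfl N21776 D55975
theorem N23206 : nd 23206 = n55976 := ndS (p := 21776) (l := 9) rfl N21776 D55976
theorem N23207 : nd 23207 = n55977 := ndS (p := 21777) (l := 3) rfl N21777 D55977
theorem N23208 : nd 23208 = n55978 := ndS (p := 21777) (l := 5) rfl N21777 D55978
theorem N23209 : nd 23209 = n55979 := ndS (p := 21777) (l := 9) rfl N21777 D55979
theorem N23210 : nd 23210 = n55980 := ndS (p := 21778) (l := 8) rfl N21778 D55980
theorem N23211 : nd 23211 = n55981 := ndS (p := 21779) (l := 9) rfl N21779 D55981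
theorem N23212 : nd 23212 = n55982 := ndS (p := 21780) (l := 8) rfl N21780 D55982
theorem N23213 : nd 23213 = n55983 := ndS (p := 21782) (l := 9) rfl N21782 D55983
theorem N23214 : nd 23214 = n55984 := ndS (p := 21783) (l := 8) rfl N21783 D55984
theorem N23215 : nd 23215 = n55985 := ndS (p := 21784) (l := 3) rfl N21784 D55985
theorem N23216 : nd 23216 = n55986 := ndS (p := 21784) (l := 9) rfl N21784 D55986
theorem N23217 : nd 23217 = n55987 := ndS (p := 21785) (l := 8) rfl N21785 D55987
theorem N23218 : nd 23218 = n55988 := ndS (p := 21786) (l := 6) rfl N21786 D55988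
theorem N23219 : nd 23219 = n55989 := ndS (p := 21786) (l := 9) rfl N21786 D55989
theorem N23220 : nd 23220 = n55990 := ndS (p := 21787) (l := 8) rfl N21787 D55990
theorem N23221 : nd 23221 = n55991 := ndS (p := 21789) (l := 8) rfl N21789 D55991
theorem N23222 : nd 23222 = n55992 := ndS (p := 21789) (l := 9) rfl N21789 D55992
theorem N23223 : nd 23223 = n55993 := ndS (p := 21790) (l := 8) rfl N21790 D55993
theorem N23224 : nd 23224 = n55994 := ndS (p := 21791) (l := 3) rfl N21791 D55994
theorem N23225 : nd 23225 = n55995 := ndS (p := 21792) (l := 8) rfl N21792 D55995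
theorem N23226 : nd 23226 = n55996 := ndS (p := 21793) (l := 3) rfl N21793 D55996
theorem N23227 : nd 23227 = n55997 := ndS (p := 21794) (l := 3) rfl N21794 D55997
theorem N23228 : nd 23228 = n55998 := ndS (p := 21795) (l := 9) rfl N21795 D55998
theorem N23229 : nd 23229 = n55999 := ndS (p := 21796) (l := 8) rfl N21796 D55999
theorem N23230 : nd 23230 = n56000 := ndS (p := 21797) (l := 3) rfl N21797 D56000
theorem N23231 : nd 23231 = n56001 := ndS (p := 21798) (l := 4) rfl N21798 D56001
theorem N23232 : nd 23232 = n56002 := ndS (p := 21799) (l := 3) rfl N21799 D56002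
theorem N23233 : nd 23233 = n56003 := ndS (p := 21800) (l := 2) rfl N21800 D56003
theorem N23234 : nd 23234 = n56004 := ndS (p := 21803) (l := 8) rfl N21803 D56004
theorem N23235 : nd 23235 = n56005 := ndS (p := 21805) (l := 9) rfl N21805 D56005
theorem N23236 : nd 23236 = n56006 := ndS (p := 21806) (l := 8) rfl N21806 D56006
theorem N23237 : nd 23237 = n56007 := ndS (p := 21807) (l := 3) rfl N21807 D56007
theorem N23238 : nd 23238 = n56008 := ndS (p := 21808) (l := 9) rfl N21808 D56008
theorem N23239 : nd 23239 = n56009 := ndS (p := 21809) (l := 8) rfl N21809 D56009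
theorem N23240 : nd 23240 = n56010 := ndS (p := 21810) (l := 3) rfl N21810 D56010
theorem N23241 : nd 23241 = n56011 := ndS (p := 21811) (l := 8) rfl N21811 D56011
theorem N23242 : nd 23242 = n56012 := ndS (p := 21811) (l := 9) rfl N21811 D56012
theorem N23243 : nd 23243 = n56013 := ndS (p := 21812) (l := 8) rfl N21812 D56013
theorem N23244 : nd 23244 = n56014 := ndS (p := 21813) (l := 3) rfl N21813 D56014
theorem N23245 : nd 23245 = n56015 := ndS (p := 21814) (l := 8) rfl N21814 D56015
theorem N23246 : nd 23246 = n56016 := ndS (p := 21814) (l := 9) rfl N21814 D56016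
theorem N23247 : nd 23247 = n56017 := ndS (p := 21815) (l := 9) rfl N21815 D56017
theorem N23248 : nd 23248 = n56018 := ndS (p := 21816) (l := 8) rfl N21816 D56018
theorem N23249 : nd 23249 = n56019 := ndS (p := 21817) (l := 8) rfl N21817 D56019
theorem N23250 : nd 23250 = n56020 := ndS (p := 21818) (l := 3) rfl N21818 D56020
theorem N23251 : nd 23251 = n56021 := ndS (p := 21819) (l := 4) rfl N21819 D56021
theorem N23252 : nd 23252 = n56022 := ndS (p := 21820) (l := 3) rfl N21820 D56022
theorem N23253 : nd 23253 = n56023 := ndS (p := 21821) (l := 2) rfl N21821 D56023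
theorem N23254 : nd 23254 = n56024 := ndS (p := 21822) (l := 8) rfl N21822 D56024
theorem N23255 : nd 23255 = n56025 := ndS (p := 21823) (l := 3) rfl N21823 D56025
theorem N23256 : nd 23256 = n56026 := ndS (p := 21824) (l := 4) rfl N21824 D56026
theorem N23257 : nd 23257 = n56027 := ndS (p := 21825) (l := 8) rfl N21825 D56027
theorem N23258 : nd 23258 = n56028 := ndS (p := 21826) (l := 3) rfl N21826 D56028
theorem N23259 : nd 23259 = n56029 := ndS (p := 21827) (l := 2) rfl N21827 D56029
theorem N23260 : nd 23260 = n56030 := ndS (p := 21829) (l := 3) rfl N21829 D56030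
theorem N23261 : nd 23261 = n56031 := ndS (p := 21830) (l := 2) rfl N21830 D56031
theorem N23262 : nd 23262 = n56032 := ndS (p := 21830) (l := 4) rfl N21830 D56032
theorem N23263 : nd 23263 = n56033 := ndS (p := 21831) (l := 5) rfl N21831 D56033
theorem N23264 : nd 23264 = n56034 := ndS (p := 21832) (l := 2) rfl N21832 D56034
theorem N23265 : nd 23265 = n56035 := ndS (p := 21832) (l := 4) rfl N21832 D56035
theorem N23266 : nd 23266 = n56036 := ndS (p := 21833) (l := 1) rfl N21833 D56036
theorem N23267 : nd 23267 = n56037 := ndS (p := 21837) (l := 3) rfl N21837 D56037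
theorem N23268 : nd 23268 = n56038 := ndS (p := 21838) (l := 2) rfl N21838 D56038
theorem N23269 : nd 23269 = n56039 := ndS (p := 21838) (l := 4) rfl N21838 D56039
theorem N23270 : nd 23270 = n56040 := ndS (p := 21840) (l := 1) rfl N21840 D56040
theorem N23271 : nd 23271 = n56041 := ndS (p := 21840) (l := 4) rfl N21840 D56041
theorem N23272 : nd 23272 = n56042 := ndS (p := 21843) (l := 4) rfl N21843 D56042
theorem N23273 : nd 23273 = n56043 := ndS (p := 21844) (l := 9) rfl N21844 D56043
theorem N23274 : nd 23274 = n56044 := ndS (p := 21845) (l := 8) rfl N21845 D56044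
theorem N23275 : nd 23275 = n56045 := ndS (p := 21846) (l := 3) rfl N21846 D56045
theorem N23276 : nd 23276 = n56046 := ndS (p := 21847) (l := 4) rfl N21847 D56046
theorem N23277 : nd 23277 = n56047 := ndS (p := 21848) (l := 8) rfl N21848 D56047
theorem N23278 : nd 23278 = n56048 := ndS (p := 21849) (l := 3) rfl N21849 D56048
theorem N23279 : nd 23279 = n56049 := ndS (p := 21850) (l := 4) rfl N21850 D56049
theorem N23280 : nd 23280 = n56050 := ndS (p := 21851) (l := 5) rfl N21851 D56050
theorem N23281 : nd 23281 = n56051 := ndS (p := 21852) (l := 5) rfl N21852 D56051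
theorem N23282 : nd 23282 = n56052 := ndS (p := 21854) (l := 9) rfl N21854 D56052
theorem N23283 : nd 23283 = n56053 := ndS (p := 21855) (l := 8) rfl N21855 D56053
theorem N23284 : nd 23284 = n56054 := ndS (p := 21856) (l := 8) rfl N21856 D56054
theorem N23285 : nd 23285 = n56055 := ndS (p := 21859) (l := 4) rfl N21859 D56055
theorem N23286 : nd 23286 = n56056 := ndS (p := 21859) (l := 9) rfl N21859 D56056
theorem N23287 : nd 23287 = n56057 := ndS (p := 21860) (l := 5) rfl N21860 D56057
theorem N23288 : nd 23288 = n56058 := ndS (p := 21860) (l := 9) rfl N21860 D56058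
theorem N23289 : nd 23289 = n56059 := ndS (p := 21861) (l := 8) rfl N21861 D56059
theorem N23290 : nd 23290 = n56060 := ndS (p := 21862) (l := 9) rfl N21862 D56060
theorem N23291 : nd 23291 = n56061 := ndS (p := 21863) (l := 8) rfl N21863 D56061
theorem N23292 : nd 23292 = n56062 := ndS (p := 21864) (l := 8) rfl N21864 D56062
theorem N23293 : nd 23293 = n56063 := ndS (p := 21866) (l := 9) rfl N21866 D56063
theorem N23294 : nd 23294 = n56064 := ndS (p := 21867) (l := 8) rfl N21867 D56064
theorem N23295 : nd 23295 = n56065 := ndS (p := 21868) (l := 3) rfl N21868 D56065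
theorem N23296 : nd 23296 = n56066 := ndS (p := 21869) (l := 8) rfl N21869 D56066
theorem N23297 : nd 23297 = n56067 := ndS (p := 21870) (l := 3) rfl N21870 D56067
theorem N23298 : nd 23298 = n56068 := ndS (p := 21871) (l := 3) rfl N21871 D56068
theorem N23299 : nd 23299 = n56069 := ndS (p := 21873) (l := 3) rfl N21873 D56069
theorem N23300 : nd 23300 = n56070 := ndS (p := 21875) (l := 4) rfl N21875 D56070
theorem N23301 : nd 23301 = n56071 := ndS (p := 21876) (l := 9) rfl N21876 D56071
theorem N23302 : nd 23302 = n56072 := ndS (p := 21877) (l := 8) rfl N21877 D56072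
theorem N23303 : nd 23303 = n56073 := ndS (p := 21879) (l := 8) rfl N21879 D56073
theorem N23304 : nd 23304 = n56074 := ndS (p := 21881) (l := 9) rfl N21881 D56074
theorem N23305 : nd 23305 = n56075 := ndS (p := 21882) (l := 8) rfl N21882 D56075
theorem N23306 : nd 23306 = n56076 := ndS (p := 21883) (l := 3) rfl N21883 D56076
theorem N23307 : nd 23307 = n56077 := ndS (p := 21884) (l := 8) rfl N21884 D56077
theorem N23308 : nd 23308 = n56078 := ndS (p := 21885) (l := 3) rfl N21885 D56078
theorem N23309 : nd 23309 = n56079 := ndS (p := 21887) (l := 3) rfl N21887 D56079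
theorem N23310 : nd 23310 = n56080 := ndS (p := 21889) (l := 9) rfl N21889 D56080
theorem N23311 : nd 23311 = n56081 := ndS (p := 21890) (l := 8) rfl N21890 D56081
theorem N23312 : nd 23312 = n56082 := ndS (p := 21892) (l := 3) rfl N21892 D56082
theorem N23313 : nd 23313 = n56083 := ndS (p := 21893) (l := 3) rfl N21893 D56083
theorem N23314 : nd 23314 = n56084 := ndS (p := 21894) (l := 4) rfl N21894 D56084
theorem N23315 : nd 23315 = n56085 := ndS (p := 21895) (l := 9) rfl N21895 D56085
theorem N23316 : nd 23316 = n56086 := ndS (p := 21896) (l := 8) rfl N21896 D56086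
theorem N23317 : nd 23317 = n56087 := ndS (p := 21897) (l := 3) rfl N21897 D56087
theorem N23318 : nd 23318 = n56088 := ndS (p := 21898) (l := 2) rfl N21898 D56088
theorem N23319 : nd 23319 = n56089 := ndS (p := 21899) (l := 8) rfl N21899 D56089
theorem N23320 : nd 23320 = n56090 := ndS (p := 21900) (l := 3) rfl N21900 D56090
theorem N23321 : nd 23321 = n56091 := ndS (p := 21901) (l := 4) rfl N21901 D56091
theorem N23322 : nd 23322 = n56092 := ndS (p := 21902) (l := 3) rfl N21902 D56092
theorem N23323 : nd 23323 = n56093 := ndS (p := 21904) (l := 3) rfl N21904 D56093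
theorem N23324 : nd 23324 = n56094 := ndS (p := 21905) (l := 4) rfl N21905 D56094
theorem N23325 : nd 23325 = n56095 := ndS (p := 21909) (l := 4) rfl N21909 D56095
theorem N23326 : nd 23326 = n56096 := ndS (p := 21909) (l := 9) rfl N21909 D56096
theorem N23327 : nd 23327 = n56097 := ndS (p := 21910) (l := 3) rfl N21910 D56097
theorem N23328 : nd 23328 = n56098 := ndS (p := 21910) (l := 5) rfl N21910 D56098
theorem N23329 : nd 23329 = n56099 := ndS (p := 21910) (l := 9) rfl N21910 D56099
theorem N23330 : nd 23330 = n56100 := ndS (p := 21911) (l := 8) rfl N21911 D56100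
theorem N23331 : nd 23331 = n56101 := ndS (p := 21912) (l := 6) rfl N21912 D56101
theorem N23332 : nd 23332 = n56102 := ndS (p := 21912) (l := 9) rfl N21912 D56102
theorem N23333 : nd 23333 = n56103 := ndS (p := 21913) (l := 8) rfl N21913 D56103
theorem N23334 : nd 23334 = n56104 := ndS (p := 21915) (l := 4) rfl N21915 D56104
theorem N23335 : nd 23335 = n56105 := ndS (p := 21915) (l := 9) rfl N21915 D56105
theorem N23336 : nd 23336 = n56106 := ndS (p := 21916) (l := 9) rfl N21916 D56106
theorem N23337 : nd 23337 = n56107 := ndS (p := 21917) (l := 8) rfl N21917 D56107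
theorem N23338 : nd 23338 = n56108 := ndS (p := 21918) (l := 9) rfl N21918 D56108
theorem N23339 : nd 23339 = n56109 := ndS (p := 21919) (l := 9) rfl N21919 D56109
theorem N23340 : nd 23340 = n56110 := ndS (p := 21920) (l := 8) rfl N21920 D56110
theorem N23341 : nd 23341 = n56111 := ndS (p := 21921) (l := 3) rfl N21921 D56111
theorem N23342 : nd 23342 = n56112 := ndS (p := 21922) (l := 8) rfl N21922 D56112
theorem N23343 : nd 23343 = n56113 := ndS (p := 21923) (l := 3) rfl N21923 D56113
theorem N23344 : nd 23344 = n56114 := ndS (p := 21924) (l := 6) rfl N21924 D56114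
theorem N23345 : nd 23345 = n56115 := ndS (p := 21924) (l := 9) rfl N21924 D56115
theorem N23346 : nd 23346 = n56116 := ndS (p := 21925) (l := 8) rfl N21925 D56116
theorem N23347 : nd 23347 = n56117 := ndS (p := 21927) (l := 9) rfl N21927 D56117
theorem N23348 : nd 23348 = n56118 := ndS (p := 21928) (l := 8) rfl N21928 D56118
theorem N23349 : nd 23349 = n56119 := ndS (p := 21929) (l := 9) rfl N21929 D56119
theorem N23350 : nd 23350 = n56120 := ndS (p := 21930) (l := 8) rfl N21930 D56120
theorem N23351 : nd 23351 = n56121 := ndS (p := 21931) (l := 3) rfl N21931 D56121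
theorem N23352 : nd 23352 = n56122 := ndS (p := 21932) (l := 9) rfl N21932 D56122
theorem N23353 : nd 23353 = n56123 := ndS (p := 21933) (l := 8) rfl N21933 D56123
theorem N23354 : nd 23354 = n56124 := ndS (p := 21934) (l := 3) rfl N21934 D56124
theorem N23355 : nd 23355 = n56125 := ndS (p := 21935) (l := 9) rfl N21935 D56125
theorem N23356 : nd 23356 = n56126 := ndS (p := 21936) (l := 8) rfl N21936 D56126
theorem N23357 : nd 23357 = n56127 := ndS (p := 21937) (l := 3) rfl N21937 D56127
theorem N23358 : nd 23358 = n56128 := ndS (p := 21938) (l := 9) rfl N21938 D56128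
theorem N23359 : nd 23359 = n56129 := ndS (p := 21939) (l := 9) rfl N21939 D56129
theorem N23360 : nd 23360 = n56130 := ndS (p := 21940) (l := 8) rfl N21940 D56130
theorem N23361 : nd 23361 = n56131 := ndS (p := 21941) (l := 8) rfl N21941 D56131
theorem N23362 : nd 23362 = n56132 := ndS (p := 21942) (l := 3) rfl N21942 D56132
theorem N23363 : nd 23363 = n56133 := ndS (p := 21943) (l := 4) rfl N21943 D56133
theorem N23364 : nd 23364 = n56134 := ndS (p := 21944) (l := 9) rfl N21944 D56134
theorem N23365 : nd 23365 = n56135 := ndS (p := 21945) (l := 8) rfl N21945 D56135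
theorem N23366 : nd 23366 = n56136 := ndS (p := 21946) (l := 3) rfl N21946 D56136
theorem N23367 : nd 23367 = n56137 := ndS (p := 21947) (l := 2) rfl N21947 D56137
theorem N23368 : nd 23368 = n56138 := ndS (p := 21948) (l := 3) rfl N21948 D56138
theorem N23369 : nd 23369 = n56139 := ndS (p := 21949) (l := 4) rfl N21949 D56139
theorem N23370 : nd 23370 = n56140 := ndS (p := 21950) (l := 8) rfl N21950 D56140
theorem N23371 : nd 23371 = n56141 := ndS (p := 21951) (l := 3) rfl N21951 D56141
theorem N23372 : nd 23372 = n56142 := ndS (p := 21952) (l := 2) rfl N21952 D56142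
theorem N23373 : nd 23373 = n56143 := ndS (p := 21955) (l := 5) rfl N21955 D56143
theorem N23374 : nd 23374 = n56144 := ndS (p := 21956) (l := 8) rfl N21956 D56144
theorem N23375 : nd 23375 = n56145 := ndS (p := 21957) (l := 3) rfl N21957 D56145
theorem N23376 : nd 23376 = n56146 := ndS (p := 21958) (l := 2) rfl N21958 D56146
theorem N23377 : nd 23377 = n56147 := ndS (p := 21958) (l := 4) rfl N21958 D56147
theorem N23378 : nd 23378 = n56148 := ndS (p := 21960) (l := 3) rfl N21960 D56148
theorem N23379 : nd 23379 = n56149 := ndS (p := 21962) (l := 7) rfl N21962 D56149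
theorem N23380 : nd 23380 = n56150 := ndS (p := 21962) (l := 9) rfl N21962 D56150
theorem N23381 : nd 23381 = n56151 := ndS (p := 21963) (l := 8) rfl N21963 D56151
theorem N23382 : nd 23382 = n56152 := ndS (p := 21964) (l := 3) rfl N21964 D56152
theorem N23383 : nd 23383 = n56153 := ndS (p := 21965) (l := 9) rfl N21965 D56153
theorem N23384 : nd 23384 = n56154 := ndS (p := 21966) (l := 8) rfl N21966 D56154
theorem N23385 : nd 23385 = n56155 := ndS (p := 21967) (l := 8) rfl N21967 D56155
theorem N23386 : nd 23386 = n56156 := ndS (p := 21968) (l := 3) rfl N21968 D56156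
theorem N23387 : nd 23387 = n56157 := ndS (p := 21969) (l := 3) rfl N21969 D56157
theorem N23388 : nd 23388 = n56158 := ndS (p := 21970) (l := 4) rfl N21970 D56158
theorem N23389 : nd 23389 = n56159 := ndS (p := 21971) (l := 9) rfl N21971 D56159
theorem N23390 : nd 23390 = n56160 := ndS (p := 21972) (l := 8) rfl N21972 D56160
theorem N23391 : nd 23391 = n56161 := ndS (p := 21973) (l := 3) rfl N21973 D56161
theorem N23392 : nd 23392 = n56162 := ndS (p := 21974) (l := 2) rfl N21974 D56162
theorem N23393 : nd 23393 = n56163 := ndS (p := 21975) (l := 9) rfl N21975 D56163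
theorem N23394 : nd 23394 = n56164 := ndS (p := 21976) (l := 8) rfl N21976 D56164
theorem N23395 : nd 23395 = n56165 := ndS (p := 21977) (l := 3) rfl N21977 D56165
theorem N23396 : nd 23396 = n56166 := ndS (p := 21978) (l := 9) rfl N21978 D56166
theorem N23397 : nd 23397 = n56167 := ndS (p := 21979) (l := 8) rfl N21979 D56167
theorem N23398 : nd 23398 = n56168 := ndS (p := 21980) (l := 8) rfl N21980 D56168
theorem N23399 : nd 23399 = n56169 := ndS (p := 21981) (l := 3) rfl N21981 D56169
theorem N23400 : nd 23400 = n56170 := ndS (p := 21982) (l := 4) rfl N21982 D56170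
theorem N23401 : nd 23401 = n56171 := ndS (p := 21983) (l := 8) rfl N21983 D56171
theorem N23402 : nd 23402 = n56172 := ndS (p := 21984) (l := 3) rfl N21984 D56172
theorem N23403 : nd 23403 = n56173 := ndS (p := 21985) (l := 9) rfl N21985 D56173
theorem N23404 : nd 23404 = n56174 := ndS (p := 21986) (l := 8) rfl N21986 D56174
theorem N23405 : nd 23405 = n56175 := ndS (p := 21987) (l := 3) rfl N21987 D56175
theorem N23406 : nd 23406 = n56176 := ndS (p := 21988) (l := 2) rfl N21988 D56176
theorem N23407 : nd 23407 = n56177 := ndS (p := 21988) (l := 4) rfl N21988 D56177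
theorem N23408 : nd 23408 = n56178 := ndS (p := 21989) (l := 5) rfl N21989 D56178
theorem N23409 : nd 23409 = n56179 := ndS (p := 21990) (l := 8) rfl N21990 D56179
theorem N23410 : nd 23410 = n56180 := ndS (p := 21991) (l := 3) rfl N21991 D56180
theorem N23411 : nd 23411 = n56181 := ndS (p := 21992) (l := 2) rfl N21992 D56181
theorem N23412 : nd 23412 = n56182 := ndS (p := 21992) (l := 4) rfl N21992 D56182
theorem N23413 : nd 23413 = n56183 := ndS (p := 21993) (l := 1) rfl N21993 D56183
theorem N23414 : nd 23414 = n56184 := ndS (p := 21994) (l := 3) rfl N21994 D56184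
theorem N23415 : nd 23415 = n56185 := ndS (p := 21995) (l := 4) rfl N21995 D56185
theorem N23416 : nd 23416 = n56186 := ndS (p := 21996) (l := 5) rfl N21996 D56186
theorem N23417 : nd 23417 = n56187 := ndS (p := 21997) (l := 8) rfl N21997 D56187
theorem N23418 : nd 23418 = n56188 := ndS (p := 21998) (l := 3) rfl N21998 D56188
theorem N23419 : nd 23419 = n56189 := ndS (p := 21999) (l := 2) rfl N21999 D56189
theorem N23420 : nd 23420 = n56190 := ndS (p := 21999) (l := 4) rfl N21999 D56190
theorem N23421 : nd 23421 = n56191 := ndS (p := 22000) (l := 1) rfl N22000 D56191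
theorem N23422 : nd 23422 = n56192 := ndS (p := 22003) (l := 5) rfl N22003 D56192
theorem N23423 : nd 23423 = n56193 := ndS (p := 22004) (l := 8) rfl N22004 D56193
theorem N23424 : nd 23424 = n56194 := ndS (p := 22006) (l := 6) rfl N22006 D56194
theorem N23425 : nd 23425 = n56195 := ndS (p := 22007) (l := 3) rfl N22007 D56195
theorem N23426 : nd 23426 = n56196 := ndS (p := 22008) (l := 4) rfl N22008 D56196
theorem N23427 : nd 23427 = n56197 := ndS (p := 22009) (l := 1) rfl N22009 D56197
theorem N23428 : nd 23428 = n56198 := ndS (p := 22009) (l := 4) rfl N22009 D56198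
theorem N23429 : nd 23429 = n56199 := ndS (p := 22015) (l := 3) rfl N22015 D56199
theorem N23430 : nd 23430 = n56200 := ndS (p := 22016) (l := 4) rfl N22016 D56200
theorem N23431 : nd 23431 = n56201 := ndS (p := 22017) (l := 1) rfl N22017 D56201
theorem N23432 : nd 23432 = n56202 := ndS (p := 22017) (l := 4) rfl N22017 D56202
theorem N23433 : nd 23433 = n56203 := ndS (p := 22020) (l := 2) rfl N22020 D56203
theorem N23434 : nd 23434 = n56204 := ndS (p := 22020) (l := 4) rfl N22020 D56204
theorem N23435 : nd 23435 = n56205 := ndS (p := 22021) (l := 4) rfl N22021 D56205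
theorem N23436 : nd 23436 = n56206 := ndS (p := 22023) (l := 4) rfl N22023 D56206
theorem N23437 : nd 23437 = n56207 := ndS (p := 22024) (l := 3) rfl N22024 D56207
theorem N23438 : nd 23438 = n56208 := ndS (p := 22027) (l := 4) rfl N22027 D56208
theorem N23439 : nd 23439 = n56209 := ndS (p := 22028) (l := 5) rfl N22028 D56209
theorem N23440 : nd 23440 = n56210 := ndS (p := 22029) (l := 8) rfl N22029 D56210
theorem N23441 : nd 23441 = n56211 := ndS (p := 22030) (l := 3) rfl N22030 D56211
theorem N23442 : nd 23442 = n56212 := ndS (p := 22031) (l := 8) rfl N22031 D56212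
theorem N23443 : nd 23443 = n56213 := ndS (p := 22032) (l := 3) rfl N22032 D56213
theorem N23444 : nd 23444 = n56214 := ndS (p := 22033) (l := 4) rfl N22033 D56214
theorem N23445 : nd 23445 = n56215 := ndS (p := 22034) (l := 5) rfl N22034 D56215
theorem N23446 : nd 23446 = n56216 := ndS (p := 22035) (l := 3) rfl N22035 D56216
theorem N23447 : nd 23447 = n56217 := ndS (p := 22036) (l := 4) rfl N22036 D56217
theorem N23448 : nd 23448 = n56218 := ndS (p := 22037) (l := 5) rfl N22037 D56218
theorem N23449 : nd 23449 = n56219 := ndS (p := 22038) (l := 6) rfl N22038 D56219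
theorem N23450 : nd 23450 = n56220 := ndS (p := 22040) (l := 6) rfl N22040 D56220
theorem N23451 : nd 23451 = n56221 := ndS (p := 22045) (l := 3) rfl N22045 D56221
theorem N23452 : nd 23452 = n56222 := ndS (p := 22046) (l := 3) rfl N22046 D56222
theorem N23453 : nd 23453 = n56223 := ndS (p := 22050) (l := 3) rfl N22050 D56223
theorem N23454 : nd 23454 = n56224 := ndS (p := 22051) (l := 4) rfl N22051 D56224
theorem N23455 : nd 23455 = n56225 := ndS (p := 22052) (l := 3) rfl N22052 D56225
theorem N23456 : nd 23456 = n56226 := ndS (p := 22053) (l := 2) rfl N22053 D56226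
theorem N23457 : nd 23457 = n56227 := ndS (p := 22062) (l := 3) rfl N22062 D56227
theorem N23458 : nd 23458 = n56228 := ndS (p := 22064) (l := 4) rfl N22064 D56228
theorem N23459 : nd 23459 = n56229 := ndS (p := 22065) (l := 2) rfl N22065 D56229
theorem N23460 : nd 23460 = n56230 := ndS (p := 22067) (l := 2) rfl N22067 D56230
theorem N23461 : nd 23461 = n56231 := ndS (p := 22067) (l := 4) rfl N22067 D56231
theorem N23462 : nd 23462 = n56232 := ndS (p := 22068) (l := 2) rfl N22068 D56232
theorem N23463 : nd 23463 = n56233 := ndS (p := 22068) (l := 4) rfl N22068 D56233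
theorem N23464 : nd 23464 = n56234 := ndS (p := 22075) (l := 4) rfl N22075 D56234
theorem N23465 : nd 23465 = n56235 := ndS (p := 22082) (l := 4) rfl N22082 D56235
theorem N23466 : nd 23466 = n56236 := ndS (p := 22088) (l := 9) rfl N22088 D56236
theorem N23467 : nd 23467 = n56237 := ndS (p := 22089) (l := 8) rfl N22089 D56237
theorem N23468 : nd 23468 = n56238 := ndS (p := 22090) (l := 8) rfl N22090 D56238
theorem N23469 : nd 23469 = n56239 := ndS (p := 22093) (l := 9) rfl N22093 D56239
theorem N23470 : nd 23470 = n56240 := ndS (p := 22094) (l := 8) rfl N22094 D56240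
theorem N23471 : nd 23471 = n56241 := ndS (p := 22095) (l := 9) rfl N22095 D56241
theorem N23472 : nd 23472 = n56242 := ndS (p := 22096) (l := 8) rfl N22096 D56242
theorem N23473 : nd 23473 = n56243 := ndS (p := 22097) (l := 9) rfl N22097 D56243
theorem N23474 : nd 23474 = n56244 := ndS (p := 22098) (l := 8) rfl N22098 D56244
theorem N23475 : nd 23475 = n56245 := ndS (p := 22101) (l := 3) rfl N22101 D56245
theorem N23476 : nd 23476 = n56246 := ndS (p := 22102) (l := 8) rfl N22102 D56246
theorem N23477 : nd 23477 = n56247 := ndS (p := 22103) (l := 3) rfl N22103 D56247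
theorem N23478 : nd 23478 = n56248 := ndS (p := 22106) (l := 9) rfl N22106 D56248
theorem N23479 : nd 23479 = n56249 := ndS (p := 22107) (l := 8) rfl N22107 D56249
theorem N23480 : nd 23480 = n56250 := ndS (p := 22108) (l := 8) rfl N22108 D56250
theorem N23481 : nd 23481 = n56251 := ndS (p := 22110) (l := 8) rfl N22110 D56251
theorem N23482 : nd 23482 = n56252 := ndS (p := 22111) (l := 3) rfl N22111 D56252
theorem N23483 : nd 23483 = n56253 := ndS (p := 22112) (l := 8) rfl N22112 D56253
theorem N23484 : nd 23484 = n56254 := ndS (p := 22113) (l := 3) rfl N22113 D56254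
theorem N23485 : nd 23485 = n56255 := ndS (p := 22115) (l := 3) rfl N22115 D56255
theorem N23486 : nd 23486 = n56256 := ndS (p := 22117) (l := 4) rfl N22117 D56256
theorem N23487 : nd 23487 = n56257 := ndS (p := 22118) (l := 4) rfl N22118 D56257
theorem N23488 : nd 23488 = n56258 := ndS (p := 22119) (l := 3) rfl N22119 D56258
theorem N23489 : nd 23489 = n56259 := ndS (p := 22119) (l := 5) rfl N22119 D56259
theorem N23490 : nd 23490 = n56260 := ndS (p := 22119) (l := 9) rfl N22119 D56260
theorem N23491 : nd 23491 = n56261 := ndS (p := 22120) (l := 8) rfl N22120 D56261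
theorem N23492 : nd 23492 = n56262 := ndS (p := 22121) (l := 9) rfl N22121 D56262
theorem N23493 : nd 23493 = n56263 := ndS (p := 22122) (l := 8) rfl N22122 D56263
theorem N23494 : nd 23494 = n56264 := ndS (p := 22124) (l := 8) rfl N22124 D56264
theorem N23495 : nd 23495 = n56265 := ndS (p := 22126) (l := 9) rfl N22126 D56265
theorem N23496 : nd 23496 = n56266 := ndS (p := 22127) (l := 8) rfl N22127 D56266
theorem N23497 : nd 23497 = n56267 := ndS (p := 22128) (l := 9) rfl N22128 D56267
theorem N23498 : nd 23498 = n56268 := ndS (p := 22129) (l := 8) rfl N22129 D56268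
theorem N23499 : nd 23499 = n56269 := ndS (p := 22130) (l := 3) rfl N22130 D56269
theorem N23500 : nd 23500 = n56270 := ndS (p := 22131) (l := 9) rfl N22131 D56270
theorem N23501 : nd 23501 = n56271 := ndS (p := 22132) (l := 8) rfl N22132 D56271
theorem N23502 : nd 23502 = n56272 := ndS (p := 22133) (l := 3) rfl N22133 D56272
theorem N23503 : nd 23503 = n56273 := ndS (p := 22134) (l := 3) rfl N22134 D56273
theorem N23504 : nd 23504 = n56274 := ndS (p := 22135) (l := 4) rfl N22135 D56274
theorem N23505 : nd 23505 = n56275 := ndS (p := 22136) (l := 8) rfl N22136 D56275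
theorem N23506 : nd 23506 = n56276 := ndS (p := 22137) (l := 3) rfl N22137 D56276
theorem N23507 : nd 23507 = n56277 := ndS (p := 22138) (l := 2) rfl N22138 D56277
theorem N23508 : nd 23508 = n56278 := ndS (p := 22141) (l := 3) rfl N22141 D56278
theorem N23509 : nd 23509 = n56279 := ndS (p := 22144) (l := 8) rfl N22144 D56279
theorem N23510 : nd 23510 = n56280 := ndS (p := 22146) (l := 3) rfl N22146 D56280
theorem N23511 : nd 23511 = n56281 := ndS (p := 22147) (l := 8) rfl N22147 D56281
theorem N23512 : nd 23512 = n56282 := ndS (p := 22148) (l := 3) rfl N22148 D56282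
theorem N23513 : nd 23513 = n56283 := ndS (p := 22149) (l := 8) rfl N22149 D56283
theorem N23514 : nd 23514 = n56284 := ndS (p := 22150) (l := 3) rfl N22150 D56284
theorem N23515 : nd 23515 = n56285 := ndS (p := 22151) (l := 4) rfl N22151 D56285
theorem N23516 : nd 23516 = n56286 := ndS (p := 22152) (l := 8) rfl N22152 D56286
theorem N23517 : nd 23517 = n56287 := ndS (p := 22153) (l := 3) rfl N22153 D56287
theorem N23518 : nd 23518 = n56288 := ndS (p := 22154) (l := 2) rfl N22154 D56288
theorem N23519 : nd 23519 = n56289 := ndS (p := 22156) (l := 5) rfl N22156 D56289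
theorem N23520 : nd 23520 = n56290 := ndS (p := 22157) (l := 3) rfl N22157 D56290
theorem N23521 : nd 23521 = n56291 := ndS (p := 22158) (l := 2) rfl N22158 D56291
theorem N23522 : nd 23522 = n56292 := ndS (p := 22158) (l := 4) rfl N22158 D56292
theorem N23523 : nd 23523 = n56293 := ndS (p := 22162) (l := 4) rfl N22162 D56293
theorem N23524 : nd 23524 = n56294 := ndS (p := 22163) (l := 4) rfl N22163 D56294
theorem N23525 : nd 23525 = n56295 := ndS (p := 22165) (l := 4) rfl N22165 D56295
theorem N23526 : nd 23526 = n56296 := ndS (p := 22166) (l := 3) rfl N22166 D56296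
theorem N23527 : nd 23527 = n56297 := ndS (p := 22167) (l := 4) rfl N22167 D56297
theorem N23528 : nd 23528 = n56298 := ndS (p := 22168) (l := 5) rfl N22168 D56298
theorem N23529 : nd 23529 = n56299 := ndS (p := 22170) (l := 8) rfl N22170 D56299
theorem N23530 : nd 23530 = n56300 := ndS (p := 22172) (l := 8) rfl N22172 D56300
theorem N23531 : nd 23531 = n56301 := ndS (p := 22174) (l := 3) rfl N22174 D56301
theorem N23532 : nd 23532 = n56302 := ndS (p := 22174) (l := 9) rfl N22174 D56302
theorem N23533 : nd 23533 = n56303 := ndS (p := 22175) (l := 8) rfl N22175 D56303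
theorem N23534 : nd 23534 = n56304 := ndS (p := 22176) (l := 9) rfl N22176 D56304
theorem N23535 : nd 23535 = n56305 := ndS (p := 22177) (l := 8) rfl N22177 D56305
theorem N23536 : nd 23536 = n56306 := ndS (p := 22178) (l := 3) rfl N22178 D56306
theorem N23537 : nd 23537 = n56307 := ndS (p := 22179) (l := 3) rfl N22179 D56307
theorem N23538 : nd 23538 = n56308 := ndS (p := 22182) (l := 9) rfl N22182 D56308
theorem N23539 : nd 23539 = n56309 := ndS (p := 22183) (l := 8) rfl N22183 D56309
theorem N23540 : nd 23540 = n56310 := ndS (p := 22184) (l := 3) rfl N22184 D56310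
theorem N23541 : nd 23541 = n56311 := ndS (p := 22184) (l := 5) rfl N22184 D56311
theorem N23542 : nd 23542 = n56312 := ndS (p := 22184) (l := 9) rfl N22184 D56312
theorem N23543 : nd 23543 = n56313 := ndS (p := 22185) (l := 8) rfl N22185 D56313
theorem N23544 : nd 23544 = n56314 := ndS (p := 22186) (l := 9) rfl N22186 D56314
theorem N23545 : nd 23545 = n56315 := ndS (p := 22187) (l := 8) rfl N22187 D56315
theorem N23546 : nd 23546 = n56316 := ndS (p := 22189) (l := 9) rfl N22189 D56316
theorem N23547 : nd 23547 = n56317 := ndS (p := 22190) (l := 8) rfl N22190 D56317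
theorem N23548 : nd 23548 = n56318 := ndS (p := 22191) (l := 8) rfl N22191 D56318
theorem N23549 : nd 23549 = n56319 := ndS (p := 22193) (l := 9) rfl N22193 D56319
theorem N23550 : nd 23550 = n56320 := ndS (p := 22194) (l := 8) rfl N22194 D56320
theorem N23551 : nd 23551 = n56321 := ndS (p := 22195) (l := 9) rfl N22195 D56321
theorem N23552 : nd 23552 = n56322 := ndS (p := 22196) (l := 9) rfl N22196 D56322
theorem N23553 : nd 23553 = n56323 := ndS (p := 22197) (l := 8) rfl N22197 D56323
theorem N23554 : nd 23554 = n56324 := ndS (p := 22198) (l := 3) rfl N22198 D56324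
theorem N23555 : nd 23555 = n56325 := ndS (p := 22199) (l := 8) rfl N22199 D56325
theorem N23556 : nd 23556 = n56326 := ndS (p := 22200) (l := 3) rfl N22200 D56326
theorem N23557 : nd 23557 = n56327 := ndS (p := 22202) (l := 3) rfl N22202 D56327
theorem N23558 : nd 23558 = n56328 := ndS (p := 22203) (l := 8) rfl N22203 D56328
theorem N23559 : nd 23559 = n56329 := ndS (p := 22205) (l := 4) rfl N22205 D56329
theorem N23560 : nd 23560 = n56330 := ndS (p := 22206) (l := 3) rfl N22206 D56330
theorem N23561 : nd 23561 = n56331 := ndS (p := 22207) (l := 2) rfl N22207 D56331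
theorem N23562 : nd 23562 = n56332 := ndS (p := 22211) (l := 8) rfl N22211 D56332
theorem N23563 : nd 23563 = n56333 := ndS (p := 22213) (l := 8) rfl N22213 D56333
theorem N23564 : nd 23564 = n56334 := ndS (p := 22215) (l := 9) rfl N22215 D56334
theorem N23565 : nd 23565 = n56335 := ndS (p := 22216) (l := 8) rfl N22216 D56335
theorem N23566 : nd 23566 = n56336 := ndS (p := 22217) (l := 3) rfl N22217 D56336
theorem N23567 : nd 23567 = n56337 := ndS (p := 22218) (l := 8) rfl N22218 D56337
theorem N23568 : nd 23568 = n56338 := ndS (p := 22219) (l := 8) rfl N22219 D56338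
theorem N23569 : nd 23569 = n56339 := ndS (p := 22220) (l := 3) rfl N22220 D56339
theorem N23570 : nd 23570 = n56340 := ndS (p := 22221) (l := 8) rfl N22221 D56340
theorem N23571 : nd 23571 = n56341 := ndS (p := 22222) (l := 3) rfl N22222 D56341
theorem N23572 : nd 23572 = n56342 := ndS (p := 22223) (l := 4) rfl N22223 D56342
theorem N23573 : nd 23573 = n56343 := ndS (p := 22224) (l := 3) rfl N22224 D56343
theorem N23574 : nd 23574 = n56344 := ndS (p := 22225) (l := 2) rfl N22225 D56344
theorem N23575 : nd 23575 = n56345 := ndS (p := 22228) (l := 2) rfl N22228 D56345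
theorem N23576 : nd 23576 = n56346 := ndS (p := 22228) (l := 4) rfl N22228 D56346
theorem N23577 : nd 23577 = n56347 := ndS (p := 22229) (l := 3) rfl N22229 D56347
theorem N23578 : nd 23578 = n56348 := ndS (p := 22230) (l := 2) rfl N22230 D56348
theorem N23579 : nd 23579 = n56349 := ndS (p := 22230) (l := 4) rfl N22230 D56349
theorem N23580 : nd 23580 = n56350 := ndS (p := 22231) (l := 5) rfl N22231 D56350
theorem N23581 : nd 23581 = n56351 := ndS (p := 22232) (l := 2) rfl N22232 D56351
theorem N23582 : nd 23582 = n56352 := ndS (p := 22232) (l := 4) rfl N22232 D56352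
theorem N23583 : nd 23583 = n56353 := ndS (p := 22239) (l := 4) rfl N22239 D56353
theorem N23584 : nd 23584 = n56354 := ndS (p := 22241) (l := 2) rfl N22241 D56354
theorem N23585 : nd 23585 = n56355 := ndS (p := 22241) (l := 4) rfl N22241 D56355
theorem N23586 : nd 23586 = n56356 := ndS (p := 22242) (l := 5) rfl N22242 D56356
theorem N23587 : nd 23587 = n56357 := ndS (p := 22244) (l := 5) rfl N22244 D56357
theorem N23588 : nd 23588 = n56358 := ndS (p := 22246) (l := 3) rfl N22246 D56358
theorem N23589 : nd 23589 = n56359 := ndS (p := 22246) (l := 5) rfl N22246 D56359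
theorem N23590 : nd 23590 = n56360 := ndS (p := 22246) (l := 9) rfl N22246 D56360
theorem N23591 : nd 23591 = n56361 := ndS (p := 22247) (l := 8) rfl N22247 D56361
theorem N23592 : nd 23592 = n56362 := ndS (p := 22248) (l := 9) rfl N22248 D56362
theorem N23593 : nd 23593 = n56363 := ndS (p := 22249) (l := 8) rfl N22249 D56363
theorem N23594 : nd 23594 = n56364 := ndS (p := 22251) (l := 9) rfl N22251 D56364
theorem N23595 : nd 23595 = n56365 := ndS (p := 22252) (l := 8) rfl N22252 D56365
theorem N23596 : nd 23596 = n56366 := ndS (p := 22253) (l := 8) rfl N22253 D56366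
theorem N23597 : nd 23597 = n56367 := ndS (p := 22253) (l := 9) rfl N22253 D56367
theorem N23598 : nd 23598 = n56368 := ndS (p := 22254) (l := 9) rfl N22254 D56368
theorem N23599 : nd 23599 = n56369 := ndS (p := 22255) (l := 8) rfl N22255 D56369
theorem N23600 : nd 23600 = n56370 := ndS (p := 22256) (l := 3) rfl N22256 D56370
theorem N23601 : nd 23601 = n56371 := ndS (p := 22257) (l := 8) rfl N22257 D56371
theorem N23602 : nd 23602 = n56372 := ndS (p := 22258) (l := 3) rfl N22258 D56372
theorem N23603 : nd 23603 = n56373 := ndS (p := 22259) (l := 8) rfl N22259 D56373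
theorem N23604 : nd 23604 = n56374 := ndS (p := 22261) (l := 8) rfl N22261 D56374
theorem N23605 : nd 23605 = n56375 := ndS (p := 22261) (l := 9) rfl N22261 D56375
theorem N23606 : nd 23606 = n56376 := ndS (p := 22262) (l := 8) rfl N22262 D56376
theorem N23607 : nd 23607 = n56377 := ndS (p := 22263) (l := 3) rfl N22263 D56377
theorem N23608 : nd 23608 = n56378 := ndS (p := 22264) (l := 8) rfl N22264 D56378
theorem N23609 : nd 23609 = n56379 := ndS (p := 22265) (l := 3) rfl N22265 D56379
theorem N23610 : nd 23610 = n56380 := ndS (p := 22266) (l := 9) rfl N22266 D56380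
theorem N23611 : nd 23611 = n56381 := ndS (p := 22267) (l := 8) rfl N22267 D56381
theorem N23612 : nd 23612 = n56382 := ndS (p := 22268) (l := 3) rfl N22268 D56382
theorem N23613 : nd 23613 = n56383 := ndS (p := 22269) (l := 9) rfl N22269 D56383
theorem N23614 : nd 23614 = n56384 := ndS (p := 22270) (l := 8) rfl N22270 D56384
theorem N23615 : nd 23615 = n56385 := ndS (p := 22271) (l := 8) rfl N22271 D56385
theorem N23616 : nd 23616 = n56386 := ndS (p := 22272) (l := 3) rfl N22272 D56386
theorem N23617 : nd 23617 = n56387 := ndS (p := 22273) (l := 4) rfl N22273 D56387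
theorem N23618 : nd 23618 = n56388 := ndS (p := 22274) (l := 8) rfl N22274 D56388
theorem N23619 : nd 23619 = n56389 := ndS (p := 22275) (l := 3) rfl N22275 D56389
theorem N23620 : nd 23620 = n56390 := ndS (p := 22276) (l := 2) rfl N22276 D56390
theorem N23621 : nd 23621 = n56391 := ndS (p := 22278) (l := 3) rfl N22278 D56391
theorem N23622 : nd 23622 = n56392 := ndS (p := 22280) (l := 4) rfl N22280 D56392
theorem N23623 : nd 23623 = n56393 := ndS (p := 22281) (l := 3) rfl N22281 D56393
theorem N23624 : nd 23624 = n56394 := ndS (p := 22283) (l := 5) rfl N22283 D56394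
theorem N23625 : nd 23625 = n56395 := ndS (p := 22284) (l := 3) rfl N22284 D56395
theorem N23626 : nd 23626 = n56396 := ndS (p := 22285) (l := 2) rfl N22285 D56396
theorem N23627 : nd 23627 = n56397 := ndS (p := 22285) (l := 4) rfl N22285 D56397
theorem N23628 : nd 23628 = n56398 := ndS (p := 22289) (l := 8) rfl N22289 D56398
theorem N23629 : nd 23629 = n56399 := ndS (p := 22290) (l := 3) rfl N22290 D56399
theorem N23630 : nd 23630 = n56400 := ndS (p := 22291) (l := 8) rfl N22291 D56400
theorem N23631 : nd 23631 = n56401 := ndS (p := 22291) (l := 9) rfl N22291 D56401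
theorem N23632 : nd 23632 = n56402 := ndS (p := 22292) (l := 9) rfl N22292 D56402
theorem N23633 : nd 23633 = n56403 := ndS (p := 22293) (l := 8) rfl N22293 D56403
theorem N23634 : nd 23634 = n56404 := ndS (p := 22294) (l := 8) rfl N22294 D56404
theorem N23635 : nd 23635 = n56405 := ndS (p := 22295) (l := 3) rfl N22295 D56405
theorem N23636 : nd 23636 = n56406 := ndS (p := 22296) (l := 4) rfl N22296 D56406
theorem N23637 : nd 23637 = n56407 := ndS (p := 22297) (l := 3) rfl N22297 D56407
theorem N23638 : nd 23638 = n56408 := ndS (p := 22298) (l := 2) rfl N22298 D56408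
theorem N23639 : nd 23639 = n56409 := ndS (p := 22299) (l := 9) rfl N22299 D56409
theorem N23640 : nd 23640 = n56410 := ndS (p := 22300) (l := 8) rfl N22300 D56410
theorem N23641 : nd 23641 = n56411 := ndS (p := 22302) (l := 9) rfl N22302 D56411
theorem N23642 : nd 23642 = n56412 := ndS (p := 22303) (l := 9) rfl N22303 D56412
theorem N23643 : nd 23643 = n56413 := ndS (p := 22304) (l := 8) rfl N22304 D56413
theorem N23644 : nd 23644 = n56414 := ndS (p := 22305) (l := 8) rfl N22305 D56414
theorem N23645 : nd 23645 = n56415 := ndS (p := 22306) (l := 3) rfl N22306 D56415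
theorem N23646 : nd 23646 = n56416 := ndS (p := 22307) (l := 4) rfl N22307 D56416
theorem N23647 : nd 23647 = n56417 := ndS (p := 22308) (l := 9) rfl N22308 D56417
theorem N23648 : nd 23648 = n56418 := ndS (p := 22309) (l := 8) rfl N22309 D56418
theorem N23649 : nd 23649 = n56419 := ndS (p := 22310) (l := 8) rfl N22310 D56419
theorem N23650 : nd 23650 = n56420 := ndS (p := 22311) (l := 3) rfl N22311 D56420
theorem N23651 : nd 23651 = n56421 := ndS (p := 22312) (l := 8) rfl N22312 D56421
theorem N23652 : nd 23652 = n56422 := ndS (p := 22313) (l := 3) rfl N22313 D56422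
theorem N23653 : nd 23653 = n56423 := ndS (p := 22314) (l := 2) rfl N22314 D56423
theorem N23654 : nd 23654 = n56424 := ndS (p := 22314) (l := 4) rfl N22314 D56424
theorem N23655 : nd 23655 = n56425 := ndS (p := 22315) (l := 5) rfl N22315 D56425
theorem N23656 : nd 23656 = n56426 := ndS (p := 22316) (l := 8) rfl N22316 D56426
theorem N23657 : nd 23657 = n56427 := ndS (p := 22317) (l := 3) rfl N22317 D56427
theorem N23658 : nd 23658 = n56428 := ndS (p := 22318) (l := 2) rfl N22318 D56428
theorem N23659 : nd 23659 = n56429 := ndS (p := 22318) (l := 4) rfl N22318 D56429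
theorem N23660 : nd 23660 = n56430 := ndS (p := 22319) (l := 1) rfl N22319 D56430
theorem N23661 : nd 23661 = n56431 := ndS (p := 22320) (l := 3) rfl N22320 D56431
theorem N23662 : nd 23662 = n56432 := ndS (p := 22322) (l := 4) rfl N22322 D56432
theorem N23663 : nd 23663 = n56433 := ndS (p := 22323) (l := 3) rfl N22323 D56433
theorem N23664 : nd 23664 = n56434 := ndS (p := 22324) (l := 4) rfl N22324 D56434
theorem N23665 : nd 23665 = n56435 := ndS (p := 22325) (l := 5) rfl N22325 D56435
theorem N23666 : nd 23666 = n56436 := ndS (p := 22326) (l := 3) rfl N22326 D56436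
theorem N23667 : nd 23667 = n56437 := ndS (p := 22327) (l := 2) rfl N22327 D56437
theorem N23668 : nd 23668 = n56438 := ndS (p := 22327) (l := 4) rfl N22327 D56438
theorem N23669 : nd 23669 = n56439 := ndS (p := 22329) (l := 5) rfl N22329 D56439
theorem N23670 : nd 23670 = n56440 := ndS (p := 22330) (l := 6) rfl N22330 D56440
theorem N23671 : nd 23671 = n56441 := ndS (p := 22332) (l := 4) rfl N22332 D56441
theorem N23672 : nd 23672 = n56442 := ndS (p := 22333) (l := 4) rfl N22333 D56442
theorem N23673 : nd 23673 = n56443 := ndS (p := 22339) (l := 4) rfl N22339 D56443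
theorem N23674 : nd 23674 = n56444 := ndS (p := 22341) (l := 4) rfl N22341 D56444
theorem N23675 : nd 23675 = n56445 := ndS (p := 22342) (l := 3) rfl N22342 D56445
theorem N23676 : nd 23676 = n56446 := ndS (p := 22343) (l := 8) rfl N22343 D56446
theorem N23677 : nd 23677 = n56447 := ndS (p := 22344) (l := 3) rfl N22344 D56447
theorem N23678 : nd 23678 = n56448 := ndS (p := 22345) (l := 4) rfl N22345 D56448
theorem N23679 : nd 23679 = n56449 := ndS (p := 22347) (l := 8) rfl N22347 D56449
theorem N23680 : nd 23680 = n56450 := ndS (p := 22348) (l := 3) rfl N22348 D56450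
theorem N23681 : nd 23681 = n56451 := ndS (p := 22349) (l := 8) rfl N22349 D56451
theorem N23682 : nd 23682 = n56452 := ndS (p := 22350) (l := 3) rfl N22350 D56452
theorem N23683 : nd 23683 = n56453 := ndS (p := 22351) (l := 4) rfl N22351 D56453
theorem N23684 : nd 23684 = n56454 := ndS (p := 22353) (l := 3) rfl N22353 D56454
theorem N23685 : nd 23685 = n56455 := ndS (p := 22354) (l := 2) rfl N22354 D56455
theorem N23686 : nd 23686 = n56456 := ndS (p := 22354) (l := 4) rfl N22354 D56456
theorem N23687 : nd 23687 = n56457 := ndS (p := 22355) (l := 4) rfl N22355 D56457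
theorem N23688 : nd 23688 = n56458 := ndS (p := 22356) (l := 5) rfl N22356 D56458
theorem N23689 : nd 23689 = n56459 := ndS (p := 22358) (l := 8) rfl N22358 D56459
theorem N23690 : nd 23690 = n56460 := ndS (p := 22360) (l := 8) rfl N22360 D56460
theorem N23691 : nd 23691 = n56461 := ndS (p := 22361) (l := 3) rfl N22361 D56461
theorem N23692 : nd 23692 = n56462 := ndS (p := 22362) (l := 3) rfl N22362 D56462
theorem N23693 : nd 23693 = n56463 := ndS (p := 22363) (l := 3) rfl N22363 D56463
theorem N23694 : nd 23694 = n56464 := ndS (p := 22365) (l := 8) rfl N22365 D56464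
theorem N23695 : nd 23695 = n56465 := ndS (p := 22367) (l := 3) rfl N22367 D56465
theorem N23696 : nd 23696 = n56466 := ndS (p := 22368) (l := 3) rfl N22368 D56466
theorem N23697 : nd 23697 = n56467 := ndS (p := 22369) (l := 2) rfl N22369 D56467
theorem N23698 : nd 23698 = n56468 := ndS (p := 22371) (l := 4) rfl N22371 D56468
theorem N23699 : nd 23699 = n56469 := ndS (p := 22373) (l := 9) rfl N22373 D56469
theorem N23700 : nd 23700 = n56470 := ndS (p := 22374) (l := 8) rfl N22374 D56470
theorem N23701 : nd 23701 = n56471 := ndS (p := 22376) (l := 8) rfl N22376 D56471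
theorem N23702 : nd 23702 = n56472 := ndS (p := 22377) (l := 3) rfl N22377 D56472
theorem N23703 : nd 23703 = n56473 := ndS (p := 22378) (l := 8) rfl N22378 D56473
theorem N23704 : nd 23704 = n56474 := ndS (p := 22379) (l := 3) rfl N22379 D56474
theorem N23705 : nd 23705 = n56475 := ndS (p := 22380) (l := 9) rfl N22380 D56475
theorem N23706 : nd 23706 = n56476 := ndS (p := 22381) (l := 8) rfl N22381 D56476
theorem N23707 : nd 23707 = n56477 := ndS (p := 22383) (l := 8) rfl N22383 D56477
theorem N23708 : nd 23708 = n56478 := ndS (p := 22384) (l := 3) rfl N22384 D56478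
theorem N23709 : nd 23709 = n56479 := ndS (p := 22385) (l := 3) rfl N22385 D56479
theorem N23710 : nd 23710 = n56480 := ndS (p := 22386) (l := 2) rfl N22386 D56480
theorem N23711 : nd 23711 = n56481 := ndS (p := 22387) (l := 3) rfl N22387 D56481
theorem N23712 : nd 23712 = n56482 := ndS (p := 22389) (l := 4) rfl N22389 D56482
theorem N23713 : nd 23713 = n56483 := ndS (p := 22390) (l := 8) rfl N22390 D56483
theorem N23714 : nd 23714 = n56484 := ndS (p := 22392) (l := 8) rfl N22392 D56484
theorem N23715 : nd 23715 = n56485 := ndS (p := 22393) (l := 3) rfl N22393 D56485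
theorem N23716 : nd 23716 = n56486 := ndS (p := 22394) (l := 3) rfl N22394 D56486
theorem N23717 : nd 23717 = n56487 := ndS (p := 22395) (l := 3) rfl N22395 D56487
theorem N23718 : nd 23718 = n56488 := ndS (p := 22396) (l := 2) rfl N22396 D56488
theorem N23719 : nd 23719 = n56489 := ndS (p := 22397) (l := 3) rfl N22397 D56489
theorem N23720 : nd 23720 = n56490 := ndS (p := 22398) (l := 3) rfl N22398 D56490
theorem N23721 : nd 23721 = n56491 := ndS (p := 22399) (l := 3) rfl N22399 D56491
theorem N23722 : nd 23722 = n56492 := ndS (p := 22400) (l := 2) rfl N22400 D56492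
theorem N23723 : nd 23723 = n56493 := ndS (p := 22401) (l := 8) rfl N22401 D56493
theorem N23724 : nd 23724 = n56494 := ndS (p := 22402) (l := 3) rfl N22402 D56494
theorem N23725 : nd 23725 = n56495 := ndS (p := 22403) (l := 2) rfl N22403 D56495
theorem N23726 : nd 23726 = n56496 := ndS (p := 22403) (l := 4) rfl N22403 D56496
theorem N23727 : nd 23727 = n56497 := ndS (p := 22404) (l := 1) rfl N22404 D56497
theorem N23728 : nd 23728 = n56498 := ndS (p := 22405) (l := 4) rfl N22405 D56498
theorem N23729 : nd 23729 = n56499 := ndS (p := 22406) (l := 3) rfl N22406 D56499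
theorem N23730 : nd 23730 = n56500 := ndS (p := 22407) (l := 4) rfl N22407 D56500
theorem N23731 : nd 23731 = n56501 := ndS (p := 22408) (l := 4) rfl N22408 D56501
theorem N23732 : nd 23732 = n56502 := ndS (p := 22411) (l := 4) rfl N22411 D56502
theorem N23733 : nd 23733 = n56503 := ndS (p := 22413) (l := 4) rfl N22413 D56503
theorem N23734 : nd 23734 = n56504 := ndS (p := 22415) (l := 3) rfl N22415 D56504
theorem N23735 : nd 23735 = n56505 := ndS (p := 22416) (l := 8) rfl N22416 D56505
theorem N23736 : nd 23736 = n56506 := ndS (p := 22418) (l := 3) rfl N22418 D56506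
theorem N23737 : nd 23737 = n56507 := ndS (p := 22419) (l := 8) rfl N22419 D56507
theorem N23738 : nd 23738 = n56508 := ndS (p := 22421) (l := 8) rfl N22421 D56508
theorem N23739 : nd 23739 = n56509 := ndS (p := 22422) (l := 3) rfl N22422 D56509
theorem N23740 : nd 23740 = n56510 := ndS (p := 22423) (l := 3) rfl N22423 D56510
theorem N23741 : nd 23741 = n56511 := ndS (p := 22424) (l := 8) rfl N22424 D56511
theorem N23742 : nd 23742 = n56512 := ndS (p := 22425) (l := 3) rfl N22425 D56512
theorem N23743 : nd 23743 = n56513 := ndS (p := 22426) (l := 4) rfl N22426 D56513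
theorem N23744 : nd 23744 = n56514 := ndS (p := 22427) (l := 2) rfl N22427 D56514
theorem N23745 : nd 23745 = n56515 := ndS (p := 22429) (l := 9) rfl N22429 D56515
theorem N23746 : nd 23746 = n56516 := ndS (p := 22430) (l := 8) rfl N22430 D56516
theorem N23747 : nd 23747 = n56517 := ndS (p := 22432) (l := 9) rfl N22432 D56517
theorem N23748 : nd 23748 = n56518 := ndS (p := 22433) (l := 8) rfl N22433 D56518
theorem N23749 : nd 23749 = n56519 := ndS (p := 22434) (l := 3) rfl N22434 D56519
theorem N23750 : nd 23750 = n56520 := ndS (p := 22435) (l := 8) rfl N22435 D56520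
theorem N23751 : nd 23751 = n56521 := ndS (p := 22436) (l := 3) rfl N22436 D56521
theorem N23752 : nd 23752 = n56522 := ndS (p := 22437) (l := 9) rfl N22437 D56522
theorem N23753 : nd 23753 = n56523 := ndS (p := 22438) (l := 8) rfl N22438 D56523
theorem N23754 : nd 23754 = n56524 := ndS (p := 22440) (l := 9) rfl N22440 D56524
theorem N23755 : nd 23755 = n56525 := ndS (p := 22441) (l := 8) rfl N22441 D56525
theorem N23756 : nd 23756 = n56526 := ndS (p := 22442) (l := 3) rfl N22442 D56526
theorem N23757 : nd 23757 = n56527 := ndS (p := 22443) (l := 3) rfl N22443 D56527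
theorem N23758 : nd 23758 = n56528 := ndS (p := 22444) (l := 2) rfl N22444 D56528
theorem N23759 : nd 23759 = n56529 := ndS (p := 22445) (l := 8) rfl N22445 D56529
theorem N23760 : nd 23760 = n56530 := ndS (p := 22446) (l := 3) rfl N22446 D56530
theorem N23761 : nd 23761 = n56531 := ndS (p := 22447) (l := 2) rfl N22447 D56531
theorem N23762 : nd 23762 = n56532 := ndS (p := 22448) (l := 2) rfl N22448 D56532
theorem N23763 : nd 23763 = n56533 := ndS (p := 22448) (l := 4) rfl N22448 D56533
theorem N23764 : nd 23764 = n56534 := ndS (p := 22450) (l := 9) rfl N22450 D56534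
theorem N23765 : nd 23765 = n56535 := ndS (p := 22451) (l := 8) rfl N22451 D56535
theorem N23766 : nd 23766 = n56536 := ndS (p := 22453) (l := 8) rfl N22453 D56536
theorem N23767 : nd 23767 = n56537 := ndS (p := 22454) (l := 3) rfl N22454 D56537
theorem N23768 : nd 23768 = n56538 := ndS (p := 22455) (l := 9) rfl N22455 D56538
theorem N23769 : nd 23769 = n56539 := ndS (p := 22456) (l := 8) rfl N22456 D56539
theorem N23770 : nd 23770 = n56540 := ndS (p := 22457) (l := 9) rfl N22457 D56540
theorem N23771 : nd 23771 = n56541 := ndS (p := 22458) (l := 8) rfl N22458 D56541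
theorem N23772 : nd 23772 = n56542 := ndS (p := 22459) (l := 3) rfl N22459 D56542
theorem N23773 : nd 23773 = n56543 := ndS (p := 22460) (l := 8) rfl N22460 D56543
theorem N23774 : nd 23774 = n56544 := ndS (p := 22461) (l := 3) rfl N22461 D56544
theorem N23775 : nd 23775 = n56545 := ndS (p := 22462) (l := 2) rfl N22462 D56545
theorem N23776 : nd 23776 = n56546 := ndS (p := 22463) (l := 9) rfl N22463 D56546
theorem N23777 : nd 23777 = n56547 := ndS (p := 22464) (l := 8) rfl N22464 D56547
theorem N23778 : nd 23778 = n56548 := ndS (p := 22465) (l := 3) rfl N22465 D56548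
theorem N23779 : nd 23779 = n56549 := ndS (p := 22466) (l := 9) rfl N22466 D56549
theorem N23780 : nd 23780 = n56550 := ndS (p := 22467) (l := 8) rfl N22467 D56550
theorem N23781 : nd 23781 = n56551 := ndS (p := 22468) (l := 8) rfl N22468 D56551
theorem N23782 : nd 23782 = n56552 := ndS (p := 22469) (l := 3) rfl N22469 D56552
theorem N23783 : nd 23783 = n56553 := ndS (p := 22470) (l := 3) rfl N22470 D56553
theorem N23784 : nd 23784 = n56554 := ndS (p := 22471) (l := 2) rfl N22471 D56554
theorem N23785 : nd 23785 = n56555 := ndS (p := 22472) (l := 2) rfl N22472 D56555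
theorem N23786 : nd 23786 = n56556 := ndS (p := 22472) (l := 4) rfl N22472 D56556
theorem N23787 : nd 23787 = n56557 := ndS (p := 22473) (l := 1) rfl N22473 D56557
theorem N23788 : nd 23788 = n56558 := ndS (p := 22474) (l := 8) rfl N22474 D56558
theorem N23789 : nd 23789 = n56559 := ndS (p := 22475) (l := 3) rfl N22475 D56559
theorem N23790 : nd 23790 = n56560 := ndS (p := 22476) (l := 2) rfl N22476 D56560
theorem N23791 : nd 23791 = n56561 := ndS (p := 22477) (l := 3) rfl N22477 D56561
theorem N23792 : nd 23792 = n56562 := ndS (p := 22478) (l := 2) rfl N22478 D56562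
theorem N23793 : nd 23793 = n56563 := ndS (p := 22478) (l := 4) rfl N22478 D56563
theorem N23794 : nd 23794 = n56564 := ndS (p := 22480) (l := 2) rfl N22480 D56564
theorem N23795 : nd 23795 = n56565 := ndS (p := 22480) (l := 4) rfl N22480 D56565
theorem N23796 : nd 23796 = n56566 := ndS (p := 22482) (l := 4) rfl N22482 D56566
theorem N23797 : nd 23797 = n56567 := ndS (p := 22484) (l := 2) rfl N22484 D56567
theorem N23798 : nd 23798 = n56568 := ndS (p := 22484) (l := 4) rfl N22484 D56568
theorem N23799 : nd 23799 = n56569 := ndS (p := 22485) (l := 4) rfl N22485 D56569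
theorem N23800 : nd 23800 = n56570 := ndS (p := 22487) (l := 3) rfl N22487 D56570
theorem N23801 : nd 23801 = n56571 := ndS (p := 22489) (l := 8) rfl N22489 D56571
theorem N23802 : nd 23802 = n56572 := ndS (p := 22490) (l := 8) rfl N22490 D56572
theorem N23803 : nd 23803 = n56573 := ndS (p := 22493) (l := 8) rfl N22493 D56573
theorem N23804 : nd 23804 = n56574 := ndS (p := 22495) (l := 9) rfl N22495 D56574
theorem N23805 : nd 23805 = n56575 := ndS (p := 22496) (l := 8) rfl N22496 D56575
theorem N23806 : nd 23806 = n56576 := ndS (p := 22497) (l := 9) rfl N22497 D56576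
theorem N23807 : nd 23807 = n56577 := ndS (p := 22498) (l := 8) rfl N22498 D56577
theorem N23808 : nd 23808 = n56578 := ndS (p := 22499) (l := 3) rfl N22499 D56578
theorem N23809 : nd 23809 = n56579 := ndS (p := 22500) (l := 9) rfl N22500 D56579
theorem N23810 : nd 23810 = n56580 := ndS (p := 22501) (l := 8) rfl N22501 D56580
theorem N23811 : nd 23811 = n56581 := ndS (p := 22502) (l := 3) rfl N22502 D56581
theorem N23812 : nd 23812 = n56582 := ndS (p := 22503) (l := 9) rfl N22503 D56582
theorem N23813 : nd 23813 = n56583 := ndS (p := 22504) (l := 8) rfl N22504 D56583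
theorem N23814 : nd 23814 = n56584 := ndS (p := 22505) (l := 9) rfl N22505 D56584
theorem N23815 : nd 23815 = n56585 := ndS (p := 22506) (l := 9) rfl N22506 D56585
theorem N23816 : nd 23816 = n56586 := ndS (p := 22507) (l := 8) rfl N22507 D56586
theorem N23817 : nd 23817 = n56587 := ndS (p := 22508) (l := 3) rfl N22508 D56587
theorem N23818 : nd 23818 = n56588 := ndS (p := 22509) (l := 9) rfl N22509 D56588
theorem N23819 : nd 23819 = n56589 := ndS (p := 22510) (l := 9) rfl N22510 D56589
theorem N23820 : nd 23820 = n56590 := ndS (p := 22511) (l := 8) rfl N22511 D56590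
theorem N23821 : nd 23821 = n56591 := ndS (p := 22512) (l := 9) rfl N22512 D56591
theorem N23822 : nd 23822 = n56592 := ndS (p := 22513) (l := 8) rfl N22513 D56592
theorem N23823 : nd 23823 = n56593 := ndS (p := 22514) (l := 3) rfl N22514 D56593
theorem N23824 : nd 23824 = n56594 := ndS (p := 22515) (l := 4) rfl N22515 D56594
theorem N23825 : nd 23825 = n56595 := ndS (p := 22516) (l := 8) rfl N22516 D56595
theorem N23826 : nd 23826 = n56596 := ndS (p := 22517) (l := 3) rfl N22517 D56596
theorem N23827 : nd 23827 = n56597 := ndS (p := 22518) (l := 2) rfl N22518 D56597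
theorem N23828 : nd 23828 = n56598 := ndS (p := 22519) (l := 8) rfl N22519 D56598
theorem N23829 : nd 23829 = n56599 := ndS (p := 22521) (l := 9) rfl N22521 D56599
theorem N23830 : nd 23830 = n56600 := ndS (p := 22522) (l := 8) rfl N22522 D56600
theorem N23831 : nd 23831 = n56601 := ndS (p := 22523) (l := 3) rfl N22523 D56601
theorem N23832 : nd 23832 = n56602 := ndS (p := 22524) (l := 8) rfl N22524 D56602
theorem N23833 : nd 23833 = n56603 := ndS (p := 22526) (l := 9) rfl N22526 D56603
theorem N23834 : nd 23834 = n56604 := ndS (p := 22527) (l := 8) rfl N22527 D56604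
theorem N23835 : nd 23835 = n56605 := ndS (p := 22528) (l := 3) rfl N22528 D56605
theorem N23836 : nd 23836 = n56606 := ndS (p := 22529) (l := 9) rfl N22529 D56606
theorem N23837 : nd 23837 = n56607 := ndS (p := 22530) (l := 8) rfl N22530 D56607
theorem N23838 : nd 23838 = n56608 := ndS (p := 22531) (l := 3) rfl N22531 D56608
theorem N23839 : nd 23839 = n56609 := ndS (p := 22532) (l := 2) rfl N22532 D56609
theorem N23840 : nd 23840 = n56610 := ndS (p := 22533) (l := 8) rfl N22533 D56610
theorem N23841 : nd 23841 = n56611 := ndS (p := 22534) (l := 3) rfl N22534 D56611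
theorem N23842 : nd 23842 = n56612 := ndS (p := 22535) (l := 9) rfl N22535 D56612
theorem N23843 : nd 23843 = n56613 := ndS (p := 22536) (l := 8) rfl N22536 D56613
theorem N23844 : nd 23844 = n56614 := ndS (p := 22537) (l := 8) rfl N22537 D56614
theorem N23845 : nd 23845 = n56615 := ndS (p := 22538) (l := 3) rfl N22538 D56615
theorem N23846 : nd 23846 = n56616 := ndS (p := 22539) (l := 8) rfl N22539 D56616
theorem N23847 : nd 23847 = n56617 := ndS (p := 22540) (l := 3) rfl N22540 D56617
theorem N23848 : nd 23848 = n56618 := ndS (p := 22541) (l := 2) rfl N22541 D56618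
theorem N23849 : nd 23849 = n56619 := ndS (p := 22542) (l := 8) rfl N22542 D56619
theorem N23850 : nd 23850 = n56620 := ndS (p := 22543) (l := 3) rfl N22543 D56620
theorem N23851 : nd 23851 = n56621 := ndS (p := 22544) (l := 2) rfl N22544 D56621
theorem N23852 : nd 23852 = n56622 := ndS (p := 22544) (l := 4) rfl N22544 D56622
theorem N23853 : nd 23853 = n56623 := ndS (p := 22545) (l := 1) rfl N22545 D56623
theorem N23854 : nd 23854 = n56624 := ndS (p := 22546) (l := 8) rfl N22546 D56624
theorem N23855 : nd 23855 = n56625 := ndS (p := 22547) (l := 3) rfl N22547 D56625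
theorem N23856 : nd 23856 = n56626 := ndS (p := 22549) (l := 8) rfl N22549 D56626
theorem N23857 : nd 23857 = n56627 := ndS (p := 22550) (l := 3) rfl N22550 D56627
theorem N23858 : nd 23858 = n56628 := ndS (p := 22551) (l := 2) rfl N22551 D56628
theorem N23859 : nd 23859 = n56629 := ndS (p := 22551) (l := 4) rfl N22551 D56629
theorem N23860 : nd 23860 = n56630 := ndS (p := 22552) (l := 1) rfl N22552 D56630
theorem N23861 : nd 23861 = n56631 := ndS (p := 22553) (l := 8) rfl N22553 D56631
theorem N23862 : nd 23862 = n56632 := ndS (p := 22555) (l := 4) rfl N22555 D56632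
theorem N23863 : nd 23863 = n56633 := ndS (p := 22556) (l := 3) rfl N22556 D56633
theorem N23864 : nd 23864 = n56634 := ndS (p := 22557) (l := 2) rfl N22557 D56634
theorem N23865 : nd 23865 = n56635 := ndS (p := 22557) (l := 4) rfl N22557 D56635
theorem N23866 : nd 23866 = n56636 := ndS (p := 22558) (l := 1) rfl N22558 D56636
theorem N23867 : nd 23867 = n56637 := ndS (p := 22558) (l := 4) rfl N22558 D56637
theorem N23868 : nd 23868 = n56638 := ndS (p := 22562) (l := 2) rfl N22562 D56638
theorem N23869 : nd 23869 = n56639 := ndS (p := 22564) (l := 8) rfl N22564 D56639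
theorem N23870 : nd 23870 = n56640 := ndS (p := 22566) (l := 8) rfl N22566 D56640
theorem N23871 : nd 23871 = n56641 := ndS (p := 22567) (l := 9) rfl N22567 D56641
theorem N23872 : nd 23872 = n56642 := ndS (p := 22568) (l := 8) rfl N22568 D56642
theorem N23873 : nd 23873 = n56643 := ndS (p := 22569) (l := 3) rfl N22569 D56643
theorem N23874 : nd 23874 = n56644 := ndS (p := 22570) (l := 4) rfl N22570 D56644
theorem N23875 : nd 23875 = n56645 := ndS (p := 22571) (l := 8) rfl N22571 D56645
theorem N23876 : nd 23876 = n56646 := ndS (p := 22572) (l := 3) rfl N22572 D56646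
theorem N23877 : nd 23877 = n56647 := ndS (p := 22573) (l := 2) rfl N22573 D56647
theorem N23878 : nd 23878 = n56648 := ndS (p := 22574) (l := 8) rfl N22574 D56648
theorem N23879 : nd 23879 = n56649 := ndS (p := 22576) (l := 9) rfl N22576 D56649
theorem N23880 : nd 23880 = n56650 := ndS (p := 22578) (l := 8) rfl N22578 D56650
theorem N23881 : nd 23881 = n56651 := ndS (p := 22579) (l := 3) rfl N22579 D56651
theorem N23882 : nd 23882 = n56652 := ndS (p := 22581) (l := 9) rfl N22581 D56652
theorem N23883 : nd 23883 = n56653 := ndS (p := 22582) (l := 9) rfl N22582 D56653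
theorem N23884 : nd 23884 = n56654 := ndS (p := 22583) (l := 8) rfl N22583 D56654
theorem N23885 : nd 23885 = n56655 := ndS (p := 22584) (l := 8) rfl N22584 D56655
theorem N23886 : nd 23886 = n56656 := ndS (p := 22585) (l := 3) rfl N22585 D56656
theorem N23887 : nd 23887 = n56657 := ndS (p := 22586) (l := 9) rfl N22586 D56657
theorem N23888 : nd 23888 = n56658 := ndS (p := 22587) (l := 8) rfl N22587 D56658
theorem N23889 : nd 23889 = n56659 := ndS (p := 22588) (l := 3) rfl N22588 D56659
theorem N23890 : nd 23890 = n56660 := ndS (p := 22589) (l := 2) rfl N22589 D56660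
theorem N23891 : nd 23891 = n56661 := ndS (p := 22589) (l := 4) rfl N22589 D56661
theorem N23892 : nd 23892 = n56662 := ndS (p := 22591) (l := 8) rfl N22591 D56662
theorem N23893 : nd 23893 = n56663 := ndS (p := 22592) (l := 3) rfl N22592 D56663
theorem N23894 : nd 23894 = n56664 := ndS (p := 22593) (l := 2) rfl N22593 D56664
theorem N23895 : nd 23895 = n56665 := ndS (p := 22593) (l := 4) rfl N22593 D56665
theorem N23896 : nd 23896 = n56666 := ndS (p := 22594) (l := 1) rfl N22594 D56666
theorem N23897 : nd 23897 = n56667 := ndS (p := 22595) (l := 3) rfl N22595 D56667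
theorem N23898 : nd 23898 = n56668 := ndS (p := 22596) (l := 9) rfl N22596 D56668
theorem N23899 : nd 23899 = n56669 := ndS (p := 22597) (l := 8) rfl N22597 D56669
theorem N23900 : nd 23900 = n56670 := ndS (p := 22598) (l := 3) rfl N22598 D56670
theorem N23901 : nd 23901 = n56671 := ndS (p := 22599) (l := 8) rfl N22599 D56671
theorem N23902 : nd 23902 = n56672 := ndS (p := 22600) (l := 3) rfl N22600 D56672
theorem N23903 : nd 23903 = n56673 := ndS (p := 22601) (l := 2) rfl N22601 D56673
theorem N23904 : nd 23904 = n56674 := ndS (p := 22601) (l := 4) rfl N22601 D56674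
theorem N23905 : nd 23905 = n56675 := ndS (p := 22603) (l := 9) rfl N22603 D56675
theorem N23906 : nd 23906 = n56676 := ndS (p := 22604) (l := 9) rfl N22604 D56676
theorem N23907 : nd 23907 = n56677 := ndS (p := 22605) (l := 8) rfl N22605 D56677
theorem N23908 : nd 23908 = n56678 := ndS (p := 22606) (l := 8) rfl N22606 D56678
theorem N23909 : nd 23909 = n56679 := ndS (p := 22607) (l := 3) rfl N22607 D56679
theorem N23910 : nd 23910 = n56680 := ndS (p := 22608) (l := 3) rfl N22608 D56680
theorem N23911 : nd 23911 = n56681 := ndS (p := 22609) (l := 2) rfl N22609 D56681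
theorem N23912 : nd 23912 = n56682 := ndS (p := 22609) (l := 4) rfl N22609 D56682
theorem N23913 : nd 23913 = n56683 := ndS (p := 22610) (l := 8) rfl N22610 D56683
theorem N23914 : nd 23914 = n56684 := ndS (p := 22611) (l := 3) rfl N22611 D56684
theorem N23915 : nd 23915 = n56685 := ndS (p := 22612) (l := 2) rfl N22612 D56685
theorem N23916 : nd 23916 = n56686 := ndS (p := 22612) (l := 4) rfl N22612 D56686
theorem N23917 : nd 23917 = n56687 := ndS (p := 22613) (l := 1) rfl N22613 D56687
theorem N23918 : nd 23918 = n56688 := ndS (p := 22613) (l := 4) rfl N22613 D56688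
theorem N23919 : nd 23919 = n56689 := ndS (p := 22614) (l := 5) rfl N22614 D56689
theorem N23920 : nd 23920 = n56690 := ndS (p := 22616) (l := 3) rfl N22616 D56690
theorem N23921 : nd 23921 = n56691 := ndS (p := 22617) (l := 2) rfl N22617 D56691
theorem N23922 : nd 23922 = n56692 := ndS (p := 22617) (l := 4) rfl N22617 D56692
theorem N23923 : nd 23923 = n56693 := ndS (p := 22618) (l := 1) rfl N22618 D56693
theorem N23924 : nd 23924 = n56694 := ndS (p := 22618) (l := 4) rfl N22618 D56694
theorem N23925 : nd 23925 = n56695 := ndS (p := 22620) (l := 0) rfl N22620 D56695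
theorem N23926 : nd 23926 = n56696 := ndS (p := 22621) (l := 3) rfl N22621 D56696
theorem N23927 : nd 23927 = n56697 := ndS (p := 22623) (l := 8) rfl N22623 D56697
theorem N23928 : nd 23928 = n56698 := ndS (p := 22624) (l := 3) rfl N22624 D56698
theorem N23929 : nd 23929 = n56699 := ndS (p := 22625) (l := 2) rfl N22625 D56699
theorem N23930 : nd 23930 = n56700 := ndS (p := 22625) (l := 4) rfl N22625 D56700
theorem N23931 : nd 23931 = n56701 := ndS (p := 22628) (l := 3) rfl N22628 D56701
theorem N23932 : nd 23932 = n56702 := ndS (p := 22629) (l := 2) rfl N22629 D56702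
theorem N23933 : nd 23933 = n56703 := ndS (p := 22629) (l := 4) rfl N22629 D56703
theorem N23934 : nd 23934 = n56704 := ndS (p := 22630) (l := 1) rfl N22630 D56704
theorem N23935 : nd 23935 = n56705 := ndS (p := 22630) (l := 4) rfl N22630 D56705
theorem N23936 : nd 23936 = n56706 := ndS (p := 22632) (l := 0) rfl N22632 D56706
theorem N23937 : nd 23937 = n56707 := ndS (p := 22633) (l := 8) rfl N22633 D56707
theorem N23938 : nd 23938 = n56708 := ndS (p := 22635) (l := 4) rfl N22635 D56708
theorem N23939 : nd 23939 = n56709 := ndS (p := 22636) (l := 3) rfl N22636 D56709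
theorem N23940 : nd 23940 = n56710 := ndS (p := 22637) (l := 4) rfl N22637 D56710
theorem N23941 : nd 23941 = n56711 := ndS (p := 22638) (l := 4) rfl N22638 D56711
theorem N23942 : nd 23942 = n56712 := ndS (p := 22639) (l := 5) rfl N22639 D56712
theorem N23943 : nd 23943 = n56713 := ndS (p := 22641) (l := 2) rfl N22641 D56713
theorem N23944 : nd 23944 = n56714 := ndS (p := 22641) (l := 4) rfl N22641 D56714
theorem N23945 : nd 23945 = n56715 := ndS (p := 22642) (l := 4) rfl N22642 D56715
theorem N23946 : nd 23946 = n56716 := ndS (p := 22644) (l := 0) rfl N22644 D56716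
theorem N23947 : nd 23947 = n56717 := ndS (p := 22644) (l := 4) rfl N22644 D56717
theorem N23948 : nd 23948 = n56718 := ndS (p := 22645) (l := 3) rfl N22645 D56718
theorem N23949 : nd 23949 = n56719 := ndS (p := 22648) (l := 4) rfl N22648 D56719
theorem N23950 : nd 23950 = n56720 := ndS (p := 22649) (l := 5) rfl N22649 D56720
theorem N23951 : nd 23951 = n56721 := ndS (p := 22651) (l := 2) rfl N22651 D56721
theorem N23952 : nd 23952 = n56722 := ndS (p := 22651) (l := 4) rfl N22651 D56722
theorem N23953 : nd 23953 = n56723 := ndS (p := 22652) (l := 1) rfl N22652 D56723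
theorem N23954 : nd 23954 = n56724 := ndS (p := 22652) (l := 4) rfl N22652 D56724
theorem N23955 : nd 23955 = n56725 := ndS (p := 22653) (l := 5) rfl N22653 D56725
theorem N23956 : nd 23956 = n56726 := ndS (p := 22654) (l := 0) rfl N22654 D56726
theorem N23957 : nd 23957 = n56727 := ndS (p := 22654) (l := 4) rfl N22654 D56727
theorem N23958 : nd 23958 = n56728 := ndS (p := 22655) (l := 3) rfl N22655 D56728
theorem N23959 : nd 23959 = n56729 := ndS (p := 22657) (l := 4) rfl N22657 D56729
theorem N23960 : nd 23960 = n56730 := ndS (p := 22659) (l := 3) rfl N22659 D56730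
theorem N23961 : nd 23961 = n56731 := ndS (p := 22660) (l := 4) rfl N22660 D56731
theorem N23962 : nd 23962 = n56732 := ndS (p := 22661) (l := 3) rfl N22661 D56732
theorem N23963 : nd 23963 = n56733 := ndS (p := 22662) (l := 8) rfl N22662 D56733
theorem N23964 : nd 23964 = n56734 := ndS (p := 22664) (l := 2) rfl N22664 D56734
theorem N23965 : nd 23965 = n56735 := ndS (p := 22664) (l := 4) rfl N22664 D56735
theorem N23966 : nd 23966 = n56736 := ndS (p := 22665) (l := 4) rfl N22665 D56736
theorem N23967 : nd 23967 = n56737 := ndS (p := 22666) (l := 5) rfl N22666 D56737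
theorem N23968 : nd 23968 = n56738 := ndS (p := 22667) (l := 5) rfl N22667 D56738
theorem N23969 : nd 23969 = n56739 := ndS (p := 22669) (l := 4) rfl N22669 D56739
theorem N23970 : nd 23970 = n56740 := ndS (p := 22672) (l := 3) rfl N22672 D56740
theorem N23971 : nd 23971 = n56741 := ndS (p := 22674) (l := 2) rfl N22674 D56741
theorem N23972 : nd 23972 = n56742 := ndS (p := 22674) (l := 4) rfl N22674 D56742
theorem N23973 : nd 23973 = n56743 := ndS (p := 22676) (l := 5) rfl N22676 D56743
theorem N23974 : nd 23974 = n56744 := ndS (p := 22679) (l := 4) rfl N22679 D56744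
theorem N23975 : nd 23975 = n56745 := ndS (p := 22685) (l := 3) rfl N22685 D56745
theorem N23976 : nd 23976 = n56746 := ndS (p := 22686) (l := 2) rfl N22686 D56746
theorem N23977 : nd 23977 = n56747 := ndS (p := 22687) (l := 3) rfl N22687 D56747
theorem N23978 : nd 23978 = n56748 := ndS (p := 22688) (l := 3) rfl N22688 D56748
theorem N23979 : nd 23979 = n56749 := ndS (p := 22689) (l := 2) rfl N22689 D56749
theorem N23980 : nd 23980 = n56750 := ndS (p := 22690) (l := 2) rfl N22690 D56750
theorem N23981 : nd 23981 = n56751 := ndS (p := 22691) (l := 3) rfl N22691 D56751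
theorem N23982 : nd 23982 = n56752 := ndS (p := 22692) (l := 3) rfl N22692 D56752
theorem N23983 : nd 23983 = n56753 := ndS (p := 22693) (l := 2) rfl N22693 D56753
theorem N23984 : nd 23984 = n56754 := ndS (p := 22694) (l := 8) rfl N22694 D56754
theorem N23985 : nd 23985 = n56755 := ndS (p := 22695) (l := 3) rfl N22695 D56755
theorem N23986 : nd 23986 = n56756 := ndS (p := 22696) (l := 8) rfl N22696 D56756
theorem N23987 : nd 23987 = n56757 := ndS (p := 22697) (l := 3) rfl N22697 D56757
theorem N23988 : nd 23988 = n56758 := ndS (p := 22698) (l := 8) rfl N22698 D56758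
theorem N23989 : nd 23989 = n56759 := ndS (p := 22699) (l := 3) rfl N22699 D56759
theorem N23990 : nd 23990 = n56760 := ndS (p := 22700) (l := 2) rfl N22700 D56760
theorem N23991 : nd 23991 = n56761 := ndS (p := 22701) (l := 3) rfl N22701 D56761
theorem N23992 : nd 23992 = n56762 := ndS (p := 22702) (l := 2) rfl N22702 D56762
theorem N23993 : nd 23993 = n56763 := ndS (p := 22703) (l := 1) rfl N22703 D56763
theorem N23994 : nd 23994 = n56764 := ndS (p := 22704) (l := 3) rfl N22704 D56764
theorem N23995 : nd 23995 = n56765 := ndS (p := 22706) (l := 3) rfl N22706 D56765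
theorem N23996 : nd 23996 = n56766 := ndS (p := 22707) (l := 4) rfl N22707 D56766
theorem N23997 : nd 23997 = n56767 := ndS (p := 22709) (l := 8) rfl N22709 D56767
theorem N23998 : nd 23998 = n56768 := ndS (p := 22710) (l := 3) rfl N22710 D56768
theorem N23999 : nd 23999 = n56769 := ndS (p := 22711) (l := 3) rfl N22711 D56769
theorem N24000 : nd 24000 = n56770 := ndS (p := 22712) (l := 3) rfl N22712 D56770
theorem N24001 : nd 24001 = n56771 := ndS (p := 22713) (l := 2) rfl N22713 D56771
theorem N24002 : nd 24002 = n56772 := ndS (p := 22714) (l := 2) rfl N22714 D56772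
theorem N24003 : nd 24003 = n56773 := ndS (p := 22715) (l := 8) rfl N22715 D56773
theorem N24004 : nd 24004 = n56774 := ndS (p := 22717) (l := 3) rfl N22717 D56774
theorem N24005 : nd 24005 = n56775 := ndS (p := 22718) (l := 4) rfl N22718 D56775
theorem N24006 : nd 24006 = n56776 := ndS (p := 22719) (l := 2) rfl N22719 D56776
theorem N24007 : nd 24007 = n56777 := ndS (p := 22719) (l := 4) rfl N22719 D56777
theorem N24008 : nd 24008 = n56778 := ndS (p := 22721) (l := 1) rfl N22721 D56778
theorem N24009 : nd 24009 = n56779 := ndS (p := 22726) (l := 6) rfl N22726 D56779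
theorem N24010 : nd 24010 = n56780 := ndS (p := 22727) (l := 3) rfl N22727 D56780
theorem N24011 : nd 24011 = n56781 := ndS (p := 22728) (l := 2) rfl N22728 D56781
theorem N24012 : nd 24012 = n56782 := ndS (p := 22729) (l := 8) rfl N22729 D56782
theorem N24013 : nd 24013 = n56783 := ndS (p := 22730) (l := 3) rfl N22730 D56783
theorem N24014 : nd 24014 = n56784 := ndS (p := 22731) (l := 4) rfl N22731 D56784
theorem N24015 : nd 24015 = n56785 := ndS (p := 22732) (l := 2) rfl N22732 D56785
theorem N24016 : nd 24016 = n56786 := ndS (p := 22734) (l := 9) rfl N22734 D56786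
theorem N24017 : nd 24017 = n56787 := ndS (p := 22735) (l := 8) rfl N22735 D56787
theorem N24018 : nd 24018 = n56788 := ndS (p := 22736) (l := 8) rfl N22736 D56788
theorem N24019 : nd 24019 = n56789 := ndS (p := 22737) (l := 3) rfl N22737 D56789
theorem N24020 : nd 24020 = n56790 := ndS (p := 22738) (l := 8) rfl N22738 D56790
theorem N24021 : nd 24021 = n56791 := ndS (p := 22739) (l := 3) rfl N22739 D56791
theorem N24022 : nd 24022 = n56792 := ndS (p := 22740) (l := 8) rfl N22740 D56792
theorem N24023 : nd 24023 = n56793 := ndS (p := 22741) (l := 3) rfl N22741 D56793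
theorem N24024 : nd 24024 = n56794 := ndS (p := 22742) (l := 9) rfl N22742 D56794
theorem N24025 : nd 24025 = n56795 := ndS (p := 22743) (l := 8) rfl N22743 D56795
theorem N24026 : nd 24026 = n56796 := ndS (p := 22744) (l := 8) rfl N22744 D56796
theorem N24027 : nd 24027 = n56797 := ndS (p := 22745) (l := 3) rfl N22745 D56797
theorem N24028 : nd 24028 = n56798 := ndS (p := 22746) (l := 4) rfl N22746 D56798
theorem N24029 : nd 24029 = n56799 := ndS (p := 22747) (l := 3) rfl N22747 D56799
theorem N24030 : nd 24030 = n56800 := ndS (p := 22748) (l := 2) rfl N22748 D56800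
theorem N24031 : nd 24031 = n56801 := ndS (p := 22749) (l := 8) rfl N22749 D56801
theorem N24032 : nd 24032 = n56802 := ndS (p := 22750) (l := 3) rfl N22750 D56802
theorem N24033 : nd 24033 = n56803 := ndS (p := 22751) (l := 4) rfl N22751 D56803
theorem N24034 : nd 24034 = n56804 := ndS (p := 22752) (l := 8) rfl N22752 D56804
theorem N24035 : nd 24035 = n56805 := ndS (p := 22753) (l := 3) rfl N22753 D56805
theorem N24036 : nd 24036 = n56806 := ndS (p := 22754) (l := 3) rfl N22754 D56806
theorem N24037 : nd 24037 = n56807 := ndS (p := 22755) (l := 2) rfl N22755 D56807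
theorem N24038 : nd 24038 = n56808 := ndS (p := 22755) (l := 4) rfl N22755 D56808
theorem N24039 : nd 24039 = n56809 := ndS (p := 22756) (l := 5) rfl N22756 D56809
theorem N24040 : nd 24040 = n56810 := ndS (p := 22757) (l := 2) rfl N22757 D56810
theorem N24041 : nd 24041 = n56811 := ndS (p := 22758) (l := 1) rfl N22758 D56811
theorem N24042 : nd 24042 = n56812 := ndS (p := 22759) (l := 4) rfl N22759 D56812
theorem N24043 : nd 24043 = n56813 := ndS (p := 22760) (l := 3) rfl N22760 D56813
theorem N24044 : nd 24044 = n56814 := ndS (p := 22762) (l := 5) rfl N22762 D56814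
theorem N24045 : nd 24045 = n56815 := ndS (p := 22763) (l := 5) rfl N22763 D56815
theorem N24046 : nd 24046 = n56816 := ndS (p := 22764) (l := 4) rfl N22764 D56816
theorem N24047 : nd 24047 = n56817 := ndS (p := 22766) (l := 3) rfl N22766 D56817
theorem N24048 : nd 24048 = n56818 := ndS (p := 22767) (l := 4) rfl N22767 D56818
theorem N24049 : nd 24049 = n56819 := ndS (p := 22768) (l := 4) rfl N22768 D56819
theorem N24050 : nd 24050 = n56820 := ndS (p := 22769) (l := 3) rfl N22769 D56820
theorem N24051 : nd 24051 = n56821 := ndS (p := 22770) (l := 4) rfl N22770 D56821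
theorem N24052 : nd 24052 = n56822 := ndS (p := 22771) (l := 5) rfl N22771 D56822
theorem N24053 : nd 24053 = n56823 := ndS (p := 22772) (l := 3) rfl N22772 D56823
theorem N24054 : nd 24054 = n56824 := ndS (p := 22773) (l := 2) rfl N22773 D56824
theorem N24055 : nd 24055 = n56825 := ndS (p := 22773) (l := 4) rfl N22773 D56825
theorem N24056 : nd 24056 = n56826 := ndS (p := 22774) (l := 5) rfl N22774 D56826
theorem N24057 : nd 24057 = n56827 := ndS (p := 22775) (l := 4) rfl N22775 D56827
theorem N24058 : nd 24058 = n56828 := ndS (p := 22776) (l := 5) rfl N22776 D56828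
theorem N24059 : nd 24059 = n56829 := ndS (p := 22778) (l := 5) rfl N22778 D56829
theorem N24060 : nd 24060 = n56830 := ndS (p := 22779) (l := 6) rfl N22779 D56830
theorem N24061 : nd 24061 = n56831 := ndS (p := 22781) (l := 8) rfl N22781 D56831
theorem N24062 : nd 24062 = n56832 := ndS (p := 22782) (l := 8) rfl N22782 D56832
theorem N24063 : nd 24063 = n56833 := ndS (p := 22783) (l := 3) rfl N22783 D56833
theorem N24064 : nd 24064 = n56834 := ndS (p := 22784) (l := 8) rfl N22784 D56834
theorem N24065 : nd 24065 = n56835 := ndS (p := 22785) (l := 3) rfl N22785 D56835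
theorem N24066 : nd 24066 = n56836 := ndS (p := 22786) (l := 4) rfl N22786 D56836
theorem N24067 : nd 24067 = n56837 := ndS (p := 22787) (l := 2) rfl N22787 D56837
theorem N24068 : nd 24068 = n56838 := ndS (p := 22788) (l := 9) rfl N22788 D56838
theorem N24069 : nd 24069 = n56839 := ndS (p := 22789) (l := 8) rfl N22789 D56839
theorem N24070 : nd 24070 = n56840 := ndS (p := 22790) (l := 3) rfl N22790 D56840
theorem N24071 : nd 24071 = n56841 := ndS (p := 22791) (l := 3) rfl N22791 D56841
theorem N24072 : nd 24072 = n56842 := ndS (p := 22792) (l := 9) rfl N22792 D56842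
theorem N24073 : nd 24073 = n56843 := ndS (p := 22793) (l := 8) rfl N22793 D56843
theorem N24074 : nd 24074 = n56844 := ndS (p := 22794) (l := 3) rfl N22794 D56844
theorem N24075 : nd 24075 = n56845 := ndS (p := 22795) (l := 9) rfl N22795 D56845
theorem N24076 : nd 24076 = n56846 := ndS (p := 22796) (l := 8) rfl N22796 D56846
theorem N24077 : nd 24077 = n56847 := ndS (p := 22797) (l := 3) rfl N22797 D56847
theorem N24078 : nd 24078 = n56848 := ndS (p := 22798) (l := 4) rfl N22798 D56848
theorem N24079 : nd 24079 = n56849 := ndS (p := 22799) (l := 2) rfl N22799 D56849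
theorem N24080 : nd 24080 = n56850 := ndS (p := 22800) (l := 8) rfl N22800 D56850
theorem N24081 : nd 24081 = n56851 := ndS (p := 22801) (l := 8) rfl N22801 D56851
theorem N24082 : nd 24082 = n56852 := ndS (p := 22802) (l := 3) rfl N22802 D56852
theorem N24083 : nd 24083 = n56853 := ndS (p := 22803) (l := 4) rfl N22803 D56853
theorem N24084 : nd 24084 = n56854 := ndS (p := 22804) (l := 8) rfl N22804 D56854
theorem N24085 : nd 24085 = n56855 := ndS (p := 22805) (l := 8) rfl N22805 D56855
theorem N24086 : nd 24086 = n56856 := ndS (p := 22806) (l := 3) rfl N22806 D56856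
theorem N24087 : nd 24087 = n56857 := ndS (p := 22807) (l := 3) rfl N22807 D56857
theorem N24088 : nd 24088 = n56858 := ndS (p := 22808) (l := 2) rfl N22808 D56858
theorem N24089 : nd 24089 = n56859 := ndS (p := 22808) (l := 4) rfl N22808 D56859
theorem N24090 : nd 24090 = n56860 := ndS (p := 22810) (l := 3) rfl N22810 D56860
theorem N24091 : nd 24091 = n56861 := ndS (p := 22811) (l := 2) rfl N22811 D56861
theorem N24092 : nd 24092 = n56862 := ndS (p := 22812) (l := 1) rfl N22812 D56862
theorem N24093 : nd 24093 = n56863 := ndS (p := 22815) (l := 8) rfl N22815 D56863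
theorem N24094 : nd 24094 = n56864 := ndS (p := 22816) (l := 3) rfl N22816 D56864
theorem N24095 : nd 24095 = n56865 := ndS (p := 22817) (l := 4) rfl N22817 D56865
theorem N24096 : nd 24096 = n56866 := ndS (p := 22818) (l := 3) rfl N22818 D56866
theorem N24097 : nd 24097 = n56867 := ndS (p := 22819) (l := 2) rfl N22819 D56867
theorem N24098 : nd 24098 = n56868 := ndS (p := 22820) (l := 8) rfl N22820 D56868
theorem N24099 : nd 24099 = n56869 := ndS (p := 22821) (l := 3) rfl N22821 D56869
theorem N24100 : nd 24100 = n56870 := ndS (p := 22822) (l := 4) rfl N22822 D56870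
theorem N24101 : nd 24101 = n56871 := ndS (p := 22823) (l := 9) rfl N22823 D56871
theorem N24102 : nd 24102 = n56872 := ndS (p := 22824) (l := 8) rfl N22824 D56872
theorem N24103 : nd 24103 = n56873 := ndS (p := 22825) (l := 8) rfl N22825 D56873
theorem N24104 : nd 24104 = n56874 := ndS (p := 22826) (l := 3) rfl N22826 D56874
theorem N24105 : nd 24105 = n56875 := ndS (p := 22827) (l := 3) rfl N22827 D56875
theorem N24106 : nd 24106 = n56876 := ndS (p := 22828) (l := 2) rfl N22828 D56876
theorem N24107 : nd 24107 = n56877 := ndS (p := 22828) (l := 4) rfl N22828 D56877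
theorem N24108 : nd 24108 = n56878 := ndS (p := 22829) (l := 5) rfl N22829 D56878
theorem N24109 : nd 24109 = n56879 := ndS (p := 22830) (l := 2) rfl N22830 D56879
theorem N24110 : nd 24110 = n56880 := ndS (p := 22831) (l := 1) rfl N22831 D56880
theorem N24111 : nd 24111 = n56881 := ndS (p := 22832) (l := 8) rfl N22832 D56881
theorem N24112 : nd 24112 = n56882 := ndS (p := 22833) (l := 3) rfl N22833 D56882
theorem N24113 : nd 24113 = n56883 := ndS (p := 22834) (l := 8) rfl N22834 D56883
theorem N24114 : nd 24114 = n56884 := ndS (p := 22835) (l := 8) rfl N22835 D56884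
theorem N24115 : nd 24115 = n56885 := ndS (p := 22836) (l := 3) rfl N22836 D56885
theorem N24116 : nd 24116 = n56886 := ndS (p := 22837) (l := 8) rfl N22837 D56886
theorem N24117 : nd 24117 = n56887 := ndS (p := 22838) (l := 3) rfl N22838 D56887
theorem N24118 : nd 24118 = n56888 := ndS (p := 22839) (l := 2) rfl N22839 D56888
theorem N24119 : nd 24119 = n56889 := ndS (p := 22839) (l := 4) rfl N22839 D56889
theorem N24120 : nd 24120 = n56890 := ndS (p := 22841) (l := 8) rfl N22841 D56890
theorem N24121 : nd 24121 = n56891 := ndS (p := 22842) (l := 8) rfl N22842 D56891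
theorem N24122 : nd 24122 = n56892 := ndS (p := 22843) (l := 3) rfl N22843 D56892
theorem N24123 : nd 24123 = n56893 := ndS (p := 22844) (l := 3) rfl N22844 D56893
theorem N24124 : nd 24124 = n56894 := ndS (p := 22845) (l := 2) rfl N22845 D56894
theorem N24125 : nd 24125 = n56895 := ndS (p := 22845) (l := 4) rfl N22845 D56895
theorem N24126 : nd 24126 = n56896 := ndS (p := 22846) (l := 8) rfl N22846 D56896
theorem N24127 : nd 24127 = n56897 := ndS (p := 22847) (l := 3) rfl N22847 D56897
theorem N24128 : nd 24128 = n56898 := ndS (p := 22848) (l := 2) rfl N22848 D56898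
theorem N24129 : nd 24129 = n56899 := ndS (p := 22848) (l := 4) rfl N22848 D56899
theorem N24130 : nd 24130 = n56900 := ndS (p := 22849) (l := 1) rfl N22849 D56900
theorem N24131 : nd 24131 = n56901 := ndS (p := 22849) (l := 4) rfl N22849 D56901
theorem N24132 : nd 24132 = n56902 := ndS (p := 22850) (l := 5) rfl N22850 D56902
theorem N24133 : nd 24133 = n56903 := ndS (p := 22852) (l := 3) rfl N22852 D56903
theorem N24134 : nd 24134 = n56904 := ndS (p := 22853) (l := 2) rfl N22853 D56904
theorem N24135 : nd 24135 = n56905 := ndS (p := 22854) (l := 1) rfl N22854 D56905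
theorem N24136 : nd 24136 = n56906 := ndS (p := 22855) (l := 0) rfl N22855 D56906
theorem N24137 : nd 24137 = n56907 := ndS (p := 22856) (l := 8) rfl N22856 D56907
theorem N24138 : nd 24138 = n56908 := ndS (p := 22857) (l := 3) rfl N22857 D56908
theorem N24139 : nd 24139 = n56909 := ndS (p := 22858) (l := 3) rfl N22858 D56909
theorem N24140 : nd 24140 = n56910 := ndS (p := 22860) (l := 4) rfl N22860 D56910
theorem N24141 : nd 24141 = n56911 := ndS (p := 22861) (l := 6) rfl N22861 D56911
theorem N24142 : nd 24142 = n56912 := ndS (p := 22862) (l := 3) rfl N22862 D56912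
theorem N24143 : nd 24143 = n56913 := ndS (p := 22865) (l := 4) rfl N22865 D56913
theorem N24144 : nd 24144 = n56914 := ndS (p := 22866) (l := 3) rfl N22866 D56914
theorem N24145 : nd 24145 = n56915 := ndS (p := 22867) (l := 4) rfl N22867 D56915
theorem N24146 : nd 24146 = n56916 := ndS (p := 22871) (l := 5) rfl N22871 D56916
theorem N24147 : nd 24147 = n56917 := ndS (p := 22873) (l := 3) rfl N22873 D56917
theorem N24148 : nd 24148 = n56918 := ndS (p := 22874) (l := 4) rfl N22874 D56918
theorem N24149 : nd 24149 = n56919 := ndS (p := 22875) (l := 5) rfl N22875 D56919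
theorem N24150 : nd 24150 = n56920 := ndS (p := 22876) (l := 6) rfl N22876 D56920
theorem N24151 : nd 24151 = n56921 := ndS (p := 22877) (l := 3) rfl N22877 D56921
theorem N24152 : nd 24152 = n56922 := ndS (p := 22878) (l := 4) rfl N22878 D56922
theorem N24153 : nd 24153 = n56923 := ndS (p := 22880) (l := 4) rfl N22880 D56923
theorem N24154 : nd 24154 = n56924 := ndS (p := 22881) (l := 5) rfl N22881 D56924
theorem N24155 : nd 24155 = n56925 := ndS (p := 22888) (l := 3) rfl N22888 D56925
theorem N24156 : nd 24156 = n56926 := ndS (p := 22889) (l := 3) rfl N22889 D56926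
theorem N24157 : nd 24157 = n56927 := ndS (p := 22890) (l := 3) rfl N22890 D56927
theorem N24158 : nd 24158 = n56928 := ndS (p := 22891) (l := 4) rfl N22891 D56928
theorem N24159 : nd 24159 = n56929 := ndS (p := 22892) (l := 2) rfl N22892 D56929
theorem N24160 : nd 24160 = n56930 := ndS (p := 22893) (l := 5) rfl N22893 D56930
theorem N24161 : nd 24161 = n56931 := ndS (p := 22894) (l := 4) rfl N22894 D56931
theorem N24162 : nd 24162 = n56932 := ndS (p := 22895) (l := 5) rfl N22895 D56932
theorem N24163 : nd 24163 = n56933 := ndS (p := 22897) (l := 9) rfl N22897 D56933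
theorem N24164 : nd 24164 = n56934 := ndS (p := 22898) (l := 8) rfl N22898 D56934
theorem N24165 : nd 24165 = n56935 := ndS (p := 22899) (l := 3) rfl N22899 D56935
theorem N24166 : nd 24166 = n56936 := ndS (p := 22900) (l := 4) rfl N22900 D56936
theorem N24167 : nd 24167 = n56937 := ndS (p := 22901) (l := 2) rfl N22901 D56937
theorem N24168 : nd 24168 = n56938 := ndS (p := 22902) (l := 5) rfl N22902 D56938
theorem N24169 : nd 24169 = n56939 := ndS (p := 22903) (l := 2) rfl N22903 D56939
theorem N24170 : nd 24170 = n56940 := ndS (p := 22904) (l := 9) rfl N22904 D56940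
theorem N24171 : nd 24171 = n56941 := ndS (p := 22905) (l := 8) rfl N22905 D56941
theorem N24172 : nd 24172 = n56942 := ndS (p := 22906) (l := 8) rfl N22906 D56942
theorem N24173 : nd 24173 = n56943 := ndS (p := 22907) (l := 3) rfl N22907 D56943
theorem N24174 : nd 24174 = n56944 := ndS (p := 22908) (l := 3) rfl N22908 D56944
theorem N24175 : nd 24175 = n56945 := ndS (p := 22909) (l := 2) rfl N22909 D56945
theorem N24176 : nd 24176 = n56946 := ndS (p := 22909) (l := 4) rfl N22909 D56946
theorem N24177 : nd 24177 = n56947 := ndS (p := 22910) (l := 5) rfl N22910 D56947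
theorem N24178 : nd 24178 = n56948 := ndS (p := 22911) (l := 2) rfl N22911 D56948
theorem N24179 : nd 24179 = n56949 := ndS (p := 22912) (l := 1) rfl N22912 D56949
theorem N24180 : nd 24180 = n56950 := ndS (p := 22913) (l := 4) rfl N22913 D56950
theorem N24181 : nd 24181 = n56951 := ndS (p := 22914) (l := 5) rfl N22914 D56951
theorem N24182 : nd 24182 = n56952 := ndS (p := 22915) (l := 6) rfl N22915 D56952
theorem N24183 : nd 24183 = n56953 := ndS (p := 22917) (l := 3) rfl N22917 D56953
theorem N24184 : nd 24184 = n56954 := ndS (p := 22918) (l := 4) rfl N22918 D56954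
theorem N24185 : nd 24185 = n56955 := ndS (p := 22919) (l := 5) rfl N22919 D56955
theorem N24186 : nd 24186 = n56956 := ndS (p := 22920) (l := 6) rfl N22920 D56956
theorem N24187 : nd 24187 = n56957 := ndS (p := 22922) (l := 8) rfl N22922 D56957
theorem N24188 : nd 24188 = n56958 := ndS (p := 22923) (l := 3) rfl N22923 D56958
theorem N24189 : nd 24189 = n56959 := ndS (p := 22924) (l := 4) rfl N22924 D56959
theorem N24190 : nd 24190 = n56960 := ndS (p := 22925) (l := 2) rfl N22925 D56960
theorem N24191 : nd 24191 = n56961 := ndS (p := 22926) (l := 3) rfl N22926 D56961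
theorem N24192 : nd 24192 = n56962 := ndS (p := 22927) (l := 2) rfl N22927 D56962
theorem N24193 : nd 24193 = n56963 := ndS (p := 22928) (l := 2) rfl N22928 D56963
theorem N24194 : nd 24194 = n56964 := ndS (p := 22928) (l := 4) rfl N22928 D56964
theorem N24195 : nd 24195 = n56965 := ndS (p := 22929) (l := 5) rfl N22929 D56965
theorem N24196 : nd 24196 = n56966 := ndS (p := 22930) (l := 1) rfl N22930 D56966
theorem N24197 : nd 24197 = n56967 := ndS (p := 22933) (l := 3) rfl N22933 D56967
theorem N24198 : nd 24198 = n56968 := ndS (p := 22934) (l := 4) rfl N22934 D56968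
theorem N24199 : nd 24199 = n56969 := ndS (p := 22935) (l := 8) rfl N22935 D56969
theorem N24200 : nd 24200 = n56970 := ndS (p := 22936) (l := 3) rfl N22936 D56970
theorem N24201 : nd 24201 = n56971 := ndS (p := 22937) (l := 2) rfl N22937 D56971
theorem N24202 : nd 24202 = n56972 := ndS (p := 22937) (l := 4) rfl N22937 D56972
theorem N24203 : nd 24203 = n56973 := ndS (p := 22938) (l := 5) rfl N22938 D56973
theorem N24204 : nd 24204 = n56974 := ndS (p := 22939) (l := 1) rfl N22939 D56974
theorem N24205 : nd 24205 = n56975 := ndS (p := 22940) (l := 5) rfl N22940 D56975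
theorem N24206 : nd 24206 = n56976 := ndS (p := 22942) (l := 3) rfl N22942 D56976
theorem N24207 : nd 24207 = n56977 := ndS (p := 22943) (l := 4) rfl N22943 D56977
theorem N24208 : nd 24208 = n56978 := ndS (p := 22944) (l := 3) rfl N22944 D56978
theorem N24209 : nd 24209 = n56979 := ndS (p := 22945) (l := 2) rfl N22945 D56979
theorem N24210 : nd 24210 = n56980 := ndS (p := 22946) (l := 3) rfl N22946 D56980
theorem N24211 : nd 24211 = n56981 := ndS (p := 22947) (l := 4) rfl N22947 D56981
theorem N24212 : nd 24212 = n56982 := ndS (p := 22948) (l := 2) rfl N22948 D56982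
theorem N24213 : nd 24213 = n56983 := ndS (p := 22948) (l := 4) rfl N22948 D56983
theorem N24214 : nd 24214 = n56984 := ndS (p := 22950) (l := 1) rfl N22950 D56984
theorem N24215 : nd 24215 = n56985 := ndS (p := 22951) (l := 3) rfl N22951 D56985
theorem N24216 : nd 24216 = n56986 := ndS (p := 22952) (l := 4) rfl N22952 D56986
theorem N24217 : nd 24217 = n56987 := ndS (p := 22953) (l := 3) rfl N22953 D56987
theorem N24218 : nd 24218 = n56988 := ndS (p := 22954) (l := 3) rfl N22954 D56988
theorem N24219 : nd 24219 = n56989 := ndS (p := 22955) (l := 2) rfl N22955 D56989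
theorem N24220 : nd 24220 = n56990 := ndS (p := 22955) (l := 4) rfl N22955 D56990
theorem N24221 : nd 24221 = n56991 := ndS (p := 22956) (l := 5) rfl N22956 D56991
theorem N24222 : nd 24222 = n56992 := ndS (p := 22957) (l := 3) rfl N22957 D56992
theorem N24223 : nd 24223 = n56993 := ndS (p := 22958) (l := 2) rfl N22958 D56993
theorem N24224 : nd 24224 = n56994 := ndS (p := 22958) (l := 4) rfl N22958 D56994
theorem N24225 : nd 24225 = n56995 := ndS (p := 22959) (l := 3) rfl N22959 D56995
theorem N24226 : nd 24226 = n56996 := ndS (p := 22960) (l := 2) rfl N22960 D56996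
theorem N24227 : nd 24227 = n56997 := ndS (p := 22960) (l := 4) rfl N22960 D56997
theorem N24228 : nd 24228 = n56998 := ndS (p := 22961) (l := 1) rfl N22961 D56998
theorem N24229 : nd 24229 = n56999 := ndS (p := 22961) (l := 4) rfl N22961 D56999
theorem N24230 : nd 24230 = n57000 := ndS (p := 22962) (l := 5) rfl N22962 D57000
theorem N24231 : nd 24231 = n57001 := ndS (p := 22963) (l := 6) rfl N22963 D57001
theorem N24232 : nd 24232 = n57002 := ndS (p := 22965) (l := 2) rfl N22965 D57002
theorem N24233 : nd 24233 = n57003 := ndS (p := 22966) (l := 1) rfl N22966 D57003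
theorem N24234 : nd 24234 = n57004 := ndS (p := 22967) (l := 0) rfl N22967 D57004
theorem N24235 : nd 24235 = n57005 := ndS (p := 22973) (l := 4) rfl N22973 D57005
theorem N24236 : nd 24236 = n57006 := ndS (p := 22976) (l := 4) rfl N22976 D57006
theorem N24237 : nd 24237 = n57007 := ndS (p := 22979) (l := 8) rfl N22979 D57007
theorem N24238 : nd 24238 = n57008 := ndS (p := 22980) (l := 3) rfl N22980 D57008
theorem N24239 : nd 24239 = n57009 := ndS (p := 22981) (l := 2) rfl N22981 D57009
theorem N24240 : nd 24240 = n57010 := ndS (p := 22982) (l := 1) rfl N22982 D57010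
theorem N24241 : nd 24241 = n57011 := ndS (p := 22983) (l := 2) rfl N22983 D57011
theorem N24242 : nd 24242 = n57012 := ndS (p := 22984) (l := 3) rfl N22984 D57012
theorem N24243 : nd 24243 = n57013 := ndS (p := 22985) (l := 2) rfl N22985 D57013
theorem N24244 : nd 24244 = n57014 := ndS (p := 22986) (l := 2) rfl N22986 D57014
theorem N24245 : nd 24245 = n57015 := ndS (p := 22987) (l := 1) rfl N22987 D57015
theorem N24246 : nd 24246 = n57016 := ndS (p := 22988) (l := 8) rfl N22988 D57016
theorem N24247 : nd 24247 = n57017 := ndS (p := 22989) (l := 3) rfl N22989 D57017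
theorem N24248 : nd 24248 = n57018 := ndS (p := 22990) (l := 8) rfl N22990 D57018
theorem N24249 : nd 24249 = n57019 := ndS (p := 22991) (l := 3) rfl N22991 D57019
theorem N24250 : nd 24250 = n57020 := ndS (p := 22992) (l := 2) rfl N22992 D57020
theorem N24251 : nd 24251 = n57021 := ndS (p := 22993) (l := 8) rfl N22993 D57021
theorem N24252 : nd 24252 = n57022 := ndS (p := 22994) (l := 3) rfl N22994 D57022
theorem N24253 : nd 24253 = n57023 := ndS (p := 22995) (l := 8) rfl N22995 D57023
theorem N24254 : nd 24254 = n57024 := ndS (p := 22996) (l := 3) rfl N22996 D57024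
theorem N24255 : nd 24255 = n57025 := ndS (p := 22997) (l := 3) rfl N22997 D57025
theorem N24256 : nd 24256 = n57026 := ndS (p := 22998) (l := 2) rfl N22998 D57026
theorem N24257 : nd 24257 = n57027 := ndS (p := 22999) (l := 3) rfl N22999 D57027
theorem N24258 : nd 24258 = n57028 := ndS (p := 23000) (l := 2) rfl N23000 D57028
theorem N24259 : nd 24259 = n57029 := ndS (p := 23001) (l := 1) rfl N23001 D57029
theorem N24260 : nd 24260 = n57030 := ndS (p := 23002) (l := 8) rfl N23002 D57030
theorem N24261 : nd 24261 = n57031 := ndS (p := 23003) (l := 3) rfl N23003 D57031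
theorem N24262 : nd 24262 = n57032 := ndS (p := 23004) (l := 3) rfl N23004 D57032
theorem N24263 : nd 24263 = n57033 := ndS (p := 23005) (l := 2) rfl N23005 D57033
theorem N24264 : nd 24264 = n57034 := ndS (p := 23006) (l := 3) rfl N23006 D57034
theorem N24265 : nd 24265 = n57035 := ndS (p := 23007) (l := 2) rfl N23007 D57035
theorem N24266 : nd 24266 = n57036 := ndS (p := 23008) (l := 2) rfl N23008 D57036
theorem N24267 : nd 24267 = n57037 := ndS (p := 23008) (l := 4) rfl N23008 D57037
theorem N24268 : nd 24268 = n57038 := ndS (p := 23009) (l := 1) rfl N23009 D57038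
theorem N24269 : nd 24269 = n57039 := ndS (p := 23010) (l := 1) rfl N23010 D57039
theorem N24270 : nd 24270 = n57040 := ndS (p := 23011) (l := 0) rfl N23011 D57040
theorem N24271 : nd 24271 = n57041 := ndS (p := 23012) (l := 3) rfl N23012 D57041
theorem N24272 : nd 24272 = n57042 := ndS (p := 23014) (l := 4) rfl N23014 D57042
theorem N24273 : nd 24273 = n57043 := ndS (p := 23015) (l := 4) rfl N23015 D57043
theorem N24274 : nd 24274 = n57044 := ndS (p := 23017) (l := 3) rfl N23017 D57044
theorem N24275 : nd 24275 = n57045 := ndS (p := 23018) (l := 4) rfl N23018 D57045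
theorem N24276 : nd 24276 = n57046 := ndS (p := 23019) (l := 2) rfl N23019 D57046
theorem N24277 : nd 24277 = n57047 := ndS (p := 23020) (l := 2) rfl N23020 D57047
theorem N24278 : nd 24278 = n57048 := ndS (p := 23021) (l := 1) rfl N23021 D57048
theorem N24279 : nd 24279 = n57049 := ndS (p := 23022) (l := 3) rfl N23022 D57049
theorem N24280 : nd 24280 = n57050 := ndS (p := 23023) (l := 3) rfl N23023 D57050
theorem N24281 : nd 24281 = n57051 := ndS (p := 23024) (l := 2) rfl N23024 D57051
theorem N24282 : nd 24282 = n57052 := ndS (p := 23025) (l := 3) rfl N23025 D57052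
theorem N24283 : nd 24283 = n57053 := ndS (p := 23026) (l := 2) rfl N23026 D57053
theorem N24284 : nd 24284 = n57054 := ndS (p := 23027) (l := 1) rfl N23027 D57054
theorem N24285 : nd 24285 = n57055 := ndS (p := 23028) (l := 3) rfl N23028 D57055
theorem N24286 : nd 24286 = n57056 := ndS (p := 23029) (l := 3) rfl N23029 D57056
theorem N24287 : nd 24287 = n57057 := ndS (p := 23030) (l := 2) rfl N23030 D57057
theorem N24288 : nd 24288 = n57058 := ndS (p := 23031) (l := 3) rfl N23031 D57058
theorem N24289 : nd 24289 = n57059 := ndS (p := 23032) (l := 2) rfl N23032 D57059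
theorem N24290 : nd 24290 = n57060 := ndS (p := 23033) (l := 1) rfl N23033 D57060
theorem N24291 : nd 24291 = n57061 := ndS (p := 23034) (l := 0) rfl N23034 D57061
theorem N24292 : nd 24292 = n57062 := ndS (p := 23035) (l := 8) rfl N23035 D57062
theorem N24293 : nd 24293 = n57063 := ndS (p := 23036) (l := 3) rfl N23036 D57063
theorem N24294 : nd 24294 = n57064 := ndS (p := 23037) (l := 8) rfl N23037 D57064
theorem N24295 : nd 24295 = n57065 := ndS (p := 23038) (l := 3) rfl N23038 D57065
theorem N24296 : nd 24296 = n57066 := ndS (p := 23039) (l := 2) rfl N23039 D57066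
theorem N24297 : nd 24297 = n57067 := ndS (p := 23039) (l := 4) rfl N23039 D57067
theorem N24298 : nd 24298 = n57068 := ndS (p := 23040) (l := 8) rfl N23040 D57068
theorem N24299 : nd 24299 = n57069 := ndS (p := 23041) (l := 3) rfl N23041 D57069
theorem N24300 : nd 24300 = n57070 := ndS (p := 23042) (l := 2) rfl N23042 D57070
theorem N24301 : nd 24301 = n57071 := ndS (p := 23042) (l := 4) rfl N23042 D57071
theorem N24302 : nd 24302 = n57072 := ndS (p := 23044) (l := 1) rfl N23044 D57072
theorem N24303 : nd 24303 = n57073 := ndS (p := 23045) (l := 8) rfl N23045 D57073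
theorem N24304 : nd 24304 = n57074 := ndS (p := 23046) (l := 3) rfl N23046 D57074
theorem N24305 : nd 24305 = n57075 := ndS (p := 23047) (l := 3) rfl N23047 D57075
theorem N24306 : nd 24306 = n57076 := ndS (p := 23048) (l := 2) rfl N23048 D57076
theorem N24307 : nd 24307 = n57077 := ndS (p := 23049) (l := 3) rfl N23049 D57077
theorem N24308 : nd 24308 = n57078 := ndS (p := 23050) (l := 3) rfl N23050 D57078
theorem N24309 : nd 24309 = n57079 := ndS (p := 23051) (l := 2) rfl N23051 D57079
theorem N24310 : nd 24310 = n57080 := ndS (p := 23052) (l := 1) rfl N23052 D57080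
theorem N24311 : nd 24311 = n57081 := ndS (p := 23053) (l := 3) rfl N23053 D57081
theorem N24312 : nd 24312 = n57082 := ndS (p := 23054) (l := 8) rfl N23054 D57082
theorem N24313 : nd 24313 = n57083 := ndS (p := 23055) (l := 8) rfl N23055 D57083
theorem N24314 : nd 24314 = n57084 := ndS (p := 23056) (l := 3) rfl N23056 D57084
theorem N24315 : nd 24315 = n57085 := ndS (p := 23057) (l := 3) rfl N23057 D57085
theorem N24316 : nd 24316 = n57086 := ndS (p := 23058) (l := 2) rfl N23058 D57086
theorem N24317 : nd 24317 = n57087 := ndS (p := 23059) (l := 9) rfl N23059 D57087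
theorem N24318 : nd 24318 = n57088 := ndS (p := 23060) (l := 8) rfl N23060 D57088
theorem N24319 : nd 24319 = n57089 := ndS (p := 23061) (l := 8) rfl N23061 D57089
theorem N24320 : nd 24320 = n57090 := ndS (p := 23062) (l := 3) rfl N23062 D57090
theorem N24321 : nd 24321 = n57091 := ndS (p := 23063) (l := 3) rfl N23063 D57091
theorem N24322 : nd 24322 = n57092 := ndS (p := 23064) (l := 2) rfl N23064 D57092
theorem N24323 : nd 24323 = n57093 := ndS (p := 23065) (l := 8) rfl N23065 D57093
theorem N24324 : nd 24324 = n57094 := ndS (p := 23066) (l := 3) rfl N23066 D57094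
theorem N24325 : nd 24325 = n57095 := ndS (p := 23067) (l := 2) rfl N23067 D57095
theorem N24326 : nd 24326 = n57096 := ndS (p := 23067) (l := 4) rfl N23067 D57096
theorem N24327 : nd 24327 = n57097 := ndS (p := 23068) (l := 1) rfl N23068 D57097
theorem N24328 : nd 24328 = n57098 := ndS (p := 23069) (l := 3) rfl N23069 D57098
theorem N24329 : nd 24329 = n57099 := ndS (p := 23070) (l := 2) rfl N23070 D57099
theorem N24330 : nd 24330 = n57100 := ndS (p := 23071) (l := 1) rfl N23071 D57100
theorem N24331 : nd 24331 = n57101 := ndS (p := 23072) (l := 0) rfl N23072 D57101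
theorem N24332 : nd 24332 = n57102 := ndS (p := 23073) (l := 2) rfl N23073 D57102
theorem N24333 : nd 24333 = n57103 := ndS (p := 23074) (l := 2) rfl N23074 D57103
theorem N24334 : nd 24334 = n57104 := ndS (p := 23074) (l := 4) rfl N23074 D57104
theorem N24335 : nd 24335 = n57105 := ndS (p := 23076) (l := 3) rfl N23076 D57105
theorem N24336 : nd 24336 = n57106 := ndS (p := 23077) (l := 4) rfl N23077 D57106
theorem N24337 : nd 24337 = n57107 := ndS (p := 23080) (l := 3) rfl N23080 D57107
theorem N24338 : nd 24338 = n57108 := ndS (p := 23081) (l := 2) rfl N23081 D57108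
theorem N24339 : nd 24339 = n57109 := ndS (p := 23082) (l := 3) rfl N23082 D57109
theorem N24340 : nd 24340 = n57110 := ndS (p := 23083) (l := 2) rfl N23083 D57110
theorem N24341 : nd 24341 = n57111 := ndS (p := 23083) (l := 4) rfl N23083 D57111
theorem N24342 : nd 24342 = n57112 := ndS (p := 23084) (l := 1) rfl N23084 D57112
theorem N24343 : nd 24343 = n57113 := ndS (p := 23085) (l := 3) rfl N23085 D57113
theorem N24344 : nd 24344 = n57114 := ndS (p := 23086) (l := 2) rfl N23086 D57114
theorem N24345 : nd 24345 = n57115 := ndS (p := 23087) (l := 2) rfl N23087 D57115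
theorem N24346 : nd 24346 = n57116 := ndS (p := 23088) (l := 2) rfl N23088 D57116
theorem N24347 : nd 24347 = n57117 := ndS (p := 23088) (l := 4) rfl N23088 D57117
theorem N24348 : nd 24348 = n57118 := ndS (p := 23089) (l := 1) rfl N23089 D57118
theorem N24349 : nd 24349 = n57119 := ndS (p := 23089) (l := 4) rfl N23089 D57119
theorem N24350 : nd 24350 = n57120 := ndS (p := 23090) (l := 5) rfl N23090 D57120
theorem N24351 : nd 24351 = n57121 := ndS (p := 23091) (l := 6) rfl N23091 D57121
theorem N24352 : nd 24352 = n57122 := ndS (p := 23092) (l := 3) rfl N23092 D57122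
theorem N24353 : nd 24353 = n57123 := ndS (p := 23093) (l := 2) rfl N23093 D57123
theorem N24354 : nd 24354 = n57124 := ndS (p := 23094) (l := 1) rfl N23094 D57124
theorem N24355 : nd 24355 = n57125 := ndS (p := 23095) (l := 0) rfl N23095 D57125
theorem N24356 : nd 24356 = n57126 := ndS (p := 23096) (l := 3) rfl N23096 D57126
theorem N24357 : nd 24357 = n57127 := ndS (p := 23097) (l := 2) rfl N23097 D57127
theorem N24358 : nd 24358 = n57128 := ndS (p := 23099) (l := 3) rfl N23099 D57128
theorem N24359 : nd 24359 = n57129 := ndS (p := 23100) (l := 2) rfl N23100 D57129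
theorem N24360 : nd 24360 = n57130 := ndS (p := 23100) (l := 4) rfl N23100 D57130
theorem N24361 : nd 24361 = n57131 := ndS (p := 23101) (l := 1) rfl N23101 D57131
theorem N24362 : nd 24362 = n57132 := ndS (p := 23102) (l := 8) rfl N23102 D57132
theorem N24363 : nd 24363 = n57133 := ndS (p := 23103) (l := 3) rfl N23103 D57133
theorem N24364 : nd 24364 = n57134 := ndS (p := 23104) (l := 3) rfl N23104 D57134
theorem N24365 : nd 24365 = n57135 := ndS (p := 23105) (l := 2) rfl N23105 D57135
theorem N24366 : nd 24366 = n57136 := ndS (p := 23105) (l := 4) rfl N23105 D57136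
theorem N24367 : nd 24367 = n57137 := ndS (p := 23106) (l := 2) rfl N23106 D57137
theorem N24368 : nd 24368 = n57138 := ndS (p := 23107) (l := 1) rfl N23107 D57138
theorem N24369 : nd 24369 = n57139 := ndS (p := 23108) (l := 3) rfl N23108 D57139
theorem N24370 : nd 24370 = n57140 := ndS (p := 23109) (l := 2) rfl N23109 D57140
theorem N24371 : nd 24371 = n57141 := ndS (p := 23109) (l := 4) rfl N23109 D57141
theorem N24372 : nd 24372 = n57142 := ndS (p := 23110) (l := 1) rfl N23110 D57142
theorem N24373 : nd 24373 = n57143 := ndS (p := 23110) (l := 4) rfl N23110 D57143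
theorem N24374 : nd 24374 = n57144 := ndS (p := 23111) (l := 5) rfl N23111 D57144
theorem N24375 : nd 24375 = n57145 := ndS (p := 23112) (l := 0) rfl N23112 D57145
theorem N24376 : nd 24376 = n57146 := ndS (p := 23112) (l := 4) rfl N23112 D57146
theorem N24377 : nd 24377 = n57147 := ndS (p := 23113) (l := 5) rfl N23113 D57147
theorem N24378 : nd 24378 = n57148 := ndS (p := 23115) (l := 2) rfl N23115 D57148
theorem N24379 : nd 24379 = n57149 := ndS (p := 23116) (l := 1) rfl N23116 D57149
theorem N24380 : nd 24380 = n57150 := ndS (p := 23117) (l := 0) rfl N23117 D57150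
theorem N24381 : nd 24381 = n57151 := ndS (p := 23120) (l := 2) rfl N23120 D57151
theorem N24382 : nd 24382 = n57152 := ndS (p := 23120) (l := 4) rfl N23120 D57152
theorem N24383 : nd 24383 = n57153 := ndS (p := 23122) (l := 5) rfl N23122 D57153
theorem N24384 : nd 24384 = n57154 := ndS (p := 23123) (l := 6) rfl N23123 D57154
theorem N24385 : nd 24385 = n57155 := ndS (p := 23125) (l := 4) rfl N23125 D57155
theorem N24386 : nd 24386 = n57156 := ndS (p := 23126) (l := 4) rfl N23126 D57156
theorem N24387 : nd 24387 = n57157 := ndS (p := 23128) (l := 4) rfl N23128 D57157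
theorem N24388 : nd 24388 = n57158 := ndS (p := 23134) (l := 3) rfl N23134 D57158
theorem N24389 : nd 24389 = n57159 := ndS (p := 23136) (l := 4) rfl N23136 D57159
theorem N24390 : nd 24390 = n57160 := ndS (p := 23137) (l := 3) rfl N23137 D57160
theorem N24391 : nd 24391 = n57161 := ndS (p := 23138) (l := 4) rfl N23138 D57161
theorem N24392 : nd 24392 = n57162 := ndS (p := 23139) (l := 4) rfl N23139 D57162
theorem N24393 : nd 24393 = n57163 := ndS (p := 23141) (l := 3) rfl N23141 D57163
theorem N24394 : nd 24394 = n57164 := ndS (p := 23142) (l := 4) rfl N23142 D57164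
theorem N24395 : nd 24395 = n57165 := ndS (p := 23144) (l := 3) rfl N23144 D57165
theorem N24396 : nd 24396 = n57166 := ndS (p := 23145) (l := 4) rfl N23145 D57166
theorem N24397 : nd 24397 = n57167 := ndS (p := 23147) (l := 3) rfl N23147 D57167
theorem N24398 : nd 24398 = n57168 := ndS (p := 23148) (l := 4) rfl N23148 D57168
theorem N24399 : nd 24399 = n57169 := ndS (p := 23149) (l := 4) rfl N23149 D57169
theorem N24400 : nd 24400 = n57170 := ndS (p := 23151) (l := 5) rfl N23151 D57170
theorem N24401 : nd 24401 = n57171 := ndS (p := 23152) (l := 5) rfl N23152 D57171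
theorem N24402 : nd 24402 = n57172 := ndS (p := 23161) (l := 8) rfl N23161 D57172
theorem N24403 : nd 24403 = n57173 := ndS (p := 23162) (l := 3) rfl N23162 D57173
theorem N24404 : nd 24404 = n57174 := ndS (p := 23163) (l := 3) rfl N23163 D57174
theorem N24405 : nd 24405 = n57175 := ndS (p := 23165) (l := 8) rfl N23165 D57175
theorem N24406 : nd 24406 = n57176 := ndS (p := 23166) (l := 3) rfl N23166 D57176
theorem N24407 : nd 24407 = n57177 := ndS (p := 23167) (l := 8) rfl N23167 D57177
theorem N24408 : nd 24408 = n57178 := ndS (p := 23168) (l := 3) rfl N23168 D57178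
theorem N24409 : nd 24409 = n57179 := ndS (p := 23169) (l := 3) rfl N23169 D57179
theorem N24410 : nd 24410 = n57180 := ndS (p := 23170) (l := 2) rfl N23170 D57180
theorem N24411 : nd 24411 = n57181 := ndS (p := 23173) (l := 8) rfl N23173 D57181
theorem N24412 : nd 24412 = n57182 := ndS (p := 23176) (l := 2) rfl N23176 D57182
theorem N24413 : nd 24413 = n57183 := ndS (p := 23176) (l := 4) rfl N23176 D57183
theorem N24414 : nd 24414 = n57184 := ndS (p := 23178) (l := 4) rfl N23178 D57184
theorem N24415 : nd 24415 = n57185 := ndS (p := 23180) (l := 3) rfl N23180 D57185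
theorem N24416 : nd 24416 = n57186 := ndS (p := 23181) (l := 2) rfl N23181 D57186
theorem N24417 : nd 24417 = n57187 := ndS (p := 23182) (l := 3) rfl N23182 D57187
theorem N24418 : nd 24418 = n57188 := ndS (p := 23183) (l := 3) rfl N23183 D57188
theorem N24419 : nd 24419 = n57189 := ndS (p := 23184) (l := 2) rfl N23184 D57189
theorem N24420 : nd 24420 = n57190 := ndS (p := 23185) (l := 3) rfl N23185 D57190
theorem N24421 : nd 24421 = n57191 := ndS (p := 23186) (l := 4) rfl N23186 D57191
theorem N24422 : nd 24422 = n57192 := ndS (p := 23188) (l := 2) rfl N23188 D57192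
theorem N24423 : nd 24423 = n57193 := ndS (p := 23189) (l := 2) rfl N23189 D57193
theorem N24424 : nd 24424 = n57194 := ndS (p := 23190) (l := 8) rfl N23190 D57194
theorem N24425 : nd 24425 = n57195 := ndS (p := 23191) (l := 3) rfl N23191 D57195
theorem N24426 : nd 24426 = n57196 := ndS (p := 23192) (l := 2) rfl N23192 D57196
theorem N24427 : nd 24427 = n57197 := ndS (p := 23192) (l := 4) rfl N23192 D57197
theorem N24428 : nd 24428 = n57198 := ndS (p := 23193) (l := 1) rfl N23193 D57198
theorem N24429 : nd 24429 = n57199 := ndS (p := 23195) (l := 4) rfl N23195 D57199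
theorem N24430 : nd 24430 = n57200 := ndS (p := 23196) (l := 1) rfl N23196 D57200
theorem N24431 : nd 24431 = n57201 := ndS (p := 23196) (l := 4) rfl N23196 D57201
theorem N24432 : nd 24432 = n57202 := ndS (p := 23200) (l := 4) rfl N23200 D57202
theorem N24433 : nd 24433 = n57203 := ndS (p := 23201) (l := 3) rfl N23201 D57203
theorem N24434 : nd 24434 = n57204 := ndS (p := 23202) (l := 9) rfl N23202 D57204
theorem N24435 : nd 24435 = n57205 := ndS (p := 23203) (l := 8) rfl N23203 D57205
theorem N24436 : nd 24436 = n57206 := ndS (p := 23205) (l := 9) rfl N23205 D57206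
theorem N24437 : nd 24437 = n57207 := ndS (p := 23206) (l := 8) rfl N23206 D57207
theorem N24438 : nd 24438 = n57208 := ndS (p := 23207) (l := 9) rfl N23207 D57208
theorem N24439 : nd 24439 = n57209 := ndS (p := 23208) (l := 9) rfl N23208 D57209
theorem N24440 : nd 24440 = n57210 := ndS (p := 23209) (l := 8) rfl N23209 D57210
theorem N24441 : nd 24441 = n57211 := ndS (p := 23210) (l := 3) rfl N23210 D57211
theorem N24442 : nd 24442 = n57212 := ndS (p := 23211) (l := 8) rfl N23211 D57212
theorem N24443 : nd 24443 = n57213 := ndS (p := 23212) (l := 3) rfl N23212 D57213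
theorem N24444 : nd 24444 = n57214 := ndS (p := 23213) (l := 8) rfl N23213 D57214
theorem N24445 : nd 24445 = n57215 := ndS (p := 23215) (l := 9) rfl N23215 D57215
theorem N24446 : nd 24446 = n57216 := ndS (p := 23216) (l := 8) rfl N23216 D57216
theorem N24447 : nd 24447 = n57217 := ndS (p := 23217) (l := 3) rfl N23217 D57217
theorem N24448 : nd 24448 = n57218 := ndS (p := 23218) (l := 9) rfl N23218 D57218
theorem N24449 : nd 24449 = n57219 := ndS (p := 23219) (l := 8) rfl N23219 D57219
theorem N24450 : nd 24450 = n57220 := ndS (p := 23220) (l := 3) rfl N23220 D57220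
theorem N24451 : nd 24451 = n57221 := ndS (p := 23221) (l := 9) rfl N23221 D57221
theorem N24452 : nd 24452 = n57222 := ndS (p := 23222) (l := 8) rfl N23222 D57222
theorem N24453 : nd 24453 = n57223 := ndS (p := 23223) (l := 3) rfl N23223 D57223
theorem N24454 : nd 24454 = n57224 := ndS (p := 23224) (l := 4) rfl N23224 D57224
theorem N24455 : nd 24455 = n57225 := ndS (p := 23225) (l := 3) rfl N23225 D57225
theorem N24456 : nd 24456 = n57226 := ndS (p := 23226) (l := 2) rfl N23226 D57226
theorem N24457 : nd 24457 = n57227 := ndS (p := 23227) (l := 4) rfl N23227 D57227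
theorem N24458 : nd 24458 = n57228 := ndS (p := 23228) (l := 8) rfl N23228 D57228
theorem N24459 : nd 24459 = n57229 := ndS (p := 23229) (l := 3) rfl N23229 D57229
theorem N24460 : nd 24460 = n57230 := ndS (p := 23230) (l := 2) rfl N23230 D57230
theorem N24461 : nd 24461 = n57231 := ndS (p := 23231) (l := 5) rfl N23231 D57231
theorem N24462 : nd 24462 = n57232 := ndS (p := 23232) (l := 2) rfl N23232 D57232
theorem N24463 : nd 24463 = n57233 := ndS (p := 23232) (l := 4) rfl N23232 D57233
theorem N24464 : nd 24464 = n57234 := ndS (p := 23234) (l := 3) rfl N23234 D57234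
theorem N24465 : nd 24465 = n57235 := ndS (p := 23235) (l := 8) rfl N23235 D57235
theorem N24466 : nd 24466 = n57236 := ndS (p := 23236) (l := 3) rfl N23236 D57236
theorem N24467 : nd 24467 = n57237 := ndS (p := 23237) (l := 4) rfl N23237 D57237
theorem N24468 : nd 24468 = n57238 := ndS (p := 23238) (l := 8) rfl N23238 D57238
theorem N24469 : nd 24469 = n57239 := ndS (p := 23239) (l := 3) rfl N23239 D57239
theorem N24470 : nd 24470 = n57240 := ndS (p := 23240) (l := 2) rfl N23240 D57240
theorem N24471 : nd 24471 = n57241 := ndS (p := 23241) (l := 9) rfl N23241 D57241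
theorem N24472 : nd 24472 = n57242 := ndS (p := 23242) (l := 8) rfl N23242 D57242
theorem N24473 : nd 24473 = n57243 := ndS (p := 23243) (l := 3) rfl N23243 D57243
theorem N24474 : nd 24474 = n57244 := ndS (p := 23244) (l := 4) rfl N23244 D57244
theorem N24475 : nd 24475 = n57245 := ndS (p := 23245) (l := 9) rfl N23245 D57245
theorem N24476 : nd 24476 = n57246 := ndS (p := 23246) (l := 8) rfl N23246 D57246
theorem N24477 : nd 24477 = n57247 := ndS (p := 23247) (l := 8) rfl N23247 D57247
theorem N24478 : nd 24478 = n57248 := ndS (p := 23248) (l := 3) rfl N23248 D57248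
theorem N24479 : nd 24479 = n57249 := ndS (p := 23249) (l := 3) rfl N23249 D57249
theorem N24480 : nd 24480 = n57250 := ndS (p := 23250) (l := 2) rfl N23250 D57250
theorem N24481 : nd 24481 = n57251 := ndS (p := 23250) (l := 4) rfl N23250 D57251
theorem N24482 : nd 24482 = n57252 := ndS (p := 23251) (l := 5) rfl N23251 D57252
theorem N24483 : nd 24483 = n57253 := ndS (p := 23252) (l := 2) rfl N23252 D57253
theorem N24484 : nd 24484 = n57254 := ndS (p := 23252) (l := 4) rfl N23252 D57254
theorem N24485 : nd 24485 = n57255 := ndS (p := 23253) (l := 1) rfl N23253 D57255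
theorem N24486 : nd 24486 = n57256 := ndS (p := 23254) (l := 3) rfl N23254 D57256
theorem N24487 : nd 24487 = n57257 := ndS (p := 23255) (l := 2) rfl N23255 D57257
theorem N24488 : nd 24488 = n57258 := ndS (p := 23255) (l := 4) rfl N23255 D57258
theorem N24489 : nd 24489 = n57259 := ndS (p := 23256) (l := 5) rfl N23256 D57259
theorem N24490 : nd 24490 = n57260 := ndS (p := 23257) (l := 3) rfl N23257 D57260
theorem N24491 : nd 24491 = n57261 := ndS (p := 23258) (l := 2) rfl N23258 D57261
theorem N24492 : nd 24492 = n57262 := ndS (p := 23258) (l := 4) rfl N23258 D57262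
theorem N24493 : nd 24493 = n57263 := ndS (p := 23260) (l := 2) rfl N23260 D57263
theorem N24494 : nd 24494 = n57264 := ndS (p := 23260) (l := 4) rfl N23260 D57264
theorem N24495 : nd 24495 = n57265 := ndS (p := 23262) (l := 5) rfl N23262 D57265
theorem N24496 : nd 24496 = n57266 := ndS (p := 23263) (l := 6) rfl N23263 D57266
theorem N24497 : nd 24497 = n57267 := ndS (p := 23264) (l := 4) rfl N23264 D57267
theorem N24498 : nd 24498 = n57268 := ndS (p := 23267) (l := 2) rfl N23267 D57268
theorem N24499 : nd 24499 = n57269 := ndS (p := 23267) (l := 4) rfl N23267 D57269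
theorem N24500 : nd 24500 = n57270 := ndS (p := 23268) (l := 4) rfl N23268 D57270
theorem N24501 : nd 24501 = n57271 := ndS (p := 23270) (l := 4) rfl N23270 D57271
theorem N24502 : nd 24502 = n57272 := ndS (p := 23271) (l := 3) rfl N23271 D57272
theorem N24503 : nd 24503 = n57273 := ndS (p := 23272) (l := 5) rfl N23272 D57273
theorem N24504 : nd 24504 = n57274 := ndS (p := 23273) (l := 8) rfl N23273 D57274
theorem N24505 : nd 24505 = n57275 := ndS (p := 23274) (l := 3) rfl N23274 D57275
theorem N24506 : nd 24506 = n57276 := ndS (p := 23275) (l := 4) rfl N23275 D57276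
theorem N24507 : nd 24507 = n57277 := ndS (p := 23277) (l := 3) rfl N23277 D57277
theorem N24508 : nd 24508 = n57278 := ndS (p := 23278) (l := 4) rfl N23278 D57278
theorem N24509 : nd 24509 = n57279 := ndS (p := 23279) (l := 5) rfl N23279 D57279
theorem N24510 : nd 24510 = n57280 := ndS (p := 23281) (l := 6) rfl N23281 D57280
theorem N24511 : nd 24511 = n57281 := ndS (p := 23282) (l := 8) rfl N23282 D57281
theorem N24512 : nd 24512 = n57282 := ndS (p := 23284) (l := 3) rfl N23284 D57282
theorem N24513 : nd 24513 = n57283 := ndS (p := 23285) (l := 9) rfl N23285 D57283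
theorem N24514 : nd 24514 = n57284 := ndS (p := 23286) (l := 8) rfl N23286 D57284
theorem N24515 : nd 24515 = n57285 := ndS (p := 23287) (l := 9) rfl N23287 D57285
theorem N24516 : nd 24516 = n57286 := ndS (p := 23288) (l := 8) rfl N23288 D57286
theorem N24517 : nd 24517 = n57287 := ndS (p := 23290) (l := 8) rfl N23290 D57287
theorem N24518 : nd 24518 = n57288 := ndS (p := 23291) (l := 3) rfl N23291 D57288
theorem N24519 : nd 24519 = n57289 := ndS (p := 23292) (l := 3) rfl N23292 D57289
theorem N24520 : nd 24520 = n57290 := ndS (p := 23293) (l := 8) rfl N23293 D57290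
theorem N24521 : nd 24521 = n57291 := ndS (p := 23294) (l := 3) rfl N23294 D57291
theorem N24522 : nd 24522 = n57292 := ndS (p := 23295) (l := 4) rfl N23295 D57292
theorem N24523 : nd 24523 = n57293 := ndS (p := 23296) (l := 3) rfl N23296 D57293
theorem N24524 : nd 24524 = n57294 := ndS (p := 23297) (l := 2) rfl N23297 D57294
theorem N24525 : nd 24525 = n57295 := ndS (p := 23299) (l := 4) rfl N23299 D57295
theorem N24526 : nd 24526 = n57296 := ndS (p := 23301) (l := 8) rfl N23301 D57296
theorem N24527 : nd 24527 = n57297 := ndS (p := 23302) (l := 3) rfl N23302 D57297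
theorem N24528 : nd 24528 = n57298 := ndS (p := 23303) (l := 3) rfl N23303 D57298
theorem N24529 : nd 24529 = n57299 := ndS (p := 23304) (l := 8) rfl N23304 D57299
theorem N24530 : nd 24530 = n57300 := ndS (p := 23305) (l := 3) rfl N23305 D57300
theorem N24531 : nd 24531 = n57301 := ndS (p := 23306) (l := 4) rfl N23306 D57301
theorem N24532 : nd 24532 = n57302 := ndS (p := 23307) (l := 3) rfl N23307 D57302
theorem N24533 : nd 24533 = n57303 := ndS (p := 23308) (l := 2) rfl N23308 D57303
theorem N24534 : nd 24534 = n57304 := ndS (p := 23309) (l := 4) rfl N23309 D57304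
theorem N24535 : nd 24535 = n57305 := ndS (p := 23310) (l := 8) rfl N23310 D57305
theorem N24536 : nd 24536 = n57306 := ndS (p := 23311) (l := 3) rfl N23311 D57306
theorem N24537 : nd 24537 = n57307 := ndS (p := 23312) (l := 2) rfl N23312 D57307
theorem N24538 : nd 24538 = n57308 := ndS (p := 23313) (l := 2) rfl N23313 D57308
theorem N24539 : nd 24539 = n57309 := ndS (p := 23313) (l := 4) rfl N23313 D57309
theorem N24540 : nd 24540 = n57310 := ndS (p := 23315) (l := 8) rfl N23315 D57310
theorem N24541 : nd 24541 = n57311 := ndS (p := 23316) (l := 3) rfl N23316 D57311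
theorem N24542 : nd 24542 = n57312 := ndS (p := 23317) (l := 2) rfl N23317 D57312
theorem N24543 : nd 24543 = n57313 := ndS (p := 23317) (l := 4) rfl N23317 D57313
theorem N24544 : nd 24544 = n57314 := ndS (p := 23318) (l := 1) rfl N23318 D57314
theorem N24545 : nd 24545 = n57315 := ndS (p := 23319) (l := 3) rfl N23319 D57315
theorem N24546 : nd 24546 = n57316 := ndS (p := 23320) (l := 4) rfl N23320 D57316
theorem N24547 : nd 24547 = n57317 := ndS (p := 23323) (l := 4) rfl N23323 D57317
theorem N24548 : nd 24548 = n57318 := ndS (p := 23325) (l := 9) rfl N23325 D57318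
theorem N24549 : nd 24549 = n57319 := ndS (p := 23326) (l := 8) rfl N23326 D57319
theorem N24550 : nd 24550 = n57320 := ndS (p := 23327) (l := 9) rfl N23327 D57320
theorem N24551 : nd 24551 = n57321 := ndS (p := 23328) (l := 9) rfl N23328 D57321
theorem N24552 : nd 24552 = n57322 := ndS (p := 23329) (l := 8) rfl N23329 D57322
theorem N24553 : nd 24553 = n57323 := ndS (p := 23330) (l := 3) rfl N23330 D57323
theorem N24554 : nd 24554 = n57324 := ndS (p := 23331) (l := 9) rfl N23331 D57324
theorem N24555 : nd 24555 = n57325 := ndS (p := 23332) (l := 8) rfl N23332 D57325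
theorem N24556 : nd 24556 = n57326 := ndS (p := 23333) (l := 3) rfl N23333 D57326
theorem N24557 : nd 24557 = n57327 := ndS (p := 23334) (l := 9) rfl N23334 D57327
theorem N24558 : nd 24558 = n57328 := ndS (p := 23335) (l := 8) rfl N23335 D57328
theorem N24559 : nd 24559 = n57329 := ndS (p := 23336) (l := 8) rfl N23336 D57329
theorem N24560 : nd 24560 = n57330 := ndS (p := 23337) (l := 3) rfl N23337 D57330
theorem N24561 : nd 24561 = n57331 := ndS (p := 23338) (l := 8) rfl N23338 D57331
theorem N24562 : nd 24562 = n57332 := ndS (p := 23339) (l := 8) rfl N23339 D57332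
theorem N24563 : nd 24563 = n57333 := ndS (p := 23340) (l := 3) rfl N23340 D57333
theorem N24564 : nd 24564 = n57334 := ndS (p := 23341) (l := 4) rfl N23341 D57334
theorem N24565 : nd 24565 = n57335 := ndS (p := 23342) (l := 3) rfl N23342 D57335
theorem N24566 : nd 24566 = n57336 := ndS (p := 23343) (l := 2) rfl N23343 D57336
theorem N24567 : nd 24567 = n57337 := ndS (p := 23344) (l := 9) rfl N23344 D57337
theorem N24568 : nd 24568 = n57338 := ndS (p := 23345) (l := 8) rfl N23345 D57338
theorem N24569 : nd 24569 = n57339 := ndS (p := 23346) (l := 3) rfl N23346 D57339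
theorem N24570 : nd 24570 = n57340 := ndS (p := 23347) (l := 8) rfl N23347 D57340
theorem N24571 : nd 24571 = n57341 := ndS (p := 23348) (l := 3) rfl N23348 D57341
theorem N24572 : nd 24572 = n57342 := ndS (p := 23349) (l := 8) rfl N23349 D57342
theorem N24573 : nd 24573 = n57343 := ndS (p := 23350) (l := 3) rfl N23350 D57343
theorem N24574 : nd 24574 = n57344 := ndS (p := 23351) (l := 4) rfl N23351 D57344
theorem N24575 : nd 24575 = n57345 := ndS (p := 23352) (l := 8) rfl N23352 D57345
theorem N24576 : nd 24576 = n57346 := ndS (p := 23353) (l := 3) rfl N23353 D57346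
theorem N24577 : nd 24577 = n57347 := ndS (p := 23354) (l := 2) rfl N23354 D57347
theorem N24578 : nd 24578 = n57348 := ndS (p := 23355) (l := 8) rfl N23355 D57348
theorem N24579 : nd 24579 = n57349 := ndS (p := 23356) (l := 3) rfl N23356 D57349
theorem N24580 : nd 24580 = n57350 := ndS (p := 23357) (l := 4) rfl N23357 D57350
theorem N24581 : nd 24581 = n57351 := ndS (p := 23358) (l := 8) rfl N23358 D57351
theorem N24582 : nd 24582 = n57352 := ndS (p := 23359) (l := 8) rfl N23359 D57352
theorem N24583 : nd 24583 = n57353 := ndS (p := 23360) (l := 3) rfl N23360 D57353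
theorem N24584 : nd 24584 = n57354 := ndS (p := 23361) (l := 3) rfl N23361 D57354
theorem N24585 : nd 24585 = n57355 := ndS (p := 23362) (l := 2) rfl N23362 D57355
theorem N24586 : nd 24586 = n57356 := ndS (p := 23362) (l := 4) rfl N23362 D57356
theorem N24587 : nd 24587 = n57357 := ndS (p := 23363) (l := 5) rfl N23363 D57357
theorem N24588 : nd 24588 = n57358 := ndS (p := 23364) (l := 8) rfl N23364 D57358
theorem N24589 : nd 24589 = n57359 := ndS (p := 23365) (l := 3) rfl N23365 D57359
theorem N24590 : nd 24590 = n57360 := ndS (p := 23366) (l := 2) rfl N23366 D57360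
theorem N24591 : nd 24591 = n57361 := ndS (p := 23366) (l := 4) rfl N23366 D57361
theorem N24592 : nd 24592 = n57362 := ndS (p := 23367) (l := 1) rfl N23367 D57362
theorem N24593 : nd 24593 = n57363 := ndS (p := 23369) (l := 5) rfl N23369 D57363
theorem N24594 : nd 24594 = n57364 := ndS (p := 23370) (l := 3) rfl N23370 D57364
theorem N24595 : nd 24595 = n57365 := ndS (p := 23371) (l := 2) rfl N23371 D57365
theorem N24596 : nd 24596 = n57366 := ndS (p := 23371) (l := 4) rfl N23371 D57366
theorem N24597 : nd 24597 = n57367 := ndS (p := 23374) (l := 3) rfl N23374 D57367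
theorem N24598 : nd 24598 = n57368 := ndS (p := 23375) (l := 4) rfl N23375 D57368
theorem N24599 : nd 24599 = n57369 := ndS (p := 23376) (l := 4) rfl N23376 D57369
theorem N24600 : nd 24600 = n57370 := ndS (p := 23379) (l := 9) rfl N23379 D57370
theorem N24601 : nd 24601 = n57371 := ndS (p := 23380) (l := 8) rfl N23380 D57371
theorem N24602 : nd 24602 = n57372 := ndS (p := 23381) (l := 3) rfl N23381 D57372
theorem N24603 : nd 24603 = n57373 := ndS (p := 23382) (l := 2) rfl N23382 D57373
theorem N24604 : nd 24604 = n57374 := ndS (p := 23383) (l := 8) rfl N23383 D57374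
theorem N24605 : nd 24605 = n57375 := ndS (p := 23384) (l := 3) rfl N23384 D57375
theorem N24606 : nd 24606 = n57376 := ndS (p := 23385) (l := 3) rfl N23385 D57376
theorem N24607 : nd 24607 = n57377 := ndS (p := 23386) (l := 4) rfl N23386 D57377
theorem N24608 : nd 24608 = n57378 := ndS (p := 23387) (l := 2) rfl N23387 D57378
theorem N24609 : nd 24609 = n57379 := ndS (p := 23387) (l := 4) rfl N23387 D57379
theorem N24610 : nd 24610 = n57380 := ndS (p := 23388) (l := 5) rfl N23388 D57380
theorem N24611 : nd 24611 = n57381 := ndS (p := 23389) (l := 8) rfl N23389 D57381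
theorem N24612 : nd 24612 = n57382 := ndS (p := 23390) (l := 3) rfl N23390 D57382
theorem N24613 : nd 24613 = n57383 := ndS (p := 23391) (l := 2) rfl N23391 D57383
theorem N24614 : nd 24614 = n57384 := ndS (p := 23391) (l := 4) rfl N23391 D57384
theorem N24615 : nd 24615 = n57385 := ndS (p := 23392) (l := 1) rfl N23392 D57385
theorem N24616 : nd 24616 = n57386 := ndS (p := 23393) (l := 8) rfl N23393 D57386
theorem N24617 : nd 24617 = n57387 := ndS (p := 23394) (l := 3) rfl N23394 D57387
theorem N24618 : nd 24618 = n57388 := ndS (p := 23395) (l := 4) rfl N23395 D57388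
theorem N24619 : nd 24619 = n57389 := ndS (p := 23396) (l := 8) rfl N23396 D57389
theorem N24620 : nd 24620 = n57390 := ndS (p := 23397) (l := 3) rfl N23397 D57390
theorem N24621 : nd 24621 = n57391 := ndS (p := 23398) (l := 3) rfl N23398 D57391
theorem N24622 : nd 24622 = n57392 := ndS (p := 23399) (l := 2) rfl N23399 D57392
theorem N24623 : nd 24623 = n57393 := ndS (p := 23399) (l := 4) rfl N23399 D57393
theorem N24624 : nd 24624 = n57394 := ndS (p := 23400) (l := 5) rfl N23400 D57394
theorem N24625 : nd 24625 = n57395 := ndS (p := 23401) (l := 3) rfl N23401 D57395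
theorem N24626 : nd 24626 = n57396 := ndS (p := 23402) (l := 2) rfl N23402 D57396
theorem N24627 : nd 24627 = n57397 := ndS (p := 23402) (l := 4) rfl N23402 D57397
theorem N24628 : nd 24628 = n57398 := ndS (p := 23403) (l := 8) rfl N23403 D57398
theorem N24629 : nd 24629 = n57399 := ndS (p := 23404) (l := 3) rfl N23404 D57399
theorem N24630 : nd 24630 = n57400 := ndS (p := 23405) (l := 2) rfl N23405 D57400
theorem N24631 : nd 24631 = n57401 := ndS (p := 23406) (l := 1) rfl N23406 D57401
theorem N24632 : nd 24632 = n57402 := ndS (p := 23406) (l := 4) rfl N23406 D57402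
theorem N24633 : nd 24633 = n57403 := ndS (p := 23407) (l := 5) rfl N23407 D57403
theorem N24634 : nd 24634 = n57404 := ndS (p := 23408) (l := 6) rfl N23408 D57404
theorem N24635 : nd 24635 = n57405 := ndS (p := 23409) (l := 3) rfl N23409 D57405
theorem N24636 : nd 24636 = n57406 := ndS (p := 23410) (l := 2) rfl N23410 D57406
theorem N24637 : nd 24637 = n57407 := ndS (p := 23410) (l := 4) rfl N23410 D57407
theorem N24638 : nd 24638 = n57408 := ndS (p := 23411) (l := 1) rfl N23411 D57408
theorem N24639 : nd 24639 = n57409 := ndS (p := 23411) (l := 4) rfl N23411 D57409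
theorem N24640 : nd 24640 = n57410 := ndS (p := 23413) (l := 0) rfl N23413 D57410
theorem N24641 : nd 24641 = n57411 := ndS (p := 23415) (l := 5) rfl N23415 D57411
theorem N24642 : nd 24642 = n57412 := ndS (p := 23416) (l := 6) rfl N23416 D57412
theorem N24643 : nd 24643 = n57413 := ndS (p := 23417) (l := 3) rfl N23417 D57413
theorem N24644 : nd 24644 = n57414 := ndS (p := 23418) (l := 4) rfl N23418 D57414
theorem N24645 : nd 24645 = n57415 := ndS (p := 23419) (l := 1) rfl N23419 D57415
theorem N24646 : nd 24646 = n57416 := ndS (p := 23419) (l := 4) rfl N23419 D57416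
theorem N24647 : nd 24647 = n57417 := ndS (p := 23425) (l := 4) rfl N23425 D57417
theorem N24648 : nd 24648 = n57418 := ndS (p := 23427) (l := 4) rfl N23427 D57418
theorem N24649 : nd 24649 = n57419 := ndS (p := 23428) (l := 3) rfl N23428 D57419
theorem N24650 : nd 24650 = n57420 := ndS (p := 23429) (l := 4) rfl N23429 D57420
theorem N24651 : nd 24651 = n57421 := ndS (p := 23430) (l := 5) rfl N23430 D57421
theorem N24652 : nd 24652 = n57422 := ndS (p := 23431) (l := 4) rfl N23431 D57422
theorem N24653 : nd 24653 = n57423 := ndS (p := 23433) (l := 4) rfl N23433 D57423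
theorem N24654 : nd 24654 = n57424 := ndS (p := 23435) (l := 3) rfl N23435 D57424
theorem N24655 : nd 24655 = n57425 := ndS (p := 23436) (l := 3) rfl N23436 D57425
theorem N24656 : nd 24656 = n57426 := ndS (p := 23437) (l := 8) rfl N23437 D57426
theorem N24657 : nd 24657 = n57427 := ndS (p := 23442) (l := 3) rfl N23442 D57427
theorem N24658 : nd 24658 = n57428 := ndS (p := 23443) (l := 4) rfl N23443 D57428
theorem N24659 : nd 24659 = n57429 := ndS (p := 23446) (l := 4) rfl N23446 D57429
theorem N24660 : nd 24660 = n57430 := ndS (p := 23447) (l := 5) rfl N23447 D57430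
theorem N24661 : nd 24661 = n57431 := ndS (p := 23448) (l := 6) rfl N23448 D57431
theorem N24662 : nd 24662 = n57432 := ndS (p := 23466) (l := 8) rfl N23466 D57432
theorem N24663 : nd 24663 = n57433 := ndS (p := 23468) (l := 3) rfl N23468 D57433
theorem N24664 : nd 24664 = n57434 := ndS (p := 23469) (l := 8) rfl N23469 D57434
theorem N24665 : nd 24665 = n57435 := ndS (p := 23471) (l := 8) rfl N23471 D57435
theorem N24666 : nd 24666 = n57436 := ndS (p := 23472) (l := 3) rfl N23472 D57436
theorem N24667 : nd 24667 = n57437 := ndS (p := 23473) (l := 8) rfl N23473 D57437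
theorem N24668 : nd 24668 = n57438 := ndS (p := 23474) (l := 3) rfl N23474 D57438
theorem N24669 : nd 24669 = n57439 := ndS (p := 23476) (l := 3) rfl N23476 D57439
theorem N24670 : nd 24670 = n57440 := ndS (p := 23478) (l := 8) rfl N23478 D57440
theorem N24671 : nd 24671 = n57441 := ndS (p := 23480) (l := 3) rfl N23480 D57441
theorem N24672 : nd 24672 = n57442 := ndS (p := 23481) (l := 3) rfl N23481 D57442
theorem N24673 : nd 24673 = n57443 := ndS (p := 23482) (l := 4) rfl N23482 D57443
theorem N24674 : nd 24674 = n57444 := ndS (p := 23483) (l := 3) rfl N23483 D57444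
theorem N24675 : nd 24675 = n57445 := ndS (p := 23484) (l := 2) rfl N23484 D57445
theorem N24676 : nd 24676 = n57446 := ndS (p := 23485) (l := 4) rfl N23485 D57446
theorem N24677 : nd 24677 = n57447 := ndS (p := 23488) (l := 9) rfl N23488 D57447
theorem N24678 : nd 24678 = n57448 := ndS (p := 23489) (l := 9) rfl N23489 D57448
theorem N24679 : nd 24679 = n57449 := ndS (p := 23490) (l := 8) rfl N23490 D57449
theorem N24680 : nd 24680 = n57450 := ndS (p := 23491) (l := 3) rfl N23491 D57450
theorem N24681 : nd 24681 = n57451 := ndS (p := 23492) (l := 8) rfl N23492 D57451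
theorem N24682 : nd 24682 = n57452 := ndS (p := 23493) (l := 3) rfl N23493 D57452
theorem N24683 : nd 24683 = n57453 := ndS (p := 23494) (l := 3) rfl N23494 D57453
theorem N24684 : nd 24684 = n57454 := ndS (p := 23495) (l := 8) rfl N23495 D57454
theorem N24685 : nd 24685 = n57455 := ndS (p := 23496) (l := 3) rfl N23496 D57455
theorem N24686 : nd 24686 = n57456 := ndS (p := 23497) (l := 8) rfl N23497 D57456
theorem N24687 : nd 24687 = n57457 := ndS (p := 23498) (l := 3) rfl N23498 D57457
theorem N24688 : nd 24688 = n57458 := ndS (p := 23499) (l := 4) rfl N23499 D57458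
theorem N24689 : nd 24689 = n57459 := ndS (p := 23500) (l := 8) rfl N23500 D57459
theorem N24690 : nd 24690 = n57460 := ndS (p := 23501) (l := 3) rfl N23501 D57460
theorem N24691 : nd 24691 = n57461 := ndS (p := 23502) (l := 2) rfl N23502 D57461
theorem N24692 : nd 24692 = n57462 := ndS (p := 23504) (l := 5) rfl N23504 D57462
theorem N24693 : nd 24693 = n57463 := ndS (p := 23505) (l := 3) rfl N23505 D57463
theorem N24694 : nd 24694 = n57464 := ndS (p := 23506) (l := 2) rfl N23506 D57464
theorem N24695 : nd 24695 = n57465 := ndS (p := 23506) (l := 4) rfl N23506 D57465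
theorem N24696 : nd 24696 = n57466 := ndS (p := 23509) (l := 3) rfl N23509 D57466
theorem N24697 : nd 24697 = n57467 := ndS (p := 23510) (l := 2) rfl N23510 D57467
theorem N24698 : nd 24698 = n57468 := ndS (p := 23511) (l := 3) rfl N23511 D57468
theorem N24699 : nd 24699 = n57469 := ndS (p := 23512) (l := 4) rfl N23512 D57469
theorem N24700 : nd 24700 = n57470 := ndS (p := 23513) (l := 3) rfl N23513 D57470
theorem N24701 : nd 24701 = n57471 := ndS (p := 23514) (l := 2) rfl N23514 D57471
theorem N24702 : nd 24702 = n57472 := ndS (p := 23514) (l := 4) rfl N23514 D57472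
theorem N24703 : nd 24703 = n57473 := ndS (p := 23515) (l := 5) rfl N23515 D57473
theorem N24704 : nd 24704 = n57474 := ndS (p := 23516) (l := 3) rfl N23516 D57474
theorem N24705 : nd 24705 = n57475 := ndS (p := 23517) (l := 2) rfl N23517 D57475
theorem N24706 : nd 24706 = n57476 := ndS (p := 23517) (l := 4) rfl N23517 D57476
theorem N24707 : nd 24707 = n57477 := ndS (p := 23518) (l := 1) rfl N23518 D57477
theorem N24708 : nd 24708 = n57478 := ndS (p := 23520) (l := 4) rfl N23520 D57478
theorem N24709 : nd 24709 = n57479 := ndS (p := 23521) (l := 4) rfl N23521 D57479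
theorem N24710 : nd 24710 = n57480 := ndS (p := 23526) (l := 4) rfl N23526 D57480
theorem N24711 : nd 24711 = n57481 := ndS (p := 23529) (l := 3) rfl N23529 D57481
theorem N24712 : nd 24712 = n57482 := ndS (p := 23530) (l := 3) rfl N23530 D57482
theorem N24713 : nd 24713 = n57483 := ndS (p := 23531) (l := 9) rfl N23531 D57483
theorem N24714 : nd 24714 = n57484 := ndS (p := 23532) (l := 8) rfl N23532 D57484
theorem N24715 : nd 24715 = n57485 := ndS (p := 23534) (l := 8) rfl N23534 D57485
theorem N24716 : nd 24716 = n57486 := ndS (p := 23535) (l := 3) rfl N23535 D57486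
theorem N24717 : nd 24717 = n57487 := ndS (p := 23536) (l := 4) rfl N23536 D57487
theorem N24718 : nd 24718 = n57488 := ndS (p := 23537) (l := 2) rfl N23537 D57488
theorem N24719 : nd 24719 = n57489 := ndS (p := 23538) (l := 8) rfl N23538 D57489
theorem N24720 : nd 24720 = n57490 := ndS (p := 23540) (l := 9) rfl N23540 D57490
theorem N24721 : nd 24721 = n57491 := ndS (p := 23541) (l := 9) rfl N23541 D57491
theorem N24722 : nd 24722 = n57492 := ndS (p := 23542) (l := 8) rfl N23542 D57492
theorem N24723 : nd 24723 = n57493 := ndS (p := 23543) (l := 3) rfl N23543 D57493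
theorem N24724 : nd 24724 = n57494 := ndS (p := 23544) (l := 8) rfl N23544 D57494
theorem N24725 : nd 24725 = n57495 := ndS (p := 23545) (l := 3) rfl N23545 D57495
theorem N24726 : nd 24726 = n57496 := ndS (p := 23546) (l := 8) rfl N23546 D57496
theorem N24727 : nd 24727 = n57497 := ndS (p := 23548) (l := 3) rfl N23548 D57497
theorem N24728 : nd 24728 = n57498 := ndS (p := 23549) (l := 8) rfl N23549 D57498
theorem N24729 : nd 24729 = n57499 := ndS (p := 23550) (l := 3) rfl N23550 D57499
theorem N24730 : nd 24730 = n57500 := ndS (p := 23551) (l := 8) rfl N23551 D57500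
theorem N24731 : nd 24731 = n57501 := ndS (p := 23552) (l := 8) rfl N23552 D57501
theorem N24732 : nd 24732 = n57502 := ndS (p := 23553) (l := 3) rfl N23553 D57502
theorem N24733 : nd 24733 = n57503 := ndS (p := 23554) (l := 4) rfl N23554 D57503
theorem N24734 : nd 24734 = n57504 := ndS (p := 23555) (l := 3) rfl N23555 D57504
theorem N24735 : nd 24735 = n57505 := ndS (p := 23556) (l := 2) rfl N23556 D57505
theorem N24736 : nd 24736 = n57506 := ndS (p := 23559) (l := 5) rfl N23559 D57506
theorem N24737 : nd 24737 = n57507 := ndS (p := 23560) (l := 2) rfl N23560 D57507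
theorem N24738 : nd 24738 = n57508 := ndS (p := 23560) (l := 4) rfl N23560 D57508
theorem N24739 : nd 24739 = n57509 := ndS (p := 23562) (l := 3) rfl N23562 D57509
theorem N24740 : nd 24740 = n57510 := ndS (p := 23563) (l := 3) rfl N23563 D57510
theorem N24741 : nd 24741 = n57511 := ndS (p := 23564) (l := 8) rfl N23564 D57511
theorem N24742 : nd 24742 = n57512 := ndS (p := 23565) (l := 3) rfl N23565 D57512
theorem N24743 : nd 24743 = n57513 := ndS (p := 23566) (l := 2) rfl N23566 D57513
theorem N24744 : nd 24744 = n57514 := ndS (p := 23568) (l := 3) rfl N23568 D57514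
theorem N24745 : nd 24745 = n57515 := ndS (p := 23569) (l := 2) rfl N23569 D57515
theorem N24746 : nd 24746 = n57516 := ndS (p := 23569) (l := 4) rfl N23569 D57516
theorem N24747 : nd 24747 = n57517 := ndS (p := 23570) (l := 3) rfl N23570 D57517
theorem N24748 : nd 24748 = n57518 := ndS (p := 23571) (l := 2) rfl N23571 D57518
theorem N24749 : nd 24749 = n57519 := ndS (p := 23571) (l := 4) rfl N23571 D57519
theorem N24750 : nd 24750 = n57520 := ndS (p := 23572) (l := 5) rfl N23572 D57520
theorem N24751 : nd 24751 = n57521 := ndS (p := 23573) (l := 2) rfl N23573 D57521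
theorem N24752 : nd 24752 = n57522 := ndS (p := 23573) (l := 4) rfl N23573 D57522
theorem N24753 : nd 24753 = n57523 := ndS (p := 23574) (l := 1) rfl N23574 D57523
theorem N24754 : nd 24754 = n57524 := ndS (p := 23576) (l := 5) rfl N23576 D57524
theorem N24755 : nd 24755 = n57525 := ndS (p := 23577) (l := 2) rfl N23577 D57525
theorem N24756 : nd 24756 = n57526 := ndS (p := 23577) (l := 4) rfl N23577 D57526
theorem N24757 : nd 24757 = n57527 := ndS (p := 23579) (l := 5) rfl N23579 D57527
theorem N24758 : nd 24758 = n57528 := ndS (p := 23581) (l := 4) rfl N23581 D57528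
theorem N24759 : nd 24759 = n57529 := ndS (p := 23583) (l := 3) rfl N23583 D57529
theorem N24760 : nd 24760 = n57530 := ndS (p := 23584) (l := 4) rfl N23584 D57530
theorem N24761 : nd 24761 = n57531 := ndS (p := 23585) (l := 5) rfl N23585 D57531
theorem N24762 : nd 24762 = n57532 := ndS (p := 23588) (l := 9) rfl N23588 D57532
theorem N24763 : nd 24763 = n57533 := ndS (p := 23589) (l := 9) rfl N23589 D57533
theorem N24764 : nd 24764 = n57534 := ndS (p := 23590) (l := 8) rfl N23590 D57534
theorem N24765 : nd 24765 = n57535 := ndS (p := 23591) (l := 3) rfl N23591 D57535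
theorem N24766 : nd 24766 = n57536 := ndS (p := 23592) (l := 8) rfl N23592 D57536
theorem N24767 : nd 24767 = n57537 := ndS (p := 23593) (l := 3) rfl N23593 D57537
theorem N24768 : nd 24768 = n57538 := ndS (p := 23594) (l := 8) rfl N23594 D57538
theorem N24769 : nd 24769 = n57539 := ndS (p := 23595) (l := 3) rfl N23595 D57539
theorem N24770 : nd 24770 = n57540 := ndS (p := 23596) (l := 9) rfl N23596 D57540
theorem N24771 : nd 24771 = n57541 := ndS (p := 23597) (l := 8) rfl N23597 D57541
theorem N24772 : nd 24772 = n57542 := ndS (p := 23598) (l := 8) rfl N23598 D57542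
theorem N24773 : nd 24773 = n57543 := ndS (p := 23599) (l := 3) rfl N23599 D57543
theorem N24774 : nd 24774 = n57544 := ndS (p := 23600) (l := 4) rfl N23600 D57544
theorem N24775 : nd 24775 = n57545 := ndS (p := 23601) (l := 3) rfl N23601 D57545
theorem N24776 : nd 24776 = n57546 := ndS (p := 23602) (l := 2) rfl N23602 D57546
theorem N24777 : nd 24777 = n57547 := ndS (p := 23603) (l := 3) rfl N23603 D57547
theorem N24778 : nd 24778 = n57548 := ndS (p := 23604) (l := 9) rfl N23604 D57548
theorem N24779 : nd 24779 = n57549 := ndS (p := 23605) (l := 8) rfl N23605 D57549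
theorem N24780 : nd 24780 = n57550 := ndS (p := 23606) (l := 3) rfl N23606 D57550
theorem N24781 : nd 24781 = n57551 := ndS (p := 23607) (l := 4) rfl N23607 D57551
theorem N24782 : nd 24782 = n57552 := ndS (p := 23608) (l := 3) rfl N23608 D57552
theorem N24783 : nd 24783 = n57553 := ndS (p := 23609) (l := 2) rfl N23609 D57553
theorem N24784 : nd 24784 = n57554 := ndS (p := 23610) (l := 8) rfl N23610 D57554
theorem N24785 : nd 24785 = n57555 := ndS (p := 23611) (l := 3) rfl N23611 D57555
theorem N24786 : nd 24786 = n57556 := ndS (p := 23612) (l := 4) rfl N23612 D57556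
theorem N24787 : nd 24787 = n57557 := ndS (p := 23613) (l := 8) rfl N23613 D57557
theorem N24788 : nd 24788 = n57558 := ndS (p := 23614) (l := 3) rfl N23614 D57558
theorem N24789 : nd 24789 = n57559 := ndS (p := 23615) (l := 3) rfl N23615 D57559
theorem N24790 : nd 24790 = n57560 := ndS (p := 23616) (l := 2) rfl N23616 D57560
theorem N24791 : nd 24791 = n57561 := ndS (p := 23616) (l := 4) rfl N23616 D57561
theorem N24792 : nd 24792 = n57562 := ndS (p := 23617) (l := 5) rfl N23617 D57562
theorem N24793 : nd 24793 = n57563 := ndS (p := 23618) (l := 3) rfl N23618 D57563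
theorem N24794 : nd 24794 = n57564 := ndS (p := 23619) (l := 2) rfl N23619 D57564
theorem N24795 : nd 24795 = n57565 := ndS (p := 23619) (l := 4) rfl N23619 D57565
theorem N24796 : nd 24796 = n57566 := ndS (p := 23620) (l := 1) rfl N23620 D57566
theorem N24797 : nd 24797 = n57567 := ndS (p := 23621) (l := 4) rfl N23621 D57567
theorem N24798 : nd 24798 = n57568 := ndS (p := 23622) (l := 5) rfl N23622 D57568
theorem N24799 : nd 24799 = n57569 := ndS (p := 23623) (l := 4) rfl N23623 D57569
theorem N24800 : nd 24800 = n57570 := ndS (p := 23625) (l := 4) rfl N23625 D57570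
theorem N24801 : nd 24801 = n57571 := ndS (p := 23626) (l := 4) rfl N23626 D57571
theorem N24802 : nd 24802 = n57572 := ndS (p := 23628) (l := 3) rfl N23628 D57572
theorem N24803 : nd 24803 = n57573 := ndS (p := 23629) (l := 2) rfl N23629 D57573
theorem N24804 : nd 24804 = n57574 := ndS (p := 23630) (l := 9) rfl N23630 D57574
theorem N24805 : nd 24805 = n57575 := ndS (p := 23631) (l := 8) rfl N23631 D57575
theorem N24806 : nd 24806 = n57576 := ndS (p := 23632) (l := 8) rfl N23632 D57576
theorem N24807 : nd 24807 = n57577 := ndS (p := 23633) (l := 3) rfl N23633 D57577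
theorem N24808 : nd 24808 = n57578 := ndS (p := 23634) (l := 3) rfl N23634 D57578
theorem N24809 : nd 24809 = n57579 := ndS (p := 23635) (l := 2) rfl N23635 D57579
theorem N24810 : nd 24810 = n57580 := ndS (p := 23635) (l := 4) rfl N23635 D57580
theorem N24811 : nd 24811 = n57581 := ndS (p := 23637) (l := 2) rfl N23637 D57581
theorem N24812 : nd 24812 = n57582 := ndS (p := 23637) (l := 4) rfl N23637 D57582
theorem N24813 : nd 24813 = n57583 := ndS (p := 23638) (l := 1) rfl N23638 D57583
theorem N24814 : nd 24814 = n57584 := ndS (p := 23639) (l := 8) rfl N23639 D57584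
theorem N24815 : nd 24815 = n57585 := ndS (p := 23640) (l := 3) rfl N23640 D57585
theorem N24816 : nd 24816 = n57586 := ndS (p := 23641) (l := 8) rfl N23641 D57586
theorem N24817 : nd 24817 = n57587 := ndS (p := 23642) (l := 8) rfl N23642 D57587
theorem N24818 : nd 24818 = n57588 := ndS (p := 23643) (l := 3) rfl N23643 D57588
theorem N24819 : nd 24819 = n57589 := ndS (p := 23644) (l := 3) rfl N23644 D57589
theorem N24820 : nd 24820 = n57590 := ndS (p := 23645) (l := 2) rfl N23645 D57590
theorem N24821 : nd 24821 = n57591 := ndS (p := 23645) (l := 4) rfl N23645 D57591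
theorem N24822 : nd 24822 = n57592 := ndS (p := 23646) (l := 5) rfl N23646 D57592
theorem N24823 : nd 24823 = n57593 := ndS (p := 23647) (l := 8) rfl N23647 D57593
theorem N24824 : nd 24824 = n57594 := ndS (p := 23648) (l := 3) rfl N23648 D57594
theorem N24825 : nd 24825 = n57595 := ndS (p := 23649) (l := 3) rfl N23649 D57595
theorem N24826 : nd 24826 = n57596 := ndS (p := 23650) (l := 2) rfl N23650 D57596
theorem N24827 : nd 24827 = n57597 := ndS (p := 23650) (l := 4) rfl N23650 D57597
theorem N24828 : nd 24828 = n57598 := ndS (p := 23651) (l := 3) rfl N23651 D57598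
theorem N24829 : nd 24829 = n57599 := ndS (p := 23652) (l := 2) rfl N23652 D57599
theorem N24830 : nd 24830 = n57600 := ndS (p := 23652) (l := 4) rfl N23652 D57600
theorem N24831 : nd 24831 = n57601 := ndS (p := 23653) (l := 1) rfl N23653 D57601
theorem N24832 : nd 24832 = n57602 := ndS (p := 23653) (l := 4) rfl N23653 D57602
theorem N24833 : nd 24833 = n57603 := ndS (p := 23654) (l := 5) rfl N23654 D57603
theorem N24834 : nd 24834 = n57604 := ndS (p := 23655) (l := 6) rfl N23655 D57604
theorem N24835 : nd 24835 = n57605 := ndS (p := 23656) (l := 3) rfl N23656 D57605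
theorem N24836 : nd 24836 = n57606 := ndS (p := 23657) (l := 2) rfl N23657 D57606
theorem N24837 : nd 24837 = n57607 := ndS (p := 23657) (l := 4) rfl N23657 D57607
theorem N24838 : nd 24838 = n57608 := ndS (p := 23658) (l := 1) rfl N23658 D57608
theorem N24839 : nd 24839 = n57609 := ndS (p := 23658) (l := 4) rfl N23658 D57609
theorem N24840 : nd 24840 = n57610 := ndS (p := 23660) (l := 0) rfl N23660 D57610
theorem N24841 : nd 24841 = n57611 := ndS (p := 23661) (l := 4) rfl N23661 D57611
theorem N24842 : nd 24842 = n57612 := ndS (p := 23663) (l := 4) rfl N23663 D57612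
theorem N24843 : nd 24843 = n57613 := ndS (p := 23664) (l := 5) rfl N23664 D57613
theorem N24844 : nd 24844 = n57614 := ndS (p := 23666) (l := 4) rfl N23666 D57614
theorem N24845 : nd 24845 = n57615 := ndS (p := 23667) (l := 4) rfl N23667 D57615
theorem N24846 : nd 24846 = n57616 := ndS (p := 23668) (l := 5) rfl N23668 D57616
theorem N24847 : nd 24847 = n57617 := ndS (p := 23672) (l := 3) rfl N23672 D57617
theorem N24848 : nd 24848 = n57618 := ndS (p := 23673) (l := 3) rfl N23673 D57618
theorem N24849 : nd 24849 = n57619 := ndS (p := 23674) (l := 3) rfl N23674 D57619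
theorem N24850 : nd 24850 = n57620 := ndS (p := 23675) (l := 8) rfl N23675 D57620
theorem N24851 : nd 24851 = n57621 := ndS (p := 23676) (l := 3) rfl N23676 D57621
theorem N24852 : nd 24852 = n57622 := ndS (p := 23677) (l := 4) rfl N23677 D57622
theorem N24853 : nd 24853 = n57623 := ndS (p := 23679) (l := 3) rfl N23679 D57623
theorem N24854 : nd 24854 = n57624 := ndS (p := 23681) (l := 3) rfl N23681 D57624
theorem N24855 : nd 24855 = n57625 := ndS (p := 23682) (l := 4) rfl N23682 D57625
theorem N24856 : nd 24856 = n57626 := ndS (p := 23684) (l := 2) rfl N23684 D57626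
theorem N24857 : nd 24857 = n57627 := ndS (p := 23684) (l := 4) rfl N23684 D57627
theorem N24858 : nd 24858 = n57628 := ndS (p := 23685) (l := 4) rfl N23685 D57628
theorem N24859 : nd 24859 = n57629 := ndS (p := 23686) (l := 5) rfl N23686 D57629
theorem N24860 : nd 24860 = n57630 := ndS (p := 23687) (l := 5) rfl N23687 D57630
theorem N24861 : nd 24861 = n57631 := ndS (p := 23689) (l := 3) rfl N23689 D57631
theorem N24862 : nd 24862 = n57632 := ndS (p := 23690) (l := 3) rfl N23690 D57632
theorem N24863 : nd 24863 = n57633 := ndS (p := 23691) (l := 4) rfl N23691 D57633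
theorem N24864 : nd 24864 = n57634 := ndS (p := 23692) (l := 2) rfl N23692 D57634
theorem N24865 : nd 24865 = n57635 := ndS (p := 23694) (l := 3) rfl N23694 D57635
theorem N24866 : nd 24866 = n57636 := ndS (p := 23695) (l := 2) rfl N23695 D57636
theorem N24867 : nd 24867 = n57637 := ndS (p := 23696) (l := 2) rfl N23696 D57637
theorem N24868 : nd 24868 = n57638 := ndS (p := 23696) (l := 4) rfl N23696 D57638
theorem N24869 : nd 24869 = n57639 := ndS (p := 23697) (l := 1) rfl N23697 D57639
theorem N24870 : nd 24870 = n57640 := ndS (p := 23699) (l := 8) rfl N23699 D57640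
theorem N24871 : nd 24871 = n57641 := ndS (p := 23700) (l := 3) rfl N23700 D57641
theorem N24872 : nd 24872 = n57642 := ndS (p := 23701) (l := 3) rfl N23701 D57642
theorem N24873 : nd 24873 = n57643 := ndS (p := 23702) (l := 4) rfl N23702 D57643
theorem N24874 : nd 24874 = n57644 := ndS (p := 23703) (l := 3) rfl N23703 D57644
theorem N24875 : nd 24875 = n57645 := ndS (p := 23704) (l := 2) rfl N23704 D57645
theorem N24876 : nd 24876 = n57646 := ndS (p := 23705) (l := 8) rfl N23705 D57646
theorem N24877 : nd 24877 = n57647 := ndS (p := 23706) (l := 3) rfl N23706 D57647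
theorem N24878 : nd 24878 = n57648 := ndS (p := 23707) (l := 3) rfl N23707 D57648
theorem N24879 : nd 24879 = n57649 := ndS (p := 23708) (l := 2) rfl N23708 D57649
theorem N24880 : nd 24880 = n57650 := ndS (p := 23709) (l := 2) rfl N23709 D57650
theorem N24881 : nd 24881 = n57651 := ndS (p := 23709) (l := 4) rfl N23709 D57651
theorem N24882 : nd 24882 = n57652 := ndS (p := 23710) (l := 1) rfl N23710 D57652
theorem N24883 : nd 24883 = n57653 := ndS (p := 23711) (l := 4) rfl N23711 D57653
theorem N24884 : nd 24884 = n57654 := ndS (p := 23713) (l := 3) rfl N23713 D57654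
theorem N24885 : nd 24885 = n57655 := ndS (p := 23714) (l := 3) rfl N23714 D57655
theorem N24886 : nd 24886 = n57656 := ndS (p := 23715) (l := 2) rfl N23715 D57656
theorem N24887 : nd 24887 = n57657 := ndS (p := 23716) (l := 2) rfl N23716 D57657
theorem N24888 : nd 24888 = n57658 := ndS (p := 23717) (l := 2) rfl N23717 D57658
theorem N24889 : nd 24889 = n57659 := ndS (p := 23717) (l := 4) rfl N23717 D57659
theorem N24890 : nd 24890 = n57660 := ndS (p := 23718) (l := 1) rfl N23718 D57660
theorem N24891 : nd 24891 = n57661 := ndS (p := 23719) (l := 2) rfl N23719 D57661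
theorem N24892 : nd 24892 = n57662 := ndS (p := 23720) (l := 2) rfl N23720 D57662
theorem N24893 : nd 24893 = n57663 := ndS (p := 23721) (l := 2) rfl N23721 D57663
theorem N24894 : nd 24894 = n57664 := ndS (p := 23722) (l := 1) rfl N23722 D57664
theorem N24895 : nd 24895 = n57665 := ndS (p := 23723) (l := 3) rfl N23723 D57665
theorem N24896 : nd 24896 = n57666 := ndS (p := 23724) (l := 2) rfl N23724 D57666
theorem N24897 : nd 24897 = n57667 := ndS (p := 23724) (l := 4) rfl N23724 D57667
theorem N24898 : nd 24898 = n57668 := ndS (p := 23725) (l := 1) rfl N23725 D57668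
theorem N24899 : nd 24899 = n57669 := ndS (p := 23725) (l := 4) rfl N23725 D57669
theorem N24900 : nd 24900 = n57670 := ndS (p := 23727) (l := 0) rfl N23727 D57670
theorem N24901 : nd 24901 = n57671 := ndS (p := 23729) (l := 4) rfl N23729 D57671
theorem N24902 : nd 24902 = n57672 := ndS (p := 23731) (l := 3) rfl N23731 D57672
theorem N24903 : nd 24903 = n57673 := ndS (p := 23732) (l := 5) rfl N23732 D57673
theorem N24904 : nd 24904 = n57674 := ndS (p := 23734) (l := 8) rfl N23734 D57674
theorem N24905 : nd 24905 = n57675 := ndS (p := 23735) (l := 3) rfl N23735 D57675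
theorem N24906 : nd 24906 = n57676 := ndS (p := 23736) (l := 2) rfl N23736 D57676
theorem N24907 : nd 24907 = n57677 := ndS (p := 23737) (l := 3) rfl N23737 D57677
theorem N24908 : nd 24908 = n57678 := ndS (p := 23738) (l := 3) rfl N23738 D57678
theorem N24909 : nd 24909 = n57679 := ndS (p := 23739) (l := 4) rfl N23739 D57679
theorem N24910 : nd 24910 = n57680 := ndS (p := 23740) (l := 2) rfl N23740 D57680
theorem N24911 : nd 24911 = n57681 := ndS (p := 23741) (l := 3) rfl N23741 D57681
theorem N24912 : nd 24912 = n57682 := ndS (p := 23742) (l := 2) rfl N23742 D57682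
theorem N24913 : nd 24913 = n57683 := ndS (p := 23742) (l := 4) rfl N23742 D57683
theorem N24914 : nd 24914 = n57684 := ndS (p := 23744) (l := 1) rfl N23744 D57684
theorem N24915 : nd 24915 = n57685 := ndS (p := 23745) (l := 8) rfl N23745 D57685
theorem N24916 : nd 24916 = n57686 := ndS (p := 23746) (l := 3) rfl N23746 D57686
theorem N24917 : nd 24917 = n57687 := ndS (p := 23747) (l := 8) rfl N23747 D57687
theorem N24918 : nd 24918 = n57688 := ndS (p := 23748) (l := 3) rfl N23748 D57688
theorem N24919 : nd 24919 = n57689 := ndS (p := 23749) (l := 4) rfl N23749 D57689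
theorem N24920 : nd 24920 = n57690 := ndS (p := 23750) (l := 3) rfl N23750 D57690
theorem N24921 : nd 24921 = n57691 := ndS (p := 23751) (l := 2) rfl N23751 D57691
theorem N24922 : nd 24922 = n57692 := ndS (p := 23752) (l := 8) rfl N23752 D57692
theorem N24923 : nd 24923 = n57693 := ndS (p := 23753) (l := 3) rfl N23753 D57693
theorem N24924 : nd 24924 = n57694 := ndS (p := 23754) (l := 8) rfl N23754 D57694
theorem N24925 : nd 24925 = n57695 := ndS (p := 23755) (l := 3) rfl N23755 D57695
theorem N24926 : nd 24926 = n57696 := ndS (p := 23756) (l := 2) rfl N23756 D57696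
theorem N24927 : nd 24927 = n57697 := ndS (p := 23757) (l := 2) rfl N23757 D57697
theorem N24928 : nd 24928 = n57698 := ndS (p := 23757) (l := 4) rfl N23757 D57698
theorem N24929 : nd 24929 = n57699 := ndS (p := 23758) (l := 1) rfl N23758 D57699
theorem N24930 : nd 24930 = n57700 := ndS (p := 23759) (l := 3) rfl N23759 D57700
theorem N24931 : nd 24931 = n57701 := ndS (p := 23760) (l := 2) rfl N23760 D57701
theorem N24932 : nd 24932 = n57702 := ndS (p := 23760) (l := 4) rfl N23760 D57702
theorem N24933 : nd 24933 = n57703 := ndS (p := 23762) (l := 4) rfl N23762 D57703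
theorem N24934 : nd 24934 = n57704 := ndS (p := 23764) (l := 8) rfl N23764 D57704
theorem N24935 : nd 24935 = n57705 := ndS (p := 23765) (l := 3) rfl N23765 D57705
theorem N24936 : nd 24936 = n57706 := ndS (p := 23766) (l := 3) rfl N23766 D57706
theorem N24937 : nd 24937 = n57707 := ndS (p := 23767) (l := 2) rfl N23767 D57707
theorem N24938 : nd 24938 = n57708 := ndS (p := 23768) (l := 8) rfl N23768 D57708
theorem N24939 : nd 24939 = n57709 := ndS (p := 23769) (l := 3) rfl N23769 D57709
theorem N24940 : nd 24940 = n57710 := ndS (p := 23770) (l := 8) rfl N23770 D57710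
theorem N24941 : nd 24941 = n57711 := ndS (p := 23771) (l := 3) rfl N23771 D57711
theorem N24942 : nd 24942 = n57712 := ndS (p := 23772) (l := 2) rfl N23772 D57712
theorem N24943 : nd 24943 = n57713 := ndS (p := 23773) (l := 3) rfl N23773 D57713
theorem N24944 : nd 24944 = n57714 := ndS (p := 23774) (l := 2) rfl N23774 D57714
theorem N24945 : nd 24945 = n57715 := ndS (p := 23774) (l := 4) rfl N23774 D57715
theorem N24946 : nd 24946 = n57716 := ndS (p := 23775) (l := 1) rfl N23775 D57716
theorem N24947 : nd 24947 = n57717 := ndS (p := 23776) (l := 8) rfl N23776 D57717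
theorem N24948 : nd 24948 = n57718 := ndS (p := 23777) (l := 3) rfl N23777 D57718
theorem N24949 : nd 24949 = n57719 := ndS (p := 23778) (l := 2) rfl N23778 D57719
theorem N24950 : nd 24950 = n57720 := ndS (p := 23779) (l := 8) rfl N23779 D57720
theorem N24951 : nd 24951 = n57721 := ndS (p := 23780) (l := 3) rfl N23780 D57721
theorem N24952 : nd 24952 = n57722 := ndS (p := 23781) (l := 3) rfl N23781 D57722
theorem N24953 : nd 24953 = n57723 := ndS (p := 23782) (l := 2) rfl N23782 D57723
theorem N24954 : nd 24954 = n57724 := ndS (p := 23783) (l := 2) rfl N23783 D57724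
theorem N24955 : nd 24955 = n57725 := ndS (p := 23783) (l := 4) rfl N23783 D57725
theorem N24956 : nd 24956 = n57726 := ndS (p := 23784) (l := 1) rfl N23784 D57726
theorem N24957 : nd 24957 = n57727 := ndS (p := 23785) (l := 1) rfl N23785 D57727
theorem N24958 : nd 24958 = n57728 := ndS (p := 23785) (l := 4) rfl N23785 D57728
theorem N24959 : nd 24959 = n57729 := ndS (p := 23787) (l := 0) rfl N23787 D57729
theorem N24960 : nd 24960 = n57730 := ndS (p := 23788) (l := 3) rfl N23788 D57730
theorem N24961 : nd 24961 = n57731 := ndS (p := 23789) (l := 2) rfl N23789 D57731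
theorem N24962 : nd 24962 = n57732 := ndS (p := 23789) (l := 4) rfl N23789 D57732
theorem N24963 : nd 24963 = n57733 := ndS (p := 23791) (l := 2) rfl N23791 D57733
theorem N24964 : nd 24964 = n57734 := ndS (p := 23791) (l := 4) rfl N23791 D57734
theorem N24965 : nd 24965 = n57735 := ndS (p := 23792) (l := 4) rfl N23792 D57735
theorem N24966 : nd 24966 = n57736 := ndS (p := 23794) (l := 4) rfl N23794 D57736
theorem N24967 : nd 24967 = n57737 := ndS (p := 23796) (l := 3) rfl N23796 D57737
theorem N24968 : nd 24968 = n57738 := ndS (p := 23797) (l := 4) rfl N23797 D57738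
theorem N24969 : nd 24969 = n57739 := ndS (p := 23798) (l := 5) rfl N23798 D57739
theorem N24970 : nd 24970 = n57740 := ndS (p := 23800) (l := 8) rfl N23800 D57740
theorem N24971 : nd 24971 = n57741 := ndS (p := 23802) (l := 3) rfl N23802 D57741
theorem N24972 : nd 24972 = n57742 := ndS (p := 23803) (l := 3) rfl N23803 D57742
theorem N24973 : nd 24973 = n57743 := ndS (p := 23804) (l := 8) rfl N23804 D57743
theorem N24974 : nd 24974 = n57744 := ndS (p := 23806) (l := 8) rfl N23806 D57744
theorem N24975 : nd 24975 = n57745 := ndS (p := 23807) (l := 3) rfl N23807 D57745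
theorem N24976 : nd 24976 = n57746 := ndS (p := 23809) (l := 8) rfl N23809 D57746
theorem N24977 : nd 24977 = n57747 := ndS (p := 23810) (l := 3) rfl N23810 D57747
theorem N24978 : nd 24978 = n57748 := ndS (p := 23811) (l := 2) rfl N23811 D57748
theorem N24979 : nd 24979 = n57749 := ndS (p := 23812) (l := 8) rfl N23812 D57749
theorem N24980 : nd 24980 = n57750 := ndS (p := 23813) (l := 3) rfl N23813 D57750
theorem N24981 : nd 24981 = n57751 := ndS (p := 23814) (l := 8) rfl N23814 D57751
theorem N24982 : nd 24982 = n57752 := ndS (p := 23815) (l := 8) rfl N23815 D57752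
theorem N24983 : nd 24983 = n57753 := ndS (p := 23816) (l := 3) rfl N23816 D57753
theorem N24984 : nd 24984 = n57754 := ndS (p := 23817) (l := 2) rfl N23817 D57754
theorem N24985 : nd 24985 = n57755 := ndS (p := 23817) (l := 4) rfl N23817 D57755
theorem N24986 : nd 24986 = n57756 := ndS (p := 23818) (l := 8) rfl N23818 D57756
theorem N24987 : nd 24987 = n57757 := ndS (p := 23819) (l := 8) rfl N23819 D57757
theorem N24988 : nd 24988 = n57758 := ndS (p := 23820) (l := 3) rfl N23820 D57758
theorem N24989 : nd 24989 = n57759 := ndS (p := 23821) (l := 8) rfl N23821 D57759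
theorem N24990 : nd 24990 = n57760 := ndS (p := 23822) (l := 3) rfl N23822 D57760
theorem N24991 : nd 24991 = n57761 := ndS (p := 23823) (l := 2) rfl N23823 D57761
theorem N24992 : nd 24992 = n57762 := ndS (p := 23823) (l := 4) rfl N23823 D57762
theorem N24993 : nd 24993 = n57763 := ndS (p := 23824) (l := 5) rfl N23824 D57763
theorem N24994 : nd 24994 = n57764 := ndS (p := 23825) (l := 3) rfl N23825 D57764
theorem N24995 : nd 24995 = n57765 := ndS (p := 23826) (l := 2) rfl N23826 D57765
theorem N24996 : nd 24996 = n57766 := ndS (p := 23826) (l := 4) rfl N23826 D57766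
theorem N24997 : nd 24997 = n57767 := ndS (p := 23827) (l := 1) rfl N23827 D57767
theorem N24998 : nd 24998 = n57768 := ndS (p := 23828) (l := 3) rfl N23828 D57768
theorem N24999 : nd 24999 = n57769 := ndS (p := 23829) (l := 8) rfl N23829 D57769
theorem N25000 : nd 25000 = n57770 := ndS (p := 23830) (l := 3) rfl N23830 D57770
theorem N25001 : nd 25001 = n57771 := ndS (p := 23831) (l := 2) rfl N23831 D57771
theorem N25002 : nd 25002 = n57772 := ndS (p := 23832) (l := 3) rfl N23832 D57772
theorem N25003 : nd 25003 = n57773 := ndS (p := 23833) (l := 8) rfl N23833 D57773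
theorem N25004 : nd 25004 = n57774 := ndS (p := 23834) (l := 3) rfl N23834 D57774
theorem N25005 : nd 25005 = n57775 := ndS (p := 23835) (l := 2) rfl N23835 D57775
theorem N25006 : nd 25006 = n57776 := ndS (p := 23836) (l := 8) rfl N23836 D57776
theorem N25007 : nd 25007 = n57777 := ndS (p := 23837) (l := 3) rfl N23837 D57777
theorem N25008 : nd 25008 = n57778 := ndS (p := 23838) (l := 2) rfl N23838 D57778
theorem N25009 : nd 25009 = n57779 := ndS (p := 23838) (l := 4) rfl N23838 D57779
theorem N25010 : nd 25010 = n57780 := ndS (p := 23839) (l := 1) rfl N23839 D57780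
theorem N25011 : nd 25011 = n57781 := ndS (p := 23840) (l := 3) rfl N23840 D57781
theorem N25012 : nd 25012 = n57782 := ndS (p := 23841) (l := 2) rfl N23841 D57782
theorem N25013 : nd 25013 = n57783 := ndS (p := 23842) (l := 8) rfl N23842 D57783
theorem N25014 : nd 25014 = n57784 := ndS (p := 23843) (l := 3) rfl N23843 D57784
theorem N25015 : nd 25015 = n57785 := ndS (p := 23844) (l := 3) rfl N23844 D57785
theorem N25016 : nd 25016 = n57786 := ndS (p := 23845) (l := 2) rfl N23845 D57786
theorem N25017 : nd 25017 = n57787 := ndS (p := 23846) (l := 3) rfl N23846 D57787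
theorem N25018 : nd 25018 = n57788 := ndS (p := 23847) (l := 2) rfl N23847 D57788
theorem N25019 : nd 25019 = n57789 := ndS (p := 23847) (l := 4) rfl N23847 D57789
theorem N25020 : nd 25020 = n57790 := ndS (p := 23848) (l := 1) rfl N23848 D57790
theorem N25021 : nd 25021 = n57791 := ndS (p := 23849) (l := 3) rfl N23849 D57791
theorem N25022 : nd 25022 = n57792 := ndS (p := 23850) (l := 2) rfl N23850 D57792
theorem N25023 : nd 25023 = n57793 := ndS (p := 23850) (l := 4) rfl N23850 D57793
theorem N25024 : nd 25024 = n57794 := ndS (p := 23851) (l := 1) rfl N23851 D57794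
theorem N25025 : nd 25025 = n57795 := ndS (p := 23851) (l := 4) rfl N23851 D57795
theorem N25026 : nd 25026 = n57796 := ndS (p := 23853) (l := 0) rfl N23853 D57796
theorem N25027 : nd 25027 = n57797 := ndS (p := 23854) (l := 3) rfl N23854 D57797
theorem N25028 : nd 25028 = n57798 := ndS (p := 23856) (l := 3) rfl N23856 D57798
theorem N25029 : nd 25029 = n57799 := ndS (p := 23857) (l := 2) rfl N23857 D57799
theorem N25030 : nd 25030 = n57800 := ndS (p := 23857) (l := 4) rfl N23857 D57800
theorem N25031 : nd 25031 = n57801 := ndS (p := 23858) (l := 1) rfl N23858 D57801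
theorem N25032 : nd 25032 = n57802 := ndS (p := 23858) (l := 4) rfl N23858 D57802
theorem N25033 : nd 25033 = n57803 := ndS (p := 23863) (l := 2) rfl N23863 D57803
theorem N25034 : nd 25034 = n57804 := ndS (p := 23863) (l := 4) rfl N23863 D57804
theorem N25035 : nd 25035 = n57805 := ndS (p := 23864) (l := 4) rfl N23864 D57805
theorem N25036 : nd 25036 = n57806 := ndS (p := 23866) (l := 4) rfl N23866 D57806
theorem N25037 : nd 25037 = n57807 := ndS (p := 23867) (l := 3) rfl N23867 D57807
theorem N25038 : nd 25038 = n57808 := ndS (p := 23869) (l := 3) rfl N23869 D57808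
theorem N25039 : nd 25039 = n57809 := ndS (p := 23870) (l := 3) rfl N23870 D57809
theorem N25040 : nd 25040 = n57810 := ndS (p := 23871) (l := 8) rfl N23871 D57810
theorem N25041 : nd 25041 = n57811 := ndS (p := 23872) (l := 3) rfl N23872 D57811
theorem N25042 : nd 25042 = n57812 := ndS (p := 23873) (l := 2) rfl N23873 D57812
theorem N25043 : nd 25043 = n57813 := ndS (p := 23873) (l := 4) rfl N23873 D57813
theorem N25044 : nd 25044 = n57814 := ndS (p := 23874) (l := 5) rfl N23874 D57814
theorem N25045 : nd 25045 = n57815 := ndS (p := 23875) (l := 3) rfl N23875 D57815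
theorem N25046 : nd 25046 = n57816 := ndS (p := 23876) (l := 2) rfl N23876 D57816
theorem N25047 : nd 25047 = n57817 := ndS (p := 23876) (l := 4) rfl N23876 D57817
theorem N25048 : nd 25048 = n57818 := ndS (p := 23877) (l := 1) rfl N23877 D57818
theorem N25049 : nd 25049 = n57819 := ndS (p := 23878) (l := 3) rfl N23878 D57819
theorem N25050 : nd 25050 = n57820 := ndS (p := 23880) (l := 3) rfl N23880 D57820
theorem N25051 : nd 25051 = n57821 := ndS (p := 23881) (l := 2) rfl N23881 D57821
theorem N25052 : nd 25052 = n57822 := ndS (p := 23882) (l := 8) rfl N23882 D57822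
theorem N25053 : nd 25053 = n57823 := ndS (p := 23883) (l := 8) rfl N23883 D57823
theorem N25054 : nd 25054 = n57824 := ndS (p := 23884) (l := 3) rfl N23884 D57824
theorem N25055 : nd 25055 = n57825 := ndS (p := 23885) (l := 3) rfl N23885 D57825
theorem N25056 : nd 25056 = n57826 := ndS (p := 23886) (l := 2) rfl N23886 D57826
theorem N25057 : nd 25057 = n57827 := ndS (p := 23887) (l := 8) rfl N23887 D57827
theorem N25058 : nd 25058 = n57828 := ndS (p := 23888) (l := 3) rfl N23888 D57828
theorem N25059 : nd 25059 = n57829 := ndS (p := 23889) (l := 2) rfl N23889 D57829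
theorem N25060 : nd 25060 = n57830 := ndS (p := 23889) (l := 4) rfl N23889 D57830
theorem N25061 : nd 25061 = n57831 := ndS (p := 23890) (l := 1) rfl N23890 D57831
theorem N25062 : nd 25062 = n57832 := ndS (p := 23890) (l := 4) rfl N23890 D57832
theorem N25063 : nd 25063 = n57833 := ndS (p := 23892) (l := 3) rfl N23892 D57833
theorem N25064 : nd 25064 = n57834 := ndS (p := 23893) (l := 2) rfl N23893 D57834
theorem N25065 : nd 25065 = n57835 := ndS (p := 23893) (l := 4) rfl N23893 D57835
theorem N25066 : nd 25066 = n57836 := ndS (p := 23894) (l := 1) rfl N23894 D57836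
theorem N25067 : nd 25067 = n57837 := ndS (p := 23894) (l := 4) rfl N23894 D57837
theorem N25068 : nd 25068 = n57838 := ndS (p := 23896) (l := 0) rfl N23896 D57838
theorem N25069 : nd 25069 = n57839 := ndS (p := 23897) (l := 2) rfl N23897 D57839
theorem N25070 : nd 25070 = n57840 := ndS (p := 23898) (l := 8) rfl N23898 D57840
theorem N25071 : nd 25071 = n57841 := ndS (p := 23899) (l := 3) rfl N23899 D57841
theorem N25072 : nd 25072 = n57842 := ndS (p := 23900) (l := 2) rfl N23900 D57842
theorem N25073 : nd 25073 = n57843 := ndS (p := 23901) (l := 3) rfl N23901 D57843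
theorem N25074 : nd 25074 = n57844 := ndS (p := 23902) (l := 2) rfl N23902 D57844
theorem N25075 : nd 25075 = n57845 := ndS (p := 23902) (l := 4) rfl N23902 D57845
theorem N25076 : nd 25076 = n57846 := ndS (p := 23903) (l := 1) rfl N23903 D57846
theorem N25077 : nd 25077 = n57847 := ndS (p := 23903) (l := 4) rfl N23903 D57847
theorem N25078 : nd 25078 = n57848 := ndS (p := 23905) (l := 8) rfl N23905 D57848
theorem N25079 : nd 25079 = n57849 := ndS (p := 23906) (l := 8) rfl N23906 D57849
theorem N25080 : nd 25080 = n57850 := ndS (p := 23907) (l := 3) rfl N23907 D57850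
theorem N25081 : nd 25081 = n57851 := ndS (p := 23908) (l := 3) rfl N23908 D57851
theorem N25082 : nd 25082 = n57852 := ndS (p := 23909) (l := 2) rfl N23909 D57852
theorem N25083 : nd 25083 = n57853 := ndS (p := 23909) (l := 4) rfl N23909 D57853
theorem N25084 : nd 25084 = n57854 := ndS (p := 23910) (l := 2) rfl N23910 D57854
theorem N25085 : nd 25085 = n57855 := ndS (p := 23910) (l := 4) rfl N23910 D57855
theorem N25086 : nd 25086 = n57856 := ndS (p := 23911) (l := 1) rfl N23911 D57856
theorem N25087 : nd 25087 = n57857 := ndS (p := 23911) (l := 4) rfl N23911 D57857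
theorem N25088 : nd 25088 = n57858 := ndS (p := 23912) (l := 5) rfl N23912 D57858
theorem N25089 : nd 25089 = n57859 := ndS (p := 23913) (l := 3) rfl N23913 D57859
theorem N25090 : nd 25090 = n57860 := ndS (p := 23914) (l := 2) rfl N23914 D57860
theorem N25091 : nd 25091 = n57861 := ndS (p := 23914) (l := 4) rfl N23914 D57861
theorem N25092 : nd 25092 = n57862 := ndS (p := 23915) (l := 1) rfl N23915 D57862
theorem N25093 : nd 25093 = n57863 := ndS (p := 23915) (l := 4) rfl N23915 D57863
theorem N25094 : nd 25094 = n57864 := ndS (p := 23916) (l := 5) rfl N23916 D57864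
theorem N25095 : nd 25095 = n57865 := ndS (p := 23917) (l := 0) rfl N23917 D57865
theorem N25096 : nd 25096 = n57866 := ndS (p := 23917) (l := 4) rfl N23917 D57866
theorem N25097 : nd 25097 = n57867 := ndS (p := 23918) (l := 5) rfl N23918 D57867
theorem N25098 : nd 25098 = n57868 := ndS (p := 23920) (l := 2) rfl N23920 D57868
theorem N25099 : nd 25099 = n57869 := ndS (p := 23920) (l := 4) rfl N23920 D57869
theorem N25100 : nd 25100 = n57870 := ndS (p := 23921) (l := 1) rfl N23921 D57870
theorem N25101 : nd 25101 = n57871 := ndS (p := 23921) (l := 4) rfl N23921 D57871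
theorem N25102 : nd 25102 = n57872 := ndS (p := 23923) (l := 0) rfl N23923 D57872
theorem N25103 : nd 25103 = n57873 := ndS (p := 23923) (l := 4) rfl N23923 D57873
theorem N25104 : nd 25104 = n57874 := ndS (p := 23924) (l := 3) rfl N23924 D57874
theorem N25105 : nd 25105 = n57875 := ndS (p := 23926) (l := 4) rfl N23926 D57875
theorem N25106 : nd 25106 = n57876 := ndS (p := 23927) (l := 3) rfl N23927 D57876
theorem N25107 : nd 25107 = n57877 := ndS (p := 23928) (l := 2) rfl N23928 D57877
theorem N25108 : nd 25108 = n57878 := ndS (p := 23928) (l := 4) rfl N23928 D57878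
theorem N25109 : nd 25109 = n57879 := ndS (p := 23929) (l := 4) rfl N23929 D57879
theorem N25110 : nd 25110 = n57880 := ndS (p := 23931) (l := 2) rfl N23931 D57880
theorem N25111 : nd 25111 = n57881 := ndS (p := 23931) (l := 4) rfl N23931 D57881
theorem N25112 : nd 25112 = n57882 := ndS (p := 23932) (l := 1) rfl N23932 D57882
theorem N25113 : nd 25113 = n57883 := ndS (p := 23932) (l := 4) rfl N23932 D57883
theorem N25114 : nd 25114 = n57884 := ndS (p := 23933) (l := 5) rfl N23933 D57884
theorem N25115 : nd 25115 = n57885 := ndS (p := 23934) (l := 0) rfl N23934 D57885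
theorem N25116 : nd 25116 = n57886 := ndS (p := 23934) (l := 4) rfl N23934 D57886
theorem N25117 : nd 25117 = n57887 := ndS (p := 23935) (l := 3) rfl N23935 D57887
theorem N25118 : nd 25118 = n57888 := ndS (p := 23939) (l := 4) rfl N23939 D57888
theorem N25119 : nd 25119 = n57889 := ndS (p := 23940) (l := 5) rfl N23940 D57889
theorem N25120 : nd 25120 = n57890 := ndS (p := 23941) (l := 3) rfl N23941 D57890
theorem N25121 : nd 25121 = n57891 := ndS (p := 23943) (l := 4) rfl N23943 D57891
theorem N25122 : nd 25122 = n57892 := ndS (p := 23945) (l := 3) rfl N23945 D57892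
theorem N25123 : nd 25123 = n57893 := ndS (p := 23946) (l := 4) rfl N23946 D57893
theorem N25124 : nd 25124 = n57894 := ndS (p := 23947) (l := 3) rfl N23947 D57894
theorem N25125 : nd 25125 = n57895 := ndS (p := 23948) (l := 8) rfl N23948 D57895
theorem N25126 : nd 25126 = n57896 := ndS (p := 23949) (l := 5) rfl N23949 D57896
theorem N25127 : nd 25127 = n57897 := ndS (p := 23951) (l := 4) rfl N23951 D57897
theorem N25128 : nd 25128 = n57898 := ndS (p := 23953) (l := 0) rfl N23953 D57898
theorem N25129 : nd 25129 = n57899 := ndS (p := 23953) (l := 4) rfl N23953 D57899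
theorem N25130 : nd 25130 = n57900 := ndS (p := 23954) (l := 3) rfl N23954 D57900
theorem N25131 : nd 25131 = n57901 := ndS (p := 23954) (l := 5) rfl N23954 D57901
theorem N25132 : nd 25132 = n57902 := ndS (p := 23956) (l := 4) rfl N23956 D57902
theorem N25133 : nd 25133 = n57903 := ndS (p := 23957) (l := 3) rfl N23957 D57903
theorem N25134 : nd 25134 = n57904 := ndS (p := 23958) (l := 8) rfl N23958 D57904
theorem N25135 : nd 25135 = n57905 := ndS (p := 23959) (l := 3) rfl N23959 D57905
theorem N25136 : nd 25136 = n57906 := ndS (p := 23960) (l := 8) rfl N23960 D57906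
theorem N25137 : nd 25137 = n57907 := ndS (p := 23961) (l := 3) rfl N23961 D57907
theorem N25138 : nd 25138 = n57908 := ndS (p := 23962) (l := 2) rfl N23962 D57908
theorem N25139 : nd 25139 = n57909 := ndS (p := 23962) (l := 8) rfl N23962 D57909
theorem N25140 : nd 25140 = n57910 := ndS (p := 23963) (l := 9) rfl N23963 D57910
theorem N25141 : nd 25141 = n57911 := ndS (p := 23964) (l := 4) rfl N23964 D57911
theorem N25142 : nd 25142 = n57912 := ndS (p := 23966) (l := 3) rfl N23966 D57912
theorem N25143 : nd 25143 = n57913 := ndS (p := 23966) (l := 5) rfl N23966 D57913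
theorem N25144 : nd 25144 = n57914 := ndS (p := 23970) (l := 2) rfl N23970 D57914
theorem N25145 : nd 25145 = n57915 := ndS (p := 23970) (l := 4) rfl N23970 D57915
theorem N25146 : nd 25146 = n57916 := ndS (p := 23971) (l := 4) rfl N23971 D57916
theorem N25147 : nd 25147 = n57917 := ndS (p := 23972) (l := 5) rfl N23972 D57917
theorem N25148 : nd 25148 = n57918 := ndS (p := 23975) (l := 2) rfl N23975 D57918
theorem N25149 : nd 25149 = n57919 := ndS (p := 23976) (l := 1) rfl N23976 D57919
theorem N25150 : nd 25150 = n57920 := ndS (p := 23977) (l := 2) rfl N23977 D57920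
theorem N25151 : nd 25151 = n57921 := ndS (p := 23978) (l := 2) rfl N23978 D57921
theorem N25152 : nd 25152 = n57922 := ndS (p := 23979) (l := 1) rfl N23979 D57922
theorem N25153 : nd 25153 = n57923 := ndS (p := 23980) (l := 1) rfl N23980 D57923
theorem N25154 : nd 25154 = n57924 := ndS (p := 23981) (l := 2) rfl N23981 D57924
theorem N25155 : nd 25155 = n57925 := ndS (p := 23982) (l := 2) rfl N23982 D57925
theorem N25156 : nd 25156 = n57926 := ndS (p := 23983) (l := 1) rfl N23983 D57926
theorem N25157 : nd 25157 = n57927 := ndS (p := 23984) (l := 3) rfl N23984 D57927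
theorem N25158 : nd 25158 = n57928 := ndS (p := 23985) (l := 2) rfl N23985 D57928
theorem N25159 : nd 25159 = n57929 := ndS (p := 23986) (l := 3) rfl N23986 D57929
theorem N25160 : nd 25160 = n57930 := ndS (p := 23987) (l := 2) rfl N23987 D57930
theorem N25161 : nd 25161 = n57931 := ndS (p := 23988) (l := 3) rfl N23988 D57931
theorem N25162 : nd 25162 = n57932 := ndS (p := 23989) (l := 2) rfl N23989 D57932
theorem N25163 : nd 25163 = n57933 := ndS (p := 23989) (l := 4) rfl N23989 D57933
theorem N25164 : nd 25164 = n57934 := ndS (p := 23990) (l := 1) rfl N23990 D57934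
theorem N25165 : nd 25165 = n57935 := ndS (p := 23991) (l := 2) rfl N23991 D57935
theorem N25166 : nd 25166 = n57936 := ndS (p := 23992) (l := 1) rfl N23992 D57936
theorem N25167 : nd 25167 = n57937 := ndS (p := 23993) (l := 0) rfl N23993 D57937
theorem N25168 : nd 25168 = n57938 := ndS (p := 23994) (l := 4) rfl N23994 D57938
theorem N25169 : nd 25169 = n57939 := ndS (p := 23995) (l := 4) rfl N23995 D57939
theorem N25170 : nd 25170 = n57940 := ndS (p := 23997) (l := 3) rfl N23997 D57940
theorem N25171 : nd 25171 = n57941 := ndS (p := 23998) (l := 4) rfl N23998 D57941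
theorem N25172 : nd 25172 = n57942 := ndS (p := 23999) (l := 2) rfl N23999 D57942
theorem N25173 : nd 25173 = n57943 := ndS (p := 24000) (l := 2) rfl N24000 D57943
theorem N25174 : nd 25174 = n57944 := ndS (p := 24001) (l := 1) rfl N24001 D57944
theorem N25175 : nd 25175 = n57945 := ndS (p := 24002) (l := 1) rfl N24002 D57945
theorem N25176 : nd 25176 = n57946 := ndS (p := 24003) (l := 3) rfl N24003 D57946
theorem N25177 : nd 25177 = n57947 := ndS (p := 24004) (l := 2) rfl N24004 D57947
theorem N25178 : nd 25178 = n57948 := ndS (p := 24004) (l := 4) rfl N24004 D57948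
theorem N25179 : nd 25179 = n57949 := ndS (p := 24006) (l := 1) rfl N24006 D57949
theorem N25180 : nd 25180 = n57950 := ndS (p := 24006) (l := 4) rfl N24006 D57950
theorem N25181 : nd 25181 = n57951 := ndS (p := 24008) (l := 0) rfl N24008 D57951
theorem N25182 : nd 25182 = n57952 := ndS (p := 24010) (l := 2) rfl N24010 D57952
theorem N25183 : nd 25183 = n57953 := ndS (p := 24011) (l := 1) rfl N24011 D57953
theorem N25184 : nd 25184 = n57954 := ndS (p := 24012) (l := 3) rfl N24012 D57954
theorem N25185 : nd 25185 = n57955 := ndS (p := 24013) (l := 2) rfl N24013 D57955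
theorem N25186 : nd 25186 = n57956 := ndS (p := 24013) (l := 4) rfl N24013 D57956
theorem N25187 : nd 25187 = n57957 := ndS (p := 24015) (l := 1) rfl N24015 D57957
theorem N25188 : nd 25188 = n57958 := ndS (p := 24016) (l := 8) rfl N24016 D57958
theorem N25189 : nd 25189 = n57959 := ndS (p := 24017) (l := 3) rfl N24017 D57959
theorem N25190 : nd 25190 = n57960 := ndS (p := 24018) (l := 3) rfl N24018 D57960
theorem N25191 : nd 25191 = n57961 := ndS (p := 24019) (l := 4) rfl N24019 D57961
theorem N25192 : nd 25192 = n57962 := ndS (p := 24020) (l := 3) rfl N24020 D57962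
theorem N25193 : nd 25193 = n57963 := ndS (p := 24021) (l := 2) rfl N24021 D57963
theorem N25194 : nd 25194 = n57964 := ndS (p := 24022) (l := 3) rfl N24022 D57964
theorem N25195 : nd 25195 = n57965 := ndS (p := 24023) (l := 4) rfl N24023 D57965
theorem N25196 : nd 25196 = n57966 := ndS (p := 24024) (l := 8) rfl N24024 D57966
theorem N25197 : nd 25197 = n57967 := ndS (p := 24025) (l := 3) rfl N24025 D57967
theorem N25198 : nd 25198 = n57968 := ndS (p := 24026) (l := 3) rfl N24026 D57968
theorem N25199 : nd 25199 = n57969 := ndS (p := 24027) (l := 2) rfl N24027 D57969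
theorem N25200 : nd 25200 = n57970 := ndS (p := 24027) (l := 4) rfl N24027 D57970
theorem N25201 : nd 25201 = n57971 := ndS (p := 24028) (l := 5) rfl N24028 D57971
theorem N25202 : nd 25202 = n57972 := ndS (p := 24029) (l := 2) rfl N24029 D57972
theorem N25203 : nd 25203 = n57973 := ndS (p := 24030) (l := 1) rfl N24030 D57973
theorem N25204 : nd 25204 = n57974 := ndS (p := 24031) (l := 3) rfl N24031 D57974
theorem N25205 : nd 25205 = n57975 := ndS (p := 24032) (l := 2) rfl N24032 D57975
theorem N25206 : nd 25206 = n57976 := ndS (p := 24032) (l := 4) rfl N24032 D57976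
theorem N25207 : nd 25207 = n57977 := ndS (p := 24033) (l := 5) rfl N24033 D57977
theorem N25208 : nd 25208 = n57978 := ndS (p := 24034) (l := 3) rfl N24034 D57978
theorem N25209 : nd 25209 = n57979 := ndS (p := 24035) (l := 2) rfl N24035 D57979
theorem N25210 : nd 25210 = n57980 := ndS (p := 24035) (l := 4) rfl N24035 D57980
theorem N25211 : nd 25211 = n57981 := ndS (p := 24036) (l := 2) rfl N24036 D57981
theorem N25212 : nd 25212 = n57982 := ndS (p := 24036) (l := 4) rfl N24036 D57982
theorem N25213 : nd 25213 = n57983 := ndS (p := 24037) (l := 1) rfl N24037 D57983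
theorem N25214 : nd 25214 = n57984 := ndS (p := 24037) (l := 4) rfl N24037 D57984
theorem N25215 : nd 25215 = n57985 := ndS (p := 24038) (l := 5) rfl N24038 D57985
theorem N25216 : nd 25216 = n57986 := ndS (p := 24040) (l := 1) rfl N24040 D57986
theorem N25217 : nd 25217 = n57987 := ndS (p := 24041) (l := 0) rfl N24041 D57987
theorem N25218 : nd 25218 = n57988 := ndS (p := 24042) (l := 5) rfl N24042 D57988
theorem N25219 : nd 25219 = n57989 := ndS (p := 24043) (l := 4) rfl N24043 D57989
theorem N25220 : nd 25220 = n57990 := ndS (p := 24044) (l := 6) rfl N24044 D57990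
theorem N25221 : nd 25221 = n57991 := ndS (p := 24047) (l := 4) rfl N24047 D57991
theorem N25222 : nd 25222 = n57992 := ndS (p := 24048) (l := 5) rfl N24048 D57992
theorem N25223 : nd 25223 = n57993 := ndS (p := 24049) (l := 5) rfl N24049 D57993
theorem N25224 : nd 25224 = n57994 := ndS (p := 24050) (l := 4) rfl N24050 D57994
theorem N25225 : nd 25225 = n57995 := ndS (p := 24051) (l := 5) rfl N24051 D57995
theorem N25226 : nd 25226 = n57996 := ndS (p := 24052) (l := 6) rfl N24052 D57996
theorem N25227 : nd 25227 = n57997 := ndS (p := 24053) (l := 2) rfl N24053 D57997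
theorem N25228 : nd 25228 = n57998 := ndS (p := 24053) (l := 4) rfl N24053 D57998
theorem N25229 : nd 25229 = n57999 := ndS (p := 24054) (l := 4) rfl N24054 D57999
theorem N25230 : nd 25230 = n58000 := ndS (p := 24055) (l := 5) rfl N24055 D58000
theorem N25231 : nd 25231 = n58001 := ndS (p := 24057) (l := 5) rfl N24057 D58001
theorem N25232 : nd 25232 = n58002 := ndS (p := 24062) (l := 3) rfl N24062 D58002
theorem N25233 : nd 25233 = n58003 := ndS (p := 24063) (l := 2) rfl N24063 D58003
theorem N25234 : nd 25234 = n58004 := ndS (p := 24063) (l := 4) rfl N24063 D58004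
theorem N25235 : nd 25235 = n58005 := ndS (p := 24064) (l := 3) rfl N24064 D58005
theorem N25236 : nd 25236 = n58006 := ndS (p := 24065) (l := 2) rfl N24065 D58006
theorem N25237 : nd 25237 = n58007 := ndS (p := 24065) (l := 4) rfl N24065 D58007
theorem N25238 : nd 25238 = n58008 := ndS (p := 24067) (l := 1) rfl N24067 D58008
theorem N25239 : nd 25239 = n58009 := ndS (p := 24068) (l := 8) rfl N24068 D58009
theorem N25240 : nd 25240 = n58010 := ndS (p := 24069) (l := 3) rfl N24069 D58010
theorem N25241 : nd 25241 = n58011 := ndS (p := 24070) (l := 4) rfl N24070 D58011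
theorem N25242 : nd 25242 = n58012 := ndS (p := 24071) (l := 2) rfl N24071 D58012
theorem N25243 : nd 25243 = n58013 := ndS (p := 24072) (l := 8) rfl N24072 D58013
theorem N25244 : nd 25244 = n58014 := ndS (p := 24073) (l := 3) rfl N24073 D58014
theorem N25245 : nd 25245 = n58015 := ndS (p := 24074) (l := 4) rfl N24074 D58015
theorem N25246 : nd 25246 = n58016 := ndS (p := 24075) (l := 8) rfl N24075 D58016
theorem N25247 : nd 25247 = n58017 := ndS (p := 24076) (l := 3) rfl N24076 D58017
theorem N25248 : nd 25248 = n58018 := ndS (p := 24077) (l := 2) rfl N24077 D58018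
theorem N25249 : nd 25249 = n58019 := ndS (p := 24077) (l := 4) rfl N24077 D58019
theorem N25250 : nd 25250 = n58020 := ndS (p := 24079) (l := 1) rfl N24079 D58020
theorem N25251 : nd 25251 = n58021 := ndS (p := 24080) (l := 3) rfl N24080 D58021
theorem N25252 : nd 25252 = n58022 := ndS (p := 24081) (l := 3) rfl N24081 D58022
theorem N25253 : nd 25253 = n58023 := ndS (p := 24082) (l := 2) rfl N24082 D58023
theorem N25254 : nd 25254 = n58024 := ndS (p := 24082) (l := 4) rfl N24082 D58024
theorem N25255 : nd 25255 = n58025 := ndS (p := 24084) (l := 3) rfl N24084 D58025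
theorem N25256 : nd 25256 = n58026 := ndS (p := 24085) (l := 3) rfl N24085 D58026
theorem N25257 : nd 25257 = n58027 := ndS (p := 24086) (l := 2) rfl N24086 D58027
theorem N25258 : nd 25258 = n58028 := ndS (p := 24086) (l := 4) rfl N24086 D58028
theorem N25259 : nd 25259 = n58029 := ndS (p := 24087) (l := 2) rfl N24087 D58029
theorem N25260 : nd 25260 = n58030 := ndS (p := 24088) (l := 1) rfl N24088 D58030
theorem N25261 : nd 25261 = n58031 := ndS (p := 24088) (l := 4) rfl N24088 D58031
theorem N25262 : nd 25262 = n58032 := ndS (p := 24090) (l := 2) rfl N24090 D58032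
theorem N25263 : nd 25263 = n58033 := ndS (p := 24091) (l := 1) rfl N24091 D58033
theorem N25264 : nd 25264 = n58034 := ndS (p := 24092) (l := 0) rfl N24092 D58034
theorem N25265 : nd 25265 = n58035 := ndS (p := 24093) (l := 3) rfl N24093 D58035
theorem N25266 : nd 25266 = n58036 := ndS (p := 24094) (l := 2) rfl N24094 D58036
theorem N25267 : nd 25267 = n58037 := ndS (p := 24094) (l := 4) rfl N24094 D58037
theorem N25268 : nd 25268 = n58038 := ndS (p := 24095) (l := 5) rfl N24095 D58038
theorem N25269 : nd 25269 = n58039 := ndS (p := 24096) (l := 2) rfl N24096 D58039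
theorem N25270 : nd 25270 = n58040 := ndS (p := 24096) (l := 4) rfl N24096 D58040
theorem N25271 : nd 25271 = n58041 := ndS (p := 24097) (l := 1) rfl N24097 D58041
theorem N25272 : nd 25272 = n58042 := ndS (p := 24098) (l := 3) rfl N24098 D58042
theorem N25273 : nd 25273 = n58043 := ndS (p := 24099) (l := 2) rfl N24099 D58043
theorem N25274 : nd 25274 = n58044 := ndS (p := 24099) (l := 4) rfl N24099 D58044
theorem N25275 : nd 25275 = n58045 := ndS (p := 24101) (l := 8) rfl N24101 D58045
theorem N25276 : nd 25276 = n58046 := ndS (p := 24102) (l := 3) rfl N24102 D58046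
theorem N25277 : nd 25277 = n58047 := ndS (p := 24103) (l := 3) rfl N24103 D58047
theorem N25278 : nd 25278 = n58048 := ndS (p := 24104) (l := 2) rfl N24104 D58048
theorem N25279 : nd 25279 = n58049 := ndS (p := 24104) (l := 4) rfl N24104 D58049
theorem N25280 : nd 25280 = n58050 := ndS (p := 24105) (l := 2) rfl N24105 D58050
theorem N25281 : nd 25281 = n58051 := ndS (p := 24105) (l := 4) rfl N24105 D58051
theorem N25282 : nd 25282 = n58052 := ndS (p := 24106) (l := 1) rfl N24106 D58052
theorem N25283 : nd 25283 = n58053 := ndS (p := 24106) (l := 4) rfl N24106 D58053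
theorem N25284 : nd 25284 = n58054 := ndS (p := 24107) (l := 5) rfl N24107 D58054
theorem N25285 : nd 25285 = n58055 := ndS (p := 24108) (l := 6) rfl N24108 D58055
theorem N25286 : nd 25286 = n58056 := ndS (p := 24109) (l := 1) rfl N24109 D58056
theorem N25287 : nd 25287 = n58057 := ndS (p := 24110) (l := 0) rfl N24110 D58057
theorem N25288 : nd 25288 = n58058 := ndS (p := 24111) (l := 3) rfl N24111 D58058
theorem N25289 : nd 25289 = n58059 := ndS (p := 24112) (l := 2) rfl N24112 D58059
theorem N25290 : nd 25290 = n58060 := ndS (p := 24113) (l := 3) rfl N24113 D58060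
theorem N25291 : nd 25291 = n58061 := ndS (p := 24114) (l := 3) rfl N24114 D58061
theorem N25292 : nd 25292 = n58062 := ndS (p := 24115) (l := 2) rfl N24115 D58062
theorem N25293 : nd 25293 = n58063 := ndS (p := 24115) (l := 4) rfl N24115 D58063
theorem N25294 : nd 25294 = n58064 := ndS (p := 24116) (l := 3) rfl N24116 D58064
theorem N25295 : nd 25295 = n58065 := ndS (p := 24117) (l := 2) rfl N24117 D58065
theorem N25296 : nd 25296 = n58066 := ndS (p := 24117) (l := 4) rfl N24117 D58066
theorem N25297 : nd 25297 = n58067 := ndS (p := 24118) (l := 1) rfl N24118 D58067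
theorem N25298 : nd 25298 = n58068 := ndS (p := 24118) (l := 4) rfl N24118 D58068
theorem N25299 : nd 25299 = n58069 := ndS (p := 24120) (l := 3) rfl N24120 D58069
theorem N25300 : nd 25300 = n58070 := ndS (p := 24121) (l := 3) rfl N24121 D58070
theorem N25301 : nd 25301 = n58071 := ndS (p := 24122) (l := 2) rfl N24122 D58071
theorem N25302 : nd 25302 = n58072 := ndS (p := 24122) (l := 4) rfl N24122 D58072
theorem N25303 : nd 25303 = n58073 := ndS (p := 24123) (l := 2) rfl N24123 D58073
theorem N25304 : nd 25304 = n58074 := ndS (p := 24123) (l := 4) rfl N24123 D58074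
theorem N25305 : nd 25305 = n58075 := ndS (p := 24124) (l := 1) rfl N24124 D58075
theorem N25306 : nd 25306 = n58076 := ndS (p := 24124) (l := 4) rfl N24124 D58076
theorem N25307 : nd 25307 = n58077 := ndS (p := 24125) (l := 5) rfl N24125 D58077
theorem N25308 : nd 25308 = n58078 := ndS (p := 24126) (l := 3) rfl N24126 D58078
theorem N25309 : nd 25309 = n58079 := ndS (p := 24127) (l := 2) rfl N24127 D58079
theorem N25310 : nd 25310 = n58080 := ndS (p := 24127) (l := 4) rfl N24127 D58080
theorem N25311 : nd 25311 = n58081 := ndS (p := 24128) (l := 1) rfl N24128 D58081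
theorem N25312 : nd 25312 = n58082 := ndS (p := 24128) (l := 4) rfl N24128 D58082
theorem N25313 : nd 25313 = n58083 := ndS (p := 24130) (l := 0) rfl N24130 D58083
theorem N25314 : nd 25314 = n58084 := ndS (p := 24130) (l := 4) rfl N24130 D58084
theorem N25315 : nd 25315 = n58085 := ndS (p := 24131) (l := 5) rfl N24131 D58085
theorem N25316 : nd 25316 = n58086 := ndS (p := 24133) (l := 2) rfl N24133 D58086
theorem N25317 : nd 25317 = n58087 := ndS (p := 24134) (l := 1) rfl N24134 D58087
theorem N25318 : nd 25318 = n58088 := ndS (p := 24135) (l := 0) rfl N24135 D58088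
theorem N25319 : nd 25319 = n58089 := ndS (p := 24137) (l := 3) rfl N24137 D58089
theorem N25320 : nd 25320 = n58090 := ndS (p := 24139) (l := 4) rfl N24139 D58090
theorem N25321 : nd 25321 = n58091 := ndS (p := 24142) (l := 4) rfl N24142 D58091
theorem N25322 : nd 25322 = n58092 := ndS (p := 24144) (l := 4) rfl N24144 D58092
theorem N25323 : nd 25323 = n58093 := ndS (p := 24147) (l := 4) rfl N24147 D58093
theorem N25324 : nd 25324 = n58094 := ndS (p := 24148) (l := 5) rfl N24148 D58094
theorem N25325 : nd 25325 = n58095 := ndS (p := 24149) (l := 6) rfl N24149 D58095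
theorem N25326 : nd 25326 = n58096 := ndS (p := 24151) (l := 4) rfl N24151 D58096
theorem N25327 : nd 25327 = n58097 := ndS (p := 24153) (l := 5) rfl N24153 D58097
theorem N25328 : nd 25328 = n58098 := ndS (p := 24155) (l := 2) rfl N24155 D58098
theorem N25329 : nd 25329 = n58099 := ndS (p := 24156) (l := 2) rfl N24156 D58099
theorem N25330 : nd 25330 = n58100 := ndS (p := 24157) (l := 2) rfl N24157 D58100
theorem N25331 : nd 25331 = n58101 := ndS (p := 24157) (l := 4) rfl N24157 D58101
theorem N25332 : nd 25332 = n58102 := ndS (p := 24158) (l := 5) rfl N24158 D58102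
theorem N25333 : nd 25333 = n58103 := ndS (p := 24159) (l := 1) rfl N24159 D58103
theorem N25334 : nd 25334 = n58104 := ndS (p := 24163) (l := 8) rfl N24163 D58104
theorem N25335 : nd 25335 = n58105 := ndS (p := 24164) (l := 3) rfl N24164 D58105
theorem N25336 : nd 25336 = n58106 := ndS (p := 24165) (l := 2) rfl N24165 D58106
theorem N25337 : nd 25337 = n58107 := ndS (p := 24165) (l := 4) rfl N24165 D58107
theorem N25338 : nd 25338 = n58108 := ndS (p := 24166) (l := 5) rfl N24166 D58108
theorem N25339 : nd 25339 = n58109 := ndS (p := 24167) (l := 1) rfl N24167 D58109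
theorem N25340 : nd 25340 = n58110 := ndS (p := 24169) (l := 1) rfl N24169 D58110
theorem N25341 : nd 25341 = n58111 := ndS (p := 24170) (l := 8) rfl N24170 D58111
theorem N25342 : nd 25342 = n58112 := ndS (p := 24171) (l := 3) rfl N24171 D58112
theorem N25343 : nd 25343 = n58113 := ndS (p := 24172) (l := 3) rfl N24172 D58113
theorem N25344 : nd 25344 = n58114 := ndS (p := 24173) (l := 2) rfl N24173 D58114
theorem N25345 : nd 25345 = n58115 := ndS (p := 24173) (l := 4) rfl N24173 D58115
theorem N25346 : nd 25346 = n58116 := ndS (p := 24174) (l := 2) rfl N24174 D58116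
theorem N25347 : nd 25347 = n58117 := ndS (p := 24174) (l := 4) rfl N24174 D58117
theorem N25348 : nd 25348 = n58118 := ndS (p := 24175) (l := 1) rfl N24175 D58118
theorem N25349 : nd 25349 = n58119 := ndS (p := 24175) (l := 4) rfl N24175 D58119
theorem N25350 : nd 25350 = n58120 := ndS (p := 24176) (l := 5) rfl N24176 D58120
theorem N25351 : nd 25351 = n58121 := ndS (p := 24177) (l := 6) rfl N24177 D58121
theorem N25352 : nd 25352 = n58122 := ndS (p := 24178) (l := 1) rfl N24178 D58122
theorem N25353 : nd 25353 = n58123 := ndS (p := 24179) (l := 0) rfl N24179 D58123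
theorem N25354 : nd 25354 = n58124 := ndS (p := 24180) (l := 5) rfl N24180 D58124
theorem N25355 : nd 25355 = n58125 := ndS (p := 24183) (l := 4) rfl N24183 D58125
theorem N25356 : nd 25356 = n58126 := ndS (p := 24184) (l := 5) rfl N24184 D58126
theorem N25357 : nd 25357 = n58127 := ndS (p := 24187) (l := 3) rfl N24187 D58127
theorem N25358 : nd 25358 = n58128 := ndS (p := 24188) (l := 2) rfl N24188 D58128
theorem N25359 : nd 25359 = n58129 := ndS (p := 24188) (l := 4) rfl N24188 D58129
theorem N25360 : nd 25360 = n58130 := ndS (p := 24190) (l := 1) rfl N24190 D58130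
theorem N25361 : nd 25361 = n58131 := ndS (p := 24191) (l := 2) rfl N24191 D58131
theorem N25362 : nd 25362 = n58132 := ndS (p := 24192) (l := 1) rfl N24192 D58132
theorem N25363 : nd 25363 = n58133 := ndS (p := 24193) (l := 1) rfl N24193 D58133
theorem N25364 : nd 25364 = n58134 := ndS (p := 24193) (l := 4) rfl N24193 D58134
theorem N25365 : nd 25365 = n58135 := ndS (p := 24194) (l := 5) rfl N24194 D58135
theorem N25366 : nd 25366 = n58136 := ndS (p := 24196) (l := 0) rfl N24196 D58136
theorem N25367 : nd 25367 = n58137 := ndS (p := 24197) (l := 2) rfl N24197 D58137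
theorem N25368 : nd 25368 = n58138 := ndS (p := 24197) (l := 4) rfl N24197 D58138
theorem N25369 : nd 25369 = n58139 := ndS (p := 24198) (l := 5) rfl N24198 D58139
theorem N25370 : nd 25370 = n58140 := ndS (p := 24199) (l := 3) rfl N24199 D58140
theorem N25371 : nd 25371 = n58141 := ndS (p := 24200) (l := 2) rfl N24200 D58141
theorem N25372 : nd 25372 = n58142 := ndS (p := 24200) (l := 4) rfl N24200 D58142
theorem N25373 : nd 25373 = n58143 := ndS (p := 24201) (l := 1) rfl N24201 D58143
theorem N25374 : nd 25374 = n58144 := ndS (p := 24201) (l := 4) rfl N24201 D58144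
theorem N25375 : nd 25375 = n58145 := ndS (p := 24202) (l := 5) rfl N24202 D58145
theorem N25376 : nd 25376 = n58146 := ndS (p := 24204) (l := 0) rfl N24204 D58146
theorem N25377 : nd 25377 = n58147 := ndS (p := 24206) (l := 2) rfl N24206 D58147
theorem N25378 : nd 25378 = n58148 := ndS (p := 24206) (l := 4) rfl N24206 D58148
theorem N25379 : nd 25379 = n58149 := ndS (p := 24208) (l := 2) rfl N24208 D58149
theorem N25380 : nd 25380 = n58150 := ndS (p := 24208) (l := 4) rfl N24208 D58150
theorem N25381 : nd 25381 = n58151 := ndS (p := 24209) (l := 1) rfl N24209 D58151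
theorem N25382 : nd 25382 = n58152 := ndS (p := 24210) (l := 2) rfl N24210 D58152
theorem N25383 : nd 25383 = n58153 := ndS (p := 24210) (l := 4) rfl N24210 D58153
theorem N25384 : nd 25384 = n58154 := ndS (p := 24212) (l := 1) rfl N24212 D58154
theorem N25385 : nd 25385 = n58155 := ndS (p := 24212) (l := 4) rfl N24212 D58155
theorem N25386 : nd 25386 = n58156 := ndS (p := 24214) (l := 0) rfl N24214 D58156
theorem N25387 : nd 25387 = n58157 := ndS (p := 24215) (l := 2) rfl N24215 D58157
theorem N25388 : nd 25388 = n58158 := ndS (p := 24215) (l := 4) rfl N24215 D58158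
theorem N25389 : nd 25389 = n58159 := ndS (p := 24217) (l := 2) rfl N24217 D58159
theorem N25390 : nd 25390 = n58160 := ndS (p := 24217) (l := 4) rfl N24217 D58160
theorem N25391 : nd 25391 = n58161 := ndS (p := 24218) (l := 2) rfl N24218 D58161
theorem N25392 : nd 25392 = n58162 := ndS (p := 24219) (l := 1) rfl N24219 D58162
theorem N25393 : nd 25393 = n58163 := ndS (p := 24219) (l := 4) rfl N24219 D58163
theorem N25394 : nd 25394 = n58164 := ndS (p := 24220) (l := 5) rfl N24220 D58164
theorem N25395 : nd 25395 = n58165 := ndS (p := 24222) (l := 2) rfl N24222 D58165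
theorem N25396 : nd 25396 = n58166 := ndS (p := 24222) (l := 4) rfl N24222 D58166
theorem N25397 : nd 25397 = n58167 := ndS (p := 24223) (l := 1) rfl N24223 D58167
theorem N25398 : nd 25398 = n58168 := ndS (p := 24223) (l := 4) rfl N24223 D58168
theorem N25399 : nd 25399 = n58169 := ndS (p := 24225) (l := 2) rfl N24225 D58169
theorem N25400 : nd 25400 = n58170 := ndS (p := 24226) (l := 1) rfl N24226 D58170
theorem N25401 : nd 25401 = n58171 := ndS (p := 24226) (l := 4) rfl N24226 D58171
theorem N25402 : nd 25402 = n58172 := ndS (p := 24228) (l := 0) rfl N24228 D58172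
theorem N25403 : nd 25403 = n58173 := ndS (p := 24228) (l := 4) rfl N24228 D58173
theorem N25404 : nd 25404 = n58174 := ndS (p := 24229) (l := 5) rfl N24229 D58174
theorem N25405 : nd 25405 = n58175 := ndS (p := 24230) (l := 6) rfl N24230 D58175
theorem N25406 : nd 25406 = n58176 := ndS (p := 24232) (l := 1) rfl N24232 D58176
theorem N25407 : nd 25407 = n58177 := ndS (p := 24233) (l := 0) rfl N24233 D58177
theorem N25408 : nd 25408 = n58178 := ndS (p := 24237) (l := 3) rfl N24237 D58178
theorem N25409 : nd 25409 = n58179 := ndS (p := 24238) (l := 2) rfl N24238 D58179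
theorem N25410 : nd 25410 = n58180 := ndS (p := 24239) (l := 1) rfl N24239 D58180
theorem N25411 : nd 25411 = n58181 := ndS (p := 24240) (l := 0) rfl N24240 D58181
theorem N25412 : nd 25412 = n58182 := ndS (p := 24241) (l := 1) rfl N24241 D58182
theorem N25413 : nd 25413 = n58183 := ndS (p := 24242) (l := 2) rfl N24242 D58183
theorem N25414 : nd 25414 = n58184 := ndS (p := 24243) (l := 1) rfl N24243 D58184
theorem N25415 : nd 25415 = n58185 := ndS (p := 24244) (l := 1) rfl N24244 D58185
theorem N25416 : nd 25416 = n58186 := ndS (p := 24245) (l := 0) rfl N24245 D58186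
theorem N25417 : nd 25417 = n58187 := ndS (p := 24246) (l := 3) rfl N24246 D58187
theorem N25418 : nd 25418 = n58188 := ndS (p := 24247) (l := 2) rfl N24247 D58188
theorem N25419 : nd 25419 = n58189 := ndS (p := 24248) (l := 3) rfl N24248 D58189
theorem N25420 : nd 25420 = n58190 := ndS (p := 24249) (l := 2) rfl N24249 D58190
theorem N25421 : nd 25421 = n58191 := ndS (p := 24249) (l := 4) rfl N24249 D58191
theorem N25422 : nd 25422 = n58192 := ndS (p := 24250) (l := 1) rfl N24250 D58192
theorem N25423 : nd 25423 = n58193 := ndS (p := 24251) (l := 3) rfl N24251 D58193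
theorem N25424 : nd 25424 = n58194 := ndS (p := 24252) (l := 2) rfl N24252 D58194
theorem N25425 : nd 25425 = n58195 := ndS (p := 24253) (l := 3) rfl N24253 D58195
theorem N25426 : nd 25426 = n58196 := ndS (p := 24254) (l := 2) rfl N24254 D58196
theorem N25427 : nd 25427 = n58197 := ndS (p := 24255) (l := 2) rfl N24255 D58197
theorem N25428 : nd 25428 = n58198 := ndS (p := 24255) (l := 4) rfl N24255 D58198
theorem N25429 : nd 25429 = n58199 := ndS (p := 24256) (l := 1) rfl N24256 D58199
theorem N25430 : nd 25430 = n58200 := ndS (p := 24257) (l := 2) rfl N24257 D58200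
theorem N25431 : nd 25431 = n58201 := ndS (p := 24258) (l := 1) rfl N24258 D58201
theorem N25432 : nd 25432 = n58202 := ndS (p := 24259) (l := 0) rfl N24259 D58202
theorem N25433 : nd 25433 = n58203 := ndS (p := 24260) (l := 3) rfl N24260 D58203
theorem N25434 : nd 25434 = n58204 := ndS (p := 24261) (l := 2) rfl N24261 D58204
theorem N25435 : nd 25435 = n58205 := ndS (p := 24262) (l := 2) rfl N24262 D58205
theorem N25436 : nd 25436 = n58206 := ndS (p := 24262) (l := 4) rfl N24262 D58206
theorem N25437 : nd 25437 = n58207 := ndS (p := 24263) (l := 1) rfl N24263 D58207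
theorem N25438 : nd 25438 = n58208 := ndS (p := 24264) (l := 2) rfl N24264 D58208
theorem N25439 : nd 25439 = n58209 := ndS (p := 24264) (l := 4) rfl N24264 D58209
theorem N25440 : nd 25440 = n58210 := ndS (p := 24265) (l := 1) rfl N24265 D58210
theorem N25441 : nd 25441 = n58211 := ndS (p := 24266) (l := 1) rfl N24266 D58211
theorem N25442 : nd 25442 = n58212 := ndS (p := 24266) (l := 4) rfl N24266 D58212
theorem N25443 : nd 25443 = n58213 := ndS (p := 24268) (l := 0) rfl N24268 D58213
theorem N25444 : nd 25444 = n58214 := ndS (p := 24269) (l := 0) rfl N24269 D58214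
theorem N25445 : nd 25445 = n58215 := ndS (p := 24271) (l := 4) rfl N24271 D58215
theorem N25446 : nd 25446 = n58216 := ndS (p := 24274) (l := 2) rfl N24274 D58216
theorem N25447 : nd 25447 = n58217 := ndS (p := 24274) (l := 4) rfl N24274 D58217
theorem N25448 : nd 25448 = n58218 := ndS (p := 24276) (l := 1) rfl N24276 D58218
theorem N25449 : nd 25449 = n58219 := ndS (p := 24277) (l := 1) rfl N24277 D58219
theorem N25450 : nd 25450 = n58220 := ndS (p := 24278) (l := 0) rfl N24278 D58220
theorem N25451 : nd 25451 = n58221 := ndS (p := 24279) (l := 2) rfl N24279 D58221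
theorem N25452 : nd 25452 = n58222 := ndS (p := 24280) (l := 2) rfl N24280 D58222
theorem N25453 : nd 25453 = n58223 := ndS (p := 24280) (l := 4) rfl N24280 D58223
theorem N25454 : nd 25454 = n58224 := ndS (p := 24281) (l := 1) rfl N24281 D58224
theorem N25455 : nd 25455 = n58225 := ndS (p := 24282) (l := 2) rfl N24282 D58225
theorem N25456 : nd 25456 = n58226 := ndS (p := 24283) (l := 1) rfl N24283 D58226
theorem N25457 : nd 25457 = n58227 := ndS (p := 24284) (l := 0) rfl N24284 D58227
theorem N25458 : nd 25458 = n58228 := ndS (p := 24285) (l := 2) rfl N24285 D58228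
theorem N25459 : nd 25459 = n58229 := ndS (p := 24286) (l := 2) rfl N24286 D58229
theorem N25460 : nd 25460 = n58230 := ndS (p := 24287) (l := 1) rfl N24287 D58230
theorem N25461 : nd 25461 = n58231 := ndS (p := 24288) (l := 2) rfl N24288 D58231
theorem N25462 : nd 25462 = n58232 := ndS (p := 24289) (l := 1) rfl N24289 D58232
theorem N25463 : nd 25463 = n58233 := ndS (p := 24290) (l := 0) rfl N24290 D58233
theorem N25464 : nd 25464 = n58234 := ndS (p := 24292) (l := 3) rfl N24292 D58234
theorem N25465 : nd 25465 = n58235 := ndS (p := 24293) (l := 4) rfl N24293 D58235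
theorem N25466 : nd 25466 = n58236 := ndS (p := 24294) (l := 3) rfl N24294 D58236
theorem N25467 : nd 25467 = n58237 := ndS (p := 24295) (l := 2) rfl N24295 D58237
theorem N25468 : nd 25468 = n58238 := ndS (p := 24295) (l := 4) rfl N24295 D58238
theorem N25469 : nd 25469 = n58239 := ndS (p := 24296) (l := 4) rfl N24296 D58239
theorem N25470 : nd 25470 = n58240 := ndS (p := 24298) (l := 3) rfl N24298 D58240
theorem N25471 : nd 25471 = n58241 := ndS (p := 24299) (l := 2) rfl N24299 D58241
theorem N25472 : nd 25472 = n58242 := ndS (p := 24299) (l := 4) rfl N24299 D58242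
theorem N25473 : nd 25473 = n58243 := ndS (p := 24300) (l := 1) rfl N24300 D58243
theorem N25474 : nd 25474 = n58244 := ndS (p := 24300) (l := 4) rfl N24300 D58244
theorem N25475 : nd 25475 = n58245 := ndS (p := 24302) (l := 0) rfl N24302 D58245
theorem N25476 : nd 25476 = n58246 := ndS (p := 24303) (l := 3) rfl N24303 D58246
theorem N25477 : nd 25477 = n58247 := ndS (p := 24304) (l := 2) rfl N24304 D58247
theorem N25478 : nd 25478 = n58248 := ndS (p := 24305) (l := 2) rfl N24305 D58248
theorem N25479 : nd 25479 = n58249 := ndS (p := 24305) (l := 4) rfl N24305 D58249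
theorem N25480 : nd 25480 = n58250 := ndS (p := 24306) (l := 1) rfl N24306 D58250
theorem N25481 : nd 25481 = n58251 := ndS (p := 24307) (l := 2) rfl N24307 D58251
theorem N25482 : nd 25482 = n58252 := ndS (p := 24308) (l := 2) rfl N24308 D58252
theorem N25483 : nd 25483 = n58253 := ndS (p := 24309) (l := 1) rfl N24309 D58253
theorem N25484 : nd 25484 = n58254 := ndS (p := 24310) (l := 0) rfl N24310 D58254
theorem N25485 : nd 25485 = n58255 := ndS (p := 24311) (l := 2) rfl N24311 D58255
theorem N25486 : nd 25486 = n58256 := ndS (p := 24312) (l := 3) rfl N24312 D58256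
theorem N25487 : nd 25487 = n58257 := ndS (p := 24313) (l := 3) rfl N24313 D58257
theorem N25488 : nd 25488 = n58258 := ndS (p := 24314) (l := 2) rfl N24314 D58258
theorem N25489 : nd 25489 = n58259 := ndS (p := 24315) (l := 2) rfl N24315 D58259
theorem N25490 : nd 25490 = n58260 := ndS (p := 24315) (l := 4) rfl N24315 D58260
theorem N25491 : nd 25491 = n58261 := ndS (p := 24316) (l := 1) rfl N24316 D58261
theorem N25492 : nd 25492 = n58262 := ndS (p := 24317) (l := 8) rfl N24317 D58262
theorem N25493 : nd 25493 = n58263 := ndS (p := 24318) (l := 3) rfl N24318 D58263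
theorem N25494 : nd 25494 = n58264 := ndS (p := 24319) (l := 3) rfl N24319 D58264
theorem N25495 : nd 25495 = n58265 := ndS (p := 24320) (l := 2) rfl N24320 D58265
theorem N25496 : nd 25496 = n58266 := ndS (p := 24320) (l := 4) rfl N24320 D58266
theorem N25497 : nd 25497 = n58267 := ndS (p := 24321) (l := 2) rfl N24321 D58267
theorem N25498 : nd 25498 = n58268 := ndS (p := 24322) (l := 1) rfl N24322 D58268
theorem N25499 : nd 25499 = n58269 := ndS (p := 24323) (l := 3) rfl N24323 D58269
theorem N25500 : nd 25500 = n58270 := ndS (p := 24324) (l := 2) rfl N24324 D58270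
theorem N25501 : nd 25501 = n58271 := ndS (p := 24324) (l := 4) rfl N24324 D58271
theorem N25502 : nd 25502 = n58272 := ndS (p := 24325) (l := 1) rfl N24325 D58272
theorem N25503 : nd 25503 = n58273 := ndS (p := 24325) (l := 4) rfl N24325 D58273
theorem N25504 : nd 25504 = n58274 := ndS (p := 24327) (l := 0) rfl N24327 D58274
theorem N25505 : nd 25505 = n58275 := ndS (p := 24328) (l := 2) rfl N24328 D58275
theorem N25506 : nd 25506 = n58276 := ndS (p := 24329) (l := 1) rfl N24329 D58276
theorem N25507 : nd 25507 = n58277 := ndS (p := 24330) (l := 0) rfl N24330 D58277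
theorem N25508 : nd 25508 = n58278 := ndS (p := 24333) (l := 4) rfl N24333 D58278
theorem N25509 : nd 25509 = n58279 := ndS (p := 24335) (l := 4) rfl N24335 D58279
theorem N25510 : nd 25510 = n58280 := ndS (p := 24337) (l := 2) rfl N24337 D58280
theorem N25511 : nd 25511 = n58281 := ndS (p := 24337) (l := 4) rfl N24337 D58281
theorem N25512 : nd 25512 = n58282 := ndS (p := 24338) (l := 1) rfl N24338 D58282
theorem N25513 : nd 25513 = n58283 := ndS (p := 24339) (l := 2) rfl N24339 D58283
theorem N25514 : nd 25514 = n58284 := ndS (p := 24339) (l := 4) rfl N24339 D58284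
theorem N25515 : nd 25515 = n58285 := ndS (p := 24340) (l := 1) rfl N24340 D58285
theorem N25516 : nd 25516 = n58286 := ndS (p := 24340) (l := 4) rfl N24340 D58286
theorem N25517 : nd 25517 = n58287 := ndS (p := 24342) (l := 0) rfl N24342 D58287
theorem N25518 : nd 25518 = n58288 := ndS (p := 24343) (l := 2) rfl N24343 D58288
theorem N25519 : nd 25519 = n58289 := ndS (p := 24343) (l := 4) rfl N24343 D58289
theorem N25520 : nd 25520 = n58290 := ndS (p := 24344) (l := 1) rfl N24344 D58290
theorem N25521 : nd 25521 = n58291 := ndS (p := 24345) (l := 1) rfl N24345 D58291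
theorem N25522 : nd 25522 = n58292 := ndS (p := 24346) (l := 1) rfl N24346 D58292
theorem N25523 : nd 25523 = n58293 := ndS (p := 24346) (l := 4) rfl N24346 D58293
theorem N25524 : nd 25524 = n58294 := ndS (p := 24347) (l := 5) rfl N24347 D58294
theorem N25525 : nd 25525 = n58295 := ndS (p := 24348) (l := 0) rfl N24348 D58295
theorem N25526 : nd 25526 = n58296 := ndS (p := 24348) (l := 4) rfl N24348 D58296
theorem N25527 : nd 25527 = n58297 := ndS (p := 24349) (l := 5) rfl N24349 D58297
theorem N25528 : nd 25528 = n58298 := ndS (p := 24350) (l := 6) rfl N24350 D58298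
theorem N25529 : nd 25529 = n58299 := ndS (p := 24352) (l := 2) rfl N24352 D58299
theorem N25530 : nd 25530 = n58300 := ndS (p := 24353) (l := 1) rfl N24353 D58300
theorem N25531 : nd 25531 = n58301 := ndS (p := 24354) (l := 0) rfl N24354 D58301
theorem N25532 : nd 25532 = n58302 := ndS (p := 24356) (l := 2) rfl N24356 D58302
theorem N25533 : nd 25533 = n58303 := ndS (p := 24357) (l := 1) rfl N24357 D58303
theorem N25534 : nd 25534 = n58304 := ndS (p := 24358) (l := 2) rfl N24358 D58304
theorem N25535 : nd 25535 = n58305 := ndS (p := 24358) (l := 4) rfl N24358 D58305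
theorem N25536 : nd 25536 = n58306 := ndS (p := 24359) (l := 1) rfl N24359 D58306
theorem N25537 : nd 25537 = n58307 := ndS (p := 24359) (l := 4) rfl N24359 D58307
theorem N25538 : nd 25538 = n58308 := ndS (p := 24361) (l := 0) rfl N24361 D58308
theorem N25539 : nd 25539 = n58309 := ndS (p := 24362) (l := 3) rfl N24362 D58309
theorem N25540 : nd 25540 = n58310 := ndS (p := 24363) (l := 2) rfl N24363 D58310
theorem N25541 : nd 25541 = n58311 := ndS (p := 24363) (l := 4) rfl N24363 D58311
theorem N25542 : nd 25542 = n58312 := ndS (p := 24364) (l := 2) rfl N24364 D58312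
theorem N25543 : nd 25543 = n58313 := ndS (p := 24364) (l := 4) rfl N24364 D58313
theorem N25544 : nd 25544 = n58314 := ndS (p := 24365) (l := 1) rfl N24365 D58314
theorem N25545 : nd 25545 = n58315 := ndS (p := 24365) (l := 4) rfl N24365 D58315
theorem N25546 : nd 25546 = n58316 := ndS (p := 24367) (l := 1) rfl N24367 D58316
theorem N25547 : nd 25547 = n58317 := ndS (p := 24368) (l := 0) rfl N24368 D58317
theorem N25548 : nd 25548 = n58318 := ndS (p := 24369) (l := 2) rfl N24369 D58318
theorem N25549 : nd 25549 = n58319 := ndS (p := 24369) (l := 4) rfl N24369 D58319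
theorem N25550 : nd 25550 = n58320 := ndS (p := 24370) (l := 1) rfl N24370 D58320
theorem N25551 : nd 25551 = n58321 := ndS (p := 24370) (l := 4) rfl N24370 D58321
theorem N25552 : nd 25552 = n58322 := ndS (p := 24371) (l := 5) rfl N24371 D58322
theorem N25553 : nd 25553 = n58323 := ndS (p := 24372) (l := 0) rfl N24372 D58323
theorem N25554 : nd 25554 = n58324 := ndS (p := 24372) (l := 4) rfl N24372 D58324
theorem N25555 : nd 25555 = n58325 := ndS (p := 24373) (l := 5) rfl N24373 D58325
theorem N25556 : nd 25556 = n58326 := ndS (p := 24375) (l := 4) rfl N24375 D58326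
theorem N25557 : nd 25557 = n58327 := ndS (p := 24376) (l := 5) rfl N24376 D58327
theorem N25558 : nd 25558 = n58328 := ndS (p := 24378) (l := 1) rfl N24378 D58328
theorem N25559 : nd 25559 = n58329 := ndS (p := 24379) (l := 0) rfl N24379 D58329
theorem N25560 : nd 25560 = n58330 := ndS (p := 24381) (l := 4) rfl N24381 D58330
theorem N25561 : nd 25561 = n58331 := ndS (p := 24383) (l := 6) rfl N24383 D58331
theorem N25562 : nd 25562 = n58332 := ndS (p := 24390) (l := 4) rfl N24390 D58332
theorem N25563 : nd 25563 = n58333 := ndS (p := 24393) (l := 4) rfl N24393 D58333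
theorem N25564 : nd 25564 = n58334 := ndS (p := 24395) (l := 4) rfl N24395 D58334
theorem N25565 : nd 25565 = n58335 := ndS (p := 24397) (l := 4) rfl N24397 D58335
theorem N25566 : nd 25566 = n58336 := ndS (p := 24398) (l := 5) rfl N24398 D58336
theorem N25567 : nd 25567 = n58337 := ndS (p := 24402) (l := 3) rfl N24402 D58337
theorem N25568 : nd 25568 = n58338 := ndS (p := 24403) (l := 2) rfl N24403 D58338
theorem N25569 : nd 25569 = n58339 := ndS (p := 24404) (l := 4) rfl N24404 D58339
theorem N25570 : nd 25570 = n58340 := ndS (p := 24405) (l := 3) rfl N24405 D58340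
theorem N25571 : nd 25571 = n58341 := ndS (p := 24406) (l := 2) rfl N24406 D58341
theorem N25572 : nd 25572 = n58342 := ndS (p := 24407) (l := 3) rfl N24407 D58342
theorem N25573 : nd 25573 = n58343 := ndS (p := 24408) (l := 2) rfl N24408 D58343
theorem N25574 : nd 25574 = n58344 := ndS (p := 24409) (l := 2) rfl N24409 D58344
theorem N25575 : nd 25575 = n58345 := ndS (p := 24409) (l := 4) rfl N24409 D58345
theorem N25576 : nd 25576 = n58346 := ndS (p := 24410) (l := 1) rfl N24410 D58346
theorem N25577 : nd 25577 = n58347 := ndS (p := 24412) (l := 4) rfl N24412 D58347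
theorem N25578 : nd 25578 = n58348 := ndS (p := 24414) (l := 3) rfl N24414 D58348
theorem N25579 : nd 25579 = n58349 := ndS (p := 24415) (l := 2) rfl N24415 D58349
theorem N25580 : nd 25580 = n58350 := ndS (p := 24416) (l := 1) rfl N24416 D58350
theorem N25581 : nd 25581 = n58351 := ndS (p := 24417) (l := 2) rfl N24417 D58351
theorem N25582 : nd 25582 = n58352 := ndS (p := 24418) (l := 2) rfl N24418 D58352
theorem N25583 : nd 25583 = n58353 := ndS (p := 24418) (l := 4) rfl N24418 D58353
theorem N25584 : nd 25584 = n58354 := ndS (p := 24419) (l := 1) rfl N24419 D58354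
theorem N25585 : nd 25585 = n58355 := ndS (p := 24420) (l := 4) rfl N24420 D58355
theorem N25586 : nd 25586 = n58356 := ndS (p := 24422) (l := 1) rfl N24422 D58356
theorem N25587 : nd 25587 = n58357 := ndS (p := 24423) (l := 1) rfl N24423 D58357
theorem N25588 : nd 25588 = n58358 := ndS (p := 24424) (l := 3) rfl N24424 D58358
theorem N25589 : nd 25589 = n58359 := ndS (p := 24425) (l := 2) rfl N24425 D58359
theorem N25590 : nd 25590 = n58360 := ndS (p := 24425) (l := 4) rfl N24425 D58360
theorem N25591 : nd 25591 = n58361 := ndS (p := 24426) (l := 1) rfl N24426 D58361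
theorem N25592 : nd 25592 = n58362 := ndS (p := 24426) (l := 4) rfl N24426 D58362
theorem N25593 : nd 25593 = n58363 := ndS (p := 24428) (l := 0) rfl N24428 D58363
theorem N25594 : nd 25594 = n58364 := ndS (p := 24430) (l := 4) rfl N24430 D58364
theorem N25595 : nd 25595 = n58365 := ndS (p := 24431) (l := 3) rfl N24431 D58365
theorem N25596 : nd 25596 = n58366 := ndS (p := 24433) (l := 8) rfl N24433 D58366
theorem N25597 : nd 25597 = n58367 := ndS (p := 24434) (l := 8) rfl N24434 D58367
theorem N25598 : nd 25598 = n58368 := ndS (p := 24435) (l := 3) rfl N24435 D58368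
theorem N25599 : nd 25599 = n58369 := ndS (p := 24436) (l := 8) rfl N24436 D58369
theorem N25600 : nd 25600 = n58370 := ndS (p := 24437) (l := 3) rfl N24437 D58370
theorem N25601 : nd 25601 = n58371 := ndS (p := 24438) (l := 8) rfl N24438 D58371
theorem N25602 : nd 25602 = n58372 := ndS (p := 24439) (l := 8) rfl N24439 D58372
theorem N25603 : nd 25603 = n58373 := ndS (p := 24440) (l := 3) rfl N24440 D58373
theorem N25604 : nd 25604 = n58374 := ndS (p := 24441) (l := 4) rfl N24441 D58374
theorem N25605 : nd 25605 = n58375 := ndS (p := 24442) (l := 3) rfl N24442 D58375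
theorem N25606 : nd 25606 = n58376 := ndS (p := 24443) (l := 2) rfl N24443 D58376
theorem N25607 : nd 25607 = n58377 := ndS (p := 24444) (l := 3) rfl N24444 D58377
theorem N25608 : nd 25608 = n58378 := ndS (p := 24445) (l := 8) rfl N24445 D58378
theorem N25609 : nd 25609 = n58379 := ndS (p := 24446) (l := 3) rfl N24446 D58379
theorem N25610 : nd 25610 = n58380 := ndS (p := 24447) (l := 4) rfl N24447 D58380
theorem N25611 : nd 25611 = n58381 := ndS (p := 24448) (l := 8) rfl N24448 D58381
theorem N25612 : nd 25612 = n58382 := ndS (p := 24449) (l := 3) rfl N24449 D58382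
theorem N25613 : nd 25613 = n58383 := ndS (p := 24450) (l := 2) rfl N24450 D58383
theorem N25614 : nd 25614 = n58384 := ndS (p := 24451) (l := 8) rfl N24451 D58384
theorem N25615 : nd 25615 = n58385 := ndS (p := 24452) (l := 3) rfl N24452 D58385
theorem N25616 : nd 25616 = n58386 := ndS (p := 24453) (l := 2) rfl N24453 D58386
theorem N25617 : nd 25617 = n58387 := ndS (p := 24453) (l := 4) rfl N24453 D58387
theorem N25618 : nd 25618 = n58388 := ndS (p := 24454) (l := 5) rfl N24454 D58388
theorem N25619 : nd 25619 = n58389 := ndS (p := 24455) (l := 2) rfl N24455 D58389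
theorem N25620 : nd 25620 = n58390 := ndS (p := 24455) (l := 4) rfl N24455 D58390
theorem N25621 : nd 25621 = n58391 := ndS (p := 24456) (l := 1) rfl N24456 D58391
theorem N25622 : nd 25622 = n58392 := ndS (p := 24457) (l := 5) rfl N24457 D58392
theorem N25623 : nd 25623 = n58393 := ndS (p := 24458) (l := 3) rfl N24458 D58393
theorem N25624 : nd 25624 = n58394 := ndS (p := 24459) (l := 2) rfl N24459 D58394
theorem N25625 : nd 25625 = n58395 := ndS (p := 24459) (l := 4) rfl N24459 D58395
theorem N25626 : nd 25626 = n58396 := ndS (p := 24462) (l := 4) rfl N24462 D58396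
theorem N25627 : nd 25627 = n58397 := ndS (p := 24464) (l := 2) rfl N24464 D58397
theorem N25628 : nd 25628 = n58398 := ndS (p := 24465) (l := 3) rfl N24465 D58398
theorem N25629 : nd 25629 = n58399 := ndS (p := 24466) (l := 2) rfl N24466 D58399
theorem N25630 : nd 25630 = n58400 := ndS (p := 24466) (l := 4) rfl N24466 D58400
theorem N25631 : nd 25631 = n58401 := ndS (p := 24467) (l := 5) rfl N24467 D58401
theorem N25632 : nd 25632 = n58402 := ndS (p := 24468) (l := 3) rfl N24468 D58402
theorem N25633 : nd 25633 = n58403 := ndS (p := 24469) (l := 2) rfl N24469 D58403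
theorem N25634 : nd 25634 = n58404 := ndS (p := 24469) (l := 4) rfl N24469 D58404
theorem N25635 : nd 25635 = n58405 := ndS (p := 24470) (l := 1) rfl N24470 D58405
theorem N25636 : nd 25636 = n58406 := ndS (p := 24471) (l := 8) rfl N24471 D58406
theorem N25637 : nd 25637 = n58407 := ndS (p := 24472) (l := 3) rfl N24472 D58407
theorem N25638 : nd 25638 = n58408 := ndS (p := 24473) (l := 2) rfl N24473 D58408
theorem N25639 : nd 25639 = n58409 := ndS (p := 24473) (l := 4) rfl N24473 D58409
theorem N25640 : nd 25640 = n58410 := ndS (p := 24475) (l := 8) rfl N24475 D58410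
theorem N25641 : nd 25641 = n58411 := ndS (p := 24476) (l := 3) rfl N24476 D58411
theorem N25642 : nd 25642 = n58412 := ndS (p := 24477) (l := 3) rfl N24477 D58412
theorem N25643 : nd 25643 = n58413 := ndS (p := 24478) (l := 2) rfl N24478 D58413
theorem N25644 : nd 25644 = n58414 := ndS (p := 24478) (l := 4) rfl N24478 D58414
theorem N25645 : nd 25645 = n58415 := ndS (p := 24479) (l := 2) rfl N24479 D58415
theorem N25646 : nd 25646 = n58416 := ndS (p := 24479) (l := 4) rfl N24479 D58416
theorem N25647 : nd 25647 = n58417 := ndS (p := 24480) (l := 1) rfl N24480 D58417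
theorem N25648 : nd 25648 = n58418 := ndS (p := 24480) (l := 4) rfl N24480 D58418
theorem N25649 : nd 25649 = n58419 := ndS (p := 24481) (l := 5) rfl N24481 D58419
theorem N25650 : nd 25650 = n58420 := ndS (p := 24482) (l := 6) rfl N24482 D58420
theorem N25651 : nd 25651 = n58421 := ndS (p := 24483) (l := 1) rfl N24483 D58421
theorem N25652 : nd 25652 = n58422 := ndS (p := 24483) (l := 4) rfl N24483 D58422
theorem N25653 : nd 25653 = n58423 := ndS (p := 24485) (l := 0) rfl N24485 D58423
theorem N25654 : nd 25654 = n58424 := ndS (p := 24486) (l := 2) rfl N24486 D58424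
theorem N25655 : nd 25655 = n58425 := ndS (p := 24486) (l := 4) rfl N24486 D58425
theorem N25656 : nd 25656 = n58426 := ndS (p := 24488) (l := 5) rfl N24488 D58426
theorem N25657 : nd 25657 = n58427 := ndS (p := 24489) (l := 6) rfl N24489 D58427
theorem N25658 : nd 25658 = n58428 := ndS (p := 24490) (l := 2) rfl N24490 D58428
theorem N25659 : nd 25659 = n58429 := ndS (p := 24490) (l := 4) rfl N24490 D58429
theorem N25660 : nd 25660 = n58430 := ndS (p := 24491) (l := 4) rfl N24491 D58430
theorem N25661 : nd 25661 = n58431 := ndS (p := 24493) (l := 4) rfl N24493 D58431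
theorem N25662 : nd 25662 = n58432 := ndS (p := 24494) (l := 5) rfl N24494 D58432
theorem N25663 : nd 25663 = n58433 := ndS (p := 24497) (l := 3) rfl N24497 D58433
theorem N25664 : nd 25664 = n58434 := ndS (p := 24498) (l := 4) rfl N24498 D58434
theorem N25665 : nd 25665 = n58435 := ndS (p := 24499) (l := 5) rfl N24499 D58435
theorem N25666 : nd 25666 = n58436 := ndS (p := 24501) (l := 3) rfl N24501 D58436
theorem N25667 : nd 25667 = n58437 := ndS (p := 24502) (l := 8) rfl N24502 D58437
theorem N25668 : nd 25668 = n58438 := ndS (p := 24503) (l := 6) rfl N24503 D58438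
theorem N25669 : nd 25669 = n58439 := ndS (p := 24504) (l := 3) rfl N24504 D58439
theorem N25670 : nd 25670 = n58440 := ndS (p := 24505) (l := 4) rfl N24505 D58440
theorem N25671 : nd 25671 = n58441 := ndS (p := 24507) (l := 4) rfl N24507 D58441
theorem N25672 : nd 25672 = n58442 := ndS (p := 24508) (l := 5) rfl N24508 D58442
theorem N25673 : nd 25673 = n58443 := ndS (p := 24511) (l := 3) rfl N24511 D58443
theorem N25674 : nd 25674 = n58444 := ndS (p := 24512) (l := 2) rfl N24512 D58444
theorem N25675 : nd 25675 = n58445 := ndS (p := 24513) (l := 8) rfl N24513 D58445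
theorem N25676 : nd 25676 = n58446 := ndS (p := 24514) (l := 3) rfl N24514 D58446
theorem N25677 : nd 25677 = n58447 := ndS (p := 24515) (l := 8) rfl N24515 D58447
theorem N25678 : nd 25678 = n58448 := ndS (p := 24516) (l := 3) rfl N24516 D58448
theorem N25679 : nd 25679 = n58449 := ndS (p := 24517) (l := 3) rfl N24517 D58449
theorem N25680 : nd 25680 = n58450 := ndS (p := 24518) (l := 4) rfl N24518 D58450
theorem N25681 : nd 25681 = n58451 := ndS (p := 24519) (l := 2) rfl N24519 D58451
theorem N25682 : nd 25682 = n58452 := ndS (p := 24520) (l := 3) rfl N24520 D58452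
theorem N25683 : nd 25683 = n58453 := ndS (p := 24521) (l := 2) rfl N24521 D58453
theorem N25684 : nd 25684 = n58454 := ndS (p := 24521) (l := 4) rfl N24521 D58454
theorem N25685 : nd 25685 = n58455 := ndS (p := 24523) (l := 2) rfl N24523 D58455
theorem N25686 : nd 25686 = n58456 := ndS (p := 24523) (l := 4) rfl N24523 D58456
theorem N25687 : nd 25687 = n58457 := ndS (p := 24524) (l := 1) rfl N24524 D58457
theorem N25688 : nd 25688 = n58458 := ndS (p := 24526) (l := 3) rfl N24526 D58458
theorem N25689 : nd 25689 = n58459 := ndS (p := 24527) (l := 2) rfl N24527 D58459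
theorem N25690 : nd 25690 = n58460 := ndS (p := 24528) (l := 2) rfl N24528 D58460
theorem N25691 : nd 25691 = n58461 := ndS (p := 24529) (l := 3) rfl N24529 D58461
theorem N25692 : nd 25692 = n58462 := ndS (p := 24530) (l := 2) rfl N24530 D58462
theorem N25693 : nd 25693 = n58463 := ndS (p := 24530) (l := 4) rfl N24530 D58463
theorem N25694 : nd 25694 = n58464 := ndS (p := 24532) (l := 2) rfl N24532 D58464
theorem N25695 : nd 25695 = n58465 := ndS (p := 24532) (l := 4) rfl N24532 D58465
theorem N25696 : nd 25696 = n58466 := ndS (p := 24533) (l := 1) rfl N24533 D58466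
theorem N25697 : nd 25697 = n58467 := ndS (p := 24535) (l := 3) rfl N24535 D58467
theorem N25698 : nd 25698 = n58468 := ndS (p := 24536) (l := 2) rfl N24536 D58468
theorem N25699 : nd 25699 = n58469 := ndS (p := 24537) (l := 1) rfl N24537 D58469
theorem N25700 : nd 25700 = n58470 := ndS (p := 24538) (l := 1) rfl N24538 D58470
theorem N25701 : nd 25701 = n58471 := ndS (p := 24538) (l := 4) rfl N24538 D58471
theorem N25702 : nd 25702 = n58472 := ndS (p := 24540) (l := 3) rfl N24540 D58472
theorem N25703 : nd 25703 = n58473 := ndS (p := 24541) (l := 2) rfl N24541 D58473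
theorem N25704 : nd 25704 = n58474 := ndS (p := 24541) (l := 4) rfl N24541 D58474
theorem N25705 : nd 25705 = n58475 := ndS (p := 24542) (l := 1) rfl N24542 D58475
theorem N25706 : nd 25706 = n58476 := ndS (p := 24542) (l := 4) rfl N24542 D58476
theorem N25707 : nd 25707 = n58477 := ndS (p := 24544) (l := 0) rfl N24544 D58477
theorem N25708 : nd 25708 = n58478 := ndS (p := 24545) (l := 4) rfl N24545 D58478
theorem N25709 : nd 25709 = n58479 := ndS (p := 24548) (l := 8) rfl N24548 D58479
theorem N25710 : nd 25710 = n58480 := ndS (p := 24549) (l := 3) rfl N24549 D58480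
theorem N25711 : nd 25711 = n58481 := ndS (p := 24550) (l := 8) rfl N24550 D58481
theorem N25712 : nd 25712 = n58482 := ndS (p := 24551) (l := 8) rfl N24551 D58482
theorem N25713 : nd 25713 = n58483 := ndS (p := 24552) (l := 3) rfl N24552 D58483
theorem N25714 : nd 25714 = n58484 := ndS (p := 24553) (l := 4) rfl N24553 D58484
theorem N25715 : nd 25715 = n58485 := ndS (p := 24554) (l := 8) rfl N24554 D58485
theorem N25716 : nd 25716 = n58486 := ndS (p := 24555) (l := 3) rfl N24555 D58486
theorem N25717 : nd 25717 = n58487 := ndS (p := 24556) (l := 2) rfl N24556 D58487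
theorem N25718 : nd 25718 = n58488 := ndS (p := 24557) (l := 8) rfl N24557 D58488
theorem N25719 : nd 25719 = n58489 := ndS (p := 24558) (l := 3) rfl N24558 D58489
theorem N25720 : nd 25720 = n58490 := ndS (p := 24559) (l := 3) rfl N24559 D58490
theorem N25721 : nd 25721 = n58491 := ndS (p := 24560) (l := 2) rfl N24560 D58491
theorem N25722 : nd 25722 = n58492 := ndS (p := 24560) (l := 4) rfl N24560 D58492
theorem N25723 : nd 25723 = n58493 := ndS (p := 24561) (l := 3) rfl N24561 D58493
theorem N25724 : nd 25724 = n58494 := ndS (p := 24562) (l := 3) rfl N24562 D58494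
theorem N25725 : nd 25725 = n58495 := ndS (p := 24563) (l := 2) rfl N24563 D58495
theorem N25726 : nd 25726 = n58496 := ndS (p := 24563) (l := 4) rfl N24563 D58496
theorem N25727 : nd 25727 = n58497 := ndS (p := 24564) (l := 5) rfl N24564 D58497
theorem N25728 : nd 25728 = n58498 := ndS (p := 24565) (l := 2) rfl N24565 D58498
theorem N25729 : nd 25729 = n58499 := ndS (p := 24565) (l := 4) rfl N24565 D58499
theorem N25730 : nd 25730 = n58500 := ndS (p := 24566) (l := 1) rfl N24566 D58500
theorem N25731 : nd 25731 = n58501 := ndS (p := 24567) (l := 8) rfl N24567 D58501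
theorem N25732 : nd 25732 = n58502 := ndS (p := 24568) (l := 3) rfl N24568 D58502
theorem N25733 : nd 25733 = n58503 := ndS (p := 24569) (l := 2) rfl N24569 D58503
theorem N25734 : nd 25734 = n58504 := ndS (p := 24570) (l := 3) rfl N24570 D58504
theorem N25735 : nd 25735 = n58505 := ndS (p := 24571) (l := 4) rfl N24571 D58505
theorem N25736 : nd 25736 = n58506 := ndS (p := 24572) (l := 3) rfl N24572 D58506
theorem N25737 : nd 25737 = n58507 := ndS (p := 24573) (l := 2) rfl N24573 D58507
theorem N25738 : nd 25738 = n58508 := ndS (p := 24573) (l := 4) rfl N24573 D58508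
theorem N25739 : nd 25739 = n58509 := ndS (p := 24574) (l := 5) rfl N24574 D58509
theorem N25740 : nd 25740 = n58510 := ndS (p := 24575) (l := 3) rfl N24575 D58510
theorem N25741 : nd 25741 = n58511 := ndS (p := 24576) (l := 2) rfl N24576 D58511
theorem N25742 : nd 25742 = n58512 := ndS (p := 24576) (l := 4) rfl N24576 D58512
theorem N25743 : nd 25743 = n58513 := ndS (p := 24577) (l := 1) rfl N24577 D58513
theorem N25744 : nd 25744 = n58514 := ndS (p := 24578) (l := 3) rfl N24578 D58514
theorem N25745 : nd 25745 = n58515 := ndS (p := 24579) (l := 2) rfl N24579 D58515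
theorem N25746 : nd 25746 = n58516 := ndS (p := 24579) (l := 4) rfl N24579 D58516
theorem N25747 : nd 25747 = n58517 := ndS (p := 24581) (l := 3) rfl N24581 D58517
theorem N25748 : nd 25748 = n58518 := ndS (p := 24582) (l := 3) rfl N24582 D58518
theorem N25749 : nd 25749 = n58519 := ndS (p := 24583) (l := 2) rfl N24583 D58519
theorem N25750 : nd 25750 = n58520 := ndS (p := 24583) (l := 4) rfl N24583 D58520
theorem N25751 : nd 25751 = n58521 := ndS (p := 24584) (l := 2) rfl N24584 D58521
theorem N25752 : nd 25752 = n58522 := ndS (p := 24585) (l := 1) rfl N24585 D58522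
theorem N25753 : nd 25753 = n58523 := ndS (p := 24585) (l := 4) rfl N24585 D58523
theorem N25754 : nd 25754 = n58524 := ndS (p := 24586) (l := 5) rfl N24586 D58524
theorem N25755 : nd 25755 = n58525 := ndS (p := 24588) (l := 3) rfl N24588 D58525
theorem N25756 : nd 25756 = n58526 := ndS (p := 24589) (l := 2) rfl N24589 D58526
theorem N25757 : nd 25757 = n58527 := ndS (p := 24589) (l := 4) rfl N24589 D58527
theorem N25758 : nd 25758 = n58528 := ndS (p := 24590) (l := 1) rfl N24590 D58528
theorem N25759 : nd 25759 = n58529 := ndS (p := 24590) (l := 4) rfl N24590 D58529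
theorem N25760 : nd 25760 = n58530 := ndS (p := 24592) (l := 0) rfl N24592 D58530
theorem N25761 : nd 25761 = n58531 := ndS (p := 24594) (l := 4) rfl N24594 D58531
theorem N25762 : nd 25762 = n58532 := ndS (p := 24595) (l := 4) rfl N24595 D58532
theorem N25763 : nd 25763 = n58533 := ndS (p := 24597) (l := 4) rfl N24597 D58533
theorem N25764 : nd 25764 = n58534 := ndS (p := 24599) (l := 3) rfl N24599 D58534
theorem N25765 : nd 25765 = n58535 := ndS (p := 24600) (l := 8) rfl N24600 D58535
theorem N25766 : nd 25766 = n58536 := ndS (p := 24601) (l := 3) rfl N24601 D58536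
theorem N25767 : nd 25767 = n58537 := ndS (p := 24602) (l := 2) rfl N24602 D58537
theorem N25768 : nd 25768 = n58538 := ndS (p := 24602) (l := 4) rfl N24602 D58538
theorem N25769 : nd 25769 = n58539 := ndS (p := 24603) (l := 1) rfl N24603 D58539
theorem N25770 : nd 25770 = n58540 := ndS (p := 24604) (l := 3) rfl N24604 D58540
theorem N25771 : nd 25771 = n58541 := ndS (p := 24605) (l := 4) rfl N24605 D58541
theorem N25772 : nd 25772 = n58542 := ndS (p := 24606) (l := 2) rfl N24606 D58542
theorem N25773 : nd 25773 = n58543 := ndS (p := 24606) (l := 4) rfl N24606 D58543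
theorem N25774 : nd 25774 = n58544 := ndS (p := 24607) (l := 5) rfl N24607 D58544
theorem N25775 : nd 25775 = n58545 := ndS (p := 24608) (l := 1) rfl N24608 D58545
theorem N25776 : nd 25776 = n58546 := ndS (p := 24608) (l := 4) rfl N24608 D58546
theorem N25777 : nd 25777 = n58547 := ndS (p := 24609) (l := 5) rfl N24609 D58547
theorem N25778 : nd 25778 = n58548 := ndS (p := 24610) (l := 6) rfl N24610 D58548
theorem N25779 : nd 25779 = n58549 := ndS (p := 24611) (l := 3) rfl N24611 D58549
theorem N25780 : nd 25780 = n58550 := ndS (p := 24612) (l := 2) rfl N24612 D58550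
theorem N25781 : nd 25781 = n58551 := ndS (p := 24612) (l := 4) rfl N24612 D58551
theorem N25782 : nd 25782 = n58552 := ndS (p := 24613) (l := 1) rfl N24613 D58552
theorem N25783 : nd 25783 = n58553 := ndS (p := 24613) (l := 4) rfl N24613 D58553
theorem N25784 : nd 25784 = n58554 := ndS (p := 24615) (l := 0) rfl N24615 D58554
theorem N25785 : nd 25785 = n58555 := ndS (p := 24616) (l := 3) rfl N24616 D58555
theorem N25786 : nd 25786 = n58556 := ndS (p := 24617) (l := 2) rfl N24617 D58556
theorem N25787 : nd 25787 = n58557 := ndS (p := 24617) (l := 4) rfl N24617 D58557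
theorem N25788 : nd 25788 = n58558 := ndS (p := 24619) (l := 3) rfl N24619 D58558
theorem N25789 : nd 25789 = n58559 := ndS (p := 24620) (l := 2) rfl N24620 D58559
theorem N25790 : nd 25790 = n58560 := ndS (p := 24620) (l := 4) rfl N24620 D58560
theorem N25791 : nd 25791 = n58561 := ndS (p := 24621) (l := 2) rfl N24621 D58561
theorem N25792 : nd 25792 = n58562 := ndS (p := 24622) (l := 1) rfl N24622 D58562
theorem N25793 : nd 25793 = n58563 := ndS (p := 24622) (l := 4) rfl N24622 D58563
theorem N25794 : nd 25794 = n58564 := ndS (p := 24623) (l := 5) rfl N24623 D58564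
theorem N25795 : nd 25795 = n58565 := ndS (p := 24625) (l := 2) rfl N24625 D58565
theorem N25796 : nd 25796 = n58566 := ndS (p := 24625) (l := 4) rfl N24625 D58566
theorem N25797 : nd 25797 = n58567 := ndS (p := 24626) (l := 1) rfl N24626 D58567
theorem N25798 : nd 25798 = n58568 := ndS (p := 24626) (l := 4) rfl N24626 D58568
theorem N25799 : nd 25799 = n58569 := ndS (p := 24627) (l := 5) rfl N24627 D58569
theorem N25800 : nd 25800 = n58570 := ndS (p := 24628) (l := 3) rfl N24628 D58570
theorem N25801 : nd 25801 = n58571 := ndS (p := 24629) (l := 2) rfl N24629 D58571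
theorem N25802 : nd 25802 = n58572 := ndS (p := 24630) (l := 1) rfl N24630 D58572
theorem N25803 : nd 25803 = n58573 := ndS (p := 24631) (l := 0) rfl N24631 D58573
theorem N25804 : nd 25804 = n58574 := ndS (p := 24631) (l := 4) rfl N24631 D58574
theorem N25805 : nd 25805 = n58575 := ndS (p := 24632) (l := 5) rfl N24632 D58575
theorem N25806 : nd 25806 = n58576 := ndS (p := 24633) (l := 6) rfl N24633 D58576
theorem N25807 : nd 25807 = n58577 := ndS (p := 24635) (l := 2) rfl N24635 D58577
theorem N25808 : nd 25808 = n58578 := ndS (p := 24635) (l := 4) rfl N24635 D58578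
theorem N25809 : nd 25809 = n58579 := ndS (p := 24636) (l := 1) rfl N24636 D58579
theorem N25810 : nd 25810 = n58580 := ndS (p := 24636) (l := 4) rfl N24636 D58580
theorem N25811 : nd 25811 = n58581 := ndS (p := 24638) (l := 0) rfl N24638 D58581
theorem N25812 : nd 25812 = n58582 := ndS (p := 24638) (l := 4) rfl N24638 D58582
theorem N25813 : nd 25813 = n58583 := ndS (p := 24639) (l := 3) rfl N24639 D58583
theorem N25814 : nd 25814 = n58584 := ndS (p := 24643) (l := 4) rfl N24643 D58584
theorem N25815 : nd 25815 = n58585 := ndS (p := 24644) (l := 5) rfl N24644 D58585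
theorem N25816 : nd 25816 = n58586 := ndS (p := 24645) (l := 4) rfl N24645 D58586
theorem N25817 : nd 25817 = n58587 := ndS (p := 24646) (l := 3) rfl N24646 D58587
theorem N25818 : nd 25818 = n58588 := ndS (p := 24648) (l := 3) rfl N24648 D58588
theorem N25819 : nd 25819 = n58589 := ndS (p := 24649) (l := 8) rfl N24649 D58589
theorem N25820 : nd 25820 = n58590 := ndS (p := 24656) (l := 9) rfl N24656 D58590
theorem N25821 : nd 25821 = n58591 := ndS (p := 24657) (l := 4) rfl N24657 D58591
theorem N25822 : nd 25822 = n58592 := ndS (p := 24660) (l := 6) rfl N24660 D58592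
theorem N25823 : nd 25823 = n58593 := ndS (p := 24662) (l := 3) rfl N24662 D58593
theorem N25824 : nd 25824 = n58594 := ndS (p := 24663) (l := 2) rfl N24663 D58594
theorem N25825 : nd 25825 = n58595 := ndS (p := 24664) (l := 3) rfl N24664 D58595
theorem N25826 : nd 25826 = n58596 := ndS (p := 24665) (l := 3) rfl N24665 D58596
theorem N25827 : nd 25827 = n58597 := ndS (p := 24666) (l := 4) rfl N24666 D58597
theorem N25828 : nd 25828 = n58598 := ndS (p := 24667) (l := 3) rfl N24667 D58598
theorem N25829 : nd 25829 = n58599 := ndS (p := 24668) (l := 2) rfl N24668 D58599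
theorem N25830 : nd 25830 = n58600 := ndS (p := 24669) (l := 4) rfl N24669 D58600
theorem N25831 : nd 25831 = n58601 := ndS (p := 24670) (l := 3) rfl N24670 D58601
theorem N25832 : nd 25832 = n58602 := ndS (p := 24671) (l := 2) rfl N24671 D58602
theorem N25833 : nd 25833 = n58603 := ndS (p := 24672) (l := 2) rfl N24672 D58603
theorem N25834 : nd 25834 = n58604 := ndS (p := 24672) (l := 4) rfl N24672 D58604
theorem N25835 : nd 25835 = n58605 := ndS (p := 24674) (l := 2) rfl N24674 D58605
theorem N25836 : nd 25836 = n58606 := ndS (p := 24674) (l := 4) rfl N24674 D58606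
theorem N25837 : nd 25837 = n58607 := ndS (p := 24675) (l := 1) rfl N24675 D58607
theorem N25838 : nd 25838 = n58608 := ndS (p := 24677) (l := 8) rfl N24677 D58608
theorem N25839 : nd 25839 = n58609 := ndS (p := 24678) (l := 8) rfl N24678 D58609
theorem N25840 : nd 25840 = n58610 := ndS (p := 24679) (l := 3) rfl N24679 D58610
theorem N25841 : nd 25841 = n58611 := ndS (p := 24680) (l := 4) rfl N24680 D58611
theorem N25842 : nd 25842 = n58612 := ndS (p := 24681) (l := 3) rfl N24681 D58612
theorem N25843 : nd 25843 = n58613 := ndS (p := 24682) (l := 2) rfl N24682 D58613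
theorem N25844 : nd 25844 = n58614 := ndS (p := 24683) (l := 2) rfl N24683 D58614
theorem N25845 : nd 25845 = n58615 := ndS (p := 24684) (l := 3) rfl N24684 D58615
theorem N25846 : nd 25846 = n58616 := ndS (p := 24685) (l := 4) rfl N24685 D58616
theorem N25847 : nd 25847 = n58617 := ndS (p := 24686) (l := 3) rfl N24686 D58617
theorem N25848 : nd 25848 = n58618 := ndS (p := 24687) (l := 2) rfl N24687 D58618
theorem N25849 : nd 25849 = n58619 := ndS (p := 24687) (l := 4) rfl N24687 D58619
theorem N25850 : nd 25850 = n58620 := ndS (p := 24688) (l := 5) rfl N24688 D58620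
theorem N25851 : nd 25851 = n58621 := ndS (p := 24689) (l := 3) rfl N24689 D58621
theorem N25852 : nd 25852 = n58622 := ndS (p := 24690) (l := 2) rfl N24690 D58622
theorem N25853 : nd 25853 = n58623 := ndS (p := 24690) (l := 4) rfl N24690 D58623
theorem N25854 : nd 25854 = n58624 := ndS (p := 24691) (l := 1) rfl N24691 D58624
theorem N25855 : nd 25855 = n58625 := ndS (p := 24693) (l := 4) rfl N24693 D58625
theorem N25856 : nd 25856 = n58626 := ndS (p := 24694) (l := 4) rfl N24694 D58626
theorem N25857 : nd 25857 = n58627 := ndS (p := 24696) (l := 2) rfl N24696 D58627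
theorem N25858 : nd 25858 = n58628 := ndS (p := 24697) (l := 1) rfl N24697 D58628
theorem N25859 : nd 25859 = n58629 := ndS (p := 24698) (l := 2) rfl N24698 D58629
theorem N25860 : nd 25860 = n58630 := ndS (p := 24698) (l := 4) rfl N24698 D58630
theorem N25861 : nd 25861 = n58631 := ndS (p := 24700) (l := 2) rfl N24700 D58631
theorem N25862 : nd 25862 = n58632 := ndS (p := 24700) (l := 4) rfl N24700 D58632
theorem N25863 : nd 25863 = n58633 := ndS (p := 24701) (l := 1) rfl N24701 D58633
theorem N25864 : nd 25864 = n58634 := ndS (p := 24701) (l := 4) rfl N24701 D58634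
theorem N25865 : nd 25865 = n58635 := ndS (p := 24702) (l := 5) rfl N24702 D58635
theorem N25866 : nd 25866 = n58636 := ndS (p := 24704) (l := 2) rfl N24704 D58636
theorem N25867 : nd 25867 = n58637 := ndS (p := 24704) (l := 4) rfl N24704 D58637
theorem N25868 : nd 25868 = n58638 := ndS (p := 24705) (l := 1) rfl N24705 D58638
theorem N25869 : nd 25869 = n58639 := ndS (p := 24705) (l := 4) rfl N24705 D58639
theorem N25870 : nd 25870 = n58640 := ndS (p := 24707) (l := 0) rfl N24707 D58640
theorem N25871 : nd 25871 = n58641 := ndS (p := 24709) (l := 3) rfl N24709 D58641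
theorem N25872 : nd 25872 = n58642 := ndS (p := 24711) (l := 2) rfl N24711 D58642
theorem N25873 : nd 25873 = n58643 := ndS (p := 24712) (l := 2) rfl N24712 D58643
theorem N25874 : nd 25874 = n58644 := ndS (p := 24713) (l := 8) rfl N24713 D58644
theorem N25875 : nd 25875 = n58645 := ndS (p := 24714) (l := 3) rfl N24714 D58645
theorem N25876 : nd 25876 = n58646 := ndS (p := 24715) (l := 3) rfl N24715 D58646
theorem N25877 : nd 25877 = n58647 := ndS (p := 24716) (l := 2) rfl N24716 D58647
theorem N25878 : nd 25878 = n58648 := ndS (p := 24716) (l := 4) rfl N24716 D58648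
theorem N25879 : nd 25879 = n58649 := ndS (p := 24718) (l := 1) rfl N24718 D58649
theorem N25880 : nd 25880 = n58650 := ndS (p := 24719) (l := 3) rfl N24719 D58650
theorem N25881 : nd 25881 = n58651 := ndS (p := 24720) (l := 8) rfl N24720 D58651
theorem N25882 : nd 25882 = n58652 := ndS (p := 24721) (l := 8) rfl N24721 D58652
theorem N25883 : nd 25883 = n58653 := ndS (p := 24722) (l := 3) rfl N24722 D58653
theorem N25884 : nd 25884 = n58654 := ndS (p := 24723) (l := 4) rfl N24723 D58654
theorem N25885 : nd 25885 = n58655 := ndS (p := 24724) (l := 3) rfl N24724 D58655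
theorem N25886 : nd 25886 = n58656 := ndS (p := 24725) (l := 2) rfl N24725 D58656
theorem N25887 : nd 25887 = n58657 := ndS (p := 24726) (l := 3) rfl N24726 D58657
theorem N25888 : nd 25888 = n58658 := ndS (p := 24727) (l := 2) rfl N24727 D58658
theorem N25889 : nd 25889 = n58659 := ndS (p := 24728) (l := 3) rfl N24728 D58659
theorem N25890 : nd 25890 = n58660 := ndS (p := 24729) (l := 4) rfl N24729 D58660
theorem N25891 : nd 25891 = n58661 := ndS (p := 24730) (l := 3) rfl N24730 D58661
theorem N25892 : nd 25892 = n58662 := ndS (p := 24731) (l := 3) rfl N24731 D58662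
theorem N25893 : nd 25893 = n58663 := ndS (p := 24732) (l := 2) rfl N24732 D58663
theorem N25894 : nd 25894 = n58664 := ndS (p := 24732) (l := 4) rfl N24732 D58664
theorem N25895 : nd 25895 = n58665 := ndS (p := 24733) (l := 5) rfl N24733 D58665
theorem N25896 : nd 25896 = n58666 := ndS (p := 24734) (l := 2) rfl N24734 D58666
theorem N25897 : nd 25897 = n58667 := ndS (p := 24734) (l := 4) rfl N24734 D58667
theorem N25898 : nd 25898 = n58668 := ndS (p := 24735) (l := 1) rfl N24735 D58668
theorem N25899 : nd 25899 = n58669 := ndS (p := 24737) (l := 4) rfl N24737 D58669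
theorem N25900 : nd 25900 = n58670 := ndS (p := 24739) (l := 2) rfl N24739 D58670
theorem N25901 : nd 25901 = n58671 := ndS (p := 24740) (l := 2) rfl N24740 D58671
theorem N25902 : nd 25902 = n58672 := ndS (p := 24741) (l := 3) rfl N24741 D58672
theorem N25903 : nd 25903 = n58673 := ndS (p := 24742) (l := 2) rfl N24742 D58673
theorem N25904 : nd 25904 = n58674 := ndS (p := 24743) (l := 1) rfl N24743 D58674
theorem N25905 : nd 25905 = n58675 := ndS (p := 24744) (l := 2) rfl N24744 D58675
theorem N25906 : nd 25906 = n58676 := ndS (p := 24744) (l := 4) rfl N24744 D58676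
theorem N25907 : nd 25907 = n58677 := ndS (p := 24745) (l := 4) rfl N24745 D58677
theorem N25908 : nd 25908 = n58678 := ndS (p := 24746) (l := 5) rfl N24746 D58678
theorem N25909 : nd 25909 = n58679 := ndS (p := 24747) (l := 2) rfl N24747 D58679
theorem N25910 : nd 25910 = n58680 := ndS (p := 24747) (l := 4) rfl N24747 D58680
theorem N25911 : nd 25911 = n58681 := ndS (p := 24748) (l := 1) rfl N24748 D58681
theorem N25912 : nd 25912 = n58682 := ndS (p := 24748) (l := 4) rfl N24748 D58682
theorem N25913 : nd 25913 = n58683 := ndS (p := 24749) (l := 5) rfl N24749 D58683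
theorem N25914 : nd 25914 = n58684 := ndS (p := 24751) (l := 1) rfl N24751 D58684
theorem N25915 : nd 25915 = n58685 := ndS (p := 24751) (l := 4) rfl N24751 D58685
theorem N25916 : nd 25916 = n58686 := ndS (p := 24753) (l := 0) rfl N24753 D58686
theorem N25917 : nd 25917 = n58687 := ndS (p := 24755) (l := 4) rfl N24755 D58687
theorem N25918 : nd 25918 = n58688 := ndS (p := 24756) (l := 5) rfl N24756 D58688
theorem N25919 : nd 25919 = n58689 := ndS (p := 24758) (l := 3) rfl N24758 D58689
theorem N25920 : nd 25920 = n58690 := ndS (p := 24759) (l := 8) rfl N24759 D58690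
theorem N25921 : nd 25921 = n58691 := ndS (p := 24762) (l := 8) rfl N24762 D58691
theorem N25922 : nd 25922 = n58692 := ndS (p := 24763) (l := 8) rfl N24763 D58692
theorem N25923 : nd 25923 = n58693 := ndS (p := 24764) (l := 3) rfl N24764 D58693
theorem N25924 : nd 25924 = n58694 := ndS (p := 24766) (l := 3) rfl N24766 D58694
theorem N25925 : nd 25925 = n58695 := ndS (p := 24767) (l := 2) rfl N24767 D58695
theorem N25926 : nd 25926 = n58696 := ndS (p := 24768) (l := 3) rfl N24768 D58696
theorem N25927 : nd 25927 = n58697 := ndS (p := 24769) (l := 2) rfl N24769 D58697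
theorem N25928 : nd 25928 = n58698 := ndS (p := 24769) (l := 4) rfl N24769 D58698
theorem N25929 : nd 25929 = n58699 := ndS (p := 24770) (l := 8) rfl N24770 D58699
theorem N25930 : nd 25930 = n58700 := ndS (p := 24771) (l := 3) rfl N24771 D58700
theorem N25931 : nd 25931 = n58701 := ndS (p := 24772) (l := 3) rfl N24772 D58701
theorem N25932 : nd 25932 = n58702 := ndS (p := 24773) (l := 2) rfl N24773 D58702
theorem N25933 : nd 25933 = n58703 := ndS (p := 24773) (l := 4) rfl N24773 D58703
theorem N25934 : nd 25934 = n58704 := ndS (p := 24774) (l := 5) rfl N24774 D58704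
theorem N25935 : nd 25935 = n58705 := ndS (p := 24775) (l := 2) rfl N24775 D58705
theorem N25936 : nd 25936 = n58706 := ndS (p := 24775) (l := 4) rfl N24775 D58706
theorem N25937 : nd 25937 = n58707 := ndS (p := 24776) (l := 1) rfl N24776 D58707
theorem N25938 : nd 25938 = n58708 := ndS (p := 24777) (l := 2) rfl N24777 D58708
theorem N25939 : nd 25939 = n58709 := ndS (p := 24778) (l := 8) rfl N24778 D58709
theorem N25940 : nd 25940 = n58710 := ndS (p := 24779) (l := 3) rfl N24779 D58710
theorem N25941 : nd 25941 = n58711 := ndS (p := 24780) (l := 2) rfl N24780 D58711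
theorem N25942 : nd 25942 = n58712 := ndS (p := 24780) (l := 4) rfl N24780 D58712
theorem N25943 : nd 25943 = n58713 := ndS (p := 24782) (l := 2) rfl N24782 D58713
theorem N25944 : nd 25944 = n58714 := ndS (p := 24782) (l := 4) rfl N24782 D58714
theorem N25945 : nd 25945 = n58715 := ndS (p := 24783) (l := 1) rfl N24783 D58715
theorem N25946 : nd 25946 = n58716 := ndS (p := 24784) (l := 3) rfl N24784 D58716
theorem N25947 : nd 25947 = n58717 := ndS (p := 24785) (l := 2) rfl N24785 D58717
theorem N25948 : nd 25948 = n58718 := ndS (p := 24785) (l := 4) rfl N24785 D58718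
theorem N25949 : nd 25949 = n58719 := ndS (p := 24786) (l := 5) rfl N24786 D58719
theorem N25950 : nd 25950 = n58720 := ndS (p := 24787) (l := 3) rfl N24787 D58720
theorem N25951 : nd 25951 = n58721 := ndS (p := 24788) (l := 2) rfl N24788 D58721
theorem N25952 : nd 25952 = n58722 := ndS (p := 24788) (l := 4) rfl N24788 D58722
theorem N25953 : nd 25953 = n58723 := ndS (p := 24789) (l := 2) rfl N24789 D58723
theorem N25954 : nd 25954 = n58724 := ndS (p := 24789) (l := 4) rfl N24789 D58724
theorem N25955 : nd 25955 = n58725 := ndS (p := 24790) (l := 1) rfl N24790 D58725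
theorem N25956 : nd 25956 = n58726 := ndS (p := 24790) (l := 4) rfl N24790 D58726
theorem N25957 : nd 25957 = n58727 := ndS (p := 24791) (l := 5) rfl N24791 D58727
theorem N25958 : nd 25958 = n58728 := ndS (p := 24793) (l := 2) rfl N24793 D58728
theorem N25959 : nd 25959 = n58729 := ndS (p := 24793) (l := 4) rfl N24793 D58729
theorem N25960 : nd 25960 = n58730 := ndS (p := 24794) (l := 1) rfl N24794 D58730
theorem N25961 : nd 25961 = n58731 := ndS (p := 24794) (l := 4) rfl N24794 D58731
theorem N25962 : nd 25962 = n58732 := ndS (p := 24796) (l := 0) rfl N24796 D58732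
theorem N25963 : nd 25963 = n58733 := ndS (p := 24801) (l := 3) rfl N24801 D58733
theorem N25964 : nd 25964 = n58734 := ndS (p := 24802) (l := 2) rfl N24802 D58734
theorem N25965 : nd 25965 = n58735 := ndS (p := 24802) (l := 4) rfl N24802 D58735
theorem N25966 : nd 25966 = n58736 := ndS (p := 24803) (l := 1) rfl N24803 D58736
theorem N25967 : nd 25967 = n58737 := ndS (p := 24804) (l := 8) rfl N24804 D58737
theorem N25968 : nd 25968 = n58738 := ndS (p := 24805) (l := 3) rfl N24805 D58738
theorem N25969 : nd 25969 = n58739 := ndS (p := 24806) (l := 3) rfl N24806 D58739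
theorem N25970 : nd 25970 = n58740 := ndS (p := 24807) (l := 2) rfl N24807 D58740
theorem N25971 : nd 25971 = n58741 := ndS (p := 24807) (l := 4) rfl N24807 D58741
theorem N25972 : nd 25972 = n58742 := ndS (p := 24808) (l := 2) rfl N24808 D58742
theorem N25973 : nd 25973 = n58743 := ndS (p := 24808) (l := 4) rfl N24808 D58743
theorem N25974 : nd 25974 = n58744 := ndS (p := 24809) (l := 1) rfl N24809 D58744
theorem N25975 : nd 25975 = n58745 := ndS (p := 24809) (l := 4) rfl N24809 D58745
theorem N25976 : nd 25976 = n58746 := ndS (p := 24811) (l := 1) rfl N24811 D58746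
theorem N25977 : nd 25977 = n58747 := ndS (p := 24811) (l := 4) rfl N24811 D58747
theorem N25978 : nd 25978 = n58748 := ndS (p := 24813) (l := 0) rfl N24813 D58748
theorem N25979 : nd 25979 = n58749 := ndS (p := 24814) (l := 3) rfl N24814 D58749
theorem N25980 : nd 25980 = n58750 := ndS (p := 24815) (l := 2) rfl N24815 D58750
theorem N25981 : nd 25981 = n58751 := ndS (p := 24816) (l := 3) rfl N24816 D58751
theorem N25982 : nd 25982 = n58752 := ndS (p := 24817) (l := 3) rfl N24817 D58752
theorem N25983 : nd 25983 = n58753 := ndS (p := 24818) (l := 2) rfl N24818 D58753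
theorem N25984 : nd 25984 = n58754 := ndS (p := 24818) (l := 4) rfl N24818 D58754
theorem N25985 : nd 25985 = n58755 := ndS (p := 24819) (l := 2) rfl N24819 D58755
theorem N25986 : nd 25986 = n58756 := ndS (p := 24819) (l := 4) rfl N24819 D58756
theorem N25987 : nd 25987 = n58757 := ndS (p := 24820) (l := 1) rfl N24820 D58757
theorem N25988 : nd 25988 = n58758 := ndS (p := 24820) (l := 4) rfl N24820 D58758
theorem N25989 : nd 25989 = n58759 := ndS (p := 24821) (l := 5) rfl N24821 D58759
theorem N25990 : nd 25990 = n58760 := ndS (p := 24823) (l := 3) rfl N24823 D58760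
theorem N25991 : nd 25991 = n58761 := ndS (p := 24824) (l := 2) rfl N24824 D58761
theorem N25992 : nd 25992 = n58762 := ndS (p := 24824) (l := 4) rfl N24824 D58762
theorem N25993 : nd 25993 = n58763 := ndS (p := 24825) (l := 2) rfl N24825 D58763
theorem N25994 : nd 25994 = n58764 := ndS (p := 24825) (l := 4) rfl N24825 D58764
theorem N25995 : nd 25995 = n58765 := ndS (p := 24826) (l := 1) rfl N24826 D58765
theorem N25996 : nd 25996 = n58766 := ndS (p := 24826) (l := 4) rfl N24826 D58766
theorem N25997 : nd 25997 = n58767 := ndS (p := 24827) (l := 5) rfl N24827 D58767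
theorem N25998 : nd 25998 = n58768 := ndS (p := 24828) (l := 2) rfl N24828 D58768
theorem N25999 : nd 25999 = n58769 := ndS (p := 24828) (l := 4) rfl N24828 D58769
theorem N26000 : nd 26000 = n58770 := ndS (p := 24829) (l := 1) rfl N24829 D58770
theorem N26001 : nd 26001 = n58771 := ndS (p := 24829) (l := 4) rfl N24829 D58771
theorem N26002 : nd 26002 = n58772 := ndS (p := 24830) (l := 5) rfl N24830 D58772
theorem N26003 : nd 26003 = n58773 := ndS (p := 24831) (l := 0) rfl N24831 D58773
theorem N26004 : nd 26004 = n58774 := ndS (p := 24831) (l := 4) rfl N24831 D58774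
theorem N26005 : nd 26005 = n58775 := ndS (p := 24832) (l := 5) rfl N24832 D58775
theorem N26006 : nd 26006 = n58776 := ndS (p := 24833) (l := 6) rfl N24833 D58776
theorem N26007 : nd 26007 = n58777 := ndS (p := 24835) (l := 2) rfl N24835 D58777
theorem N26008 : nd 26008 = n58778 := ndS (p := 24836) (l := 1) rfl N24836 D58778
theorem N26009 : nd 26009 = n58779 := ndS (p := 24836) (l := 4) rfl N24836 D58779
theorem N26010 : nd 26010 = n58780 := ndS (p := 24838) (l := 0) rfl N24838 D58780
theorem N26011 : nd 26011 = n58781 := ndS (p := 24838) (l := 4) rfl N24838 D58781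
theorem N26012 : nd 26012 = n58782 := ndS (p := 24839) (l := 3) rfl N24839 D58782
theorem N26013 : nd 26013 = n58783 := ndS (p := 24842) (l := 5) rfl N24842 D58783
theorem N26014 : nd 26014 = n58784 := ndS (p := 24845) (l := 3) rfl N24845 D58784
theorem N26015 : nd 26015 = n58785 := ndS (p := 24847) (l := 8) rfl N24847 D58785
theorem N26016 : nd 26016 = n58786 := ndS (p := 24848) (l := 8) rfl N24848 D58786
theorem N26017 : nd 26017 = n58787 := ndS (p := 24849) (l := 2) rfl N24849 D58787
theorem N26018 : nd 26018 = n58788 := ndS (p := 24849) (l := 8) rfl N24849 D58788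
theorem N26019 : nd 26019 = n58789 := ndS (p := 24850) (l := 9) rfl N24850 D58789
theorem N26020 : nd 26020 = n58790 := ndS (p := 24851) (l := 4) rfl N24851 D58790
theorem N26021 : nd 26021 = n58791 := ndS (p := 24854) (l := 4) rfl N24854 D58791
theorem N26022 : nd 26022 = n58792 := ndS (p := 24856) (l := 4) rfl N24856 D58792
theorem N26023 : nd 26023 = n58793 := ndS (p := 24857) (l := 5) rfl N24857 D58793
theorem N26024 : nd 26024 = n58794 := ndS (p := 24858) (l := 3) rfl N24858 D58794
theorem N26025 : nd 26025 = n58795 := ndS (p := 24858) (l := 5) rfl N24858 D58795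
theorem N26026 : nd 26026 = n58796 := ndS (p := 24861) (l := 2) rfl N24861 D58796
theorem N26027 : nd 26027 = n58797 := ndS (p := 24862) (l := 2) rfl N24862 D58797
theorem N26028 : nd 26028 = n58798 := ndS (p := 24862) (l := 4) rfl N24862 D58798
theorem N26029 : nd 26029 = n58799 := ndS (p := 24864) (l := 1) rfl N24864 D58799
theorem N26030 : nd 26030 = n58800 := ndS (p := 24865) (l := 2) rfl N24865 D58800
theorem N26031 : nd 26031 = n58801 := ndS (p := 24866) (l := 1) rfl N24866 D58801
theorem N26032 : nd 26032 = n58802 := ndS (p := 24867) (l := 1) rfl N24867 D58802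
theorem N26033 : nd 26033 = n58803 := ndS (p := 24867) (l := 4) rfl N24867 D58803
theorem N26034 : nd 26034 = n58804 := ndS (p := 24869) (l := 0) rfl N24869 D58804
theorem N26035 : nd 26035 = n58805 := ndS (p := 24870) (l := 3) rfl N24870 D58805
theorem N26036 : nd 26036 = n58806 := ndS (p := 24871) (l := 2) rfl N24871 D58806
theorem N26037 : nd 26037 = n58807 := ndS (p := 24872) (l := 2) rfl N24872 D58807
theorem N26038 : nd 26038 = n58808 := ndS (p := 24872) (l := 4) rfl N24872 D58808
theorem N26039 : nd 26039 = n58809 := ndS (p := 24873) (l := 5) rfl N24873 D58809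
theorem N26040 : nd 26040 = n58810 := ndS (p := 24874) (l := 2) rfl N24874 D58810
theorem N26041 : nd 26041 = n58811 := ndS (p := 24874) (l := 4) rfl N24874 D58811
theorem N26042 : nd 26042 = n58812 := ndS (p := 24875) (l := 1) rfl N24875 D58812
theorem N26043 : nd 26043 = n58813 := ndS (p := 24876) (l := 3) rfl N24876 D58813
theorem N26044 : nd 26044 = n58814 := ndS (p := 24877) (l := 2) rfl N24877 D58814
theorem N26045 : nd 26045 = n58815 := ndS (p := 24878) (l := 2) rfl N24878 D58815
theorem N26046 : nd 26046 = n58816 := ndS (p := 24878) (l := 4) rfl N24878 D58816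
theorem N26047 : nd 26047 = n58817 := ndS (p := 24879) (l := 1) rfl N24879 D58817
theorem N26048 : nd 26048 = n58818 := ndS (p := 24880) (l := 1) rfl N24880 D58818
theorem N26049 : nd 26049 = n58819 := ndS (p := 24880) (l := 4) rfl N24880 D58819
theorem N26050 : nd 26050 = n58820 := ndS (p := 24882) (l := 0) rfl N24882 D58820
theorem N26051 : nd 26051 = n58821 := ndS (p := 24884) (l := 2) rfl N24884 D58821
theorem N26052 : nd 26052 = n58822 := ndS (p := 24885) (l := 2) rfl N24885 D58822
theorem N26053 : nd 26053 = n58823 := ndS (p := 24885) (l := 4) rfl N24885 D58823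
theorem N26054 : nd 26054 = n58824 := ndS (p := 24886) (l := 1) rfl N24886 D58824
theorem N26055 : nd 26055 = n58825 := ndS (p := 24887) (l := 1) rfl N24887 D58825
theorem N26056 : nd 26056 = n58826 := ndS (p := 24888) (l := 1) rfl N24888 D58826
theorem N26057 : nd 26057 = n58827 := ndS (p := 24888) (l := 4) rfl N24888 D58827
theorem N26058 : nd 26058 = n58828 := ndS (p := 24890) (l := 0) rfl N24890 D58828
theorem N26059 : nd 26059 = n58829 := ndS (p := 24891) (l := 1) rfl N24891 D58829
theorem N26060 : nd 26060 = n58830 := ndS (p := 24892) (l := 1) rfl N24892 D58830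
theorem N26061 : nd 26061 = n58831 := ndS (p := 24893) (l := 1) rfl N24893 D58831
theorem N26062 : nd 26062 = n58832 := ndS (p := 24894) (l := 0) rfl N24894 D58832
theorem N26063 : nd 26063 = n58833 := ndS (p := 24895) (l := 2) rfl N24895 D58833
theorem N26064 : nd 26064 = n58834 := ndS (p := 24895) (l := 4) rfl N24895 D58834
theorem N26065 : nd 26065 = n58835 := ndS (p := 24896) (l := 1) rfl N24896 D58835
theorem N26066 : nd 26066 = n58836 := ndS (p := 24896) (l := 4) rfl N24896 D58836
theorem N26067 : nd 26067 = n58837 := ndS (p := 24898) (l := 0) rfl N24898 D58837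
theorem N26068 : nd 26068 = n58838 := ndS (p := 24898) (l := 4) rfl N24898 D58838
theorem N26069 : nd 26069 = n58839 := ndS (p := 24899) (l := 3) rfl N24899 D58839
theorem N26070 : nd 26070 = n58840 := ndS (p := 24902) (l := 8) rfl N24902 D58840
theorem N26071 : nd 26071 = n58841 := ndS (p := 24904) (l := 9) rfl N24904 D58841
theorem N26072 : nd 26072 = n58842 := ndS (p := 24905) (l := 2) rfl N24905 D58842
theorem N26073 : nd 26073 = n58843 := ndS (p := 24906) (l := 1) rfl N24906 D58843
theorem N26074 : nd 26074 = n58844 := ndS (p := 24907) (l := 2) rfl N24907 D58844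
theorem N26075 : nd 26075 = n58845 := ndS (p := 24908) (l := 2) rfl N24908 D58845
theorem N26076 : nd 26076 = n58846 := ndS (p := 24908) (l := 4) rfl N24908 D58846
theorem N26077 : nd 26077 = n58847 := ndS (p := 24910) (l := 1) rfl N24910 D58847
theorem N26078 : nd 26078 = n58848 := ndS (p := 24911) (l := 2) rfl N24911 D58848
theorem N26079 : nd 26079 = n58849 := ndS (p := 24911) (l := 4) rfl N24911 D58849
theorem N26080 : nd 26080 = n58850 := ndS (p := 24912) (l := 1) rfl N24912 D58850
theorem N26081 : nd 26081 = n58851 := ndS (p := 24912) (l := 4) rfl N24912 D58851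
theorem N26082 : nd 26082 = n58852 := ndS (p := 24914) (l := 0) rfl N24914 D58852
theorem N26083 : nd 26083 = n58853 := ndS (p := 24915) (l := 3) rfl N24915 D58853
theorem N26084 : nd 26084 = n58854 := ndS (p := 24916) (l := 2) rfl N24916 D58854
theorem N26085 : nd 26085 = n58855 := ndS (p := 24917) (l := 3) rfl N24917 D58855
theorem N26086 : nd 26086 = n58856 := ndS (p := 24918) (l := 2) rfl N24918 D58856
theorem N26087 : nd 26087 = n58857 := ndS (p := 24918) (l := 4) rfl N24918 D58857
theorem N26088 : nd 26088 = n58858 := ndS (p := 24919) (l := 5) rfl N24919 D58858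
theorem N26089 : nd 26089 = n58859 := ndS (p := 24920) (l := 2) rfl N24920 D58859
theorem N26090 : nd 26090 = n58860 := ndS (p := 24920) (l := 4) rfl N24920 D58860
theorem N26091 : nd 26091 = n58861 := ndS (p := 24921) (l := 1) rfl N24921 D58861
theorem N26092 : nd 26092 = n58862 := ndS (p := 24922) (l := 3) rfl N24922 D58862
theorem N26093 : nd 26093 = n58863 := ndS (p := 24923) (l := 2) rfl N24923 D58863
theorem N26094 : nd 26094 = n58864 := ndS (p := 24924) (l := 3) rfl N24924 D58864
theorem N26095 : nd 26095 = n58865 := ndS (p := 24925) (l := 2) rfl N24925 D58865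
theorem N26096 : nd 26096 = n58866 := ndS (p := 24925) (l := 4) rfl N24925 D58866
theorem N26097 : nd 26097 = n58867 := ndS (p := 24926) (l := 1) rfl N24926 D58867
theorem N26098 : nd 26098 = n58868 := ndS (p := 24927) (l := 1) rfl N24927 D58868
theorem N26099 : nd 26099 = n58869 := ndS (p := 24927) (l := 4) rfl N24927 D58869
theorem N26100 : nd 26100 = n58870 := ndS (p := 24929) (l := 0) rfl N24929 D58870
theorem N26101 : nd 26101 = n58871 := ndS (p := 24930) (l := 2) rfl N24930 D58871
theorem N26102 : nd 26102 = n58872 := ndS (p := 24930) (l := 4) rfl N24930 D58872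
theorem N26103 : nd 26103 = n58873 := ndS (p := 24931) (l := 4) rfl N24931 D58873
theorem N26104 : nd 26104 = n58874 := ndS (p := 24933) (l := 3) rfl N24933 D58874
theorem N26105 : nd 26105 = n58875 := ndS (p := 24934) (l := 3) rfl N24934 D58875
theorem N26106 : nd 26106 = n58876 := ndS (p := 24935) (l := 2) rfl N24935 D58876
theorem N26107 : nd 26107 = n58877 := ndS (p := 24936) (l := 2) rfl N24936 D58877
theorem N26108 : nd 26108 = n58878 := ndS (p := 24936) (l := 4) rfl N24936 D58878
theorem N26109 : nd 26109 = n58879 := ndS (p := 24937) (l := 1) rfl N24937 D58879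
theorem N26110 : nd 26110 = n58880 := ndS (p := 24938) (l := 3) rfl N24938 D58880
theorem N26111 : nd 26111 = n58881 := ndS (p := 24939) (l := 2) rfl N24939 D58881
theorem N26112 : nd 26112 = n58882 := ndS (p := 24940) (l := 3) rfl N24940 D58882
theorem N26113 : nd 26113 = n58883 := ndS (p := 24941) (l := 2) rfl N24941 D58883
theorem N26114 : nd 26114 = n58884 := ndS (p := 24941) (l := 4) rfl N24941 D58884
theorem N26115 : nd 26115 = n58885 := ndS (p := 24942) (l := 1) rfl N24942 D58885
theorem N26116 : nd 26116 = n58886 := ndS (p := 24943) (l := 2) rfl N24943 D58886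
theorem N26117 : nd 26117 = n58887 := ndS (p := 24943) (l := 4) rfl N24943 D58887
theorem N26118 : nd 26118 = n58888 := ndS (p := 24944) (l := 1) rfl N24944 D58888
theorem N26119 : nd 26119 = n58889 := ndS (p := 24944) (l := 4) rfl N24944 D58889
theorem N26120 : nd 26120 = n58890 := ndS (p := 24946) (l := 0) rfl N24946 D58890
theorem N26121 : nd 26121 = n58891 := ndS (p := 24947) (l := 3) rfl N24947 D58891
theorem N26122 : nd 26122 = n58892 := ndS (p := 24948) (l := 2) rfl N24948 D58892
theorem N26123 : nd 26123 = n58893 := ndS (p := 24949) (l := 1) rfl N24949 D58893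
theorem N26124 : nd 26124 = n58894 := ndS (p := 24950) (l := 3) rfl N24950 D58894
theorem N26125 : nd 26125 = n58895 := ndS (p := 24951) (l := 2) rfl N24951 D58895
theorem N26126 : nd 26126 = n58896 := ndS (p := 24951) (l := 4) rfl N24951 D58896
theorem N26127 : nd 26127 = n58897 := ndS (p := 24952) (l := 2) rfl N24952 D58897
theorem N26128 : nd 26128 = n58898 := ndS (p := 24953) (l := 1) rfl N24953 D58898
theorem N26129 : nd 26129 = n58899 := ndS (p := 24954) (l := 1) rfl N24954 D58899
theorem N26130 : nd 26130 = n58900 := ndS (p := 24954) (l := 4) rfl N24954 D58900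
theorem N26131 : nd 26131 = n58901 := ndS (p := 24956) (l := 0) rfl N24956 D58901
theorem N26132 : nd 26132 = n58902 := ndS (p := 24957) (l := 0) rfl N24957 D58902
theorem N26133 : nd 26133 = n58903 := ndS (p := 24957) (l := 4) rfl N24957 D58903
theorem N26134 : nd 26134 = n58904 := ndS (p := 24958) (l := 3) rfl N24958 D58904
theorem N26135 : nd 26135 = n58905 := ndS (p := 24960) (l := 2) rfl N24960 D58905
theorem N26136 : nd 26136 = n58906 := ndS (p := 24960) (l := 4) rfl N24960 D58906
theorem N26137 : nd 26137 = n58907 := ndS (p := 24961) (l := 4) rfl N24961 D58907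
theorem N26138 : nd 26138 = n58908 := ndS (p := 24963) (l := 4) rfl N24963 D58908
theorem N26139 : nd 26139 = n58909 := ndS (p := 24964) (l := 5) rfl N24964 D58909
theorem N26140 : nd 26140 = n58910 := ndS (p := 24965) (l := 3) rfl N24965 D58910
theorem N26141 : nd 26141 = n58911 := ndS (p := 24966) (l := 3) rfl N24966 D58911
theorem N26142 : nd 26142 = n58912 := ndS (p := 24967) (l := 8) rfl N24967 D58912
theorem N26143 : nd 26143 = n58913 := ndS (p := 24968) (l := 5) rfl N24968 D58913
theorem N26144 : nd 26144 = n58914 := ndS (p := 24970) (l := 9) rfl N24970 D58914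
theorem N26145 : nd 26145 = n58915 := ndS (p := 24972) (l := 2) rfl N24972 D58915
theorem N26146 : nd 26146 = n58916 := ndS (p := 24973) (l := 3) rfl N24973 D58916
theorem N26147 : nd 26147 = n58917 := ndS (p := 24974) (l := 3) rfl N24974 D58917
theorem N26148 : nd 26148 = n58918 := ndS (p := 24975) (l := 2) rfl N24975 D58918
theorem N26149 : nd 26149 = n58919 := ndS (p := 24976) (l := 3) rfl N24976 D58919
theorem N26150 : nd 26150 = n58920 := ndS (p := 24977) (l := 2) rfl N24977 D58920
theorem N26151 : nd 26151 = n58921 := ndS (p := 24977) (l := 4) rfl N24977 D58921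
theorem N26152 : nd 26152 = n58922 := ndS (p := 24978) (l := 1) rfl N24978 D58922
theorem N26153 : nd 26153 = n58923 := ndS (p := 24979) (l := 3) rfl N24979 D58923
theorem N26154 : nd 26154 = n58924 := ndS (p := 24980) (l := 2) rfl N24980 D58924
theorem N26155 : nd 26155 = n58925 := ndS (p := 24980) (l := 4) rfl N24980 D58925
theorem N26156 : nd 26156 = n58926 := ndS (p := 24981) (l := 3) rfl N24981 D58926
theorem N26157 : nd 26157 = n58927 := ndS (p := 24982) (l := 3) rfl N24982 D58927
theorem N26158 : nd 26158 = n58928 := ndS (p := 24983) (l := 2) rfl N24983 D58928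
theorem N26159 : nd 26159 = n58929 := ndS (p := 24983) (l := 4) rfl N24983 D58929
theorem N26160 : nd 26160 = n58930 := ndS (p := 24984) (l := 4) rfl N24984 D58930
theorem N26161 : nd 26161 = n58931 := ndS (p := 24985) (l := 5) rfl N24985 D58931
theorem N26162 : nd 26162 = n58932 := ndS (p := 24986) (l := 3) rfl N24986 D58932
theorem N26163 : nd 26163 = n58933 := ndS (p := 24987) (l := 3) rfl N24987 D58933
theorem N26164 : nd 26164 = n58934 := ndS (p := 24988) (l := 2) rfl N24988 D58934
theorem N26165 : nd 26165 = n58935 := ndS (p := 24989) (l := 3) rfl N24989 D58935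
theorem N26166 : nd 26166 = n58936 := ndS (p := 24990) (l := 2) rfl N24990 D58936
theorem N26167 : nd 26167 = n58937 := ndS (p := 24990) (l := 4) rfl N24990 D58937
theorem N26168 : nd 26168 = n58938 := ndS (p := 24991) (l := 1) rfl N24991 D58938
theorem N26169 : nd 26169 = n58939 := ndS (p := 24991) (l := 4) rfl N24991 D58939
theorem N26170 : nd 26170 = n58940 := ndS (p := 24992) (l := 5) rfl N24992 D58940
theorem N26171 : nd 26171 = n58941 := ndS (p := 24993) (l := 6) rfl N24993 D58941
theorem N26172 : nd 26172 = n58942 := ndS (p := 24994) (l := 2) rfl N24994 D58942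
theorem N26173 : nd 26173 = n58943 := ndS (p := 24994) (l := 4) rfl N24994 D58943
theorem N26174 : nd 26174 = n58944 := ndS (p := 24995) (l := 1) rfl N24995 D58944
theorem N26175 : nd 26175 = n58945 := ndS (p := 24995) (l := 4) rfl N24995 D58945
theorem N26176 : nd 26176 = n58946 := ndS (p := 24997) (l := 0) rfl N24997 D58946
theorem N26177 : nd 26177 = n58947 := ndS (p := 24998) (l := 2) rfl N24998 D58947
theorem N26178 : nd 26178 = n58948 := ndS (p := 24999) (l := 3) rfl N24999 D58948
theorem N26179 : nd 26179 = n58949 := ndS (p := 25000) (l := 2) rfl N25000 D58949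
theorem N26180 : nd 26180 = n58950 := ndS (p := 25000) (l := 4) rfl N25000 D58950
theorem N26181 : nd 26181 = n58951 := ndS (p := 25001) (l := 1) rfl N25001 D58951
theorem N26182 : nd 26182 = n58952 := ndS (p := 25002) (l := 2) rfl N25002 D58952
theorem N26183 : nd 26183 = n58953 := ndS (p := 25003) (l := 3) rfl N25003 D58953
theorem N26184 : nd 26184 = n58954 := ndS (p := 25004) (l := 2) rfl N25004 D58954
theorem N26185 : nd 26185 = n58955 := ndS (p := 25005) (l := 1) rfl N25005 D58955
theorem N26186 : nd 26186 = n58956 := ndS (p := 25006) (l := 3) rfl N25006 D58956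
theorem N26187 : nd 26187 = n58957 := ndS (p := 25007) (l := 2) rfl N25007 D58957
theorem N26188 : nd 26188 = n58958 := ndS (p := 25007) (l := 4) rfl N25007 D58958
theorem N26189 : nd 26189 = n58959 := ndS (p := 25008) (l := 1) rfl N25008 D58959
theorem N26190 : nd 26190 = n58960 := ndS (p := 25008) (l := 4) rfl N25008 D58960
theorem N26191 : nd 26191 = n58961 := ndS (p := 25010) (l := 0) rfl N25010 D58961
theorem N26192 : nd 26192 = n58962 := ndS (p := 25011) (l := 2) rfl N25011 D58962
theorem N26193 : nd 26193 = n58963 := ndS (p := 25012) (l := 1) rfl N25012 D58963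
theorem N26194 : nd 26194 = n58964 := ndS (p := 25013) (l := 3) rfl N25013 D58964
theorem N26195 : nd 26195 = n58965 := ndS (p := 25014) (l := 2) rfl N25014 D58965
theorem N26196 : nd 26196 = n58966 := ndS (p := 25015) (l := 2) rfl N25015 D58966
theorem N26197 : nd 26197 = n58967 := ndS (p := 25016) (l := 1) rfl N25016 D58967
theorem N26198 : nd 26198 = n58968 := ndS (p := 25017) (l := 2) rfl N25017 D58968
theorem N26199 : nd 26199 = n58969 := ndS (p := 25018) (l := 1) rfl N25018 D58969
theorem N26200 : nd 26200 = n58970 := ndS (p := 25018) (l := 4) rfl N25018 D58970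
theorem N26201 : nd 26201 = n58971 := ndS (p := 25020) (l := 0) rfl N25020 D58971
theorem N26202 : nd 26202 = n58972 := ndS (p := 25021) (l := 2) rfl N25021 D58972
theorem N26203 : nd 26203 = n58973 := ndS (p := 25021) (l := 4) rfl N25021 D58973
theorem N26204 : nd 26204 = n58974 := ndS (p := 25022) (l := 1) rfl N25022 D58974
theorem N26205 : nd 26205 = n58975 := ndS (p := 25022) (l := 4) rfl N25022 D58975
theorem N26206 : nd 26206 = n58976 := ndS (p := 25024) (l := 0) rfl N25024 D58976
theorem N26207 : nd 26207 = n58977 := ndS (p := 25024) (l := 4) rfl N25024 D58977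
theorem N26208 : nd 26208 = n58978 := ndS (p := 25025) (l := 3) rfl N25025 D58978
theorem N26209 : nd 26209 = n58979 := ndS (p := 25028) (l := 2) rfl N25028 D58979
theorem N26210 : nd 26210 = n58980 := ndS (p := 25028) (l := 4) rfl N25028 D58980
theorem N26211 : nd 26211 = n58981 := ndS (p := 25029) (l := 1) rfl N25029 D58981
theorem N26212 : nd 26212 = n58982 := ndS (p := 25029) (l := 4) rfl N25029 D58982
theorem N26213 : nd 26213 = n58983 := ndS (p := 25030) (l := 5) rfl N25030 D58983
theorem N26214 : nd 26214 = n58984 := ndS (p := 25031) (l := 4) rfl N25031 D58984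
theorem N26215 : nd 26215 = n58985 := ndS (p := 25032) (l := 3) rfl N25032 D58985
theorem N26216 : nd 26216 = n58986 := ndS (p := 25033) (l := 4) rfl N25033 D58986
theorem N26217 : nd 26217 = n58987 := ndS (p := 25035) (l := 3) rfl N25035 D58987
theorem N26218 : nd 26218 = n58988 := ndS (p := 25036) (l := 3) rfl N25036 D58988
theorem N26219 : nd 26219 = n58989 := ndS (p := 25037) (l := 8) rfl N25037 D58989
theorem N26220 : nd 26220 = n58990 := ndS (p := 25038) (l := 2) rfl N25038 D58990
theorem N26221 : nd 26221 = n58991 := ndS (p := 25039) (l := 2) rfl N25039 D58991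
theorem N26222 : nd 26222 = n58992 := ndS (p := 25040) (l := 3) rfl N25040 D58992
theorem N26223 : nd 26223 = n58993 := ndS (p := 25041) (l := 2) rfl N25041 D58993
theorem N26224 : nd 26224 = n58994 := ndS (p := 25041) (l := 4) rfl N25041 D58994
theorem N26225 : nd 26225 = n58995 := ndS (p := 25042) (l := 1) rfl N25042 D58995
theorem N26226 : nd 26226 = n58996 := ndS (p := 25042) (l := 4) rfl N25042 D58996
theorem N26227 : nd 26227 = n58997 := ndS (p := 25043) (l := 5) rfl N25043 D58997
theorem N26228 : nd 26228 = n58998 := ndS (p := 25045) (l := 2) rfl N25045 D58998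
theorem N26229 : nd 26229 = n58999 := ndS (p := 25045) (l := 4) rfl N25045 D58999
theorem N26230 : nd 26230 = n59000 := ndS (p := 25046) (l := 1) rfl N25046 D59000
theorem N26231 : nd 26231 = n59001 := ndS (p := 25046) (l := 4) rfl N25046 D59001
theorem N26232 : nd 26232 = n59002 := ndS (p := 25048) (l := 0) rfl N25048 D59002
theorem N26233 : nd 26233 = n59003 := ndS (p := 25049) (l := 2) rfl N25049 D59003
theorem N26234 : nd 26234 = n59004 := ndS (p := 25050) (l := 2) rfl N25050 D59004
theorem N26235 : nd 26235 = n59005 := ndS (p := 25050) (l := 4) rfl N25050 D59005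
theorem N26236 : nd 26236 = n59006 := ndS (p := 25051) (l := 1) rfl N25051 D59006
theorem N26237 : nd 26237 = n59007 := ndS (p := 25052) (l := 3) rfl N25052 D59007
theorem N26238 : nd 26238 = n59008 := ndS (p := 25053) (l := 3) rfl N25053 D59008
theorem N26239 : nd 26239 = n59009 := ndS (p := 25054) (l := 2) rfl N25054 D59009
theorem N26240 : nd 26240 = n59010 := ndS (p := 25054) (l := 4) rfl N25054 D59010
theorem N26241 : nd 26241 = n59011 := ndS (p := 25055) (l := 2) rfl N25055 D59011
theorem N26242 : nd 26242 = n59012 := ndS (p := 25056) (l := 1) rfl N25056 D59012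
theorem N26243 : nd 26243 = n59013 := ndS (p := 25057) (l := 3) rfl N25057 D59013
theorem N26244 : nd 26244 = n59014 := ndS (p := 25058) (l := 2) rfl N25058 D59014
theorem N26245 : nd 26245 = n59015 := ndS (p := 25058) (l := 4) rfl N25058 D59015
theorem N26246 : nd 26246 = n59016 := ndS (p := 25059) (l := 1) rfl N25059 D59016
theorem N26247 : nd 26247 = n59017 := ndS (p := 25059) (l := 4) rfl N25059 D59017
theorem N26248 : nd 26248 = n59018 := ndS (p := 25061) (l := 0) rfl N25061 D59018
theorem N26249 : nd 26249 = n59019 := ndS (p := 25061) (l := 4) rfl N25061 D59019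
theorem N26250 : nd 26250 = n59020 := ndS (p := 25063) (l := 2) rfl N25063 D59020
theorem N26251 : nd 26251 = n59021 := ndS (p := 25063) (l := 4) rfl N25063 D59021
theorem N26252 : nd 26252 = n59022 := ndS (p := 25064) (l := 1) rfl N25064 D59022
theorem N26253 : nd 26253 = n59023 := ndS (p := 25064) (l := 4) rfl N25064 D59023
theorem N26254 : nd 26254 = n59024 := ndS (p := 25065) (l := 5) rfl N25065 D59024
theorem N26255 : nd 26255 = n59025 := ndS (p := 25066) (l := 0) rfl N25066 D59025
theorem N26256 : nd 26256 = n59026 := ndS (p := 25066) (l := 4) rfl N25066 D59026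
theorem N26257 : nd 26257 = n59027 := ndS (p := 25067) (l := 3) rfl N25067 D59027
theorem N26258 : nd 26258 = n59028 := ndS (p := 25069) (l := 1) rfl N25069 D59028
theorem N26259 : nd 26259 = n59029 := ndS (p := 25070) (l := 3) rfl N25070 D59029
theorem N26260 : nd 26260 = n59030 := ndS (p := 25071) (l := 2) rfl N25071 D59030
theorem N26261 : nd 26261 = n59031 := ndS (p := 25071) (l := 4) rfl N25071 D59031
theorem N26262 : nd 26262 = n59032 := ndS (p := 25072) (l := 1) rfl N25072 D59032
theorem N26263 : nd 26263 = n59033 := ndS (p := 25073) (l := 2) rfl N25073 D59033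
theorem N26264 : nd 26264 = n59034 := ndS (p := 25074) (l := 1) rfl N25074 D59034
theorem N26265 : nd 26265 = n59035 := ndS (p := 25074) (l := 4) rfl N25074 D59035
theorem N26266 : nd 26266 = n59036 := ndS (p := 25076) (l := 0) rfl N25076 D59036
theorem N26267 : nd 26267 = n59037 := ndS (p := 25076) (l := 4) rfl N25076 D59037
theorem N26268 : nd 26268 = n59038 := ndS (p := 25078) (l := 3) rfl N25078 D59038
theorem N26269 : nd 26269 = n59039 := ndS (p := 25079) (l := 3) rfl N25079 D59039
theorem N26270 : nd 26270 = n59040 := ndS (p := 25080) (l := 2) rfl N25080 D59040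
theorem N26271 : nd 26271 = n59041 := ndS (p := 25080) (l := 4) rfl N25080 D59041
theorem N26272 : nd 26272 = n59042 := ndS (p := 25081) (l := 2) rfl N25081 D59042
theorem N26273 : nd 26273 = n59043 := ndS (p := 25081) (l := 4) rfl N25081 D59043
theorem N26274 : nd 26274 = n59044 := ndS (p := 25082) (l := 1) rfl N25082 D59044
theorem N26275 : nd 26275 = n59045 := ndS (p := 25082) (l := 4) rfl N25082 D59045
theorem N26276 : nd 26276 = n59046 := ndS (p := 25083) (l := 5) rfl N25083 D59046
theorem N26277 : nd 26277 = n59047 := ndS (p := 25084) (l := 1) rfl N25084 D59047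
theorem N26278 : nd 26278 = n59048 := ndS (p := 25084) (l := 4) rfl N25084 D59048
theorem N26279 : nd 26279 = n59049 := ndS (p := 25086) (l := 0) rfl N25086 D59049
theorem N26280 : nd 26280 = n59050 := ndS (p := 25086) (l := 4) rfl N25086 D59050
theorem N26281 : nd 26281 = n59051 := ndS (p := 25087) (l := 3) rfl N25087 D59051
theorem N26282 : nd 26282 = n59052 := ndS (p := 25087) (l := 5) rfl N25087 D59052
theorem N26283 : nd 26283 = n59053 := ndS (p := 25089) (l := 2) rfl N25089 D59053
theorem N26284 : nd 26284 = n59054 := ndS (p := 25089) (l := 4) rfl N25089 D59054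
theorem N26285 : nd 26285 = n59055 := ndS (p := 25090) (l := 1) rfl N25090 D59055
theorem N26286 : nd 26286 = n59056 := ndS (p := 25090) (l := 4) rfl N25090 D59056
theorem N26287 : nd 26287 = n59057 := ndS (p := 25091) (l := 5) rfl N25091 D59057
theorem N26288 : nd 26288 = n59058 := ndS (p := 25092) (l := 0) rfl N25092 D59058
theorem N26289 : nd 26289 = n59059 := ndS (p := 25092) (l := 4) rfl N25092 D59059
theorem N26290 : nd 26290 = n59060 := ndS (p := 25093) (l := 3) rfl N25093 D59060
theorem N26291 : nd 26291 = n59061 := ndS (p := 25093) (l := 5) rfl N25093 D59061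
theorem N26292 : nd 26292 = n59062 := ndS (p := 25095) (l := 4) rfl N25095 D59062
theorem N26293 : nd 26293 = n59063 := ndS (p := 25096) (l := 5) rfl N25096 D59063
theorem N26294 : nd 26294 = n59064 := ndS (p := 25098) (l := 1) rfl N25098 D59064
theorem N26295 : nd 26295 = n59065 := ndS (p := 25098) (l := 4) rfl N25098 D59065
theorem N26296 : nd 26296 = n59066 := ndS (p := 25100) (l := 0) rfl N25100 D59066
theorem N26297 : nd 26297 = n59067 := ndS (p := 25100) (l := 4) rfl N25100 D59067
theorem N26298 : nd 26298 = n59068 := ndS (p := 25101) (l := 3) rfl N25101 D59068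
theorem N26299 : nd 26299 = n59069 := ndS (p := 25102) (l := 4) rfl N25102 D59069
theorem N26300 : nd 26300 = n59070 := ndS (p := 25103) (l := 3) rfl N25103 D59070
theorem N26301 : nd 26301 = n59071 := ndS (p := 25104) (l := 8) rfl N25104 D59071
theorem N26302 : nd 26302 = n59072 := ndS (p := 25106) (l := 4) rfl N25106 D59072
theorem N26303 : nd 26303 = n59073 := ndS (p := 25107) (l := 4) rfl N25107 D59073
theorem N26304 : nd 26304 = n59074 := ndS (p := 25108) (l := 5) rfl N25108 D59074
theorem N26305 : nd 26305 = n59075 := ndS (p := 25109) (l := 3) rfl N25109 D59075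
theorem N26306 : nd 26306 = n59076 := ndS (p := 25110) (l := 4) rfl N25110 D59076
theorem N26307 : nd 26307 = n59077 := ndS (p := 25112) (l := 0) rfl N25112 D59077
theorem N26308 : nd 26308 = n59078 := ndS (p := 25112) (l := 4) rfl N25112 D59078
theorem N26309 : nd 26309 = n59079 := ndS (p := 25113) (l := 3) rfl N25113 D59079
theorem N26310 : nd 26310 = n59080 := ndS (p := 25115) (l := 4) rfl N25115 D59080
theorem N26311 : nd 26311 = n59081 := ndS (p := 25116) (l := 3) rfl N25116 D59081
theorem N26312 : nd 26312 = n59082 := ndS (p := 25117) (l := 8) rfl N25117 D59082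
theorem N26313 : nd 26313 = n59083 := ndS (p := 25118) (l := 5) rfl N25118 D59083
theorem N26314 : nd 26314 = n59084 := ndS (p := 25120) (l := 8) rfl N25120 D59084
theorem N26315 : nd 26315 = n59085 := ndS (p := 25121) (l := 3) rfl N25121 D59085
theorem N26316 : nd 26316 = n59086 := ndS (p := 25122) (l := 8) rfl N25122 D59086
theorem N26317 : nd 26317 = n59087 := ndS (p := 25123) (l := 3) rfl N25123 D59087
theorem N26318 : nd 26318 = n59088 := ndS (p := 25124) (l := 2) rfl N25124 D59088
theorem N26319 : nd 26319 = n59089 := ndS (p := 25124) (l := 8) rfl N25124 D59089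
theorem N26320 : nd 26320 = n59090 := ndS (p := 25125) (l := 9) rfl N25125 D59090
theorem N26321 : nd 26321 = n59091 := ndS (p := 25128) (l := 4) rfl N25128 D59091
theorem N26322 : nd 26322 = n59092 := ndS (p := 25129) (l := 3) rfl N25129 D59092
theorem N26323 : nd 26323 = n59093 := ndS (p := 25129) (l := 5) rfl N25129 D59093
theorem N26324 : nd 26324 = n59094 := ndS (p := 25130) (l := 8) rfl N25130 D59094
theorem N26325 : nd 26325 = n59095 := ndS (p := 25132) (l := 3) rfl N25132 D59095
theorem N26326 : nd 26326 = n59096 := ndS (p := 25133) (l := 8) rfl N25133 D59096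
theorem N26327 : nd 26327 = n59097 := ndS (p := 25134) (l := 9) rfl N25134 D59097
theorem N26328 : nd 26328 = n59098 := ndS (p := 25136) (l := 9) rfl N25136 D59098
theorem N26329 : nd 26329 = n59099 := ndS (p := 25137) (l := 2) rfl N25137 D59099
theorem N26330 : nd 26330 = n59100 := ndS (p := 25137) (l := 8) rfl N25137 D59100
theorem N26331 : nd 26331 = n59101 := ndS (p := 25138) (l := 8) rfl N25138 D59101
theorem N26332 : nd 26332 = n59102 := ndS (p := 25141) (l := 3) rfl N25141 D59102
theorem N26333 : nd 26333 = n59103 := ndS (p := 25142) (l := 5) rfl N25142 D59103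
theorem N26334 : nd 26334 = n59104 := ndS (p := 25144) (l := 4) rfl N25144 D59104
theorem N26335 : nd 26335 = n59105 := ndS (p := 25145) (l := 5) rfl N25145 D59105
theorem N26336 : nd 26336 = n59106 := ndS (p := 25148) (l := 1) rfl N25148 D59106
theorem N26337 : nd 26337 = n59107 := ndS (p := 25149) (l := 0) rfl N25149 D59107
theorem N26338 : nd 26338 = n59108 := ndS (p := 25150) (l := 1) rfl N25150 D59108
theorem N26339 : nd 26339 = n59109 := ndS (p := 25151) (l := 1) rfl N25151 D59109
theorem N26340 : nd 26340 = n59110 := ndS (p := 25152) (l := 0) rfl N25152 D59110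
theorem N26341 : nd 26341 = n59111 := ndS (p := 25153) (l := 0) rfl N25153 D59111
theorem N26342 : nd 26342 = n59112 := ndS (p := 25154) (l := 1) rfl N25154 D59112
theorem N26343 : nd 26343 = n59113 := ndS (p := 25155) (l := 1) rfl N25155 D59113
theorem N26344 : nd 26344 = n59114 := ndS (p := 25156) (l := 0) rfl N25156 D59114
theorem N26345 : nd 26345 = n59115 := ndS (p := 25157) (l := 2) rfl N25157 D59115
theorem N26346 : nd 26346 = n59116 := ndS (p := 25157) (l := 4) rfl N25157 D59116
theorem N26347 : nd 26347 = n59117 := ndS (p := 25158) (l := 1) rfl N25158 D59117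
theorem N26348 : nd 26348 = n59118 := ndS (p := 25159) (l := 2) rfl N25159 D59118
theorem N26349 : nd 26349 = n59119 := ndS (p := 25159) (l := 4) rfl N25159 D59119
theorem N26350 : nd 26350 = n59120 := ndS (p := 25160) (l := 1) rfl N25160 D59120
theorem N26351 : nd 26351 = n59121 := ndS (p := 25161) (l := 2) rfl N25161 D59121
theorem N26352 : nd 26352 = n59122 := ndS (p := 25161) (l := 4) rfl N25161 D59122
theorem N26353 : nd 26353 = n59123 := ndS (p := 25162) (l := 1) rfl N25162 D59123
theorem N26354 : nd 26354 = n59124 := ndS (p := 25162) (l := 4) rfl N25162 D59124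
theorem N26355 : nd 26355 = n59125 := ndS (p := 25164) (l := 0) rfl N25164 D59125
theorem N26356 : nd 26356 = n59126 := ndS (p := 25165) (l := 1) rfl N25165 D59126
theorem N26357 : nd 26357 = n59127 := ndS (p := 25166) (l := 0) rfl N25166 D59127
theorem N26358 : nd 26358 = n59128 := ndS (p := 25170) (l := 2) rfl N25170 D59128
theorem N26359 : nd 26359 = n59129 := ndS (p := 25170) (l := 4) rfl N25170 D59129
theorem N26360 : nd 26360 = n59130 := ndS (p := 25172) (l := 1) rfl N25172 D59130
theorem N26361 : nd 26361 = n59131 := ndS (p := 25173) (l := 1) rfl N25173 D59131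
theorem N26362 : nd 26362 = n59132 := ndS (p := 25174) (l := 0) rfl N25174 D59132
theorem N26363 : nd 26363 = n59133 := ndS (p := 25175) (l := 0) rfl N25175 D59133
theorem N26364 : nd 26364 = n59134 := ndS (p := 25176) (l := 2) rfl N25176 D59134
theorem N26365 : nd 26365 = n59135 := ndS (p := 25177) (l := 1) rfl N25177 D59135
theorem N26366 : nd 26366 = n59136 := ndS (p := 25177) (l := 4) rfl N25177 D59136
theorem N26367 : nd 26367 = n59137 := ndS (p := 25179) (l := 0) rfl N25179 D59137
theorem N26368 : nd 26368 = n59138 := ndS (p := 25179) (l := 4) rfl N25179 D59138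
theorem N26369 : nd 26369 = n59139 := ndS (p := 25182) (l := 1) rfl N25182 D59139
theorem N26370 : nd 26370 = n59140 := ndS (p := 25183) (l := 0) rfl N25183 D59140
theorem N26371 : nd 26371 = n59141 := ndS (p := 25184) (l := 2) rfl N25184 D59141
theorem N26372 : nd 26372 = n59142 := ndS (p := 25184) (l := 4) rfl N25184 D59142
theorem N26373 : nd 26373 = n59143 := ndS (p := 25185) (l := 1) rfl N25185 D59143
theorem N26374 : nd 26374 = n59144 := ndS (p := 25185) (l := 4) rfl N25185 D59144
theorem N26375 : nd 26375 = n59145 := ndS (p := 25187) (l := 0) rfl N25187 D59145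
theorem N26376 : nd 26376 = n59146 := ndS (p := 25188) (l := 3) rfl N25188 D59146
theorem N26377 : nd 26377 = n59147 := ndS (p := 25189) (l := 4) rfl N25189 D59147
theorem N26378 : nd 26378 = n59148 := ndS (p := 25190) (l := 2) rfl N25190 D59148
theorem N26379 : nd 26379 = n59149 := ndS (p := 25190) (l := 4) rfl N25190 D59149
theorem N26380 : nd 26380 = n59150 := ndS (p := 25191) (l := 5) rfl N25191 D59150
theorem N26381 : nd 26381 = n59151 := ndS (p := 25192) (l := 2) rfl N25192 D59151
theorem N26382 : nd 26382 = n59152 := ndS (p := 25192) (l := 4) rfl N25192 D59152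
theorem N26383 : nd 26383 = n59153 := ndS (p := 25193) (l := 1) rfl N25193 D59153
theorem N26384 : nd 26384 = n59154 := ndS (p := 25194) (l := 2) rfl N25194 D59154
theorem N26385 : nd 26385 = n59155 := ndS (p := 25194) (l := 4) rfl N25194 D59155
theorem N26386 : nd 26386 = n59156 := ndS (p := 25195) (l := 5) rfl N25195 D59156
theorem N26387 : nd 26387 = n59157 := ndS (p := 25196) (l := 3) rfl N25196 D59157
theorem N26388 : nd 26388 = n59158 := ndS (p := 25197) (l := 2) rfl N25197 D59158
theorem N26389 : nd 26389 = n59159 := ndS (p := 25197) (l := 4) rfl N25197 D59159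
theorem N26390 : nd 26390 = n59160 := ndS (p := 25198) (l := 2) rfl N25198 D59160
theorem N26391 : nd 26391 = n59161 := ndS (p := 25198) (l := 4) rfl N25198 D59161
theorem N26392 : nd 26392 = n59162 := ndS (p := 25199) (l := 1) rfl N25199 D59162
theorem N26393 : nd 26393 = n59163 := ndS (p := 25199) (l := 4) rfl N25199 D59163
theorem N26394 : nd 26394 = n59164 := ndS (p := 25200) (l := 5) rfl N25200 D59164
theorem N26395 : nd 26395 = n59165 := ndS (p := 25201) (l := 6) rfl N25201 D59165
theorem N26396 : nd 26396 = n59166 := ndS (p := 25202) (l := 1) rfl N25202 D59166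
theorem N26397 : nd 26397 = n59167 := ndS (p := 25203) (l := 0) rfl N25203 D59167
theorem N26398 : nd 26398 = n59168 := ndS (p := 25204) (l := 2) rfl N25204 D59168
theorem N26399 : nd 26399 = n59169 := ndS (p := 25204) (l := 4) rfl N25204 D59169
theorem N26400 : nd 26400 = n59170 := ndS (p := 25205) (l := 1) rfl N25205 D59170
theorem N26401 : nd 26401 = n59171 := ndS (p := 25205) (l := 4) rfl N25205 D59171
theorem N26402 : nd 26402 = n59172 := ndS (p := 25206) (l := 5) rfl N25206 D59172
theorem N26403 : nd 26403 = n59173 := ndS (p := 25208) (l := 2) rfl N25208 D59173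
theorem N26404 : nd 26404 = n59174 := ndS (p := 25208) (l := 4) rfl N25208 D59174
theorem N26405 : nd 26405 = n59175 := ndS (p := 25209) (l := 1) rfl N25209 D59175
theorem N26406 : nd 26406 = n59176 := ndS (p := 25209) (l := 4) rfl N25209 D59176
theorem N26407 : nd 26407 = n59177 := ndS (p := 25210) (l := 5) rfl N25210 D59177
theorem N26408 : nd 26408 = n59178 := ndS (p := 25211) (l := 1) rfl N25211 D59178
theorem N26409 : nd 26409 = n59179 := ndS (p := 25211) (l := 4) rfl N25211 D59179
theorem N26410 : nd 26410 = n59180 := ndS (p := 25213) (l := 0) rfl N25213 D59180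
theorem N26411 : nd 26411 = n59181 := ndS (p := 25213) (l := 4) rfl N25213 D59181
theorem N26412 : nd 26412 = n59182 := ndS (p := 25214) (l := 5) rfl N25214 D59182
theorem N26413 : nd 26413 = n59183 := ndS (p := 25216) (l := 0) rfl N25216 D59183
theorem N26414 : nd 26414 = n59184 := ndS (p := 25224) (l := 5) rfl N25224 D59184
theorem N26415 : nd 26415 = n59185 := ndS (p := 25225) (l := 6) rfl N25225 D59185
theorem N26416 : nd 26416 = n59186 := ndS (p := 25227) (l := 4) rfl N25227 D59186
theorem N26417 : nd 26417 = n59187 := ndS (p := 25228) (l := 5) rfl N25228 D59187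
theorem N26418 : nd 26418 = n59188 := ndS (p := 25232) (l := 2) rfl N25232 D59188
theorem N26419 : nd 26419 = n59189 := ndS (p := 25232) (l := 4) rfl N25232 D59189
theorem N26420 : nd 26420 = n59190 := ndS (p := 25233) (l := 4) rfl N25233 D59190
theorem N26421 : nd 26421 = n59191 := ndS (p := 25235) (l := 2) rfl N25235 D59191
theorem N26422 : nd 26422 = n59192 := ndS (p := 25235) (l := 4) rfl N25235 D59192
theorem N26423 : nd 26423 = n59193 := ndS (p := 25236) (l := 1) rfl N25236 D59193
theorem N26424 : nd 26424 = n59194 := ndS (p := 25236) (l := 4) rfl N25236 D59194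
theorem N26425 : nd 26425 = n59195 := ndS (p := 25238) (l := 0) rfl N25238 D59195
theorem N26426 : nd 26426 = n59196 := ndS (p := 25239) (l := 3) rfl N25239 D59196
theorem N26427 : nd 26427 = n59197 := ndS (p := 25240) (l := 2) rfl N25240 D59197
theorem N26428 : nd 26428 = n59198 := ndS (p := 25240) (l := 4) rfl N25240 D59198
theorem N26429 : nd 26429 = n59199 := ndS (p := 25241) (l := 5) rfl N25241 D59199
theorem N26430 : nd 26430 = n59200 := ndS (p := 25242) (l := 1) rfl N25242 D59200
theorem N26431 : nd 26431 = n59201 := ndS (p := 25243) (l := 3) rfl N25243 D59201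
theorem N26432 : nd 26432 = n59202 := ndS (p := 25244) (l := 2) rfl N25244 D59202
theorem N26433 : nd 26433 = n59203 := ndS (p := 25244) (l := 4) rfl N25244 D59203
theorem N26434 : nd 26434 = n59204 := ndS (p := 25246) (l := 3) rfl N25246 D59204
theorem N26435 : nd 26435 = n59205 := ndS (p := 25247) (l := 2) rfl N25247 D59205
theorem N26436 : nd 26436 = n59206 := ndS (p := 25247) (l := 4) rfl N25247 D59206
theorem N26437 : nd 26437 = n59207 := ndS (p := 25248) (l := 1) rfl N25248 D59207
theorem N26438 : nd 26438 = n59208 := ndS (p := 25248) (l := 4) rfl N25248 D59208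
theorem N26439 : nd 26439 = n59209 := ndS (p := 25250) (l := 0) rfl N25250 D59209
theorem N26440 : nd 26440 = n59210 := ndS (p := 25251) (l := 2) rfl N25251 D59210
theorem N26441 : nd 26441 = n59211 := ndS (p := 25251) (l := 4) rfl N25251 D59211
theorem N26442 : nd 26442 = n59212 := ndS (p := 25252) (l := 2) rfl N25252 D59212
theorem N26443 : nd 26443 = n59213 := ndS (p := 25253) (l := 1) rfl N25253 D59213
theorem N26444 : nd 26444 = n59214 := ndS (p := 25253) (l := 4) rfl N25253 D59214
theorem N26445 : nd 26445 = n59215 := ndS (p := 25255) (l := 2) rfl N25255 D59215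
theorem N26446 : nd 26446 = n59216 := ndS (p := 25256) (l := 2) rfl N25256 D59216
theorem N26447 : nd 26447 = n59217 := ndS (p := 25256) (l := 4) rfl N25256 D59217
theorem N26448 : nd 26448 = n59218 := ndS (p := 25257) (l := 1) rfl N25257 D59218
theorem N26449 : nd 26449 = n59219 := ndS (p := 25257) (l := 4) rfl N25257 D59219
theorem N26450 : nd 26450 = n59220 := ndS (p := 25259) (l := 1) rfl N25259 D59220
theorem N26451 : nd 26451 = n59221 := ndS (p := 25260) (l := 0) rfl N25260 D59221
theorem N26452 : nd 26452 = n59222 := ndS (p := 25260) (l := 4) rfl N25260 D59222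
theorem N26453 : nd 26453 = n59223 := ndS (p := 25262) (l := 1) rfl N25262 D59223
theorem N26454 : nd 26454 = n59224 := ndS (p := 25263) (l := 0) rfl N25263 D59224
theorem N26455 : nd 26455 = n59225 := ndS (p := 25265) (l := 2) rfl N25265 D59225
theorem N26456 : nd 26456 = n59226 := ndS (p := 25265) (l := 4) rfl N25265 D59226
theorem N26457 : nd 26457 = n59227 := ndS (p := 25266) (l := 1) rfl N25266 D59227
theorem N26458 : nd 26458 = n59228 := ndS (p := 25266) (l := 4) rfl N25266 D59228
theorem N26459 : nd 26459 = n59229 := ndS (p := 25267) (l := 5) rfl N25267 D59229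
theorem N26460 : nd 26460 = n59230 := ndS (p := 25269) (l := 1) rfl N25269 D59230
theorem N26461 : nd 26461 = n59231 := ndS (p := 25269) (l := 4) rfl N25269 D59231
theorem N26462 : nd 26462 = n59232 := ndS (p := 25271) (l := 0) rfl N25271 D59232
theorem N26463 : nd 26463 = n59233 := ndS (p := 25272) (l := 2) rfl N25272 D59233
theorem N26464 : nd 26464 = n59234 := ndS (p := 25272) (l := 4) rfl N25272 D59234
theorem N26465 : nd 26465 = n59235 := ndS (p := 25273) (l := 1) rfl N25273 D59235
theorem N26466 : nd 26466 = n59236 := ndS (p := 25273) (l := 4) rfl N25273 D59236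
theorem N26467 : nd 26467 = n59237 := ndS (p := 25275) (l := 3) rfl N25275 D59237
theorem N26468 : nd 26468 = n59238 := ndS (p := 25276) (l := 2) rfl N25276 D59238
theorem N26469 : nd 26469 = n59239 := ndS (p := 25276) (l := 4) rfl N25276 D59239
theorem N26470 : nd 26470 = n59240 := ndS (p := 25277) (l := 2) rfl N25277 D59240
theorem N26471 : nd 26471 = n59241 := ndS (p := 25277) (l := 4) rfl N25277 D59241
theorem N26472 : nd 26472 = n59242 := ndS (p := 25278) (l := 1) rfl N25278 D59242
theorem N26473 : nd 26473 = n59243 := ndS (p := 25278) (l := 4) rfl N25278 D59243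
theorem N26474 : nd 26474 = n59244 := ndS (p := 25279) (l := 5) rfl N25279 D59244
theorem N26475 : nd 26475 = n59245 := ndS (p := 25280) (l := 1) rfl N25280 D59245
theorem N26476 : nd 26476 = n59246 := ndS (p := 25280) (l := 4) rfl N25280 D59246
theorem N26477 : nd 26477 = n59247 := ndS (p := 25282) (l := 0) rfl N25282 D59247
theorem N26478 : nd 26478 = n59248 := ndS (p := 25282) (l := 4) rfl N25282 D59248
theorem N26479 : nd 26479 = n59249 := ndS (p := 25283) (l := 5) rfl N25283 D59249
theorem N26480 : nd 26480 = n59250 := ndS (p := 25284) (l := 6) rfl N25284 D59250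
theorem N26481 : nd 26481 = n59251 := ndS (p := 25286) (l := 0) rfl N25286 D59251
theorem N26482 : nd 26482 = n59252 := ndS (p := 25288) (l := 2) rfl N25288 D59252
theorem N26483 : nd 26483 = n59253 := ndS (p := 25288) (l := 4) rfl N25288 D59253
theorem N26484 : nd 26484 = n59254 := ndS (p := 25289) (l := 1) rfl N25289 D59254
theorem N26485 : nd 26485 = n59255 := ndS (p := 25290) (l := 2) rfl N25290 D59255
theorem N26486 : nd 26486 = n59256 := ndS (p := 25290) (l := 4) rfl N25290 D59256
theorem N26487 : nd 26487 = n59257 := ndS (p := 25291) (l := 2) rfl N25291 D59257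
theorem N26488 : nd 26488 = n59258 := ndS (p := 25291) (l := 4) rfl N25291 D59258
theorem N26489 : nd 26489 = n59259 := ndS (p := 25292) (l := 1) rfl N25292 D59259
theorem N26490 : nd 26490 = n59260 := ndS (p := 25292) (l := 4) rfl N25292 D59260
theorem N26491 : nd 26491 = n59261 := ndS (p := 25294) (l := 2) rfl N25294 D59261
theorem N26492 : nd 26492 = n59262 := ndS (p := 25295) (l := 1) rfl N25295 D59262
theorem N26493 : nd 26493 = n59263 := ndS (p := 25295) (l := 4) rfl N25295 D59263
theorem N26494 : nd 26494 = n59264 := ndS (p := 25297) (l := 0) rfl N25297 D59264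
theorem N26495 : nd 26495 = n59265 := ndS (p := 25297) (l := 4) rfl N25297 D59265
theorem N26496 : nd 26496 = n59266 := ndS (p := 25299) (l := 2) rfl N25299 D59266
theorem N26497 : nd 26497 = n59267 := ndS (p := 25299) (l := 4) rfl N25299 D59267
theorem N26498 : nd 26498 = n59268 := ndS (p := 25300) (l := 2) rfl N25300 D59268
theorem N26499 : nd 26499 = n59269 := ndS (p := 25300) (l := 4) rfl N25300 D59269
theorem N26500 : nd 26500 = n59270 := ndS (p := 25301) (l := 1) rfl N25301 D59270
theorem N26501 : nd 26501 = n59271 := ndS (p := 25301) (l := 4) rfl N25301 D59271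
theorem N26502 : nd 26502 = n59272 := ndS (p := 25303) (l := 1) rfl N25303 D59272
theorem N26503 : nd 26503 = n59273 := ndS (p := 25303) (l := 4) rfl N25303 D59273
theorem N26504 : nd 26504 = n59274 := ndS (p := 25304) (l := 5) rfl N25304 D59274
theorem N26505 : nd 26505 = n59275 := ndS (p := 25305) (l := 0) rfl N25305 D59275
theorem N26506 : nd 26506 = n59276 := ndS (p := 25305) (l := 4) rfl N25305 D59276
theorem N26507 : nd 26507 = n59277 := ndS (p := 25306) (l := 5) rfl N25306 D59277
theorem N26508 : nd 26508 = n59278 := ndS (p := 25308) (l := 2) rfl N25308 D59278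
theorem N26509 : nd 26509 = n59279 := ndS (p := 25308) (l := 4) rfl N25308 D59279
theorem N26510 : nd 26510 = n59280 := ndS (p := 25309) (l := 1) rfl N25309 D59280
theorem N26511 : nd 26511 = n59281 := ndS (p := 25309) (l := 4) rfl N25309 D59281
theorem N26512 : nd 26512 = n59282 := ndS (p := 25311) (l := 0) rfl N25311 D59282
theorem N26513 : nd 26513 = n59283 := ndS (p := 25311) (l := 4) rfl N25311 D59283
theorem N26514 : nd 26514 = n59284 := ndS (p := 25313) (l := 4) rfl N25313 D59284
theorem N26515 : nd 26515 = n59285 := ndS (p := 25314) (l := 5) rfl N25314 D59285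
theorem N26516 : nd 26516 = n59286 := ndS (p := 25316) (l := 1) rfl N25316 D59286
theorem N26517 : nd 26517 = n59287 := ndS (p := 25317) (l := 0) rfl N25317 D59287
theorem N26518 : nd 26518 = n59288 := ndS (p := 25319) (l := 4) rfl N25319 D59288
theorem N26519 : nd 26519 = n59289 := ndS (p := 25323) (l := 5) rfl N25323 D59289
theorem N26520 : nd 26520 = n59290 := ndS (p := 25324) (l := 6) rfl N25324 D59290
theorem N26521 : nd 26521 = n59291 := ndS (p := 25328) (l := 1) rfl N25328 D59291
theorem N26522 : nd 26522 = n59292 := ndS (p := 25329) (l := 1) rfl N25329 D59292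
theorem N26523 : nd 26523 = n59293 := ndS (p := 25330) (l := 1) rfl N25330 D59293
theorem N26524 : nd 26524 = n59294 := ndS (p := 25330) (l := 4) rfl N25330 D59294
theorem N26525 : nd 26525 = n59295 := ndS (p := 25331) (l := 5) rfl N25331 D59295
theorem N26526 : nd 26526 = n59296 := ndS (p := 25333) (l := 0) rfl N25333 D59296
theorem N26527 : nd 26527 = n59297 := ndS (p := 25334) (l := 3) rfl N25334 D59297
theorem N26528 : nd 26528 = n59298 := ndS (p := 25335) (l := 2) rfl N25335 D59298
theorem N26529 : nd 26529 = n59299 := ndS (p := 25335) (l := 4) rfl N25335 D59299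
theorem N26530 : nd 26530 = n59300 := ndS (p := 25336) (l := 1) rfl N25336 D59300
theorem N26531 : nd 26531 = n59301 := ndS (p := 25336) (l := 4) rfl N25336 D59301
theorem N26532 : nd 26532 = n59302 := ndS (p := 25337) (l := 5) rfl N25337 D59302
theorem N26533 : nd 26533 = n59303 := ndS (p := 25339) (l := 0) rfl N25339 D59303
theorem N26534 : nd 26534 = n59304 := ndS (p := 25340) (l := 0) rfl N25340 D59304
theorem N26535 : nd 26535 = n59305 := ndS (p := 25341) (l := 3) rfl N25341 D59305
theorem N26536 : nd 26536 = n59306 := ndS (p := 25342) (l := 2) rfl N25342 D59306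
theorem N26537 : nd 26537 = n59307 := ndS (p := 25342) (l := 4) rfl N25342 D59307
theorem N26538 : nd 26538 = n59308 := ndS (p := 25343) (l := 2) rfl N25343 D59308
theorem N26539 : nd 26539 = n59309 := ndS (p := 25343) (l := 4) rfl N25343 D59309
theorem N26540 : nd 26540 = n59310 := ndS (p := 25344) (l := 1) rfl N25344 D59310
theorem N26541 : nd 26541 = n59311 := ndS (p := 25344) (l := 4) rfl N25344 D59311
theorem N26542 : nd 26542 = n59312 := ndS (p := 25345) (l := 5) rfl N25345 D59312
theorem N26543 : nd 26543 = n59313 := ndS (p := 25346) (l := 1) rfl N25346 D59313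
theorem N26544 : nd 26544 = n59314 := ndS (p := 25346) (l := 4) rfl N25346 D59314
theorem N26545 : nd 26545 = n59315 := ndS (p := 25347) (l := 5) rfl N25347 D59315
theorem N26546 : nd 26546 = n59316 := ndS (p := 25348) (l := 0) rfl N25348 D59316
theorem N26547 : nd 26547 = n59317 := ndS (p := 25348) (l := 4) rfl N25348 D59317
theorem N26548 : nd 26548 = n59318 := ndS (p := 25349) (l := 5) rfl N25349 D59318
theorem N26549 : nd 26549 = n59319 := ndS (p := 25350) (l := 6) rfl N25350 D59319
theorem N26550 : nd 26550 = n59320 := ndS (p := 25352) (l := 0) rfl N25352 D59320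
theorem N26551 : nd 26551 = n59321 := ndS (p := 25355) (l := 5) rfl N25355 D59321
theorem N26552 : nd 26552 = n59322 := ndS (p := 25357) (l := 2) rfl N25357 D59322
theorem N26553 : nd 26553 = n59323 := ndS (p := 25357) (l := 4) rfl N25357 D59323
theorem N26554 : nd 26554 = n59324 := ndS (p := 25358) (l := 1) rfl N25358 D59324
theorem N26555 : nd 26555 = n59325 := ndS (p := 25358) (l := 4) rfl N25358 D59325
theorem N26556 : nd 26556 = n59326 := ndS (p := 25360) (l := 0) rfl N25360 D59326
theorem N26557 : nd 26557 = n59327 := ndS (p := 25361) (l := 1) rfl N25361 D59327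
theorem N26558 : nd 26558 = n59328 := ndS (p := 25362) (l := 0) rfl N25362 D59328
theorem N26559 : nd 26559 = n59329 := ndS (p := 25363) (l := 0) rfl N25363 D59329
theorem N26560 : nd 26560 = n59330 := ndS (p := 25363) (l := 4) rfl N25363 D59330
theorem N26561 : nd 26561 = n59331 := ndS (p := 25364) (l := 5) rfl N25364 D59331
theorem N26562 : nd 26562 = n59332 := ndS (p := 25367) (l := 1) rfl N25367 D59332
theorem N26563 : nd 26563 = n59333 := ndS (p := 25367) (l := 4) rfl N25367 D59333
theorem N26564 : nd 26564 = n59334 := ndS (p := 25370) (l := 2) rfl N25370 D59334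
theorem N26565 : nd 26565 = n59335 := ndS (p := 25370) (l := 4) rfl N25370 D59335
theorem N26566 : nd 26566 = n59336 := ndS (p := 25371) (l := 1) rfl N25371 D59336
theorem N26567 : nd 26567 = n59337 := ndS (p := 25371) (l := 4) rfl N25371 D59337
theorem N26568 : nd 26568 = n59338 := ndS (p := 25373) (l := 0) rfl N25373 D59338
theorem N26569 : nd 26569 = n59339 := ndS (p := 25373) (l := 4) rfl N25373 D59339
theorem N26570 : nd 26570 = n59340 := ndS (p := 25374) (l := 5) rfl N25374 D59340
theorem N26571 : nd 26571 = n59341 := ndS (p := 25377) (l := 1) rfl N25377 D59341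
theorem N26572 : nd 26572 = n59342 := ndS (p := 25377) (l := 4) rfl N25377 D59342
theorem N26573 : nd 26573 = n59343 := ndS (p := 25379) (l := 1) rfl N25379 D59343
theorem N26574 : nd 26574 = n59344 := ndS (p := 25379) (l := 4) rfl N25379 D59344
theorem N26575 : nd 26575 = n59345 := ndS (p := 25381) (l := 0) rfl N25381 D59345
theorem N26576 : nd 26576 = n59346 := ndS (p := 25382) (l := 1) rfl N25382 D59346
theorem N26577 : nd 26577 = n59347 := ndS (p := 25382) (l := 4) rfl N25382 D59347
theorem N26578 : nd 26578 = n59348 := ndS (p := 25384) (l := 0) rfl N25384 D59348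
theorem N26579 : nd 26579 = n59349 := ndS (p := 25384) (l := 4) rfl N25384 D59349
theorem N26580 : nd 26580 = n59350 := ndS (p := 25387) (l := 1) rfl N25387 D59350
theorem N26581 : nd 26581 = n59351 := ndS (p := 25387) (l := 4) rfl N25387 D59351
theorem N26582 : nd 26582 = n59352 := ndS (p := 25389) (l := 1) rfl N25389 D59352
theorem N26583 : nd 26583 = n59353 := ndS (p := 25389) (l := 4) rfl N25389 D59353
theorem N26584 : nd 26584 = n59354 := ndS (p := 25391) (l := 1) rfl N25391 D59354
theorem N26585 : nd 26585 = n59355 := ndS (p := 25392) (l := 0) rfl N25392 D59355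
theorem N26586 : nd 26586 = n59356 := ndS (p := 25392) (l := 4) rfl N25392 D59356
theorem N26587 : nd 26587 = n59357 := ndS (p := 25393) (l := 5) rfl N25393 D59357
theorem N26588 : nd 26588 = n59358 := ndS (p := 25395) (l := 1) rfl N25395 D59358
theorem N26589 : nd 26589 = n59359 := ndS (p := 25395) (l := 4) rfl N25395 D59359
theorem N26590 : nd 26590 = n59360 := ndS (p := 25397) (l := 0) rfl N25397 D59360
theorem N26591 : nd 26591 = n59361 := ndS (p := 25397) (l := 4) rfl N25397 D59361
theorem N26592 : nd 26592 = n59362 := ndS (p := 25399) (l := 1) rfl N25399 D59362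
theorem N26593 : nd 26593 = n59363 := ndS (p := 25400) (l := 0) rfl N25400 D59363
theorem N26594 : nd 26594 = n59364 := ndS (p := 25400) (l := 4) rfl N25400 D59364
theorem N26595 : nd 26595 = n59365 := ndS (p := 25402) (l := 4) rfl N25402 D59365
theorem N26596 : nd 26596 = n59366 := ndS (p := 25403) (l := 5) rfl N25403 D59366
theorem N26597 : nd 26597 = n59367 := ndS (p := 25404) (l := 6) rfl N25404 D59367
theorem N26598 : nd 26598 = n59368 := ndS (p := 25406) (l := 0) rfl N25406 D59368
theorem N26599 : nd 26599 = n59369 := ndS (p := 25408) (l := 2) rfl N25408 D59369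
theorem N26600 : nd 26600 = n59370 := ndS (p := 25408) (l := 4) rfl N25408 D59370
theorem N26601 : nd 26601 = n59371 := ndS (p := 25409) (l := 1) rfl N25409 D59371
theorem N26602 : nd 26602 = n59372 := ndS (p := 25410) (l := 0) rfl N25410 D59372
theorem N26603 : nd 26603 = n59373 := ndS (p := 25412) (l := 0) rfl N25412 D59373
theorem N26604 : nd 26604 = n59374 := ndS (p := 25413) (l := 1) rfl N25413 D59374
theorem N26605 : nd 26605 = n59375 := ndS (p := 25414) (l := 0) rfl N25414 D59375
theorem N26606 : nd 26606 = n59376 := ndS (p := 25415) (l := 0) rfl N25415 D59376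
theorem N26607 : nd 26607 = n59377 := ndS (p := 25417) (l := 2) rfl N25417 D59377
theorem N26608 : nd 26608 = n59378 := ndS (p := 25417) (l := 4) rfl N25417 D59378
theorem N26609 : nd 26609 = n59379 := ndS (p := 25418) (l := 1) rfl N25418 D59379
theorem N26610 : nd 26610 = n59380 := ndS (p := 25419) (l := 2) rfl N25419 D59380
theorem N26611 : nd 26611 = n59381 := ndS (p := 25419) (l := 4) rfl N25419 D59381
theorem N26612 : nd 26612 = n59382 := ndS (p := 25420) (l := 1) rfl N25420 D59382
theorem N26613 : nd 26613 = n59383 := ndS (p := 25420) (l := 4) rfl N25420 D59383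
theorem N26614 : nd 26614 = n59384 := ndS (p := 25422) (l := 0) rfl N25422 D59384
theorem N26615 : nd 26615 = n59385 := ndS (p := 25423) (l := 2) rfl N25423 D59385
theorem N26616 : nd 26616 = n59386 := ndS (p := 25423) (l := 4) rfl N25423 D59386
theorem N26617 : nd 26617 = n59387 := ndS (p := 25424) (l := 1) rfl N25424 D59387
theorem N26618 : nd 26618 = n59388 := ndS (p := 25425) (l := 2) rfl N25425 D59388
theorem N26619 : nd 26619 = n59389 := ndS (p := 25425) (l := 4) rfl N25425 D59389
theorem N26620 : nd 26620 = n59390 := ndS (p := 25426) (l := 1) rfl N25426 D59390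
theorem N26621 : nd 26621 = n59391 := ndS (p := 25427) (l := 1) rfl N25427 D59391
theorem N26622 : nd 26622 = n59392 := ndS (p := 25427) (l := 4) rfl N25427 D59392
theorem N26623 : nd 26623 = n59393 := ndS (p := 25429) (l := 0) rfl N25429 D59393
theorem N26624 : nd 26624 = n59394 := ndS (p := 25430) (l := 1) rfl N25430 D59394
theorem N26625 : nd 26625 = n59395 := ndS (p := 25431) (l := 0) rfl N25431 D59395
theorem N26626 : nd 26626 = n59396 := ndS (p := 25433) (l := 2) rfl N25433 D59396
theorem N26627 : nd 26627 = n59397 := ndS (p := 25433) (l := 4) rfl N25433 D59397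
theorem N26628 : nd 26628 = n59398 := ndS (p := 25434) (l := 1) rfl N25434 D59398
theorem N26629 : nd 26629 = n59399 := ndS (p := 25435) (l := 1) rfl N25435 D59399
theorem N26630 : nd 26630 = n59400 := ndS (p := 25435) (l := 4) rfl N25435 D59400
theorem N26631 : nd 26631 = n59401 := ndS (p := 25437) (l := 0) rfl N25437 D59401
theorem N26632 : nd 26632 = n59402 := ndS (p := 25438) (l := 1) rfl N25438 D59402
theorem N26633 : nd 26633 = n59403 := ndS (p := 25438) (l := 4) rfl N25438 D59403
theorem N26634 : nd 26634 = n59404 := ndS (p := 25440) (l := 0) rfl N25440 D59404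
theorem N26635 : nd 26635 = n59405 := ndS (p := 25441) (l := 0) rfl N25441 D59405
theorem N26636 : nd 26636 = n59406 := ndS (p := 25441) (l := 4) rfl N25441 D59406
theorem N26637 : nd 26637 = n59407 := ndS (p := 25446) (l := 1) rfl N25446 D59407
theorem N26638 : nd 26638 = n59408 := ndS (p := 25446) (l := 4) rfl N25446 D59408
theorem N26639 : nd 26639 = n59409 := ndS (p := 25448) (l := 0) rfl N25448 D59409
theorem N26640 : nd 26640 = n59410 := ndS (p := 25449) (l := 0) rfl N25449 D59410
theorem N26641 : nd 26641 = n59411 := ndS (p := 25451) (l := 1) rfl N25451 D59411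
theorem N26642 : nd 26642 = n59412 := ndS (p := 25452) (l := 1) rfl N25452 D59412
theorem N26643 : nd 26643 = n59413 := ndS (p := 25452) (l := 4) rfl N25452 D59413
theorem N26644 : nd 26644 = n59414 := ndS (p := 25454) (l := 0) rfl N25454 D59414
theorem N26645 : nd 26645 = n59415 := ndS (p := 25455) (l := 1) rfl N25455 D59415
theorem N26646 : nd 26646 = n59416 := ndS (p := 25456) (l := 0) rfl N25456 D59416
theorem N26647 : nd 26647 = n59417 := ndS (p := 25458) (l := 1) rfl N25458 D59417
theorem N26648 : nd 26648 = n59418 := ndS (p := 25459) (l := 1) rfl N25459 D59418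
theorem N26649 : nd 26649 = n59419 := ndS (p := 25460) (l := 0) rfl N25460 D59419
theorem N26650 : nd 26650 = n59420 := ndS (p := 25461) (l := 1) rfl N25461 D59420
theorem N26651 : nd 26651 = n59421 := ndS (p := 25462) (l := 0) rfl N25462 D59421
theorem N26652 : nd 26652 = n59422 := ndS (p := 25464) (l := 2) rfl N25464 D59422
theorem N26653 : nd 26653 = n59423 := ndS (p := 25464) (l := 4) rfl N25464 D59423
theorem N26654 : nd 26654 = n59424 := ndS (p := 25466) (l := 2) rfl N25466 D59424
theorem N26655 : nd 26655 = n59425 := ndS (p := 25466) (l := 4) rfl N25466 D59425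
theorem N26656 : nd 26656 = n59426 := ndS (p := 25467) (l := 1) rfl N25467 D59426
theorem N26657 : nd 26657 = n59427 := ndS (p := 25467) (l := 4) rfl N25467 D59427
theorem N26658 : nd 26658 = n59428 := ndS (p := 25469) (l := 3) rfl N25469 D59428
theorem N26659 : nd 26659 = n59429 := ndS (p := 25470) (l := 2) rfl N25470 D59429
theorem N26660 : nd 26660 = n59430 := ndS (p := 25470) (l := 4) rfl N25470 D59430
theorem N26661 : nd 26661 = n59431 := ndS (p := 25471) (l := 1) rfl N25471 D59431
theorem N26662 : nd 26662 = n59432 := ndS (p := 25471) (l := 4) rfl N25471 D59432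
theorem N26663 : nd 26663 = n59433 := ndS (p := 25473) (l := 0) rfl N25473 D59433
theorem N26664 : nd 26664 = n59434 := ndS (p := 25473) (l := 4) rfl N25473 D59434
theorem N26665 : nd 26665 = n59435 := ndS (p := 25476) (l := 2) rfl N25476 D59435
theorem N26666 : nd 26666 = n59436 := ndS (p := 25476) (l := 4) rfl N25476 D59436
theorem N26667 : nd 26667 = n59437 := ndS (p := 25477) (l := 1) rfl N25477 D59437
theorem N26668 : nd 26668 = n59438 := ndS (p := 25478) (l := 1) rfl N25478 D59438
theorem N26669 : nd 26669 = n59439 := ndS (p := 25478) (l := 4) rfl N25478 D59439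
theorem N26670 : nd 26670 = n59440 := ndS (p := 25480) (l := 0) rfl N25480 D59440
theorem N26671 : nd 26671 = n59441 := ndS (p := 25481) (l := 1) rfl N25481 D59441
theorem N26672 : nd 26672 = n59442 := ndS (p := 25482) (l := 1) rfl N25482 D59442
theorem N26673 : nd 26673 = n59443 := ndS (p := 25483) (l := 0) rfl N25483 D59443
theorem N26674 : nd 26674 = n59444 := ndS (p := 25485) (l := 1) rfl N25485 D59444
theorem N26675 : nd 26675 = n59445 := ndS (p := 25486) (l := 2) rfl N25486 D59445
theorem N26676 : nd 26676 = n59446 := ndS (p := 25486) (l := 4) rfl N25486 D59446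
theorem N26677 : nd 26677 = n59447 := ndS (p := 25487) (l := 2) rfl N25487 D59447
theorem N26678 : nd 26678 = n59448 := ndS (p := 25487) (l := 4) rfl N25487 D59448
theorem N26679 : nd 26679 = n59449 := ndS (p := 25488) (l := 1) rfl N25488 D59449
theorem N26680 : nd 26680 = n59450 := ndS (p := 25489) (l := 1) rfl N25489 D59450
theorem N26681 : nd 26681 = n59451 := ndS (p := 25489) (l := 4) rfl N25489 D59451
theorem N26682 : nd 26682 = n59452 := ndS (p := 25491) (l := 0) rfl N25491 D59452
theorem N26683 : nd 26683 = n59453 := ndS (p := 25492) (l := 3) rfl N25492 D59453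
theorem N26684 : nd 26684 = n59454 := ndS (p := 25493) (l := 2) rfl N25493 D59454
theorem N26685 : nd 26685 = n59455 := ndS (p := 25493) (l := 4) rfl N25493 D59455
theorem N26686 : nd 26686 = n59456 := ndS (p := 25494) (l := 2) rfl N25494 D59456
theorem N26687 : nd 26687 = n59457 := ndS (p := 25494) (l := 4) rfl N25494 D59457
theorem N26688 : nd 26688 = n59458 := ndS (p := 25495) (l := 1) rfl N25495 D59458
theorem N26689 : nd 26689 = n59459 := ndS (p := 25495) (l := 4) rfl N25495 D59459
theorem N26690 : nd 26690 = n59460 := ndS (p := 25497) (l := 1) rfl N25497 D59460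
theorem N26691 : nd 26691 = n59461 := ndS (p := 25498) (l := 0) rfl N25498 D59461
theorem N26692 : nd 26692 = n59462 := ndS (p := 25499) (l := 2) rfl N25499 D59462
theorem N26693 : nd 26693 = n59463 := ndS (p := 25499) (l := 4) rfl N25499 D59463
theorem N26694 : nd 26694 = n59464 := ndS (p := 25500) (l := 1) rfl N25500 D59464
theorem N26695 : nd 26695 = n59465 := ndS (p := 25500) (l := 4) rfl N25500 D59465
theorem N26696 : nd 26696 = n59466 := ndS (p := 25501) (l := 5) rfl N25501 D59466
theorem N26697 : nd 26697 = n59467 := ndS (p := 25502) (l := 0) rfl N25502 D59467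
theorem N26698 : nd 26698 = n59468 := ndS (p := 25502) (l := 4) rfl N25502 D59468
theorem N26699 : nd 26699 = n59469 := ndS (p := 25505) (l := 1) rfl N25505 D59469
theorem N26700 : nd 26700 = n59470 := ndS (p := 25506) (l := 0) rfl N25506 D59470
theorem N26701 : nd 26701 = n59471 := ndS (p := 25510) (l := 1) rfl N25510 D59471
theorem N26702 : nd 26702 = n59472 := ndS (p := 25510) (l := 4) rfl N25510 D59472
theorem N26703 : nd 26703 = n59473 := ndS (p := 25512) (l := 0) rfl N25512 D59473
theorem N26704 : nd 26704 = n59474 := ndS (p := 25513) (l := 1) rfl N25513 D59474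
theorem N26705 : nd 26705 = n59475 := ndS (p := 25513) (l := 4) rfl N25513 D59475
theorem N26706 : nd 26706 = n59476 := ndS (p := 25515) (l := 0) rfl N25515 D59476
theorem N26707 : nd 26707 = n59477 := ndS (p := 25515) (l := 4) rfl N25515 D59477
theorem N26708 : nd 26708 = n59478 := ndS (p := 25516) (l := 3) rfl N25516 D59478
theorem N26709 : nd 26709 = n59479 := ndS (p := 25518) (l := 1) rfl N25518 D59479
theorem N26710 : nd 26710 = n59480 := ndS (p := 25518) (l := 4) rfl N25518 D59480
theorem N26711 : nd 26711 = n59481 := ndS (p := 25520) (l := 0) rfl N25520 D59481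
theorem N26712 : nd 26712 = n59482 := ndS (p := 25521) (l := 0) rfl N25521 D59482
theorem N26713 : nd 26713 = n59483 := ndS (p := 25522) (l := 0) rfl N25522 D59483
theorem N26714 : nd 26714 = n59484 := ndS (p := 25522) (l := 4) rfl N25522 D59484
theorem N26715 : nd 26715 = n59485 := ndS (p := 25523) (l := 5) rfl N25523 D59485
theorem N26716 : nd 26716 = n59486 := ndS (p := 25524) (l := 6) rfl N25524 D59486
theorem N26717 : nd 26717 = n59487 := ndS (p := 25525) (l := 4) rfl N25525 D59487
theorem N26718 : nd 26718 = n59488 := ndS (p := 25526) (l := 5) rfl N25526 D59488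
theorem N26719 : nd 26719 = n59489 := ndS (p := 25527) (l := 6) rfl N25527 D59489
theorem N26720 : nd 26720 = n59490 := ndS (p := 25529) (l := 1) rfl N25529 D59490
theorem N26721 : nd 26721 = n59491 := ndS (p := 25530) (l := 0) rfl N25530 D59491
theorem N26722 : nd 26722 = n59492 := ndS (p := 25532) (l := 1) rfl N25532 D59492
theorem N26723 : nd 26723 = n59493 := ndS (p := 25533) (l := 0) rfl N25533 D59493
theorem N26724 : nd 26724 = n59494 := ndS (p := 25534) (l := 1) rfl N25534 D59494
theorem N26725 : nd 26725 = n59495 := ndS (p := 25534) (l := 4) rfl N25534 D59495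
theorem N26726 : nd 26726 = n59496 := ndS (p := 25536) (l := 0) rfl N25536 D59496
theorem N26727 : nd 26727 = n59497 := ndS (p := 25536) (l := 4) rfl N25536 D59497
theorem N26728 : nd 26728 = n59498 := ndS (p := 25537) (l := 3) rfl N25537 D59498
theorem N26729 : nd 26729 = n59499 := ndS (p := 25539) (l := 2) rfl N25539 D59499
theorem N26730 : nd 26730 = n59500 := ndS (p := 25539) (l := 4) rfl N25539 D59500
theorem N26731 : nd 26731 = n59501 := ndS (p := 25540) (l := 1) rfl N25540 D59501
theorem N26732 : nd 26732 = n59502 := ndS (p := 25540) (l := 4) rfl N25540 D59502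
theorem N26733 : nd 26733 = n59503 := ndS (p := 25541) (l := 5) rfl N25541 D59503
theorem N26734 : nd 26734 = n59504 := ndS (p := 25542) (l := 1) rfl N25542 D59504
theorem N26735 : nd 26735 = n59505 := ndS (p := 25542) (l := 4) rfl N25542 D59505
theorem N26736 : nd 26736 = n59506 := ndS (p := 25544) (l := 0) rfl N25544 D59506
theorem N26737 : nd 26737 = n59507 := ndS (p := 25544) (l := 4) rfl N25544 D59507
theorem N26738 : nd 26738 = n59508 := ndS (p := 25545) (l := 3) rfl N25545 D59508
theorem N26739 : nd 26739 = n59509 := ndS (p := 25546) (l := 0) rfl N25546 D59509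
theorem N26740 : nd 26740 = n59510 := ndS (p := 25548) (l := 1) rfl N25548 D59510
theorem N26741 : nd 26741 = n59511 := ndS (p := 25549) (l := 5) rfl N25549 D59511
theorem N26742 : nd 26742 = n59512 := ndS (p := 25550) (l := 0) rfl N25550 D59512
theorem N26743 : nd 26743 = n59513 := ndS (p := 25550) (l := 4) rfl N25550 D59513
theorem N26744 : nd 26744 = n59514 := ndS (p := 25553) (l := 4) rfl N25553 D59514
theorem N26745 : nd 26745 = n59515 := ndS (p := 25554) (l := 5) rfl N25554 D59515
theorem N26746 : nd 26746 = n59516 := ndS (p := 25556) (l := 5) rfl N25556 D59516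
theorem N26747 : nd 26747 = n59517 := ndS (p := 25558) (l := 0) rfl N25558 D59517
theorem N26748 : nd 26748 = n59518 := ndS (p := 25565) (l := 5) rfl N25565 D59518
theorem N26749 : nd 26749 = n59519 := ndS (p := 25567) (l := 2) rfl N25567 D59519
theorem N26750 : nd 26750 = n59520 := ndS (p := 25567) (l := 4) rfl N25567 D59520
theorem N26751 : nd 26751 = n59521 := ndS (p := 25568) (l := 1) rfl N25568 D59521
theorem N26752 : nd 26752 = n59522 := ndS (p := 25570) (l := 2) rfl N25570 D59522
theorem N26753 : nd 26753 = n59523 := ndS (p := 25571) (l := 1) rfl N25571 D59523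
theorem N26754 : nd 26754 = n59524 := ndS (p := 25572) (l := 2) rfl N25572 D59524
theorem N26755 : nd 26755 = n59525 := ndS (p := 25573) (l := 1) rfl N25573 D59525
theorem N26756 : nd 26756 = n59526 := ndS (p := 25574) (l := 1) rfl N25574 D59526
theorem N26757 : nd 26757 = n59527 := ndS (p := 25574) (l := 4) rfl N25574 D59527
theorem N26758 : nd 26758 = n59528 := ndS (p := 25576) (l := 0) rfl N25576 D59528
theorem N26759 : nd 26759 = n59529 := ndS (p := 25577) (l := 3) rfl N25577 D59529
theorem N26760 : nd 26760 = n59530 := ndS (p := 25578) (l := 8) rfl N25578 D59530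
theorem N26761 : nd 26761 = n59531 := ndS (p := 25579) (l := 1) rfl N25579 D59531
theorem N26762 : nd 26762 = n59532 := ndS (p := 25580) (l := 0) rfl N25580 D59532
theorem N26763 : nd 26763 = n59533 := ndS (p := 25581) (l := 1) rfl N25581 D59533
theorem N26764 : nd 26764 = n59534 := ndS (p := 25582) (l := 1) rfl N25582 D59534
theorem N26765 : nd 26765 = n59535 := ndS (p := 25582) (l := 4) rfl N25582 D59535
theorem N26766 : nd 26766 = n59536 := ndS (p := 25584) (l := 0) rfl N25584 D59536
theorem N26767 : nd 26767 = n59537 := ndS (p := 25586) (l := 0) rfl N25586 D59537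
theorem N26768 : nd 26768 = n59538 := ndS (p := 25587) (l := 0) rfl N25587 D59538
theorem N26769 : nd 26769 = n59539 := ndS (p := 25588) (l := 2) rfl N25588 D59539
theorem N26770 : nd 26770 = n59540 := ndS (p := 25589) (l := 1) rfl N25589 D59540
theorem N26771 : nd 26771 = n59541 := ndS (p := 25589) (l := 4) rfl N25589 D59541
theorem N26772 : nd 26772 = n59542 := ndS (p := 25591) (l := 0) rfl N25591 D59542
theorem N26773 : nd 26773 = n59543 := ndS (p := 25591) (l := 4) rfl N25591 D59543
theorem N26774 : nd 26774 = n59544 := ndS (p := 25592) (l := 3) rfl N25592 D59544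
theorem N26775 : nd 26775 = n59545 := ndS (p := 25594) (l := 3) rfl N25594 D59545
theorem N26776 : nd 26776 = n59546 := ndS (p := 25595) (l := 8) rfl N25595 D59546
theorem N26777 : nd 26777 = n59547 := ndS (p := 25596) (l := 9) rfl N25596 D59547
theorem N26778 : nd 26778 = n59548 := ndS (p := 25597) (l := 3) rfl N25597 D59548
theorem N26779 : nd 26779 = n59549 := ndS (p := 25598) (l := 2) rfl N25598 D59549
theorem N26780 : nd 26780 = n59550 := ndS (p := 25599) (l := 3) rfl N25599 D59550
theorem N26781 : nd 26781 = n59551 := ndS (p := 25600) (l := 2) rfl N25600 D59551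
theorem N26782 : nd 26782 = n59552 := ndS (p := 25600) (l := 4) rfl N25600 D59552
theorem N26783 : nd 26783 = n59553 := ndS (p := 25601) (l := 3) rfl N25601 D59553
theorem N26784 : nd 26784 = n59554 := ndS (p := 25602) (l := 3) rfl N25602 D59554
theorem N26785 : nd 26785 = n59555 := ndS (p := 25603) (l := 2) rfl N25603 D59555
theorem N26786 : nd 26786 = n59556 := ndS (p := 25603) (l := 4) rfl N25603 D59556
theorem N26787 : nd 26787 = n59557 := ndS (p := 25604) (l := 5) rfl N25604 D59557
theorem N26788 : nd 26788 = n59558 := ndS (p := 25605) (l := 2) rfl N25605 D59558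
theorem N26789 : nd 26789 = n59559 := ndS (p := 25605) (l := 4) rfl N25605 D59559
theorem N26790 : nd 26790 = n59560 := ndS (p := 25606) (l := 1) rfl N25606 D59560
theorem N26791 : nd 26791 = n59561 := ndS (p := 25607) (l := 2) rfl N25607 D59561
theorem N26792 : nd 26792 = n59562 := ndS (p := 25608) (l := 3) rfl N25608 D59562
theorem N26793 : nd 26793 = n59563 := ndS (p := 25609) (l := 2) rfl N25609 D59563
theorem N26794 : nd 26794 = n59564 := ndS (p := 25609) (l := 4) rfl N25609 D59564
theorem N26795 : nd 26795 = n59565 := ndS (p := 25610) (l := 5) rfl N25610 D59565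
theorem N26796 : nd 26796 = n59566 := ndS (p := 25611) (l := 3) rfl N25611 D59566
theorem N26797 : nd 26797 = n59567 := ndS (p := 25612) (l := 2) rfl N25612 D59567
theorem N26798 : nd 26798 = n59568 := ndS (p := 25612) (l := 4) rfl N25612 D59568
theorem N26799 : nd 26799 = n59569 := ndS (p := 25613) (l := 1) rfl N25613 D59569
theorem N26800 : nd 26800 = n59570 := ndS (p := 25614) (l := 3) rfl N25614 D59570
theorem N26801 : nd 26801 = n59571 := ndS (p := 25615) (l := 2) rfl N25615 D59571
theorem N26802 : nd 26802 = n59572 := ndS (p := 25615) (l := 4) rfl N25615 D59572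
theorem N26803 : nd 26803 = n59573 := ndS (p := 25616) (l := 1) rfl N25616 D59573
theorem N26804 : nd 26804 = n59574 := ndS (p := 25616) (l := 4) rfl N25616 D59574
theorem N26805 : nd 26805 = n59575 := ndS (p := 25617) (l := 5) rfl N25617 D59575
theorem N26806 : nd 26806 = n59576 := ndS (p := 25619) (l := 1) rfl N25619 D59576
theorem N26807 : nd 26807 = n59577 := ndS (p := 25619) (l := 4) rfl N25619 D59577
theorem N26808 : nd 26808 = n59578 := ndS (p := 25621) (l := 0) rfl N25621 D59578
theorem N26809 : nd 26809 = n59579 := ndS (p := 25622) (l := 6) rfl N25622 D59579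
theorem N26810 : nd 26810 = n59580 := ndS (p := 25623) (l := 2) rfl N25623 D59580
theorem N26811 : nd 26811 = n59581 := ndS (p := 25623) (l := 4) rfl N25623 D59581
theorem N26812 : nd 26812 = n59582 := ndS (p := 25624) (l := 4) rfl N25624 D59582
theorem N26813 : nd 26813 = n59583 := ndS (p := 25626) (l := 3) rfl N25626 D59583
theorem N26814 : nd 26814 = n59584 := ndS (p := 25627) (l := 1) rfl N25627 D59584
theorem N26815 : nd 26815 = n59585 := ndS (p := 25628) (l := 2) rfl N25628 D59585
theorem N26816 : nd 26816 = n59586 := ndS (p := 25628) (l := 4) rfl N25628 D59586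
theorem N26817 : nd 26817 = n59587 := ndS (p := 25629) (l := 1) rfl N25629 D59587
theorem N26818 : nd 26818 = n59588 := ndS (p := 25629) (l := 4) rfl N25629 D59588
theorem N26819 : nd 26819 = n59589 := ndS (p := 25630) (l := 5) rfl N25630 D59589
theorem N26820 : nd 26820 = n59590 := ndS (p := 25631) (l := 6) rfl N25631 D59590
theorem N26821 : nd 26821 = n59591 := ndS (p := 25632) (l := 2) rfl N25632 D59591
theorem N26822 : nd 26822 = n59592 := ndS (p := 25632) (l := 4) rfl N25632 D59592
theorem N26823 : nd 26823 = n59593 := ndS (p := 25633) (l := 1) rfl N25633 D59593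
theorem N26824 : nd 26824 = n59594 := ndS (p := 25633) (l := 4) rfl N25633 D59594
theorem N26825 : nd 26825 = n59595 := ndS (p := 25635) (l := 0) rfl N25635 D59595
theorem N26826 : nd 26826 = n59596 := ndS (p := 25636) (l := 3) rfl N25636 D59596
theorem N26827 : nd 26827 = n59597 := ndS (p := 25637) (l := 2) rfl N25637 D59597
theorem N26828 : nd 26828 = n59598 := ndS (p := 25637) (l := 4) rfl N25637 D59598
theorem N26829 : nd 26829 = n59599 := ndS (p := 25638) (l := 1) rfl N25638 D59599
theorem N26830 : nd 26830 = n59600 := ndS (p := 25638) (l := 4) rfl N25638 D59600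
theorem N26831 : nd 26831 = n59601 := ndS (p := 25640) (l := 3) rfl N25640 D59601
theorem N26832 : nd 26832 = n59602 := ndS (p := 25641) (l := 2) rfl N25641 D59602
theorem N26833 : nd 26833 = n59603 := ndS (p := 25641) (l := 4) rfl N25641 D59603
theorem N26834 : nd 26834 = n59604 := ndS (p := 25642) (l := 2) rfl N25642 D59604
theorem N26835 : nd 26835 = n59605 := ndS (p := 25642) (l := 4) rfl N25642 D59605
theorem N26836 : nd 26836 = n59606 := ndS (p := 25643) (l := 1) rfl N25643 D59606
theorem N26837 : nd 26837 = n59607 := ndS (p := 25643) (l := 4) rfl N25643 D59607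
theorem N26838 : nd 26838 = n59608 := ndS (p := 25644) (l := 5) rfl N25644 D59608
theorem N26839 : nd 26839 = n59609 := ndS (p := 25645) (l := 1) rfl N25645 D59609
theorem N26840 : nd 26840 = n59610 := ndS (p := 25645) (l := 4) rfl N25645 D59610
theorem N26841 : nd 26841 = n59611 := ndS (p := 25646) (l := 5) rfl N25646 D59611
theorem N26842 : nd 26842 = n59612 := ndS (p := 25647) (l := 0) rfl N25647 D59612
theorem N26843 : nd 26843 = n59613 := ndS (p := 25647) (l := 4) rfl N25647 D59613
theorem N26844 : nd 26844 = n59614 := ndS (p := 25648) (l := 5) rfl N25648 D59614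
theorem N26845 : nd 26845 = n59615 := ndS (p := 25649) (l := 6) rfl N25649 D59615
theorem N26846 : nd 26846 = n59616 := ndS (p := 25651) (l := 0) rfl N25651 D59616
theorem N26847 : nd 26847 = n59617 := ndS (p := 25651) (l := 4) rfl N25651 D59617
theorem N26848 : nd 26848 = n59618 := ndS (p := 25652) (l := 3) rfl N25652 D59618
theorem N26849 : nd 26849 = n59619 := ndS (p := 25654) (l := 4) rfl N25654 D59619
theorem N26850 : nd 26850 = n59620 := ndS (p := 25655) (l := 5) rfl N25655 D59620
theorem N26851 : nd 26851 = n59621 := ndS (p := 25656) (l := 6) rfl N25656 D59621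
theorem N26852 : nd 26852 = n59622 := ndS (p := 25658) (l := 4) rfl N25658 D59622
theorem N26853 : nd 26853 = n59623 := ndS (p := 25659) (l := 5) rfl N25659 D59623
theorem N26854 : nd 26854 = n59624 := ndS (p := 25660) (l := 3) rfl N25660 D59624
theorem N26855 : nd 26855 = n59625 := ndS (p := 25661) (l := 3) rfl N25661 D59625
theorem N26856 : nd 26856 = n59626 := ndS (p := 25663) (l := 8) rfl N25663 D59626
theorem N26857 : nd 26857 = n59627 := ndS (p := 25666) (l := 8) rfl N25666 D59627
theorem N26858 : nd 26858 = n59628 := ndS (p := 25667) (l := 9) rfl N25667 D59628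
theorem N26859 : nd 26859 = n59629 := ndS (p := 25669) (l := 4) rfl N25669 D59629
theorem N26860 : nd 26860 = n59630 := ndS (p := 25671) (l := 5) rfl N25671 D59630
theorem N26861 : nd 26861 = n59631 := ndS (p := 25673) (l := 2) rfl N25673 D59631
theorem N26862 : nd 26862 = n59632 := ndS (p := 25674) (l := 1) rfl N25674 D59632
theorem N26863 : nd 26863 = n59633 := ndS (p := 25675) (l := 3) rfl N25675 D59633
theorem N26864 : nd 26864 = n59634 := ndS (p := 25677) (l := 3) rfl N25677 D59634
theorem N26865 : nd 26865 = n59635 := ndS (p := 25678) (l := 2) rfl N25678 D59635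
theorem N26866 : nd 26866 = n59636 := ndS (p := 25679) (l := 2) rfl N25679 D59636
theorem N26867 : nd 26867 = n59637 := ndS (p := 25679) (l := 4) rfl N25679 D59637
theorem N26868 : nd 26868 = n59638 := ndS (p := 25681) (l := 1) rfl N25681 D59638
theorem N26869 : nd 26869 = n59639 := ndS (p := 25682) (l := 2) rfl N25682 D59639
theorem N26870 : nd 26870 = n59640 := ndS (p := 25682) (l := 4) rfl N25682 D59640
theorem N26871 : nd 26871 = n59641 := ndS (p := 25683) (l := 1) rfl N25683 D59641
theorem N26872 : nd 26872 = n59642 := ndS (p := 25683) (l := 4) rfl N25683 D59642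
theorem N26873 : nd 26873 = n59643 := ndS (p := 25685) (l := 1) rfl N25685 D59643
theorem N26874 : nd 26874 = n59644 := ndS (p := 25685) (l := 4) rfl N25685 D59644
theorem N26875 : nd 26875 = n59645 := ndS (p := 25687) (l := 0) rfl N25687 D59645
theorem N26876 : nd 26876 = n59646 := ndS (p := 25688) (l := 2) rfl N25688 D59646
theorem N26877 : nd 26877 = n59647 := ndS (p := 25688) (l := 4) rfl N25688 D59647
theorem N26878 : nd 26878 = n59648 := ndS (p := 25689) (l := 1) rfl N25689 D59648
theorem N26879 : nd 26879 = n59649 := ndS (p := 25690) (l := 1) rfl N25690 D59649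
theorem N26880 : nd 26880 = n59650 := ndS (p := 25691) (l := 2) rfl N25691 D59650
theorem N26881 : nd 26881 = n59651 := ndS (p := 25691) (l := 4) rfl N25691 D59651
theorem N26882 : nd 26882 = n59652 := ndS (p := 25692) (l := 1) rfl N25692 D59652
theorem N26883 : nd 26883 = n59653 := ndS (p := 25692) (l := 4) rfl N25692 D59653
theorem N26884 : nd 26884 = n59654 := ndS (p := 25694) (l := 1) rfl N25694 D59654
theorem N26885 : nd 26885 = n59655 := ndS (p := 25694) (l := 4) rfl N25694 D59655
theorem N26886 : nd 26886 = n59656 := ndS (p := 25696) (l := 0) rfl N25696 D59656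
theorem N26887 : nd 26887 = n59657 := ndS (p := 25697) (l := 2) rfl N25697 D59657
theorem N26888 : nd 26888 = n59658 := ndS (p := 25697) (l := 4) rfl N25697 D59658
theorem N26889 : nd 26889 = n59659 := ndS (p := 25698) (l := 1) rfl N25698 D59659
theorem N26890 : nd 26890 = n59660 := ndS (p := 25699) (l := 0) rfl N25699 D59660
theorem N26891 : nd 26891 = n59661 := ndS (p := 25700) (l := 0) rfl N25700 D59661
theorem N26892 : nd 26892 = n59662 := ndS (p := 25700) (l := 4) rfl N25700 D59662
theorem N26893 : nd 26893 = n59663 := ndS (p := 25702) (l := 2) rfl N25702 D59663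
theorem N26894 : nd 26894 = n59664 := ndS (p := 25702) (l := 4) rfl N25702 D59664
theorem N26895 : nd 26895 = n59665 := ndS (p := 25703) (l := 1) rfl N25703 D59665
theorem N26896 : nd 26896 = n59666 := ndS (p := 25703) (l := 4) rfl N25703 D59666
theorem N26897 : nd 26897 = n59667 := ndS (p := 25705) (l := 0) rfl N25705 D59667
theorem N26898 : nd 26898 = n59668 := ndS (p := 25705) (l := 4) rfl N25705 D59668
theorem N26899 : nd 26899 = n59669 := ndS (p := 25709) (l := 3) rfl N25709 D59669
theorem N26900 : nd 26900 = n59670 := ndS (p := 25710) (l := 4) rfl N25710 D59670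
theorem N26901 : nd 26901 = n59671 := ndS (p := 25711) (l := 3) rfl N25711 D59671
theorem N26902 : nd 26902 = n59672 := ndS (p := 25712) (l := 3) rfl N25712 D59672
theorem N26903 : nd 26903 = n59673 := ndS (p := 25713) (l := 2) rfl N25713 D59673
theorem N26904 : nd 26904 = n59674 := ndS (p := 25713) (l := 4) rfl N25713 D59674
theorem N26905 : nd 26905 = n59675 := ndS (p := 25714) (l := 5) rfl N25714 D59675
theorem N26906 : nd 26906 = n59676 := ndS (p := 25715) (l := 3) rfl N25715 D59676
theorem N26907 : nd 26907 = n59677 := ndS (p := 25716) (l := 2) rfl N25716 D59677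
theorem N26908 : nd 26908 = n59678 := ndS (p := 25716) (l := 4) rfl N25716 D59678
theorem N26909 : nd 26909 = n59679 := ndS (p := 25717) (l := 1) rfl N25717 D59679
theorem N26910 : nd 26910 = n59680 := ndS (p := 25718) (l := 3) rfl N25718 D59680
theorem N26911 : nd 26911 = n59681 := ndS (p := 25719) (l := 4) rfl N25719 D59681
theorem N26912 : nd 26912 = n59682 := ndS (p := 25720) (l := 2) rfl N25720 D59682
theorem N26913 : nd 26913 = n59683 := ndS (p := 25720) (l := 4) rfl N25720 D59683
theorem N26914 : nd 26914 = n59684 := ndS (p := 25721) (l := 4) rfl N25721 D59684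
theorem N26915 : nd 26915 = n59685 := ndS (p := 25722) (l := 5) rfl N25722 D59685
theorem N26916 : nd 26916 = n59686 := ndS (p := 25723) (l := 2) rfl N25723 D59686
theorem N26917 : nd 26917 = n59687 := ndS (p := 25723) (l := 4) rfl N25723 D59687
theorem N26918 : nd 26918 = n59688 := ndS (p := 25724) (l := 2) rfl N25724 D59688
theorem N26919 : nd 26919 = n59689 := ndS (p := 25724) (l := 4) rfl N25724 D59689
theorem N26920 : nd 26920 = n59690 := ndS (p := 25725) (l := 1) rfl N25725 D59690
theorem N26921 : nd 26921 = n59691 := ndS (p := 25725) (l := 4) rfl N25725 D59691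
theorem N26922 : nd 26922 = n59692 := ndS (p := 25726) (l := 5) rfl N25726 D59692
theorem N26923 : nd 26923 = n59693 := ndS (p := 25727) (l := 6) rfl N25727 D59693
theorem N26924 : nd 26924 = n59694 := ndS (p := 25728) (l := 1) rfl N25728 D59694
theorem N26925 : nd 26925 = n59695 := ndS (p := 25728) (l := 4) rfl N25728 D59695
theorem N26926 : nd 26926 = n59696 := ndS (p := 25730) (l := 0) rfl N25730 D59696
theorem N26927 : nd 26927 = n59697 := ndS (p := 25731) (l := 3) rfl N25731 D59697
theorem N26928 : nd 26928 = n59698 := ndS (p := 25732) (l := 2) rfl N25732 D59698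
theorem N26929 : nd 26929 = n59699 := ndS (p := 25732) (l := 4) rfl N25732 D59699
theorem N26930 : nd 26930 = n59700 := ndS (p := 25733) (l := 1) rfl N25733 D59700
theorem N26931 : nd 26931 = n59701 := ndS (p := 25734) (l := 2) rfl N25734 D59701
theorem N26932 : nd 26932 = n59702 := ndS (p := 25734) (l := 4) rfl N25734 D59702
theorem N26933 : nd 26933 = n59703 := ndS (p := 25736) (l := 2) rfl N25736 D59703
theorem N26934 : nd 26934 = n59704 := ndS (p := 25736) (l := 4) rfl N25736 D59704
theorem N26935 : nd 26935 = n59705 := ndS (p := 25737) (l := 1) rfl N25737 D59705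
theorem N26936 : nd 26936 = n59706 := ndS (p := 25737) (l := 4) rfl N25737 D59706
theorem N26937 : nd 26937 = n59707 := ndS (p := 25738) (l := 5) rfl N25738 D59707
theorem N26938 : nd 26938 = n59708 := ndS (p := 25740) (l := 2) rfl N25740 D59708
theorem N26939 : nd 26939 = n59709 := ndS (p := 25740) (l := 4) rfl N25740 D59709
theorem N26940 : nd 26940 = n59710 := ndS (p := 25741) (l := 1) rfl N25741 D59710
theorem N26941 : nd 26941 = n59711 := ndS (p := 25741) (l := 4) rfl N25741 D59711
theorem N26942 : nd 26942 = n59712 := ndS (p := 25743) (l := 0) rfl N25743 D59712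
theorem N26943 : nd 26943 = n59713 := ndS (p := 25744) (l := 2) rfl N25744 D59713
theorem N26944 : nd 26944 = n59714 := ndS (p := 25744) (l := 4) rfl N25744 D59714
theorem N26945 : nd 26945 = n59715 := ndS (p := 25745) (l := 1) rfl N25745 D59715
theorem N26946 : nd 26946 = n59716 := ndS (p := 25745) (l := 4) rfl N25745 D59716
theorem N26947 : nd 26947 = n59717 := ndS (p := 25747) (l := 2) rfl N25747 D59717
theorem N26948 : nd 26948 = n59718 := ndS (p := 25748) (l := 2) rfl N25748 D59718
theorem N26949 : nd 26949 = n59719 := ndS (p := 25748) (l := 4) rfl N25748 D59719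
theorem N26950 : nd 26950 = n59720 := ndS (p := 25749) (l := 1) rfl N25749 D59720
theorem N26951 : nd 26951 = n59721 := ndS (p := 25749) (l := 4) rfl N25749 D59721
theorem N26952 : nd 26952 = n59722 := ndS (p := 25750) (l := 5) rfl N25750 D59722
theorem N26953 : nd 26953 = n59723 := ndS (p := 25751) (l := 1) rfl N25751 D59723
theorem N26954 : nd 26954 = n59724 := ndS (p := 25752) (l := 0) rfl N25752 D59724
theorem N26955 : nd 26955 = n59725 := ndS (p := 25752) (l := 4) rfl N25752 D59725
theorem N26956 : nd 26956 = n59726 := ndS (p := 25753) (l := 5) rfl N25753 D59726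
theorem N26957 : nd 26957 = n59727 := ndS (p := 25755) (l := 2) rfl N25755 D59727
theorem N26958 : nd 26958 = n59728 := ndS (p := 25755) (l := 4) rfl N25755 D59728
theorem N26959 : nd 26959 = n59729 := ndS (p := 25756) (l := 1) rfl N25756 D59729
theorem N26960 : nd 26960 = n59730 := ndS (p := 25756) (l := 4) rfl N25756 D59730
theorem N26961 : nd 26961 = n59731 := ndS (p := 25758) (l := 0) rfl N25758 D59731
theorem N26962 : nd 26962 = n59732 := ndS (p := 25758) (l := 4) rfl N25758 D59732
theorem N26963 : nd 26963 = n59733 := ndS (p := 25759) (l := 3) rfl N25759 D59733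
theorem N26964 : nd 26964 = n59734 := ndS (p := 25761) (l := 5) rfl N25761 D59734
theorem N26965 : nd 26965 = n59735 := ndS (p := 25762) (l := 3) rfl N25762 D59735
theorem N26966 : nd 26966 = n59736 := ndS (p := 25764) (l := 8) rfl N25764 D59736
theorem N26967 : nd 26967 = n59737 := ndS (p := 25765) (l := 3) rfl N25765 D59737
theorem N26968 : nd 26968 = n59738 := ndS (p := 25766) (l := 2) rfl N25766 D59738
theorem N26969 : nd 26969 = n59739 := ndS (p := 25766) (l := 4) rfl N25766 D59739
theorem N26970 : nd 26970 = n59740 := ndS (p := 25767) (l := 1) rfl N25767 D59740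
theorem N26971 : nd 26971 = n59741 := ndS (p := 25767) (l := 4) rfl N25767 D59741
theorem N26972 : nd 26972 = n59742 := ndS (p := 25769) (l := 0) rfl N25769 D59742
theorem N26973 : nd 26973 = n59743 := ndS (p := 25770) (l := 2) rfl N25770 D59743
theorem N26974 : nd 26974 = n59744 := ndS (p := 25770) (l := 4) rfl N25770 D59744
theorem N26975 : nd 26975 = n59745 := ndS (p := 25772) (l := 1) rfl N25772 D59745
theorem N26976 : nd 26976 = n59746 := ndS (p := 25772) (l := 4) rfl N25772 D59746
theorem N26977 : nd 26977 = n59747 := ndS (p := 25773) (l := 5) rfl N25773 D59747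
theorem N26978 : nd 26978 = n59748 := ndS (p := 25775) (l := 0) rfl N25775 D59748
theorem N26979 : nd 26979 = n59749 := ndS (p := 25775) (l := 4) rfl N25775 D59749
theorem N26980 : nd 26980 = n59750 := ndS (p := 25776) (l := 5) rfl N25776 D59750
theorem N26981 : nd 26981 = n59751 := ndS (p := 25777) (l := 6) rfl N25777 D59751
theorem N26982 : nd 26982 = n59752 := ndS (p := 25779) (l := 2) rfl N25779 D59752
theorem N26983 : nd 26983 = n59753 := ndS (p := 25779) (l := 4) rfl N25779 D59753
theorem N26984 : nd 26984 = n59754 := ndS (p := 25780) (l := 1) rfl N25780 D59754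
theorem N26985 : nd 26985 = n59755 := ndS (p := 25780) (l := 4) rfl N25780 D59755
theorem N26986 : nd 26986 = n59756 := ndS (p := 25781) (l := 5) rfl N25781 D59756
theorem N26987 : nd 26987 = n59757 := ndS (p := 25782) (l := 0) rfl N25782 D59757
theorem N26988 : nd 26988 = n59758 := ndS (p := 25782) (l := 4) rfl N25782 D59758
theorem N26989 : nd 26989 = n59759 := ndS (p := 25783) (l := 3) rfl N25783 D59759
theorem N26990 : nd 26990 = n59760 := ndS (p := 25785) (l := 2) rfl N25785 D59760
theorem N26991 : nd 26991 = n59761 := ndS (p := 25786) (l := 1) rfl N25786 D59761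
theorem N26992 : nd 26992 = n59762 := ndS (p := 25786) (l := 4) rfl N25786 D59762
theorem N26993 : nd 26993 = n59763 := ndS (p := 25788) (l := 2) rfl N25788 D59763
theorem N26994 : nd 26994 = n59764 := ndS (p := 25788) (l := 4) rfl N25788 D59764
theorem N26995 : nd 26995 = n59765 := ndS (p := 25789) (l := 1) rfl N25789 D59765
theorem N26996 : nd 26996 = n59766 := ndS (p := 25789) (l := 4) rfl N25789 D59766
theorem N26997 : nd 26997 = n59767 := ndS (p := 25791) (l := 1) rfl N25791 D59767
theorem N26998 : nd 26998 = n59768 := ndS (p := 25792) (l := 0) rfl N25792 D59768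
theorem N26999 : nd 26999 = n59769 := ndS (p := 25792) (l := 4) rfl N25792 D59769
theorem N27000 : nd 27000 = n59770 := ndS (p := 25793) (l := 5) rfl N25793 D59770
theorem N27001 : nd 27001 = n59771 := ndS (p := 25795) (l := 1) rfl N25795 D59771
theorem N27002 : nd 27002 = n59772 := ndS (p := 25795) (l := 4) rfl N25795 D59772
theorem N27003 : nd 27003 = n59773 := ndS (p := 25797) (l := 0) rfl N25797 D59773
theorem N27004 : nd 27004 = n59774 := ndS (p := 25797) (l := 4) rfl N25797 D59774
theorem N27005 : nd 27005 = n59775 := ndS (p := 25798) (l := 5) rfl N25798 D59775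
theorem N27006 : nd 27006 = n59776 := ndS (p := 25799) (l := 6) rfl N25799 D59776
theorem N27007 : nd 27007 = n59777 := ndS (p := 25800) (l := 2) rfl N25800 D59777
theorem N27008 : nd 27008 = n59778 := ndS (p := 25801) (l := 1) rfl N25801 D59778
theorem N27009 : nd 27009 = n59779 := ndS (p := 25802) (l := 0) rfl N25802 D59779
theorem N27010 : nd 27010 = n59780 := ndS (p := 25803) (l := 4) rfl N25803 D59780
theorem N27011 : nd 27011 = n59781 := ndS (p := 25804) (l := 5) rfl N25804 D59781
theorem N27012 : nd 27012 = n59782 := ndS (p := 25805) (l := 6) rfl N25805 D59782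
theorem N27013 : nd 27013 = n59783 := ndS (p := 25807) (l := 1) rfl N25807 D59783
theorem N27014 : nd 27014 = n59784 := ndS (p := 25807) (l := 4) rfl N25807 D59784
theorem N27015 : nd 27015 = n59785 := ndS (p := 25809) (l := 0) rfl N25809 D59785
theorem N27016 : nd 27016 = n59786 := ndS (p := 25809) (l := 4) rfl N25809 D59786
theorem N27017 : nd 27017 = n59787 := ndS (p := 25811) (l := 4) rfl N25811 D59787
theorem N27018 : nd 27018 = n59788 := ndS (p := 25812) (l := 3) rfl N25812 D59788
theorem N27019 : nd 27019 = n59789 := ndS (p := 25813) (l := 8) rfl N25813 D59789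
theorem N27020 : nd 27020 = n59790 := ndS (p := 25816) (l := 3) rfl N25816 D59790
theorem N27021 : nd 27021 = n59791 := ndS (p := 25818) (l := 2) rfl N25818 D59791
theorem N27022 : nd 27022 = n59792 := ndS (p := 25819) (l := 9) rfl N25819 D59792
theorem N27023 : nd 27023 = n59793 := ndS (p := 25823) (l := 2) rfl N25823 D59793
theorem N27024 : nd 27024 = n59794 := ndS (p := 25824) (l := 1) rfl N25824 D59794
theorem N27025 : nd 27025 = n59795 := ndS (p := 25825) (l := 2) rfl N25825 D59795
theorem N27026 : nd 27026 = n59796 := ndS (p := 25826) (l := 2) rfl N25826 D59796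
theorem N27027 : nd 27027 = n59797 := ndS (p := 25826) (l := 4) rfl N25826 D59797
theorem N27028 : nd 27028 = n59798 := ndS (p := 25828) (l := 2) rfl N25828 D59798
theorem N27029 : nd 27029 = n59799 := ndS (p := 25828) (l := 4) rfl N25828 D59799
theorem N27030 : nd 27030 = n59800 := ndS (p := 25829) (l := 1) rfl N25829 D59800
theorem N27031 : nd 27031 = n59801 := ndS (p := 25831) (l := 2) rfl N25831 D59801
theorem N27032 : nd 27032 = n59802 := ndS (p := 25832) (l := 1) rfl N25832 D59802
theorem N27033 : nd 27033 = n59803 := ndS (p := 25833) (l := 1) rfl N25833 D59803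
theorem N27034 : nd 27034 = n59804 := ndS (p := 25833) (l := 4) rfl N25833 D59804
theorem N27035 : nd 27035 = n59805 := ndS (p := 25835) (l := 1) rfl N25835 D59805
theorem N27036 : nd 27036 = n59806 := ndS (p := 25835) (l := 4) rfl N25835 D59806
theorem N27037 : nd 27037 = n59807 := ndS (p := 25837) (l := 0) rfl N25837 D59807
theorem N27038 : nd 27038 = n59808 := ndS (p := 25838) (l := 3) rfl N25838 D59808
theorem N27039 : nd 27039 = n59809 := ndS (p := 25839) (l := 3) rfl N25839 D59809
theorem N27040 : nd 27040 = n59810 := ndS (p := 25840) (l := 2) rfl N25840 D59810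
theorem N27041 : nd 27041 = n59811 := ndS (p := 25840) (l := 4) rfl N25840 D59811
theorem N27042 : nd 27042 = n59812 := ndS (p := 25841) (l := 5) rfl N25841 D59812
theorem N27043 : nd 27043 = n59813 := ndS (p := 25842) (l := 2) rfl N25842 D59813
theorem N27044 : nd 27044 = n59814 := ndS (p := 25842) (l := 4) rfl N25842 D59814
theorem N27045 : nd 27045 = n59815 := ndS (p := 25843) (l := 1) rfl N25843 D59815
theorem N27046 : nd 27046 = n59816 := ndS (p := 25844) (l := 1) rfl N25844 D59816
theorem N27047 : nd 27047 = n59817 := ndS (p := 25845) (l := 2) rfl N25845 D59817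
theorem N27048 : nd 27048 = n59818 := ndS (p := 25845) (l := 4) rfl N25845 D59818
theorem N27049 : nd 27049 = n59819 := ndS (p := 25847) (l := 2) rfl N25847 D59819
theorem N27050 : nd 27050 = n59820 := ndS (p := 25847) (l := 4) rfl N25847 D59820
theorem N27051 : nd 27051 = n59821 := ndS (p := 25848) (l := 1) rfl N25848 D59821
theorem N27052 : nd 27052 = n59822 := ndS (p := 25848) (l := 4) rfl N25848 D59822
theorem N27053 : nd 27053 = n59823 := ndS (p := 25849) (l := 5) rfl N25849 D59823
theorem N27054 : nd 27054 = n59824 := ndS (p := 25851) (l := 2) rfl N25851 D59824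
theorem N27055 : nd 27055 = n59825 := ndS (p := 25851) (l := 4) rfl N25851 D59825
theorem N27056 : nd 27056 = n59826 := ndS (p := 25852) (l := 1) rfl N25852 D59826
theorem N27057 : nd 27057 = n59827 := ndS (p := 25852) (l := 4) rfl N25852 D59827
theorem N27058 : nd 27058 = n59828 := ndS (p := 25854) (l := 0) rfl N25854 D59828
theorem N27059 : nd 27059 = n59829 := ndS (p := 25856) (l := 3) rfl N25856 D59829
theorem N27060 : nd 27060 = n59830 := ndS (p := 25857) (l := 1) rfl N25857 D59830
theorem N27061 : nd 27061 = n59831 := ndS (p := 25858) (l := 0) rfl N25858 D59831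
theorem N27062 : nd 27062 = n59832 := ndS (p := 25859) (l := 1) rfl N25859 D59832
theorem N27063 : nd 27063 = n59833 := ndS (p := 25859) (l := 4) rfl N25859 D59833
theorem N27064 : nd 27064 = n59834 := ndS (p := 25861) (l := 1) rfl N25861 D59834
theorem N27065 : nd 27065 = n59835 := ndS (p := 25861) (l := 4) rfl N25861 D59835
theorem N27066 : nd 27066 = n59836 := ndS (p := 25863) (l := 0) rfl N25863 D59836
theorem N27067 : nd 27067 = n59837 := ndS (p := 25863) (l := 4) rfl N25863 D59837
theorem N27068 : nd 27068 = n59838 := ndS (p := 25864) (l := 5) rfl N25864 D59838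
theorem N27069 : nd 27069 = n59839 := ndS (p := 25866) (l := 1) rfl N25866 D59839
theorem N27070 : nd 27070 = n59840 := ndS (p := 25866) (l := 4) rfl N25866 D59840
theorem N27071 : nd 27071 = n59841 := ndS (p := 25868) (l := 0) rfl N25868 D59841
theorem N27072 : nd 27072 = n59842 := ndS (p := 25868) (l := 4) rfl N25868 D59842
theorem N27073 : nd 27073 = n59843 := ndS (p := 25869) (l := 3) rfl N25869 D59843
theorem N27074 : nd 27074 = n59844 := ndS (p := 25872) (l := 1) rfl N25872 D59844
theorem N27075 : nd 27075 = n59845 := ndS (p := 25873) (l := 1) rfl N25873 D59845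
theorem N27076 : nd 27076 = n59846 := ndS (p := 25874) (l := 3) rfl N25874 D59846
theorem N27077 : nd 27077 = n59847 := ndS (p := 25875) (l := 2) rfl N25875 D59847
theorem N27078 : nd 27078 = n59848 := ndS (p := 25876) (l := 2) rfl N25876 D59848
theorem N27079 : nd 27079 = n59849 := ndS (p := 25876) (l := 4) rfl N25876 D59849
theorem N27080 : nd 27080 = n59850 := ndS (p := 25877) (l := 1) rfl N25877 D59850
theorem N27081 : nd 27081 = n59851 := ndS (p := 25877) (l := 4) rfl N25877 D59851
theorem N27082 : nd 27082 = n59852 := ndS (p := 25879) (l := 0) rfl N25879 D59852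
theorem N27083 : nd 27083 = n59853 := ndS (p := 25880) (l := 2) rfl N25880 D59853
theorem N27084 : nd 27084 = n59854 := ndS (p := 25881) (l := 3) rfl N25881 D59854
theorem N27085 : nd 27085 = n59855 := ndS (p := 25882) (l := 3) rfl N25882 D59855
theorem N27086 : nd 27086 = n59856 := ndS (p := 25883) (l := 2) rfl N25883 D59856
theorem N27087 : nd 27087 = n59857 := ndS (p := 25883) (l := 4) rfl N25883 D59857
theorem N27088 : nd 27088 = n59858 := ndS (p := 25884) (l := 5) rfl N25884 D59858
theorem N27089 : nd 27089 = n59859 := ndS (p := 25885) (l := 2) rfl N25885 D59859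
theorem N27090 : nd 27090 = n59860 := ndS (p := 25885) (l := 4) rfl N25885 D59860
theorem N27091 : nd 27091 = n59861 := ndS (p := 25886) (l := 1) rfl N25886 D59861
theorem N27092 : nd 27092 = n59862 := ndS (p := 25887) (l := 2) rfl N25887 D59862
theorem N27093 : nd 27093 = n59863 := ndS (p := 25888) (l := 1) rfl N25888 D59863
theorem N27094 : nd 27094 = n59864 := ndS (p := 25889) (l := 2) rfl N25889 D59864
theorem N27095 : nd 27095 = n59865 := ndS (p := 25889) (l := 4) rfl N25889 D59865
theorem N27096 : nd 27096 = n59866 := ndS (p := 25891) (l := 2) rfl N25891 D59866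
theorem N27097 : nd 27097 = n59867 := ndS (p := 25891) (l := 4) rfl N25891 D59867
theorem N27098 : nd 27098 = n59868 := ndS (p := 25892) (l := 2) rfl N25892 D59868
theorem N27099 : nd 27099 = n59869 := ndS (p := 25893) (l := 1) rfl N25893 D59869
theorem N27100 : nd 27100 = n59870 := ndS (p := 25893) (l := 4) rfl N25893 D59870
theorem N27101 : nd 27101 = n59871 := ndS (p := 25894) (l := 5) rfl N25894 D59871
theorem N27102 : nd 27102 = n59872 := ndS (p := 25896) (l := 1) rfl N25896 D59872
theorem N27103 : nd 27103 = n59873 := ndS (p := 25896) (l := 4) rfl N25896 D59873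
theorem N27104 : nd 27104 = n59874 := ndS (p := 25898) (l := 0) rfl N25898 D59874
theorem N27105 : nd 27105 = n59875 := ndS (p := 25899) (l := 3) rfl N25899 D59875
theorem N27106 : nd 27106 = n59876 := ndS (p := 25900) (l := 1) rfl N25900 D59876
theorem N27107 : nd 27107 = n59877 := ndS (p := 25901) (l := 1) rfl N25901 D59877
theorem N27108 : nd 27108 = n59878 := ndS (p := 25902) (l := 2) rfl N25902 D59878
theorem N27109 : nd 27109 = n59879 := ndS (p := 25903) (l := 1) rfl N25903 D59879
theorem N27110 : nd 27110 = n59880 := ndS (p := 25904) (l := 0) rfl N25904 D59880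
theorem N27111 : nd 27111 = n59881 := ndS (p := 25905) (l := 1) rfl N25905 D59881
theorem N27112 : nd 27112 = n59882 := ndS (p := 25905) (l := 4) rfl N25905 D59882
theorem N27113 : nd 27113 = n59883 := ndS (p := 25906) (l := 5) rfl N25906 D59883
theorem N27114 : nd 27114 = n59884 := ndS (p := 25907) (l := 3) rfl N25907 D59884
theorem N27115 : nd 27115 = n59885 := ndS (p := 25909) (l := 1) rfl N25909 D59885
theorem N27116 : nd 27116 = n59886 := ndS (p := 25909) (l := 4) rfl N25909 D59886
theorem N27117 : nd 27117 = n59887 := ndS (p := 25910) (l := 5) rfl N25910 D59887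
theorem N27118 : nd 27118 = n59888 := ndS (p := 25911) (l := 0) rfl N25911 D59888
theorem N27119 : nd 27119 = n59889 := ndS (p := 25911) (l := 4) rfl N25911 D59889
theorem N27120 : nd 27120 = n59890 := ndS (p := 25912) (l := 5) rfl N25912 D59890
theorem N27121 : nd 27121 = n59891 := ndS (p := 25914) (l := 0) rfl N25914 D59891
theorem N27122 : nd 27122 = n59892 := ndS (p := 25914) (l := 4) rfl N25914 D59892
theorem N27123 : nd 27123 = n59893 := ndS (p := 25915) (l := 3) rfl N25915 D59893
theorem N27124 : nd 27124 = n59894 := ndS (p := 25917) (l := 3) rfl N25917 D59894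
theorem N27125 : nd 27125 = n59895 := ndS (p := 25919) (l := 8) rfl N25919 D59895
theorem N27126 : nd 27126 = n59896 := ndS (p := 25920) (l := 9) rfl N25920 D59896
theorem N27127 : nd 27127 = n59897 := ndS (p := 25921) (l := 3) rfl N25921 D59897
theorem N27128 : nd 27128 = n59898 := ndS (p := 25922) (l := 3) rfl N25922 D59898
theorem N27129 : nd 27129 = n59899 := ndS (p := 25923) (l := 2) rfl N25923 D59899
theorem N27130 : nd 27130 = n59900 := ndS (p := 25924) (l := 2) rfl N25924 D59900
theorem N27131 : nd 27131 = n59901 := ndS (p := 25924) (l := 4) rfl N25924 D59901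
theorem N27132 : nd 27132 = n59902 := ndS (p := 25925) (l := 1) rfl N25925 D59902
theorem N27133 : nd 27133 = n59903 := ndS (p := 25926) (l := 2) rfl N25926 D59903
theorem N27134 : nd 27134 = n59904 := ndS (p := 25926) (l := 4) rfl N25926 D59904
theorem N27135 : nd 27135 = n59905 := ndS (p := 25927) (l := 4) rfl N25927 D59905
theorem N27136 : nd 27136 = n59906 := ndS (p := 25928) (l := 5) rfl N25928 D59906
theorem N27137 : nd 27137 = n59907 := ndS (p := 25929) (l := 3) rfl N25929 D59907
theorem N27138 : nd 27138 = n59908 := ndS (p := 25930) (l := 2) rfl N25930 D59908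
theorem N27139 : nd 27139 = n59909 := ndS (p := 25930) (l := 4) rfl N25930 D59909
theorem N27140 : nd 27140 = n59910 := ndS (p := 25931) (l := 2) rfl N25931 D59910
theorem N27141 : nd 27141 = n59911 := ndS (p := 25931) (l := 4) rfl N25931 D59911
theorem N27142 : nd 27142 = n59912 := ndS (p := 25932) (l := 1) rfl N25932 D59912
theorem N27143 : nd 27143 = n59913 := ndS (p := 25932) (l := 4) rfl N25932 D59913
theorem N27144 : nd 27144 = n59914 := ndS (p := 25933) (l := 5) rfl N25933 D59914
theorem N27145 : nd 27145 = n59915 := ndS (p := 25934) (l := 6) rfl N25934 D59915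
theorem N27146 : nd 27146 = n59916 := ndS (p := 25935) (l := 1) rfl N25935 D59916
theorem N27147 : nd 27147 = n59917 := ndS (p := 25935) (l := 4) rfl N25935 D59917
theorem N27148 : nd 27148 = n59918 := ndS (p := 25937) (l := 0) rfl N25937 D59918
theorem N27149 : nd 27149 = n59919 := ndS (p := 25938) (l := 1) rfl N25938 D59919
theorem N27150 : nd 27150 = n59920 := ndS (p := 25939) (l := 3) rfl N25939 D59920
theorem N27151 : nd 27151 = n59921 := ndS (p := 25940) (l := 2) rfl N25940 D59921
theorem N27152 : nd 27152 = n59922 := ndS (p := 25940) (l := 4) rfl N25940 D59922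
theorem N27153 : nd 27153 = n59923 := ndS (p := 25941) (l := 1) rfl N25941 D59923
theorem N27154 : nd 27154 = n59924 := ndS (p := 25941) (l := 4) rfl N25941 D59924
theorem N27155 : nd 27155 = n59925 := ndS (p := 25943) (l := 1) rfl N25943 D59925
theorem N27156 : nd 27156 = n59926 := ndS (p := 25943) (l := 4) rfl N25943 D59926
theorem N27157 : nd 27157 = n59927 := ndS (p := 25945) (l := 0) rfl N25945 D59927
theorem N27158 : nd 27158 = n59928 := ndS (p := 25946) (l := 2) rfl N25946 D59928
theorem N27159 : nd 27159 = n59929 := ndS (p := 25946) (l := 4) rfl N25946 D59929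
theorem N27160 : nd 27160 = n59930 := ndS (p := 25947) (l := 1) rfl N25947 D59930
theorem N27161 : nd 27161 = n59931 := ndS (p := 25947) (l := 4) rfl N25947 D59931
theorem N27162 : nd 27162 = n59932 := ndS (p := 25948) (l := 5) rfl N25948 D59932
theorem N27163 : nd 27163 = n59933 := ndS (p := 25950) (l := 2) rfl N25950 D59933
theorem N27164 : nd 27164 = n59934 := ndS (p := 25950) (l := 4) rfl N25950 D59934
theorem N27165 : nd 27165 = n59935 := ndS (p := 25951) (l := 1) rfl N25951 D59935
theorem N27166 : nd 27166 = n59936 := ndS (p := 25951) (l := 4) rfl N25951 D59936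
theorem N27167 : nd 27167 = n59937 := ndS (p := 25952) (l := 5) rfl N25952 D59937
theorem N27168 : nd 27168 = n59938 := ndS (p := 25953) (l := 1) rfl N25953 D59938
theorem N27169 : nd 27169 = n59939 := ndS (p := 25953) (l := 4) rfl N25953 D59939
theorem N27170 : nd 27170 = n59940 := ndS (p := 25955) (l := 0) rfl N25955 D59940
theorem N27171 : nd 27171 = n59941 := ndS (p := 25955) (l := 4) rfl N25955 D59941
theorem N27172 : nd 27172 = n59942 := ndS (p := 25956) (l := 5) rfl N25956 D59942
theorem N27173 : nd 27173 = n59943 := ndS (p := 25958) (l := 1) rfl N25958 D59943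
theorem N27174 : nd 27174 = n59944 := ndS (p := 25958) (l := 4) rfl N25958 D59944
theorem N27175 : nd 27175 = n59945 := ndS (p := 25960) (l := 0) rfl N25960 D59945
theorem N27176 : nd 27176 = n59946 := ndS (p := 25960) (l := 4) rfl N25960 D59946
theorem N27177 : nd 27177 = n59947 := ndS (p := 25961) (l := 3) rfl N25961 D59947
theorem N27178 : nd 27178 = n59948 := ndS (p := 25963) (l := 8) rfl N25963 D59948
theorem N27179 : nd 27179 = n59949 := ndS (p := 25964) (l := 1) rfl N25964 D59949
theorem N27180 : nd 27180 = n59950 := ndS (p := 25964) (l := 4) rfl N25964 D59950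
theorem N27181 : nd 27181 = n59951 := ndS (p := 25966) (l := 0) rfl N25966 D59951
theorem N27182 : nd 27182 = n59952 := ndS (p := 25967) (l := 3) rfl N25967 D59952
theorem N27183 : nd 27183 = n59953 := ndS (p := 25968) (l := 2) rfl N25968 D59953
theorem N27184 : nd 27184 = n59954 := ndS (p := 25968) (l := 4) rfl N25968 D59954
theorem N27185 : nd 27185 = n59955 := ndS (p := 25969) (l := 2) rfl N25969 D59955
theorem N27186 : nd 27186 = n59956 := ndS (p := 25969) (l := 4) rfl N25969 D59956
theorem N27187 : nd 27187 = n59957 := ndS (p := 25970) (l := 1) rfl N25970 D59957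
theorem N27188 : nd 27188 = n59958 := ndS (p := 25970) (l := 4) rfl N25970 D59958
theorem N27189 : nd 27189 = n59959 := ndS (p := 25972) (l := 1) rfl N25972 D59959
theorem N27190 : nd 27190 = n59960 := ndS (p := 25972) (l := 4) rfl N25972 D59960
theorem N27191 : nd 27191 = n59961 := ndS (p := 25974) (l := 0) rfl N25974 D59961
theorem N27192 : nd 27192 = n59962 := ndS (p := 25974) (l := 4) rfl N25974 D59962
theorem N27193 : nd 27193 = n59963 := ndS (p := 25976) (l := 0) rfl N25976 D59963
theorem N27194 : nd 27194 = n59964 := ndS (p := 25976) (l := 4) rfl N25976 D59964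
theorem N27195 : nd 27195 = n59965 := ndS (p := 25979) (l := 2) rfl N25979 D59965
theorem N27196 : nd 27196 = n59966 := ndS (p := 25980) (l := 1) rfl N25980 D59966
theorem N27197 : nd 27197 = n59967 := ndS (p := 25981) (l := 2) rfl N25981 D59967
theorem N27198 : nd 27198 = n59968 := ndS (p := 25981) (l := 4) rfl N25981 D59968
theorem N27199 : nd 27199 = n59969 := ndS (p := 25982) (l := 2) rfl N25982 D59969
theorem N27200 : nd 27200 = n59970 := ndS (p := 25982) (l := 4) rfl N25982 D59970
theorem N27201 : nd 27201 = n59971 := ndS (p := 25983) (l := 1) rfl N25983 D59971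
theorem N27202 : nd 27202 = n59972 := ndS (p := 25983) (l := 4) rfl N25983 D59972
theorem N27203 : nd 27203 = n59973 := ndS (p := 25984) (l := 5) rfl N25984 D59973
theorem N27204 : nd 27204 = n59974 := ndS (p := 25985) (l := 1) rfl N25985 D59974
theorem N27205 : nd 27205 = n59975 := ndS (p := 25985) (l := 4) rfl N25985 D59975
theorem N27206 : nd 27206 = n59976 := ndS (p := 25986) (l := 5) rfl N25986 D59976
theorem N27207 : nd 27207 = n59977 := ndS (p := 25987) (l := 0) rfl N25987 D59977
theorem N27208 : nd 27208 = n59978 := ndS (p := 25987) (l := 4) rfl N25987 D59978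
theorem N27209 : nd 27209 = n59979 := ndS (p := 25988) (l := 5) rfl N25988 D59979
theorem N27210 : nd 27210 = n59980 := ndS (p := 25990) (l := 2) rfl N25990 D59980
theorem N27211 : nd 27211 = n59981 := ndS (p := 25990) (l := 4) rfl N25990 D59981
theorem N27212 : nd 27212 = n59982 := ndS (p := 25991) (l := 1) rfl N25991 D59982
theorem N27213 : nd 27213 = n59983 := ndS (p := 25991) (l := 4) rfl N25991 D59983
theorem N27214 : nd 27214 = n59984 := ndS (p := 25992) (l := 5) rfl N25992 D59984
theorem N27215 : nd 27215 = n59985 := ndS (p := 25993) (l := 1) rfl N25993 D59985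
theorem N27216 : nd 27216 = n59986 := ndS (p := 25993) (l := 4) rfl N25993 D59986
theorem N27217 : nd 27217 = n59987 := ndS (p := 25994) (l := 5) rfl N25994 D59987
theorem N27218 : nd 27218 = n59988 := ndS (p := 25995) (l := 0) rfl N25995 D59988
theorem N27219 : nd 27219 = n59989 := ndS (p := 25995) (l := 4) rfl N25995 D59989
theorem N27220 : nd 27220 = n59990 := ndS (p := 25996) (l := 3) rfl N25996 D59990
theorem N27221 : nd 27221 = n59991 := ndS (p := 25996) (l := 5) rfl N25996 D59991
theorem N27222 : nd 27222 = n59992 := ndS (p := 25997) (l := 6) rfl N25997 D59992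
theorem N27223 : nd 27223 = n59993 := ndS (p := 25998) (l := 1) rfl N25998 D59993
theorem N27224 : nd 27224 = n59994 := ndS (p := 25998) (l := 4) rfl N25998 D59994
theorem N27225 : nd 27225 = n59995 := ndS (p := 26000) (l := 0) rfl N26000 D59995
theorem N27226 : nd 27226 = n59996 := ndS (p := 26000) (l := 4) rfl N26000 D59996
theorem N27227 : nd 27227 = n59997 := ndS (p := 26001) (l := 3) rfl N26001 D59997
theorem N27228 : nd 27228 = n59998 := ndS (p := 26001) (l := 5) rfl N26001 D59998
theorem N27229 : nd 27229 = n59999 := ndS (p := 26003) (l := 4) rfl N26003 D59999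
theorem N27230 : nd 27230 = n60000 := ndS (p := 26004) (l := 5) rfl N26004 D60000
theorem N27231 : nd 27231 = n60001 := ndS (p := 26005) (l := 6) rfl N26005 D60001
theorem N27232 : nd 27232 = n60002 := ndS (p := 26007) (l := 1) rfl N26007 D60002
theorem N27233 : nd 27233 = n60003 := ndS (p := 26008) (l := 0) rfl N26008 D60003
theorem N27234 : nd 27234 = n60004 := ndS (p := 26008) (l := 4) rfl N26008 D60004
theorem N27235 : nd 27235 = n60005 := ndS (p := 26010) (l := 4) rfl N26010 D60005
theorem N27236 : nd 27236 = n60006 := ndS (p := 26011) (l := 3) rfl N26011 D60006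
theorem N27237 : nd 27237 = n60007 := ndS (p := 26012) (l := 8) rfl N26012 D60007
theorem N27238 : nd 27238 = n60008 := ndS (p := 26014) (l := 8) rfl N26014 D60008
theorem N27239 : nd 27239 = n60009 := ndS (p := 26015) (l := 9) rfl N26015 D60009
theorem N27240 : nd 27240 = n60010 := ndS (p := 26016) (l := 9) rfl N26016 D60010
theorem N27241 : nd 27241 = n60011 := ndS (p := 26017) (l := 8) rfl N26017 D60011
theorem N27242 : nd 27242 = n60012 := ndS (p := 26018) (l := 9) rfl N26018 D60012
theorem N27243 : nd 27243 = n60013 := ndS (p := 26022) (l := 3) rfl N26022 D60013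
theorem N27244 : nd 27244 = n60014 := ndS (p := 26022) (l := 5) rfl N26022 D60014
theorem N27245 : nd 27245 = n60015 := ndS (p := 26024) (l := 5) rfl N26024 D60015
theorem N27246 : nd 27246 = n60016 := ndS (p := 26026) (l := 1) rfl N26026 D60016
theorem N27247 : nd 27247 = n60017 := ndS (p := 26027) (l := 1) rfl N26027 D60017
theorem N27248 : nd 27248 = n60018 := ndS (p := 26027) (l := 4) rfl N26027 D60018
theorem N27249 : nd 27249 = n60019 := ndS (p := 26029) (l := 0) rfl N26029 D60019
theorem N27250 : nd 27250 = n60020 := ndS (p := 26030) (l := 1) rfl N26030 D60020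
theorem N27251 : nd 27251 = n60021 := ndS (p := 26031) (l := 0) rfl N26031 D60021
theorem N27252 : nd 27252 = n60022 := ndS (p := 26032) (l := 0) rfl N26032 D60022
theorem N27253 : nd 27253 = n60023 := ndS (p := 26032) (l := 4) rfl N26032 D60023
theorem N27254 : nd 27254 = n60024 := ndS (p := 26035) (l := 2) rfl N26035 D60024
theorem N27255 : nd 27255 = n60025 := ndS (p := 26035) (l := 4) rfl N26035 D60025
theorem N27256 : nd 27256 = n60026 := ndS (p := 26036) (l := 1) rfl N26036 D60026
theorem N27257 : nd 27257 = n60027 := ndS (p := 26037) (l := 1) rfl N26037 D60027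
theorem N27258 : nd 27258 = n60028 := ndS (p := 26037) (l := 4) rfl N26037 D60028
theorem N27259 : nd 27259 = n60029 := ndS (p := 26038) (l := 5) rfl N26038 D60029
theorem N27260 : nd 27260 = n60030 := ndS (p := 26040) (l := 1) rfl N26040 D60030
theorem N27261 : nd 27261 = n60031 := ndS (p := 26040) (l := 4) rfl N26040 D60031
theorem N27262 : nd 27262 = n60032 := ndS (p := 26042) (l := 0) rfl N26042 D60032
theorem N27263 : nd 27263 = n60033 := ndS (p := 26043) (l := 2) rfl N26043 D60033
theorem N27264 : nd 27264 = n60034 := ndS (p := 26043) (l := 4) rfl N26043 D60034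
theorem N27265 : nd 27265 = n60035 := ndS (p := 26044) (l := 1) rfl N26044 D60035
theorem N27266 : nd 27266 = n60036 := ndS (p := 26045) (l := 1) rfl N26045 D60036
theorem N27267 : nd 27267 = n60037 := ndS (p := 26045) (l := 4) rfl N26045 D60037
theorem N27268 : nd 27268 = n60038 := ndS (p := 26047) (l := 0) rfl N26047 D60038
theorem N27269 : nd 27269 = n60039 := ndS (p := 26048) (l := 0) rfl N26048 D60039
theorem N27270 : nd 27270 = n60040 := ndS (p := 26048) (l := 4) rfl N26048 D60040
theorem N27271 : nd 27271 = n60041 := ndS (p := 26051) (l := 1) rfl N26051 D60041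
theorem N27272 : nd 27272 = n60042 := ndS (p := 26052) (l := 1) rfl N26052 D60042
theorem N27273 : nd 27273 = n60043 := ndS (p := 26052) (l := 4) rfl N26052 D60043
theorem N27274 : nd 27274 = n60044 := ndS (p := 26054) (l := 0) rfl N26054 D60044
theorem N27275 : nd 27275 = n60045 := ndS (p := 26055) (l := 0) rfl N26055 D60045
theorem N27276 : nd 27276 = n60046 := ndS (p := 26056) (l := 0) rfl N26056 D60046
theorem N27277 : nd 27277 = n60047 := ndS (p := 26056) (l := 4) rfl N26056 D60047
theorem N27278 : nd 27278 = n60048 := ndS (p := 26059) (l := 0) rfl N26059 D60048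
theorem N27279 : nd 27279 = n60049 := ndS (p := 26060) (l := 0) rfl N26060 D60049
theorem N27280 : nd 27280 = n60050 := ndS (p := 26061) (l := 0) rfl N26061 D60050
theorem N27281 : nd 27281 = n60051 := ndS (p := 26063) (l := 1) rfl N26063 D60051
theorem N27282 : nd 27282 = n60052 := ndS (p := 26063) (l := 4) rfl N26063 D60052
theorem N27283 : nd 27283 = n60053 := ndS (p := 26065) (l := 0) rfl N26065 D60053
theorem N27284 : nd 27284 = n60054 := ndS (p := 26065) (l := 4) rfl N26065 D60054
theorem N27285 : nd 27285 = n60055 := ndS (p := 26067) (l := 4) rfl N26067 D60055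
theorem N27286 : nd 27286 = n60056 := ndS (p := 26068) (l := 3) rfl N26068 D60056
theorem N27287 : nd 27287 = n60057 := ndS (p := 26069) (l := 8) rfl N26069 D60057
theorem N27288 : nd 27288 = n60058 := ndS (p := 26070) (l := 9) rfl N26070 D60058
theorem N27289 : nd 27289 = n60059 := ndS (p := 26072) (l := 1) rfl N26072 D60059
theorem N27290 : nd 27290 = n60060 := ndS (p := 26073) (l := 0) rfl N26073 D60060
theorem N27291 : nd 27291 = n60061 := ndS (p := 26074) (l := 1) rfl N26074 D60061
theorem N27292 : nd 27292 = n60062 := ndS (p := 26075) (l := 1) rfl N26075 D60062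
theorem N27293 : nd 27293 = n60063 := ndS (p := 26075) (l := 4) rfl N26075 D60063
theorem N27294 : nd 27294 = n60064 := ndS (p := 26077) (l := 0) rfl N26077 D60064
theorem N27295 : nd 27295 = n60065 := ndS (p := 26078) (l := 1) rfl N26078 D60065
theorem N27296 : nd 27296 = n60066 := ndS (p := 26078) (l := 4) rfl N26078 D60066
theorem N27297 : nd 27297 = n60067 := ndS (p := 26080) (l := 0) rfl N26080 D60067
theorem N27298 : nd 27298 = n60068 := ndS (p := 26080) (l := 4) rfl N26080 D60068
theorem N27299 : nd 27299 = n60069 := ndS (p := 26083) (l := 2) rfl N26083 D60069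
theorem N27300 : nd 27300 = n60070 := ndS (p := 26083) (l := 4) rfl N26083 D60070
theorem N27301 : nd 27301 = n60071 := ndS (p := 26084) (l := 1) rfl N26084 D60071
theorem N27302 : nd 27302 = n60072 := ndS (p := 26085) (l := 2) rfl N26085 D60072
theorem N27303 : nd 27303 = n60073 := ndS (p := 26085) (l := 4) rfl N26085 D60073
theorem N27304 : nd 27304 = n60074 := ndS (p := 26086) (l := 1) rfl N26086 D60074
theorem N27305 : nd 27305 = n60075 := ndS (p := 26086) (l := 4) rfl N26086 D60075
theorem N27306 : nd 27306 = n60076 := ndS (p := 26087) (l := 5) rfl N26087 D60076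
theorem N27307 : nd 27307 = n60077 := ndS (p := 26088) (l := 6) rfl N26088 D60077
theorem N27308 : nd 27308 = n60078 := ndS (p := 26089) (l := 1) rfl N26089 D60078
theorem N27309 : nd 27309 = n60079 := ndS (p := 26089) (l := 4) rfl N26089 D60079
theorem N27310 : nd 27310 = n60080 := ndS (p := 26091) (l := 0) rfl N26091 D60080
theorem N27311 : nd 27311 = n60081 := ndS (p := 26092) (l := 2) rfl N26092 D60081
theorem N27312 : nd 27312 = n60082 := ndS (p := 26092) (l := 4) rfl N26092 D60082
theorem N27313 : nd 27313 = n60083 := ndS (p := 26093) (l := 1) rfl N26093 D60083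
theorem N27314 : nd 27314 = n60084 := ndS (p := 26094) (l := 2) rfl N26094 D60084
theorem N27315 : nd 27315 = n60085 := ndS (p := 26094) (l := 4) rfl N26094 D60085
theorem N27316 : nd 27316 = n60086 := ndS (p := 26095) (l := 1) rfl N26095 D60086
theorem N27317 : nd 27317 = n60087 := ndS (p := 26095) (l := 4) rfl N26095 D60087
theorem N27318 : nd 27318 = n60088 := ndS (p := 26097) (l := 0) rfl N26097 D60088
theorem N27319 : nd 27319 = n60089 := ndS (p := 26098) (l := 0) rfl N26098 D60089
theorem N27320 : nd 27320 = n60090 := ndS (p := 26098) (l := 4) rfl N26098 D60090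
theorem N27321 : nd 27321 = n60091 := ndS (p := 26099) (l := 3) rfl N26099 D60091
theorem N27322 : nd 27322 = n60092 := ndS (p := 26101) (l := 4) rfl N26101 D60092
theorem N27323 : nd 27323 = n60093 := ndS (p := 26102) (l := 5) rfl N26102 D60093
theorem N27324 : nd 27324 = n60094 := ndS (p := 26103) (l := 3) rfl N26103 D60094
theorem N27325 : nd 27325 = n60095 := ndS (p := 26104) (l := 8) rfl N26104 D60095
theorem N27326 : nd 27326 = n60096 := ndS (p := 26105) (l := 2) rfl N26105 D60096
theorem N27327 : nd 27327 = n60097 := ndS (p := 26105) (l := 4) rfl N26105 D60097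
theorem N27328 : nd 27328 = n60098 := ndS (p := 26106) (l := 1) rfl N26106 D60098
theorem N27329 : nd 27329 = n60099 := ndS (p := 26107) (l := 1) rfl N26107 D60099
theorem N27330 : nd 27330 = n60100 := ndS (p := 26107) (l := 4) rfl N26107 D60100
theorem N27331 : nd 27331 = n60101 := ndS (p := 26109) (l := 0) rfl N26109 D60101
theorem N27332 : nd 27332 = n60102 := ndS (p := 26110) (l := 2) rfl N26110 D60102
theorem N27333 : nd 27333 = n60103 := ndS (p := 26110) (l := 4) rfl N26110 D60103
theorem N27334 : nd 27334 = n60104 := ndS (p := 26111) (l := 1) rfl N26111 D60104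
theorem N27335 : nd 27335 = n60105 := ndS (p := 26112) (l := 2) rfl N26112 D60105
theorem N27336 : nd 27336 = n60106 := ndS (p := 26112) (l := 4) rfl N26112 D60106
theorem N27337 : nd 27337 = n60107 := ndS (p := 26113) (l := 1) rfl N26113 D60107
theorem N27338 : nd 27338 = n60108 := ndS (p := 26113) (l := 4) rfl N26113 D60108
theorem N27339 : nd 27339 = n60109 := ndS (p := 26115) (l := 0) rfl N26115 D60109
theorem N27340 : nd 27340 = n60110 := ndS (p := 26116) (l := 1) rfl N26116 D60110
theorem N27341 : nd 27341 = n60111 := ndS (p := 26116) (l := 4) rfl N26116 D60111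
theorem N27342 : nd 27342 = n60112 := ndS (p := 26117) (l := 5) rfl N26117 D60112
theorem N27343 : nd 27343 = n60113 := ndS (p := 26118) (l := 0) rfl N26118 D60113
theorem N27344 : nd 27344 = n60114 := ndS (p := 26118) (l := 4) rfl N26118 D60114
theorem N27345 : nd 27345 = n60115 := ndS (p := 26119) (l := 3) rfl N26119 D60115
theorem N27346 : nd 27346 = n60116 := ndS (p := 26121) (l := 2) rfl N26121 D60116
theorem N27347 : nd 27347 = n60117 := ndS (p := 26122) (l := 1) rfl N26122 D60117
theorem N27348 : nd 27348 = n60118 := ndS (p := 26123) (l := 0) rfl N26123 D60118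
theorem N27349 : nd 27349 = n60119 := ndS (p := 26124) (l := 2) rfl N26124 D60119
theorem N27350 : nd 27350 = n60120 := ndS (p := 26124) (l := 4) rfl N26124 D60120
theorem N27351 : nd 27351 = n60121 := ndS (p := 26125) (l := 1) rfl N26125 D60121
theorem N27352 : nd 27352 = n60122 := ndS (p := 26125) (l := 4) rfl N26125 D60122
theorem N27353 : nd 27353 = n60123 := ndS (p := 26127) (l := 1) rfl N26127 D60123
theorem N27354 : nd 27354 = n60124 := ndS (p := 26128) (l := 0) rfl N26128 D60124
theorem N27355 : nd 27355 = n60125 := ndS (p := 26129) (l := 0) rfl N26129 D60125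
theorem N27356 : nd 27356 = n60126 := ndS (p := 26129) (l := 4) rfl N26129 D60126
theorem N27357 : nd 27357 = n60127 := ndS (p := 26130) (l := 3) rfl N26130 D60127
theorem N27358 : nd 27358 = n60128 := ndS (p := 26132) (l := 4) rfl N26132 D60128
theorem N27359 : nd 27359 = n60129 := ndS (p := 26133) (l := 3) rfl N26133 D60129
theorem N27360 : nd 27360 = n60130 := ndS (p := 26134) (l := 8) rfl N26134 D60130
theorem N27361 : nd 27361 = n60131 := ndS (p := 26135) (l := 4) rfl N26135 D60131
theorem N27362 : nd 27362 = n60132 := ndS (p := 26137) (l := 3) rfl N26137 D60132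
theorem N27363 : nd 27363 = n60133 := ndS (p := 26138) (l := 3) rfl N26138 D60133
theorem N27364 : nd 27364 = n60134 := ndS (p := 26141) (l := 8) rfl N26141 D60134
theorem N27365 : nd 27365 = n60135 := ndS (p := 26142) (l := 9) rfl N26142 D60135
theorem N27366 : nd 27366 = n60136 := ndS (p := 26145) (l := 1) rfl N26145 D60136
theorem N27367 : nd 27367 = n60137 := ndS (p := 26146) (l := 2) rfl N26146 D60137
theorem N27368 : nd 27368 = n60138 := ndS (p := 26147) (l := 2) rfl N26147 D60138
theorem N27369 : nd 27369 = n60139 := ndS (p := 26147) (l := 4) rfl N26147 D60139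
theorem N27370 : nd 27370 = n60140 := ndS (p := 26148) (l := 1) rfl N26148 D60140
theorem N27371 : nd 27371 = n60141 := ndS (p := 26149) (l := 2) rfl N26149 D60141
theorem N27372 : nd 27372 = n60142 := ndS (p := 26149) (l := 4) rfl N26149 D60142
theorem N27373 : nd 27373 = n60143 := ndS (p := 26150) (l := 1) rfl N26150 D60143
theorem N27374 : nd 27374 = n60144 := ndS (p := 26150) (l := 4) rfl N26150 D60144
theorem N27375 : nd 27375 = n60145 := ndS (p := 26152) (l := 0) rfl N26152 D60145
theorem N27376 : nd 27376 = n60146 := ndS (p := 26153) (l := 2) rfl N26153 D60146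
theorem N27377 : nd 27377 = n60147 := ndS (p := 26153) (l := 4) rfl N26153 D60147
theorem N27378 : nd 27378 = n60148 := ndS (p := 26154) (l := 4) rfl N26154 D60148
theorem N27379 : nd 27379 = n60149 := ndS (p := 26155) (l := 5) rfl N26155 D60149
theorem N27380 : nd 27380 = n60150 := ndS (p := 26156) (l := 2) rfl N26156 D60150
theorem N27381 : nd 27381 = n60151 := ndS (p := 26157) (l := 2) rfl N26157 D60151
theorem N27382 : nd 27382 = n60152 := ndS (p := 26157) (l := 4) rfl N26157 D60152
theorem N27383 : nd 27383 = n60153 := ndS (p := 26158) (l := 1) rfl N26158 D60153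
theorem N27384 : nd 27384 = n60154 := ndS (p := 26158) (l := 4) rfl N26158 D60154
theorem N27385 : nd 27385 = n60155 := ndS (p := 26159) (l := 5) rfl N26159 D60155
theorem N27386 : nd 27386 = n60156 := ndS (p := 26160) (l := 3) rfl N26160 D60156
theorem N27387 : nd 27387 = n60157 := ndS (p := 26160) (l := 5) rfl N26160 D60157
theorem N27388 : nd 27388 = n60158 := ndS (p := 26161) (l := 6) rfl N26161 D60158
theorem N27389 : nd 27389 = n60159 := ndS (p := 26162) (l := 2) rfl N26162 D60159
theorem N27390 : nd 27390 = n60160 := ndS (p := 26162) (l := 4) rfl N26162 D60160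
theorem N27391 : nd 27391 = n60161 := ndS (p := 26163) (l := 2) rfl N26163 D60161
theorem N27392 : nd 27392 = n60162 := ndS (p := 26164) (l := 1) rfl N26164 D60162
theorem N27393 : nd 27393 = n60163 := ndS (p := 26165) (l := 2) rfl N26165 D60163
theorem N27394 : nd 27394 = n60164 := ndS (p := 26165) (l := 4) rfl N26165 D60164
theorem N27395 : nd 27395 = n60165 := ndS (p := 26166) (l := 1) rfl N26166 D60165
theorem N27396 : nd 27396 = n60166 := ndS (p := 26166) (l := 4) rfl N26166 D60166
theorem N27397 : nd 27397 = n60167 := ndS (p := 26167) (l := 5) rfl N26167 D60167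
theorem N27398 : nd 27398 = n60168 := ndS (p := 26168) (l := 0) rfl N26168 D60168
theorem N27399 : nd 27399 = n60169 := ndS (p := 26168) (l := 4) rfl N26168 D60169
theorem N27400 : nd 27400 = n60170 := ndS (p := 26169) (l := 5) rfl N26169 D60170
theorem N27401 : nd 27401 = n60171 := ndS (p := 26170) (l := 6) rfl N26170 D60171
theorem N27402 : nd 27402 = n60172 := ndS (p := 26172) (l := 1) rfl N26172 D60172
theorem N27403 : nd 27403 = n60173 := ndS (p := 26172) (l := 4) rfl N26172 D60173
theorem N27404 : nd 27404 = n60174 := ndS (p := 26174) (l := 0) rfl N26174 D60174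
theorem N27405 : nd 27405 = n60175 := ndS (p := 26174) (l := 4) rfl N26174 D60175
theorem N27406 : nd 27406 = n60176 := ndS (p := 26175) (l := 3) rfl N26175 D60176
theorem N27407 : nd 27407 = n60177 := ndS (p := 26177) (l := 1) rfl N26177 D60177
theorem N27408 : nd 27408 = n60178 := ndS (p := 26178) (l := 2) rfl N26178 D60178
theorem N27409 : nd 27409 = n60179 := ndS (p := 26178) (l := 4) rfl N26178 D60179
theorem N27410 : nd 27410 = n60180 := ndS (p := 26179) (l := 1) rfl N26179 D60180
theorem N27411 : nd 27411 = n60181 := ndS (p := 26179) (l := 4) rfl N26179 D60181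
theorem N27412 : nd 27412 = n60182 := ndS (p := 26181) (l := 0) rfl N26181 D60182
theorem N27413 : nd 27413 = n60183 := ndS (p := 26182) (l := 1) rfl N26182 D60183
theorem N27414 : nd 27414 = n60184 := ndS (p := 26183) (l := 2) rfl N26183 D60184
theorem N27415 : nd 27415 = n60185 := ndS (p := 26184) (l := 1) rfl N26184 D60185
theorem N27416 : nd 27416 = n60186 := ndS (p := 26185) (l := 0) rfl N26185 D60186
theorem N27417 : nd 27417 = n60187 := ndS (p := 26186) (l := 2) rfl N26186 D60187
theorem N27418 : nd 27418 = n60188 := ndS (p := 26186) (l := 4) rfl N26186 D60188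
theorem N27419 : nd 27419 = n60189 := ndS (p := 26187) (l := 1) rfl N26187 D60189
theorem N27420 : nd 27420 = n60190 := ndS (p := 26187) (l := 4) rfl N26187 D60190
theorem N27421 : nd 27421 = n60191 := ndS (p := 26188) (l := 5) rfl N26188 D60191
theorem N27422 : nd 27422 = n60192 := ndS (p := 26189) (l := 0) rfl N26189 D60192
theorem N27423 : nd 27423 = n60193 := ndS (p := 26189) (l := 4) rfl N26189 D60193
theorem N27424 : nd 27424 = n60194 := ndS (p := 26190) (l := 3) rfl N26190 D60194
theorem N27425 : nd 27425 = n60195 := ndS (p := 26192) (l := 1) rfl N26192 D60195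
theorem N27426 : nd 27426 = n60196 := ndS (p := 26193) (l := 0) rfl N26193 D60196
theorem N27427 : nd 27427 = n60197 := ndS (p := 26194) (l := 2) rfl N26194 D60197
theorem N27428 : nd 27428 = n60198 := ndS (p := 26195) (l := 1) rfl N26195 D60198
theorem N27429 : nd 27429 = n60199 := ndS (p := 26196) (l := 1) rfl N26196 D60199
theorem N27430 : nd 27430 = n60200 := ndS (p := 26197) (l := 0) rfl N26197 D60200
theorem N27431 : nd 27431 = n60201 := ndS (p := 26198) (l := 1) rfl N26198 D60201
theorem N27432 : nd 27432 = n60202 := ndS (p := 26199) (l := 0) rfl N26199 D60202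
theorem N27433 : nd 27433 = n60203 := ndS (p := 26199) (l := 4) rfl N26199 D60203
theorem N27434 : nd 27434 = n60204 := ndS (p := 26202) (l := 1) rfl N26202 D60204
theorem N27435 : nd 27435 = n60205 := ndS (p := 26202) (l := 4) rfl N26202 D60205
theorem N27436 : nd 27436 = n60206 := ndS (p := 26204) (l := 0) rfl N26204 D60206
theorem N27437 : nd 27437 = n60207 := ndS (p := 26204) (l := 4) rfl N26204 D60207
theorem N27438 : nd 27438 = n60208 := ndS (p := 26205) (l := 3) rfl N26205 D60208
theorem N27439 : nd 27439 = n60209 := ndS (p := 26206) (l := 4) rfl N26206 D60209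
theorem N27440 : nd 27440 = n60210 := ndS (p := 26207) (l := 3) rfl N26207 D60210
theorem N27441 : nd 27441 = n60211 := ndS (p := 26208) (l := 8) rfl N26208 D60211
theorem N27442 : nd 27442 = n60212 := ndS (p := 26209) (l := 4) rfl N26209 D60212
theorem N27443 : nd 27443 = n60213 := ndS (p := 26211) (l := 4) rfl N26211 D60213
theorem N27444 : nd 27444 = n60214 := ndS (p := 26212) (l := 3) rfl N26212 D60214
theorem N27445 : nd 27445 = n60215 := ndS (p := 26214) (l := 3) rfl N26214 D60215
theorem N27446 : nd 27446 = n60216 := ndS (p := 26215) (l := 8) rfl N26215 D60216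
theorem N27447 : nd 27447 = n60217 := ndS (p := 26216) (l := 3) rfl N26216 D60217
theorem N27448 : nd 27448 = n60218 := ndS (p := 26217) (l := 8) rfl N26217 D60218
theorem N27449 : nd 27449 = n60219 := ndS (p := 26218) (l := 2) rfl N26218 D60219
theorem N27450 : nd 27450 = n60220 := ndS (p := 26218) (l := 8) rfl N26218 D60220
theorem N27451 : nd 27451 = n60221 := ndS (p := 26219) (l := 9) rfl N26219 D60221
theorem N27452 : nd 27452 = n60222 := ndS (p := 26220) (l := 1) rfl N26220 D60222
theorem N27453 : nd 27453 = n60223 := ndS (p := 26221) (l := 1) rfl N26221 D60223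
theorem N27454 : nd 27454 = n60224 := ndS (p := 26222) (l := 2) rfl N26222 D60224
theorem N27455 : nd 27455 = n60225 := ndS (p := 26222) (l := 4) rfl N26222 D60225
theorem N27456 : nd 27456 = n60226 := ndS (p := 26223) (l := 1) rfl N26223 D60226
theorem N27457 : nd 27457 = n60227 := ndS (p := 26223) (l := 4) rfl N26223 D60227
theorem N27458 : nd 27458 = n60228 := ndS (p := 26224) (l := 5) rfl N26224 D60228
theorem N27459 : nd 27459 = n60229 := ndS (p := 26225) (l := 0) rfl N26225 D60229
theorem N27460 : nd 27460 = n60230 := ndS (p := 26225) (l := 4) rfl N26225 D60230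
theorem N27461 : nd 27461 = n60231 := ndS (p := 26226) (l := 5) rfl N26226 D60231
theorem N27462 : nd 27462 = n60232 := ndS (p := 26228) (l := 1) rfl N26228 D60232
theorem N27463 : nd 27463 = n60233 := ndS (p := 26228) (l := 4) rfl N26228 D60233
theorem N27464 : nd 27464 = n60234 := ndS (p := 26230) (l := 0) rfl N26230 D60234
theorem N27465 : nd 27465 = n60235 := ndS (p := 26230) (l := 4) rfl N26230 D60235
theorem N27466 : nd 27466 = n60236 := ndS (p := 26231) (l := 3) rfl N26231 D60236
theorem N27467 : nd 27467 = n60237 := ndS (p := 26233) (l := 1) rfl N26233 D60237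
theorem N27468 : nd 27468 = n60238 := ndS (p := 26234) (l := 1) rfl N26234 D60238
theorem N27469 : nd 27469 = n60239 := ndS (p := 26234) (l := 4) rfl N26234 D60239
theorem N27470 : nd 27470 = n60240 := ndS (p := 26236) (l := 0) rfl N26236 D60240
theorem N27471 : nd 27471 = n60241 := ndS (p := 26237) (l := 2) rfl N26237 D60241
theorem N27472 : nd 27472 = n60242 := ndS (p := 26237) (l := 4) rfl N26237 D60242
theorem N27473 : nd 27473 = n60243 := ndS (p := 26238) (l := 2) rfl N26238 D60243
theorem N27474 : nd 27474 = n60244 := ndS (p := 26239) (l := 1) rfl N26239 D60244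
theorem N27475 : nd 27475 = n60245 := ndS (p := 26239) (l := 4) rfl N26239 D60245
theorem N27476 : nd 27476 = n60246 := ndS (p := 26241) (l := 1) rfl N26241 D60246
theorem N27477 : nd 27477 = n60247 := ndS (p := 26242) (l := 0) rfl N26242 D60247
theorem N27478 : nd 27478 = n60248 := ndS (p := 26243) (l := 2) rfl N26243 D60248
theorem N27479 : nd 27479 = n60249 := ndS (p := 26243) (l := 4) rfl N26243 D60249
theorem N27480 : nd 27480 = n60250 := ndS (p := 26244) (l := 1) rfl N26244 D60250
theorem N27481 : nd 27481 = n60251 := ndS (p := 26244) (l := 4) rfl N26244 D60251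
theorem N27482 : nd 27482 = n60252 := ndS (p := 26245) (l := 5) rfl N26245 D60252
theorem N27483 : nd 27483 = n60253 := ndS (p := 26246) (l := 0) rfl N26246 D60253
theorem N27484 : nd 27484 = n60254 := ndS (p := 26246) (l := 4) rfl N26246 D60254
theorem N27485 : nd 27485 = n60255 := ndS (p := 26247) (l := 3) rfl N26247 D60255
theorem N27486 : nd 27486 = n60256 := ndS (p := 26248) (l := 4) rfl N26248 D60256
theorem N27487 : nd 27487 = n60257 := ndS (p := 26250) (l := 1) rfl N26250 D60257
theorem N27488 : nd 27488 = n60258 := ndS (p := 26250) (l := 4) rfl N26250 D60258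
theorem N27489 : nd 27489 = n60259 := ndS (p := 26252) (l := 0) rfl N26252 D60259
theorem N27490 : nd 27490 = n60260 := ndS (p := 26252) (l := 4) rfl N26252 D60260
theorem N27491 : nd 27491 = n60261 := ndS (p := 26253) (l := 3) rfl N26253 D60261
theorem N27492 : nd 27492 = n60262 := ndS (p := 26253) (l := 5) rfl N26253 D60262
theorem N27493 : nd 27493 = n60263 := ndS (p := 26255) (l := 4) rfl N26255 D60263
theorem N27494 : nd 27494 = n60264 := ndS (p := 26256) (l := 3) rfl N26256 D60264
theorem N27495 : nd 27495 = n60265 := ndS (p := 26257) (l := 8) rfl N26257 D60265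
theorem N27496 : nd 27496 = n60266 := ndS (p := 26258) (l := 0) rfl N26258 D60266
theorem N27497 : nd 27497 = n60267 := ndS (p := 26259) (l := 2) rfl N26259 D60267
theorem N27498 : nd 27498 = n60268 := ndS (p := 26260) (l := 1) rfl N26260 D60268
theorem N27499 : nd 27499 = n60269 := ndS (p := 26260) (l := 4) rfl N26260 D60269
theorem N27500 : nd 27500 = n60270 := ndS (p := 26262) (l := 0) rfl N26262 D60270
theorem N27501 : nd 27501 = n60271 := ndS (p := 26263) (l := 1) rfl N26263 D60271
theorem N27502 : nd 27502 = n60272 := ndS (p := 26264) (l := 0) rfl N26264 D60272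
theorem N27503 : nd 27503 = n60273 := ndS (p := 26264) (l := 4) rfl N26264 D60273
theorem N27504 : nd 27504 = n60274 := ndS (p := 26266) (l := 4) rfl N26266 D60274
theorem N27505 : nd 27505 = n60275 := ndS (p := 26268) (l := 2) rfl N26268 D60275
theorem N27506 : nd 27506 = n60276 := ndS (p := 26268) (l := 4) rfl N26268 D60276
theorem N27507 : nd 27507 = n60277 := ndS (p := 26269) (l := 2) rfl N26269 D60277
theorem N27508 : nd 27508 = n60278 := ndS (p := 26269) (l := 4) rfl N26269 D60278
theorem N27509 : nd 27509 = n60279 := ndS (p := 26270) (l := 1) rfl N26270 D60279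
theorem N27510 : nd 27510 = n60280 := ndS (p := 26270) (l := 4) rfl N26270 D60280
theorem N27511 : nd 27511 = n60281 := ndS (p := 26271) (l := 5) rfl N26271 D60281
theorem N27512 : nd 27512 = n60282 := ndS (p := 26272) (l := 1) rfl N26272 D60282
theorem N27513 : nd 27513 = n60283 := ndS (p := 26272) (l := 4) rfl N26272 D60283
theorem N27514 : nd 27514 = n60284 := ndS (p := 26274) (l := 0) rfl N26274 D60284
theorem N27515 : nd 27515 = n60285 := ndS (p := 26274) (l := 4) rfl N26274 D60285
theorem N27516 : nd 27516 = n60286 := ndS (p := 26275) (l := 3) rfl N26275 D60286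
theorem N27517 : nd 27517 = n60287 := ndS (p := 26275) (l := 5) rfl N26275 D60287
theorem N27518 : nd 27518 = n60288 := ndS (p := 26277) (l := 0) rfl N26277 D60288
theorem N27519 : nd 27519 = n60289 := ndS (p := 26277) (l := 4) rfl N26277 D60289
theorem N27520 : nd 27520 = n60290 := ndS (p := 26278) (l := 3) rfl N26278 D60290
theorem N27521 : nd 27521 = n60291 := ndS (p := 26279) (l := 4) rfl N26279 D60291
theorem N27522 : nd 27522 = n60292 := ndS (p := 26280) (l := 3) rfl N26280 D60292
theorem N27523 : nd 27523 = n60293 := ndS (p := 26280) (l := 5) rfl N26280 D60293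
theorem N27524 : nd 27524 = n60294 := ndS (p := 26281) (l := 5) rfl N26281 D60294
theorem N27525 : nd 27525 = n60295 := ndS (p := 26283) (l := 1) rfl N26283 D60295
theorem N27526 : nd 27526 = n60296 := ndS (p := 26283) (l := 4) rfl N26283 D60296
theorem N27527 : nd 27527 = n60297 := ndS (p := 26284) (l := 5) rfl N26284 D60297
theorem N27528 : nd 27528 = n60298 := ndS (p := 26285) (l := 0) rfl N26285 D60298
theorem N27529 : nd 27529 = n60299 := ndS (p := 26285) (l := 4) rfl N26285 D60299
theorem N27530 : nd 27530 = n60300 := ndS (p := 26286) (l := 5) rfl N26286 D60300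
theorem N27531 : nd 27531 = n60301 := ndS (p := 26288) (l := 4) rfl N26288 D60301
theorem N27532 : nd 27532 = n60302 := ndS (p := 26289) (l := 3) rfl N26289 D60302
theorem N27533 : nd 27533 = n60303 := ndS (p := 26289) (l := 5) rfl N26289 D60303
theorem N27534 : nd 27534 = n60304 := ndS (p := 26290) (l := 8) rfl N26290 D60304
theorem N27535 : nd 27535 = n60305 := ndS (p := 26292) (l := 5) rfl N26292 D60305
theorem N27536 : nd 27536 = n60306 := ndS (p := 26294) (l := 0) rfl N26294 D60306
theorem N27537 : nd 27537 = n60307 := ndS (p := 26294) (l := 4) rfl N26294 D60307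
theorem N27538 : nd 27538 = n60308 := ndS (p := 26295) (l := 3) rfl N26295 D60308
theorem N27539 : nd 27539 = n60309 := ndS (p := 26296) (l := 4) rfl N26296 D60309
theorem N27540 : nd 27540 = n60310 := ndS (p := 26297) (l := 3) rfl N26297 D60310
theorem N27541 : nd 27541 = n60311 := ndS (p := 26298) (l := 8) rfl N26298 D60311
theorem N27542 : nd 27542 = n60312 := ndS (p := 26299) (l := 3) rfl N26299 D60312
theorem N27543 : nd 27543 = n60313 := ndS (p := 26300) (l := 2) rfl N26300 D60313
theorem N27544 : nd 27544 = n60314 := ndS (p := 26300) (l := 8) rfl N26300 D60314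
theorem N27545 : nd 27545 = n60315 := ndS (p := 26301) (l := 9) rfl N26301 D60315
theorem N27546 : nd 27546 = n60316 := ndS (p := 26302) (l := 5) rfl N26302 D60316
theorem N27547 : nd 27547 = n60317 := ndS (p := 26303) (l := 3) rfl N26303 D60317
theorem N27548 : nd 27548 = n60318 := ndS (p := 26303) (l := 5) rfl N26303 D60318
theorem N27549 : nd 27549 = n60319 := ndS (p := 26305) (l := 8) rfl N26305 D60319
theorem N27550 : nd 27550 = n60320 := ndS (p := 26306) (l := 3) rfl N26306 D60320
theorem N27551 : nd 27551 = n60321 := ndS (p := 26307) (l := 4) rfl N26307 D60321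
theorem N27552 : nd 27552 = n60322 := ndS (p := 26308) (l := 3) rfl N26308 D60322
theorem N27553 : nd 27553 = n60323 := ndS (p := 26309) (l := 8) rfl N26309 D60323
theorem N27554 : nd 27554 = n60324 := ndS (p := 26310) (l := 3) rfl N26310 D60324
theorem N27555 : nd 27555 = n60325 := ndS (p := 26311) (l := 2) rfl N26311 D60325
theorem N27556 : nd 27556 = n60326 := ndS (p := 26311) (l := 8) rfl N26311 D60326
theorem N27557 : nd 27557 = n60327 := ndS (p := 26312) (l := 9) rfl N26312 D60327
theorem N27558 : nd 27558 = n60328 := ndS (p := 26314) (l := 9) rfl N26314 D60328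
theorem N27559 : nd 27559 = n60329 := ndS (p := 26316) (l := 9) rfl N26316 D60329
theorem N27560 : nd 27560 = n60330 := ndS (p := 26317) (l := 2) rfl N26317 D60330
theorem N27561 : nd 27561 = n60331 := ndS (p := 26317) (l := 8) rfl N26317 D60331
theorem N27562 : nd 27562 = n60332 := ndS (p := 26318) (l := 8) rfl N26318 D60332
theorem N27563 : nd 27563 = n60333 := ndS (p := 26321) (l := 3) rfl N26321 D60333
theorem N27564 : nd 27564 = n60334 := ndS (p := 26321) (l := 5) rfl N26321 D60334
theorem N27565 : nd 27565 = n60335 := ndS (p := 26324) (l := 9) rfl N26324 D60335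
theorem N27566 : nd 27566 = n60336 := ndS (p := 26325) (l := 8) rfl N26325 D60336
theorem N27567 : nd 27567 = n60337 := ndS (p := 26329) (l := 8) rfl N26329 D60337
theorem N27568 : nd 27568 = n60338 := ndS (p := 26331) (l := 3) rfl N26331 D60338
theorem N27569 : nd 27569 = n60339 := ndS (p := 26333) (l := 4) rfl N26333 D60339
theorem N27570 : nd 27570 = n60340 := ndS (p := 26336) (l := 0) rfl N26336 D60340
theorem N27571 : nd 27571 = n60341 := ndS (p := 26338) (l := 0) rfl N26338 D60341
theorem N27572 : nd 27572 = n60342 := ndS (p := 26339) (l := 0) rfl N26339 D60342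
theorem N27573 : nd 27573 = n60343 := ndS (p := 26342) (l := 0) rfl N26342 D60343
theorem N27574 : nd 27574 = n60344 := ndS (p := 26343) (l := 0) rfl N26343 D60344
theorem N27575 : nd 27575 = n60345 := ndS (p := 26345) (l := 1) rfl N26345 D60345
theorem N27576 : nd 27576 = n60346 := ndS (p := 26345) (l := 4) rfl N26345 D60346
theorem N27577 : nd 27577 = n60347 := ndS (p := 26347) (l := 0) rfl N26347 D60347
theorem N27578 : nd 27578 = n60348 := ndS (p := 26348) (l := 1) rfl N26348 D60348
theorem N27579 : nd 27579 = n60349 := ndS (p := 26348) (l := 4) rfl N26348 D60349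
theorem N27580 : nd 27580 = n60350 := ndS (p := 26350) (l := 0) rfl N26350 D60350
theorem N27581 : nd 27581 = n60351 := ndS (p := 26351) (l := 1) rfl N26351 D60351
theorem N27582 : nd 27582 = n60352 := ndS (p := 26351) (l := 4) rfl N26351 D60352
theorem N27583 : nd 27583 = n60353 := ndS (p := 26353) (l := 0) rfl N26353 D60353
theorem N27584 : nd 27584 = n60354 := ndS (p := 26353) (l := 4) rfl N26353 D60354
theorem N27585 : nd 27585 = n60355 := ndS (p := 26356) (l := 0) rfl N26356 D60355
theorem N27586 : nd 27586 = n60356 := ndS (p := 26358) (l := 1) rfl N26358 D60356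
theorem N27587 : nd 27587 = n60357 := ndS (p := 26358) (l := 4) rfl N26358 D60357
theorem N27588 : nd 27588 = n60358 := ndS (p := 26360) (l := 0) rfl N26360 D60358
theorem N27589 : nd 27589 = n60359 := ndS (p := 26361) (l := 0) rfl N26361 D60359
theorem N27590 : nd 27590 = n60360 := ndS (p := 26364) (l := 1) rfl N26364 D60360
theorem N27591 : nd 27591 = n60361 := ndS (p := 26365) (l := 0) rfl N26365 D60361
theorem N27592 : nd 27592 = n60362 := ndS (p := 26365) (l := 4) rfl N26365 D60362
theorem N27593 : nd 27593 = n60363 := ndS (p := 26367) (l := 4) rfl N26367 D60363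
theorem N27594 : nd 27594 = n60364 := ndS (p := 26369) (l := 0) rfl N26369 D60364
theorem N27595 : nd 27595 = n60365 := ndS (p := 26371) (l := 1) rfl N26371 D60365
theorem N27596 : nd 27596 = n60366 := ndS (p := 26371) (l := 4) rfl N26371 D60366
theorem N27597 : nd 27597 = n60367 := ndS (p := 26373) (l := 0) rfl N26373 D60367
theorem N27598 : nd 27598 = n60368 := ndS (p := 26373) (l := 4) rfl N26373 D60368
theorem N27599 : nd 27599 = n60369 := ndS (p := 26376) (l := 2) rfl N26376 D60369
theorem N27600 : nd 27600 = n60370 := ndS (p := 26376) (l := 4) rfl N26376 D60370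
theorem N27601 : nd 27601 = n60371 := ndS (p := 26378) (l := 1) rfl N26378 D60371
theorem N27602 : nd 27602 = n60372 := ndS (p := 26378) (l := 4) rfl N26378 D60372
theorem N27603 : nd 27603 = n60373 := ndS (p := 26379) (l := 5) rfl N26379 D60373
theorem N27604 : nd 27604 = n60374 := ndS (p := 26381) (l := 1) rfl N26381 D60374
theorem N27605 : nd 27605 = n60375 := ndS (p := 26381) (l := 4) rfl N26381 D60375
theorem N27606 : nd 27606 = n60376 := ndS (p := 26383) (l := 0) rfl N26383 D60376
theorem N27607 : nd 27607 = n60377 := ndS (p := 26384) (l := 1) rfl N26384 D60377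
theorem N27608 : nd 27608 = n60378 := ndS (p := 26384) (l := 4) rfl N26384 D60378
theorem N27609 : nd 27609 = n60379 := ndS (p := 26385) (l := 5) rfl N26385 D60379
theorem N27610 : nd 27610 = n60380 := ndS (p := 26387) (l := 2) rfl N26387 D60380
theorem N27611 : nd 27611 = n60381 := ndS (p := 26387) (l := 4) rfl N26387 D60381
theorem N27612 : nd 27612 = n60382 := ndS (p := 26388) (l := 1) rfl N26388 D60382
theorem N27613 : nd 27613 = n60383 := ndS (p := 26388) (l := 4) rfl N26388 D60383
theorem N27614 : nd 27614 = n60384 := ndS (p := 26389) (l := 5) rfl N26389 D60384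
theorem N27615 : nd 27615 = n60385 := ndS (p := 26390) (l := 1) rfl N26390 D60385
theorem N27616 : nd 27616 = n60386 := ndS (p := 26390) (l := 4) rfl N26390 D60386
theorem N27617 : nd 27617 = n60387 := ndS (p := 26392) (l := 0) rfl N26392 D60387
theorem N27618 : nd 27618 = n60388 := ndS (p := 26392) (l := 4) rfl N26392 D60388
theorem N27619 : nd 27619 = n60389 := ndS (p := 26393) (l := 5) rfl N26393 D60389
theorem N27620 : nd 27620 = n60390 := ndS (p := 26394) (l := 6) rfl N26394 D60390
theorem N27621 : nd 27621 = n60391 := ndS (p := 26396) (l := 0) rfl N26396 D60391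
theorem N27622 : nd 27622 = n60392 := ndS (p := 26398) (l := 1) rfl N26398 D60392
theorem N27623 : nd 27623 = n60393 := ndS (p := 26398) (l := 4) rfl N26398 D60393
theorem N27624 : nd 27624 = n60394 := ndS (p := 26399) (l := 5) rfl N26399 D60394
theorem N27625 : nd 27625 = n60395 := ndS (p := 26400) (l := 0) rfl N26400 D60395
theorem N27626 : nd 27626 = n60396 := ndS (p := 26400) (l := 4) rfl N26400 D60396
theorem N27627 : nd 27627 = n60397 := ndS (p := 26401) (l := 5) rfl N26401 D60397
theorem N27628 : nd 27628 = n60398 := ndS (p := 26403) (l := 1) rfl N26403 D60398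
theorem N27629 : nd 27629 = n60399 := ndS (p := 26403) (l := 4) rfl N26403 D60399
theorem N27630 : nd 27630 = n60400 := ndS (p := 26405) (l := 0) rfl N26405 D60400
theorem N27631 : nd 27631 = n60401 := ndS (p := 26405) (l := 4) rfl N26405 D60401
theorem N27632 : nd 27632 = n60402 := ndS (p := 26406) (l := 5) rfl N26406 D60402
theorem N27633 : nd 27633 = n60403 := ndS (p := 26408) (l := 0) rfl N26408 D60403
theorem N27634 : nd 27634 = n60404 := ndS (p := 26408) (l := 4) rfl N26408 D60404
theorem N27635 : nd 27635 = n60405 := ndS (p := 26410) (l := 4) rfl N26410 D60405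
theorem N27636 : nd 27636 = n60406 := ndS (p := 26411) (l := 5) rfl N26411 D60406
theorem N27637 : nd 27637 = n60407 := ndS (p := 26414) (l := 6) rfl N26414 D60407
theorem N27638 : nd 27638 = n60408 := ndS (p := 26416) (l := 3) rfl N26416 D60408
theorem N27639 : nd 27639 = n60409 := ndS (p := 26418) (l := 1) rfl N26418 D60409
theorem N27640 : nd 27640 = n60410 := ndS (p := 26418) (l := 4) rfl N26418 D60410
theorem N27641 : nd 27641 = n60411 := ndS (p := 26420) (l := 3) rfl N26420 D60411
theorem N27642 : nd 27642 = n60412 := ndS (p := 26421) (l := 1) rfl N26421 D60412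
theorem N27643 : nd 27643 = n60413 := ndS (p := 26421) (l := 4) rfl N26421 D60413
theorem N27644 : nd 27644 = n60414 := ndS (p := 26423) (l := 0) rfl N26423 D60414
theorem N27645 : nd 27645 = n60415 := ndS (p := 26423) (l := 4) rfl N26423 D60415
theorem N27646 : nd 27646 = n60416 := ndS (p := 26426) (l := 2) rfl N26426 D60416
theorem N27647 : nd 27647 = n60417 := ndS (p := 26426) (l := 4) rfl N26426 D60417
theorem N27648 : nd 27648 = n60418 := ndS (p := 26427) (l := 1) rfl N26427 D60418
theorem N27649 : nd 27649 = n60419 := ndS (p := 26427) (l := 4) rfl N26427 D60419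
theorem N27650 : nd 27650 = n60420 := ndS (p := 26428) (l := 5) rfl N26428 D60420
theorem N27651 : nd 27651 = n60421 := ndS (p := 26430) (l := 0) rfl N26430 D60421
theorem N27652 : nd 27652 = n60422 := ndS (p := 26431) (l := 2) rfl N26431 D60422
theorem N27653 : nd 27653 = n60423 := ndS (p := 26431) (l := 4) rfl N26431 D60423
theorem N27654 : nd 27654 = n60424 := ndS (p := 26432) (l := 1) rfl N26432 D60424
theorem N27655 : nd 27655 = n60425 := ndS (p := 26432) (l := 4) rfl N26432 D60425
theorem N27656 : nd 27656 = n60426 := ndS (p := 26434) (l := 2) rfl N26434 D60426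
theorem N27657 : nd 27657 = n60427 := ndS (p := 26434) (l := 4) rfl N26434 D60427
theorem N27658 : nd 27658 = n60428 := ndS (p := 26435) (l := 1) rfl N26435 D60428
theorem N27659 : nd 27659 = n60429 := ndS (p := 26435) (l := 4) rfl N26435 D60429
theorem N27660 : nd 27660 = n60430 := ndS (p := 26437) (l := 0) rfl N26437 D60430
theorem N27661 : nd 27661 = n60431 := ndS (p := 26437) (l := 4) rfl N26437 D60431
theorem N27662 : nd 27662 = n60432 := ndS (p := 26440) (l := 1) rfl N26440 D60432
theorem N27663 : nd 27663 = n60433 := ndS (p := 26440) (l := 4) rfl N26440 D60433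
theorem N27664 : nd 27664 = n60434 := ndS (p := 26442) (l := 1) rfl N26442 D60434
theorem N27665 : nd 27665 = n60435 := ndS (p := 26443) (l := 0) rfl N26443 D60435
theorem N27666 : nd 27666 = n60436 := ndS (p := 26443) (l := 4) rfl N26443 D60436
theorem N27667 : nd 27667 = n60437 := ndS (p := 26445) (l := 1) rfl N26445 D60437
theorem N27668 : nd 27668 = n60438 := ndS (p := 26446) (l := 1) rfl N26446 D60438
theorem N27669 : nd 27669 = n60439 := ndS (p := 26446) (l := 4) rfl N26446 D60439
theorem N27670 : nd 27670 = n60440 := ndS (p := 26448) (l := 0) rfl N26448 D60440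
theorem N27671 : nd 27671 = n60441 := ndS (p := 26448) (l := 4) rfl N26448 D60441
theorem N27672 : nd 27672 = n60442 := ndS (p := 26449) (l := 3) rfl N26449 D60442
theorem N27673 : nd 27673 = n60443 := ndS (p := 26450) (l := 0) rfl N26450 D60443
theorem N27674 : nd 27674 = n60444 := ndS (p := 26451) (l := 4) rfl N26451 D60444
theorem N27675 : nd 27675 = n60445 := ndS (p := 26453) (l := 0) rfl N26453 D60445
theorem N27676 : nd 27676 = n60446 := ndS (p := 26455) (l := 1) rfl N26455 D60446
theorem N27677 : nd 27677 = n60447 := ndS (p := 26455) (l := 4) rfl N26455 D60447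
theorem N27678 : nd 27678 = n60448 := ndS (p := 26456) (l := 5) rfl N26456 D60448
theorem N27679 : nd 27679 = n60449 := ndS (p := 26457) (l := 0) rfl N26457 D60449
theorem N27680 : nd 27680 = n60450 := ndS (p := 26457) (l := 4) rfl N26457 D60450
theorem N27681 : nd 27681 = n60451 := ndS (p := 26458) (l := 5) rfl N26458 D60451
theorem N27682 : nd 27682 = n60452 := ndS (p := 26460) (l := 0) rfl N26460 D60452
theorem N27683 : nd 27683 = n60453 := ndS (p := 26460) (l := 4) rfl N26460 D60453
theorem N27684 : nd 27684 = n60454 := ndS (p := 26461) (l := 3) rfl N26461 D60454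
theorem N27685 : nd 27685 = n60455 := ndS (p := 26463) (l := 1) rfl N26463 D60455
theorem N27686 : nd 27686 = n60456 := ndS (p := 26463) (l := 4) rfl N26463 D60456
theorem N27687 : nd 27687 = n60457 := ndS (p := 26465) (l := 0) rfl N26465 D60457
theorem N27688 : nd 27688 = n60458 := ndS (p := 26465) (l := 4) rfl N26465 D60458
theorem N27689 : nd 27689 = n60459 := ndS (p := 26467) (l := 2) rfl N26467 D60459
theorem N27690 : nd 27690 = n60460 := ndS (p := 26467) (l := 4) rfl N26467 D60460
theorem N27691 : nd 27691 = n60461 := ndS (p := 26468) (l := 1) rfl N26468 D60461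
theorem N27692 : nd 27692 = n60462 := ndS (p := 26468) (l := 4) rfl N26468 D60462
theorem N27693 : nd 27693 = n60463 := ndS (p := 26470) (l := 1) rfl N26470 D60463
theorem N27694 : nd 27694 = n60464 := ndS (p := 26470) (l := 4) rfl N26470 D60464
theorem N27695 : nd 27695 = n60465 := ndS (p := 26471) (l := 5) rfl N26471 D60465
theorem N27696 : nd 27696 = n60466 := ndS (p := 26472) (l := 0) rfl N26472 D60466
theorem N27697 : nd 27697 = n60467 := ndS (p := 26472) (l := 4) rfl N26472 D60467
theorem N27698 : nd 27698 = n60468 := ndS (p := 26473) (l := 5) rfl N26473 D60468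
theorem N27699 : nd 27699 = n60469 := ndS (p := 26474) (l := 6) rfl N26474 D60469
theorem N27700 : nd 27700 = n60470 := ndS (p := 26475) (l := 0) rfl N26475 D60470
theorem N27701 : nd 27701 = n60471 := ndS (p := 26475) (l := 4) rfl N26475 D60471
theorem N27702 : nd 27702 = n60472 := ndS (p := 26477) (l := 4) rfl N26477 D60472
theorem N27703 : nd 27703 = n60473 := ndS (p := 26478) (l := 5) rfl N26478 D60473
theorem N27704 : nd 27704 = n60474 := ndS (p := 26479) (l := 6) rfl N26479 D60474
theorem N27705 : nd 27705 = n60475 := ndS (p := 26482) (l := 1) rfl N26482 D60475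
theorem N27706 : nd 27706 = n60476 := ndS (p := 26482) (l := 4) rfl N26482 D60476
theorem N27707 : nd 27707 = n60477 := ndS (p := 26484) (l := 0) rfl N26484 D60477
theorem N27708 : nd 27708 = n60478 := ndS (p := 26485) (l := 1) rfl N26485 D60478
theorem N27709 : nd 27709 = n60479 := ndS (p := 26485) (l := 4) rfl N26485 D60479
theorem N27710 : nd 27710 = n60480 := ndS (p := 26487) (l := 1) rfl N26487 D60480
theorem N27711 : nd 27711 = n60481 := ndS (p := 26487) (l := 4) rfl N26487 D60481
theorem N27712 : nd 27712 = n60482 := ndS (p := 26489) (l := 0) rfl N26489 D60482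
theorem N27713 : nd 27713 = n60483 := ndS (p := 26489) (l := 4) rfl N26489 D60483
theorem N27714 : nd 27714 = n60484 := ndS (p := 26491) (l := 1) rfl N26491 D60484
theorem N27715 : nd 27715 = n60485 := ndS (p := 26492) (l := 0) rfl N26492 D60485
theorem N27716 : nd 27716 = n60486 := ndS (p := 26492) (l := 4) rfl N26492 D60486
theorem N27717 : nd 27717 = n60487 := ndS (p := 26494) (l := 4) rfl N26494 D60487
theorem N27718 : nd 27718 = n60488 := ndS (p := 26496) (l := 1) rfl N26496 D60488
theorem N27719 : nd 27719 = n60489 := ndS (p := 26496) (l := 4) rfl N26496 D60489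
theorem N27720 : nd 27720 = n60490 := ndS (p := 26498) (l := 1) rfl N26498 D60490
theorem N27721 : nd 27721 = n60491 := ndS (p := 26498) (l := 4) rfl N26498 D60491
theorem N27722 : nd 27722 = n60492 := ndS (p := 26500) (l := 0) rfl N26500 D60492
theorem N27723 : nd 27723 = n60493 := ndS (p := 26500) (l := 4) rfl N26500 D60493
theorem N27724 : nd 27724 = n60494 := ndS (p := 26501) (l := 3) rfl N26501 D60494
theorem N27725 : nd 27725 = n60495 := ndS (p := 26502) (l := 0) rfl N26502 D60495
theorem N27726 : nd 27726 = n60496 := ndS (p := 26502) (l := 4) rfl N26502 D60496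
theorem N27727 : nd 27727 = n60497 := ndS (p := 26503) (l := 5) rfl N26503 D60497
theorem N27728 : nd 27728 = n60498 := ndS (p := 26505) (l := 4) rfl N26505 D60498
theorem N27729 : nd 27729 = n60499 := ndS (p := 26506) (l := 5) rfl N26506 D60499
theorem N27730 : nd 27730 = n60500 := ndS (p := 26508) (l := 1) rfl N26508 D60500
theorem N27731 : nd 27731 = n60501 := ndS (p := 26508) (l := 4) rfl N26508 D60501
theorem N27732 : nd 27732 = n60502 := ndS (p := 26510) (l := 0) rfl N26510 D60502
theorem N27733 : nd 27733 = n60503 := ndS (p := 26510) (l := 4) rfl N26510 D60503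
theorem N27734 : nd 27734 = n60504 := ndS (p := 26512) (l := 4) rfl N26512 D60504
theorem N27735 : nd 27735 = n60505 := ndS (p := 26514) (l := 5) rfl N26514 D60505
theorem N27736 : nd 27736 = n60506 := ndS (p := 26516) (l := 0) rfl N26516 D60506
theorem N27737 : nd 27737 = n60507 := ndS (p := 26519) (l := 6) rfl N26519 D60507
theorem N27738 : nd 27738 = n60508 := ndS (p := 26521) (l := 0) rfl N26521 D60508
theorem N27739 : nd 27739 = n60509 := ndS (p := 26522) (l := 0) rfl N26522 D60509
theorem N27740 : nd 27740 = n60510 := ndS (p := 26523) (l := 0) rfl N26523 D60510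
theorem N27741 : nd 27741 = n60511 := ndS (p := 26523) (l := 4) rfl N26523 D60511
theorem N27742 : nd 27742 = n60512 := ndS (p := 26524) (l := 5) rfl N26524 D60512
theorem N27743 : nd 27743 = n60513 := ndS (p := 26527) (l := 2) rfl N26527 D60513
theorem N27744 : nd 27744 = n60514 := ndS (p := 26527) (l := 4) rfl N26527 D60514
theorem N27745 : nd 27745 = n60515 := ndS (p := 26528) (l := 1) rfl N26528 D60515
theorem N27746 : nd 27746 = n60516 := ndS (p := 26528) (l := 4) rfl N26528 D60516
theorem N27747 : nd 27747 = n60517 := ndS (p := 26529) (l := 5) rfl N26529 D60517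
theorem N27748 : nd 27748 = n60518 := ndS (p := 26530) (l := 0) rfl N26530 D60518
theorem N27749 : nd 27749 = n60519 := ndS (p := 26530) (l := 4) rfl N26530 D60519
theorem N27750 : nd 27750 = n60520 := ndS (p := 26531) (l := 5) rfl N26531 D60520
theorem N27751 : nd 27751 = n60521 := ndS (p := 26535) (l := 2) rfl N26535 D60521
theorem N27752 : nd 27752 = n60522 := ndS (p := 26535) (l := 4) rfl N26535 D60522
theorem N27753 : nd 27753 = n60523 := ndS (p := 26536) (l := 1) rfl N26536 D60523
theorem N27754 : nd 27754 = n60524 := ndS (p := 26536) (l := 4) rfl N26536 D60524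
theorem N27755 : nd 27755 = n60525 := ndS (p := 26537) (l := 5) rfl N26537 D60525
theorem N27756 : nd 27756 = n60526 := ndS (p := 26538) (l := 1) rfl N26538 D60526
theorem N27757 : nd 27757 = n60527 := ndS (p := 26538) (l := 4) rfl N26538 D60527
theorem N27758 : nd 27758 = n60528 := ndS (p := 26539) (l := 5) rfl N26539 D60528
theorem N27759 : nd 27759 = n60529 := ndS (p := 26540) (l := 0) rfl N26540 D60529
theorem N27760 : nd 27760 = n60530 := ndS (p := 26540) (l := 4) rfl N26540 D60530
theorem N27761 : nd 27761 = n60531 := ndS (p := 26541) (l := 5) rfl N26541 D60531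
theorem N27762 : nd 27762 = n60532 := ndS (p := 26543) (l := 0) rfl N26543 D60532
theorem N27763 : nd 27763 = n60533 := ndS (p := 26543) (l := 4) rfl N26543 D60533
theorem N27764 : nd 27764 = n60534 := ndS (p := 26544) (l := 5) rfl N26544 D60534
theorem N27765 : nd 27765 = n60535 := ndS (p := 26546) (l := 4) rfl N26546 D60535
theorem N27766 : nd 27766 = n60536 := ndS (p := 26547) (l := 5) rfl N26547 D60536
theorem N27767 : nd 27767 = n60537 := ndS (p := 26548) (l := 6) rfl N26548 D60537
theorem N27768 : nd 27768 = n60538 := ndS (p := 26552) (l := 1) rfl N26552 D60538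
theorem N27769 : nd 27769 = n60539 := ndS (p := 26552) (l := 4) rfl N26552 D60539
theorem N27770 : nd 27770 = n60540 := ndS (p := 26554) (l := 0) rfl N26554 D60540
theorem N27771 : nd 27771 = n60541 := ndS (p := 26554) (l := 4) rfl N26554 D60541
theorem N27772 : nd 27772 = n60542 := ndS (p := 26557) (l := 0) rfl N26557 D60542
theorem N27773 : nd 27773 = n60543 := ndS (p := 26559) (l := 4) rfl N26559 D60543
theorem N27774 : nd 27774 = n60544 := ndS (p := 26560) (l := 5) rfl N26560 D60544
theorem N27775 : nd 27775 = n60545 := ndS (p := 26562) (l := 0) rfl N26562 D60545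
theorem N27776 : nd 27776 = n60546 := ndS (p := 26562) (l := 4) rfl N26562 D60546
theorem N27777 : nd 27777 = n60547 := ndS (p := 26564) (l := 1) rfl N26564 D60547
theorem N27778 : nd 27778 = n60548 := ndS (p := 26564) (l := 4) rfl N26564 D60548
theorem N27779 : nd 27779 = n60549 := ndS (p := 26566) (l := 0) rfl N26566 D60549
theorem N27780 : nd 27780 = n60550 := ndS (p := 26566) (l := 4) rfl N26566 D60550
theorem N27781 : nd 27781 = n60551 := ndS (p := 26567) (l := 3) rfl N26567 D60551
theorem N27782 : nd 27782 = n60552 := ndS (p := 26568) (l := 4) rfl N26568 D60552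
theorem N27783 : nd 27783 = n60553 := ndS (p := 26569) (l := 5) rfl N26569 D60553
theorem N27784 : nd 27784 = n60554 := ndS (p := 26571) (l := 0) rfl N26571 D60554
theorem N27785 : nd 27785 = n60555 := ndS (p := 26571) (l := 4) rfl N26571 D60555
theorem N27786 : nd 27786 = n60556 := ndS (p := 26573) (l := 0) rfl N26573 D60556
theorem N27787 : nd 27787 = n60557 := ndS (p := 26573) (l := 4) rfl N26573 D60557
theorem N27788 : nd 27788 = n60558 := ndS (p := 26576) (l := 0) rfl N26576 D60558
theorem N27789 : nd 27789 = n60559 := ndS (p := 26576) (l := 4) rfl N26576 D60559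
theorem N27790 : nd 27790 = n60560 := ndS (p := 26578) (l := 4) rfl N26578 D60560
theorem N27791 : nd 27791 = n60561 := ndS (p := 26580) (l := 0) rfl N26580 D60561
theorem N27792 : nd 27792 = n60562 := ndS (p := 26580) (l := 4) rfl N26580 D60562
theorem N27793 : nd 27793 = n60563 := ndS (p := 26582) (l := 0) rfl N26582 D60563
theorem N27794 : nd 27794 = n60564 := ndS (p := 26582) (l := 4) rfl N26582 D60564
theorem N27795 : nd 27795 = n60565 := ndS (p := 26584) (l := 0) rfl N26584 D60565
theorem N27796 : nd 27796 = n60566 := ndS (p := 26585) (l := 4) rfl N26585 D60566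
theorem N27797 : nd 27797 = n60567 := ndS (p := 26586) (l := 5) rfl N26586 D60567
theorem N27798 : nd 27798 = n60568 := ndS (p := 26588) (l := 0) rfl N26588 D60568
theorem N27799 : nd 27799 = n60569 := ndS (p := 26588) (l := 4) rfl N26588 D60569
theorem N27800 : nd 27800 = n60570 := ndS (p := 26590) (l := 4) rfl N26590 D60570
theorem N27801 : nd 27801 = n60571 := ndS (p := 26592) (l := 0) rfl N26592 D60571
theorem N27802 : nd 27802 = n60572 := ndS (p := 26593) (l := 4) rfl N26593 D60572
theorem N27803 : nd 27803 = n60573 := ndS (p := 26595) (l := 5) rfl N26595 D60573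
theorem N27804 : nd 27804 = n60574 := ndS (p := 26596) (l := 6) rfl N26596 D60574
theorem N27805 : nd 27805 = n60575 := ndS (p := 26599) (l := 1) rfl N26599 D60575
theorem N27806 : nd 27806 = n60576 := ndS (p := 26599) (l := 4) rfl N26599 D60576
theorem N27807 : nd 27807 = n60577 := ndS (p := 26601) (l := 0) rfl N26601 D60577
theorem N27808 : nd 27808 = n60578 := ndS (p := 26604) (l := 0) rfl N26604 D60578
theorem N27809 : nd 27809 = n60579 := ndS (p := 26607) (l := 1) rfl N26607 D60579
theorem N27810 : nd 27810 = n60580 := ndS (p := 26607) (l := 4) rfl N26607 D60580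
theorem N27811 : nd 27811 = n60581 := ndS (p := 26609) (l := 0) rfl N26609 D60581
theorem N27812 : nd 27812 = n60582 := ndS (p := 26610) (l := 1) rfl N26610 D60582
theorem N27813 : nd 27813 = n60583 := ndS (p := 26610) (l := 4) rfl N26610 D60583
theorem N27814 : nd 27814 = n60584 := ndS (p := 26612) (l := 0) rfl N26612 D60584
theorem N27815 : nd 27815 = n60585 := ndS (p := 26612) (l := 4) rfl N26612 D60585
theorem N27816 : nd 27816 = n60586 := ndS (p := 26613) (l := 3) rfl N26613 D60586
theorem N27817 : nd 27817 = n60587 := ndS (p := 26615) (l := 1) rfl N26615 D60587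
theorem N27818 : nd 27818 = n60588 := ndS (p := 26615) (l := 4) rfl N26615 D60588
theorem N27819 : nd 27819 = n60589 := ndS (p := 26617) (l := 0) rfl N26617 D60589
theorem N27820 : nd 27820 = n60590 := ndS (p := 26618) (l := 1) rfl N26618 D60590
theorem N27821 : nd 27821 = n60591 := ndS (p := 26618) (l := 4) rfl N26618 D60591
theorem N27822 : nd 27822 = n60592 := ndS (p := 26620) (l := 0) rfl N26620 D60592
theorem N27823 : nd 27823 = n60593 := ndS (p := 26621) (l := 0) rfl N26621 D60593
theorem N27824 : nd 27824 = n60594 := ndS (p := 26621) (l := 4) rfl N26621 D60594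
theorem N27825 : nd 27825 = n60595 := ndS (p := 26624) (l := 0) rfl N26624 D60595
theorem N27826 : nd 27826 = n60596 := ndS (p := 26626) (l := 1) rfl N26626 D60596
theorem N27827 : nd 27827 = n60597 := ndS (p := 26626) (l := 4) rfl N26626 D60597
theorem N27828 : nd 27828 = n60598 := ndS (p := 26628) (l := 0) rfl N26628 D60598
theorem N27829 : nd 27829 = n60599 := ndS (p := 26629) (l := 0) rfl N26629 D60599
theorem N27830 : nd 27830 = n60600 := ndS (p := 26629) (l := 4) rfl N26629 D60600
theorem N27831 : nd 27831 = n60601 := ndS (p := 26632) (l := 0) rfl N26632 D60601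
theorem N27832 : nd 27832 = n60602 := ndS (p := 26632) (l := 4) rfl N26632 D60602
theorem N27833 : nd 27833 = n60603 := ndS (p := 26633) (l := 3) rfl N26633 D60603
theorem N27834 : nd 27834 = n60604 := ndS (p := 26635) (l := 4) rfl N26635 D60604
theorem N27835 : nd 27835 = n60605 := ndS (p := 26637) (l := 0) rfl N26637 D60605
theorem N27836 : nd 27836 = n60606 := ndS (p := 26637) (l := 4) rfl N26637 D60606
theorem N27837 : nd 27837 = n60607 := ndS (p := 26641) (l := 0) rfl N26641 D60607
theorem N27838 : nd 27838 = n60608 := ndS (p := 26642) (l := 0) rfl N26642 D60608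
theorem N27839 : nd 27839 = n60609 := ndS (p := 26642) (l := 4) rfl N26642 D60609
theorem N27840 : nd 27840 = n60610 := ndS (p := 26643) (l := 3) rfl N26643 D60610
theorem N27841 : nd 27841 = n60611 := ndS (p := 26645) (l := 0) rfl N26645 D60611
theorem N27842 : nd 27842 = n60612 := ndS (p := 26647) (l := 0) rfl N26647 D60612
theorem N27843 : nd 27843 = n60613 := ndS (p := 26648) (l := 0) rfl N26648 D60613
theorem N27844 : nd 27844 = n60614 := ndS (p := 26650) (l := 0) rfl N26650 D60614
theorem N27845 : nd 27845 = n60615 := ndS (p := 26652) (l := 1) rfl N26652 D60615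
theorem N27846 : nd 27846 = n60616 := ndS (p := 26652) (l := 4) rfl N26652 D60616
theorem N27847 : nd 27847 = n60617 := ndS (p := 26654) (l := 1) rfl N26654 D60617
theorem N27848 : nd 27848 = n60618 := ndS (p := 26654) (l := 4) rfl N26654 D60618
theorem N27849 : nd 27849 = n60619 := ndS (p := 26656) (l := 0) rfl N26656 D60619
theorem N27850 : nd 27850 = n60620 := ndS (p := 26656) (l := 4) rfl N26656 D60620
theorem N27851 : nd 27851 = n60621 := ndS (p := 26657) (l := 3) rfl N26657 D60621
theorem N27852 : nd 27852 = n60622 := ndS (p := 26659) (l := 1) rfl N26659 D60622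
theorem N27853 : nd 27853 = n60623 := ndS (p := 26659) (l := 4) rfl N26659 D60623
theorem N27854 : nd 27854 = n60624 := ndS (p := 26661) (l := 0) rfl N26661 D60624
theorem N27855 : nd 27855 = n60625 := ndS (p := 26661) (l := 4) rfl N26661 D60625
theorem N27856 : nd 27856 = n60626 := ndS (p := 26663) (l := 4) rfl N26663 D60626
theorem N27857 : nd 27857 = n60627 := ndS (p := 26665) (l := 1) rfl N26665 D60627
theorem N27858 : nd 27858 = n60628 := ndS (p := 26665) (l := 4) rfl N26665 D60628
theorem N27859 : nd 27859 = n60629 := ndS (p := 26667) (l := 0) rfl N26667 D60629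
theorem N27860 : nd 27860 = n60630 := ndS (p := 26668) (l := 0) rfl N26668 D60630
theorem N27861 : nd 27861 = n60631 := ndS (p := 26668) (l := 4) rfl N26668 D60631
theorem N27862 : nd 27862 = n60632 := ndS (p := 26669) (l := 3) rfl N26669 D60632
theorem N27863 : nd 27863 = n60633 := ndS (p := 26671) (l := 0) rfl N26671 D60633
theorem N27864 : nd 27864 = n60634 := ndS (p := 26672) (l := 0) rfl N26672 D60634
theorem N27865 : nd 27865 = n60635 := ndS (p := 26674) (l := 0) rfl N26674 D60635
theorem N27866 : nd 27866 = n60636 := ndS (p := 26675) (l := 1) rfl N26675 D60636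
theorem N27867 : nd 27867 = n60637 := ndS (p := 26675) (l := 4) rfl N26675 D60637
theorem N27868 : nd 27868 = n60638 := ndS (p := 26677) (l := 1) rfl N26677 D60638
theorem N27869 : nd 27869 = n60639 := ndS (p := 26677) (l := 4) rfl N26677 D60639
theorem N27870 : nd 27870 = n60640 := ndS (p := 26679) (l := 0) rfl N26679 D60640
theorem N27871 : nd 27871 = n60641 := ndS (p := 26680) (l := 0) rfl N26680 D60641
theorem N27872 : nd 27872 = n60642 := ndS (p := 26680) (l := 4) rfl N26680 D60642
theorem N27873 : nd 27873 = n60643 := ndS (p := 26681) (l := 3) rfl N26681 D60643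
theorem N27874 : nd 27874 = n60644 := ndS (p := 26683) (l := 2) rfl N26683 D60644
theorem N27875 : nd 27875 = n60645 := ndS (p := 26683) (l := 4) rfl N26683 D60645
theorem N27876 : nd 27876 = n60646 := ndS (p := 26684) (l := 1) rfl N26684 D60646
theorem N27877 : nd 27877 = n60647 := ndS (p := 26684) (l := 4) rfl N26684 D60647
theorem N27878 : nd 27878 = n60648 := ndS (p := 26685) (l := 5) rfl N26685 D60648
theorem N27879 : nd 27879 = n60649 := ndS (p := 26686) (l := 1) rfl N26686 D60649
theorem N27880 : nd 27880 = n60650 := ndS (p := 26686) (l := 4) rfl N26686 D60650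
theorem N27881 : nd 27881 = n60651 := ndS (p := 26688) (l := 0) rfl N26688 D60651
theorem N27882 : nd 27882 = n60652 := ndS (p := 26688) (l := 4) rfl N26688 D60652
theorem N27883 : nd 27883 = n60653 := ndS (p := 26689) (l := 3) rfl N26689 D60653
theorem N27884 : nd 27884 = n60654 := ndS (p := 26690) (l := 0) rfl N26690 D60654
theorem N27885 : nd 27885 = n60655 := ndS (p := 26692) (l := 1) rfl N26692 D60655
theorem N27886 : nd 27886 = n60656 := ndS (p := 26692) (l := 4) rfl N26692 D60656
theorem N27887 : nd 27887 = n60657 := ndS (p := 26694) (l := 0) rfl N26694 D60657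
theorem N27888 : nd 27888 = n60658 := ndS (p := 26694) (l := 4) rfl N26694 D60658
theorem N27889 : nd 27889 = n60659 := ndS (p := 26697) (l := 4) rfl N26697 D60659
theorem N27890 : nd 27890 = n60660 := ndS (p := 26699) (l := 0) rfl N26699 D60660
theorem N27891 : nd 27891 = n60661 := ndS (p := 26701) (l := 0) rfl N26701 D60661
theorem N27892 : nd 27892 = n60662 := ndS (p := 26701) (l := 4) rfl N26701 D60662
theorem N27893 : nd 27893 = n60663 := ndS (p := 26702) (l := 3) rfl N26702 D60663
theorem N27894 : nd 27894 = n60664 := ndS (p := 26704) (l := 0) rfl N26704 D60664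
theorem N27895 : nd 27895 = n60665 := ndS (p := 26704) (l := 4) rfl N26704 D60665
theorem N27896 : nd 27896 = n60666 := ndS (p := 26705) (l := 3) rfl N26705 D60666
theorem N27897 : nd 27897 = n60667 := ndS (p := 26706) (l := 4) rfl N26706 D60667
theorem N27898 : nd 27898 = n60668 := ndS (p := 26707) (l := 3) rfl N26707 D60668
theorem N27899 : nd 27899 = n60669 := ndS (p := 26708) (l := 8) rfl N26708 D60669
theorem N27900 : nd 27900 = n60670 := ndS (p := 26709) (l := 0) rfl N26709 D60670
theorem N27901 : nd 27901 = n60671 := ndS (p := 26709) (l := 4) rfl N26709 D60671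
theorem N27902 : nd 27902 = n60672 := ndS (p := 26710) (l := 3) rfl N26710 D60672
theorem N27903 : nd 27903 = n60673 := ndS (p := 26713) (l := 4) rfl N26713 D60673
theorem N27904 : nd 27904 = n60674 := ndS (p := 26714) (l := 5) rfl N26714 D60674
theorem N27905 : nd 27905 = n60675 := ndS (p := 26715) (l := 6) rfl N26715 D60675
theorem N27906 : nd 27906 = n60676 := ndS (p := 26717) (l := 5) rfl N26717 D60676
theorem N27907 : nd 27907 = n60677 := ndS (p := 26718) (l := 6) rfl N26718 D60677
theorem N27908 : nd 27908 = n60678 := ndS (p := 26720) (l := 0) rfl N26720 D60678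
theorem N27909 : nd 27909 = n60679 := ndS (p := 26722) (l := 0) rfl N26722 D60679
theorem N27910 : nd 27910 = n60680 := ndS (p := 26724) (l := 0) rfl N26724 D60680
theorem N27911 : nd 27911 = n60681 := ndS (p := 26724) (l := 4) rfl N26724 D60681
theorem N27912 : nd 27912 = n60682 := ndS (p := 26726) (l := 4) rfl N26726 D60682
theorem N27913 : nd 27913 = n60683 := ndS (p := 26727) (l := 3) rfl N26727 D60683
theorem N27914 : nd 27914 = n60684 := ndS (p := 26728) (l := 8) rfl N26728 D60684
theorem N27915 : nd 27915 = n60685 := ndS (p := 26729) (l := 1) rfl N26729 D60685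
theorem N27916 : nd 27916 = n60686 := ndS (p := 26729) (l := 4) rfl N26729 D60686
theorem N27917 : nd 27917 = n60687 := ndS (p := 26730) (l := 5) rfl N26730 D60687
theorem N27918 : nd 27918 = n60688 := ndS (p := 26731) (l := 0) rfl N26731 D60688
theorem N27919 : nd 27919 = n60689 := ndS (p := 26731) (l := 4) rfl N26731 D60689
theorem N27920 : nd 27920 = n60690 := ndS (p := 26734) (l := 0) rfl N26734 D60690
theorem N27921 : nd 27921 = n60691 := ndS (p := 26734) (l := 4) rfl N26734 D60691
theorem N27922 : nd 27922 = n60692 := ndS (p := 26736) (l := 4) rfl N26736 D60692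
theorem N27923 : nd 27923 = n60693 := ndS (p := 26737) (l := 3) rfl N26737 D60693
theorem N27924 : nd 27924 = n60694 := ndS (p := 26740) (l := 0) rfl N26740 D60694
theorem N27925 : nd 27925 = n60695 := ndS (p := 26742) (l := 4) rfl N26742 D60695
theorem N27926 : nd 27926 = n60696 := ndS (p := 26744) (l := 5) rfl N26744 D60696
theorem N27927 : nd 27927 = n60697 := ndS (p := 26749) (l := 1) rfl N26749 D60697
theorem N27928 : nd 27928 = n60698 := ndS (p := 26749) (l := 4) rfl N26749 D60698
theorem N27929 : nd 27929 = n60699 := ndS (p := 26751) (l := 0) rfl N26751 D60699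
theorem N27930 : nd 27930 = n60700 := ndS (p := 26752) (l := 1) rfl N26752 D60700
theorem N27931 : nd 27931 = n60701 := ndS (p := 26753) (l := 0) rfl N26753 D60701
theorem N27932 : nd 27932 = n60702 := ndS (p := 26754) (l := 1) rfl N26754 D60702
theorem N27933 : nd 27933 = n60703 := ndS (p := 26755) (l := 0) rfl N26755 D60703
theorem N27934 : nd 27934 = n60704 := ndS (p := 26756) (l := 0) rfl N26756 D60704
theorem N27935 : nd 27935 = n60705 := ndS (p := 26756) (l := 4) rfl N26756 D60705
theorem N27936 : nd 27936 = n60706 := ndS (p := 26757) (l := 3) rfl N26757 D60706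
theorem N27937 : nd 27937 = n60707 := ndS (p := 26759) (l := 8) rfl N26759 D60707
theorem N27938 : nd 27938 = n60708 := ndS (p := 26760) (l := 9) rfl N26760 D60708
theorem N27939 : nd 27939 = n60709 := ndS (p := 26761) (l := 0) rfl N26761 D60709
theorem N27940 : nd 27940 = n60710 := ndS (p := 26763) (l := 0) rfl N26763 D60710
theorem N27941 : nd 27941 = n60711 := ndS (p := 26764) (l := 0) rfl N26764 D60711
theorem N27942 : nd 27942 = n60712 := ndS (p := 26764) (l := 4) rfl N26764 D60712
theorem N27943 : nd 27943 = n60713 := ndS (p := 26769) (l := 1) rfl N26769 D60713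
theorem N27944 : nd 27944 = n60714 := ndS (p := 26770) (l := 0) rfl N26770 D60714
theorem N27945 : nd 27945 = n60715 := ndS (p := 26770) (l := 4) rfl N26770 D60715
theorem N27946 : nd 27946 = n60716 := ndS (p := 26772) (l := 4) rfl N26772 D60716
theorem N27947 : nd 27947 = n60717 := ndS (p := 26773) (l := 3) rfl N26773 D60717
theorem N27948 : nd 27948 = n60718 := ndS (p := 26774) (l := 8) rfl N26774 D60718
theorem N27949 : nd 27949 = n60719 := ndS (p := 26775) (l := 2) rfl N26775 D60719
theorem N27950 : nd 27950 = n60720 := ndS (p := 26776) (l := 9) rfl N26776 D60720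
theorem N27951 : nd 27951 = n60721 := ndS (p := 26778) (l := 2) rfl N26778 D60721
theorem N27952 : nd 27952 = n60722 := ndS (p := 26778) (l := 4) rfl N26778 D60722
theorem N27953 : nd 27953 = n60723 := ndS (p := 26779) (l := 1) rfl N26779 D60723
theorem N27954 : nd 27954 = n60724 := ndS (p := 26780) (l := 2) rfl N26780 D60724
theorem N27955 : nd 27955 = n60725 := ndS (p := 26780) (l := 4) rfl N26780 D60725
theorem N27956 : nd 27956 = n60726 := ndS (p := 26781) (l := 4) rfl N26781 D60726
theorem N27957 : nd 27957 = n60727 := ndS (p := 26782) (l := 5) rfl N26782 D60727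
theorem N27958 : nd 27958 = n60728 := ndS (p := 26783) (l := 2) rfl N26783 D60728
theorem N27959 : nd 27959 = n60729 := ndS (p := 26783) (l := 4) rfl N26783 D60729
theorem N27960 : nd 27960 = n60730 := ndS (p := 26784) (l := 2) rfl N26784 D60730
theorem N27961 : nd 27961 = n60731 := ndS (p := 26784) (l := 4) rfl N26784 D60731
theorem N27962 : nd 27962 = n60732 := ndS (p := 26785) (l := 1) rfl N26785 D60732
theorem N27963 : nd 27963 = n60733 := ndS (p := 26785) (l := 4) rfl N26785 D60733
theorem N27964 : nd 27964 = n60734 := ndS (p := 26786) (l := 5) rfl N26786 D60734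
theorem N27965 : nd 27965 = n60735 := ndS (p := 26787) (l := 6) rfl N26787 D60735
theorem N27966 : nd 27966 = n60736 := ndS (p := 26788) (l := 1) rfl N26788 D60736
theorem N27967 : nd 27967 = n60737 := ndS (p := 26788) (l := 4) rfl N26788 D60737
theorem N27968 : nd 27968 = n60738 := ndS (p := 26790) (l := 0) rfl N26790 D60738
theorem N27969 : nd 27969 = n60739 := ndS (p := 26791) (l := 1) rfl N26791 D60739
theorem N27970 : nd 27970 = n60740 := ndS (p := 26792) (l := 2) rfl N26792 D60740
theorem N27971 : nd 27971 = n60741 := ndS (p := 26792) (l := 4) rfl N26792 D60741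
theorem N27972 : nd 27972 = n60742 := ndS (p := 26793) (l := 1) rfl N26793 D60742
theorem N27973 : nd 27973 = n60743 := ndS (p := 26793) (l := 4) rfl N26793 D60743
theorem N27974 : nd 27974 = n60744 := ndS (p := 26794) (l := 5) rfl N26794 D60744
theorem N27975 : nd 27975 = n60745 := ndS (p := 26795) (l := 6) rfl N26795 D60745
theorem N27976 : nd 27976 = n60746 := ndS (p := 26796) (l := 2) rfl N26796 D60746
theorem N27977 : nd 27977 = n60747 := ndS (p := 26796) (l := 4) rfl N26796 D60747
theorem N27978 : nd 27978 = n60748 := ndS (p := 26797) (l := 1) rfl N26797 D60748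
theorem N27979 : nd 27979 = n60749 := ndS (p := 26797) (l := 4) rfl N26797 D60749
theorem N27980 : nd 27980 = n60750 := ndS (p := 26799) (l := 0) rfl N26799 D60750
theorem N27981 : nd 27981 = n60751 := ndS (p := 26800) (l := 2) rfl N26800 D60751
theorem N27982 : nd 27982 = n60752 := ndS (p := 26800) (l := 4) rfl N26800 D60752
theorem N27983 : nd 27983 = n60753 := ndS (p := 26801) (l := 1) rfl N26801 D60753
theorem N27984 : nd 27984 = n60754 := ndS (p := 26801) (l := 4) rfl N26801 D60754
theorem N27985 : nd 27985 = n60755 := ndS (p := 26802) (l := 5) rfl N26802 D60755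
theorem N27986 : nd 27986 = n60756 := ndS (p := 26803) (l := 0) rfl N26803 D60756
theorem N27987 : nd 27987 = n60757 := ndS (p := 26803) (l := 4) rfl N26803 D60757
theorem N27988 : nd 27988 = n60758 := ndS (p := 26804) (l := 5) rfl N26804 D60758
theorem N27989 : nd 27989 = n60759 := ndS (p := 26806) (l := 0) rfl N26806 D60759
theorem N27990 : nd 27990 = n60760 := ndS (p := 26806) (l := 4) rfl N26806 D60760
theorem N27991 : nd 27991 = n60761 := ndS (p := 26807) (l := 3) rfl N26807 D60761
theorem N27992 : nd 27992 = n60762 := ndS (p := 26810) (l := 4) rfl N26810 D60762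
theorem N27993 : nd 27993 = n60763 := ndS (p := 26811) (l := 5) rfl N26811 D60763
theorem N27994 : nd 27994 = n60764 := ndS (p := 26812) (l := 3) rfl N26812 D60764
theorem N27995 : nd 27995 = n60765 := ndS (p := 26813) (l := 8) rfl N26813 D60765
theorem N27996 : nd 27996 = n60766 := ndS (p := 26814) (l := 0) rfl N26814 D60766
theorem N27997 : nd 27997 = n60767 := ndS (p := 26815) (l := 1) rfl N26815 D60767
theorem N27998 : nd 27998 = n60768 := ndS (p := 26815) (l := 4) rfl N26815 D60768
theorem N27999 : nd 27999 = n60769 := ndS (p := 26816) (l := 5) rfl N26816 D60769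
theorem N28000 : nd 28000 = n60770 := ndS (p := 26817) (l := 0) rfl N26817 D60770
theorem N28001 : nd 28001 = n60771 := ndS (p := 26817) (l := 4) rfl N26817 D60771
theorem N28002 : nd 28002 = n60772 := ndS (p := 26818) (l := 5) rfl N26818 D60772
theorem N28003 : nd 28003 = n60773 := ndS (p := 26819) (l := 6) rfl N26819 D60773
theorem N28004 : nd 28004 = n60774 := ndS (p := 26821) (l := 1) rfl N26821 D60774
theorem N28005 : nd 28005 = n60775 := ndS (p := 26821) (l := 4) rfl N26821 D60775
theorem N28006 : nd 28006 = n60776 := ndS (p := 26822) (l := 5) rfl N26822 D60776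
theorem N28007 : nd 28007 = n60777 := ndS (p := 26823) (l := 0) rfl N26823 D60777
theorem N28008 : nd 28008 = n60778 := ndS (p := 26823) (l := 4) rfl N26823 D60778
theorem N28009 : nd 28009 = n60779 := ndS (p := 26824) (l := 3) rfl N26824 D60779
theorem N28010 : nd 28010 = n60780 := ndS (p := 26826) (l := 2) rfl N26826 D60780
theorem N28011 : nd 28011 = n60781 := ndS (p := 26826) (l := 4) rfl N26826 D60781
theorem N28012 : nd 28012 = n60782 := ndS (p := 26827) (l := 1) rfl N26827 D60782
theorem N28013 : nd 28013 = n60783 := ndS (p := 26827) (l := 4) rfl N26827 D60783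
theorem N28014 : nd 28014 = n60784 := ndS (p := 26829) (l := 0) rfl N26829 D60784
theorem N28015 : nd 28015 = n60785 := ndS (p := 26829) (l := 4) rfl N26829 D60785
theorem N28016 : nd 28016 = n60786 := ndS (p := 26831) (l := 2) rfl N26831 D60786
theorem N28017 : nd 28017 = n60787 := ndS (p := 26831) (l := 4) rfl N26831 D60787
theorem N28018 : nd 28018 = n60788 := ndS (p := 26832) (l := 1) rfl N26832 D60788
theorem N28019 : nd 28019 = n60789 := ndS (p := 26832) (l := 4) rfl N26832 D60789
theorem N28020 : nd 28020 = n60790 := ndS (p := 26833) (l := 5) rfl N26833 D60790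
theorem N28021 : nd 28021 = n60791 := ndS (p := 26834) (l := 1) rfl N26834 D60791
theorem N28022 : nd 28022 = n60792 := ndS (p := 26834) (l := 4) rfl N26834 D60792
theorem N28023 : nd 28023 = n60793 := ndS (p := 26835) (l := 5) rfl N26835 D60793
theorem N28024 : nd 28024 = n60794 := ndS (p := 26836) (l := 0) rfl N26836 D60794
theorem N28025 : nd 28025 = n60795 := ndS (p := 26836) (l := 4) rfl N26836 D60795
theorem N28026 : nd 28026 = n60796 := ndS (p := 26837) (l := 5) rfl N26837 D60796
theorem N28027 : nd 28027 = n60797 := ndS (p := 26838) (l := 6) rfl N26838 D60797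
theorem N28028 : nd 28028 = n60798 := ndS (p := 26839) (l := 0) rfl N26839 D60798
theorem N28029 : nd 28029 = n60799 := ndS (p := 26839) (l := 4) rfl N26839 D60799
theorem N28030 : nd 28030 = n60800 := ndS (p := 26840) (l := 3) rfl N26840 D60800
theorem N28031 : nd 28031 = n60801 := ndS (p := 26840) (l := 5) rfl N26840 D60801
theorem N28032 : nd 28032 = n60802 := ndS (p := 26842) (l := 4) rfl N26842 D60802
theorem N28033 : nd 28033 = n60803 := ndS (p := 26843) (l := 5) rfl N26843 D60803
theorem N28034 : nd 28034 = n60804 := ndS (p := 26844) (l := 6) rfl N26844 D60804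
theorem N28035 : nd 28035 = n60805 := ndS (p := 26846) (l := 4) rfl N26846 D60805
theorem N28036 : nd 28036 = n60806 := ndS (p := 26847) (l := 3) rfl N26847 D60806
theorem N28037 : nd 28037 = n60807 := ndS (p := 26848) (l := 8) rfl N26848 D60807
theorem N28038 : nd 28038 = n60808 := ndS (p := 26849) (l := 3) rfl N26849 D60808
theorem N28039 : nd 28039 = n60809 := ndS (p := 26850) (l := 6) rfl N26850 D60809
theorem N28040 : nd 28040 = n60810 := ndS (p := 26852) (l := 3) rfl N26852 D60810
theorem N28041 : nd 28041 = n60811 := ndS (p := 26855) (l := 8) rfl N26855 D60811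
theorem N28042 : nd 28042 = n60812 := ndS (p := 26856) (l := 9) rfl N26856 D60812
theorem N28043 : nd 28043 = n60813 := ndS (p := 26857) (l := 9) rfl N26857 D60813
theorem N28044 : nd 28044 = n60814 := ndS (p := 26861) (l := 1) rfl N26861 D60814
theorem N28045 : nd 28045 = n60815 := ndS (p := 26862) (l := 0) rfl N26862 D60815
theorem N28046 : nd 28046 = n60816 := ndS (p := 26863) (l := 2) rfl N26863 D60816
theorem N28047 : nd 28047 = n60817 := ndS (p := 26864) (l := 2) rfl N26864 D60817
theorem N28048 : nd 28048 = n60818 := ndS (p := 26864) (l := 4) rfl N26864 D60818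
theorem N28049 : nd 28049 = n60819 := ndS (p := 26865) (l := 1) rfl N26865 D60819
theorem N28050 : nd 28050 = n60820 := ndS (p := 26866) (l := 1) rfl N26866 D60820
theorem N28051 : nd 28051 = n60821 := ndS (p := 26866) (l := 4) rfl N26866 D60821
theorem N28052 : nd 28052 = n60822 := ndS (p := 26868) (l := 0) rfl N26868 D60822
theorem N28053 : nd 28053 = n60823 := ndS (p := 26869) (l := 1) rfl N26869 D60823
theorem N28054 : nd 28054 = n60824 := ndS (p := 26869) (l := 4) rfl N26869 D60824
theorem N28055 : nd 28055 = n60825 := ndS (p := 26871) (l := 0) rfl N26871 D60825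
theorem N28056 : nd 28056 = n60826 := ndS (p := 26871) (l := 4) rfl N26871 D60826
theorem N28057 : nd 28057 = n60827 := ndS (p := 26873) (l := 0) rfl N26873 D60827
theorem N28058 : nd 28058 = n60828 := ndS (p := 26873) (l := 4) rfl N26873 D60828
theorem N28059 : nd 28059 = n60829 := ndS (p := 26876) (l := 1) rfl N26876 D60829
theorem N28060 : nd 28060 = n60830 := ndS (p := 26876) (l := 4) rfl N26876 D60830
theorem N28061 : nd 28061 = n60831 := ndS (p := 26878) (l := 0) rfl N26878 D60831
theorem N28062 : nd 28062 = n60832 := ndS (p := 26879) (l := 0) rfl N26879 D60832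
theorem N28063 : nd 28063 = n60833 := ndS (p := 26880) (l := 1) rfl N26880 D60833
theorem N28064 : nd 28064 = n60834 := ndS (p := 26880) (l := 4) rfl N26880 D60834
theorem N28065 : nd 28065 = n60835 := ndS (p := 26882) (l := 0) rfl N26882 D60835
theorem N28066 : nd 28066 = n60836 := ndS (p := 26882) (l := 4) rfl N26882 D60836
theorem N28067 : nd 28067 = n60837 := ndS (p := 26884) (l := 0) rfl N26884 D60837
theorem N28068 : nd 28068 = n60838 := ndS (p := 26884) (l := 4) rfl N26884 D60838
theorem N28069 : nd 28069 = n60839 := ndS (p := 26887) (l := 1) rfl N26887 D60839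
theorem N28070 : nd 28070 = n60840 := ndS (p := 26887) (l := 4) rfl N26887 D60840
theorem N28071 : nd 28071 = n60841 := ndS (p := 26889) (l := 0) rfl N26889 D60841
theorem N28072 : nd 28072 = n60842 := ndS (p := 26891) (l := 4) rfl N26891 D60842
theorem N28073 : nd 28073 = n60843 := ndS (p := 26893) (l := 1) rfl N26893 D60843
theorem N28074 : nd 28074 = n60844 := ndS (p := 26893) (l := 4) rfl N26893 D60844
theorem N28075 : nd 28075 = n60845 := ndS (p := 26895) (l := 0) rfl N26895 D60845
theorem N28076 : nd 28076 = n60846 := ndS (p := 26895) (l := 4) rfl N26895 D60846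
theorem N28077 : nd 28077 = n60847 := ndS (p := 26897) (l := 4) rfl N26897 D60847
theorem N28078 : nd 28078 = n60848 := ndS (p := 26899) (l := 2) rfl N26899 D60848
theorem N28079 : nd 28079 = n60849 := ndS (p := 26899) (l := 4) rfl N26899 D60849
theorem N28080 : nd 28080 = n60850 := ndS (p := 26900) (l := 5) rfl N26900 D60850
theorem N28081 : nd 28081 = n60851 := ndS (p := 26901) (l := 2) rfl N26901 D60851
theorem N28082 : nd 28082 = n60852 := ndS (p := 26901) (l := 4) rfl N26901 D60852
theorem N28083 : nd 28083 = n60853 := ndS (p := 26902) (l := 2) rfl N26902 D60853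
theorem N28084 : nd 28084 = n60854 := ndS (p := 26902) (l := 4) rfl N26902 D60854
theorem N28085 : nd 28085 = n60855 := ndS (p := 26903) (l := 1) rfl N26903 D60855
theorem N28086 : nd 28086 = n60856 := ndS (p := 26903) (l := 4) rfl N26903 D60856
theorem N28087 : nd 28087 = n60857 := ndS (p := 26904) (l := 5) rfl N26904 D60857
theorem N28088 : nd 28088 = n60858 := ndS (p := 26905) (l := 6) rfl N26905 D60858
theorem N28089 : nd 28089 = n60859 := ndS (p := 26906) (l := 2) rfl N26906 D60859
theorem N28090 : nd 28090 = n60860 := ndS (p := 26906) (l := 4) rfl N26906 D60860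
theorem N28091 : nd 28091 = n60861 := ndS (p := 26907) (l := 1) rfl N26907 D60861
theorem N28092 : nd 28092 = n60862 := ndS (p := 26907) (l := 4) rfl N26907 D60862
theorem N28093 : nd 28093 = n60863 := ndS (p := 26909) (l := 0) rfl N26909 D60863
theorem N28094 : nd 28094 = n60864 := ndS (p := 26910) (l := 2) rfl N26910 D60864
theorem N28095 : nd 28095 = n60865 := ndS (p := 26910) (l := 4) rfl N26910 D60865
theorem N28096 : nd 28096 = n60866 := ndS (p := 26912) (l := 1) rfl N26912 D60866
theorem N28097 : nd 28097 = n60867 := ndS (p := 26912) (l := 4) rfl N26912 D60867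
theorem N28098 : nd 28098 = n60868 := ndS (p := 26913) (l := 5) rfl N26913 D60868
theorem N28099 : nd 28099 = n60869 := ndS (p := 26914) (l := 3) rfl N26914 D60869
theorem N28100 : nd 28100 = n60870 := ndS (p := 26916) (l := 1) rfl N26916 D60870
theorem N28101 : nd 28101 = n60871 := ndS (p := 26916) (l := 4) rfl N26916 D60871
theorem N28102 : nd 28102 = n60872 := ndS (p := 26917) (l := 5) rfl N26917 D60872
theorem N28103 : nd 28103 = n60873 := ndS (p := 26918) (l := 1) rfl N26918 D60873
theorem N28104 : nd 28104 = n60874 := ndS (p := 26918) (l := 4) rfl N26918 D60874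
theorem N28105 : nd 28105 = n60875 := ndS (p := 26919) (l := 5) rfl N26919 D60875
theorem N28106 : nd 28106 = n60876 := ndS (p := 26920) (l := 0) rfl N26920 D60876
theorem N28107 : nd 28107 = n60877 := ndS (p := 26920) (l := 4) rfl N26920 D60877
theorem N28108 : nd 28108 = n60878 := ndS (p := 26921) (l := 5) rfl N26921 D60878
theorem N28109 : nd 28109 = n60879 := ndS (p := 26922) (l := 6) rfl N26922 D60879
theorem N28110 : nd 28110 = n60880 := ndS (p := 26924) (l := 0) rfl N26924 D60880
theorem N28111 : nd 28111 = n60881 := ndS (p := 26924) (l := 4) rfl N26924 D60881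
theorem N28112 : nd 28112 = n60882 := ndS (p := 26925) (l := 3) rfl N26925 D60882
theorem N28113 : nd 28113 = n60883 := ndS (p := 26927) (l := 2) rfl N26927 D60883
theorem N28114 : nd 28114 = n60884 := ndS (p := 26927) (l := 4) rfl N26927 D60884
theorem N28115 : nd 28115 = n60885 := ndS (p := 26928) (l := 1) rfl N26928 D60885
theorem N28116 : nd 28116 = n60886 := ndS (p := 26928) (l := 4) rfl N26928 D60886
theorem N28117 : nd 28117 = n60887 := ndS (p := 26930) (l := 0) rfl N26930 D60887
theorem N28118 : nd 28118 = n60888 := ndS (p := 26931) (l := 1) rfl N26931 D60888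
theorem N28119 : nd 28119 = n60889 := ndS (p := 26931) (l := 4) rfl N26931 D60889
theorem N28120 : nd 28120 = n60890 := ndS (p := 26933) (l := 1) rfl N26933 D60890
theorem N28121 : nd 28121 = n60891 := ndS (p := 26933) (l := 4) rfl N26933 D60891
theorem N28122 : nd 28122 = n60892 := ndS (p := 26935) (l := 0) rfl N26935 D60892
theorem N28123 : nd 28123 = n60893 := ndS (p := 26935) (l := 4) rfl N26935 D60893
theorem N28124 : nd 28124 = n60894 := ndS (p := 26936) (l := 5) rfl N26936 D60894
theorem N28125 : nd 28125 = n60895 := ndS (p := 26938) (l := 1) rfl N26938 D60895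
theorem N28126 : nd 28126 = n60896 := ndS (p := 26938) (l := 4) rfl N26938 D60896
theorem N28127 : nd 28127 = n60897 := ndS (p := 26939) (l := 5) rfl N26939 D60897
theorem N28128 : nd 28128 = n60898 := ndS (p := 26940) (l := 0) rfl N26940 D60898
theorem N28129 : nd 28129 = n60899 := ndS (p := 26940) (l := 4) rfl N26940 D60899
theorem N28130 : nd 28130 = n60900 := ndS (p := 26941) (l := 3) rfl N26941 D60900
theorem N28131 : nd 28131 = n60901 := ndS (p := 26943) (l := 1) rfl N26943 D60901
theorem N28132 : nd 28132 = n60902 := ndS (p := 26943) (l := 4) rfl N26943 D60902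
theorem N28133 : nd 28133 = n60903 := ndS (p := 26945) (l := 0) rfl N26945 D60903
theorem N28134 : nd 28134 = n60904 := ndS (p := 26945) (l := 4) rfl N26945 D60904
theorem N28135 : nd 28135 = n60905 := ndS (p := 26947) (l := 1) rfl N26947 D60905
theorem N28136 : nd 28136 = n60906 := ndS (p := 26948) (l := 1) rfl N26948 D60906
theorem N28137 : nd 28137 = n60907 := ndS (p := 26948) (l := 4) rfl N26948 D60907
theorem N28138 : nd 28138 = n60908 := ndS (p := 26950) (l := 0) rfl N26950 D60908
theorem N28139 : nd 28139 = n60909 := ndS (p := 26950) (l := 4) rfl N26950 D60909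
theorem N28140 : nd 28140 = n60910 := ndS (p := 26951) (l := 3) rfl N26951 D60910
theorem N28141 : nd 28141 = n60911 := ndS (p := 26951) (l := 5) rfl N26951 D60911
theorem N28142 : nd 28142 = n60912 := ndS (p := 26953) (l := 0) rfl N26953 D60912
theorem N28143 : nd 28143 = n60913 := ndS (p := 26954) (l := 4) rfl N26954 D60913
theorem N28144 : nd 28144 = n60914 := ndS (p := 26955) (l := 5) rfl N26955 D60914
theorem N28145 : nd 28145 = n60915 := ndS (p := 26957) (l := 1) rfl N26957 D60915
theorem N28146 : nd 28146 = n60916 := ndS (p := 26957) (l := 4) rfl N26957 D60916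
theorem N28147 : nd 28147 = n60917 := ndS (p := 26959) (l := 0) rfl N26959 D60917
theorem N28148 : nd 28148 = n60918 := ndS (p := 26959) (l := 4) rfl N26959 D60918
theorem N28149 : nd 28149 = n60919 := ndS (p := 26961) (l := 4) rfl N26961 D60919
theorem N28150 : nd 28150 = n60920 := ndS (p := 26962) (l := 3) rfl N26962 D60920
theorem N28151 : nd 28151 = n60921 := ndS (p := 26963) (l := 8) rfl N26963 D60921
theorem N28152 : nd 28152 = n60922 := ndS (p := 26965) (l := 8) rfl N26965 D60922
theorem N28153 : nd 28153 = n60923 := ndS (p := 26966) (l := 9) rfl N26966 D60923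
theorem N28154 : nd 28154 = n60924 := ndS (p := 26967) (l := 2) rfl N26967 D60924
theorem N28155 : nd 28155 = n60925 := ndS (p := 26967) (l := 4) rfl N26967 D60925
theorem N28156 : nd 28156 = n60926 := ndS (p := 26968) (l := 1) rfl N26968 D60926
theorem N28157 : nd 28157 = n60927 := ndS (p := 26968) (l := 4) rfl N26968 D60927
theorem N28158 : nd 28158 = n60928 := ndS (p := 26969) (l := 5) rfl N26969 D60928
theorem N28159 : nd 28159 = n60929 := ndS (p := 26970) (l := 0) rfl N26970 D60929
theorem N28160 : nd 28160 = n60930 := ndS (p := 26970) (l := 4) rfl N26970 D60930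
theorem N28161 : nd 28161 = n60931 := ndS (p := 26971) (l := 3) rfl N26971 D60931
theorem N28162 : nd 28162 = n60932 := ndS (p := 26973) (l := 1) rfl N26973 D60932
theorem N28163 : nd 28163 = n60933 := ndS (p := 26973) (l := 4) rfl N26973 D60933
theorem N28164 : nd 28164 = n60934 := ndS (p := 26975) (l := 0) rfl N26975 D60934
theorem N28165 : nd 28165 = n60935 := ndS (p := 26975) (l := 4) rfl N26975 D60935
theorem N28166 : nd 28166 = n60936 := ndS (p := 26976) (l := 5) rfl N26976 D60936
theorem N28167 : nd 28167 = n60937 := ndS (p := 26978) (l := 4) rfl N26978 D60937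
theorem N28168 : nd 28168 = n60938 := ndS (p := 26979) (l := 5) rfl N26979 D60938
theorem N28169 : nd 28169 = n60939 := ndS (p := 26980) (l := 6) rfl N26980 D60939
theorem N28170 : nd 28170 = n60940 := ndS (p := 26982) (l := 1) rfl N26982 D60940
theorem N28171 : nd 28171 = n60941 := ndS (p := 26982) (l := 4) rfl N26982 D60941
theorem N28172 : nd 28172 = n60942 := ndS (p := 26984) (l := 0) rfl N26984 D60942
theorem N28173 : nd 28173 = n60943 := ndS (p := 26984) (l := 4) rfl N26984 D60943
theorem N28174 : nd 28174 = n60944 := ndS (p := 26985) (l := 5) rfl N26985 D60944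
theorem N28175 : nd 28175 = n60945 := ndS (p := 26987) (l := 4) rfl N26987 D60945
theorem N28176 : nd 28176 = n60946 := ndS (p := 26988) (l := 3) rfl N26988 D60946
theorem N28177 : nd 28177 = n60947 := ndS (p := 26990) (l := 1) rfl N26990 D60947
theorem N28178 : nd 28178 = n60948 := ndS (p := 26991) (l := 0) rfl N26991 D60948
theorem N28179 : nd 28179 = n60949 := ndS (p := 26991) (l := 4) rfl N26991 D60949
theorem N28180 : nd 28180 = n60950 := ndS (p := 26993) (l := 1) rfl N26993 D60950
theorem N28181 : nd 28181 = n60951 := ndS (p := 26993) (l := 4) rfl N26993 D60951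
theorem N28182 : nd 28182 = n60952 := ndS (p := 26995) (l := 0) rfl N26995 D60952
theorem N28183 : nd 28183 = n60953 := ndS (p := 26995) (l := 4) rfl N26995 D60953
theorem N28184 : nd 28184 = n60954 := ndS (p := 26997) (l := 0) rfl N26997 D60954
theorem N28185 : nd 28185 = n60955 := ndS (p := 26998) (l := 4) rfl N26998 D60955
theorem N28186 : nd 28186 = n60956 := ndS (p := 26999) (l := 5) rfl N26999 D60956
theorem N28187 : nd 28187 = n60957 := ndS (p := 27001) (l := 0) rfl N27001 D60957
theorem N28188 : nd 28188 = n60958 := ndS (p := 27001) (l := 4) rfl N27001 D60958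
theorem N28189 : nd 28189 = n60959 := ndS (p := 27003) (l := 4) rfl N27003 D60959
theorem N28190 : nd 28190 = n60960 := ndS (p := 27004) (l := 5) rfl N27004 D60960
theorem N28191 : nd 28191 = n60961 := ndS (p := 27005) (l := 6) rfl N27005 D60961
theorem N28192 : nd 28192 = n60962 := ndS (p := 27007) (l := 1) rfl N27007 D60962
theorem N28193 : nd 28193 = n60963 := ndS (p := 27008) (l := 0) rfl N27008 D60963
theorem N28194 : nd 28194 = n60964 := ndS (p := 27010) (l := 5) rfl N27010 D60964
theorem N28195 : nd 28195 = n60965 := ndS (p := 27011) (l := 6) rfl N27011 D60965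
theorem N28196 : nd 28196 = n60966 := ndS (p := 27013) (l := 0) rfl N27013 D60966
theorem N28197 : nd 28197 = n60967 := ndS (p := 27013) (l := 4) rfl N27013 D60967
theorem N28198 : nd 28198 = n60968 := ndS (p := 27015) (l := 4) rfl N27015 D60968
theorem N28199 : nd 28199 = n60969 := ndS (p := 27017) (l := 3) rfl N27017 D60969
theorem N28200 : nd 28200 = n60970 := ndS (p := 27018) (l := 2) rfl N27018 D60970
theorem N28201 : nd 28201 = n60971 := ndS (p := 27018) (l := 8) rfl N27018 D60971
theorem N28202 : nd 28202 = n60972 := ndS (p := 27019) (l := 9) rfl N27019 D60972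
theorem N28203 : nd 28203 = n60973 := ndS (p := 27020) (l := 2) rfl N27020 D60973
theorem N28204 : nd 28204 = n60974 := ndS (p := 27023) (l := 1) rfl N27023 D60974
theorem N28205 : nd 28205 = n60975 := ndS (p := 27024) (l := 0) rfl N27024 D60975
theorem N28206 : nd 28206 = n60976 := ndS (p := 27025) (l := 1) rfl N27025 D60976
theorem N28207 : nd 28207 = n60977 := ndS (p := 27026) (l := 1) rfl N27026 D60977
theorem N28208 : nd 28208 = n60978 := ndS (p := 27026) (l := 4) rfl N27026 D60978
theorem N28209 : nd 28209 = n60979 := ndS (p := 27028) (l := 1) rfl N27028 D60979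
theorem N28210 : nd 28210 = n60980 := ndS (p := 27028) (l := 4) rfl N27028 D60980
theorem N28211 : nd 28211 = n60981 := ndS (p := 27030) (l := 0) rfl N27030 D60981
theorem N28212 : nd 28212 = n60982 := ndS (p := 27031) (l := 1) rfl N27031 D60982
theorem N28213 : nd 28213 = n60983 := ndS (p := 27032) (l := 0) rfl N27032 D60983
theorem N28214 : nd 28214 = n60984 := ndS (p := 27033) (l := 0) rfl N27033 D60984
theorem N28215 : nd 28215 = n60985 := ndS (p := 27033) (l := 4) rfl N27033 D60985
theorem N28216 : nd 28216 = n60986 := ndS (p := 27035) (l := 0) rfl N27035 D60986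
theorem N28217 : nd 28217 = n60987 := ndS (p := 27035) (l := 4) rfl N27035 D60987
theorem N28218 : nd 28218 = n60988 := ndS (p := 27038) (l := 2) rfl N27038 D60988
theorem N28219 : nd 28219 = n60989 := ndS (p := 27038) (l := 4) rfl N27038 D60989
theorem N28220 : nd 28220 = n60990 := ndS (p := 27039) (l := 2) rfl N27039 D60990
theorem N28221 : nd 28221 = n60991 := ndS (p := 27039) (l := 4) rfl N27039 D60991
theorem N28222 : nd 28222 = n60992 := ndS (p := 27040) (l := 1) rfl N27040 D60992
theorem N28223 : nd 28223 = n60993 := ndS (p := 27040) (l := 4) rfl N27040 D60993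
theorem N28224 : nd 28224 = n60994 := ndS (p := 27041) (l := 5) rfl N27041 D60994
theorem N28225 : nd 28225 = n60995 := ndS (p := 27043) (l := 1) rfl N27043 D60995
theorem N28226 : nd 28226 = n60996 := ndS (p := 27043) (l := 4) rfl N27043 D60996
theorem N28227 : nd 28227 = n60997 := ndS (p := 27045) (l := 0) rfl N27045 D60997
theorem N28228 : nd 28228 = n60998 := ndS (p := 27046) (l := 0) rfl N27046 D60998
theorem N28229 : nd 28229 = n60999 := ndS (p := 27047) (l := 1) rfl N27047 D60999
theorem N28230 : nd 28230 = n61000 := ndS (p := 27047) (l := 4) rfl N27047 D61000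
theorem N28231 : nd 28231 = n61001 := ndS (p := 27049) (l := 1) rfl N27049 D61001
theorem N28232 : nd 28232 = n61002 := ndS (p := 27049) (l := 4) rfl N27049 D61002
theorem N28233 : nd 28233 = n61003 := ndS (p := 27050) (l := 5) rfl N27050 D61003
theorem N28234 : nd 28234 = n61004 := ndS (p := 27051) (l := 0) rfl N27051 D61004
theorem N28235 : nd 28235 = n61005 := ndS (p := 27051) (l := 4) rfl N27051 D61005
theorem N28236 : nd 28236 = n61006 := ndS (p := 27052) (l := 5) rfl N27052 D61006
theorem N28237 : nd 28237 = n61007 := ndS (p := 27054) (l := 1) rfl N27054 D61007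
theorem N28238 : nd 28238 = n61008 := ndS (p := 27054) (l := 4) rfl N27054 D61008
theorem N28239 : nd 28239 = n61009 := ndS (p := 27056) (l := 0) rfl N27056 D61009
theorem N28240 : nd 28240 = n61010 := ndS (p := 27056) (l := 4) rfl N27056 D61010
theorem N28241 : nd 28241 = n61011 := ndS (p := 27057) (l := 3) rfl N27057 D61011
theorem N28242 : nd 28242 = n61012 := ndS (p := 27060) (l := 0) rfl N27060 D61012
theorem N28243 : nd 28243 = n61013 := ndS (p := 27062) (l := 0) rfl N27062 D61013
theorem N28244 : nd 28244 = n61014 := ndS (p := 27062) (l := 4) rfl N27062 D61014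
theorem N28245 : nd 28245 = n61015 := ndS (p := 27064) (l := 0) rfl N27064 D61015
theorem N28246 : nd 28246 = n61016 := ndS (p := 27064) (l := 4) rfl N27064 D61016
theorem N28247 : nd 28247 = n61017 := ndS (p := 27066) (l := 4) rfl N27066 D61017
theorem N28248 : nd 28248 = n61018 := ndS (p := 27067) (l := 5) rfl N27067 D61018
theorem N28249 : nd 28249 = n61019 := ndS (p := 27069) (l := 0) rfl N27069 D61019
theorem N28250 : nd 28250 = n61020 := ndS (p := 27069) (l := 4) rfl N27069 D61020
theorem N28251 : nd 28251 = n61021 := ndS (p := 27071) (l := 4) rfl N27071 D61021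
theorem N28252 : nd 28252 = n61022 := ndS (p := 27072) (l := 3) rfl N27072 D61022
theorem N28253 : nd 28253 = n61023 := ndS (p := 27074) (l := 0) rfl N27074 D61023
theorem N28254 : nd 28254 = n61024 := ndS (p := 27075) (l := 0) rfl N27075 D61024
theorem N28255 : nd 28255 = n61025 := ndS (p := 27076) (l := 2) rfl N27076 D61025
theorem N28256 : nd 28256 = n61026 := ndS (p := 27077) (l := 1) rfl N27077 D61026
theorem N28257 : nd 28257 = n61027 := ndS (p := 27078) (l := 1) rfl N27078 D61027
theorem N28258 : nd 28258 = n61028 := ndS (p := 27078) (l := 4) rfl N27078 D61028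
theorem N28259 : nd 28259 = n61029 := ndS (p := 27080) (l := 0) rfl N27080 D61029
theorem N28260 : nd 28260 = n61030 := ndS (p := 27080) (l := 4) rfl N27080 D61030
theorem N28261 : nd 28261 = n61031 := ndS (p := 27083) (l := 1) rfl N27083 D61031
theorem N28262 : nd 28262 = n61032 := ndS (p := 27084) (l := 2) rfl N27084 D61032
theorem N28263 : nd 28263 = n61033 := ndS (p := 27084) (l := 4) rfl N27084 D61033
theorem N28264 : nd 28264 = n61034 := ndS (p := 27085) (l := 2) rfl N27085 D61034
theorem N28265 : nd 28265 = n61035 := ndS (p := 27085) (l := 4) rfl N27085 D61035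
theorem N28266 : nd 28266 = n61036 := ndS (p := 27086) (l := 1) rfl N27086 D61036
theorem N28267 : nd 28267 = n61037 := ndS (p := 27086) (l := 4) rfl N27086 D61037
theorem N28268 : nd 28268 = n61038 := ndS (p := 27087) (l := 5) rfl N27087 D61038
theorem N28269 : nd 28269 = n61039 := ndS (p := 27088) (l := 6) rfl N27088 D61039
theorem N28270 : nd 28270 = n61040 := ndS (p := 27089) (l := 1) rfl N27089 D61040
theorem N28271 : nd 28271 = n61041 := ndS (p := 27089) (l := 4) rfl N27089 D61041
theorem N28272 : nd 28272 = n61042 := ndS (p := 27091) (l := 0) rfl N27091 D61042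
theorem N28273 : nd 28273 = n61043 := ndS (p := 27092) (l := 1) rfl N27092 D61043
theorem N28274 : nd 28274 = n61044 := ndS (p := 27093) (l := 0) rfl N27093 D61044
theorem N28275 : nd 28275 = n61045 := ndS (p := 27094) (l := 1) rfl N27094 D61045
theorem N28276 : nd 28276 = n61046 := ndS (p := 27094) (l := 4) rfl N27094 D61046
theorem N28277 : nd 28277 = n61047 := ndS (p := 27096) (l := 1) rfl N27096 D61047
theorem N28278 : nd 28278 = n61048 := ndS (p := 27096) (l := 4) rfl N27096 D61048
theorem N28279 : nd 28279 = n61049 := ndS (p := 27097) (l := 5) rfl N27097 D61049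
theorem N28280 : nd 28280 = n61050 := ndS (p := 27098) (l := 1) rfl N27098 D61050
theorem N28281 : nd 28281 = n61051 := ndS (p := 27099) (l := 0) rfl N27099 D61051
theorem N28282 : nd 28282 = n61052 := ndS (p := 27099) (l := 4) rfl N27099 D61052
theorem N28283 : nd 28283 = n61053 := ndS (p := 27100) (l := 5) rfl N27100 D61053
theorem N28284 : nd 28284 = n61054 := ndS (p := 27102) (l := 0) rfl N27102 D61054
theorem N28285 : nd 28285 = n61055 := ndS (p := 27102) (l := 4) rfl N27102 D61055
theorem N28286 : nd 28286 = n61056 := ndS (p := 27103) (l := 3) rfl N27103 D61056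
theorem N28287 : nd 28287 = n61057 := ndS (p := 27105) (l := 8) rfl N27105 D61057
theorem N28288 : nd 28288 = n61058 := ndS (p := 27106) (l := 0) rfl N27106 D61058
theorem N28289 : nd 28289 = n61059 := ndS (p := 27107) (l := 0) rfl N27107 D61059
theorem N28290 : nd 28290 = n61060 := ndS (p := 27108) (l := 1) rfl N27108 D61060
theorem N28291 : nd 28291 = n61061 := ndS (p := 27109) (l := 0) rfl N27109 D61061
theorem N28292 : nd 28292 = n61062 := ndS (p := 27111) (l := 0) rfl N27111 D61062
theorem N28293 : nd 28293 = n61063 := ndS (p := 27111) (l := 4) rfl N27111 D61063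
theorem N28294 : nd 28294 = n61064 := ndS (p := 27112) (l := 3) rfl N27112 D61064
theorem N28295 : nd 28295 = n61065 := ndS (p := 27112) (l := 5) rfl N27112 D61065
theorem N28296 : nd 28296 = n61066 := ndS (p := 27115) (l := 0) rfl N27115 D61066
theorem N28297 : nd 28297 = n61067 := ndS (p := 27115) (l := 4) rfl N27115 D61067
theorem N28298 : nd 28298 = n61068 := ndS (p := 27116) (l := 3) rfl N27116 D61068
theorem N28299 : nd 28299 = n61069 := ndS (p := 27116) (l := 5) rfl N27116 D61069
theorem N28300 : nd 28300 = n61070 := ndS (p := 27118) (l := 4) rfl N27118 D61070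
theorem N28301 : nd 28301 = n61071 := ndS (p := 27119) (l := 5) rfl N27119 D61071
theorem N28302 : nd 28302 = n61072 := ndS (p := 27121) (l := 4) rfl N27121 D61072
theorem N28303 : nd 28303 = n61073 := ndS (p := 27122) (l := 3) rfl N27122 D61073
theorem N28304 : nd 28304 = n61074 := ndS (p := 27123) (l := 8) rfl N27123 D61074
theorem N28305 : nd 28305 = n61075 := ndS (p := 27124) (l := 8) rfl N27124 D61075
theorem N28306 : nd 28306 = n61076 := ndS (p := 27125) (l := 9) rfl N27125 D61076
theorem N28307 : nd 28307 = n61077 := ndS (p := 27127) (l := 2) rfl N27127 D61077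
theorem N28308 : nd 28308 = n61078 := ndS (p := 27128) (l := 2) rfl N27128 D61078
theorem N28309 : nd 28309 = n61079 := ndS (p := 27128) (l := 4) rfl N27128 D61079
theorem N28310 : nd 28310 = n61080 := ndS (p := 27129) (l := 1) rfl N27129 D61080
theorem N28311 : nd 28311 = n61081 := ndS (p := 27130) (l := 1) rfl N27130 D61081
theorem N28312 : nd 28312 = n61082 := ndS (p := 27130) (l := 4) rfl N27130 D61082
theorem N28313 : nd 28313 = n61083 := ndS (p := 27132) (l := 0) rfl N27132 D61083
theorem N28314 : nd 28314 = n61084 := ndS (p := 27133) (l := 1) rfl N27133 D61084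
theorem N28315 : nd 28315 = n61085 := ndS (p := 27133) (l := 4) rfl N27133 D61085
theorem N28316 : nd 28316 = n61086 := ndS (p := 27134) (l := 5) rfl N27134 D61086
theorem N28317 : nd 28317 = n61087 := ndS (p := 27135) (l := 3) rfl N27135 D61087
theorem N28318 : nd 28318 = n61088 := ndS (p := 27135) (l := 5) rfl N27135 D61088
theorem N28319 : nd 28319 = n61089 := ndS (p := 27136) (l := 6) rfl N27136 D61089
theorem N28320 : nd 28320 = n61090 := ndS (p := 27137) (l := 2) rfl N27137 D61090
theorem N28321 : nd 28321 = n61091 := ndS (p := 27138) (l := 1) rfl N27138 D61091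
theorem N28322 : nd 28322 = n61092 := ndS (p := 27138) (l := 4) rfl N27138 D61092
theorem N28323 : nd 28323 = n61093 := ndS (p := 27139) (l := 5) rfl N27139 D61093
theorem N28324 : nd 28324 = n61094 := ndS (p := 27140) (l := 1) rfl N27140 D61094
theorem N28325 : nd 28325 = n61095 := ndS (p := 27140) (l := 4) rfl N27140 D61095
theorem N28326 : nd 28326 = n61096 := ndS (p := 27141) (l := 5) rfl N27141 D61096
theorem N28327 : nd 28327 = n61097 := ndS (p := 27142) (l := 0) rfl N27142 D61097
theorem N28328 : nd 28328 = n61098 := ndS (p := 27142) (l := 4) rfl N27142 D61098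
theorem N28329 : nd 28329 = n61099 := ndS (p := 27143) (l := 5) rfl N27143 D61099
theorem N28330 : nd 28330 = n61100 := ndS (p := 27144) (l := 6) rfl N27144 D61100
theorem N28331 : nd 28331 = n61101 := ndS (p := 27145) (l := 7) rfl N27145 D61101
theorem N28332 : nd 28332 = n61102 := ndS (p := 27146) (l := 0) rfl N27146 D61102
theorem N28333 : nd 28333 = n61103 := ndS (p := 27146) (l := 4) rfl N27146 D61103
theorem N28334 : nd 28334 = n61104 := ndS (p := 27147) (l := 3) rfl N27147 D61104
theorem N28335 : nd 28335 = n61105 := ndS (p := 27149) (l := 0) rfl N27149 D61105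
theorem N28336 : nd 28336 = n61106 := ndS (p := 27150) (l := 2) rfl N27150 D61106
theorem N28337 : nd 28337 = n61107 := ndS (p := 27150) (l := 4) rfl N27150 D61107
theorem N28338 : nd 28338 = n61108 := ndS (p := 27151) (l := 1) rfl N27151 D61108
theorem N28339 : nd 28339 = n61109 := ndS (p := 27151) (l := 4) rfl N27151 D61109
theorem N28340 : nd 28340 = n61110 := ndS (p := 27153) (l := 0) rfl N27153 D61110
theorem N28341 : nd 28341 = n61111 := ndS (p := 27153) (l := 4) rfl N27153 D61111
theorem N28342 : nd 28342 = n61112 := ndS (p := 27155) (l := 0) rfl N27155 D61112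
theorem N28343 : nd 28343 = n61113 := ndS (p := 27155) (l := 4) rfl N27155 D61113
theorem N28344 : nd 28344 = n61114 := ndS (p := 27158) (l := 1) rfl N27158 D61114
theorem N28345 : nd 28345 = n61115 := ndS (p := 27158) (l := 4) rfl N27158 D61115
theorem N28346 : nd 28346 = n61116 := ndS (p := 27159) (l := 5) rfl N27159 D61116
theorem N28347 : nd 28347 = n61117 := ndS (p := 27160) (l := 0) rfl N27160 D61117
theorem N28348 : nd 28348 = n61118 := ndS (p := 27160) (l := 4) rfl N27160 D61118
theorem N28349 : nd 28349 = n61119 := ndS (p := 27161) (l := 5) rfl N27161 D61119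
theorem N28350 : nd 28350 = n61120 := ndS (p := 27163) (l := 1) rfl N27163 D61120
theorem N28351 : nd 28351 = n61121 := ndS (p := 27163) (l := 4) rfl N27163 D61121
theorem N28352 : nd 28352 = n61122 := ndS (p := 27164) (l := 5) rfl N27164 D61122
theorem N28353 : nd 28353 = n61123 := ndS (p := 27165) (l := 0) rfl N27165 D61123
theorem N28354 : nd 28354 = n61124 := ndS (p := 27165) (l := 4) rfl N27165 D61124
theorem N28355 : nd 28355 = n61125 := ndS (p := 27166) (l := 3) rfl N27166 D61125
theorem N28356 : nd 28356 = n61126 := ndS (p := 27166) (l := 5) rfl N27166 D61126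
theorem N28357 : nd 28357 = n61127 := ndS (p := 27168) (l := 0) rfl N27168 D61127
theorem N28358 : nd 28358 = n61128 := ndS (p := 27168) (l := 4) rfl N27168 D61128
theorem N28359 : nd 28359 = n61129 := ndS (p := 27170) (l := 4) rfl N27170 D61129
theorem N28360 : nd 28360 = n61130 := ndS (p := 27171) (l := 5) rfl N27171 D61130
theorem N28361 : nd 28361 = n61131 := ndS (p := 27173) (l := 0) rfl N27173 D61131
theorem N28362 : nd 28362 = n61132 := ndS (p := 27173) (l := 4) rfl N27173 D61132
theorem N28363 : nd 28363 = n61133 := ndS (p := 27175) (l := 4) rfl N27175 D61133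
theorem N28364 : nd 28364 = n61134 := ndS (p := 27176) (l := 3) rfl N27176 D61134
theorem N28365 : nd 28365 = n61135 := ndS (p := 27177) (l := 8) rfl N27177 D61135
theorem N28366 : nd 28366 = n61136 := ndS (p := 27178) (l := 9) rfl N27178 D61136
theorem N28367 : nd 28367 = n61137 := ndS (p := 27179) (l := 0) rfl N27179 D61137
theorem N28368 : nd 28368 = n61138 := ndS (p := 27179) (l := 4) rfl N27179 D61138
theorem N28369 : nd 28369 = n61139 := ndS (p := 27182) (l := 2) rfl N27182 D61139
theorem N28370 : nd 28370 = n61140 := ndS (p := 27182) (l := 4) rfl N27182 D61140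
theorem N28371 : nd 28371 = n61141 := ndS (p := 27183) (l := 1) rfl N27183 D61141
theorem N28372 : nd 28372 = n61142 := ndS (p := 27183) (l := 4) rfl N27183 D61142
theorem N28373 : nd 28373 = n61143 := ndS (p := 27185) (l := 1) rfl N27185 D61143
theorem N28374 : nd 28374 = n61144 := ndS (p := 27185) (l := 4) rfl N27185 D61144
theorem N28375 : nd 28375 = n61145 := ndS (p := 27187) (l := 0) rfl N27187 D61145
theorem N28376 : nd 28376 = n61146 := ndS (p := 27187) (l := 4) rfl N27187 D61146
theorem N28377 : nd 28377 = n61147 := ndS (p := 27189) (l := 0) rfl N27189 D61147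
theorem N28378 : nd 28378 = n61148 := ndS (p := 27189) (l := 4) rfl N27189 D61148
theorem N28379 : nd 28379 = n61149 := ndS (p := 27191) (l := 4) rfl N27191 D61149
theorem N28380 : nd 28380 = n61150 := ndS (p := 27193) (l := 4) rfl N27193 D61150
theorem N28381 : nd 28381 = n61151 := ndS (p := 27195) (l := 1) rfl N27195 D61151
theorem N28382 : nd 28382 = n61152 := ndS (p := 27196) (l := 0) rfl N27196 D61152
theorem N28383 : nd 28383 = n61153 := ndS (p := 27197) (l := 1) rfl N27197 D61153
theorem N28384 : nd 28384 = n61154 := ndS (p := 27197) (l := 4) rfl N27197 D61154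
theorem N28385 : nd 28385 = n61155 := ndS (p := 27198) (l := 5) rfl N27198 D61155
theorem N28386 : nd 28386 = n61156 := ndS (p := 27199) (l := 1) rfl N27199 D61156
theorem N28387 : nd 28387 = n61157 := ndS (p := 27199) (l := 4) rfl N27199 D61157
theorem N28388 : nd 28388 = n61158 := ndS (p := 27200) (l := 5) rfl N27200 D61158
theorem N28389 : nd 28389 = n61159 := ndS (p := 27201) (l := 0) rfl N27201 D61159
theorem N28390 : nd 28390 = n61160 := ndS (p := 27201) (l := 4) rfl N27201 D61160
theorem N28391 : nd 28391 = n61161 := ndS (p := 27202) (l := 5) rfl N27202 D61161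
theorem N28392 : nd 28392 = n61162 := ndS (p := 27204) (l := 0) rfl N27204 D61162
theorem N28393 : nd 28393 = n61163 := ndS (p := 27204) (l := 4) rfl N27204 D61163
theorem N28394 : nd 28394 = n61164 := ndS (p := 27205) (l := 5) rfl N27205 D61164
theorem N28395 : nd 28395 = n61165 := ndS (p := 27207) (l := 4) rfl N27207 D61165
theorem N28396 : nd 28396 = n61166 := ndS (p := 27208) (l := 5) rfl N27208 D61166
theorem N28397 : nd 28397 = n61167 := ndS (p := 27210) (l := 1) rfl N27210 D61167
theorem N28398 : nd 28398 = n61168 := ndS (p := 27210) (l := 4) rfl N27210 D61168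
theorem N28399 : nd 28399 = n61169 := ndS (p := 27211) (l := 5) rfl N27211 D61169
theorem N28400 : nd 28400 = n61170 := ndS (p := 27212) (l := 0) rfl N27212 D61170
theorem N28401 : nd 28401 = n61171 := ndS (p := 27212) (l := 4) rfl N27212 D61171
theorem N28402 : nd 28402 = n61172 := ndS (p := 27213) (l := 3) rfl N27213 D61172
theorem N28403 : nd 28403 = n61173 := ndS (p := 27213) (l := 5) rfl N27213 D61173
theorem N28404 : nd 28404 = n61174 := ndS (p := 27215) (l := 0) rfl N27215 D61174
theorem N28405 : nd 28405 = n61175 := ndS (p := 27215) (l := 4) rfl N27215 D61175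
theorem N28406 : nd 28406 = n61176 := ndS (p := 27216) (l := 3) rfl N27216 D61176
theorem N28407 : nd 28407 = n61177 := ndS (p := 27216) (l := 5) rfl N27216 D61177
theorem N28408 : nd 28408 = n61178 := ndS (p := 27217) (l := 6) rfl N27217 D61178
theorem N28409 : nd 28409 = n61179 := ndS (p := 27218) (l := 4) rfl N27218 D61179
theorem N28410 : nd 28410 = n61180 := ndS (p := 27219) (l := 3) rfl N27219 D61180
theorem N28411 : nd 28411 = n61181 := ndS (p := 27219) (l := 5) rfl N27219 D61181
theorem N28412 : nd 28412 = n61182 := ndS (p := 27220) (l := 5) rfl N27220 D61182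
theorem N28413 : nd 28413 = n61183 := ndS (p := 27221) (l := 6) rfl N27221 D61183
theorem N28414 : nd 28414 = n61184 := ndS (p := 27223) (l := 0) rfl N27223 D61184
theorem N28415 : nd 28415 = n61185 := ndS (p := 27223) (l := 4) rfl N27223 D61185
theorem N28416 : nd 28416 = n61186 := ndS (p := 27225) (l := 4) rfl N27225 D61186
theorem N28417 : nd 28417 = n61187 := ndS (p := 27226) (l := 3) rfl N27226 D61187
theorem N28418 : nd 28418 = n61188 := ndS (p := 27226) (l := 5) rfl N27226 D61188
theorem N28419 : nd 28419 = n61189 := ndS (p := 27227) (l := 8) rfl N27227 D61189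
theorem N28420 : nd 28420 = n61190 := ndS (p := 27229) (l := 5) rfl N27229 D61190
theorem N28421 : nd 28421 = n61191 := ndS (p := 27230) (l := 6) rfl N27230 D61191
theorem N28422 : nd 28422 = n61192 := ndS (p := 27232) (l := 0) rfl N27232 D61192
theorem N28423 : nd 28423 = n61193 := ndS (p := 27233) (l := 4) rfl N27233 D61193
theorem N28424 : nd 28424 = n61194 := ndS (p := 27235) (l := 3) rfl N27235 D61194
theorem N28425 : nd 28425 = n61195 := ndS (p := 27236) (l := 8) rfl N27236 D61195
theorem N28426 : nd 28426 = n61196 := ndS (p := 27237) (l := 9) rfl N27237 D61196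
theorem N28427 : nd 28427 = n61197 := ndS (p := 27238) (l := 9) rfl N27238 D61197
theorem N28428 : nd 28428 = n61198 := ndS (p := 27241) (l := 3) rfl N27241 D61198
theorem N28429 : nd 28429 = n61199 := ndS (p := 27243) (l := 5) rfl N27243 D61199
theorem N28430 : nd 28430 = n61200 := ndS (p := 27245) (l := 4) rfl N27245 D61200
theorem N28431 : nd 28431 = n61201 := ndS (p := 27246) (l := 0) rfl N27246 D61201
theorem N28432 : nd 28432 = n61202 := ndS (p := 27247) (l := 0) rfl N27247 D61202
theorem N28433 : nd 28433 = n61203 := ndS (p := 27247) (l := 4) rfl N27247 D61203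
theorem N28434 : nd 28434 = n61204 := ndS (p := 27250) (l := 0) rfl N27250 D61204
theorem N28435 : nd 28435 = n61205 := ndS (p := 27252) (l := 4) rfl N27252 D61205
theorem N28436 : nd 28436 = n61206 := ndS (p := 27254) (l := 1) rfl N27254 D61206
theorem N28437 : nd 28437 = n61207 := ndS (p := 27254) (l := 4) rfl N27254 D61207
theorem N28438 : nd 28438 = n61208 := ndS (p := 27256) (l := 0) rfl N27256 D61208
theorem N28439 : nd 28439 = n61209 := ndS (p := 27257) (l := 0) rfl N27257 D61209
theorem N28440 : nd 28440 = n61210 := ndS (p := 27257) (l := 4) rfl N27257 D61210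
theorem N28441 : nd 28441 = n61211 := ndS (p := 27258) (l := 5) rfl N27258 D61211
theorem N28442 : nd 28442 = n61212 := ndS (p := 27260) (l := 0) rfl N27260 D61212
theorem N28443 : nd 28443 = n61213 := ndS (p := 27260) (l := 4) rfl N27260 D61213
theorem N28444 : nd 28444 = n61214 := ndS (p := 27261) (l := 3) rfl N27261 D61214
theorem N28445 : nd 28445 = n61215 := ndS (p := 27263) (l := 1) rfl N27263 D61215
theorem N28446 : nd 28446 = n61216 := ndS (p := 27263) (l := 4) rfl N27263 D61216
theorem N28447 : nd 28447 = n61217 := ndS (p := 27265) (l := 0) rfl N27265 D61217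
theorem N28448 : nd 28448 = n61218 := ndS (p := 27266) (l := 0) rfl N27266 D61218
theorem N28449 : nd 28449 = n61219 := ndS (p := 27266) (l := 4) rfl N27266 D61219
theorem N28450 : nd 28450 = n61220 := ndS (p := 27269) (l := 4) rfl N27269 D61220
theorem N28451 : nd 28451 = n61221 := ndS (p := 27271) (l := 0) rfl N27271 D61221
theorem N28452 : nd 28452 = n61222 := ndS (p := 27272) (l := 0) rfl N27272 D61222
theorem N28453 : nd 28453 = n61223 := ndS (p := 27272) (l := 4) rfl N27272 D61223
theorem N28454 : nd 28454 = n61224 := ndS (p := 27273) (l := 3) rfl N27273 D61224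
theorem N28455 : nd 28455 = n61225 := ndS (p := 27276) (l := 4) rfl N27276 D61225
theorem N28456 : nd 28456 = n61226 := ndS (p := 27281) (l := 0) rfl N27281 D61226
theorem N28457 : nd 28457 = n61227 := ndS (p := 27281) (l := 4) rfl N27281 D61227
theorem N28458 : nd 28458 = n61228 := ndS (p := 27283) (l := 4) rfl N27283 D61228
theorem N28459 : nd 28459 = n61229 := ndS (p := 27285) (l := 3) rfl N27285 D61229
theorem N28460 : nd 28460 = n61230 := ndS (p := 27286) (l := 8) rfl N27286 D61230
theorem N28461 : nd 28461 = n61231 := ndS (p := 27287) (l := 9) rfl N27287 D61231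
theorem N28462 : nd 28462 = n61232 := ndS (p := 27289) (l := 0) rfl N27289 D61232
theorem N28463 : nd 28463 = n61233 := ndS (p := 27291) (l := 0) rfl N27291 D61233
theorem N28464 : nd 28464 = n61234 := ndS (p := 27292) (l := 0) rfl N27292 D61234
theorem N28465 : nd 28465 = n61235 := ndS (p := 27292) (l := 4) rfl N27292 D61235
theorem N28466 : nd 28466 = n61236 := ndS (p := 27295) (l := 0) rfl N27295 D61236
theorem N28467 : nd 28467 = n61237 := ndS (p := 27295) (l := 4) rfl N27295 D61237
theorem N28468 : nd 28468 = n61238 := ndS (p := 27296) (l := 3) rfl N27296 D61238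
theorem N28469 : nd 28469 = n61239 := ndS (p := 27297) (l := 4) rfl N27297 D61239
theorem N28470 : nd 28470 = n61240 := ndS (p := 27299) (l := 1) rfl N27299 D61240
theorem N28471 : nd 28471 = n61241 := ndS (p := 27299) (l := 4) rfl N27299 D61241
theorem N28472 : nd 28472 = n61242 := ndS (p := 27301) (l := 0) rfl N27301 D61242
theorem N28473 : nd 28473 = n61243 := ndS (p := 27302) (l := 1) rfl N27302 D61243
theorem N28474 : nd 28474 = n61244 := ndS (p := 27302) (l := 4) rfl N27302 D61244
theorem N28475 : nd 28475 = n61245 := ndS (p := 27303) (l := 5) rfl N27303 D61245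
theorem N28476 : nd 28476 = n61246 := ndS (p := 27304) (l := 0) rfl N27304 D61246
theorem N28477 : nd 28477 = n61247 := ndS (p := 27304) (l := 4) rfl N27304 D61247
theorem N28478 : nd 28478 = n61248 := ndS (p := 27305) (l := 5) rfl N27305 D61248
theorem N28479 : nd 28479 = n61249 := ndS (p := 27306) (l := 6) rfl N27306 D61249
theorem N28480 : nd 28480 = n61250 := ndS (p := 27308) (l := 0) rfl N27308 D61250
theorem N28481 : nd 28481 = n61251 := ndS (p := 27308) (l := 4) rfl N27308 D61251
theorem N28482 : nd 28482 = n61252 := ndS (p := 27309) (l := 3) rfl N27309 D61252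
theorem N28483 : nd 28483 = n61253 := ndS (p := 27311) (l := 1) rfl N27311 D61253
theorem N28484 : nd 28484 = n61254 := ndS (p := 27311) (l := 4) rfl N27311 D61254
theorem N28485 : nd 28485 = n61255 := ndS (p := 27313) (l := 0) rfl N27313 D61255
theorem N28486 : nd 28486 = n61256 := ndS (p := 27314) (l := 1) rfl N27314 D61256
theorem N28487 : nd 28487 = n61257 := ndS (p := 27314) (l := 4) rfl N27314 D61257
theorem N28488 : nd 28488 = n61258 := ndS (p := 27315) (l := 5) rfl N27315 D61258
theorem N28489 : nd 28489 = n61259 := ndS (p := 27316) (l := 0) rfl N27316 D61259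
theorem N28490 : nd 28490 = n61260 := ndS (p := 27316) (l := 4) rfl N27316 D61260
theorem N28491 : nd 28491 = n61261 := ndS (p := 27317) (l := 3) rfl N27317 D61261
theorem N28492 : nd 28492 = n61262 := ndS (p := 27319) (l := 4) rfl N27319 D61262
theorem N28493 : nd 28493 = n61263 := ndS (p := 27320) (l := 3) rfl N27320 D61263
theorem N28494 : nd 28494 = n61264 := ndS (p := 27321) (l := 8) rfl N27321 D61264
theorem N28495 : nd 28495 = n61265 := ndS (p := 27322) (l := 3) rfl N27322 D61265
theorem N28496 : nd 28496 = n61266 := ndS (p := 27324) (l := 8) rfl N27324 D61266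
theorem N28497 : nd 28497 = n61267 := ndS (p := 27326) (l := 1) rfl N27326 D61267
theorem N28498 : nd 28498 = n61268 := ndS (p := 27326) (l := 4) rfl N27326 D61268
theorem N28499 : nd 28499 = n61269 := ndS (p := 27328) (l := 0) rfl N27328 D61269
theorem N28500 : nd 28500 = n61270 := ndS (p := 27329) (l := 0) rfl N27329 D61270
theorem N28501 : nd 28501 = n61271 := ndS (p := 27329) (l := 4) rfl N27329 D61271
theorem N28502 : nd 28502 = n61272 := ndS (p := 27330) (l := 3) rfl N27330 D61272
theorem N28503 : nd 28503 = n61273 := ndS (p := 27332) (l := 1) rfl N27332 D61273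
theorem N28504 : nd 28504 = n61274 := ndS (p := 27332) (l := 4) rfl N27332 D61274
theorem N28505 : nd 28505 = n61275 := ndS (p := 27334) (l := 0) rfl N27334 D61275
theorem N28506 : nd 28506 = n61276 := ndS (p := 27335) (l := 1) rfl N27335 D61276
theorem N28507 : nd 28507 = n61277 := ndS (p := 27335) (l := 4) rfl N27335 D61277
theorem N28508 : nd 28508 = n61278 := ndS (p := 27337) (l := 0) rfl N27337 D61278
theorem N28509 : nd 28509 = n61279 := ndS (p := 27337) (l := 4) rfl N27337 D61279
theorem N28510 : nd 28510 = n61280 := ndS (p := 27338) (l := 3) rfl N27338 D61280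
theorem N28511 : nd 28511 = n61281 := ndS (p := 27340) (l := 0) rfl N27340 D61281
theorem N28512 : nd 28512 = n61282 := ndS (p := 27340) (l := 4) rfl N27340 D61282
theorem N28513 : nd 28513 = n61283 := ndS (p := 27341) (l := 3) rfl N27341 D61283
theorem N28514 : nd 28514 = n61284 := ndS (p := 27341) (l := 5) rfl N27341 D61284
theorem N28515 : nd 28515 = n61285 := ndS (p := 27343) (l := 4) rfl N27343 D61285
theorem N28516 : nd 28516 = n61286 := ndS (p := 27344) (l := 3) rfl N27344 D61286
theorem N28517 : nd 28517 = n61287 := ndS (p := 27346) (l := 1) rfl N27346 D61287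
theorem N28518 : nd 28518 = n61288 := ndS (p := 27347) (l := 0) rfl N27347 D61288
theorem N28519 : nd 28519 = n61289 := ndS (p := 27349) (l := 1) rfl N27349 D61289
theorem N28520 : nd 28520 = n61290 := ndS (p := 27349) (l := 4) rfl N27349 D61290
theorem N28521 : nd 28521 = n61291 := ndS (p := 27351) (l := 0) rfl N27351 D61291
theorem N28522 : nd 28522 = n61292 := ndS (p := 27351) (l := 4) rfl N27351 D61292
theorem N28523 : nd 28523 = n61293 := ndS (p := 27352) (l := 3) rfl N27352 D61293
theorem N28524 : nd 28524 = n61294 := ndS (p := 27353) (l := 0) rfl N27353 D61294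
theorem N28525 : nd 28525 = n61295 := ndS (p := 27355) (l := 4) rfl N27355 D61295
theorem N28526 : nd 28526 = n61296 := ndS (p := 27356) (l := 3) rfl N27356 D61296
theorem N28527 : nd 28527 = n61297 := ndS (p := 27357) (l := 8) rfl N27357 D61297
theorem N28528 : nd 28528 = n61298 := ndS (p := 27358) (l := 3) rfl N27358 D61298
theorem N28529 : nd 28529 = n61299 := ndS (p := 27359) (l := 8) rfl N27359 D61299
theorem N28530 : nd 28530 = n61300 := ndS (p := 27360) (l := 9) rfl N27360 D61300
theorem N28531 : nd 28531 = n61301 := ndS (p := 27361) (l := 3) rfl N27361 D61301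
theorem N28532 : nd 28532 = n61302 := ndS (p := 27366) (l := 0) rfl N27366 D61302
theorem N28533 : nd 28533 = n61303 := ndS (p := 27367) (l := 1) rfl N27367 D61303
theorem N28534 : nd 28534 = n61304 := ndS (p := 27368) (l := 1) rfl N27368 D61304
theorem N28535 : nd 28535 = n61305 := ndS (p := 27368) (l := 4) rfl N27368 D61305
theorem N28536 : nd 28536 = n61306 := ndS (p := 27370) (l := 0) rfl N27370 D61306
theorem N28537 : nd 28537 = n61307 := ndS (p := 27371) (l := 1) rfl N27371 D61307
theorem N28538 : nd 28538 = n61308 := ndS (p := 27371) (l := 4) rfl N27371 D61308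
theorem N28539 : nd 28539 = n61309 := ndS (p := 27373) (l := 0) rfl N27373 D61309
theorem N28540 : nd 28540 = n61310 := ndS (p := 27373) (l := 4) rfl N27373 D61310
theorem N28541 : nd 28541 = n61311 := ndS (p := 27374) (l := 3) rfl N27374 D61311
theorem N28542 : nd 28542 = n61312 := ndS (p := 27376) (l := 1) rfl N27376 D61312
theorem N28543 : nd 28543 = n61313 := ndS (p := 27376) (l := 4) rfl N27376 D61313
theorem N28544 : nd 28544 = n61314 := ndS (p := 27377) (l := 5) rfl N27377 D61314
theorem N28545 : nd 28545 = n61315 := ndS (p := 27378) (l := 3) rfl N27378 D61315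
theorem N28546 : nd 28546 = n61316 := ndS (p := 27378) (l := 5) rfl N27378 D61316
theorem N28547 : nd 28547 = n61317 := ndS (p := 27379) (l := 6) rfl N27379 D61317
theorem N28548 : nd 28548 = n61318 := ndS (p := 27380) (l := 1) rfl N27380 D61318
theorem N28549 : nd 28549 = n61319 := ndS (p := 27381) (l := 1) rfl N27381 D61319
theorem N28550 : nd 28550 = n61320 := ndS (p := 27381) (l := 4) rfl N27381 D61320
theorem N28551 : nd 28551 = n61321 := ndS (p := 27382) (l := 5) rfl N27382 D61321
theorem N28552 : nd 28552 = n61322 := ndS (p := 27383) (l := 0) rfl N27383 D61322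
theorem N28553 : nd 28553 = n61323 := ndS (p := 27383) (l := 4) rfl N27383 D61323
theorem N28554 : nd 28554 = n61324 := ndS (p := 27384) (l := 3) rfl N27384 D61324
theorem N28555 : nd 28555 = n61325 := ndS (p := 27384) (l := 5) rfl N27384 D61325
theorem N28556 : nd 28556 = n61326 := ndS (p := 27385) (l := 6) rfl N27385 D61326
theorem N28557 : nd 28557 = n61327 := ndS (p := 27386) (l := 5) rfl N27386 D61327
theorem N28558 : nd 28558 = n61328 := ndS (p := 27389) (l := 1) rfl N27389 D61328
theorem N28559 : nd 28559 = n61329 := ndS (p := 27389) (l := 4) rfl N27389 D61329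
theorem N28560 : nd 28560 = n61330 := ndS (p := 27391) (l := 1) rfl N27391 D61330
theorem N28561 : nd 28561 = n61331 := ndS (p := 27392) (l := 0) rfl N27392 D61331
theorem N28562 : nd 28562 = n61332 := ndS (p := 27393) (l := 1) rfl N27393 D61332
theorem N28563 : nd 28563 = n61333 := ndS (p := 27393) (l := 4) rfl N27393 D61333
theorem N28564 : nd 28564 = n61334 := ndS (p := 27394) (l := 5) rfl N27394 D61334
theorem N28565 : nd 28565 = n61335 := ndS (p := 27395) (l := 0) rfl N27395 D61335
theorem N28566 : nd 28566 = n61336 := ndS (p := 27395) (l := 4) rfl N27395 D61336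
theorem N28567 : nd 28567 = n61337 := ndS (p := 27396) (l := 3) rfl N27396 D61337
theorem N28568 : nd 28568 = n61338 := ndS (p := 27396) (l := 5) rfl N27396 D61338
theorem N28569 : nd 28569 = n61339 := ndS (p := 27397) (l := 6) rfl N27397 D61339
theorem N28570 : nd 28570 = n61340 := ndS (p := 27398) (l := 4) rfl N27398 D61340
theorem N28571 : nd 28571 = n61341 := ndS (p := 27399) (l := 5) rfl N27399 D61341
theorem N28572 : nd 28572 = n61342 := ndS (p := 27400) (l := 6) rfl N27400 D61342
theorem N28573 : nd 28573 = n61343 := ndS (p := 27402) (l := 0) rfl N27402 D61343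
theorem N28574 : nd 28574 = n61344 := ndS (p := 27402) (l := 4) rfl N27402 D61344
theorem N28575 : nd 28575 = n61345 := ndS (p := 27403) (l := 3) rfl N27403 D61345
theorem N28576 : nd 28576 = n61346 := ndS (p := 27404) (l := 4) rfl N27404 D61346
theorem N28577 : nd 28577 = n61347 := ndS (p := 27405) (l := 3) rfl N27405 D61347
theorem N28578 : nd 28578 = n61348 := ndS (p := 27406) (l := 8) rfl N27406 D61348
theorem N28579 : nd 28579 = n61349 := ndS (p := 27407) (l := 0) rfl N27407 D61349
theorem N28580 : nd 28580 = n61350 := ndS (p := 27408) (l := 1) rfl N27408 D61350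
theorem N28581 : nd 28581 = n61351 := ndS (p := 27408) (l := 4) rfl N27408 D61351
theorem N28582 : nd 28582 = n61352 := ndS (p := 27410) (l := 0) rfl N27410 D61352
theorem N28583 : nd 28583 = n61353 := ndS (p := 27410) (l := 4) rfl N27410 D61353
theorem N28584 : nd 28584 = n61354 := ndS (p := 27411) (l := 3) rfl N27411 D61354
theorem N28585 : nd 28585 = n61355 := ndS (p := 27413) (l := 0) rfl N27413 D61355
theorem N28586 : nd 28586 = n61356 := ndS (p := 27414) (l := 1) rfl N27414 D61356
theorem N28587 : nd 28587 = n61357 := ndS (p := 27415) (l := 0) rfl N27415 D61357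
theorem N28588 : nd 28588 = n61358 := ndS (p := 27417) (l := 1) rfl N27417 D61358
theorem N28589 : nd 28589 = n61359 := ndS (p := 27417) (l := 4) rfl N27417 D61359
theorem N28590 : nd 28590 = n61360 := ndS (p := 27419) (l := 0) rfl N27419 D61360
theorem N28591 : nd 28591 = n61361 := ndS (p := 27419) (l := 4) rfl N27419 D61361
theorem N28592 : nd 28592 = n61362 := ndS (p := 27420) (l := 3) rfl N27420 D61362
theorem N28593 : nd 28593 = n61363 := ndS (p := 27420) (l := 5) rfl N27420 D61363
theorem N28594 : nd 28594 = n61364 := ndS (p := 27422) (l := 4) rfl N27422 D61364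
theorem N28595 : nd 28595 = n61365 := ndS (p := 27423) (l := 3) rfl N27423 D61365
theorem N28596 : nd 28596 = n61366 := ndS (p := 27424) (l := 8) rfl N27424 D61366
theorem N28597 : nd 28597 = n61367 := ndS (p := 27425) (l := 0) rfl N27425 D61367
theorem N28598 : nd 28598 = n61368 := ndS (p := 27427) (l := 1) rfl N27427 D61368
theorem N28599 : nd 28599 = n61369 := ndS (p := 27428) (l := 0) rfl N27428 D61369
theorem N28600 : nd 28600 = n61370 := ndS (p := 27429) (l := 0) rfl N27429 D61370
theorem N28601 : nd 28601 = n61371 := ndS (p := 27431) (l := 0) rfl N27431 D61371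
theorem N28602 : nd 28602 = n61372 := ndS (p := 27432) (l := 4) rfl N27432 D61372
theorem N28603 : nd 28603 = n61373 := ndS (p := 27434) (l := 0) rfl N27434 D61373
theorem N28604 : nd 28604 = n61374 := ndS (p := 27434) (l := 4) rfl N27434 D61374
theorem N28605 : nd 28605 = n61375 := ndS (p := 27435) (l := 3) rfl N27435 D61375
theorem N28606 : nd 28606 = n61376 := ndS (p := 27436) (l := 4) rfl N27436 D61376
theorem N28607 : nd 28607 = n61377 := ndS (p := 27437) (l := 3) rfl N27437 D61377
theorem N28608 : nd 28608 = n61378 := ndS (p := 27438) (l := 8) rfl N27438 D61378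
theorem N28609 : nd 28609 = n61379 := ndS (p := 27439) (l := 3) rfl N27439 D61379
theorem N28610 : nd 28610 = n61380 := ndS (p := 27440) (l := 2) rfl N27440 D61380
theorem N28611 : nd 28611 = n61381 := ndS (p := 27440) (l := 8) rfl N27440 D61381
theorem N28612 : nd 28612 = n61382 := ndS (p := 27441) (l := 9) rfl N27441 D61382
theorem N28613 : nd 28613 = n61383 := ndS (p := 27442) (l := 3) rfl N27442 D61383
theorem N28614 : nd 28614 = n61384 := ndS (p := 27443) (l := 3) rfl N27443 D61384
theorem N28615 : nd 28615 = n61385 := ndS (p := 27444) (l := 8) rfl N27444 D61385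
theorem N28616 : nd 28616 = n61386 := ndS (p := 27445) (l := 2) rfl N27445 D61386
theorem N28617 : nd 28617 = n61387 := ndS (p := 27446) (l := 9) rfl N27446 D61387
theorem N28618 : nd 28618 = n61388 := ndS (p := 27447) (l := 8) rfl N27447 D61388
theorem N28619 : nd 28619 = n61389 := ndS (p := 27448) (l := 9) rfl N27448 D61389
theorem N28620 : nd 28620 = n61390 := ndS (p := 27449) (l := 8) rfl N27449 D61390
theorem N28621 : nd 28621 = n61391 := ndS (p := 27450) (l := 9) rfl N27450 D61391
theorem N28622 : nd 28622 = n61392 := ndS (p := 27452) (l := 0) rfl N27452 D61392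
theorem N28623 : nd 28623 = n61393 := ndS (p := 27453) (l := 0) rfl N27453 D61393
theorem N28624 : nd 28624 = n61394 := ndS (p := 27454) (l := 1) rfl N27454 D61394
theorem N28625 : nd 28625 = n61395 := ndS (p := 27454) (l := 4) rfl N27454 D61395
theorem N28626 : nd 28626 = n61396 := ndS (p := 27456) (l := 0) rfl N27456 D61396
theorem N28627 : nd 28627 = n61397 := ndS (p := 27456) (l := 4) rfl N27456 D61397
theorem N28628 : nd 28628 = n61398 := ndS (p := 27457) (l := 3) rfl N27457 D61398
theorem N28629 : nd 28629 = n61399 := ndS (p := 27457) (l := 5) rfl N27457 D61399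
theorem N28630 : nd 28630 = n61400 := ndS (p := 27459) (l := 4) rfl N27459 D61400
theorem N28631 : nd 28631 = n61401 := ndS (p := 27460) (l := 5) rfl N27460 D61401
theorem N28632 : nd 28632 = n61402 := ndS (p := 27462) (l := 0) rfl N27462 D61402
theorem N28633 : nd 28633 = n61403 := ndS (p := 27462) (l := 4) rfl N27462 D61403
theorem N28634 : nd 28634 = n61404 := ndS (p := 27463) (l := 3) rfl N27463 D61404
theorem N28635 : nd 28635 = n61405 := ndS (p := 27464) (l := 4) rfl N27464 D61405
theorem N28636 : nd 28636 = n61406 := ndS (p := 27465) (l := 3) rfl N27465 D61406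
theorem N28637 : nd 28637 = n61407 := ndS (p := 27466) (l := 8) rfl N27466 D61407
theorem N28638 : nd 28638 = n61408 := ndS (p := 27467) (l := 0) rfl N27467 D61408
theorem N28639 : nd 28639 = n61409 := ndS (p := 27468) (l := 0) rfl N27468 D61409
theorem N28640 : nd 28640 = n61410 := ndS (p := 27468) (l := 4) rfl N27468 D61410
theorem N28641 : nd 28641 = n61411 := ndS (p := 27471) (l := 1) rfl N27471 D61411
theorem N28642 : nd 28642 = n61412 := ndS (p := 27471) (l := 4) rfl N27471 D61412
theorem N28643 : nd 28643 = n61413 := ndS (p := 27473) (l := 1) rfl N27473 D61413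
theorem N28644 : nd 28644 = n61414 := ndS (p := 27474) (l := 0) rfl N27474 D61414
theorem N28645 : nd 28645 = n61415 := ndS (p := 27474) (l := 4) rfl N27474 D61415
theorem N28646 : nd 28646 = n61416 := ndS (p := 27475) (l := 3) rfl N27475 D61416
theorem N28647 : nd 28647 = n61417 := ndS (p := 27476) (l := 0) rfl N27476 D61417
theorem N28648 : nd 28648 = n61418 := ndS (p := 27478) (l := 1) rfl N27478 D61418
theorem N28649 : nd 28649 = n61419 := ndS (p := 27478) (l := 4) rfl N27478 D61419
theorem N28650 : nd 28650 = n61420 := ndS (p := 27479) (l := 5) rfl N27479 D61420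
theorem N28651 : nd 28651 = n61421 := ndS (p := 27480) (l := 0) rfl N27480 D61421
theorem N28652 : nd 28652 = n61422 := ndS (p := 27480) (l := 4) rfl N27480 D61422
theorem N28653 : nd 28653 = n61423 := ndS (p := 27481) (l := 3) rfl N27481 D61423
theorem N28654 : nd 28654 = n61424 := ndS (p := 27481) (l := 5) rfl N27481 D61424
theorem N28655 : nd 28655 = n61425 := ndS (p := 27483) (l := 4) rfl N27483 D61425
theorem N28656 : nd 28656 = n61426 := ndS (p := 27484) (l := 3) rfl N27484 D61426
theorem N28657 : nd 28657 = n61427 := ndS (p := 27485) (l := 8) rfl N27485 D61427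
theorem N28658 : nd 28658 = n61428 := ndS (p := 27487) (l := 0) rfl N27487 D61428
theorem N28659 : nd 28659 = n61429 := ndS (p := 27487) (l := 4) rfl N27487 D61429
theorem N28660 : nd 28660 = n61430 := ndS (p := 27488) (l := 3) rfl N27488 D61430
theorem N28661 : nd 28661 = n61431 := ndS (p := 27489) (l := 4) rfl N27489 D61431
theorem N28662 : nd 28662 = n61432 := ndS (p := 27490) (l := 3) rfl N27490 D61432
theorem N28663 : nd 28663 = n61433 := ndS (p := 27490) (l := 5) rfl N27490 D61433
theorem N28664 : nd 28664 = n61434 := ndS (p := 27491) (l := 8) rfl N27491 D61434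
theorem N28665 : nd 28665 = n61435 := ndS (p := 27493) (l := 3) rfl N27493 D61435
theorem N28666 : nd 28666 = n61436 := ndS (p := 27494) (l := 2) rfl N27494 D61436
theorem N28667 : nd 28667 = n61437 := ndS (p := 27494) (l := 8) rfl N27494 D61437
theorem N28668 : nd 28668 = n61438 := ndS (p := 27495) (l := 9) rfl N27495 D61438
theorem N28669 : nd 28669 = n61439 := ndS (p := 27497) (l := 1) rfl N27497 D61439
theorem N28670 : nd 28670 = n61440 := ndS (p := 27498) (l := 0) rfl N27498 D61440
theorem N28671 : nd 28671 = n61441 := ndS (p := 27498) (l := 4) rfl N27498 D61441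
theorem N28672 : nd 28672 = n61442 := ndS (p := 27499) (l := 3) rfl N27499 D61442
theorem N28673 : nd 28673 = n61443 := ndS (p := 27501) (l := 0) rfl N27501 D61443
theorem N28674 : nd 28674 = n61444 := ndS (p := 27502) (l := 4) rfl N27502 D61444
theorem N28675 : nd 28675 = n61445 := ndS (p := 27505) (l := 1) rfl N27505 D61445
theorem N28676 : nd 28676 = n61446 := ndS (p := 27505) (l := 4) rfl N27505 D61446
theorem N28677 : nd 28677 = n61447 := ndS (p := 27506) (l := 5) rfl N27506 D61447
theorem N28678 : nd 28678 = n61448 := ndS (p := 27507) (l := 1) rfl N27507 D61448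
theorem N28679 : nd 28679 = n61449 := ndS (p := 27507) (l := 4) rfl N27507 D61449
theorem N28680 : nd 28680 = n61450 := ndS (p := 27508) (l := 5) rfl N27508 D61450
theorem N28681 : nd 28681 = n61451 := ndS (p := 27509) (l := 0) rfl N27509 D61451
theorem N28682 : nd 28682 = n61452 := ndS (p := 27509) (l := 4) rfl N27509 D61452
theorem N28683 : nd 28683 = n61453 := ndS (p := 27510) (l := 3) rfl N27510 D61453
theorem N28684 : nd 28684 = n61454 := ndS (p := 27510) (l := 5) rfl N27510 D61454
theorem N28685 : nd 28685 = n61455 := ndS (p := 27512) (l := 0) rfl N27512 D61455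
theorem N28686 : nd 28686 = n61456 := ndS (p := 27512) (l := 4) rfl N27512 D61456
theorem N28687 : nd 28687 = n61457 := ndS (p := 27513) (l := 3) rfl N27513 D61457
theorem N28688 : nd 28688 = n61458 := ndS (p := 27514) (l := 4) rfl N27514 D61458
theorem N28689 : nd 28689 = n61459 := ndS (p := 27515) (l := 3) rfl N27515 D61459
theorem N28690 : nd 28690 = n61460 := ndS (p := 27515) (l := 5) rfl N27515 D61460
theorem N28691 : nd 28691 = n61461 := ndS (p := 27516) (l := 5) rfl N27516 D61461
theorem N28692 : nd 28692 = n61462 := ndS (p := 27516) (l := 8) rfl N27516 D61462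
theorem N28693 : nd 28693 = n61463 := ndS (p := 27518) (l := 4) rfl N27518 D61463
theorem N28694 : nd 28694 = n61464 := ndS (p := 27519) (l := 3) rfl N27519 D61464
theorem N28695 : nd 28695 = n61465 := ndS (p := 27521) (l := 3) rfl N27521 D61465
theorem N28696 : nd 28696 = n61466 := ndS (p := 27521) (l := 5) rfl N27521 D61466
theorem N28697 : nd 28697 = n61467 := ndS (p := 27522) (l := 5) rfl N27522 D61467
theorem N28698 : nd 28698 = n61468 := ndS (p := 27524) (l := 4) rfl N27524 D61468
theorem N28699 : nd 28699 = n61469 := ndS (p := 27525) (l := 0) rfl N27525 D61469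
theorem N28700 : nd 28700 = n61470 := ndS (p := 27525) (l := 4) rfl N27525 D61470
theorem N28701 : nd 28701 = n61471 := ndS (p := 27526) (l := 5) rfl N27526 D61471
theorem N28702 : nd 28702 = n61472 := ndS (p := 27528) (l := 4) rfl N27528 D61472
theorem N28703 : nd 28703 = n61473 := ndS (p := 27529) (l := 5) rfl N27529 D61473
theorem N28704 : nd 28704 = n61474 := ndS (p := 27531) (l := 3) rfl N27531 D61474
theorem N28705 : nd 28705 = n61475 := ndS (p := 27531) (l := 5) rfl N27531 D61475
theorem N28706 : nd 28706 = n61476 := ndS (p := 27532) (l := 8) rfl N27532 D61476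
theorem N28707 : nd 28707 = n61477 := ndS (p := 27534) (l := 9) rfl N27534 D61477
theorem N28708 : nd 28708 = n61478 := ndS (p := 27536) (l := 4) rfl N27536 D61478
theorem N28709 : nd 28709 = n61479 := ndS (p := 27537) (l := 3) rfl N27537 D61479
theorem N28710 : nd 28710 = n61480 := ndS (p := 27539) (l := 3) rfl N27539 D61480
theorem N28711 : nd 28711 = n61481 := ndS (p := 27540) (l := 8) rfl N27540 D61481
theorem N28712 : nd 28712 = n61482 := ndS (p := 27541) (l := 9) rfl N27541 D61482
theorem N28713 : nd 28713 = n61483 := ndS (p := 27542) (l := 2) rfl N27542 D61483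
theorem N28714 : nd 28714 = n61484 := ndS (p := 27542) (l := 8) rfl N27542 D61484
theorem N28715 : nd 28715 = n61485 := ndS (p := 27543) (l := 8) rfl N27543 D61485
theorem N28716 : nd 28716 = n61486 := ndS (p := 27544) (l := 9) rfl N27544 D61486
theorem N28717 : nd 28717 = n61487 := ndS (p := 27547) (l := 5) rfl N27547 D61487
theorem N28718 : nd 28718 = n61488 := ndS (p := 27547) (l := 8) rfl N27547 D61488
theorem N28719 : nd 28719 = n61489 := ndS (p := 27549) (l := 9) rfl N27549 D61489
theorem N28720 : nd 28720 = n61490 := ndS (p := 27551) (l := 3) rfl N27551 D61490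
theorem N28721 : nd 28721 = n61491 := ndS (p := 27552) (l := 2) rfl N27552 D61491
theorem N28722 : nd 28722 = n61492 := ndS (p := 27553) (l := 9) rfl N27553 D61492
theorem N28723 : nd 28723 = n61493 := ndS (p := 27554) (l := 2) rfl N27554 D61493
theorem N28724 : nd 28724 = n61494 := ndS (p := 27554) (l := 8) rfl N27554 D61494
theorem N28725 : nd 28725 = n61495 := ndS (p := 27555) (l := 8) rfl N27555 D61495
theorem N28726 : nd 28726 = n61496 := ndS (p := 27560) (l := 1) rfl N27560 D61496
theorem N28727 : nd 28727 = n61497 := ndS (p := 27560) (l := 8) rfl N27560 D61497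
theorem N28728 : nd 28728 = n61498 := ndS (p := 27562) (l := 3) rfl N27562 D61498
theorem N28729 : nd 28729 = n61499 := ndS (p := 27567) (l := 3) rfl N27567 D61499
theorem N28730 : nd 28730 = n61500 := ndS (p := 27568) (l := 4) rfl N27568 D61500
theorem N28731 : nd 28731 = n61501 := ndS (p := 27575) (l := 0) rfl N27575 D61501
theorem N28732 : nd 28732 = n61502 := ndS (p := 27575) (l := 4) rfl N27575 D61502
theorem N28733 : nd 28733 = n61503 := ndS (p := 27578) (l := 0) rfl N27578 D61503
theorem N28734 : nd 28734 = n61504 := ndS (p := 27578) (l := 4) rfl N27578 D61504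
theorem N28735 : nd 28735 = n61505 := ndS (p := 27579) (l := 3) rfl N27579 D61505
theorem N28736 : nd 28736 = n61506 := ndS (p := 27581) (l := 0) rfl N27581 D61506
theorem N28737 : nd 28737 = n61507 := ndS (p := 27581) (l := 4) rfl N27581 D61507
theorem N28738 : nd 28738 = n61508 := ndS (p := 27583) (l := 4) rfl N27583 D61508
theorem N28739 : nd 28739 = n61509 := ndS (p := 27586) (l := 0) rfl N27586 D61509
theorem N28740 : nd 28740 = n61510 := ndS (p := 27586) (l := 4) rfl N27586 D61510
theorem N28741 : nd 28741 = n61511 := ndS (p := 27590) (l := 0) rfl N27590 D61511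
theorem N28742 : nd 28742 = n61512 := ndS (p := 27591) (l := 4) rfl N27591 D61512
theorem N28743 : nd 28743 = n61513 := ndS (p := 27595) (l := 0) rfl N27595 D61513
theorem N28744 : nd 28744 = n61514 := ndS (p := 27595) (l := 4) rfl N27595 D61514
theorem N28745 : nd 28745 = n61515 := ndS (p := 27596) (l := 3) rfl N27596 D61515
theorem N28746 : nd 28746 = n61516 := ndS (p := 27597) (l := 4) rfl N27597 D61516
theorem N28747 : nd 28747 = n61517 := ndS (p := 27599) (l := 1) rfl N27599 D61517
theorem N28748 : nd 28748 = n61518 := ndS (p := 27599) (l := 4) rfl N27599 D61518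
theorem N28749 : nd 28749 = n61519 := ndS (p := 27601) (l := 0) rfl N27601 D61519
theorem N28750 : nd 28750 = n61520 := ndS (p := 27601) (l := 4) rfl N27601 D61520
theorem N28751 : nd 28751 = n61521 := ndS (p := 27602) (l := 5) rfl N27602 D61521
theorem N28752 : nd 28752 = n61522 := ndS (p := 27604) (l := 0) rfl N27604 D61522
theorem N28753 : nd 28753 = n61523 := ndS (p := 27604) (l := 4) rfl N27604 D61523
theorem N28754 : nd 28754 = n61524 := ndS (p := 27605) (l := 3) rfl N27605 D61524
theorem N28755 : nd 28755 = n61525 := ndS (p := 27607) (l := 0) rfl N27607 D61525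
theorem N28756 : nd 28756 = n61526 := ndS (p := 27607) (l := 4) rfl N27607 D61526
theorem N28757 : nd 28757 = n61527 := ndS (p := 27608) (l := 5) rfl N27608 D61527
theorem N28758 : nd 28758 = n61528 := ndS (p := 27610) (l := 1) rfl N27610 D61528
theorem N28759 : nd 28759 = n61529 := ndS (p := 27610) (l := 4) rfl N27610 D61529
theorem N28760 : nd 28760 = n61530 := ndS (p := 27612) (l := 0) rfl N27612 D61530
theorem N28761 : nd 28761 = n61531 := ndS (p := 27612) (l := 4) rfl N27612 D61531
theorem N28762 : nd 28762 = n61532 := ndS (p := 27613) (l := 5) rfl N27613 D61532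
theorem N28763 : nd 28763 = n61533 := ndS (p := 27614) (l := 6) rfl N27614 D61533
theorem N28764 : nd 28764 = n61534 := ndS (p := 27615) (l := 0) rfl N27615 D61534
theorem N28765 : nd 28765 = n61535 := ndS (p := 27615) (l := 4) rfl N27615 D61535
theorem N28766 : nd 28766 = n61536 := ndS (p := 27617) (l := 4) rfl N27617 D61536
theorem N28767 : nd 28767 = n61537 := ndS (p := 27618) (l := 5) rfl N27618 D61537
theorem N28768 : nd 28768 = n61538 := ndS (p := 27619) (l := 6) rfl N27619 D61538
theorem N28769 : nd 28769 = n61539 := ndS (p := 27622) (l := 0) rfl N27622 D61539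
theorem N28770 : nd 28770 = n61540 := ndS (p := 27622) (l := 4) rfl N27622 D61540
theorem N28771 : nd 28771 = n61541 := ndS (p := 27623) (l := 3) rfl N27623 D61541
theorem N28772 : nd 28772 = n61542 := ndS (p := 27623) (l := 5) rfl N27623 D61542
theorem N28773 : nd 28773 = n61543 := ndS (p := 27625) (l := 4) rfl N27625 D61543
theorem N28774 : nd 28774 = n61544 := ndS (p := 27626) (l := 5) rfl N27626 D61544
theorem N28775 : nd 28775 = n61545 := ndS (p := 27628) (l := 0) rfl N27628 D61545
theorem N28776 : nd 28776 = n61546 := ndS (p := 27628) (l := 4) rfl N27628 D61546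
theorem N28777 : nd 28777 = n61547 := ndS (p := 27629) (l := 3) rfl N27629 D61547
theorem N28778 : nd 28778 = n61548 := ndS (p := 27630) (l := 4) rfl N27630 D61548
theorem N28779 : nd 28779 = n61549 := ndS (p := 27631) (l := 5) rfl N27631 D61549
theorem N28780 : nd 28780 = n61550 := ndS (p := 27633) (l := 4) rfl N27633 D61550
theorem N28781 : nd 28781 = n61551 := ndS (p := 27635) (l := 5) rfl N27635 D61551
theorem N28782 : nd 28782 = n61552 := ndS (p := 27639) (l := 0) rfl N27639 D61552
theorem N28783 : nd 28783 = n61553 := ndS (p := 27639) (l := 4) rfl N27639 D61553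
theorem N28784 : nd 28784 = n61554 := ndS (p := 27640) (l := 3) rfl N27640 D61554
theorem N28785 : nd 28785 = n61555 := ndS (p := 27642) (l := 0) rfl N27642 D61555
theorem N28786 : nd 28786 = n61556 := ndS (p := 27642) (l := 4) rfl N27642 D61556
theorem N28787 : nd 28787 = n61557 := ndS (p := 27643) (l := 3) rfl N27643 D61557
theorem N28788 : nd 28788 = n61558 := ndS (p := 27644) (l := 4) rfl N27644 D61558
theorem N28789 : nd 28789 = n61559 := ndS (p := 27646) (l := 1) rfl N27646 D61559
theorem N28790 : nd 28790 = n61560 := ndS (p := 27646) (l := 4) rfl N27646 D61560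
theorem N28791 : nd 28791 = n61561 := ndS (p := 27647) (l := 5) rfl N27647 D61561
theorem N28792 : nd 28792 = n61562 := ndS (p := 27648) (l := 0) rfl N27648 D61562
theorem N28793 : nd 28793 = n61563 := ndS (p := 27648) (l := 4) rfl N27648 D61563
theorem N28794 : nd 28794 = n61564 := ndS (p := 27649) (l := 5) rfl N27649 D61564
theorem N28795 : nd 28795 = n61565 := ndS (p := 27652) (l := 1) rfl N27652 D61565
theorem N28796 : nd 28796 = n61566 := ndS (p := 27652) (l := 4) rfl N27652 D61566
theorem N28797 : nd 28797 = n61567 := ndS (p := 27654) (l := 0) rfl N27654 D61567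
theorem N28798 : nd 28798 = n61568 := ndS (p := 27654) (l := 4) rfl N27654 D61568
theorem N28799 : nd 28799 = n61569 := ndS (p := 27656) (l := 1) rfl N27656 D61569
theorem N28800 : nd 28800 = n61570 := ndS (p := 27656) (l := 4) rfl N27656 D61570
theorem N28801 : nd 28801 = n61571 := ndS (p := 27658) (l := 0) rfl N27658 D61571
theorem N28802 : nd 28802 = n61572 := ndS (p := 27658) (l := 4) rfl N27658 D61572
theorem N28803 : nd 28803 = n61573 := ndS (p := 27659) (l := 3) rfl N27659 D61573
theorem N28804 : nd 28804 = n61574 := ndS (p := 27660) (l := 4) rfl N27660 D61574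
theorem N28805 : nd 28805 = n61575 := ndS (p := 27662) (l := 0) rfl N27662 D61575
theorem N28806 : nd 28806 = n61576 := ndS (p := 27662) (l := 4) rfl N27662 D61576
theorem N28807 : nd 28807 = n61577 := ndS (p := 27663) (l := 3) rfl N27663 D61577
theorem N28808 : nd 28808 = n61578 := ndS (p := 27664) (l := 0) rfl N27664 D61578
theorem N28809 : nd 28809 = n61579 := ndS (p := 27665) (l := 4) rfl N27665 D61579
theorem N28810 : nd 28810 = n61580 := ndS (p := 27667) (l := 0) rfl N27667 D61580
theorem N28811 : nd 28811 = n61581 := ndS (p := 27668) (l := 0) rfl N27668 D61581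
theorem N28812 : nd 28812 = n61582 := ndS (p := 27668) (l := 4) rfl N27668 D61582
theorem N28813 : nd 28813 = n61583 := ndS (p := 27669) (l := 3) rfl N27669 D61583
theorem N28814 : nd 28814 = n61584 := ndS (p := 27670) (l := 4) rfl N27670 D61584
theorem N28815 : nd 28815 = n61585 := ndS (p := 27671) (l := 3) rfl N27671 D61585
theorem N28816 : nd 28816 = n61586 := ndS (p := 27676) (l := 0) rfl N27676 D61586
theorem N28817 : nd 28817 = n61587 := ndS (p := 27676) (l := 4) rfl N27676 D61587
theorem N28818 : nd 28818 = n61588 := ndS (p := 27677) (l := 3) rfl N27677 D61588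
theorem N28819 : nd 28819 = n61589 := ndS (p := 27677) (l := 5) rfl N27677 D61589
theorem N28820 : nd 28820 = n61590 := ndS (p := 27679) (l := 4) rfl N27679 D61590
theorem N28821 : nd 28821 = n61591 := ndS (p := 27680) (l := 5) rfl N27680 D61591
theorem N28822 : nd 28822 = n61592 := ndS (p := 27682) (l := 4) rfl N27682 D61592
theorem N28823 : nd 28823 = n61593 := ndS (p := 27683) (l := 3) rfl N27683 D61593
theorem N28824 : nd 28824 = n61594 := ndS (p := 27684) (l := 8) rfl N27684 D61594
theorem N28825 : nd 28825 = n61595 := ndS (p := 27685) (l := 0) rfl N27685 D61595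
theorem N28826 : nd 28826 = n61596 := ndS (p := 27685) (l := 4) rfl N27685 D61596
theorem N28827 : nd 28827 = n61597 := ndS (p := 27687) (l := 4) rfl N27687 D61597
theorem N28828 : nd 28828 = n61598 := ndS (p := 27689) (l := 1) rfl N27689 D61598
theorem N28829 : nd 28829 = n61599 := ndS (p := 27689) (l := 4) rfl N27689 D61599
theorem N28830 : nd 28830 = n61600 := ndS (p := 27691) (l := 0) rfl N27691 D61600
theorem N28831 : nd 28831 = n61601 := ndS (p := 27691) (l := 4) rfl N27691 D61601
theorem N28832 : nd 28832 = n61602 := ndS (p := 27692) (l := 3) rfl N27692 D61602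
theorem N28833 : nd 28833 = n61603 := ndS (p := 27693) (l := 0) rfl N27693 D61603
theorem N28834 : nd 28834 = n61604 := ndS (p := 27693) (l := 4) rfl N27693 D61604
theorem N28835 : nd 28835 = n61605 := ndS (p := 27694) (l := 5) rfl N27694 D61605
theorem N28836 : nd 28836 = n61606 := ndS (p := 27695) (l := 6) rfl N27695 D61606
theorem N28837 : nd 28837 = n61607 := ndS (p := 27696) (l := 4) rfl N27696 D61607
theorem N28838 : nd 28838 = n61608 := ndS (p := 27697) (l := 5) rfl N27697 D61608
theorem N28839 : nd 28839 = n61609 := ndS (p := 27698) (l := 6) rfl N27698 D61609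
theorem N28840 : nd 28840 = n61610 := ndS (p := 27700) (l := 4) rfl N27700 D61610
theorem N28841 : nd 28841 = n61611 := ndS (p := 27702) (l := 5) rfl N27702 D61611
theorem N28842 : nd 28842 = n61612 := ndS (p := 27703) (l := 6) rfl N27703 D61612
theorem N28843 : nd 28843 = n61613 := ndS (p := 27705) (l := 0) rfl N27705 D61613
theorem N28844 : nd 28844 = n61614 := ndS (p := 27705) (l := 4) rfl N27705 D61614
theorem N28845 : nd 28845 = n61615 := ndS (p := 27708) (l := 0) rfl N27708 D61615
theorem N28846 : nd 28846 = n61616 := ndS (p := 27708) (l := 4) rfl N27708 D61616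
theorem N28847 : nd 28847 = n61617 := ndS (p := 27709) (l := 3) rfl N27709 D61617
theorem N28848 : nd 28848 = n61618 := ndS (p := 27710) (l := 0) rfl N27710 D61618
theorem N28849 : nd 28849 = n61619 := ndS (p := 27710) (l := 4) rfl N27710 D61619
theorem N28850 : nd 28850 = n61620 := ndS (p := 27712) (l := 4) rfl N27712 D61620
theorem N28851 : nd 28851 = n61621 := ndS (p := 27714) (l := 0) rfl N27714 D61621
theorem N28852 : nd 28852 = n61622 := ndS (p := 27715) (l := 4) rfl N27715 D61622
theorem N28853 : nd 28853 = n61623 := ndS (p := 27718) (l := 0) rfl N27718 D61623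
theorem N28854 : nd 28854 = n61624 := ndS (p := 27718) (l := 4) rfl N27718 D61624
theorem N28855 : nd 28855 = n61625 := ndS (p := 27719) (l := 3) rfl N27719 D61625
theorem N28856 : nd 28856 = n61626 := ndS (p := 27720) (l := 0) rfl N27720 D61626
theorem N28857 : nd 28857 = n61627 := ndS (p := 27720) (l := 4) rfl N27720 D61627
theorem N28858 : nd 28858 = n61628 := ndS (p := 27721) (l := 3) rfl N27721 D61628
theorem N28859 : nd 28859 = n61629 := ndS (p := 27722) (l := 4) rfl N27722 D61629
theorem N28860 : nd 28860 = n61630 := ndS (p := 27723) (l := 3) rfl N27723 D61630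
theorem N28861 : nd 28861 = n61631 := ndS (p := 27725) (l := 4) rfl N27725 D61631
theorem N28862 : nd 28862 = n61632 := ndS (p := 27726) (l := 5) rfl N27726 D61632
theorem N28863 : nd 28863 = n61633 := ndS (p := 27728) (l := 5) rfl N27728 D61633
theorem N28864 : nd 28864 = n61634 := ndS (p := 27730) (l := 0) rfl N27730 D61634
theorem N28865 : nd 28865 = n61635 := ndS (p := 27730) (l := 4) rfl N27730 D61635
theorem N28866 : nd 28866 = n61636 := ndS (p := 27732) (l := 4) rfl N27732 D61636
theorem N28867 : nd 28867 = n61637 := ndS (p := 27740) (l := 4) rfl N27740 D61637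
theorem N28868 : nd 28868 = n61638 := ndS (p := 27741) (l := 5) rfl N27741 D61638
theorem N28869 : nd 28869 = n61639 := ndS (p := 27743) (l := 1) rfl N27743 D61639
theorem N28870 : nd 28870 = n61640 := ndS (p := 27743) (l := 4) rfl N27743 D61640
theorem N28871 : nd 28871 = n61641 := ndS (p := 27744) (l := 5) rfl N27744 D61641
theorem N28872 : nd 28872 = n61642 := ndS (p := 27745) (l := 0) rfl N27745 D61642
theorem N28873 : nd 28873 = n61643 := ndS (p := 27745) (l := 4) rfl N27745 D61643
theorem N28874 : nd 28874 = n61644 := ndS (p := 27746) (l := 3) rfl N27746 D61644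
theorem N28875 : nd 28875 = n61645 := ndS (p := 27746) (l := 5) rfl N27746 D61645
theorem N28876 : nd 28876 = n61646 := ndS (p := 27748) (l := 4) rfl N27748 D61646
theorem N28877 : nd 28877 = n61647 := ndS (p := 27749) (l := 5) rfl N27749 D61647
theorem N28878 : nd 28878 = n61648 := ndS (p := 27751) (l := 1) rfl N27751 D61648
theorem N28879 : nd 28879 = n61649 := ndS (p := 27751) (l := 4) rfl N27751 D61649
theorem N28880 : nd 28880 = n61650 := ndS (p := 27752) (l := 5) rfl N27752 D61650
theorem N28881 : nd 28881 = n61651 := ndS (p := 27753) (l := 0) rfl N27753 D61651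
theorem N28882 : nd 28882 = n61652 := ndS (p := 27753) (l := 4) rfl N27753 D61652
theorem N28883 : nd 28883 = n61653 := ndS (p := 27754) (l := 3) rfl N27754 D61653
theorem N28884 : nd 28884 = n61654 := ndS (p := 27754) (l := 5) rfl N27754 D61654
theorem N28885 : nd 28885 = n61655 := ndS (p := 27756) (l := 0) rfl N27756 D61655
theorem N28886 : nd 28886 = n61656 := ndS (p := 27756) (l := 4) rfl N27756 D61656
theorem N28887 : nd 28887 = n61657 := ndS (p := 27757) (l := 5) rfl N27757 D61657
theorem N28888 : nd 28888 = n61658 := ndS (p := 27759) (l := 4) rfl N27759 D61658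
theorem N28889 : nd 28889 = n61659 := ndS (p := 27760) (l := 5) rfl N27760 D61659
theorem N28890 : nd 28890 = n61660 := ndS (p := 27762) (l := 4) rfl N27762 D61660
theorem N28891 : nd 28891 = n61661 := ndS (p := 27763) (l := 5) rfl N27763 D61661
theorem N28892 : nd 28892 = n61662 := ndS (p := 27765) (l := 5) rfl N27765 D61662
theorem N28893 : nd 28893 = n61663 := ndS (p := 27766) (l := 6) rfl N27766 D61663
theorem N28894 : nd 28894 = n61664 := ndS (p := 27768) (l := 0) rfl N27768 D61664
theorem N28895 : nd 28895 = n61665 := ndS (p := 27768) (l := 4) rfl N27768 D61665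
theorem N28896 : nd 28896 = n61666 := ndS (p := 27769) (l := 3) rfl N27769 D61666
theorem N28897 : nd 28897 = n61667 := ndS (p := 27770) (l := 4) rfl N27770 D61667
theorem N28898 : nd 28898 = n61668 := ndS (p := 27773) (l := 5) rfl N27773 D61668
theorem N28899 : nd 28899 = n61669 := ndS (p := 27775) (l := 4) rfl N27775 D61669
theorem N28900 : nd 28900 = n61670 := ndS (p := 27777) (l := 0) rfl N27777 D61670
theorem N28901 : nd 28901 = n61671 := ndS (p := 27777) (l := 4) rfl N27777 D61671
theorem N28902 : nd 28902 = n61672 := ndS (p := 27778) (l := 3) rfl N27778 D61672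
theorem N28903 : nd 28903 = n61673 := ndS (p := 27779) (l := 4) rfl N27779 D61673
theorem N28904 : nd 28904 = n61674 := ndS (p := 27780) (l := 3) rfl N27780 D61674
theorem N28905 : nd 28905 = n61675 := ndS (p := 27782) (l := 5) rfl N27782 D61675
theorem N28906 : nd 28906 = n61676 := ndS (p := 27784) (l := 4) rfl N27784 D61676
theorem N28907 : nd 28907 = n61677 := ndS (p := 27786) (l := 4) rfl N27786 D61677
theorem N28908 : nd 28908 = n61678 := ndS (p := 27788) (l := 4) rfl N27788 D61678
theorem N28909 : nd 28909 = n61679 := ndS (p := 27791) (l := 4) rfl N27791 D61679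
theorem N28910 : nd 28910 = n61680 := ndS (p := 27793) (l := 4) rfl N27793 D61680
theorem N28911 : nd 28911 = n61681 := ndS (p := 27796) (l := 5) rfl N27796 D61681
theorem N28912 : nd 28912 = n61682 := ndS (p := 27798) (l := 4) rfl N27798 D61682
theorem N28913 : nd 28913 = n61683 := ndS (p := 27803) (l := 6) rfl N27803 D61683
theorem N28914 : nd 28914 = n61684 := ndS (p := 27805) (l := 0) rfl N27805 D61684
theorem N28915 : nd 28915 = n61685 := ndS (p := 27805) (l := 4) rfl N27805 D61685
theorem N28916 : nd 28916 = n61686 := ndS (p := 27809) (l := 0) rfl N27809 D61686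
theorem N28917 : nd 28917 = n61687 := ndS (p := 27809) (l := 4) rfl N27809 D61687
theorem N28918 : nd 28918 = n61688 := ndS (p := 27810) (l := 3) rfl N27810 D61688
theorem N28919 : nd 28919 = n61689 := ndS (p := 27812) (l := 0) rfl N27812 D61689
theorem N28920 : nd 28920 = n61690 := ndS (p := 27812) (l := 4) rfl N27812 D61690
theorem N28921 : nd 28921 = n61691 := ndS (p := 27813) (l := 3) rfl N27813 D61691
theorem N28922 : nd 28922 = n61692 := ndS (p := 27814) (l := 4) rfl N27814 D61692
theorem N28923 : nd 28923 = n61693 := ndS (p := 27815) (l := 3) rfl N27815 D61693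
theorem N28924 : nd 28924 = n61694 := ndS (p := 27817) (l := 0) rfl N27817 D61694
theorem N28925 : nd 28925 = n61695 := ndS (p := 27817) (l := 4) rfl N27817 D61695
theorem N28926 : nd 28926 = n61696 := ndS (p := 27820) (l := 0) rfl N27820 D61696
theorem N28927 : nd 28927 = n61697 := ndS (p := 27820) (l := 4) rfl N27820 D61697
theorem N28928 : nd 28928 = n61698 := ndS (p := 27821) (l := 3) rfl N27821 D61698
theorem N28929 : nd 28929 = n61699 := ndS (p := 27823) (l := 4) rfl N27823 D61699
theorem N28930 : nd 28930 = n61700 := ndS (p := 27826) (l := 0) rfl N27826 D61700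
theorem N28931 : nd 28931 = n61701 := ndS (p := 27826) (l := 4) rfl N27826 D61701
theorem N28932 : nd 28932 = n61702 := ndS (p := 27827) (l := 3) rfl N27827 D61702
theorem N28933 : nd 28933 = n61703 := ndS (p := 27829) (l := 4) rfl N27829 D61703
theorem N28934 : nd 28934 = n61704 := ndS (p := 27831) (l := 4) rfl N27831 D61704
theorem N28935 : nd 28935 = n61705 := ndS (p := 27832) (l := 3) rfl N27832 D61705
theorem N28936 : nd 28936 = n61706 := ndS (p := 27835) (l := 4) rfl N27835 D61706
theorem N28937 : nd 28937 = n61707 := ndS (p := 27838) (l := 4) rfl N27838 D61707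
theorem N28938 : nd 28938 = n61708 := ndS (p := 27839) (l := 3) rfl N27839 D61708
theorem N28939 : nd 28939 = n61709 := ndS (p := 27845) (l := 0) rfl N27845 D61709
theorem N28940 : nd 28940 = n61710 := ndS (p := 27845) (l := 4) rfl N27845 D61710
theorem N28941 : nd 28941 = n61711 := ndS (p := 27847) (l := 0) rfl N27847 D61711
theorem N28942 : nd 28942 = n61712 := ndS (p := 27847) (l := 4) rfl N27847 D61712
theorem N28943 : nd 28943 = n61713 := ndS (p := 27849) (l := 4) rfl N27849 D61713
theorem N28944 : nd 28944 = n61714 := ndS (p := 27850) (l := 3) rfl N27850 D61714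
theorem N28945 : nd 28945 = n61715 := ndS (p := 27852) (l := 0) rfl N27852 D61715
theorem N28946 : nd 28946 = n61716 := ndS (p := 27852) (l := 4) rfl N27852 D61716
theorem N28947 : nd 28947 = n61717 := ndS (p := 27854) (l := 4) rfl N27854 D61717
theorem N28948 : nd 28948 = n61718 := ndS (p := 27857) (l := 0) rfl N27857 D61718
theorem N28949 : nd 28949 = n61719 := ndS (p := 27857) (l := 4) rfl N27857 D61719
theorem N28950 : nd 28950 = n61720 := ndS (p := 27858) (l := 3) rfl N27858 D61720
theorem N28951 : nd 28951 = n61721 := ndS (p := 27860) (l := 4) rfl N27860 D61721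
theorem N28952 : nd 28952 = n61722 := ndS (p := 27861) (l := 3) rfl N27861 D61722
theorem N28953 : nd 28953 = n61723 := ndS (p := 27866) (l := 0) rfl N27866 D61723
theorem N28954 : nd 28954 = n61724 := ndS (p := 27866) (l := 4) rfl N27866 D61724
theorem N28955 : nd 28955 = n61725 := ndS (p := 27868) (l := 0) rfl N27868 D61725
theorem N28956 : nd 28956 = n61726 := ndS (p := 27868) (l := 4) rfl N27868 D61726
theorem N28957 : nd 28957 = n61727 := ndS (p := 27869) (l := 3) rfl N27869 D61727
theorem N28958 : nd 28958 = n61728 := ndS (p := 27871) (l := 4) rfl N27871 D61728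
theorem N28959 : nd 28959 = n61729 := ndS (p := 27872) (l := 3) rfl N27872 D61729
theorem N28960 : nd 28960 = n61730 := ndS (p := 27873) (l := 8) rfl N27873 D61730
theorem N28961 : nd 28961 = n61731 := ndS (p := 27874) (l := 1) rfl N27874 D61731
theorem N28962 : nd 28962 = n61732 := ndS (p := 27874) (l := 4) rfl N27874 D61732
theorem N28963 : nd 28963 = n61733 := ndS (p := 27875) (l := 5) rfl N27875 D61733
theorem N28964 : nd 28964 = n61734 := ndS (p := 27876) (l := 0) rfl N27876 D61734
theorem N28965 : nd 28965 = n61735 := ndS (p := 27876) (l := 4) rfl N27876 D61735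
theorem N28966 : nd 28966 = n61736 := ndS (p := 27877) (l := 3) rfl N27877 D61736
theorem N28967 : nd 28967 = n61737 := ndS (p := 27879) (l := 0) rfl N27879 D61737
theorem N28968 : nd 28968 = n61738 := ndS (p := 27879) (l := 4) rfl N27879 D61738
theorem N28969 : nd 28969 = n61739 := ndS (p := 27880) (l := 3) rfl N27880 D61739
theorem N28970 : nd 28970 = n61740 := ndS (p := 27881) (l := 4) rfl N27881 D61740
theorem N28971 : nd 28971 = n61741 := ndS (p := 27882) (l := 3) rfl N27882 D61741
theorem N28972 : nd 28972 = n61742 := ndS (p := 27885) (l := 0) rfl N27885 D61742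
theorem N28973 : nd 28973 = n61743 := ndS (p := 27885) (l := 4) rfl N27885 D61743
theorem N28974 : nd 28974 = n61744 := ndS (p := 27887) (l := 4) rfl N27887 D61744
theorem N28975 : nd 28975 = n61745 := ndS (p := 27891) (l := 4) rfl N27891 D61745
theorem N28976 : nd 28976 = n61746 := ndS (p := 27892) (l := 3) rfl N27892 D61746
theorem N28977 : nd 28977 = n61747 := ndS (p := 27894) (l := 4) rfl N27894 D61747
theorem N28978 : nd 28978 = n61748 := ndS (p := 27895) (l := 3) rfl N27895 D61748
theorem N28979 : nd 28979 = n61749 := ndS (p := 27897) (l := 3) rfl N27897 D61749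
theorem N28980 : nd 28980 = n61750 := ndS (p := 27898) (l := 2) rfl N27898 D61750
theorem N28981 : nd 28981 = n61751 := ndS (p := 27898) (l := 8) rfl N27898 D61751
theorem N28982 : nd 28982 = n61752 := ndS (p := 27900) (l := 4) rfl N27900 D61752
theorem N28983 : nd 28983 = n61753 := ndS (p := 27901) (l := 3) rfl N27901 D61753
theorem N28984 : nd 28984 = n61754 := ndS (p := 27903) (l := 5) rfl N27903 D61754
theorem N28985 : nd 28985 = n61755 := ndS (p := 27904) (l := 6) rfl N27904 D61755
theorem N28986 : nd 28986 = n61756 := ndS (p := 27906) (l := 6) rfl N27906 D61756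
theorem N28987 : nd 28987 = n61757 := ndS (p := 27910) (l := 4) rfl N27910 D61757
theorem N28988 : nd 28988 = n61758 := ndS (p := 27912) (l := 3) rfl N27912 D61758
theorem N28989 : nd 28989 = n61759 := ndS (p := 27913) (l := 8) rfl N27913 D61759
theorem N28990 : nd 28990 = n61760 := ndS (p := 27914) (l := 9) rfl N27914 D61760
theorem N28991 : nd 28991 = n61761 := ndS (p := 27915) (l := 0) rfl N27915 D61761
theorem N28992 : nd 28992 = n61762 := ndS (p := 27915) (l := 4) rfl N27915 D61762
theorem N28993 : nd 28993 = n61763 := ndS (p := 27918) (l := 4) rfl N27918 D61763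
theorem N28994 : nd 28994 = n61764 := ndS (p := 27920) (l := 4) rfl N27920 D61764
theorem N28995 : nd 28995 = n61765 := ndS (p := 27922) (l := 3) rfl N27922 D61765
theorem N28996 : nd 28996 = n61766 := ndS (p := 27927) (l := 0) rfl N27927 D61766
theorem N28997 : nd 28997 = n61767 := ndS (p := 27927) (l := 4) rfl N27927 D61767
theorem N28998 : nd 28998 = n61768 := ndS (p := 27930) (l := 0) rfl N27930 D61768
theorem N28999 : nd 28999 = n61769 := ndS (p := 27932) (l := 0) rfl N27932 D61769
theorem N29000 : nd 29000 = n61770 := ndS (p := 27934) (l := 4) rfl N27934 D61770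
theorem N29001 : nd 29001 = n61771 := ndS (p := 27935) (l := 3) rfl N27935 D61771
theorem N29002 : nd 29002 = n61772 := ndS (p := 27936) (l := 8) rfl N27936 D61772
theorem N29003 : nd 29003 = n61773 := ndS (p := 27937) (l := 9) rfl N27937 D61773
theorem N29004 : nd 29004 = n61774 := ndS (p := 27941) (l := 4) rfl N27941 D61774
theorem N29005 : nd 29005 = n61775 := ndS (p := 27943) (l := 0) rfl N27943 D61775
theorem N29006 : nd 29006 = n61776 := ndS (p := 27944) (l := 4) rfl N27944 D61776
theorem N29007 : nd 29007 = n61777 := ndS (p := 27946) (l := 3) rfl N27946 D61777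
theorem N29008 : nd 29008 = n61778 := ndS (p := 27947) (l := 2) rfl N27947 D61778
theorem N29009 : nd 29009 = n61779 := ndS (p := 27947) (l := 8) rfl N27947 D61779
theorem N29010 : nd 29010 = n61780 := ndS (p := 27948) (l := 9) rfl N27948 D61780
theorem N29011 : nd 29011 = n61781 := ndS (p := 27951) (l := 1) rfl N27951 D61781
theorem N29012 : nd 29012 = n61782 := ndS (p := 27951) (l := 4) rfl N27951 D61782
theorem N29013 : nd 29013 = n61783 := ndS (p := 27953) (l := 0) rfl N27953 D61783
theorem N29014 : nd 29014 = n61784 := ndS (p := 27954) (l := 1) rfl N27954 D61784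
theorem N29015 : nd 29015 = n61785 := ndS (p := 27954) (l := 4) rfl N27954 D61785
theorem N29016 : nd 29016 = n61786 := ndS (p := 27955) (l := 5) rfl N27955 D61786
theorem N29017 : nd 29017 = n61787 := ndS (p := 27956) (l := 3) rfl N27956 D61787
theorem N29018 : nd 29018 = n61788 := ndS (p := 27956) (l := 5) rfl N27956 D61788
theorem N29019 : nd 29019 = n61789 := ndS (p := 27957) (l := 6) rfl N27957 D61789
theorem N29020 : nd 29020 = n61790 := ndS (p := 27958) (l := 1) rfl N27958 D61790
theorem N29021 : nd 29021 = n61791 := ndS (p := 27958) (l := 4) rfl N27958 D61791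
theorem N29022 : nd 29022 = n61792 := ndS (p := 27959) (l := 5) rfl N27959 D61792
theorem N29023 : nd 29023 = n61793 := ndS (p := 27960) (l := 1) rfl N27960 D61793
theorem N29024 : nd 29024 = n61794 := ndS (p := 27960) (l := 4) rfl N27960 D61794
theorem N29025 : nd 29025 = n61795 := ndS (p := 27961) (l := 5) rfl N27961 D61795
theorem N29026 : nd 29026 = n61796 := ndS (p := 27962) (l := 0) rfl N27962 D61796
theorem N29027 : nd 29027 = n61797 := ndS (p := 27962) (l := 4) rfl N27962 D61797
theorem N29028 : nd 29028 = n61798 := ndS (p := 27963) (l := 5) rfl N27963 D61798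
theorem N29029 : nd 29029 = n61799 := ndS (p := 27964) (l := 6) rfl N27964 D61799
theorem N29030 : nd 29030 = n61800 := ndS (p := 27966) (l := 0) rfl N27966 D61800
theorem N29031 : nd 29031 = n61801 := ndS (p := 27966) (l := 4) rfl N27966 D61801
theorem N29032 : nd 29032 = n61802 := ndS (p := 27967) (l := 3) rfl N27967 D61802
theorem N29033 : nd 29033 = n61803 := ndS (p := 27969) (l := 0) rfl N27969 D61803
theorem N29034 : nd 29034 = n61804 := ndS (p := 27970) (l := 1) rfl N27970 D61804
theorem N29035 : nd 29035 = n61805 := ndS (p := 27970) (l := 4) rfl N27970 D61805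
theorem N29036 : nd 29036 = n61806 := ndS (p := 27971) (l := 5) rfl N27971 D61806
theorem N29037 : nd 29037 = n61807 := ndS (p := 27972) (l := 0) rfl N27972 D61807
theorem N29038 : nd 29038 = n61808 := ndS (p := 27972) (l := 4) rfl N27972 D61808
theorem N29039 : nd 29039 = n61809 := ndS (p := 27973) (l := 5) rfl N27973 D61809
theorem N29040 : nd 29040 = n61810 := ndS (p := 27974) (l := 6) rfl N27974 D61810
theorem N29041 : nd 29041 = n61811 := ndS (p := 27976) (l := 1) rfl N27976 D61811
theorem N29042 : nd 29042 = n61812 := ndS (p := 27976) (l := 4) rfl N27976 D61812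
theorem N29043 : nd 29043 = n61813 := ndS (p := 27977) (l := 5) rfl N27977 D61813
theorem N29044 : nd 29044 = n61814 := ndS (p := 27978) (l := 0) rfl N27978 D61814
theorem N29045 : nd 29045 = n61815 := ndS (p := 27978) (l := 4) rfl N27978 D61815
theorem N29046 : nd 29046 = n61816 := ndS (p := 27979) (l := 3) rfl N27979 D61816
theorem N29047 : nd 29047 = n61817 := ndS (p := 27981) (l := 1) rfl N27981 D61817
theorem N29048 : nd 29048 = n61818 := ndS (p := 27981) (l := 4) rfl N27981 D61818
theorem N29049 : nd 29049 = n61819 := ndS (p := 27982) (l := 5) rfl N27982 D61819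
theorem N29050 : nd 29050 = n61820 := ndS (p := 27983) (l := 0) rfl N27983 D61820
theorem N29051 : nd 29051 = n61821 := ndS (p := 27983) (l := 4) rfl N27983 D61821
theorem N29052 : nd 29052 = n61822 := ndS (p := 27984) (l := 3) rfl N27984 D61822
theorem N29053 : nd 29053 = n61823 := ndS (p := 27984) (l := 5) rfl N27984 D61823
theorem N29054 : nd 29054 = n61824 := ndS (p := 27986) (l := 4) rfl N27986 D61824
theorem N29055 : nd 29055 = n61825 := ndS (p := 27987) (l := 5) rfl N27987 D61825
theorem N29056 : nd 29056 = n61826 := ndS (p := 27989) (l := 4) rfl N27989 D61826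
theorem N29057 : nd 29057 = n61827 := ndS (p := 27990) (l := 3) rfl N27990 D61827
theorem N29058 : nd 29058 = n61828 := ndS (p := 27991) (l := 8) rfl N27991 D61828
theorem N29059 : nd 29059 = n61829 := ndS (p := 27992) (l := 3) rfl N27992 D61829
theorem N29060 : nd 29060 = n61830 := ndS (p := 27994) (l := 8) rfl N27994 D61830
theorem N29061 : nd 29061 = n61831 := ndS (p := 27995) (l := 9) rfl N27995 D61831
theorem N29062 : nd 29062 = n61832 := ndS (p := 27997) (l := 0) rfl N27997 D61832
theorem N29063 : nd 29063 = n61833 := ndS (p := 27997) (l := 4) rfl N27997 D61833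
theorem N29064 : nd 29064 = n61834 := ndS (p := 27998) (l := 3) rfl N27998 D61834
theorem N29065 : nd 29065 = n61835 := ndS (p := 27998) (l := 5) rfl N27998 D61835
theorem N29066 : nd 29066 = n61836 := ndS (p := 27999) (l := 6) rfl N27999 D61836
theorem N29067 : nd 29067 = n61837 := ndS (p := 28000) (l := 4) rfl N28000 D61837
theorem N29068 : nd 29068 = n61838 := ndS (p := 28001) (l := 5) rfl N28001 D61838
theorem N29069 : nd 29069 = n61839 := ndS (p := 28002) (l := 6) rfl N28002 D61839
theorem N29070 : nd 29070 = n61840 := ndS (p := 28004) (l := 0) rfl N28004 D61840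
theorem N29071 : nd 29071 = n61841 := ndS (p := 28004) (l := 4) rfl N28004 D61841
theorem N29072 : nd 29072 = n61842 := ndS (p := 28005) (l := 3) rfl N28005 D61842
theorem N29073 : nd 29073 = n61843 := ndS (p := 28005) (l := 5) rfl N28005 D61843
theorem N29074 : nd 29074 = n61844 := ndS (p := 28007) (l := 4) rfl N28007 D61844
theorem N29075 : nd 29075 = n61845 := ndS (p := 28008) (l := 3) rfl N28008 D61845
theorem N29076 : nd 29076 = n61846 := ndS (p := 28010) (l := 1) rfl N28010 D61846
theorem N29077 : nd 29077 = n61847 := ndS (p := 28010) (l := 4) rfl N28010 D61847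
theorem N29078 : nd 29078 = n61848 := ndS (p := 28012) (l := 0) rfl N28012 D61848
theorem N29079 : nd 29079 = n61849 := ndS (p := 28012) (l := 4) rfl N28012 D61849
theorem N29080 : nd 29080 = n61850 := ndS (p := 28014) (l := 4) rfl N28014 D61850
theorem N29081 : nd 29081 = n61851 := ndS (p := 28016) (l := 1) rfl N28016 D61851
theorem N29082 : nd 29082 = n61852 := ndS (p := 28016) (l := 4) rfl N28016 D61852
theorem N29083 : nd 29083 = n61853 := ndS (p := 28017) (l := 5) rfl N28017 D61853
theorem N29084 : nd 29084 = n61854 := ndS (p := 28018) (l := 0) rfl N28018 D61854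
theorem N29085 : nd 29085 = n61855 := ndS (p := 28018) (l := 4) rfl N28018 D61855
theorem N29086 : nd 29086 = n61856 := ndS (p := 28019) (l := 3) rfl N28019 D61856
theorem N29087 : nd 29087 = n61857 := ndS (p := 28019) (l := 5) rfl N28019 D61857
theorem N29088 : nd 29088 = n61858 := ndS (p := 28021) (l := 0) rfl N28021 D61858
theorem N29089 : nd 29089 = n61859 := ndS (p := 28021) (l := 4) rfl N28021 D61859
theorem N29090 : nd 29090 = n61860 := ndS (p := 28022) (l := 5) rfl N28022 D61860
theorem N29091 : nd 29091 = n61861 := ndS (p := 28023) (l := 6) rfl N28023 D61861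
theorem N29092 : nd 29092 = n61862 := ndS (p := 28024) (l := 4) rfl N28024 D61862
theorem N29093 : nd 29093 = n61863 := ndS (p := 28025) (l := 5) rfl N28025 D61863
theorem N29094 : nd 29094 = n61864 := ndS (p := 28026) (l := 6) rfl N28026 D61864
theorem N29095 : nd 29095 = n61865 := ndS (p := 28028) (l := 4) rfl N28028 D61865
theorem N29096 : nd 29096 = n61866 := ndS (p := 28029) (l := 3) rfl N28029 D61866
theorem N29097 : nd 29097 = n61867 := ndS (p := 28029) (l := 5) rfl N28029 D61867
theorem N29098 : nd 29098 = n61868 := ndS (p := 28030) (l := 8) rfl N28030 D61868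
theorem N29099 : nd 29099 = n61869 := ndS (p := 28032) (l := 5) rfl N28032 D61869
theorem N29100 : nd 29100 = n61870 := ndS (p := 28033) (l := 6) rfl N28033 D61870
theorem N29101 : nd 29101 = n61871 := ndS (p := 28035) (l := 3) rfl N28035 D61871
theorem N29102 : nd 29102 = n61872 := ndS (p := 28036) (l := 8) rfl N28036 D61872
theorem N29103 : nd 29103 = n61873 := ndS (p := 28037) (l := 9) rfl N28037 D61873
theorem N29104 : nd 29104 = n61874 := ndS (p := 28041) (l := 9) rfl N28041 D61874
theorem N29105 : nd 29105 = n61875 := ndS (p := 28044) (l := 0) rfl N28044 D61875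
theorem N29106 : nd 29106 = n61876 := ndS (p := 28046) (l := 1) rfl N28046 D61876
theorem N29107 : nd 29107 = n61877 := ndS (p := 28047) (l := 1) rfl N28047 D61877
theorem N29108 : nd 29108 = n61878 := ndS (p := 28047) (l := 4) rfl N28047 D61878
theorem N29109 : nd 29109 = n61879 := ndS (p := 28049) (l := 0) rfl N28049 D61879
theorem N29110 : nd 29110 = n61880 := ndS (p := 28050) (l := 0) rfl N28050 D61880
theorem N29111 : nd 29111 = n61881 := ndS (p := 28050) (l := 4) rfl N28050 D61881
theorem N29112 : nd 29112 = n61882 := ndS (p := 28053) (l := 0) rfl N28053 D61882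
theorem N29113 : nd 29113 = n61883 := ndS (p := 28053) (l := 4) rfl N28053 D61883
theorem N29114 : nd 29114 = n61884 := ndS (p := 28054) (l := 3) rfl N28054 D61884
theorem N29115 : nd 29115 = n61885 := ndS (p := 28055) (l := 4) rfl N28055 D61885
theorem N29116 : nd 29116 = n61886 := ndS (p := 28057) (l := 4) rfl N28057 D61886
theorem N29117 : nd 29117 = n61887 := ndS (p := 28059) (l := 0) rfl N28059 D61887
theorem N29118 : nd 29118 = n61888 := ndS (p := 28059) (l := 4) rfl N28059 D61888
theorem N29119 : nd 29119 = n61889 := ndS (p := 28060) (l := 3) rfl N28060 D61889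
theorem N29120 : nd 29120 = n61890 := ndS (p := 28063) (l := 0) rfl N28063 D61890
theorem N29121 : nd 29121 = n61891 := ndS (p := 28063) (l := 4) rfl N28063 D61891
theorem N29122 : nd 29122 = n61892 := ndS (p := 28064) (l := 3) rfl N28064 D61892
theorem N29123 : nd 29123 = n61893 := ndS (p := 28065) (l := 4) rfl N28065 D61893
theorem N29124 : nd 29124 = n61894 := ndS (p := 28067) (l := 4) rfl N28067 D61894
theorem N29125 : nd 29125 = n61895 := ndS (p := 28069) (l := 0) rfl N28069 D61895
theorem N29126 : nd 29126 = n61896 := ndS (p := 28069) (l := 4) rfl N28069 D61896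
theorem N29127 : nd 29127 = n61897 := ndS (p := 28070) (l := 3) rfl N28070 D61897
theorem N29128 : nd 29128 = n61898 := ndS (p := 28073) (l := 0) rfl N28073 D61898
theorem N29129 : nd 29129 = n61899 := ndS (p := 28073) (l := 4) rfl N28073 D61899
theorem N29130 : nd 29130 = n61900 := ndS (p := 28075) (l := 4) rfl N28075 D61900
theorem N29131 : nd 29131 = n61901 := ndS (p := 28078) (l := 1) rfl N28078 D61901
theorem N29132 : nd 29132 = n61902 := ndS (p := 28078) (l := 4) rfl N28078 D61902
theorem N29133 : nd 29133 = n61903 := ndS (p := 28079) (l := 5) rfl N28079 D61903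
theorem N29134 : nd 29134 = n61904 := ndS (p := 28081) (l := 1) rfl N28081 D61904
theorem N29135 : nd 29135 = n61905 := ndS (p := 28081) (l := 4) rfl N28081 D61905
theorem N29136 : nd 29136 = n61906 := ndS (p := 28082) (l := 5) rfl N28082 D61906
theorem N29137 : nd 29137 = n61907 := ndS (p := 28083) (l := 1) rfl N28083 D61907
theorem N29138 : nd 29138 = n61908 := ndS (p := 28083) (l := 4) rfl N28083 D61908
theorem N29139 : nd 29139 = n61909 := ndS (p := 28084) (l := 5) rfl N28084 D61909
theorem N29140 : nd 29140 = n61910 := ndS (p := 28085) (l := 0) rfl N28085 D61910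
theorem N29141 : nd 29141 = n61911 := ndS (p := 28085) (l := 4) rfl N28085 D61911
theorem N29142 : nd 29142 = n61912 := ndS (p := 28086) (l := 5) rfl N28086 D61912
theorem N29143 : nd 29143 = n61913 := ndS (p := 28087) (l := 6) rfl N28087 D61913
theorem N29144 : nd 29144 = n61914 := ndS (p := 28089) (l := 1) rfl N28089 D61914
theorem N29145 : nd 29145 = n61915 := ndS (p := 28089) (l := 4) rfl N28089 D61915
theorem N29146 : nd 29146 = n61916 := ndS (p := 28090) (l := 5) rfl N28090 D61916
theorem N29147 : nd 29147 = n61917 := ndS (p := 28091) (l := 0) rfl N28091 D61917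
theorem N29148 : nd 29148 = n61918 := ndS (p := 28091) (l := 4) rfl N28091 D61918
theorem N29149 : nd 29149 = n61919 := ndS (p := 28092) (l := 3) rfl N28092 D61919
theorem N29150 : nd 29150 = n61920 := ndS (p := 28094) (l := 1) rfl N28094 D61920
theorem N29151 : nd 29151 = n61921 := ndS (p := 28094) (l := 4) rfl N28094 D61921
theorem N29152 : nd 29152 = n61922 := ndS (p := 28096) (l := 0) rfl N28096 D61922
theorem N29153 : nd 29153 = n61923 := ndS (p := 28096) (l := 4) rfl N28096 D61923
theorem N29154 : nd 29154 = n61924 := ndS (p := 28097) (l := 3) rfl N28097 D61924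
theorem N29155 : nd 29155 = n61925 := ndS (p := 28097) (l := 5) rfl N28097 D61925
theorem N29156 : nd 29156 = n61926 := ndS (p := 28099) (l := 8) rfl N28099 D61926
theorem N29157 : nd 29157 = n61927 := ndS (p := 28100) (l := 0) rfl N28100 D61927
theorem N29158 : nd 29158 = n61928 := ndS (p := 28100) (l := 4) rfl N28100 D61928
theorem N29159 : nd 29159 = n61929 := ndS (p := 28101) (l := 3) rfl N28101 D61929
theorem N29160 : nd 29160 = n61930 := ndS (p := 28101) (l := 5) rfl N28101 D61930
theorem N29161 : nd 29161 = n61931 := ndS (p := 28103) (l := 0) rfl N28103 D61931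
theorem N29162 : nd 29162 = n61932 := ndS (p := 28103) (l := 4) rfl N28103 D61932
theorem N29163 : nd 29163 = n61933 := ndS (p := 28104) (l := 3) rfl N28104 D61933
theorem N29164 : nd 29164 = n61934 := ndS (p := 28104) (l := 5) rfl N28104 D61934
theorem N29165 : nd 29165 = n61935 := ndS (p := 28106) (l := 4) rfl N28106 D61935
theorem N29166 : nd 29166 = n61936 := ndS (p := 28107) (l := 5) rfl N28107 D61936
theorem N29167 : nd 29167 = n61937 := ndS (p := 28108) (l := 6) rfl N28108 D61937
theorem N29168 : nd 29168 = n61938 := ndS (p := 28110) (l := 4) rfl N28110 D61938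
theorem N29169 : nd 29169 = n61939 := ndS (p := 28111) (l := 3) rfl N28111 D61939
theorem N29170 : nd 29170 = n61940 := ndS (p := 28112) (l := 8) rfl N28112 D61940
theorem N29171 : nd 29171 = n61941 := ndS (p := 28113) (l := 1) rfl N28113 D61941
theorem N29172 : nd 29172 = n61942 := ndS (p := 28113) (l := 4) rfl N28113 D61942
theorem N29173 : nd 29173 = n61943 := ndS (p := 28114) (l := 5) rfl N28114 D61943
theorem N29174 : nd 29174 = n61944 := ndS (p := 28115) (l := 0) rfl N28115 D61944
theorem N29175 : nd 29175 = n61945 := ndS (p := 28115) (l := 4) rfl N28115 D61945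
theorem N29176 : nd 29176 = n61946 := ndS (p := 28116) (l := 3) rfl N28116 D61946
theorem N29177 : nd 29177 = n61947 := ndS (p := 28118) (l := 0) rfl N28118 D61947
theorem N29178 : nd 29178 = n61948 := ndS (p := 28118) (l := 4) rfl N28118 D61948
theorem N29179 : nd 29179 = n61949 := ndS (p := 28120) (l := 0) rfl N28120 D61949
theorem N29180 : nd 29180 = n61950 := ndS (p := 28120) (l := 4) rfl N28120 D61950
theorem N29181 : nd 29181 = n61951 := ndS (p := 28121) (l := 3) rfl N28121 D61951
theorem N29182 : nd 29182 = n61952 := ndS (p := 28122) (l := 4) rfl N28122 D61952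
theorem N29183 : nd 29183 = n61953 := ndS (p := 28123) (l := 5) rfl N28123 D61953
theorem N29184 : nd 29184 = n61954 := ndS (p := 28125) (l := 0) rfl N28125 D61954
theorem N29185 : nd 29185 = n61955 := ndS (p := 28125) (l := 4) rfl N28125 D61955
theorem N29186 : nd 29186 = n61956 := ndS (p := 28126) (l := 5) rfl N28126 D61956
theorem N29187 : nd 29187 = n61957 := ndS (p := 28128) (l := 4) rfl N28128 D61957
theorem N29188 : nd 29188 = n61958 := ndS (p := 28129) (l := 3) rfl N28129 D61958
theorem N29189 : nd 29189 = n61959 := ndS (p := 28130) (l := 8) rfl N28130 D61959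
theorem N29190 : nd 29190 = n61960 := ndS (p := 28131) (l := 0) rfl N28131 D61960
theorem N29191 : nd 29191 = n61961 := ndS (p := 28131) (l := 4) rfl N28131 D61961
theorem N29192 : nd 29192 = n61962 := ndS (p := 28132) (l := 3) rfl N28132 D61962
theorem N29193 : nd 29193 = n61963 := ndS (p := 28133) (l := 4) rfl N28133 D61963
theorem N29194 : nd 29194 = n61964 := ndS (p := 28135) (l := 0) rfl N28135 D61964
theorem N29195 : nd 29195 = n61965 := ndS (p := 28136) (l := 0) rfl N28136 D61965
theorem N29196 : nd 29196 = n61966 := ndS (p := 28136) (l := 4) rfl N28136 D61966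
theorem N29197 : nd 29197 = n61967 := ndS (p := 28137) (l := 3) rfl N28137 D61967
theorem N29198 : nd 29198 = n61968 := ndS (p := 28138) (l := 4) rfl N28138 D61968
theorem N29199 : nd 29199 = n61969 := ndS (p := 28139) (l := 3) rfl N28139 D61969
theorem N29200 : nd 29200 = n61970 := ndS (p := 28139) (l := 5) rfl N28139 D61970
theorem N29201 : nd 29201 = n61971 := ndS (p := 28140) (l := 5) rfl N28140 D61971
theorem N29202 : nd 29202 = n61972 := ndS (p := 28143) (l := 5) rfl N28143 D61972
theorem N29203 : nd 29203 = n61973 := ndS (p := 28145) (l := 0) rfl N28145 D61973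
theorem N29204 : nd 29204 = n61974 := ndS (p := 28145) (l := 4) rfl N28145 D61974
theorem N29205 : nd 29205 = n61975 := ndS (p := 28147) (l := 4) rfl N28147 D61975
theorem N29206 : nd 29206 = n61976 := ndS (p := 28149) (l := 3) rfl N28149 D61976
theorem N29207 : nd 29207 = n61977 := ndS (p := 28150) (l := 8) rfl N28150 D61977
theorem N29208 : nd 29208 = n61978 := ndS (p := 28151) (l := 9) rfl N28151 D61978
theorem N29209 : nd 29209 = n61979 := ndS (p := 28154) (l := 1) rfl N28154 D61979
theorem N29210 : nd 29210 = n61980 := ndS (p := 28154) (l := 4) rfl N28154 D61980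
theorem N29211 : nd 29211 = n61981 := ndS (p := 28156) (l := 0) rfl N28156 D61981
theorem N29212 : nd 29212 = n61982 := ndS (p := 28156) (l := 4) rfl N28156 D61982
theorem N29213 : nd 29213 = n61983 := ndS (p := 28157) (l := 3) rfl N28157 D61983
theorem N29214 : nd 29214 = n61984 := ndS (p := 28157) (l := 5) rfl N28157 D61984
theorem N29215 : nd 29215 = n61985 := ndS (p := 28159) (l := 4) rfl N28159 D61985
theorem N29216 : nd 29216 = n61986 := ndS (p := 28160) (l := 3) rfl N28160 D61986
theorem N29217 : nd 29217 = n61987 := ndS (p := 28161) (l := 8) rfl N28161 D61987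
theorem N29218 : nd 29218 = n61988 := ndS (p := 28162) (l := 0) rfl N28162 D61988
theorem N29219 : nd 29219 = n61989 := ndS (p := 28162) (l := 4) rfl N28162 D61989
theorem N29220 : nd 29220 = n61990 := ndS (p := 28164) (l := 4) rfl N28164 D61990
theorem N29221 : nd 29221 = n61991 := ndS (p := 28165) (l := 5) rfl N28165 D61991
theorem N29222 : nd 29222 = n61992 := ndS (p := 28167) (l := 5) rfl N28167 D61992
theorem N29223 : nd 29223 = n61993 := ndS (p := 28168) (l := 6) rfl N28168 D61993
theorem N29224 : nd 29224 = n61994 := ndS (p := 28170) (l := 0) rfl N28170 D61994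
theorem N29225 : nd 29225 = n61995 := ndS (p := 28170) (l := 4) rfl N28170 D61995
theorem N29226 : nd 29226 = n61996 := ndS (p := 28172) (l := 4) rfl N28172 D61996
theorem N29227 : nd 29227 = n61997 := ndS (p := 28173) (l := 5) rfl N28173 D61997
theorem N29228 : nd 29228 = n61998 := ndS (p := 28175) (l := 3) rfl N28175 D61998
theorem N29229 : nd 29229 = n61999 := ndS (p := 28176) (l := 2) rfl N28176 D61999
theorem N29230 : nd 29230 = n62000 := ndS (p := 28177) (l := 0) rfl N28177 D62000
theorem N29231 : nd 29231 = n62001 := ndS (p := 28178) (l := 4) rfl N28178 D62001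
theorem N29232 : nd 29232 = n62002 := ndS (p := 28180) (l := 0) rfl N28180 D62002
theorem N29233 : nd 29233 = n62003 := ndS (p := 28180) (l := 4) rfl N28180 D62003
theorem N29234 : nd 29234 = n62004 := ndS (p := 28182) (l := 4) rfl N28182 D62004
theorem N29235 : nd 29235 = n62005 := ndS (p := 28185) (l := 5) rfl N28185 D62005
theorem N29236 : nd 29236 = n62006 := ndS (p := 28187) (l := 4) rfl N28187 D62006
theorem N29237 : nd 29237 = n62007 := ndS (p := 28189) (l := 5) rfl N28189 D62007
theorem N29238 : nd 29238 = n62008 := ndS (p := 28190) (l := 6) rfl N28190 D62008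
theorem N29239 : nd 29239 = n62009 := ndS (p := 28192) (l := 0) rfl N28192 D62009
theorem N29240 : nd 29240 = n62010 := ndS (p := 28194) (l := 6) rfl N28194 D62010
theorem N29241 : nd 29241 = n62011 := ndS (p := 28196) (l := 4) rfl N28196 D62011
theorem N29242 : nd 29242 = n62012 := ndS (p := 28199) (l := 2) rfl N28199 D62012
theorem N29243 : nd 29243 = n62013 := ndS (p := 28199) (l := 8) rfl N28199 D62013
theorem N29244 : nd 29244 = n62014 := ndS (p := 28201) (l := 9) rfl N28201 D62014
theorem N29245 : nd 29245 = n62015 := ndS (p := 28204) (l := 0) rfl N28204 D62015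
theorem N29246 : nd 29246 = n62016 := ndS (p := 28206) (l := 0) rfl N28206 D62016
theorem N29247 : nd 29247 = n62017 := ndS (p := 28207) (l := 0) rfl N28207 D62017
theorem N29248 : nd 29248 = n62018 := ndS (p := 28207) (l := 4) rfl N28207 D62018
theorem N29249 : nd 29249 = n62019 := ndS (p := 28209) (l := 0) rfl N28209 D62019
theorem N29250 : nd 29250 = n62020 := ndS (p := 28209) (l := 4) rfl N28209 D62020
theorem N29251 : nd 29251 = n62021 := ndS (p := 28212) (l := 0) rfl N28212 D62021
theorem N29252 : nd 29252 = n62022 := ndS (p := 28214) (l := 4) rfl N28214 D62022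
theorem N29253 : nd 29253 = n62023 := ndS (p := 28216) (l := 4) rfl N28216 D62023
theorem N29254 : nd 29254 = n62024 := ndS (p := 28218) (l := 1) rfl N28218 D62024
theorem N29255 : nd 29255 = n62025 := ndS (p := 28218) (l := 4) rfl N28218 D62025
theorem N29256 : nd 29256 = n62026 := ndS (p := 28219) (l := 5) rfl N28219 D62026
theorem N29257 : nd 29257 = n62027 := ndS (p := 28220) (l := 1) rfl N28220 D62027
theorem N29258 : nd 29258 = n62028 := ndS (p := 28220) (l := 4) rfl N28220 D62028
theorem N29259 : nd 29259 = n62029 := ndS (p := 28221) (l := 5) rfl N28221 D62029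
theorem N29260 : nd 29260 = n62030 := ndS (p := 28222) (l := 0) rfl N28222 D62030
theorem N29261 : nd 29261 = n62031 := ndS (p := 28222) (l := 4) rfl N28222 D62031
theorem N29262 : nd 29262 = n62032 := ndS (p := 28223) (l := 5) rfl N28223 D62032
theorem N29263 : nd 29263 = n62033 := ndS (p := 28225) (l := 0) rfl N28225 D62033
theorem N29264 : nd 29264 = n62034 := ndS (p := 28225) (l := 4) rfl N28225 D62034
theorem N29265 : nd 29265 = n62035 := ndS (p := 28226) (l := 3) rfl N28226 D62035
theorem N29266 : nd 29266 = n62036 := ndS (p := 28229) (l := 0) rfl N28229 D62036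
theorem N29267 : nd 29267 = n62037 := ndS (p := 28229) (l := 4) rfl N28229 D62037
theorem N29268 : nd 29268 = n62038 := ndS (p := 28231) (l := 0) rfl N28231 D62038
theorem N29269 : nd 29269 = n62039 := ndS (p := 28231) (l := 4) rfl N28231 D62039
theorem N29270 : nd 29270 = n62040 := ndS (p := 28232) (l := 3) rfl N28232 D62040
theorem N29271 : nd 29271 = n62041 := ndS (p := 28232) (l := 5) rfl N28232 D62041
theorem N29272 : nd 29272 = n62042 := ndS (p := 28234) (l := 4) rfl N28234 D62042
theorem N29273 : nd 29273 = n62043 := ndS (p := 28235) (l := 5) rfl N28235 D62043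
theorem N29274 : nd 29274 = n62044 := ndS (p := 28237) (l := 0) rfl N28237 D62044
theorem N29275 : nd 29275 = n62045 := ndS (p := 28237) (l := 4) rfl N28237 D62045
theorem N29276 : nd 29276 = n62046 := ndS (p := 28239) (l := 4) rfl N28239 D62046
theorem N29277 : nd 29277 = n62047 := ndS (p := 28240) (l := 3) rfl N28240 D62047
theorem N29278 : nd 29278 = n62048 := ndS (p := 28243) (l := 4) rfl N28243 D62048
theorem N29279 : nd 29279 = n62049 := ndS (p := 28245) (l := 4) rfl N28245 D62049
theorem N29280 : nd 29280 = n62050 := ndS (p := 28247) (l := 5) rfl N28247 D62050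
theorem N29281 : nd 29281 = n62051 := ndS (p := 28249) (l := 4) rfl N28249 D62051
theorem N29282 : nd 29282 = n62052 := ndS (p := 28251) (l := 3) rfl N28251 D62052
theorem N29283 : nd 29283 = n62053 := ndS (p := 28255) (l := 1) rfl N28255 D62053
theorem N29284 : nd 29284 = n62054 := ndS (p := 28256) (l := 0) rfl N28256 D62054
theorem N29285 : nd 29285 = n62055 := ndS (p := 28257) (l := 0) rfl N28257 D62055
theorem N29286 : nd 29286 = n62056 := ndS (p := 28257) (l := 4) rfl N28257 D62056
theorem N29287 : nd 29287 = n62057 := ndS (p := 28259) (l := 4) rfl N28259 D62057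
theorem N29288 : nd 29288 = n62058 := ndS (p := 28261) (l := 0) rfl N28261 D62058
theorem N29289 : nd 29289 = n62059 := ndS (p := 28262) (l := 1) rfl N28262 D62059
theorem N29290 : nd 29290 = n62060 := ndS (p := 28262) (l := 4) rfl N28262 D62060
theorem N29291 : nd 29291 = n62061 := ndS (p := 28263) (l := 5) rfl N28263 D62061
theorem N29292 : nd 29292 = n62062 := ndS (p := 28264) (l := 1) rfl N28264 D62062
theorem N29293 : nd 29293 = n62063 := ndS (p := 28264) (l := 4) rfl N28264 D62063
theorem N29294 : nd 29294 = n62064 := ndS (p := 28265) (l := 5) rfl N28265 D62064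
theorem N29295 : nd 29295 = n62065 := ndS (p := 28266) (l := 0) rfl N28266 D62065
theorem N29296 : nd 29296 = n62066 := ndS (p := 28266) (l := 4) rfl N28266 D62066
theorem N29297 : nd 29297 = n62067 := ndS (p := 28267) (l := 5) rfl N28267 D62067
theorem N29298 : nd 29298 = n62068 := ndS (p := 28268) (l := 6) rfl N28268 D62068
theorem N29299 : nd 29299 = n62069 := ndS (p := 28270) (l := 0) rfl N28270 D62069
theorem N29300 : nd 29300 = n62070 := ndS (p := 28270) (l := 4) rfl N28270 D62070
theorem N29301 : nd 29301 = n62071 := ndS (p := 28271) (l := 3) rfl N28271 D62071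
theorem N29302 : nd 29302 = n62072 := ndS (p := 28273) (l := 0) rfl N28273 D62072
theorem N29303 : nd 29303 = n62073 := ndS (p := 28275) (l := 0) rfl N28275 D62073
theorem N29304 : nd 29304 = n62074 := ndS (p := 28275) (l := 4) rfl N28275 D62074
theorem N29305 : nd 29305 = n62075 := ndS (p := 28277) (l := 0) rfl N28277 D62075
theorem N29306 : nd 29306 = n62076 := ndS (p := 28277) (l := 4) rfl N28277 D62076
theorem N29307 : nd 29307 = n62077 := ndS (p := 28278) (l := 3) rfl N28278 D62077
theorem N29308 : nd 29308 = n62078 := ndS (p := 28278) (l := 5) rfl N28278 D62078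
theorem N29309 : nd 29309 = n62079 := ndS (p := 28280) (l := 0) rfl N28280 D62079
theorem N29310 : nd 29310 = n62080 := ndS (p := 28281) (l := 4) rfl N28281 D62080
theorem N29311 : nd 29311 = n62081 := ndS (p := 28282) (l := 5) rfl N28282 D62081
theorem N29312 : nd 29312 = n62082 := ndS (p := 28284) (l := 4) rfl N28284 D62082
theorem N29313 : nd 29313 = n62083 := ndS (p := 28285) (l := 3) rfl N28285 D62083
theorem N29314 : nd 29314 = n62084 := ndS (p := 28286) (l := 8) rfl N28286 D62084
theorem N29315 : nd 29315 = n62085 := ndS (p := 28287) (l := 9) rfl N28287 D62085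
theorem N29316 : nd 29316 = n62086 := ndS (p := 28290) (l := 0) rfl N28290 D62086
theorem N29317 : nd 29317 = n62087 := ndS (p := 28292) (l := 4) rfl N28292 D62087
theorem N29318 : nd 29318 = n62088 := ndS (p := 28293) (l := 3) rfl N28293 D62088
theorem N29319 : nd 29319 = n62089 := ndS (p := 28293) (l := 5) rfl N28293 D62089
theorem N29320 : nd 29320 = n62090 := ndS (p := 28296) (l := 4) rfl N28296 D62090
theorem N29321 : nd 29321 = n62091 := ndS (p := 28297) (l := 3) rfl N28297 D62091
theorem N29322 : nd 29322 = n62092 := ndS (p := 28297) (l := 5) rfl N28297 D62092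
theorem N29323 : nd 29323 = n62093 := ndS (p := 28298) (l := 8) rfl N28298 D62093
theorem N29324 : nd 29324 = n62094 := ndS (p := 28300) (l := 5) rfl N28300 D62094
theorem N29325 : nd 29325 = n62095 := ndS (p := 28302) (l := 3) rfl N28302 D62095
theorem N29326 : nd 29326 = n62096 := ndS (p := 28303) (l := 8) rfl N28303 D62096
theorem N29327 : nd 29327 = n62097 := ndS (p := 28304) (l := 9) rfl N28304 D62097
theorem N29328 : nd 29328 = n62098 := ndS (p := 28305) (l := 9) rfl N28305 D62098
theorem N29329 : nd 29329 = n62099 := ndS (p := 28307) (l := 1) rfl N28307 D62099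
theorem N29330 : nd 29330 = n62100 := ndS (p := 28308) (l := 1) rfl N28308 D62100
theorem N29331 : nd 29331 = n62101 := ndS (p := 28308) (l := 4) rfl N28308 D62101
theorem N29332 : nd 29332 = n62102 := ndS (p := 28310) (l := 0) rfl N28310 D62102
theorem N29333 : nd 29333 = n62103 := ndS (p := 28311) (l := 0) rfl N28311 D62103
theorem N29334 : nd 29334 = n62104 := ndS (p := 28311) (l := 4) rfl N28311 D62104
theorem N29335 : nd 29335 = n62105 := ndS (p := 28312) (l := 3) rfl N28312 D62105
theorem N29336 : nd 29336 = n62106 := ndS (p := 28314) (l := 0) rfl N28314 D62106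
theorem N29337 : nd 29337 = n62107 := ndS (p := 28314) (l := 4) rfl N28314 D62107
theorem N29338 : nd 29338 = n62108 := ndS (p := 28315) (l := 3) rfl N28315 D62108
theorem N29339 : nd 29339 = n62109 := ndS (p := 28315) (l := 5) rfl N28315 D62109
theorem N29340 : nd 29340 = n62110 := ndS (p := 28316) (l := 6) rfl N28316 D62110
theorem N29341 : nd 29341 = n62111 := ndS (p := 28317) (l := 5) rfl N28317 D62111
theorem N29342 : nd 29342 = n62112 := ndS (p := 28317) (l := 8) rfl N28317 D62112
theorem N29343 : nd 29343 = n62113 := ndS (p := 28320) (l := 1) rfl N28320 D62113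
theorem N29344 : nd 29344 = n62114 := ndS (p := 28321) (l := 0) rfl N28321 D62114
theorem N29345 : nd 29345 = n62115 := ndS (p := 28321) (l := 4) rfl N28321 D62115
theorem N29346 : nd 29346 = n62116 := ndS (p := 28322) (l := 3) rfl N28322 D62116
theorem N29347 : nd 29347 = n62117 := ndS (p := 28322) (l := 5) rfl N28322 D62117
theorem N29348 : nd 29348 = n62118 := ndS (p := 28323) (l := 6) rfl N28323 D62118
theorem N29349 : nd 29349 = n62119 := ndS (p := 28324) (l := 0) rfl N28324 D62119
theorem N29350 : nd 29350 = n62120 := ndS (p := 28324) (l := 4) rfl N28324 D62120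
theorem N29351 : nd 29351 = n62121 := ndS (p := 28325) (l := 3) rfl N28325 D62121
theorem N29352 : nd 29352 = n62122 := ndS (p := 28325) (l := 5) rfl N28325 D62122
theorem N29353 : nd 29353 = n62123 := ndS (p := 28326) (l := 6) rfl N28326 D62123
theorem N29354 : nd 29354 = n62124 := ndS (p := 28327) (l := 4) rfl N28327 D62124
theorem N29355 : nd 29355 = n62125 := ndS (p := 28328) (l := 5) rfl N28328 D62125
theorem N29356 : nd 29356 = n62126 := ndS (p := 28329) (l := 6) rfl N28329 D62126
theorem N29357 : nd 29357 = n62127 := ndS (p := 28330) (l := 7) rfl N28330 D62127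
theorem N29358 : nd 29358 = n62128 := ndS (p := 28332) (l := 4) rfl N28332 D62128
theorem N29359 : nd 29359 = n62129 := ndS (p := 28333) (l := 3) rfl N28333 D62129
theorem N29360 : nd 29360 = n62130 := ndS (p := 28334) (l := 8) rfl N28334 D62130
theorem N29361 : nd 29361 = n62131 := ndS (p := 28336) (l := 1) rfl N28336 D62131
theorem N29362 : nd 29362 = n62132 := ndS (p := 28336) (l := 4) rfl N28336 D62132
theorem N29363 : nd 29363 = n62133 := ndS (p := 28338) (l := 0) rfl N28338 D62133
theorem N29364 : nd 29364 = n62134 := ndS (p := 28338) (l := 4) rfl N28338 D62134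
theorem N29365 : nd 29365 = n62135 := ndS (p := 28339) (l := 3) rfl N28339 D62135
theorem N29366 : nd 29366 = n62136 := ndS (p := 28340) (l := 4) rfl N28340 D62136
theorem N29367 : nd 29367 = n62137 := ndS (p := 28342) (l := 4) rfl N28342 D62137
theorem N29368 : nd 29368 = n62138 := ndS (p := 28344) (l := 0) rfl N28344 D62138
theorem N29369 : nd 29369 = n62139 := ndS (p := 28344) (l := 4) rfl N28344 D62139
theorem N29370 : nd 29370 = n62140 := ndS (p := 28345) (l := 3) rfl N28345 D62140
theorem N29371 : nd 29371 = n62141 := ndS (p := 28345) (l := 5) rfl N28345 D62141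
theorem N29372 : nd 29372 = n62142 := ndS (p := 28347) (l := 4) rfl N28347 D62142
theorem N29373 : nd 29373 = n62143 := ndS (p := 28348) (l := 5) rfl N28348 D62143
theorem N29374 : nd 29374 = n62144 := ndS (p := 28350) (l := 0) rfl N28350 D62144
theorem N29375 : nd 29375 = n62145 := ndS (p := 28350) (l := 4) rfl N28350 D62145
theorem N29376 : nd 29376 = n62146 := ndS (p := 28351) (l := 3) rfl N28351 D62146
theorem N29377 : nd 29377 = n62147 := ndS (p := 28351) (l := 5) rfl N28351 D62147
theorem N29378 : nd 29378 = n62148 := ndS (p := 28353) (l := 4) rfl N28353 D62148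
theorem N29379 : nd 29379 = n62149 := ndS (p := 28354) (l := 3) rfl N28354 D62149
theorem N29380 : nd 29380 = n62150 := ndS (p := 28354) (l := 5) rfl N28354 D62150
theorem N29381 : nd 29381 = n62151 := ndS (p := 28355) (l := 5) rfl N28355 D62151
theorem N29382 : nd 29382 = n62152 := ndS (p := 28357) (l := 4) rfl N28357 D62152
theorem N29383 : nd 29383 = n62153 := ndS (p := 28359) (l := 5) rfl N28359 D62153
theorem N29384 : nd 29384 = n62154 := ndS (p := 28361) (l := 4) rfl N28361 D62154
theorem N29385 : nd 29385 = n62155 := ndS (p := 28363) (l := 3) rfl N28363 D62155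
theorem N29386 : nd 29386 = n62156 := ndS (p := 28364) (l := 8) rfl N28364 D62156
theorem N29387 : nd 29387 = n62157 := ndS (p := 28365) (l := 9) rfl N28365 D62157
theorem N29388 : nd 29388 = n62158 := ndS (p := 28367) (l := 4) rfl N28367 D62158
theorem N29389 : nd 29389 = n62159 := ndS (p := 28369) (l := 1) rfl N28369 D62159
theorem N29390 : nd 29390 = n62160 := ndS (p := 28369) (l := 4) rfl N28369 D62160
theorem N29391 : nd 29391 = n62161 := ndS (p := 28371) (l := 0) rfl N28371 D62161
theorem N29392 : nd 29392 = n62162 := ndS (p := 28371) (l := 4) rfl N28371 D62162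
theorem N29393 : nd 29393 = n62163 := ndS (p := 28372) (l := 3) rfl N28372 D62163
theorem N29394 : nd 29394 = n62164 := ndS (p := 28373) (l := 0) rfl N28373 D62164
theorem N29395 : nd 29395 = n62165 := ndS (p := 28373) (l := 4) rfl N28373 D62165
theorem N29396 : nd 29396 = n62166 := ndS (p := 28375) (l := 4) rfl N28375 D62166
theorem N29397 : nd 29397 = n62167 := ndS (p := 28377) (l := 4) rfl N28377 D62167
theorem N29398 : nd 29398 = n62168 := ndS (p := 28381) (l := 0) rfl N28381 D62168
theorem N29399 : nd 29399 = n62169 := ndS (p := 28383) (l := 0) rfl N28383 D62169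
theorem N29400 : nd 29400 = n62170 := ndS (p := 28383) (l := 4) rfl N28383 D62170
theorem N29401 : nd 29401 = n62171 := ndS (p := 28384) (l := 3) rfl N28384 D62171
theorem N29402 : nd 29402 = n62172 := ndS (p := 28384) (l := 5) rfl N28384 D62172
theorem N29403 : nd 29403 = n62173 := ndS (p := 28386) (l := 0) rfl N28386 D62173
theorem N29404 : nd 29404 = n62174 := ndS (p := 28386) (l := 4) rfl N28386 D62174
theorem N29405 : nd 29405 = n62175 := ndS (p := 28387) (l := 5) rfl N28387 D62175
theorem N29406 : nd 29406 = n62176 := ndS (p := 28389) (l := 4) rfl N28389 D62176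
theorem N29407 : nd 29407 = n62177 := ndS (p := 28390) (l := 5) rfl N28390 D62177
theorem N29408 : nd 29408 = n62178 := ndS (p := 28392) (l := 4) rfl N28392 D62178
theorem N29409 : nd 29409 = n62179 := ndS (p := 28393) (l := 5) rfl N28393 D62179
theorem N29410 : nd 29410 = n62180 := ndS (p := 28395) (l := 5) rfl N28395 D62180
theorem N29411 : nd 29411 = n62181 := ndS (p := 28397) (l := 0) rfl N28397 D62181
theorem N29412 : nd 29412 = n62182 := ndS (p := 28397) (l := 4) rfl N28397 D62182
theorem N29413 : nd 29413 = n62183 := ndS (p := 28398) (l := 3) rfl N28398 D62183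
theorem N29414 : nd 29414 = n62184 := ndS (p := 28398) (l := 5) rfl N28398 D62184
theorem N29415 : nd 29415 = n62185 := ndS (p := 28400) (l := 4) rfl N28400 D62185
theorem N29416 : nd 29416 = n62186 := ndS (p := 28401) (l := 3) rfl N28401 D62186
theorem N29417 : nd 29417 = n62187 := ndS (p := 28401) (l := 5) rfl N28401 D62187
theorem N29418 : nd 29418 = n62188 := ndS (p := 28402) (l := 5) rfl N28402 D62188
theorem N29419 : nd 29419 = n62189 := ndS (p := 28402) (l := 8) rfl N28402 D62189
theorem N29420 : nd 29420 = n62190 := ndS (p := 28404) (l := 4) rfl N28404 D62190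
theorem N29421 : nd 29421 = n62191 := ndS (p := 28405) (l := 3) rfl N28405 D62191
theorem N29422 : nd 29422 = n62192 := ndS (p := 28405) (l := 5) rfl N28405 D62192
theorem N29423 : nd 29423 = n62193 := ndS (p := 28406) (l := 5) rfl N28406 D62193
theorem N29424 : nd 29424 = n62194 := ndS (p := 28407) (l := 6) rfl N28407 D62194
theorem N29425 : nd 29425 = n62195 := ndS (p := 28409) (l := 3) rfl N28409 D62195
theorem N29426 : nd 29426 = n62196 := ndS (p := 28409) (l := 5) rfl N28409 D62196
theorem N29427 : nd 29427 = n62197 := ndS (p := 28410) (l := 5) rfl N28410 D62197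
theorem N29428 : nd 29428 = n62198 := ndS (p := 28411) (l := 6) rfl N28411 D62198
theorem N29429 : nd 29429 = n62199 := ndS (p := 28412) (l := 4) rfl N28412 D62199
theorem N29430 : nd 29430 = n62200 := ndS (p := 28412) (l := 6) rfl N28412 D62200
theorem N29431 : nd 29431 = n62201 := ndS (p := 28414) (l := 4) rfl N28414 D62201
theorem N29432 : nd 29432 = n62202 := ndS (p := 28416) (l := 3) rfl N28416 D62202
theorem N29433 : nd 29433 = n62203 := ndS (p := 28416) (l := 5) rfl N28416 D62203
theorem N29434 : nd 29434 = n62204 := ndS (p := 28417) (l := 8) rfl N28417 D62204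
theorem N29435 : nd 29435 = n62205 := ndS (p := 28419) (l := 9) rfl N28419 D62205
theorem N29436 : nd 29436 = n62206 := ndS (p := 28420) (l := 6) rfl N28420 D62206
theorem N29437 : nd 29437 = n62207 := ndS (p := 28424) (l := 8) rfl N28424 D62207
theorem N29438 : nd 29438 = n62208 := ndS (p := 28425) (l := 9) rfl N28425 D62208
theorem N29439 : nd 29439 = n62209 := ndS (p := 28428) (l := 4) rfl N28428 D62209
theorem N29440 : nd 29440 = n62210 := ndS (p := 28432) (l := 4) rfl N28432 D62210
theorem N29441 : nd 29441 = n62211 := ndS (p := 28436) (l := 0) rfl N28436 D62211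
theorem N29442 : nd 29442 = n62212 := ndS (p := 28436) (l := 4) rfl N28436 D62212
theorem N29443 : nd 29443 = n62213 := ndS (p := 28437) (l := 3) rfl N28437 D62213
theorem N29444 : nd 29444 = n62214 := ndS (p := 28439) (l := 4) rfl N28439 D62214
theorem N29445 : nd 29445 = n62215 := ndS (p := 28440) (l := 5) rfl N28440 D62215
theorem N29446 : nd 29446 = n62216 := ndS (p := 28442) (l := 4) rfl N28442 D62216
theorem N29447 : nd 29447 = n62217 := ndS (p := 28443) (l := 3) rfl N28443 D62217
theorem N29448 : nd 29448 = n62218 := ndS (p := 28445) (l := 0) rfl N28445 D62218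
theorem N29449 : nd 29449 = n62219 := ndS (p := 28445) (l := 4) rfl N28445 D62219
theorem N29450 : nd 29450 = n62220 := ndS (p := 28446) (l := 3) rfl N28446 D62220
theorem N29451 : nd 29451 = n62221 := ndS (p := 28448) (l := 4) rfl N28448 D62221
theorem N29452 : nd 29452 = n62222 := ndS (p := 28452) (l := 4) rfl N28452 D62222
theorem N29453 : nd 29453 = n62223 := ndS (p := 28453) (l := 3) rfl N28453 D62223
theorem N29454 : nd 29454 = n62224 := ndS (p := 28456) (l := 4) rfl N28456 D62224
theorem N29455 : nd 29455 = n62225 := ndS (p := 28459) (l := 8) rfl N28459 D62225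
theorem N29456 : nd 29456 = n62226 := ndS (p := 28460) (l := 9) rfl N28460 D62226
theorem N29457 : nd 29457 = n62227 := ndS (p := 28464) (l := 4) rfl N28464 D62227
theorem N29458 : nd 29458 = n62228 := ndS (p := 28466) (l := 4) rfl N28466 D62228
theorem N29459 : nd 29459 = n62229 := ndS (p := 28467) (l := 3) rfl N28467 D62229
theorem N29460 : nd 29460 = n62230 := ndS (p := 28470) (l := 0) rfl N28470 D62230
theorem N29461 : nd 29461 = n62231 := ndS (p := 28470) (l := 4) rfl N28470 D62231
theorem N29462 : nd 29462 = n62232 := ndS (p := 28471) (l := 3) rfl N28471 D62232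
theorem N29463 : nd 29463 = n62233 := ndS (p := 28473) (l := 0) rfl N28473 D62233
theorem N29464 : nd 29464 = n62234 := ndS (p := 28473) (l := 4) rfl N28473 D62234
theorem N29465 : nd 29465 = n62235 := ndS (p := 28474) (l := 3) rfl N28474 D62235
theorem N29466 : nd 29466 = n62236 := ndS (p := 28474) (l := 5) rfl N28474 D62236
theorem N29467 : nd 29467 = n62237 := ndS (p := 28475) (l := 6) rfl N28475 D62237
theorem N29468 : nd 29468 = n62238 := ndS (p := 28476) (l := 4) rfl N28476 D62238
theorem N29469 : nd 29469 = n62239 := ndS (p := 28477) (l := 5) rfl N28477 D62239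
theorem N29470 : nd 29470 = n62240 := ndS (p := 28478) (l := 6) rfl N28478 D62240
theorem N29471 : nd 29471 = n62241 := ndS (p := 28480) (l := 4) rfl N28480 D62241
theorem N29472 : nd 29472 = n62242 := ndS (p := 28481) (l := 3) rfl N28481 D62242
theorem N29473 : nd 29473 = n62243 := ndS (p := 28482) (l := 8) rfl N28482 D62243
theorem N29474 : nd 29474 = n62244 := ndS (p := 28483) (l := 0) rfl N28483 D62244
theorem N29475 : nd 29475 = n62245 := ndS (p := 28483) (l := 4) rfl N28483 D62245
theorem N29476 : nd 29476 = n62246 := ndS (p := 28484) (l := 3) rfl N28484 D62246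
theorem N29477 : nd 29477 = n62247 := ndS (p := 28486) (l := 0) rfl N28486 D62247
theorem N29478 : nd 29478 = n62248 := ndS (p := 28486) (l := 4) rfl N28486 D62248
theorem N29479 : nd 29479 = n62249 := ndS (p := 28487) (l := 3) rfl N28487 D62249
theorem N29480 : nd 29480 = n62250 := ndS (p := 28487) (l := 5) rfl N28487 D62250
theorem N29481 : nd 29481 = n62251 := ndS (p := 28489) (l := 4) rfl N28489 D62251
theorem N29482 : nd 29482 = n62252 := ndS (p := 28490) (l := 3) rfl N28490 D62252
theorem N29483 : nd 29483 = n62253 := ndS (p := 28491) (l := 8) rfl N28491 D62253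
theorem N29484 : nd 29484 = n62254 := ndS (p := 28492) (l := 3) rfl N28492 D62254
theorem N29485 : nd 29485 = n62255 := ndS (p := 28493) (l := 8) rfl N28493 D62255
theorem N29486 : nd 29486 = n62256 := ndS (p := 28495) (l := 8) rfl N28495 D62256
theorem N29487 : nd 29487 = n62257 := ndS (p := 28497) (l := 0) rfl N28497 D62257
theorem N29488 : nd 29488 = n62258 := ndS (p := 28497) (l := 4) rfl N28497 D62258
theorem N29489 : nd 29489 = n62259 := ndS (p := 28498) (l := 3) rfl N28498 D62259
theorem N29490 : nd 29490 = n62260 := ndS (p := 28500) (l := 4) rfl N28500 D62260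
theorem N29491 : nd 29491 = n62261 := ndS (p := 28501) (l := 3) rfl N28501 D62261
theorem N29492 : nd 29492 = n62262 := ndS (p := 28503) (l := 0) rfl N28503 D62262
theorem N29493 : nd 29493 = n62263 := ndS (p := 28503) (l := 4) rfl N28503 D62263
theorem N29494 : nd 29494 = n62264 := ndS (p := 28504) (l := 3) rfl N28504 D62264
theorem N29495 : nd 29495 = n62265 := ndS (p := 28506) (l := 0) rfl N28506 D62265
theorem N29496 : nd 29496 = n62266 := ndS (p := 28506) (l := 4) rfl N28506 D62266
theorem N29497 : nd 29497 = n62267 := ndS (p := 28507) (l := 3) rfl N28507 D62267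
theorem N29498 : nd 29498 = n62268 := ndS (p := 28508) (l := 4) rfl N28508 D62268
theorem N29499 : nd 29499 = n62269 := ndS (p := 28509) (l := 3) rfl N28509 D62269
theorem N29500 : nd 29500 = n62270 := ndS (p := 28511) (l := 4) rfl N28511 D62270
theorem N29501 : nd 29501 = n62271 := ndS (p := 28512) (l := 3) rfl N28512 D62271
theorem N29502 : nd 29502 = n62272 := ndS (p := 28512) (l := 5) rfl N28512 D62272
theorem N29503 : nd 29503 = n62273 := ndS (p := 28515) (l := 3) rfl N28515 D62273
theorem N29504 : nd 29504 = n62274 := ndS (p := 28517) (l := 0) rfl N28517 D62274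
theorem N29505 : nd 29505 = n62275 := ndS (p := 28519) (l := 0) rfl N28519 D62275
theorem N29506 : nd 29506 = n62276 := ndS (p := 28519) (l := 4) rfl N28519 D62276
theorem N29507 : nd 29507 = n62277 := ndS (p := 28520) (l := 3) rfl N28520 D62277
theorem N29508 : nd 29508 = n62278 := ndS (p := 28521) (l := 4) rfl N28521 D62278
theorem N29509 : nd 29509 = n62279 := ndS (p := 28522) (l := 3) rfl N28522 D62279
theorem N29510 : nd 29510 = n62280 := ndS (p := 28523) (l := 8) rfl N28523 D62280
theorem N29511 : nd 29511 = n62281 := ndS (p := 28525) (l := 3) rfl N28525 D62281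
theorem N29512 : nd 29512 = n62282 := ndS (p := 28526) (l := 8) rfl N28526 D62282
theorem N29513 : nd 29513 = n62283 := ndS (p := 28528) (l := 8) rfl N28528 D62283
theorem N29514 : nd 29514 = n62284 := ndS (p := 28529) (l := 9) rfl N28529 D62284
theorem N29515 : nd 29515 = n62285 := ndS (p := 28533) (l := 0) rfl N28533 D62285
theorem N29516 : nd 29516 = n62286 := ndS (p := 28534) (l := 0) rfl N28534 D62286
theorem N29517 : nd 29517 = n62287 := ndS (p := 28534) (l := 4) rfl N28534 D62287
theorem N29518 : nd 29518 = n62288 := ndS (p := 28535) (l := 3) rfl N28535 D62288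
theorem N29519 : nd 29519 = n62289 := ndS (p := 28537) (l := 0) rfl N28537 D62289
theorem N29520 : nd 29520 = n62290 := ndS (p := 28537) (l := 4) rfl N28537 D62290
theorem N29521 : nd 29521 = n62291 := ndS (p := 28538) (l := 3) rfl N28538 D62291
theorem N29522 : nd 29522 = n62292 := ndS (p := 28539) (l := 4) rfl N28539 D62292
theorem N29523 : nd 29523 = n62293 := ndS (p := 28540) (l := 3) rfl N28540 D62293
theorem N29524 : nd 29524 = n62294 := ndS (p := 28541) (l := 8) rfl N28541 D62294
theorem N29525 : nd 29525 = n62295 := ndS (p := 28542) (l := 0) rfl N28542 D62295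
theorem N29526 : nd 29526 = n62296 := ndS (p := 28542) (l := 4) rfl N28542 D62296
theorem N29527 : nd 29527 = n62297 := ndS (p := 28543) (l := 3) rfl N28543 D62297
theorem N29528 : nd 29528 = n62298 := ndS (p := 28543) (l := 5) rfl N28543 D62298
theorem N29529 : nd 29529 = n62299 := ndS (p := 28544) (l := 6) rfl N28544 D62299
theorem N29530 : nd 29530 = n62300 := ndS (p := 28545) (l := 5) rfl N28545 D62300
theorem N29531 : nd 29531 = n62301 := ndS (p := 28548) (l := 0) rfl N28548 D62301
theorem N29532 : nd 29532 = n62302 := ndS (p := 28549) (l := 0) rfl N28549 D62302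
theorem N29533 : nd 29533 = n62303 := ndS (p := 28549) (l := 4) rfl N28549 D62303
theorem N29534 : nd 29534 = n62304 := ndS (p := 28550) (l := 3) rfl N28550 D62304
theorem N29535 : nd 29535 = n62305 := ndS (p := 28550) (l := 5) rfl N28550 D62305
theorem N29536 : nd 29536 = n62306 := ndS (p := 28552) (l := 4) rfl N28552 D62306
theorem N29537 : nd 29537 = n62307 := ndS (p := 28553) (l := 3) rfl N28553 D62307
theorem N29538 : nd 29538 = n62308 := ndS (p := 28553) (l := 5) rfl N28553 D62308
theorem N29539 : nd 29539 = n62309 := ndS (p := 28554) (l := 5) rfl N28554 D62309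
theorem N29540 : nd 29540 = n62310 := ndS (p := 28554) (l := 8) rfl N28554 D62310
theorem N29541 : nd 29541 = n62311 := ndS (p := 28557) (l := 4) rfl N28557 D62311
theorem N29542 : nd 29542 = n62312 := ndS (p := 28558) (l := 0) rfl N28558 D62312
theorem N29543 : nd 29543 = n62313 := ndS (p := 28558) (l := 4) rfl N28558 D62313
theorem N29544 : nd 29544 = n62314 := ndS (p := 28560) (l := 0) rfl N28560 D62314
theorem N29545 : nd 29545 = n62315 := ndS (p := 28562) (l := 0) rfl N28562 D62315
theorem N29546 : nd 29546 = n62316 := ndS (p := 28562) (l := 4) rfl N28562 D62316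
theorem N29547 : nd 29547 = n62317 := ndS (p := 28563) (l := 3) rfl N28563 D62317
theorem N29548 : nd 29548 = n62318 := ndS (p := 28563) (l := 5) rfl N28563 D62318
theorem N29549 : nd 29549 = n62319 := ndS (p := 28564) (l := 6) rfl N28564 D62319
theorem N29550 : nd 29550 = n62320 := ndS (p := 28565) (l := 4) rfl N28565 D62320
theorem N29551 : nd 29551 = n62321 := ndS (p := 28566) (l := 3) rfl N28566 D62321
theorem N29552 : nd 29552 = n62322 := ndS (p := 28566) (l := 5) rfl N28566 D62322
theorem N29553 : nd 29553 = n62323 := ndS (p := 28567) (l := 5) rfl N28567 D62323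
theorem N29554 : nd 29554 = n62324 := ndS (p := 28567) (l := 8) rfl N28567 D62324
theorem N29555 : nd 29555 = n62325 := ndS (p := 28568) (l := 6) rfl N28568 D62325
theorem N29556 : nd 29556 = n62326 := ndS (p := 28570) (l := 5) rfl N28570 D62326
theorem N29557 : nd 29557 = n62327 := ndS (p := 28571) (l := 6) rfl N28571 D62327
theorem N29558 : nd 29558 = n62328 := ndS (p := 28573) (l := 4) rfl N28573 D62328
theorem N29559 : nd 29559 = n62329 := ndS (p := 28574) (l := 3) rfl N28574 D62329
theorem N29560 : nd 29560 = n62330 := ndS (p := 28575) (l := 8) rfl N28575 D62330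
theorem N29561 : nd 29561 = n62331 := ndS (p := 28576) (l := 3) rfl N28576 D62331
theorem N29562 : nd 29562 = n62332 := ndS (p := 28577) (l := 2) rfl N28577 D62332
theorem N29563 : nd 29563 = n62333 := ndS (p := 28577) (l := 8) rfl N28577 D62333
theorem N29564 : nd 29564 = n62334 := ndS (p := 28578) (l := 9) rfl N28578 D62334
theorem N29565 : nd 29565 = n62335 := ndS (p := 28580) (l := 0) rfl N28580 D62335
theorem N29566 : nd 29566 = n62336 := ndS (p := 28580) (l := 4) rfl N28580 D62336
theorem N29567 : nd 29567 = n62337 := ndS (p := 28581) (l := 3) rfl N28581 D62337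
theorem N29568 : nd 29568 = n62338 := ndS (p := 28582) (l := 4) rfl N28582 D62338
theorem N29569 : nd 29569 = n62339 := ndS (p := 28583) (l := 3) rfl N28583 D62339
theorem N29570 : nd 29570 = n62340 := ndS (p := 28584) (l := 8) rfl N28584 D62340
theorem N29571 : nd 29571 = n62341 := ndS (p := 28586) (l := 0) rfl N28586 D62341
theorem N29572 : nd 29572 = n62342 := ndS (p := 28588) (l := 0) rfl N28588 D62342
theorem N29573 : nd 29573 = n62343 := ndS (p := 28588) (l := 4) rfl N28588 D62343
theorem N29574 : nd 29574 = n62344 := ndS (p := 28589) (l := 3) rfl N28589 D62344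
theorem N29575 : nd 29575 = n62345 := ndS (p := 28590) (l := 4) rfl N28590 D62345
theorem N29576 : nd 29576 = n62346 := ndS (p := 28591) (l := 3) rfl N28591 D62346
theorem N29577 : nd 29577 = n62347 := ndS (p := 28591) (l := 5) rfl N28591 D62347
theorem N29578 : nd 29578 = n62348 := ndS (p := 28592) (l := 8) rfl N28592 D62348
theorem N29579 : nd 29579 = n62349 := ndS (p := 28594) (l := 3) rfl N28594 D62349
theorem N29580 : nd 29580 = n62350 := ndS (p := 28595) (l := 2) rfl N28595 D62350
theorem N29581 : nd 29581 = n62351 := ndS (p := 28595) (l := 8) rfl N28595 D62351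
theorem N29582 : nd 29582 = n62352 := ndS (p := 28596) (l := 9) rfl N28596 D62352
theorem N29583 : nd 29583 = n62353 := ndS (p := 28598) (l := 0) rfl N28598 D62353
theorem N29584 : nd 29584 = n62354 := ndS (p := 28603) (l := 4) rfl N28603 D62354
theorem N29585 : nd 29585 = n62355 := ndS (p := 28604) (l := 3) rfl N28604 D62355
theorem N29586 : nd 29586 = n62356 := ndS (p := 28605) (l := 8) rfl N28605 D62356
theorem N29587 : nd 29587 = n62357 := ndS (p := 28606) (l := 3) rfl N28606 D62357
theorem N29588 : nd 29588 = n62358 := ndS (p := 28607) (l := 8) rfl N28607 D62358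
theorem N29589 : nd 29589 = n62359 := ndS (p := 28608) (l := 9) rfl N28608 D62359
theorem N29590 : nd 29590 = n62360 := ndS (p := 28609) (l := 2) rfl N28609 D62360
theorem N29591 : nd 29591 = n62361 := ndS (p := 28609) (l := 8) rfl N28609 D62361
theorem N29592 : nd 29592 = n62362 := ndS (p := 28610) (l := 8) rfl N28610 D62362
theorem N29593 : nd 29593 = n62363 := ndS (p := 28611) (l := 9) rfl N28611 D62363
theorem N29594 : nd 29594 = n62364 := ndS (p := 28614) (l := 2) rfl N28614 D62364
theorem N29595 : nd 29595 = n62365 := ndS (p := 28615) (l := 9) rfl N28615 D62365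
theorem N29596 : nd 29596 = n62366 := ndS (p := 28620) (l := 3) rfl N28620 D62366
theorem N29597 : nd 29597 = n62367 := ndS (p := 28620) (l := 9) rfl N28620 D62367
theorem N29598 : nd 29598 = n62368 := ndS (p := 28624) (l := 0) rfl N28624 D62368
theorem N29599 : nd 29599 = n62369 := ndS (p := 28624) (l := 4) rfl N28624 D62369
theorem N29600 : nd 29600 = n62370 := ndS (p := 28625) (l := 3) rfl N28625 D62370
theorem N29601 : nd 29601 = n62371 := ndS (p := 28626) (l := 4) rfl N28626 D62371
theorem N29602 : nd 29602 = n62372 := ndS (p := 28627) (l := 3) rfl N28627 D62372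
theorem N29603 : nd 29603 = n62373 := ndS (p := 28627) (l := 5) rfl N28627 D62373
theorem N29604 : nd 29604 = n62374 := ndS (p := 28630) (l := 5) rfl N28630 D62374
theorem N29605 : nd 29605 = n62375 := ndS (p := 28632) (l := 4) rfl N28632 D62375
theorem N29606 : nd 29606 = n62376 := ndS (p := 28633) (l := 3) rfl N28633 D62376
theorem N29607 : nd 29607 = n62377 := ndS (p := 28635) (l := 3) rfl N28635 D62377
theorem N29608 : nd 29608 = n62378 := ndS (p := 28636) (l := 2) rfl N28636 D62378
theorem N29609 : nd 29609 = n62379 := ndS (p := 28636) (l := 8) rfl N28636 D62379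
theorem N29610 : nd 29610 = n62380 := ndS (p := 28639) (l := 4) rfl N28639 D62380
theorem N29611 : nd 29611 = n62381 := ndS (p := 28641) (l := 0) rfl N28641 D62381
theorem N29612 : nd 29612 = n62382 := ndS (p := 28641) (l := 4) rfl N28641 D62382
theorem N29613 : nd 29613 = n62383 := ndS (p := 28642) (l := 3) rfl N28642 D62383
theorem N29614 : nd 29614 = n62384 := ndS (p := 28643) (l := 0) rfl N28643 D62384
theorem N29615 : nd 29615 = n62385 := ndS (p := 28644) (l := 4) rfl N28644 D62385
theorem N29616 : nd 29616 = n62386 := ndS (p := 28645) (l := 3) rfl N28645 D62386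
theorem N29617 : nd 29617 = n62387 := ndS (p := 28646) (l := 8) rfl N28646 D62387
theorem N29618 : nd 29618 = n62388 := ndS (p := 28648) (l := 0) rfl N28648 D62388
theorem N29619 : nd 29619 = n62389 := ndS (p := 28648) (l := 4) rfl N28648 D62389
theorem N29620 : nd 29620 = n62390 := ndS (p := 28649) (l := 5) rfl N28649 D62390
theorem N29621 : nd 29621 = n62391 := ndS (p := 28651) (l := 4) rfl N28651 D62391
theorem N29622 : nd 29622 = n62392 := ndS (p := 28652) (l := 3) rfl N28652 D62392
theorem N29623 : nd 29623 = n62393 := ndS (p := 28652) (l := 5) rfl N28652 D62393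
theorem N29624 : nd 29624 = n62394 := ndS (p := 28653) (l := 5) rfl N28653 D62394
theorem N29625 : nd 29625 = n62395 := ndS (p := 28653) (l := 8) rfl N28653 D62395
theorem N29626 : nd 29626 = n62396 := ndS (p := 28655) (l := 3) rfl N28655 D62396
theorem N29627 : nd 29627 = n62397 := ndS (p := 28656) (l := 8) rfl N28656 D62397
theorem N29628 : nd 29628 = n62398 := ndS (p := 28657) (l := 9) rfl N28657 D62398
theorem N29629 : nd 29629 = n62399 := ndS (p := 28658) (l := 4) rfl N28658 D62399
theorem N29630 : nd 29630 = n62400 := ndS (p := 28659) (l := 3) rfl N28659 D62400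
theorem N29631 : nd 29631 = n62401 := ndS (p := 28661) (l := 3) rfl N28661 D62401
theorem N29632 : nd 29632 = n62402 := ndS (p := 28661) (l := 5) rfl N28661 D62402
theorem N29633 : nd 29633 = n62403 := ndS (p := 28662) (l := 2) rfl N28662 D62403
theorem N29634 : nd 29634 = n62404 := ndS (p := 28662) (l := 8) rfl N28662 D62404
theorem N29635 : nd 29635 = n62405 := ndS (p := 28664) (l := 9) rfl N28664 D62405
theorem N29636 : nd 29636 = n62406 := ndS (p := 28665) (l := 2) rfl N28665 D62406
theorem N29637 : nd 29637 = n62407 := ndS (p := 28665) (l := 8) rfl N28665 D62407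
theorem N29638 : nd 29638 = n62408 := ndS (p := 28666) (l := 8) rfl N28666 D62408
theorem N29639 : nd 29639 = n62409 := ndS (p := 28667) (l := 9) rfl N28667 D62409
theorem N29640 : nd 29640 = n62410 := ndS (p := 28669) (l := 0) rfl N28669 D62410
theorem N29641 : nd 29641 = n62411 := ndS (p := 28670) (l := 4) rfl N28670 D62411
theorem N29642 : nd 29642 = n62412 := ndS (p := 28671) (l := 3) rfl N28671 D62412
theorem N29643 : nd 29643 = n62413 := ndS (p := 28675) (l := 0) rfl N28675 D62413
theorem N29644 : nd 29644 = n62414 := ndS (p := 28675) (l := 4) rfl N28675 D62414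
theorem N29645 : nd 29645 = n62415 := ndS (p := 28676) (l := 3) rfl N28676 D62415
theorem N29646 : nd 29646 = n62416 := ndS (p := 28676) (l := 5) rfl N28676 D62416
theorem N29647 : nd 29647 = n62417 := ndS (p := 28678) (l := 0) rfl N28678 D62417
theorem N29648 : nd 29648 = n62418 := ndS (p := 28678) (l := 4) rfl N28678 D62418
theorem N29649 : nd 29649 = n62419 := ndS (p := 28679) (l := 3) rfl N28679 D62419
theorem N29650 : nd 29650 = n62420 := ndS (p := 28679) (l := 5) rfl N28679 D62420
theorem N29651 : nd 29651 = n62421 := ndS (p := 28681) (l := 4) rfl N28681 D62421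
theorem N29652 : nd 29652 = n62422 := ndS (p := 28682) (l := 3) rfl N28682 D62422
theorem N29653 : nd 29653 = n62423 := ndS (p := 28682) (l := 5) rfl N28682 D62423
theorem N29654 : nd 29654 = n62424 := ndS (p := 28683) (l := 5) rfl N28683 D62424
theorem N29655 : nd 29655 = n62425 := ndS (p := 28685) (l := 4) rfl N28685 D62425
theorem N29656 : nd 29656 = n62426 := ndS (p := 28686) (l := 3) rfl N28686 D62426
theorem N29657 : nd 29657 = n62427 := ndS (p := 28687) (l := 8) rfl N28687 D62427
theorem N29658 : nd 29658 = n62428 := ndS (p := 28688) (l := 3) rfl N28688 D62428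
theorem N29659 : nd 29659 = n62429 := ndS (p := 28688) (l := 5) rfl N28688 D62429
theorem N29660 : nd 29660 = n62430 := ndS (p := 28689) (l := 2) rfl N28689 D62430
theorem N29661 : nd 29661 = n62431 := ndS (p := 28689) (l := 5) rfl N28689 D62431
theorem N29662 : nd 29662 = n62432 := ndS (p := 28689) (l := 8) rfl N28689 D62432
theorem N29663 : nd 29663 = n62433 := ndS (p := 28691) (l := 4) rfl N28691 D62433
theorem N29664 : nd 29664 = n62434 := ndS (p := 28692) (l := 9) rfl N28692 D62434
theorem N29665 : nd 29665 = n62435 := ndS (p := 28693) (l := 3) rfl N28693 D62435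
theorem N29666 : nd 29666 = n62436 := ndS (p := 28695) (l := 5) rfl N28695 D62436
theorem N29667 : nd 29667 = n62437 := ndS (p := 28697) (l := 4) rfl N28697 D62437
theorem N29668 : nd 29668 = n62438 := ndS (p := 28699) (l := 4) rfl N28699 D62438
theorem N29669 : nd 29669 = n62439 := ndS (p := 28700) (l := 5) rfl N28700 D62439
theorem N29670 : nd 29670 = n62440 := ndS (p := 28702) (l := 5) rfl N28702 D62440
theorem N29671 : nd 29671 = n62441 := ndS (p := 28704) (l := 8) rfl N28704 D62441
theorem N29672 : nd 29672 = n62442 := ndS (p := 28706) (l := 9) rfl N28706 D62442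
theorem N29673 : nd 29673 = n62443 := ndS (p := 28708) (l := 3) rfl N28708 D62443
theorem N29674 : nd 29674 = n62444 := ndS (p := 28710) (l := 8) rfl N28710 D62444
theorem N29675 : nd 29675 = n62445 := ndS (p := 28711) (l := 9) rfl N28711 D62445
theorem N29676 : nd 29676 = n62446 := ndS (p := 28713) (l := 1) rfl N28713 D62446
theorem N29677 : nd 29677 = n62447 := ndS (p := 28713) (l := 8) rfl N28713 D62447
theorem N29678 : nd 29678 = n62448 := ndS (p := 28714) (l := 9) rfl N28714 D62448
theorem N29679 : nd 29679 = n62449 := ndS (p := 28715) (l := 3) rfl N28715 D62449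
theorem N29680 : nd 29680 = n62450 := ndS (p := 28717) (l := 8) rfl N28717 D62450
theorem N29681 : nd 29681 = n62451 := ndS (p := 28718) (l := 9) rfl N28718 D62451
theorem N29682 : nd 29682 = n62452 := ndS (p := 28720) (l := 2) rfl N28720 D62452
theorem N29683 : nd 29683 = n62453 := ndS (p := 28723) (l := 1) rfl N28723 D62453
theorem N29684 : nd 29684 = n62454 := ndS (p := 28723) (l := 8) rfl N28723 D62454
theorem N29685 : nd 29685 = n62455 := ndS (p := 28726) (l := 8) rfl N28726 D62455
theorem N29686 : nd 29686 = n62456 := ndS (p := 28727) (l := 3) rfl N28727 D62456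
theorem N29687 : nd 29687 = n62457 := ndS (p := 28728) (l := 4) rfl N28728 D62457
theorem N29688 : nd 29688 = n62458 := ndS (p := 28731) (l := 4) rfl N28731 D62458
theorem N29689 : nd 29689 = n62459 := ndS (p := 28733) (l := 4) rfl N28733 D62459
theorem N29690 : nd 29690 = n62460 := ndS (p := 28734) (l := 3) rfl N28734 D62460
theorem N29691 : nd 29691 = n62461 := ndS (p := 28736) (l := 4) rfl N28736 D62461
theorem N29692 : nd 29692 = n62462 := ndS (p := 28739) (l := 4) rfl N28739 D62462
theorem N29693 : nd 29693 = n62463 := ndS (p := 28743) (l := 4) rfl N28743 D62463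
theorem N29694 : nd 29694 = n62464 := ndS (p := 28744) (l := 3) rfl N28744 D62464
theorem N29695 : nd 29695 = n62465 := ndS (p := 28747) (l := 0) rfl N28747 D62465
theorem N29696 : nd 29696 = n62466 := ndS (p := 28747) (l := 4) rfl N28747 D62466
theorem N29697 : nd 29697 = n62467 := ndS (p := 28749) (l := 4) rfl N28749 D62467
theorem N29698 : nd 29698 = n62468 := ndS (p := 28750) (l := 5) rfl N28750 D62468
theorem N29699 : nd 29699 = n62469 := ndS (p := 28752) (l := 4) rfl N28752 D62469
theorem N29700 : nd 29700 = n62470 := ndS (p := 28753) (l := 3) rfl N28753 D62470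
theorem N29701 : nd 29701 = n62471 := ndS (p := 28754) (l := 8) rfl N28754 D62471
theorem N29702 : nd 29702 = n62472 := ndS (p := 28755) (l := 4) rfl N28755 D62472
theorem N29703 : nd 29703 = n62473 := ndS (p := 28756) (l := 5) rfl N28756 D62473
theorem N29704 : nd 29704 = n62474 := ndS (p := 28758) (l := 0) rfl N28758 D62474
theorem N29705 : nd 29705 = n62475 := ndS (p := 28758) (l := 4) rfl N28758 D62475
theorem N29706 : nd 29706 = n62476 := ndS (p := 28759) (l := 3) rfl N28759 D62476
theorem N29707 : nd 29707 = n62477 := ndS (p := 28760) (l := 4) rfl N28760 D62477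
theorem N29708 : nd 29708 = n62478 := ndS (p := 28761) (l := 5) rfl N28761 D62478
theorem N29709 : nd 29709 = n62479 := ndS (p := 28762) (l := 6) rfl N28762 D62479
theorem N29710 : nd 29710 = n62480 := ndS (p := 28764) (l := 4) rfl N28764 D62480
theorem N29711 : nd 29711 = n62481 := ndS (p := 28766) (l := 5) rfl N28766 D62481
theorem N29712 : nd 29712 = n62482 := ndS (p := 28767) (l := 6) rfl N28767 D62482
theorem N29713 : nd 29713 = n62483 := ndS (p := 28769) (l := 4) rfl N28769 D62483
theorem N29714 : nd 29714 = n62484 := ndS (p := 28770) (l := 3) rfl N28770 D62484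
theorem N29715 : nd 29715 = n62485 := ndS (p := 28770) (l := 5) rfl N28770 D62485
theorem N29716 : nd 29716 = n62486 := ndS (p := 28773) (l := 5) rfl N28773 D62486
theorem N29717 : nd 29717 = n62487 := ndS (p := 28775) (l := 4) rfl N28775 D62487
theorem N29718 : nd 29718 = n62488 := ndS (p := 28776) (l := 3) rfl N28776 D62488
theorem N29719 : nd 29719 = n62489 := ndS (p := 28778) (l := 5) rfl N28778 D62489
theorem N29720 : nd 29720 = n62490 := ndS (p := 28782) (l := 4) rfl N28782 D62490
theorem N29721 : nd 29721 = n62491 := ndS (p := 28783) (l := 3) rfl N28783 D62491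
theorem N29722 : nd 29722 = n62492 := ndS (p := 28785) (l := 4) rfl N28785 D62492
theorem N29723 : nd 29723 = n62493 := ndS (p := 28786) (l := 3) rfl N28786 D62493
theorem N29724 : nd 29724 = n62494 := ndS (p := 28789) (l := 0) rfl N28789 D62494
theorem N29725 : nd 29725 = n62495 := ndS (p := 28789) (l := 4) rfl N28789 D62495
theorem N29726 : nd 29726 = n62496 := ndS (p := 28790) (l := 3) rfl N28790 D62496
theorem N29727 : nd 29727 = n62497 := ndS (p := 28790) (l := 5) rfl N28790 D62497
theorem N29728 : nd 29728 = n62498 := ndS (p := 28792) (l := 4) rfl N28792 D62498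
theorem N29729 : nd 29729 = n62499 := ndS (p := 28793) (l := 5) rfl N28793 D62499
theorem N29730 : nd 29730 = n62500 := ndS (p := 28795) (l := 0) rfl N28795 D62500
theorem N29731 : nd 29731 = n62501 := ndS (p := 28795) (l := 4) rfl N28795 D62501
theorem N29732 : nd 29732 = n62502 := ndS (p := 28796) (l := 3) rfl N28796 D62502
theorem N29733 : nd 29733 = n62503 := ndS (p := 28797) (l := 4) rfl N28797 D62503
theorem N29734 : nd 29734 = n62504 := ndS (p := 28799) (l := 0) rfl N28799 D62504
theorem N29735 : nd 29735 = n62505 := ndS (p := 28799) (l := 4) rfl N28799 D62505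
theorem N29736 : nd 29736 = n62506 := ndS (p := 28800) (l := 3) rfl N28800 D62506
theorem N29737 : nd 29737 = n62507 := ndS (p := 28801) (l := 4) rfl N28801 D62507
theorem N29738 : nd 29738 = n62508 := ndS (p := 28802) (l := 3) rfl N28802 D62508
theorem N29739 : nd 29739 = n62509 := ndS (p := 28805) (l := 4) rfl N28805 D62509
theorem N29740 : nd 29740 = n62510 := ndS (p := 28806) (l := 3) rfl N28806 D62510
theorem N29741 : nd 29741 = n62511 := ndS (p := 28811) (l := 4) rfl N28811 D62511
theorem N29742 : nd 29742 = n62512 := ndS (p := 28812) (l := 3) rfl N28812 D62512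
theorem N29743 : nd 29743 = n62513 := ndS (p := 28814) (l := 3) rfl N28814 D62513
theorem N29744 : nd 29744 = n62514 := ndS (p := 28815) (l := 2) rfl N28815 D62514
theorem N29745 : nd 29745 = n62515 := ndS (p := 28816) (l := 4) rfl N28816 D62515
theorem N29746 : nd 29746 = n62516 := ndS (p := 28817) (l := 3) rfl N28817 D62516
theorem N29747 : nd 29747 = n62517 := ndS (p := 28817) (l := 5) rfl N28817 D62517
theorem N29748 : nd 29748 = n62518 := ndS (p := 28820) (l := 5) rfl N28820 D62518
theorem N29749 : nd 29749 = n62519 := ndS (p := 28822) (l := 3) rfl N28822 D62519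
theorem N29750 : nd 29750 = n62520 := ndS (p := 28823) (l := 2) rfl N28823 D62520
theorem N29751 : nd 29751 = n62521 := ndS (p := 28823) (l := 8) rfl N28823 D62521
theorem N29752 : nd 29752 = n62522 := ndS (p := 28824) (l := 9) rfl N28824 D62522
theorem N29753 : nd 29753 = n62523 := ndS (p := 28825) (l := 4) rfl N28825 D62523
theorem N29754 : nd 29754 = n62524 := ndS (p := 28828) (l := 0) rfl N28828 D62524
theorem N29755 : nd 29755 = n62525 := ndS (p := 28828) (l := 4) rfl N28828 D62525
theorem N29756 : nd 29756 = n62526 := ndS (p := 28829) (l := 3) rfl N28829 D62526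
theorem N29757 : nd 29757 = n62527 := ndS (p := 28830) (l := 4) rfl N28830 D62527
theorem N29758 : nd 29758 = n62528 := ndS (p := 28831) (l := 3) rfl N28831 D62528
theorem N29759 : nd 29759 = n62529 := ndS (p := 28833) (l := 4) rfl N28833 D62529
theorem N29760 : nd 29760 = n62530 := ndS (p := 28834) (l := 5) rfl N28834 D62530
theorem N29761 : nd 29761 = n62531 := ndS (p := 28835) (l := 6) rfl N28835 D62531
theorem N29762 : nd 29762 = n62532 := ndS (p := 28837) (l := 5) rfl N28837 D62532
theorem N29763 : nd 29763 = n62533 := ndS (p := 28838) (l := 6) rfl N28838 D62533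
theorem N29764 : nd 29764 = n62534 := ndS (p := 28841) (l := 6) rfl N28841 D62534
theorem N29765 : nd 29765 = n62535 := ndS (p := 28843) (l := 4) rfl N28843 D62535
theorem N29766 : nd 29766 = n62536 := ndS (p := 28845) (l := 4) rfl N28845 D62536
theorem N29767 : nd 29767 = n62537 := ndS (p := 28846) (l := 3) rfl N28846 D62537
theorem N29768 : nd 29768 = n62538 := ndS (p := 28848) (l := 4) rfl N28848 D62538
theorem N29769 : nd 29769 = n62539 := ndS (p := 28853) (l := 4) rfl N28853 D62539
theorem N29770 : nd 29770 = n62540 := ndS (p := 28854) (l := 3) rfl N28854 D62540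
theorem N29771 : nd 29771 = n62541 := ndS (p := 28856) (l := 4) rfl N28856 D62541
theorem N29772 : nd 29772 = n62542 := ndS (p := 28857) (l := 3) rfl N28857 D62542
theorem N29773 : nd 29773 = n62543 := ndS (p := 28859) (l := 3) rfl N28859 D62543
theorem N29774 : nd 29774 = n62544 := ndS (p := 28860) (l := 2) rfl N28860 D62544
theorem N29775 : nd 29775 = n62545 := ndS (p := 28861) (l := 5) rfl N28861 D62545
theorem N29776 : nd 29776 = n62546 := ndS (p := 28864) (l := 4) rfl N28864 D62546
theorem N29777 : nd 29777 = n62547 := ndS (p := 28867) (l := 5) rfl N28867 D62547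
theorem N29778 : nd 29778 = n62548 := ndS (p := 28869) (l := 0) rfl N28869 D62548
theorem N29779 : nd 29779 = n62549 := ndS (p := 28869) (l := 4) rfl N28869 D62549
theorem N29780 : nd 29780 = n62550 := ndS (p := 28870) (l := 3) rfl N28870 D62550
theorem N29781 : nd 29781 = n62551 := ndS (p := 28870) (l := 5) rfl N28870 D62551
theorem N29782 : nd 29782 = n62552 := ndS (p := 28872) (l := 4) rfl N28872 D62552
theorem N29783 : nd 29783 = n62553 := ndS (p := 28873) (l := 3) rfl N28873 D62553
theorem N29784 : nd 29784 = n62554 := ndS (p := 28873) (l := 5) rfl N28873 D62554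
theorem N29785 : nd 29785 = n62555 := ndS (p := 28876) (l := 5) rfl N28876 D62555
theorem N29786 : nd 29786 = n62556 := ndS (p := 28878) (l := 0) rfl N28878 D62556
theorem N29787 : nd 29787 = n62557 := ndS (p := 28878) (l := 4) rfl N28878 D62557
theorem N29788 : nd 29788 = n62558 := ndS (p := 28879) (l := 3) rfl N28879 D62558
theorem N29789 : nd 29789 = n62559 := ndS (p := 28879) (l := 5) rfl N28879 D62559
theorem N29790 : nd 29790 = n62560 := ndS (p := 28881) (l := 4) rfl N28881 D62560
theorem N29791 : nd 29791 = n62561 := ndS (p := 28882) (l := 3) rfl N28882 D62561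
theorem N29792 : nd 29792 = n62562 := ndS (p := 28882) (l := 5) rfl N28882 D62562
theorem N29793 : nd 29793 = n62563 := ndS (p := 28885) (l := 4) rfl N28885 D62563
theorem N29794 : nd 29794 = n62564 := ndS (p := 28886) (l := 5) rfl N28886 D62564
theorem N29795 : nd 29795 = n62565 := ndS (p := 28888) (l := 5) rfl N28888 D62565
theorem N29796 : nd 29796 = n62566 := ndS (p := 28890) (l := 5) rfl N28890 D62566
theorem N29797 : nd 29797 = n62567 := ndS (p := 28892) (l := 6) rfl N28892 D62567
theorem N29798 : nd 29798 = n62568 := ndS (p := 28894) (l := 4) rfl N28894 D62568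
theorem N29799 : nd 29799 = n62569 := ndS (p := 28895) (l := 3) rfl N28895 D62569
theorem N29800 : nd 29800 = n62570 := ndS (p := 28900) (l := 4) rfl N28900 D62570
theorem N29801 : nd 29801 = n62571 := ndS (p := 28901) (l := 3) rfl N28901 D62571
theorem N29802 : nd 29802 = n62572 := ndS (p := 28903) (l := 3) rfl N28903 D62572
theorem N29803 : nd 29803 = n62573 := ndS (p := 28904) (l := 2) rfl N28904 D62573
theorem N29804 : nd 29804 = n62574 := ndS (p := 28914) (l := 4) rfl N28914 D62574
theorem N29805 : nd 29805 = n62575 := ndS (p := 28916) (l := 4) rfl N28916 D62575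
theorem N29806 : nd 29806 = n62576 := ndS (p := 28917) (l := 3) rfl N28917 D62576
theorem N29807 : nd 29807 = n62577 := ndS (p := 28919) (l := 4) rfl N28919 D62577
theorem N29808 : nd 29808 = n62578 := ndS (p := 28920) (l := 3) rfl N28920 D62578
theorem N29809 : nd 29809 = n62579 := ndS (p := 28922) (l := 3) rfl N28922 D62579
theorem N29810 : nd 29810 = n62580 := ndS (p := 28923) (l := 2) rfl N28923 D62580
theorem N29811 : nd 29811 = n62581 := ndS (p := 28924) (l := 4) rfl N28924 D62581
theorem N29812 : nd 29812 = n62582 := ndS (p := 28926) (l := 4) rfl N28926 D62582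
theorem N29813 : nd 29813 = n62583 := ndS (p := 28927) (l := 3) rfl N28927 D62583
theorem N29814 : nd 29814 = n62584 := ndS (p := 28930) (l := 4) rfl N28930 D62584
theorem N29815 : nd 29815 = n62585 := ndS (p := 28931) (l := 3) rfl N28931 D62585
theorem N29816 : nd 29816 = n62586 := ndS (p := 28934) (l := 3) rfl N28934 D62586
theorem N29817 : nd 29817 = n62587 := ndS (p := 28935) (l := 2) rfl N28935 D62587
theorem N29818 : nd 29818 = n62588 := ndS (p := 28937) (l := 3) rfl N28937 D62588
theorem N29819 : nd 29819 = n62589 := ndS (p := 28938) (l := 2) rfl N28938 D62589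
theorem N29820 : nd 29820 = n62590 := ndS (p := 28939) (l := 4) rfl N28939 D62590
theorem N29821 : nd 29821 = n62591 := ndS (p := 28941) (l := 4) rfl N28941 D62591
theorem N29822 : nd 29822 = n62592 := ndS (p := 28943) (l := 3) rfl N28943 D62592
theorem N29823 : nd 29823 = n62593 := ndS (p := 28945) (l := 4) rfl N28945 D62593
theorem N29824 : nd 29824 = n62594 := ndS (p := 28948) (l := 4) rfl N28948 D62594
theorem N29825 : nd 29825 = n62595 := ndS (p := 28949) (l := 3) rfl N28949 D62595
theorem N29826 : nd 29826 = n62596 := ndS (p := 28951) (l := 3) rfl N28951 D62596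
theorem N29827 : nd 29827 = n62597 := ndS (p := 28952) (l := 2) rfl N28952 D62597
theorem N29828 : nd 29828 = n62598 := ndS (p := 28953) (l := 4) rfl N28953 D62598
theorem N29829 : nd 29829 = n62599 := ndS (p := 28955) (l := 4) rfl N28955 D62599
theorem N29830 : nd 29830 = n62600 := ndS (p := 28956) (l := 3) rfl N28956 D62600
theorem N29831 : nd 29831 = n62601 := ndS (p := 28957) (l := 8) rfl N28957 D62601
theorem N29832 : nd 29832 = n62602 := ndS (p := 28958) (l := 3) rfl N28958 D62602
theorem N29833 : nd 29833 = n62603 := ndS (p := 28959) (l := 8) rfl N28959 D62603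
theorem N29834 : nd 29834 = n62604 := ndS (p := 28960) (l := 9) rfl N28960 D62604
theorem N29835 : nd 29835 = n62605 := ndS (p := 28961) (l := 0) rfl N28961 D62605
theorem N29836 : nd 29836 = n62606 := ndS (p := 28961) (l := 4) rfl N28961 D62606
theorem N29837 : nd 29837 = n62607 := ndS (p := 28962) (l := 3) rfl N28962 D62607
theorem N29838 : nd 29838 = n62608 := ndS (p := 28964) (l := 4) rfl N28964 D62608
theorem N29839 : nd 29839 = n62609 := ndS (p := 28965) (l := 3) rfl N28965 D62609
theorem N29840 : nd 29840 = n62610 := ndS (p := 28967) (l := 4) rfl N28967 D62610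
theorem N29841 : nd 29841 = n62611 := ndS (p := 28968) (l := 3) rfl N28968 D62611
theorem N29842 : nd 29842 = n62612 := ndS (p := 28970) (l := 3) rfl N28970 D62612
theorem N29843 : nd 29843 = n62613 := ndS (p := 28971) (l := 2) rfl N28971 D62613
theorem N29844 : nd 29844 = n62614 := ndS (p := 28972) (l := 4) rfl N28972 D62614
theorem N29845 : nd 29845 = n62615 := ndS (p := 28975) (l := 3) rfl N28975 D62615
theorem N29846 : nd 29846 = n62616 := ndS (p := 28976) (l := 2) rfl N28976 D62616
theorem N29847 : nd 29847 = n62617 := ndS (p := 28977) (l := 3) rfl N28977 D62617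
theorem N29848 : nd 29848 = n62618 := ndS (p := 28978) (l := 2) rfl N28978 D62618
theorem N29849 : nd 29849 = n62619 := ndS (p := 28979) (l := 2) rfl N28979 D62619
theorem N29850 : nd 29850 = n62620 := ndS (p := 28979) (l := 8) rfl N28979 D62620
theorem N29851 : nd 29851 = n62621 := ndS (p := 28980) (l := 8) rfl N28980 D62621
theorem N29852 : nd 29852 = n62622 := ndS (p := 28982) (l := 3) rfl N28982 D62622
theorem N29853 : nd 29853 = n62623 := ndS (p := 28984) (l := 6) rfl N28984 D62623
theorem N29854 : nd 29854 = n62624 := ndS (p := 28988) (l := 8) rfl N28988 D62624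
theorem N29855 : nd 29855 = n62625 := ndS (p := 28989) (l := 9) rfl N28989 D62625
theorem N29856 : nd 29856 = n62626 := ndS (p := 28991) (l := 4) rfl N28991 D62626
theorem N29857 : nd 29857 = n62627 := ndS (p := 28996) (l := 4) rfl N28996 D62627
theorem N29858 : nd 29858 = n62628 := ndS (p := 29000) (l := 3) rfl N29000 D62628
theorem N29859 : nd 29859 = n62629 := ndS (p := 29001) (l := 8) rfl N29001 D62629
theorem N29860 : nd 29860 = n62630 := ndS (p := 29002) (l := 9) rfl N29002 D62630
theorem N29861 : nd 29861 = n62631 := ndS (p := 29007) (l := 2) rfl N29007 D62631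
theorem N29862 : nd 29862 = n62632 := ndS (p := 29007) (l := 8) rfl N29007 D62632
theorem N29863 : nd 29863 = n62633 := ndS (p := 29009) (l := 9) rfl N29009 D62633
theorem N29864 : nd 29864 = n62634 := ndS (p := 29011) (l := 0) rfl N29011 D62634
theorem N29865 : nd 29865 = n62635 := ndS (p := 29011) (l := 4) rfl N29011 D62635
theorem N29866 : nd 29866 = n62636 := ndS (p := 29012) (l := 3) rfl N29012 D62636
theorem N29867 : nd 29867 = n62637 := ndS (p := 29014) (l := 0) rfl N29014 D62637
theorem N29868 : nd 29868 = n62638 := ndS (p := 29014) (l := 4) rfl N29014 D62638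
theorem N29869 : nd 29869 = n62639 := ndS (p := 29015) (l := 3) rfl N29015 D62639
theorem N29870 : nd 29870 = n62640 := ndS (p := 29015) (l := 5) rfl N29015 D62640
theorem N29871 : nd 29871 = n62641 := ndS (p := 29016) (l := 6) rfl N29016 D62641
theorem N29872 : nd 29872 = n62642 := ndS (p := 29017) (l := 5) rfl N29017 D62642
theorem N29873 : nd 29873 = n62643 := ndS (p := 29020) (l := 0) rfl N29020 D62643
theorem N29874 : nd 29874 = n62644 := ndS (p := 29020) (l := 4) rfl N29020 D62644
theorem N29875 : nd 29875 = n62645 := ndS (p := 29021) (l := 3) rfl N29021 D62645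
theorem N29876 : nd 29876 = n62646 := ndS (p := 29021) (l := 5) rfl N29021 D62646
theorem N29877 : nd 29877 = n62647 := ndS (p := 29022) (l := 6) rfl N29022 D62647
theorem N29878 : nd 29878 = n62648 := ndS (p := 29023) (l := 0) rfl N29023 D62648
theorem N29879 : nd 29879 = n62649 := ndS (p := 29023) (l := 4) rfl N29023 D62649
theorem N29880 : nd 29880 = n62650 := ndS (p := 29024) (l := 3) rfl N29024 D62650
theorem N29881 : nd 29881 = n62651 := ndS (p := 29024) (l := 5) rfl N29024 D62651
theorem N29882 : nd 29882 = n62652 := ndS (p := 29025) (l := 6) rfl N29025 D62652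
theorem N29883 : nd 29883 = n62653 := ndS (p := 29026) (l := 4) rfl N29026 D62653
theorem N29884 : nd 29884 = n62654 := ndS (p := 29027) (l := 5) rfl N29027 D62654
theorem N29885 : nd 29885 = n62655 := ndS (p := 29028) (l := 6) rfl N29028 D62655
theorem N29886 : nd 29886 = n62656 := ndS (p := 29030) (l := 4) rfl N29030 D62656
theorem N29887 : nd 29887 = n62657 := ndS (p := 29031) (l := 3) rfl N29031 D62657
theorem N29888 : nd 29888 = n62658 := ndS (p := 29032) (l := 8) rfl N29032 D62658
theorem N29889 : nd 29889 = n62659 := ndS (p := 29034) (l := 0) rfl N29034 D62659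
theorem N29890 : nd 29890 = n62660 := ndS (p := 29034) (l := 4) rfl N29034 D62660
theorem N29891 : nd 29891 = n62661 := ndS (p := 29035) (l := 3) rfl N29035 D62661
theorem N29892 : nd 29892 = n62662 := ndS (p := 29035) (l := 5) rfl N29035 D62662
theorem N29893 : nd 29893 = n62663 := ndS (p := 29036) (l := 6) rfl N29036 D62663
theorem N29894 : nd 29894 = n62664 := ndS (p := 29037) (l := 4) rfl N29037 D62664
theorem N29895 : nd 29895 = n62665 := ndS (p := 29038) (l := 5) rfl N29038 D62665
theorem N29896 : nd 29896 = n62666 := ndS (p := 29039) (l := 6) rfl N29039 D62666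
theorem N29897 : nd 29897 = n62667 := ndS (p := 29041) (l := 0) rfl N29041 D62667
theorem N29898 : nd 29898 = n62668 := ndS (p := 29041) (l := 4) rfl N29041 D62668
theorem N29899 : nd 29899 = n62669 := ndS (p := 29042) (l := 3) rfl N29042 D62669
theorem N29900 : nd 29900 = n62670 := ndS (p := 29042) (l := 5) rfl N29042 D62670
theorem N29901 : nd 29901 = n62671 := ndS (p := 29044) (l := 4) rfl N29044 D62671
theorem N29902 : nd 29902 = n62672 := ndS (p := 29045) (l := 3) rfl N29045 D62672
theorem N29903 : nd 29903 = n62673 := ndS (p := 29046) (l := 8) rfl N29046 D62673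
theorem N29904 : nd 29904 = n62674 := ndS (p := 29047) (l := 0) rfl N29047 D62674
theorem N29905 : nd 29905 = n62675 := ndS (p := 29047) (l := 4) rfl N29047 D62675
theorem N29906 : nd 29906 = n62676 := ndS (p := 29048) (l := 3) rfl N29048 D62676
theorem N29907 : nd 29907 = n62677 := ndS (p := 29048) (l := 5) rfl N29048 D62677
theorem N29908 : nd 29908 = n62678 := ndS (p := 29050) (l := 4) rfl N29050 D62678
theorem N29909 : nd 29909 = n62679 := ndS (p := 29051) (l := 3) rfl N29051 D62679
theorem N29910 : nd 29910 = n62680 := ndS (p := 29051) (l := 5) rfl N29051 D62680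
theorem N29911 : nd 29911 = n62681 := ndS (p := 29052) (l := 5) rfl N29052 D62681
theorem N29912 : nd 29912 = n62682 := ndS (p := 29054) (l := 5) rfl N29054 D62682
theorem N29913 : nd 29913 = n62683 := ndS (p := 29056) (l := 3) rfl N29056 D62683
theorem N29914 : nd 29914 = n62684 := ndS (p := 29057) (l := 8) rfl N29057 D62684
theorem N29915 : nd 29915 = n62685 := ndS (p := 29058) (l := 9) rfl N29058 D62685
theorem N29916 : nd 29916 = n62686 := ndS (p := 29059) (l := 8) rfl N29059 D62686
theorem N29917 : nd 29917 = n62687 := ndS (p := 29062) (l := 4) rfl N29062 D62687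
theorem N29918 : nd 29918 = n62688 := ndS (p := 29063) (l := 3) rfl N29063 D62688
theorem N29919 : nd 29919 = n62689 := ndS (p := 29063) (l := 5) rfl N29063 D62689
theorem N29920 : nd 29920 = n62690 := ndS (p := 29065) (l := 6) rfl N29065 D62690
theorem N29921 : nd 29921 = n62691 := ndS (p := 29067) (l := 5) rfl N29067 D62691
theorem N29922 : nd 29922 = n62692 := ndS (p := 29068) (l := 6) rfl N29068 D62692
theorem N29923 : nd 29923 = n62693 := ndS (p := 29070) (l := 4) rfl N29070 D62693
theorem N29924 : nd 29924 = n62694 := ndS (p := 29071) (l := 3) rfl N29071 D62694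
theorem N29925 : nd 29925 = n62695 := ndS (p := 29071) (l := 5) rfl N29071 D62695
theorem N29926 : nd 29926 = n62696 := ndS (p := 29074) (l := 3) rfl N29074 D62696
theorem N29927 : nd 29927 = n62697 := ndS (p := 29076) (l := 0) rfl N29076 D62697
theorem N29928 : nd 29928 = n62698 := ndS (p := 29076) (l := 4) rfl N29076 D62698
theorem N29929 : nd 29929 = n62699 := ndS (p := 29078) (l := 4) rfl N29078 D62699
theorem N29930 : nd 29930 = n62700 := ndS (p := 29081) (l := 0) rfl N29081 D62700
theorem N29931 : nd 29931 = n62701 := ndS (p := 29081) (l := 4) rfl N29081 D62701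
theorem N29932 : nd 29932 = n62702 := ndS (p := 29082) (l := 3) rfl N29082 D62702
theorem N29933 : nd 29933 = n62703 := ndS (p := 29082) (l := 5) rfl N29082 D62703
theorem N29934 : nd 29934 = n62704 := ndS (p := 29084) (l := 4) rfl N29084 D62704
theorem N29935 : nd 29935 = n62705 := ndS (p := 29085) (l := 3) rfl N29085 D62705
theorem N29936 : nd 29936 = n62706 := ndS (p := 29085) (l := 5) rfl N29085 D62706
theorem N29937 : nd 29937 = n62707 := ndS (p := 29086) (l := 5) rfl N29086 D62707
theorem N29938 : nd 29938 = n62708 := ndS (p := 29086) (l := 8) rfl N29086 D62708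
theorem N29939 : nd 29939 = n62709 := ndS (p := 29088) (l := 4) rfl N29088 D62709
theorem N29940 : nd 29940 = n62710 := ndS (p := 29089) (l := 5) rfl N29089 D62710
theorem N29941 : nd 29941 = n62711 := ndS (p := 29090) (l := 6) rfl N29090 D62711
theorem N29942 : nd 29942 = n62712 := ndS (p := 29092) (l := 5) rfl N29092 D62712
theorem N29943 : nd 29943 = n62713 := ndS (p := 29093) (l := 6) rfl N29093 D62713
theorem N29944 : nd 29944 = n62714 := ndS (p := 29095) (l := 3) rfl N29095 D62714
theorem N29945 : nd 29945 = n62715 := ndS (p := 29095) (l := 5) rfl N29095 D62715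
theorem N29946 : nd 29946 = n62716 := ndS (p := 29096) (l := 8) rfl N29096 D62716
theorem N29947 : nd 29947 = n62717 := ndS (p := 29098) (l := 9) rfl N29098 D62717
theorem N29948 : nd 29948 = n62718 := ndS (p := 29099) (l := 6) rfl N29099 D62718
theorem N29949 : nd 29949 = n62719 := ndS (p := 29101) (l := 8) rfl N29101 D62719
theorem N29950 : nd 29950 = n62720 := ndS (p := 29102) (l := 9) rfl N29102 D62720
theorem N29951 : nd 29951 = n62721 := ndS (p := 29106) (l := 0) rfl N29106 D62721
theorem N29952 : nd 29952 = n62722 := ndS (p := 29107) (l := 0) rfl N29107 D62722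
theorem N29953 : nd 29953 = n62723 := ndS (p := 29107) (l := 4) rfl N29107 D62723
theorem N29954 : nd 29954 = n62724 := ndS (p := 29108) (l := 3) rfl N29108 D62724
theorem N29955 : nd 29955 = n62725 := ndS (p := 29110) (l := 4) rfl N29110 D62725
theorem N29956 : nd 29956 = n62726 := ndS (p := 29112) (l := 4) rfl N29112 D62726
theorem N29957 : nd 29957 = n62727 := ndS (p := 29113) (l := 3) rfl N29113 D62727
theorem N29958 : nd 29958 = n62728 := ndS (p := 29117) (l := 4) rfl N29117 D62728
theorem N29959 : nd 29959 = n62729 := ndS (p := 29118) (l := 3) rfl N29118 D62729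
theorem N29960 : nd 29960 = n62730 := ndS (p := 29120) (l := 4) rfl N29120 D62730
theorem N29961 : nd 29961 = n62731 := ndS (p := 29121) (l := 3) rfl N29121 D62731
theorem N29962 : nd 29962 = n62732 := ndS (p := 29125) (l := 4) rfl N29125 D62732
theorem N29963 : nd 29963 = n62733 := ndS (p := 29126) (l := 3) rfl N29126 D62733
theorem N29964 : nd 29964 = n62734 := ndS (p := 29127) (l := 8) rfl N29127 D62734
theorem N29965 : nd 29965 = n62735 := ndS (p := 29128) (l := 4) rfl N29128 D62735
theorem N29966 : nd 29966 = n62736 := ndS (p := 29131) (l := 0) rfl N29131 D62736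
theorem N29967 : nd 29967 = n62737 := ndS (p := 29131) (l := 4) rfl N29131 D62737
theorem N29968 : nd 29968 = n62738 := ndS (p := 29132) (l := 5) rfl N29132 D62738
theorem N29969 : nd 29969 = n62739 := ndS (p := 29134) (l := 0) rfl N29134 D62739
theorem N29970 : nd 29970 = n62740 := ndS (p := 29134) (l := 4) rfl N29134 D62740
theorem N29971 : nd 29971 = n62741 := ndS (p := 29135) (l := 3) rfl N29135 D62741
theorem N29972 : nd 29972 = n62742 := ndS (p := 29135) (l := 5) rfl N29135 D62742
theorem N29973 : nd 29973 = n62743 := ndS (p := 29136) (l := 6) rfl N29136 D62743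
theorem N29974 : nd 29974 = n62744 := ndS (p := 29137) (l := 0) rfl N29137 D62744
theorem N29975 : nd 29975 = n62745 := ndS (p := 29137) (l := 4) rfl N29137 D62745
theorem N29976 : nd 29976 = n62746 := ndS (p := 29138) (l := 3) rfl N29138 D62746
theorem N29977 : nd 29977 = n62747 := ndS (p := 29138) (l := 5) rfl N29138 D62747
theorem N29978 : nd 29978 = n62748 := ndS (p := 29139) (l := 6) rfl N29139 D62748
theorem N29979 : nd 29979 = n62749 := ndS (p := 29140) (l := 4) rfl N29140 D62749
theorem N29980 : nd 29980 = n62750 := ndS (p := 29141) (l := 5) rfl N29141 D62750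
theorem N29981 : nd 29981 = n62751 := ndS (p := 29142) (l := 6) rfl N29142 D62751
theorem N29982 : nd 29982 = n62752 := ndS (p := 29144) (l := 0) rfl N29144 D62752
theorem N29983 : nd 29983 = n62753 := ndS (p := 29144) (l := 4) rfl N29144 D62753
theorem N29984 : nd 29984 = n62754 := ndS (p := 29145) (l := 3) rfl N29145 D62754
theorem N29985 : nd 29985 = n62755 := ndS (p := 29145) (l := 5) rfl N29145 D62755
theorem N29986 : nd 29986 = n62756 := ndS (p := 29147) (l := 4) rfl N29147 D62756
theorem N29987 : nd 29987 = n62757 := ndS (p := 29148) (l := 3) rfl N29148 D62757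
theorem N29988 : nd 29988 = n62758 := ndS (p := 29149) (l := 8) rfl N29149 D62758
theorem N29989 : nd 29989 = n62759 := ndS (p := 29150) (l := 0) rfl N29150 D62759
theorem N29990 : nd 29990 = n62760 := ndS (p := 29150) (l := 4) rfl N29150 D62760
theorem N29991 : nd 29991 = n62761 := ndS (p := 29152) (l := 4) rfl N29152 D62761
theorem N29992 : nd 29992 = n62762 := ndS (p := 29153) (l := 3) rfl N29153 D62762
theorem N29993 : nd 29993 = n62763 := ndS (p := 29153) (l := 5) rfl N29153 D62763
theorem N29994 : nd 29994 = n62764 := ndS (p := 29154) (l := 8) rfl N29154 D62764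
theorem N29995 : nd 29995 = n62765 := ndS (p := 29157) (l := 4) rfl N29157 D62765
theorem N29996 : nd 29996 = n62766 := ndS (p := 29158) (l := 3) rfl N29158 D62766
theorem N29997 : nd 29997 = n62767 := ndS (p := 29158) (l := 5) rfl N29158 D62767
theorem N29998 : nd 29998 = n62768 := ndS (p := 29159) (l := 5) rfl N29159 D62768
theorem N29999 : nd 29999 = n62769 := ndS (p := 29161) (l := 4) rfl N29161 D62769
theorem N30000 : nd 30000 = n62770 := ndS (p := 29162) (l := 3) rfl N29162 D62770

end Cfsg.Agent.Helper17.Fi23TC
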