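import Cfsg.Agent.Helper17.Fi23TC.Fin3

set_option autoImplicit false
set_option linter.all false
set_option maxRecDepth 100000

noncomputable section

namespace Cfsg.Agent.Helper17.Fi23TC

theorem N30001 : nd 30001 = n62771 := ndS (p := 29162) (l := 5) rfl N29162 D62771
theorem N30002 : nd 30002 = n62772 := ndS (p := 29163) (l := 5) rfl N29163 D62772
theorem N30003 : nd 30003 = n62773 := ndS (p := 29163) (l := 8) rfl N29163 D62773
theorem N30004 : nd 30004 = n62774 := ndS (p := 29165) (l := 5) rfl N29165 D62774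
theorem N30005 : nd 30005 = n62775 := ndS (p := 29166) (l := 6) rfl N29166 D62775
theorem N30006 : nd 30006 = n62776 := ndS (p := 29168) (l := 3) rfl N29168 D62776
theorem N30007 : nd 30007 = n62777 := ndS (p := 29169) (l := 2) rfl N29169 D62777
theorem N30008 : nd 30008 = n62778 := ndS (p := 29169) (l := 8) rfl N29169 D62778
theorem N30009 : nd 30009 = n62779 := ndS (p := 29170) (l := 9) rfl N29170 D62779
theorem N30010 : nd 30010 = n62780 := ndS (p := 29171) (l := 0) rfl N29171 D62780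
theorem N30011 : nd 30011 = n62781 := ndS (p := 29171) (l := 4) rfl N29171 D62781
theorem N30012 : nd 30012 = n62782 := ndS (p := 29172) (l := 3) rfl N29172 D62782
theorem N30013 : nd 30013 = n62783 := ndS (p := 29172) (l := 5) rfl N29172 D62783
theorem N30014 : nd 30014 = n62784 := ndS (p := 29174) (l := 4) rfl N29174 D62784
theorem N30015 : nd 30015 = n62785 := ndS (p := 29175) (l := 3) rfl N29175 D62785
theorem N30016 : nd 30016 = n62786 := ndS (p := 29176) (l := 8) rfl N29176 D62786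
theorem N30017 : nd 30017 = n62787 := ndS (p := 29177) (l := 4) rfl N29177 D62787
theorem N30018 : nd 30018 = n62788 := ndS (p := 29179) (l := 4) rfl N29179 D62788
theorem N30019 : nd 30019 = n62789 := ndS (p := 29180) (l := 3) rfl N29180 D62789
theorem N30020 : nd 30020 = n62790 := ndS (p := 29182) (l := 5) rfl N29182 D62790
theorem N30021 : nd 30021 = n62791 := ndS (p := 29184) (l := 4) rfl N29184 D62791
theorem N30022 : nd 30022 = n62792 := ndS (p := 29185) (l := 5) rfl N29185 D62792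
theorem N30023 : nd 30023 = n62793 := ndS (p := 29187) (l := 3) rfl N29187 D62793
theorem N30024 : nd 30024 = n62794 := ndS (p := 29188) (l := 8) rfl N29188 D62794
theorem N30025 : nd 30025 = n62795 := ndS (p := 29190) (l := 4) rfl N29190 D62795
theorem N30026 : nd 30026 = n62796 := ndS (p := 29191) (l := 3) rfl N29191 D62796
theorem N30027 : nd 30027 = n62797 := ndS (p := 29195) (l := 4) rfl N29195 D62797
theorem N30028 : nd 30028 = n62798 := ndS (p := 29196) (l := 3) rfl N29196 D62798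
theorem N30029 : nd 30029 = n62799 := ndS (p := 29198) (l := 3) rfl N29198 D62799
theorem N30030 : nd 30030 = n62800 := ndS (p := 29198) (l := 5) rfl N29198 D62800
theorem N30031 : nd 30031 = n62801 := ndS (p := 29199) (l := 2) rfl N29199 D62801
theorem N30032 : nd 30032 = n62802 := ndS (p := 29199) (l := 5) rfl N29199 D62802
theorem N30033 : nd 30033 = n62803 := ndS (p := 29201) (l := 4) rfl N29201 D62803
theorem N30034 : nd 30034 = n62804 := ndS (p := 29203) (l := 4) rfl N29203 D62804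
theorem N30035 : nd 30035 = n62805 := ndS (p := 29206) (l := 8) rfl N29206 D62805
theorem N30036 : nd 30036 = n62806 := ndS (p := 29207) (l := 9) rfl N29207 D62806
theorem N30037 : nd 30037 = n62807 := ndS (p := 29209) (l := 0) rfl N29209 D62807
theorem N30038 : nd 30038 = n62808 := ndS (p := 29209) (l := 4) rfl N29209 D62808
theorem N30039 : nd 30039 = n62809 := ndS (p := 29210) (l := 3) rfl N29210 D62809
theorem N30040 : nd 30040 = n62810 := ndS (p := 29211) (l := 4) rfl N29211 D62810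
theorem N30041 : nd 30041 = n62811 := ndS (p := 29212) (l := 3) rfl N29212 D62811
theorem N30042 : nd 30042 = n62812 := ndS (p := 29212) (l := 5) rfl N29212 D62812
theorem N30043 : nd 30043 = n62813 := ndS (p := 29213) (l := 5) rfl N29213 D62813
theorem N30044 : nd 30044 = n62814 := ndS (p := 29213) (l := 8) rfl N29213 D62814
theorem N30045 : nd 30045 = n62815 := ndS (p := 29215) (l := 3) rfl N29215 D62815
theorem N30046 : nd 30046 = n62816 := ndS (p := 29216) (l := 2) rfl N29216 D62816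
theorem N30047 : nd 30047 = n62817 := ndS (p := 29216) (l := 8) rfl N29216 D62817
theorem N30048 : nd 30048 = n62818 := ndS (p := 29217) (l := 9) rfl N29217 D62818
theorem N30049 : nd 30049 = n62819 := ndS (p := 29218) (l := 4) rfl N29218 D62819
theorem N30050 : nd 30050 = n62820 := ndS (p := 29220) (l := 5) rfl N29220 D62820
theorem N30051 : nd 30051 = n62821 := ndS (p := 29222) (l := 6) rfl N29222 D62821
theorem N30052 : nd 30052 = n62822 := ndS (p := 29224) (l := 4) rfl N29224 D62822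
theorem N30053 : nd 30053 = n62823 := ndS (p := 29226) (l := 5) rfl N29226 D62823
theorem N30054 : nd 30054 = n62824 := ndS (p := 29228) (l := 2) rfl N29228 D62824
theorem N30055 : nd 30055 = n62825 := ndS (p := 29232) (l := 4) rfl N29232 D62825
theorem N30056 : nd 30056 = n62826 := ndS (p := 29237) (l := 6) rfl N29237 D62826
theorem N30057 : nd 30057 = n62827 := ndS (p := 29243) (l := 9) rfl N29243 D62827
theorem N30058 : nd 30058 = n62828 := ndS (p := 29247) (l := 4) rfl N29247 D62828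
theorem N30059 : nd 30059 = n62829 := ndS (p := 29249) (l := 4) rfl N29249 D62829
theorem N30060 : nd 30060 = n62830 := ndS (p := 29254) (l := 0) rfl N29254 D62830
theorem N30061 : nd 30061 = n62831 := ndS (p := 29254) (l := 4) rfl N29254 D62831
theorem N30062 : nd 30062 = n62832 := ndS (p := 29255) (l := 3) rfl N29255 D62832
theorem N30063 : nd 30063 = n62833 := ndS (p := 29255) (l := 5) rfl N29255 D62833
theorem N30064 : nd 30064 = n62834 := ndS (p := 29257) (l := 0) rfl N29257 D62834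
theorem N30065 : nd 30065 = n62835 := ndS (p := 29257) (l := 4) rfl N29257 D62835
theorem N30066 : nd 30066 = n62836 := ndS (p := 29258) (l := 3) rfl N29258 D62836
theorem N30067 : nd 30067 = n62837 := ndS (p := 29258) (l := 5) rfl N29258 D62837
theorem N30068 : nd 30068 = n62838 := ndS (p := 29260) (l := 4) rfl N29260 D62838
theorem N30069 : nd 30069 = n62839 := ndS (p := 29261) (l := 5) rfl N29261 D62839
theorem N30070 : nd 30070 = n62840 := ndS (p := 29263) (l := 4) rfl N29263 D62840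
theorem N30071 : nd 30071 = n62841 := ndS (p := 29264) (l := 3) rfl N29264 D62841
theorem N30072 : nd 30072 = n62842 := ndS (p := 29266) (l := 4) rfl N29266 D62842
theorem N30073 : nd 30073 = n62843 := ndS (p := 29268) (l := 4) rfl N29268 D62843
theorem N30074 : nd 30074 = n62844 := ndS (p := 29269) (l := 3) rfl N29269 D62844
theorem N30075 : nd 30075 = n62845 := ndS (p := 29269) (l := 5) rfl N29269 D62845
theorem N30076 : nd 30076 = n62846 := ndS (p := 29270) (l := 5) rfl N29270 D62846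
theorem N30077 : nd 30077 = n62847 := ndS (p := 29272) (l := 5) rfl N29272 D62847
theorem N30078 : nd 30078 = n62848 := ndS (p := 29274) (l := 4) rfl N29274 D62848
theorem N30079 : nd 30079 = n62849 := ndS (p := 29276) (l := 3) rfl N29276 D62849
theorem N30080 : nd 30080 = n62850 := ndS (p := 29283) (l := 0) rfl N29283 D62850
theorem N30081 : nd 30081 = n62851 := ndS (p := 29285) (l := 4) rfl N29285 D62851
theorem N30082 : nd 30082 = n62852 := ndS (p := 29289) (l := 0) rfl N29289 D62852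
theorem N30083 : nd 30083 = n62853 := ndS (p := 29289) (l := 4) rfl N29289 D62853
theorem N30084 : nd 30084 = n62854 := ndS (p := 29290) (l := 3) rfl N29290 D62854
theorem N30085 : nd 30085 = n62855 := ndS (p := 29290) (l := 5) rfl N29290 D62855
theorem N30086 : nd 30086 = n62856 := ndS (p := 29291) (l := 6) rfl N29291 D62856
theorem N30087 : nd 30087 = n62857 := ndS (p := 29292) (l := 0) rfl N29292 D62857
theorem N30088 : nd 30088 = n62858 := ndS (p := 29292) (l := 4) rfl N29292 D62858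
theorem N30089 : nd 30089 = n62859 := ndS (p := 29293) (l := 3) rfl N29293 D62859
theorem N30090 : nd 30090 = n62860 := ndS (p := 29293) (l := 5) rfl N29293 D62860
theorem N30091 : nd 30091 = n62861 := ndS (p := 29294) (l := 6) rfl N29294 D62861
theorem N30092 : nd 30092 = n62862 := ndS (p := 29295) (l := 4) rfl N29295 D62862
theorem N30093 : nd 30093 = n62863 := ndS (p := 29296) (l := 5) rfl N29296 D62863
theorem N30094 : nd 30094 = n62864 := ndS (p := 29297) (l := 6) rfl N29297 D62864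
theorem N30095 : nd 30095 = n62865 := ndS (p := 29299) (l := 4) rfl N29299 D62865
theorem N30096 : nd 30096 = n62866 := ndS (p := 29300) (l := 3) rfl N29300 D62866
theorem N30097 : nd 30097 = n62867 := ndS (p := 29301) (l := 8) rfl N29301 D62867
theorem N30098 : nd 30098 = n62868 := ndS (p := 29303) (l := 4) rfl N29303 D62868
theorem N30099 : nd 30099 = n62869 := ndS (p := 29305) (l := 4) rfl N29305 D62869
theorem N30100 : nd 30100 = n62870 := ndS (p := 29306) (l := 3) rfl N29306 D62870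
theorem N30101 : nd 30101 = n62871 := ndS (p := 29306) (l := 5) rfl N29306 D62871
theorem N30102 : nd 30102 = n62872 := ndS (p := 29307) (l := 5) rfl N29307 D62872
theorem N30103 : nd 30103 = n62873 := ndS (p := 29310) (l := 5) rfl N29310 D62873
theorem N30104 : nd 30104 = n62874 := ndS (p := 29312) (l := 3) rfl N29312 D62874
theorem N30105 : nd 30105 = n62875 := ndS (p := 29313) (l := 8) rfl N29313 D62875
theorem N30106 : nd 30106 = n62876 := ndS (p := 29314) (l := 9) rfl N29314 D62876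
theorem N30107 : nd 30107 = n62877 := ndS (p := 29317) (l := 3) rfl N29317 D62877
theorem N30108 : nd 30108 = n62878 := ndS (p := 29317) (l := 5) rfl N29317 D62878
theorem N30109 : nd 30109 = n62879 := ndS (p := 29320) (l := 3) rfl N29320 D62879
theorem N30110 : nd 30110 = n62880 := ndS (p := 29320) (l := 5) rfl N29320 D62880
theorem N30111 : nd 30111 = n62881 := ndS (p := 29321) (l := 8) rfl N29321 D62881
theorem N30112 : nd 30112 = n62882 := ndS (p := 29323) (l := 9) rfl N29323 D62882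
theorem N30113 : nd 30113 = n62883 := ndS (p := 29325) (l := 8) rfl N29325 D62883
theorem N30114 : nd 30114 = n62884 := ndS (p := 29326) (l := 9) rfl N29326 D62884
theorem N30115 : nd 30115 = n62885 := ndS (p := 29329) (l := 0) rfl N29329 D62885
theorem N30116 : nd 30116 = n62886 := ndS (p := 29330) (l := 0) rfl N29330 D62886
theorem N30117 : nd 30117 = n62887 := ndS (p := 29330) (l := 4) rfl N29330 D62887
theorem N30118 : nd 30118 = n62888 := ndS (p := 29331) (l := 3) rfl N29331 D62888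
theorem N30119 : nd 30119 = n62889 := ndS (p := 29333) (l := 4) rfl N29333 D62889
theorem N30120 : nd 30120 = n62890 := ndS (p := 29334) (l := 3) rfl N29334 D62890
theorem N30121 : nd 30121 = n62891 := ndS (p := 29336) (l := 4) rfl N29336 D62891
theorem N30122 : nd 30122 = n62892 := ndS (p := 29337) (l := 3) rfl N29337 D62892
theorem N30123 : nd 30123 = n62893 := ndS (p := 29337) (l := 5) rfl N29337 D62893
theorem N30124 : nd 30124 = n62894 := ndS (p := 29338) (l := 5) rfl N29338 D62894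
theorem N30125 : nd 30125 = n62895 := ndS (p := 29338) (l := 8) rfl N29338 D62895
theorem N30126 : nd 30126 = n62896 := ndS (p := 29339) (l := 6) rfl N29339 D62896
theorem N30127 : nd 30127 = n62897 := ndS (p := 29343) (l := 0) rfl N29343 D62897
theorem N30128 : nd 30128 = n62898 := ndS (p := 29344) (l := 4) rfl N29344 D62898
theorem N30129 : nd 30129 = n62899 := ndS (p := 29345) (l := 3) rfl N29345 D62899
theorem N30130 : nd 30130 = n62900 := ndS (p := 29345) (l := 5) rfl N29345 D62900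
theorem N30131 : nd 30131 = n62901 := ndS (p := 29346) (l := 5) rfl N29346 D62901
theorem N30132 : nd 30132 = n62902 := ndS (p := 29347) (l := 6) rfl N29347 D62902
theorem N30133 : nd 30133 = n62903 := ndS (p := 29349) (l := 4) rfl N29349 D62903
theorem N30134 : nd 30134 = n62904 := ndS (p := 29350) (l := 3) rfl N29350 D62904
theorem N30135 : nd 30135 = n62905 := ndS (p := 29350) (l := 5) rfl N29350 D62905
theorem N30136 : nd 30136 = n62906 := ndS (p := 29351) (l := 5) rfl N29351 D62906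
theorem N30137 : nd 30137 = n62907 := ndS (p := 29351) (l := 8) rfl N29351 D62907
theorem N30138 : nd 30138 = n62908 := ndS (p := 29352) (l := 6) rfl N29352 D62908
theorem N30139 : nd 30139 = n62909 := ndS (p := 29354) (l := 5) rfl N29354 D62909
theorem N30140 : nd 30140 = n62910 := ndS (p := 29355) (l := 6) rfl N29355 D62910
theorem N30141 : nd 30141 = n62911 := ndS (p := 29356) (l := 7) rfl N29356 D62911
theorem N30142 : nd 30142 = n62912 := ndS (p := 29358) (l := 3) rfl N29358 D62912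
theorem N30143 : nd 30143 = n62913 := ndS (p := 29359) (l := 2) rfl N29359 D62913
theorem N30144 : nd 30144 = n62914 := ndS (p := 29359) (l := 8) rfl N29359 D62914
theorem N30145 : nd 30145 = n62915 := ndS (p := 29360) (l := 9) rfl N29360 D62915
theorem N30146 : nd 30146 = n62916 := ndS (p := 29361) (l := 0) rfl N29361 D62916
theorem N30147 : nd 30147 = n62917 := ndS (p := 29361) (l := 4) rfl N29361 D62917
theorem N30148 : nd 30148 = n62918 := ndS (p := 29363) (l := 4) rfl N29363 D62918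
theorem N30149 : nd 30149 = n62919 := ndS (p := 29364) (l := 3) rfl N29364 D62919
theorem N30150 : nd 30150 = n62920 := ndS (p := 29368) (l := 4) rfl N29368 D62920
theorem N30151 : nd 30151 = n62921 := ndS (p := 29369) (l := 3) rfl N29369 D62921
theorem N30152 : nd 30152 = n62922 := ndS (p := 29369) (l := 5) rfl N29369 D62922
theorem N30153 : nd 30153 = n62923 := ndS (p := 29372) (l := 5) rfl N29372 D62923
theorem N30154 : nd 30154 = n62924 := ndS (p := 29374) (l := 4) rfl N29374 D62924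
theorem N30155 : nd 30155 = n62925 := ndS (p := 29375) (l := 3) rfl N29375 D62925
theorem N30156 : nd 30156 = n62926 := ndS (p := 29375) (l := 5) rfl N29375 D62926
theorem N30157 : nd 30157 = n62927 := ndS (p := 29376) (l := 5) rfl N29376 D62927
theorem N30158 : nd 30158 = n62928 := ndS (p := 29378) (l := 3) rfl N29378 D62928
theorem N30159 : nd 30159 = n62929 := ndS (p := 29378) (l := 5) rfl N29378 D62929
theorem N30160 : nd 30160 = n62930 := ndS (p := 29379) (l := 2) rfl N29379 D62930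
theorem N30161 : nd 30161 = n62931 := ndS (p := 29379) (l := 5) rfl N29379 D62931
theorem N30162 : nd 30162 = n62932 := ndS (p := 29381) (l := 4) rfl N29381 D62932
theorem N30163 : nd 30163 = n62933 := ndS (p := 29385) (l := 8) rfl N29385 D62933
theorem N30164 : nd 30164 = n62934 := ndS (p := 29386) (l := 9) rfl N29386 D62934
theorem N30165 : nd 30165 = n62935 := ndS (p := 29389) (l := 0) rfl N29389 D62935
theorem N30166 : nd 30166 = n62936 := ndS (p := 29389) (l := 4) rfl N29389 D62936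
theorem N30167 : nd 30167 = n62937 := ndS (p := 29391) (l := 4) rfl N29391 D62937
theorem N30168 : nd 30168 = n62938 := ndS (p := 29392) (l := 3) rfl N29392 D62938
theorem N30169 : nd 30169 = n62939 := ndS (p := 29394) (l := 4) rfl N29394 D62939
theorem N30170 : nd 30170 = n62940 := ndS (p := 29399) (l := 4) rfl N29399 D62940
theorem N30171 : nd 30171 = n62941 := ndS (p := 29400) (l := 3) rfl N29400 D62941
theorem N30172 : nd 30172 = n62942 := ndS (p := 29400) (l := 5) rfl N29400 D62942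
theorem N30173 : nd 30173 = n62943 := ndS (p := 29403) (l := 4) rfl N29403 D62943
theorem N30174 : nd 30174 = n62944 := ndS (p := 29404) (l := 5) rfl N29404 D62944
theorem N30175 : nd 30175 = n62945 := ndS (p := 29406) (l := 5) rfl N29406 D62945
theorem N30176 : nd 30176 = n62946 := ndS (p := 29408) (l := 5) rfl N29408 D62946
theorem N30177 : nd 30177 = n62947 := ndS (p := 29411) (l := 4) rfl N29411 D62947
theorem N30178 : nd 30178 = n62948 := ndS (p := 29412) (l := 3) rfl N29412 D62948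
theorem N30179 : nd 30179 = n62949 := ndS (p := 29412) (l := 5) rfl N29412 D62949
theorem N30180 : nd 30180 = n62950 := ndS (p := 29413) (l := 5) rfl N29413 D62950
theorem N30181 : nd 30181 = n62951 := ndS (p := 29413) (l := 8) rfl N29413 D62951
theorem N30182 : nd 30182 = n62952 := ndS (p := 29415) (l := 3) rfl N29415 D62952
theorem N30183 : nd 30183 = n62953 := ndS (p := 29415) (l := 5) rfl N29415 D62953
theorem N30184 : nd 30184 = n62954 := ndS (p := 29416) (l := 2) rfl N29416 D62954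
theorem N30185 : nd 30185 = n62955 := ndS (p := 29416) (l := 5) rfl N29416 D62955
theorem N30186 : nd 30186 = n62956 := ndS (p := 29416) (l := 8) rfl N29416 D62956
theorem N30187 : nd 30187 = n62957 := ndS (p := 29418) (l := 4) rfl N29418 D62957
theorem N30188 : nd 30188 = n62958 := ndS (p := 29419) (l := 9) rfl N29419 D62958
theorem N30189 : nd 30189 = n62959 := ndS (p := 29420) (l := 3) rfl N29420 D62959
theorem N30190 : nd 30190 = n62960 := ndS (p := 29420) (l := 5) rfl N29420 D62960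
theorem N30191 : nd 30191 = n62961 := ndS (p := 29421) (l := 5) rfl N29421 D62961
theorem N30192 : nd 30192 = n62962 := ndS (p := 29422) (l := 6) rfl N29422 D62962
theorem N30193 : nd 30193 = n62963 := ndS (p := 29425) (l := 5) rfl N29425 D62963
theorem N30194 : nd 30194 = n62964 := ndS (p := 29426) (l := 6) rfl N29426 D62964
theorem N30195 : nd 30195 = n62965 := ndS (p := 29427) (l := 4) rfl N29427 D62965
theorem N30196 : nd 30196 = n62966 := ndS (p := 29427) (l := 6) rfl N29427 D62966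
theorem N30197 : nd 30197 = n62967 := ndS (p := 29429) (l := 6) rfl N29429 D62967
theorem N30198 : nd 30198 = n62968 := ndS (p := 29432) (l := 8) rfl N29432 D62968
theorem N30199 : nd 30199 = n62969 := ndS (p := 29434) (l := 9) rfl N29434 D62969
theorem N30200 : nd 30200 = n62970 := ndS (p := 29437) (l := 9) rfl N29437 D62970
theorem N30201 : nd 30201 = n62971 := ndS (p := 29441) (l := 4) rfl N29441 D62971
theorem N30202 : nd 30202 = n62972 := ndS (p := 29442) (l := 3) rfl N29442 D62972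
theorem N30203 : nd 30203 = n62973 := ndS (p := 29444) (l := 5) rfl N29444 D62973
theorem N30204 : nd 30204 = n62974 := ndS (p := 29446) (l := 3) rfl N29446 D62974
theorem N30205 : nd 30205 = n62975 := ndS (p := 29447) (l := 2) rfl N29447 D62975
theorem N30206 : nd 30206 = n62976 := ndS (p := 29448) (l := 4) rfl N29448 D62976
theorem N30207 : nd 30207 = n62977 := ndS (p := 29449) (l := 3) rfl N29449 D62977
theorem N30208 : nd 30208 = n62978 := ndS (p := 29452) (l := 3) rfl N29452 D62978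
theorem N30209 : nd 30209 = n62979 := ndS (p := 29453) (l := 2) rfl N29453 D62979
theorem N30210 : nd 30210 = n62980 := ndS (p := 29455) (l := 9) rfl N29455 D62980
theorem N30211 : nd 30211 = n62981 := ndS (p := 29458) (l := 3) rfl N29458 D62981
theorem N30212 : nd 30212 = n62982 := ndS (p := 29459) (l := 2) rfl N29459 D62982
theorem N30213 : nd 30213 = n62983 := ndS (p := 29460) (l := 4) rfl N29460 D62983
theorem N30214 : nd 30214 = n62984 := ndS (p := 29461) (l := 3) rfl N29461 D62984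
theorem N30215 : nd 30215 = n62985 := ndS (p := 29462) (l := 8) rfl N29462 D62985
theorem N30216 : nd 30216 = n62986 := ndS (p := 29463) (l := 4) rfl N29463 D62986
theorem N30217 : nd 30217 = n62987 := ndS (p := 29464) (l := 3) rfl N29464 D62987
theorem N30218 : nd 30218 = n62988 := ndS (p := 29464) (l := 5) rfl N29464 D62988
theorem N30219 : nd 30219 = n62989 := ndS (p := 29465) (l := 5) rfl N29465 D62989
theorem N30220 : nd 30220 = n62990 := ndS (p := 29465) (l := 8) rfl N29465 D62990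
theorem N30221 : nd 30221 = n62991 := ndS (p := 29466) (l := 6) rfl N29466 D62991
theorem N30222 : nd 30222 = n62992 := ndS (p := 29468) (l := 5) rfl N29468 D62992
theorem N30223 : nd 30223 = n62993 := ndS (p := 29469) (l := 6) rfl N29469 D62993
theorem N30224 : nd 30224 = n62994 := ndS (p := 29471) (l := 3) rfl N29471 D62994
theorem N30225 : nd 30225 = n62995 := ndS (p := 29472) (l := 2) rfl N29472 D62995
theorem N30226 : nd 30226 = n62996 := ndS (p := 29472) (l := 8) rfl N29472 D62996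
theorem N30227 : nd 30227 = n62997 := ndS (p := 29474) (l := 4) rfl N29474 D62997
theorem N30228 : nd 30228 = n62998 := ndS (p := 29475) (l := 3) rfl N29475 D62998
theorem N30229 : nd 30229 = n62999 := ndS (p := 29477) (l := 4) rfl N29477 D62999
theorem N30230 : nd 30230 = n63000 := ndS (p := 29478) (l := 3) rfl N29478 D63000
theorem N30231 : nd 30231 = n63001 := ndS (p := 29478) (l := 5) rfl N29478 D63001
theorem N30232 : nd 30232 = n63002 := ndS (p := 29479) (l := 8) rfl N29479 D63002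
theorem N30233 : nd 30233 = n63003 := ndS (p := 29481) (l := 3) rfl N29481 D63003
theorem N30234 : nd 30234 = n63004 := ndS (p := 29482) (l := 8) rfl N29482 D63004
theorem N30235 : nd 30235 = n63005 := ndS (p := 29484) (l := 8) rfl N29484 D63005
theorem N30236 : nd 30236 = n63006 := ndS (p := 29487) (l := 4) rfl N29487 D63006
theorem N30237 : nd 30237 = n63007 := ndS (p := 29488) (l := 3) rfl N29488 D63007
theorem N30238 : nd 30238 = n63008 := ndS (p := 29490) (l := 3) rfl N29490 D63008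
theorem N30239 : nd 30239 = n63009 := ndS (p := 29491) (l := 2) rfl N29491 D63009
theorem N30240 : nd 30240 = n63010 := ndS (p := 29492) (l := 4) rfl N29492 D63010
theorem N30241 : nd 30241 = n63011 := ndS (p := 29493) (l := 3) rfl N29493 D63011
theorem N30242 : nd 30242 = n63012 := ndS (p := 29495) (l := 4) rfl N29495 D63012
theorem N30243 : nd 30243 = n63013 := ndS (p := 29496) (l := 3) rfl N29496 D63013
theorem N30244 : nd 30244 = n63014 := ndS (p := 29498) (l := 3) rfl N29498 D63014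
theorem N30245 : nd 30245 = n63015 := ndS (p := 29500) (l := 3) rfl N29500 D63015
theorem N30246 : nd 30246 = n63016 := ndS (p := 29500) (l := 5) rfl N29500 D63016
theorem N30247 : nd 30247 = n63017 := ndS (p := 29505) (l := 4) rfl N29505 D63017
theorem N30248 : nd 30248 = n63018 := ndS (p := 29506) (l := 3) rfl N29506 D63018
theorem N30249 : nd 30249 = n63019 := ndS (p := 29507) (l := 8) rfl N29507 D63019
theorem N30250 : nd 30250 = n63020 := ndS (p := 29508) (l := 3) rfl N29508 D63020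
theorem N30251 : nd 30251 = n63021 := ndS (p := 29509) (l := 2) rfl N29509 D63021
theorem N30252 : nd 30252 = n63022 := ndS (p := 29509) (l := 8) rfl N29509 D63022
theorem N30253 : nd 30253 = n63023 := ndS (p := 29511) (l := 8) rfl N29511 D63023
theorem N30254 : nd 30254 = n63024 := ndS (p := 29513) (l := 9) rfl N29513 D63024
theorem N30255 : nd 30255 = n63025 := ndS (p := 29516) (l := 4) rfl N29516 D63025
theorem N30256 : nd 30256 = n63026 := ndS (p := 29517) (l := 3) rfl N29517 D63026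
theorem N30257 : nd 30257 = n63027 := ndS (p := 29519) (l := 4) rfl N29519 D63027
theorem N30258 : nd 30258 = n63028 := ndS (p := 29520) (l := 3) rfl N29520 D63028
theorem N30259 : nd 30259 = n63029 := ndS (p := 29521) (l := 8) rfl N29521 D63029
theorem N30260 : nd 30260 = n63030 := ndS (p := 29522) (l := 3) rfl N29522 D63030
theorem N30261 : nd 30261 = n63031 := ndS (p := 29523) (l := 2) rfl N29523 D63031
theorem N30262 : nd 30262 = n63032 := ndS (p := 29523) (l := 8) rfl N29523 D63032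
theorem N30263 : nd 30263 = n63033 := ndS (p := 29524) (l := 9) rfl N29524 D63033
theorem N30264 : nd 30264 = n63034 := ndS (p := 29525) (l := 4) rfl N29525 D63034
theorem N30265 : nd 30265 = n63035 := ndS (p := 29526) (l := 3) rfl N29526 D63035
theorem N30266 : nd 30266 = n63036 := ndS (p := 29526) (l := 5) rfl N29526 D63036
theorem N30267 : nd 30267 = n63037 := ndS (p := 29527) (l := 5) rfl N29527 D63037
theorem N30268 : nd 30268 = n63038 := ndS (p := 29527) (l := 8) rfl N29527 D63038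
theorem N30269 : nd 30269 = n63039 := ndS (p := 29532) (l := 4) rfl N29532 D63039
theorem N30270 : nd 30270 = n63040 := ndS (p := 29533) (l := 3) rfl N29533 D63040
theorem N30271 : nd 30271 = n63041 := ndS (p := 29533) (l := 5) rfl N29533 D63041
theorem N30272 : nd 30272 = n63042 := ndS (p := 29536) (l := 3) rfl N29536 D63042
theorem N30273 : nd 30273 = n63043 := ndS (p := 29536) (l := 5) rfl N29536 D63043
theorem N30274 : nd 30274 = n63044 := ndS (p := 29537) (l := 5) rfl N29537 D63044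
theorem N30275 : nd 30275 = n63045 := ndS (p := 29537) (l := 8) rfl N29537 D63045
theorem N30276 : nd 30276 = n63046 := ndS (p := 29539) (l := 4) rfl N29539 D63046
theorem N30277 : nd 30277 = n63047 := ndS (p := 29542) (l := 4) rfl N29542 D63047
theorem N30278 : nd 30278 = n63048 := ndS (p := 29545) (l := 4) rfl N29545 D63048
theorem N30279 : nd 30279 = n63049 := ndS (p := 29546) (l := 3) rfl N29546 D63049
theorem N30280 : nd 30280 = n63050 := ndS (p := 29546) (l := 5) rfl N29546 D63050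
theorem N30281 : nd 30281 = n63051 := ndS (p := 29547) (l := 5) rfl N29547 D63051
theorem N30282 : nd 30282 = n63052 := ndS (p := 29547) (l := 8) rfl N29547 D63052
theorem N30283 : nd 30283 = n63053 := ndS (p := 29548) (l := 6) rfl N29548 D63053
theorem N30284 : nd 30284 = n63054 := ndS (p := 29550) (l := 3) rfl N29550 D63054
theorem N30285 : nd 30285 = n63055 := ndS (p := 29550) (l := 5) rfl N29550 D63055
theorem N30286 : nd 30286 = n63056 := ndS (p := 29551) (l := 2) rfl N29551 D63056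
theorem N30287 : nd 30287 = n63057 := ndS (p := 29551) (l := 5) rfl N29551 D63057
theorem N30288 : nd 30288 = n63058 := ndS (p := 29551) (l := 8) rfl N29551 D63058
theorem N30289 : nd 30289 = n63059 := ndS (p := 29552) (l := 6) rfl N29552 D63059
theorem N30290 : nd 30290 = n63060 := ndS (p := 29556) (l := 6) rfl N29556 D63060
theorem N30291 : nd 30291 = n63061 := ndS (p := 29558) (l := 3) rfl N29558 D63061
theorem N30292 : nd 30292 = n63062 := ndS (p := 29559) (l := 2) rfl N29559 D63062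
theorem N30293 : nd 30293 = n63063 := ndS (p := 29559) (l := 8) rfl N29559 D63063
theorem N30294 : nd 30294 = n63064 := ndS (p := 29560) (l := 9) rfl N29560 D63064
theorem N30295 : nd 30295 = n63065 := ndS (p := 29561) (l := 2) rfl N29561 D63065
theorem N30296 : nd 30296 = n63066 := ndS (p := 29561) (l := 8) rfl N29561 D63066
theorem N30297 : nd 30297 = n63067 := ndS (p := 29562) (l := 8) rfl N29562 D63067
theorem N30298 : nd 30298 = n63068 := ndS (p := 29563) (l := 9) rfl N29563 D63068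
theorem N30299 : nd 30299 = n63069 := ndS (p := 29565) (l := 4) rfl N29565 D63069
theorem N30300 : nd 30300 = n63070 := ndS (p := 29566) (l := 3) rfl N29566 D63070
theorem N30301 : nd 30301 = n63071 := ndS (p := 29568) (l := 3) rfl N29568 D63071
theorem N30302 : nd 30302 = n63072 := ndS (p := 29569) (l := 2) rfl N29569 D63072
theorem N30303 : nd 30303 = n63073 := ndS (p := 29569) (l := 8) rfl N29569 D63073
theorem N30304 : nd 30304 = n63074 := ndS (p := 29572) (l := 4) rfl N29572 D63074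
theorem N30305 : nd 30305 = n63075 := ndS (p := 29573) (l := 3) rfl N29573 D63075
theorem N30306 : nd 30306 = n63076 := ndS (p := 29575) (l := 3) rfl N29575 D63076
theorem N30307 : nd 30307 = n63077 := ndS (p := 29575) (l := 5) rfl N29575 D63077
theorem N30308 : nd 30308 = n63078 := ndS (p := 29576) (l := 2) rfl N29576 D63078
theorem N30309 : nd 30309 = n63079 := ndS (p := 29576) (l := 8) rfl N29576 D63079
theorem N30310 : nd 30310 = n63080 := ndS (p := 29578) (l := 9) rfl N29578 D63080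
theorem N30311 : nd 30311 = n63081 := ndS (p := 29579) (l := 2) rfl N29579 D63081
theorem N30312 : nd 30312 = n63082 := ndS (p := 29579) (l := 8) rfl N29579 D63082
theorem N30313 : nd 30313 = n63083 := ndS (p := 29581) (l := 9) rfl N29581 D63083
theorem N30314 : nd 30314 = n63084 := ndS (p := 29584) (l := 3) rfl N29584 D63084
theorem N30315 : nd 30315 = n63085 := ndS (p := 29585) (l := 8) rfl N29585 D63085
theorem N30316 : nd 30316 = n63086 := ndS (p := 29587) (l := 8) rfl N29587 D63086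
theorem N30317 : nd 30317 = n63087 := ndS (p := 29588) (l := 9) rfl N29588 D63087
theorem N30318 : nd 30318 = n63088 := ndS (p := 29590) (l := 8) rfl N29590 D63088
theorem N30319 : nd 30319 = n63089 := ndS (p := 29591) (l := 9) rfl N29591 D63089
theorem N30320 : nd 30320 = n63090 := ndS (p := 29592) (l := 3) rfl N29592 D63090
theorem N30321 : nd 30321 = n63091 := ndS (p := 29592) (l := 9) rfl N29592 D63091
theorem N30322 : nd 30322 = n63092 := ndS (p := 29596) (l := 9) rfl N29596 D63092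
theorem N30323 : nd 30323 = n63093 := ndS (p := 29598) (l := 4) rfl N29598 D63093
theorem N30324 : nd 30324 = n63094 := ndS (p := 29599) (l := 3) rfl N29599 D63094
theorem N30325 : nd 30325 = n63095 := ndS (p := 29601) (l := 3) rfl N29601 D63095
theorem N30326 : nd 30326 = n63096 := ndS (p := 29601) (l := 5) rfl N29601 D63096
theorem N30327 : nd 30327 = n63097 := ndS (p := 29602) (l := 2) rfl N29602 D63097
theorem N30328 : nd 30328 = n63098 := ndS (p := 29605) (l := 3) rfl N29605 D63098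
theorem N30329 : nd 30329 = n63099 := ndS (p := 29606) (l := 2) rfl N29606 D63099
theorem N30330 : nd 30330 = n63100 := ndS (p := 29607) (l := 2) rfl N29607 D63100
theorem N30331 : nd 30331 = n63101 := ndS (p := 29607) (l := 8) rfl N29607 D63101
theorem N30332 : nd 30332 = n63102 := ndS (p := 29608) (l := 8) rfl N29608 D63102
theorem N30333 : nd 30333 = n63103 := ndS (p := 29611) (l := 4) rfl N29611 D63103
theorem N30334 : nd 30334 = n63104 := ndS (p := 29612) (l := 3) rfl N29612 D63104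
theorem N30335 : nd 30335 = n63105 := ndS (p := 29615) (l := 3) rfl N29615 D63105
theorem N30336 : nd 30336 = n63106 := ndS (p := 29616) (l := 2) rfl N29616 D63106
theorem N30337 : nd 30337 = n63107 := ndS (p := 29616) (l := 8) rfl N29616 D63107
theorem N30338 : nd 30338 = n63108 := ndS (p := 29617) (l := 9) rfl N29617 D63108
theorem N30339 : nd 30339 = n63109 := ndS (p := 29618) (l := 4) rfl N29618 D63109
theorem N30340 : nd 30340 = n63110 := ndS (p := 29619) (l := 5) rfl N29619 D63110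
theorem N30341 : nd 30341 = n63111 := ndS (p := 29621) (l := 3) rfl N29621 D63111
theorem N30342 : nd 30342 = n63112 := ndS (p := 29621) (l := 5) rfl N29621 D63112
theorem N30343 : nd 30343 = n63113 := ndS (p := 29622) (l := 5) rfl N29622 D63113
theorem N30344 : nd 30344 = n63114 := ndS (p := 29622) (l := 8) rfl N29622 D63114
theorem N30345 : nd 30345 = n63115 := ndS (p := 29624) (l := 8) rfl N29624 D63115
theorem N30346 : nd 30346 = n63116 := ndS (p := 29625) (l := 9) rfl N29625 D63116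
theorem N30347 : nd 30347 = n63117 := ndS (p := 29626) (l := 8) rfl N29626 D63117
theorem N30348 : nd 30348 = n63118 := ndS (p := 29627) (l := 9) rfl N29627 D63118
theorem N30349 : nd 30349 = n63119 := ndS (p := 29629) (l := 3) rfl N29629 D63119
theorem N30350 : nd 30350 = n63120 := ndS (p := 29631) (l := 2) rfl N29631 D63120
theorem N30351 : nd 30351 = n63121 := ndS (p := 29631) (l := 8) rfl N29631 D63121
theorem N30352 : nd 30352 = n63122 := ndS (p := 29634) (l := 9) rfl N29634 D63122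
theorem N30353 : nd 30353 = n63123 := ndS (p := 29636) (l := 1) rfl N29636 D63123
theorem N30354 : nd 30354 = n63124 := ndS (p := 29636) (l := 8) rfl N29636 D63124
theorem N30355 : nd 30355 = n63125 := ndS (p := 29637) (l := 9) rfl N29637 D63125
theorem N30356 : nd 30356 = n63126 := ndS (p := 29641) (l := 3) rfl N29641 D63126
theorem N30357 : nd 30357 = n63127 := ndS (p := 29642) (l := 2) rfl N29642 D63127
theorem N30358 : nd 30358 = n63128 := ndS (p := 29643) (l := 4) rfl N29643 D63128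
theorem N30359 : nd 30359 = n63129 := ndS (p := 29644) (l := 3) rfl N29644 D63129
theorem N30360 : nd 30360 = n63130 := ndS (p := 29644) (l := 5) rfl N29644 D63130
theorem N30361 : nd 30361 = n63131 := ndS (p := 29647) (l := 4) rfl N29647 D63131
theorem N30362 : nd 30362 = n63132 := ndS (p := 29648) (l := 3) rfl N29648 D63132
theorem N30363 : nd 30363 = n63133 := ndS (p := 29648) (l := 5) rfl N29648 D63133
theorem N30364 : nd 30364 = n63134 := ndS (p := 29649) (l := 5) rfl N29649 D63134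
theorem N30365 : nd 30365 = n63135 := ndS (p := 29649) (l := 8) rfl N29649 D63135
theorem N30366 : nd 30366 = n63136 := ndS (p := 29651) (l := 3) rfl N29651 D63136
theorem N30367 : nd 30367 = n63137 := ndS (p := 29651) (l := 5) rfl N29651 D63137
theorem N30368 : nd 30368 = n63138 := ndS (p := 29652) (l := 2) rfl N29652 D63138
theorem N30369 : nd 30369 = n63139 := ndS (p := 29652) (l := 5) rfl N29652 D63139
theorem N30370 : nd 30370 = n63140 := ndS (p := 29655) (l := 3) rfl N29655 D63140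
theorem N30371 : nd 30371 = n63141 := ndS (p := 29656) (l := 2) rfl N29656 D63141
theorem N30372 : nd 30372 = n63142 := ndS (p := 29656) (l := 8) rfl N29656 D63142
theorem N30373 : nd 30373 = n63143 := ndS (p := 29657) (l := 9) rfl N29657 D63143
theorem N30374 : nd 30374 = n63144 := ndS (p := 29658) (l := 2) rfl N29658 D63144
theorem N30375 : nd 30375 = n63145 := ndS (p := 29658) (l := 5) rfl N29658 D63145
theorem N30376 : nd 30376 = n63146 := ndS (p := 29658) (l := 8) rfl N29658 D63146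
theorem N30377 : nd 30377 = n63147 := ndS (p := 29660) (l := 5) rfl N29660 D63147
theorem N30378 : nd 30378 = n63148 := ndS (p := 29660) (l := 8) rfl N29660 D63148
theorem N30379 : nd 30379 = n63149 := ndS (p := 29661) (l := 4) rfl N29661 D63149
theorem N30380 : nd 30380 = n63150 := ndS (p := 29662) (l := 9) rfl N29662 D63150
theorem N30381 : nd 30381 = n63151 := ndS (p := 29666) (l := 4) rfl N29666 D63151
theorem N30382 : nd 30382 = n63152 := ndS (p := 29668) (l := 5) rfl N29668 D63152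
theorem N30383 : nd 30383 = n63153 := ndS (p := 29671) (l := 9) rfl N29671 D63153
theorem N30384 : nd 30384 = n63154 := ndS (p := 29674) (l := 9) rfl N29674 D63154
theorem N30385 : nd 30385 = n63155 := ndS (p := 29676) (l := 8) rfl N29676 D63155
theorem N30386 : nd 30386 = n63156 := ndS (p := 29677) (l := 3) rfl N29677 D63156
theorem N30387 : nd 30387 = n63157 := ndS (p := 29679) (l := 4) rfl N29679 D63157
theorem N30388 : nd 30388 = n63158 := ndS (p := 29682) (l := 1) rfl N29682 D63158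
theorem N30389 : nd 30389 = n63159 := ndS (p := 29683) (l := 8) rfl N29683 D63159
theorem N30390 : nd 30390 = n63160 := ndS (p := 29685) (l := 3) rfl N29685 D63160
theorem N30391 : nd 30391 = n63161 := ndS (p := 29689) (l := 3) rfl N29689 D63161
theorem N30392 : nd 30392 = n63162 := ndS (p := 29690) (l := 2) rfl N29690 D63162
theorem N30393 : nd 30393 = n63163 := ndS (p := 29693) (l := 3) rfl N29693 D63163
theorem N30394 : nd 30394 = n63164 := ndS (p := 29694) (l := 2) rfl N29694 D63164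
theorem N30395 : nd 30395 = n63165 := ndS (p := 29695) (l := 4) rfl N29695 D63165
theorem N30396 : nd 30396 = n63166 := ndS (p := 29697) (l := 5) rfl N29697 D63166
theorem N30397 : nd 30397 = n63167 := ndS (p := 29699) (l := 3) rfl N29699 D63167
theorem N30398 : nd 30398 = n63168 := ndS (p := 29700) (l := 2) rfl N29700 D63168
theorem N30399 : nd 30399 = n63169 := ndS (p := 29700) (l := 8) rfl N29700 D63169
theorem N30400 : nd 30400 = n63170 := ndS (p := 29701) (l := 9) rfl N29701 D63170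
theorem N30401 : nd 30401 = n63171 := ndS (p := 29702) (l := 5) rfl N29702 D63171
theorem N30402 : nd 30402 = n63172 := ndS (p := 29704) (l := 4) rfl N29704 D63172
theorem N30403 : nd 30403 = n63173 := ndS (p := 29705) (l := 3) rfl N29705 D63173
theorem N30404 : nd 30404 = n63174 := ndS (p := 29707) (l := 5) rfl N29707 D63174
theorem N30405 : nd 30405 = n63175 := ndS (p := 29708) (l := 6) rfl N29708 D63175
theorem N30406 : nd 30406 = n63176 := ndS (p := 29711) (l := 6) rfl N29711 D63176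
theorem N30407 : nd 30407 = n63177 := ndS (p := 29713) (l := 3) rfl N29713 D63177
theorem N30408 : nd 30408 = n63178 := ndS (p := 29713) (l := 5) rfl N29713 D63178
theorem N30409 : nd 30409 = n63179 := ndS (p := 29717) (l := 3) rfl N29717 D63179
theorem N30410 : nd 30410 = n63180 := ndS (p := 29718) (l := 2) rfl N29718 D63180
theorem N30411 : nd 30411 = n63181 := ndS (p := 29720) (l := 3) rfl N29720 D63181
theorem N30412 : nd 30412 = n63182 := ndS (p := 29722) (l := 3) rfl N29722 D63182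
theorem N30413 : nd 30413 = n63183 := ndS (p := 29723) (l := 2) rfl N29723 D63183
theorem N30414 : nd 30414 = n63184 := ndS (p := 29724) (l := 4) rfl N29724 D63184
theorem N30415 : nd 30415 = n63185 := ndS (p := 29725) (l := 3) rfl N29725 D63185
theorem N30416 : nd 30416 = n63186 := ndS (p := 29725) (l := 5) rfl N29725 D63186
theorem N30417 : nd 30417 = n63187 := ndS (p := 29728) (l := 5) rfl N29728 D63187
theorem N30418 : nd 30418 = n63188 := ndS (p := 29730) (l := 4) rfl N29730 D63188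
theorem N30419 : nd 30419 = n63189 := ndS (p := 29731) (l := 3) rfl N29731 D63189
theorem N30420 : nd 30420 = n63190 := ndS (p := 29734) (l := 4) rfl N29734 D63190
theorem N30421 : nd 30421 = n63191 := ndS (p := 29735) (l := 3) rfl N29735 D63191
theorem N30422 : nd 30422 = n63192 := ndS (p := 29737) (l := 3) rfl N29737 D63192
theorem N30423 : nd 30423 = n63193 := ndS (p := 29738) (l := 2) rfl N29738 D63193
theorem N30424 : nd 30424 = n63194 := ndS (p := 29739) (l := 3) rfl N29739 D63194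
theorem N30425 : nd 30425 = n63195 := ndS (p := 29740) (l := 2) rfl N29740 D63195
theorem N30426 : nd 30426 = n63196 := ndS (p := 29741) (l := 3) rfl N29741 D63196
theorem N30427 : nd 30427 = n63197 := ndS (p := 29742) (l := 2) rfl N29742 D63197
theorem N30428 : nd 30428 = n63198 := ndS (p := 29743) (l := 2) rfl N29743 D63198
theorem N30429 : nd 30429 = n63199 := ndS (p := 29745) (l := 3) rfl N29745 D63199
theorem N30430 : nd 30430 = n63200 := ndS (p := 29745) (l := 5) rfl N29745 D63200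
theorem N30431 : nd 30431 = n63201 := ndS (p := 29746) (l := 2) rfl N29746 D63201
theorem N30432 : nd 30432 = n63202 := ndS (p := 29749) (l := 2) rfl N29749 D63202
theorem N30433 : nd 30433 = n63203 := ndS (p := 29749) (l := 8) rfl N29749 D63203
theorem N30434 : nd 30434 = n63204 := ndS (p := 29750) (l := 8) rfl N29750 D63204
theorem N30435 : nd 30435 = n63205 := ndS (p := 29751) (l := 9) rfl N29751 D63205
theorem N30436 : nd 30436 = n63206 := ndS (p := 29754) (l := 4) rfl N29754 D63206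
theorem N30437 : nd 30437 = n63207 := ndS (p := 29755) (l := 3) rfl N29755 D63207
theorem N30438 : nd 30438 = n63208 := ndS (p := 29757) (l := 3) rfl N29757 D63208
theorem N30439 : nd 30439 = n63209 := ndS (p := 29758) (l := 2) rfl N29758 D63209
theorem N30440 : nd 30440 = n63210 := ndS (p := 29759) (l := 5) rfl N29759 D63210
theorem N30441 : nd 30441 = n63211 := ndS (p := 29760) (l := 6) rfl N29760 D63211
theorem N30442 : nd 30442 = n63212 := ndS (p := 29762) (l := 6) rfl N29762 D63212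
theorem N30443 : nd 30443 = n63213 := ndS (p := 29766) (l := 3) rfl N29766 D63213
theorem N30444 : nd 30444 = n63214 := ndS (p := 29767) (l := 2) rfl N29767 D63214
theorem N30445 : nd 30445 = n63215 := ndS (p := 29769) (l := 3) rfl N29769 D63215
theorem N30446 : nd 30446 = n63216 := ndS (p := 29770) (l := 2) rfl N29770 D63216
theorem N30447 : nd 30447 = n63217 := ndS (p := 29771) (l := 3) rfl N29771 D63217
theorem N30448 : nd 30448 = n63218 := ndS (p := 29772) (l := 2) rfl N29772 D63218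
theorem N30449 : nd 30449 = n63219 := ndS (p := 29773) (l := 2) rfl N29773 D63219
theorem N30450 : nd 30450 = n63220 := ndS (p := 29778) (l := 4) rfl N29778 D63220
theorem N30451 : nd 30451 = n63221 := ndS (p := 29779) (l := 3) rfl N29779 D63221
theorem N30452 : nd 30452 = n63222 := ndS (p := 29779) (l := 5) rfl N29779 D63222
theorem N30453 : nd 30453 = n63223 := ndS (p := 29782) (l := 3) rfl N29782 D63223
theorem N30454 : nd 30454 = n63224 := ndS (p := 29782) (l := 5) rfl N29782 D63224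
theorem N30455 : nd 30455 = n63225 := ndS (p := 29783) (l := 2) rfl N29783 D63225
theorem N30456 : nd 30456 = n63226 := ndS (p := 29786) (l := 4) rfl N29786 D63226
theorem N30457 : nd 30457 = n63227 := ndS (p := 29787) (l := 3) rfl N29787 D63227
theorem N30458 : nd 30458 = n63228 := ndS (p := 29787) (l := 5) rfl N29787 D63228
theorem N30459 : nd 30459 = n63229 := ndS (p := 29790) (l := 3) rfl N29790 D63229
theorem N30460 : nd 30460 = n63230 := ndS (p := 29790) (l := 5) rfl N29790 D63230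
theorem N30461 : nd 30461 = n63231 := ndS (p := 29791) (l := 2) rfl N29791 D63231
theorem N30462 : nd 30462 = n63232 := ndS (p := 29793) (l := 5) rfl N29793 D63232
theorem N30463 : nd 30463 = n63233 := ndS (p := 29798) (l := 3) rfl N29798 D63233
theorem N30464 : nd 30464 = n63234 := ndS (p := 29799) (l := 2) rfl N29799 D63234
theorem N30465 : nd 30465 = n63235 := ndS (p := 29800) (l := 3) rfl N29800 D63235
theorem N30466 : nd 30466 = n63236 := ndS (p := 29801) (l := 2) rfl N29801 D63236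
theorem N30467 : nd 30467 = n63237 := ndS (p := 29802) (l := 2) rfl N29802 D63237
theorem N30468 : nd 30468 = n63238 := ndS (p := 29805) (l := 3) rfl N29805 D63238
theorem N30469 : nd 30469 = n63239 := ndS (p := 29806) (l := 2) rfl N29806 D63239
theorem N30470 : nd 30470 = n63240 := ndS (p := 29807) (l := 3) rfl N29807 D63240
theorem N30471 : nd 30471 = n63241 := ndS (p := 29808) (l := 2) rfl N29808 D63241
theorem N30472 : nd 30472 = n63242 := ndS (p := 29809) (l := 2) rfl N29809 D63242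
theorem N30473 : nd 30473 = n63243 := ndS (p := 29812) (l := 3) rfl N29812 D63243
theorem N30474 : nd 30474 = n63244 := ndS (p := 29813) (l := 2) rfl N29813 D63244
theorem N30475 : nd 30475 = n63245 := ndS (p := 29814) (l := 3) rfl N29814 D63245
theorem N30476 : nd 30476 = n63246 := ndS (p := 29815) (l := 2) rfl N29815 D63246
theorem N30477 : nd 30477 = n63247 := ndS (p := 29816) (l := 2) rfl N29816 D63247
theorem N30478 : nd 30478 = n63248 := ndS (p := 29818) (l := 2) rfl N29818 D63248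
theorem N30479 : nd 30479 = n63249 := ndS (p := 29824) (l := 3) rfl N29824 D63249
theorem N30480 : nd 30480 = n63250 := ndS (p := 29825) (l := 2) rfl N29825 D63250
theorem N30481 : nd 30481 = n63251 := ndS (p := 29826) (l := 2) rfl N29826 D63251
theorem N30482 : nd 30482 = n63252 := ndS (p := 29829) (l := 3) rfl N29829 D63252
theorem N30483 : nd 30483 = n63253 := ndS (p := 29830) (l := 2) rfl N29830 D63253
theorem N30484 : nd 30484 = n63254 := ndS (p := 29830) (l := 8) rfl N29830 D63254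
theorem N30485 : nd 30485 = n63255 := ndS (p := 29831) (l := 9) rfl N29831 D63255
theorem N30486 : nd 30486 = n63256 := ndS (p := 29832) (l := 8) rfl N29832 D63256
theorem N30487 : nd 30487 = n63257 := ndS (p := 29833) (l := 9) rfl N29833 D63257
theorem N30488 : nd 30488 = n63258 := ndS (p := 29835) (l := 4) rfl N29835 D63258
theorem N30489 : nd 30489 = n63259 := ndS (p := 29836) (l := 3) rfl N29836 D63259
theorem N30490 : nd 30490 = n63260 := ndS (p := 29838) (l := 3) rfl N29838 D63260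
theorem N30491 : nd 30491 = n63261 := ndS (p := 29839) (l := 2) rfl N29839 D63261
theorem N30492 : nd 30492 = n63262 := ndS (p := 29840) (l := 3) rfl N29840 D63262
theorem N30493 : nd 30493 = n63263 := ndS (p := 29841) (l := 2) rfl N29841 D63263
theorem N30494 : nd 30494 = n63264 := ndS (p := 29842) (l := 2) rfl N29842 D63264
theorem N30495 : nd 30495 = n63265 := ndS (p := 29845) (l := 2) rfl N29845 D63265
theorem N30496 : nd 30496 = n63266 := ndS (p := 29847) (l := 2) rfl N29847 D63266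
theorem N30497 : nd 30497 = n63267 := ndS (p := 29849) (l := 1) rfl N29849 D63267
theorem N30498 : nd 30498 = n63268 := ndS (p := 29849) (l := 8) rfl N29849 D63268
theorem N30499 : nd 30499 = n63269 := ndS (p := 29851) (l := 3) rfl N29851 D63269
theorem N30500 : nd 30500 = n63270 := ndS (p := 29854) (l := 9) rfl N29854 D63270
theorem N30501 : nd 30501 = n63271 := ndS (p := 29858) (l := 8) rfl N29858 D63271
theorem N30502 : nd 30502 = n63272 := ndS (p := 29859) (l := 9) rfl N29859 D63272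
theorem N30503 : nd 30503 = n63273 := ndS (p := 29862) (l := 9) rfl N29862 D63273
theorem N30504 : nd 30504 = n63274 := ndS (p := 29864) (l := 4) rfl N29864 D63274
theorem N30505 : nd 30505 = n63275 := ndS (p := 29865) (l := 3) rfl N29865 D63275
theorem N30506 : nd 30506 = n63276 := ndS (p := 29866) (l := 8) rfl N29866 D63276
theorem N30507 : nd 30507 = n63277 := ndS (p := 29867) (l := 4) rfl N29867 D63277
theorem N30508 : nd 30508 = n63278 := ndS (p := 29868) (l := 3) rfl N29868 D63278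
theorem N30509 : nd 30509 = n63279 := ndS (p := 29868) (l := 5) rfl N29868 D63279
theorem N30510 : nd 30510 = n63280 := ndS (p := 29869) (l := 5) rfl N29869 D63280
theorem N30511 : nd 30511 = n63281 := ndS (p := 29870) (l := 6) rfl N29870 D63281
theorem N30512 : nd 30512 = n63282 := ndS (p := 29873) (l := 4) rfl N29873 D63282
theorem N30513 : nd 30513 = n63283 := ndS (p := 29874) (l := 3) rfl N29874 D63283
theorem N30514 : nd 30514 = n63284 := ndS (p := 29874) (l := 5) rfl N29874 D63284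
theorem N30515 : nd 30515 = n63285 := ndS (p := 29875) (l := 5) rfl N29875 D63285
theorem N30516 : nd 30516 = n63286 := ndS (p := 29876) (l := 6) rfl N29876 D63286
theorem N30517 : nd 30517 = n63287 := ndS (p := 29878) (l := 4) rfl N29878 D63287
theorem N30518 : nd 30518 = n63288 := ndS (p := 29879) (l := 3) rfl N29879 D63288
theorem N30519 : nd 30519 = n63289 := ndS (p := 29879) (l := 5) rfl N29879 D63289
theorem N30520 : nd 30520 = n63290 := ndS (p := 29880) (l := 5) rfl N29880 D63290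
theorem N30521 : nd 30521 = n63291 := ndS (p := 29880) (l := 8) rfl N29880 D63291
theorem N30522 : nd 30522 = n63292 := ndS (p := 29881) (l := 6) rfl N29881 D63292
theorem N30523 : nd 30523 = n63293 := ndS (p := 29883) (l := 5) rfl N29883 D63293
theorem N30524 : nd 30524 = n63294 := ndS (p := 29884) (l := 6) rfl N29884 D63294
theorem N30525 : nd 30525 = n63295 := ndS (p := 29886) (l := 3) rfl N29886 D63295
theorem N30526 : nd 30526 = n63296 := ndS (p := 29887) (l := 2) rfl N29887 D63296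
theorem N30527 : nd 30527 = n63297 := ndS (p := 29887) (l := 8) rfl N29887 D63297
theorem N30528 : nd 30528 = n63298 := ndS (p := 29888) (l := 9) rfl N29888 D63298
theorem N30529 : nd 30529 = n63299 := ndS (p := 29889) (l := 4) rfl N29889 D63299
theorem N30530 : nd 30530 = n63300 := ndS (p := 29890) (l := 3) rfl N29890 D63300
theorem N30531 : nd 30531 = n63301 := ndS (p := 29890) (l := 5) rfl N29890 D63301
theorem N30532 : nd 30532 = n63302 := ndS (p := 29892) (l := 6) rfl N29892 D63302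
theorem N30533 : nd 30533 = n63303 := ndS (p := 29894) (l := 5) rfl N29894 D63303
theorem N30534 : nd 30534 = n63304 := ndS (p := 29895) (l := 6) rfl N29895 D63304
theorem N30535 : nd 30535 = n63305 := ndS (p := 29897) (l := 4) rfl N29897 D63305
theorem N30536 : nd 30536 = n63306 := ndS (p := 29898) (l := 3) rfl N29898 D63306
theorem N30537 : nd 30537 = n63307 := ndS (p := 29898) (l := 5) rfl N29898 D63307
theorem N30538 : nd 30538 = n63308 := ndS (p := 29899) (l := 8) rfl N29899 D63308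
theorem N30539 : nd 30539 = n63309 := ndS (p := 29901) (l := 3) rfl N29901 D63309
theorem N30540 : nd 30540 = n63310 := ndS (p := 29902) (l := 8) rfl N29902 D63310
theorem N30541 : nd 30541 = n63311 := ndS (p := 29904) (l := 4) rfl N29904 D63311
theorem N30542 : nd 30542 = n63312 := ndS (p := 29905) (l := 3) rfl N29905 D63312
theorem N30543 : nd 30543 = n63313 := ndS (p := 29905) (l := 5) rfl N29905 D63313
theorem N30544 : nd 30544 = n63314 := ndS (p := 29906) (l := 5) rfl N29906 D63314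
theorem N30545 : nd 30545 = n63315 := ndS (p := 29908) (l := 3) rfl N29908 D63315
theorem N30546 : nd 30546 = n63316 := ndS (p := 29908) (l := 5) rfl N29908 D63316
theorem N30547 : nd 30547 = n63317 := ndS (p := 29909) (l := 2) rfl N29909 D63317
theorem N30548 : nd 30548 = n63318 := ndS (p := 29909) (l := 5) rfl N29909 D63318
theorem N30549 : nd 30549 = n63319 := ndS (p := 29911) (l := 4) rfl N29911 D63319
theorem N30550 : nd 30550 = n63320 := ndS (p := 29913) (l := 8) rfl N29913 D63320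
theorem N30551 : nd 30551 = n63321 := ndS (p := 29914) (l := 9) rfl N29914 D63321
theorem N30552 : nd 30552 = n63322 := ndS (p := 29917) (l := 3) rfl N29917 D63322
theorem N30553 : nd 30553 = n63323 := ndS (p := 29917) (l := 5) rfl N29917 D63323
theorem N30554 : nd 30554 = n63324 := ndS (p := 29919) (l := 6) rfl N29919 D63324
theorem N30555 : nd 30555 = n63325 := ndS (p := 29921) (l := 6) rfl N29921 D63325
theorem N30556 : nd 30556 = n63326 := ndS (p := 29923) (l := 3) rfl N29923 D63326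
theorem N30557 : nd 30557 = n63327 := ndS (p := 29923) (l := 5) rfl N29923 D63327
theorem N30558 : nd 30558 = n63328 := ndS (p := 29927) (l := 4) rfl N29927 D63328
theorem N30559 : nd 30559 = n63329 := ndS (p := 29930) (l := 4) rfl N29930 D63329
theorem N30560 : nd 30560 = n63330 := ndS (p := 29931) (l := 3) rfl N29931 D63330
theorem N30561 : nd 30561 = n63331 := ndS (p := 29931) (l := 5) rfl N29931 D63331
theorem N30562 : nd 30562 = n63332 := ndS (p := 29932) (l := 5) rfl N29932 D63332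
theorem N30563 : nd 30563 = n63333 := ndS (p := 29932) (l := 8) rfl N29932 D63333
theorem N30564 : nd 30564 = n63334 := ndS (p := 29934) (l := 3) rfl N29934 D63334
theorem N30565 : nd 30565 = n63335 := ndS (p := 29934) (l := 5) rfl N29934 D63335
theorem N30566 : nd 30566 = n63336 := ndS (p := 29935) (l := 2) rfl N29935 D63336
theorem N30567 : nd 30567 = n63337 := ndS (p := 29935) (l := 5) rfl N29935 D63337
theorem N30568 : nd 30568 = n63338 := ndS (p := 29935) (l := 8) rfl N29935 D63338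
theorem N30569 : nd 30569 = n63339 := ndS (p := 29938) (l := 9) rfl N29938 D63339
theorem N30570 : nd 30570 = n63340 := ndS (p := 29939) (l := 5) rfl N29939 D63340
theorem N30571 : nd 30571 = n63341 := ndS (p := 29940) (l := 6) rfl N29940 D63341
theorem N30572 : nd 30572 = n63342 := ndS (p := 29942) (l := 6) rfl N29942 D63342
theorem N30573 : nd 30573 = n63343 := ndS (p := 29944) (l := 8) rfl N29944 D63343
theorem N30574 : nd 30574 = n63344 := ndS (p := 29946) (l := 9) rfl N29946 D63344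
theorem N30575 : nd 30575 = n63345 := ndS (p := 29949) (l := 9) rfl N29949 D63345
theorem N30576 : nd 30576 = n63346 := ndS (p := 29952) (l := 4) rfl N29952 D63346
theorem N30577 : nd 30577 = n63347 := ndS (p := 29953) (l := 3) rfl N29953 D63347
theorem N30578 : nd 30578 = n63348 := ndS (p := 29956) (l := 3) rfl N29956 D63348
theorem N30579 : nd 30579 = n63349 := ndS (p := 29957) (l := 2) rfl N29957 D63349
theorem N30580 : nd 30580 = n63350 := ndS (p := 29958) (l := 3) rfl N29958 D63350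
theorem N30581 : nd 30581 = n63351 := ndS (p := 29959) (l := 2) rfl N29959 D63351
theorem N30582 : nd 30582 = n63352 := ndS (p := 29960) (l := 3) rfl N29960 D63352
theorem N30583 : nd 30583 = n63353 := ndS (p := 29961) (l := 2) rfl N29961 D63353
theorem N30584 : nd 30584 = n63354 := ndS (p := 29962) (l := 3) rfl N29962 D63354
theorem N30585 : nd 30585 = n63355 := ndS (p := 29963) (l := 2) rfl N29963 D63355
theorem N30586 : nd 30586 = n63356 := ndS (p := 29963) (l := 8) rfl N29963 D63356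
theorem N30587 : nd 30587 = n63357 := ndS (p := 29964) (l := 9) rfl N29964 D63357
theorem N30588 : nd 30588 = n63358 := ndS (p := 29966) (l := 4) rfl N29966 D63358
theorem N30589 : nd 30589 = n63359 := ndS (p := 29967) (l := 5) rfl N29967 D63359
theorem N30590 : nd 30590 = n63360 := ndS (p := 29969) (l := 4) rfl N29969 D63360
theorem N30591 : nd 30591 = n63361 := ndS (p := 29970) (l := 3) rfl N29970 D63361
theorem N30592 : nd 30592 = n63362 := ndS (p := 29970) (l := 5) rfl N29970 D63362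
theorem N30593 : nd 30593 = n63363 := ndS (p := 29971) (l := 5) rfl N29971 D63363
theorem N30594 : nd 30594 = n63364 := ndS (p := 29972) (l := 6) rfl N29972 D63364
theorem N30595 : nd 30595 = n63365 := ndS (p := 29974) (l := 4) rfl N29974 D63365
theorem N30596 : nd 30596 = n63366 := ndS (p := 29975) (l := 3) rfl N29975 D63366
theorem N30597 : nd 30597 = n63367 := ndS (p := 29975) (l := 5) rfl N29975 D63367
theorem N30598 : nd 30598 = n63368 := ndS (p := 29976) (l := 5) rfl N29976 D63368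
theorem N30599 : nd 30599 = n63369 := ndS (p := 29977) (l := 6) rfl N29977 D63369
theorem N30600 : nd 30600 = n63370 := ndS (p := 29979) (l := 5) rfl N29979 D63370
theorem N30601 : nd 30601 = n63371 := ndS (p := 29980) (l := 6) rfl N29980 D63371
theorem N30602 : nd 30602 = n63372 := ndS (p := 29982) (l := 4) rfl N29982 D63372
theorem N30603 : nd 30603 = n63373 := ndS (p := 29983) (l := 3) rfl N29983 D63373
theorem N30604 : nd 30604 = n63374 := ndS (p := 29983) (l := 5) rfl N29983 D63374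
theorem N30605 : nd 30605 = n63375 := ndS (p := 29984) (l := 5) rfl N29984 D63375
theorem N30606 : nd 30606 = n63376 := ndS (p := 29986) (l := 3) rfl N29986 D63376
theorem N30607 : nd 30607 = n63377 := ndS (p := 29987) (l := 2) rfl N29987 D63377
theorem N30608 : nd 30608 = n63378 := ndS (p := 29987) (l := 8) rfl N29987 D63378
theorem N30609 : nd 30609 = n63379 := ndS (p := 29989) (l := 4) rfl N29989 D63379
theorem N30610 : nd 30610 = n63380 := ndS (p := 29991) (l := 3) rfl N29991 D63380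
theorem N30611 : nd 30611 = n63381 := ndS (p := 29991) (l := 5) rfl N29991 D63381
theorem N30612 : nd 30612 = n63382 := ndS (p := 29992) (l := 8) rfl N29992 D63382
theorem N30613 : nd 30613 = n63383 := ndS (p := 29995) (l := 3) rfl N29995 D63383
theorem N30614 : nd 30614 = n63384 := ndS (p := 29995) (l := 5) rfl N29995 D63384
theorem N30615 : nd 30615 = n63385 := ndS (p := 29996) (l := 2) rfl N29996 D63385
theorem N30616 : nd 30616 = n63386 := ndS (p := 29996) (l := 5) rfl N29996 D63386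
theorem N30617 : nd 30617 = n63387 := ndS (p := 29998) (l := 4) rfl N29998 D63387
theorem N30618 : nd 30618 = n63388 := ndS (p := 29999) (l := 3) rfl N29999 D63388
theorem N30619 : nd 30619 = n63389 := ndS (p := 29999) (l := 5) rfl N29999 D63389
theorem N30620 : nd 30620 = n63390 := ndS (p := 30000) (l := 2) rfl N30000 D63390
theorem N30621 : nd 30621 = n63391 := ndS (p := 30000) (l := 5) rfl N30000 D63391
theorem N30622 : nd 30622 = n63392 := ndS (p := 30000) (l := 8) rfl N30000 D63392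
theorem N30623 : nd 30623 = n63393 := ndS (p := 30002) (l := 8) rfl N30002 D63393
theorem N30624 : nd 30624 = n63394 := ndS (p := 30004) (l := 6) rfl N30004 D63394
theorem N30625 : nd 30625 = n63395 := ndS (p := 30006) (l := 2) rfl N30006 D63395
theorem N30626 : nd 30626 = n63396 := ndS (p := 30006) (l := 8) rfl N30006 D63396
theorem N30627 : nd 30627 = n63397 := ndS (p := 30007) (l := 8) rfl N30007 D63397
theorem N30628 : nd 30628 = n63398 := ndS (p := 30008) (l := 9) rfl N30008 D63398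
theorem N30629 : nd 30629 = n63399 := ndS (p := 30010) (l := 4) rfl N30010 D63399
theorem N30630 : nd 30630 = n63400 := ndS (p := 30011) (l := 3) rfl N30011 D63400
theorem N30631 : nd 30631 = n63401 := ndS (p := 30011) (l := 5) rfl N30011 D63401
theorem N30632 : nd 30632 = n63402 := ndS (p := 30012) (l := 5) rfl N30012 D63402
theorem N30633 : nd 30633 = n63403 := ndS (p := 30012) (l := 8) rfl N30012 D63403
theorem N30634 : nd 30634 = n63404 := ndS (p := 30014) (l := 3) rfl N30014 D63404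
theorem N30635 : nd 30635 = n63405 := ndS (p := 30015) (l := 2) rfl N30015 D63405
theorem N30636 : nd 30636 = n63406 := ndS (p := 30015) (l := 8) rfl N30015 D63406
theorem N30637 : nd 30637 = n63407 := ndS (p := 30016) (l := 9) rfl N30016 D63407
theorem N30638 : nd 30638 = n63408 := ndS (p := 30018) (l := 3) rfl N30018 D63408
theorem N30639 : nd 30639 = n63409 := ndS (p := 30019) (l := 2) rfl N30019 D63409
theorem N30640 : nd 30640 = n63410 := ndS (p := 30021) (l := 5) rfl N30021 D63410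
theorem N30641 : nd 30641 = n63411 := ndS (p := 30023) (l := 8) rfl N30023 D63411
theorem N30642 : nd 30642 = n63412 := ndS (p := 30025) (l := 3) rfl N30025 D63412
theorem N30643 : nd 30643 = n63413 := ndS (p := 30026) (l := 2) rfl N30026 D63413
theorem N30644 : nd 30644 = n63414 := ndS (p := 30027) (l := 3) rfl N30027 D63414
theorem N30645 : nd 30645 = n63415 := ndS (p := 30028) (l := 2) rfl N30028 D63415
theorem N30646 : nd 30646 = n63416 := ndS (p := 30029) (l := 2) rfl N30029 D63416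
theorem N30647 : nd 30647 = n63417 := ndS (p := 30029) (l := 5) rfl N30029 D63417
theorem N30648 : nd 30648 = n63418 := ndS (p := 30031) (l := 5) rfl N30031 D63418
theorem N30649 : nd 30649 = n63419 := ndS (p := 30032) (l := 4) rfl N30032 D63419
theorem N30650 : nd 30650 = n63420 := ndS (p := 30035) (l := 9) rfl N30035 D63420
theorem N30651 : nd 30651 = n63421 := ndS (p := 30037) (l := 4) rfl N30037 D63421
theorem N30652 : nd 30652 = n63422 := ndS (p := 30038) (l := 3) rfl N30038 D63422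
theorem N30653 : nd 30653 = n63423 := ndS (p := 30040) (l := 3) rfl N30040 D63423
theorem N30654 : nd 30654 = n63424 := ndS (p := 30040) (l := 5) rfl N30040 D63424
theorem N30655 : nd 30655 = n63425 := ndS (p := 30041) (l := 2) rfl N30041 D63425
theorem N30656 : nd 30656 = n63426 := ndS (p := 30041) (l := 5) rfl N30041 D63426
theorem N30657 : nd 30657 = n63427 := ndS (p := 30041) (l := 8) rfl N30041 D63427
theorem N30658 : nd 30658 = n63428 := ndS (p := 30045) (l := 2) rfl N30045 D63428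
theorem N30659 : nd 30659 = n63429 := ndS (p := 30045) (l := 8) rfl N30045 D63429
theorem N30660 : nd 30660 = n63430 := ndS (p := 30046) (l := 8) rfl N30046 D63430
theorem N30661 : nd 30661 = n63431 := ndS (p := 30047) (l := 9) rfl N30047 D63431
theorem N30662 : nd 30662 = n63432 := ndS (p := 30060) (l := 4) rfl N30060 D63432
theorem N30663 : nd 30663 = n63433 := ndS (p := 30061) (l := 3) rfl N30061 D63433
theorem N30664 : nd 30664 = n63434 := ndS (p := 30061) (l := 5) rfl N30061 D63434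
theorem N30665 : nd 30665 = n63435 := ndS (p := 30064) (l := 4) rfl N30064 D63435
theorem N30666 : nd 30666 = n63436 := ndS (p := 30065) (l := 3) rfl N30065 D63436
theorem N30667 : nd 30667 = n63437 := ndS (p := 30065) (l := 5) rfl N30065 D63437
theorem N30668 : nd 30668 = n63438 := ndS (p := 30068) (l := 5) rfl N30068 D63438
theorem N30669 : nd 30669 = n63439 := ndS (p := 30070) (l := 3) rfl N30070 D63439
theorem N30670 : nd 30670 = n63440 := ndS (p := 30071) (l := 2) rfl N30071 D63440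
theorem N30671 : nd 30671 = n63441 := ndS (p := 30073) (l := 3) rfl N30073 D63441
theorem N30672 : nd 30672 = n63442 := ndS (p := 30073) (l := 5) rfl N30073 D63442
theorem N30673 : nd 30673 = n63443 := ndS (p := 30074) (l := 2) rfl N30074 D63443
theorem N30674 : nd 30674 = n63444 := ndS (p := 30074) (l := 5) rfl N30074 D63444
theorem N30675 : nd 30675 = n63445 := ndS (p := 30082) (l := 4) rfl N30082 D63445
theorem N30676 : nd 30676 = n63446 := ndS (p := 30083) (l := 3) rfl N30083 D63446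
theorem N30677 : nd 30677 = n63447 := ndS (p := 30083) (l := 5) rfl N30083 D63447
theorem N30678 : nd 30678 = n63448 := ndS (p := 30085) (l := 6) rfl N30085 D63448
theorem N30679 : nd 30679 = n63449 := ndS (p := 30087) (l := 4) rfl N30087 D63449
theorem N30680 : nd 30680 = n63450 := ndS (p := 30088) (l := 3) rfl N30088 D63450
theorem N30681 : nd 30681 = n63451 := ndS (p := 30088) (l := 5) rfl N30088 D63451
theorem N30682 : nd 30682 = n63452 := ndS (p := 30089) (l := 5) rfl N30089 D63452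
theorem N30683 : nd 30683 = n63453 := ndS (p := 30089) (l := 8) rfl N30089 D63453
theorem N30684 : nd 30684 = n63454 := ndS (p := 30090) (l := 6) rfl N30090 D63454
theorem N30685 : nd 30685 = n63455 := ndS (p := 30092) (l := 5) rfl N30092 D63455
theorem N30686 : nd 30686 = n63456 := ndS (p := 30093) (l := 6) rfl N30093 D63456
theorem N30687 : nd 30687 = n63457 := ndS (p := 30095) (l := 3) rfl N30095 D63457
theorem N30688 : nd 30688 = n63458 := ndS (p := 30096) (l := 2) rfl N30096 D63458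
theorem N30689 : nd 30689 = n63459 := ndS (p := 30096) (l := 8) rfl N30096 D63459
theorem N30690 : nd 30690 = n63460 := ndS (p := 30099) (l := 3) rfl N30099 D63460
theorem N30691 : nd 30691 = n63461 := ndS (p := 30099) (l := 5) rfl N30099 D63461
theorem N30692 : nd 30692 = n63462 := ndS (p := 30100) (l := 2) rfl N30100 D63462
theorem N30693 : nd 30693 = n63463 := ndS (p := 30100) (l := 5) rfl N30100 D63463
theorem N30694 : nd 30694 = n63464 := ndS (p := 30102) (l := 4) rfl N30102 D63464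
theorem N30695 : nd 30695 = n63465 := ndS (p := 30104) (l := 8) rfl N30104 D63465
theorem N30696 : nd 30696 = n63466 := ndS (p := 30105) (l := 9) rfl N30105 D63466
theorem N30697 : nd 30697 = n63467 := ndS (p := 30109) (l := 8) rfl N30109 D63467
theorem N30698 : nd 30698 = n63468 := ndS (p := 30111) (l := 9) rfl N30111 D63468
theorem N30699 : nd 30699 = n63469 := ndS (p := 30113) (l := 9) rfl N30113 D63469
theorem N30700 : nd 30700 = n63470 := ndS (p := 30116) (l := 4) rfl N30116 D63470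
theorem N30701 : nd 30701 = n63471 := ndS (p := 30117) (l := 3) rfl N30117 D63471
theorem N30702 : nd 30702 = n63472 := ndS (p := 30119) (l := 3) rfl N30119 D63472
theorem N30703 : nd 30703 = n63473 := ndS (p := 30120) (l := 2) rfl N30120 D63473
theorem N30704 : nd 30704 = n63474 := ndS (p := 30121) (l := 3) rfl N30121 D63474
theorem N30705 : nd 30705 = n63475 := ndS (p := 30121) (l := 5) rfl N30121 D63475
theorem N30706 : nd 30706 = n63476 := ndS (p := 30122) (l := 5) rfl N30122 D63476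
theorem N30707 : nd 30707 = n63477 := ndS (p := 30122) (l := 8) rfl N30122 D63477
theorem N30708 : nd 30708 = n63478 := ndS (p := 30123) (l := 6) rfl N30123 D63478
theorem N30709 : nd 30709 = n63479 := ndS (p := 30128) (l := 3) rfl N30128 D63479
theorem N30710 : nd 30710 = n63480 := ndS (p := 30128) (l := 5) rfl N30128 D63480
theorem N30711 : nd 30711 = n63481 := ndS (p := 30129) (l := 2) rfl N30129 D63481
theorem N30712 : nd 30712 = n63482 := ndS (p := 30129) (l := 5) rfl N30129 D63482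
theorem N30713 : nd 30713 = n63483 := ndS (p := 30130) (l := 6) rfl N30130 D63483
theorem N30714 : nd 30714 = n63484 := ndS (p := 30131) (l := 4) rfl N30131 D63484
theorem N30715 : nd 30715 = n63485 := ndS (p := 30131) (l := 6) rfl N30131 D63485
theorem N30716 : nd 30716 = n63486 := ndS (p := 30133) (l := 3) rfl N30133 D63486
theorem N30717 : nd 30717 = n63487 := ndS (p := 30133) (l := 5) rfl N30133 D63487
theorem N30718 : nd 30718 = n63488 := ndS (p := 30134) (l := 2) rfl N30134 D63488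
theorem N30719 : nd 30719 = n63489 := ndS (p := 30134) (l := 5) rfl N30134 D63489
theorem N30720 : nd 30720 = n63490 := ndS (p := 30134) (l := 8) rfl N30134 D63490
theorem N30721 : nd 30721 = n63491 := ndS (p := 30135) (l := 6) rfl N30135 D63491
theorem N30722 : nd 30722 = n63492 := ndS (p := 30136) (l := 6) rfl N30136 D63492
theorem N30723 : nd 30723 = n63493 := ndS (p := 30136) (l := 8) rfl N30136 D63493
theorem N30724 : nd 30724 = n63494 := ndS (p := 30139) (l := 6) rfl N30139 D63494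
theorem N30725 : nd 30725 = n63495 := ndS (p := 30140) (l := 7) rfl N30140 D63495
theorem N30726 : nd 30726 = n63496 := ndS (p := 30142) (l := 2) rfl N30142 D63496
theorem N30727 : nd 30727 = n63497 := ndS (p := 30142) (l := 8) rfl N30142 D63497
theorem N30728 : nd 30728 = n63498 := ndS (p := 30143) (l := 8) rfl N30143 D63498
theorem N30729 : nd 30729 = n63499 := ndS (p := 30144) (l := 9) rfl N30144 D63499
theorem N30730 : nd 30730 = n63500 := ndS (p := 30146) (l := 4) rfl N30146 D63500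
theorem N30731 : nd 30731 = n63501 := ndS (p := 30148) (l := 3) rfl N30148 D63501
theorem N30732 : nd 30732 = n63502 := ndS (p := 30149) (l := 2) rfl N30149 D63502
theorem N30733 : nd 30733 = n63503 := ndS (p := 30150) (l := 3) rfl N30150 D63503
theorem N30734 : nd 30734 = n63504 := ndS (p := 30150) (l := 5) rfl N30150 D63504
theorem N30735 : nd 30735 = n63505 := ndS (p := 30151) (l := 2) rfl N30151 D63505
theorem N30736 : nd 30736 = n63506 := ndS (p := 30154) (l := 3) rfl N30154 D63506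
theorem N30737 : nd 30737 = n63507 := ndS (p := 30154) (l := 5) rfl N30154 D63507
theorem N30738 : nd 30738 = n63508 := ndS (p := 30155) (l := 2) rfl N30155 D63508
theorem N30739 : nd 30739 = n63509 := ndS (p := 30155) (l := 5) rfl N30155 D63509
theorem N30740 : nd 30740 = n63510 := ndS (p := 30157) (l := 4) rfl N30157 D63510
theorem N30741 : nd 30741 = n63511 := ndS (p := 30158) (l := 2) rfl N30158 D63511
theorem N30742 : nd 30742 = n63512 := ndS (p := 30158) (l := 5) rfl N30158 D63512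
theorem N30743 : nd 30743 = n63513 := ndS (p := 30160) (l := 5) rfl N30160 D63513
theorem N30744 : nd 30744 = n63514 := ndS (p := 30161) (l := 4) rfl N30161 D63514
theorem N30745 : nd 30745 = n63515 := ndS (p := 30163) (l := 9) rfl N30163 D63515
theorem N30746 : nd 30746 = n63516 := ndS (p := 30165) (l := 4) rfl N30165 D63516
theorem N30747 : nd 30747 = n63517 := ndS (p := 30167) (l := 3) rfl N30167 D63517
theorem N30748 : nd 30748 = n63518 := ndS (p := 30168) (l := 2) rfl N30168 D63518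
theorem N30749 : nd 30749 = n63519 := ndS (p := 30170) (l := 3) rfl N30170 D63519
theorem N30750 : nd 30750 = n63520 := ndS (p := 30170) (l := 5) rfl N30170 D63520
theorem N30751 : nd 30751 = n63521 := ndS (p := 30171) (l := 2) rfl N30171 D63521
theorem N30752 : nd 30752 = n63522 := ndS (p := 30173) (l := 5) rfl N30173 D63522
theorem N30753 : nd 30753 = n63523 := ndS (p := 30177) (l := 3) rfl N30177 D63523
theorem N30754 : nd 30754 = n63524 := ndS (p := 30177) (l := 5) rfl N30177 D63524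
theorem N30755 : nd 30755 = n63525 := ndS (p := 30178) (l := 2) rfl N30178 D63525
theorem N30756 : nd 30756 = n63526 := ndS (p := 30178) (l := 5) rfl N30178 D63526
theorem N30757 : nd 30757 = n63527 := ndS (p := 30178) (l := 8) rfl N30178 D63527
theorem N30758 : nd 30758 = n63528 := ndS (p := 30180) (l := 8) rfl N30180 D63528
theorem N30759 : nd 30759 = n63529 := ndS (p := 30182) (l := 2) rfl N30182 D63529
theorem N30760 : nd 30760 = n63530 := ndS (p := 30182) (l := 5) rfl N30182 D63530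
theorem N30761 : nd 30761 = n63531 := ndS (p := 30182) (l := 8) rfl N30182 D63531
theorem N30762 : nd 30762 = n63532 := ndS (p := 30184) (l := 5) rfl N30184 D63532
theorem N30763 : nd 30763 = n63533 := ndS (p := 30184) (l := 8) rfl N30184 D63533
theorem N30764 : nd 30764 = n63534 := ndS (p := 30185) (l := 4) rfl N30185 D63534
theorem N30765 : nd 30765 = n63535 := ndS (p := 30186) (l := 9) rfl N30186 D63535
theorem N30766 : nd 30766 = n63536 := ndS (p := 30189) (l := 5) rfl N30189 D63536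
theorem N30767 : nd 30767 = n63537 := ndS (p := 30190) (l := 6) rfl N30190 D63537
theorem N30768 : nd 30768 = n63538 := ndS (p := 30193) (l := 4) rfl N30193 D63538
theorem N30769 : nd 30769 = n63539 := ndS (p := 30193) (l := 6) rfl N30193 D63539
theorem N30770 : nd 30770 = n63540 := ndS (p := 30195) (l := 6) rfl N30195 D63540
theorem N30771 : nd 30771 = n63541 := ndS (p := 30198) (l := 9) rfl N30198 D63541
theorem N30772 : nd 30772 = n63542 := ndS (p := 30201) (l := 3) rfl N30201 D63542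
theorem N30773 : nd 30773 = n63543 := ndS (p := 30202) (l := 2) rfl N30202 D63543
theorem N30774 : nd 30774 = n63544 := ndS (p := 30204) (l := 2) rfl N30204 D63544
theorem N30775 : nd 30775 = n63545 := ndS (p := 30206) (l := 3) rfl N30206 D63545
theorem N30776 : nd 30776 = n63546 := ndS (p := 30207) (l := 2) rfl N30207 D63546
theorem N30777 : nd 30777 = n63547 := ndS (p := 30208) (l := 2) rfl N30208 D63547
theorem N30778 : nd 30778 = n63548 := ndS (p := 30211) (l := 2) rfl N30211 D63548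
theorem N30779 : nd 30779 = n63549 := ndS (p := 30213) (l := 3) rfl N30213 D63549
theorem N30780 : nd 30780 = n63550 := ndS (p := 30214) (l := 2) rfl N30214 D63550
theorem N30781 : nd 30781 = n63551 := ndS (p := 30214) (l := 8) rfl N30214 D63551
theorem N30782 : nd 30782 = n63552 := ndS (p := 30216) (l := 3) rfl N30216 D63552
theorem N30783 : nd 30783 = n63553 := ndS (p := 30216) (l := 5) rfl N30216 D63553
theorem N30784 : nd 30784 = n63554 := ndS (p := 30217) (l := 2) rfl N30217 D63554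
theorem N30785 : nd 30785 = n63555 := ndS (p := 30217) (l := 5) rfl N30217 D63555
theorem N30786 : nd 30786 = n63556 := ndS (p := 30217) (l := 8) rfl N30217 D63556
theorem N30787 : nd 30787 = n63557 := ndS (p := 30218) (l := 6) rfl N30218 D63557
theorem N30788 : nd 30788 = n63558 := ndS (p := 30222) (l := 6) rfl N30222 D63558
theorem N30789 : nd 30789 = n63559 := ndS (p := 30224) (l := 2) rfl N30224 D63559
theorem N30790 : nd 30790 = n63560 := ndS (p := 30224) (l := 8) rfl N30224 D63560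
theorem N30791 : nd 30791 = n63561 := ndS (p := 30225) (l := 8) rfl N30225 D63561
theorem N30792 : nd 30792 = n63562 := ndS (p := 30227) (l := 3) rfl N30227 D63562
theorem N30793 : nd 30793 = n63563 := ndS (p := 30228) (l := 2) rfl N30228 D63563
theorem N30794 : nd 30794 = n63564 := ndS (p := 30229) (l := 3) rfl N30229 D63564
theorem N30795 : nd 30795 = n63565 := ndS (p := 30229) (l := 5) rfl N30229 D63565
theorem N30796 : nd 30796 = n63566 := ndS (p := 30230) (l := 8) rfl N30230 D63566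
theorem N30797 : nd 30797 = n63567 := ndS (p := 30233) (l := 8) rfl N30233 D63567
theorem N30798 : nd 30798 = n63568 := ndS (p := 30236) (l := 3) rfl N30236 D63568
theorem N30799 : nd 30799 = n63569 := ndS (p := 30237) (l := 2) rfl N30237 D63569
theorem N30800 : nd 30800 = n63570 := ndS (p := 30238) (l := 2) rfl N30238 D63570
theorem N30801 : nd 30801 = n63571 := ndS (p := 30240) (l := 3) rfl N30240 D63571
theorem N30802 : nd 30802 = n63572 := ndS (p := 30241) (l := 2) rfl N30241 D63572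
theorem N30803 : nd 30803 = n63573 := ndS (p := 30242) (l := 3) rfl N30242 D63573
theorem N30804 : nd 30804 = n63574 := ndS (p := 30247) (l := 3) rfl N30247 D63574
theorem N30805 : nd 30805 = n63575 := ndS (p := 30248) (l := 2) rfl N30248 D63575
theorem N30806 : nd 30806 = n63576 := ndS (p := 30248) (l := 8) rfl N30248 D63576
theorem N30807 : nd 30807 = n63577 := ndS (p := 30250) (l := 2) rfl N30250 D63577
theorem N30808 : nd 30808 = n63578 := ndS (p := 30250) (l := 8) rfl N30250 D63578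
theorem N30809 : nd 30809 = n63579 := ndS (p := 30251) (l := 8) rfl N30251 D63579
theorem N30810 : nd 30810 = n63580 := ndS (p := 30255) (l := 3) rfl N30255 D63580
theorem N30811 : nd 30811 = n63581 := ndS (p := 30256) (l := 2) rfl N30256 D63581
theorem N30812 : nd 30812 = n63582 := ndS (p := 30257) (l := 3) rfl N30257 D63582
theorem N30813 : nd 30813 = n63583 := ndS (p := 30258) (l := 2) rfl N30258 D63583
theorem N30814 : nd 30814 = n63584 := ndS (p := 30258) (l := 8) rfl N30258 D63584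
theorem N30815 : nd 30815 = n63585 := ndS (p := 30260) (l := 2) rfl N30260 D63585
theorem N30816 : nd 30816 = n63586 := ndS (p := 30260) (l := 8) rfl N30260 D63586
theorem N30817 : nd 30817 = n63587 := ndS (p := 30261) (l := 8) rfl N30261 D63587
theorem N30818 : nd 30818 = n63588 := ndS (p := 30262) (l := 9) rfl N30262 D63588
theorem N30819 : nd 30819 = n63589 := ndS (p := 30264) (l := 3) rfl N30264 D63589
theorem N30820 : nd 30820 = n63590 := ndS (p := 30264) (l := 5) rfl N30264 D63590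
theorem N30821 : nd 30821 = n63591 := ndS (p := 30265) (l := 5) rfl N30265 D63591
theorem N30822 : nd 30822 = n63592 := ndS (p := 30265) (l := 8) rfl N30265 D63592
theorem N30823 : nd 30823 = n63593 := ndS (p := 30269) (l := 3) rfl N30269 D63593
theorem N30824 : nd 30824 = n63594 := ndS (p := 30269) (l := 5) rfl N30269 D63594
theorem N30825 : nd 30825 = n63595 := ndS (p := 30270) (l := 2) rfl N30270 D63595
theorem N30826 : nd 30826 = n63596 := ndS (p := 30272) (l := 5) rfl N30272 D63596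
theorem N30827 : nd 30827 = n63597 := ndS (p := 30272) (l := 8) rfl N30272 D63597
theorem N30828 : nd 30828 = n63598 := ndS (p := 30274) (l := 4) rfl N30274 D63598
theorem N30829 : nd 30829 = n63599 := ndS (p := 30278) (l := 3) rfl N30278 D63599
theorem N30830 : nd 30830 = n63600 := ndS (p := 30278) (l := 5) rfl N30278 D63600
theorem N30831 : nd 30831 = n63601 := ndS (p := 30279) (l := 2) rfl N30279 D63601
theorem N30832 : nd 30832 = n63602 := ndS (p := 30279) (l := 5) rfl N30279 D63602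
theorem N30833 : nd 30833 = n63603 := ndS (p := 30279) (l := 8) rfl N30279 D63603
theorem N30834 : nd 30834 = n63604 := ndS (p := 30280) (l := 6) rfl N30280 D63604
theorem N30835 : nd 30835 = n63605 := ndS (p := 30284) (l := 2) rfl N30284 D63605
theorem N30836 : nd 30836 = n63606 := ndS (p := 30284) (l := 5) rfl N30284 D63606
theorem N30837 : nd 30837 = n63607 := ndS (p := 30284) (l := 8) rfl N30284 D63607
theorem N30838 : nd 30838 = n63608 := ndS (p := 30285) (l := 6) rfl N30285 D63608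
theorem N30839 : nd 30839 = n63609 := ndS (p := 30286) (l := 5) rfl N30286 D63609
theorem N30840 : nd 30840 = n63610 := ndS (p := 30286) (l := 8) rfl N30286 D63610
theorem N30841 : nd 30841 = n63611 := ndS (p := 30291) (l := 2) rfl N30291 D63611
theorem N30842 : nd 30842 = n63612 := ndS (p := 30291) (l := 8) rfl N30291 D63612
theorem N30843 : nd 30843 = n63613 := ndS (p := 30292) (l := 8) rfl N30292 D63613
theorem N30844 : nd 30844 = n63614 := ndS (p := 30293) (l := 9) rfl N30293 D63614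
theorem N30845 : nd 30845 = n63615 := ndS (p := 30295) (l := 1) rfl N30295 D63615
theorem N30846 : nd 30846 = n63616 := ndS (p := 30295) (l := 8) rfl N30295 D63616
theorem N30847 : nd 30847 = n63617 := ndS (p := 30296) (l := 9) rfl N30296 D63617
theorem N30848 : nd 30848 = n63618 := ndS (p := 30297) (l := 3) rfl N30297 D63618
theorem N30849 : nd 30849 = n63619 := ndS (p := 30297) (l := 9) rfl N30297 D63619
theorem N30850 : nd 30850 = n63620 := ndS (p := 30299) (l := 3) rfl N30299 D63620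
theorem N30851 : nd 30851 = n63621 := ndS (p := 30300) (l := 2) rfl N30300 D63621
theorem N30852 : nd 30852 = n63622 := ndS (p := 30301) (l := 2) rfl N30301 D63622
theorem N30853 : nd 30853 = n63623 := ndS (p := 30301) (l := 8) rfl N30301 D63623
theorem N30854 : nd 30854 = n63624 := ndS (p := 30302) (l := 8) rfl N30302 D63624
theorem N30855 : nd 30855 = n63625 := ndS (p := 30304) (l := 3) rfl N30304 D63625
theorem N30856 : nd 30856 = n63626 := ndS (p := 30306) (l := 2) rfl N30306 D63626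
theorem N30857 : nd 30857 = n63627 := ndS (p := 30306) (l := 8) rfl N30306 D63627
theorem N30858 : nd 30858 = n63628 := ndS (p := 30309) (l := 9) rfl N30309 D63628
theorem N30859 : nd 30859 = n63629 := ndS (p := 30312) (l := 9) rfl N30312 D63629
theorem N30860 : nd 30860 = n63630 := ndS (p := 30314) (l := 8) rfl N30314 D63630
theorem N30861 : nd 30861 = n63631 := ndS (p := 30316) (l := 9) rfl N30316 D63631
theorem N30862 : nd 30862 = n63632 := ndS (p := 30318) (l := 3) rfl N30318 D63632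
theorem N30863 : nd 30863 = n63633 := ndS (p := 30318) (l := 9) rfl N30318 D63633
theorem N30864 : nd 30864 = n63634 := ndS (p := 30320) (l := 9) rfl N30320 D63634
theorem N30865 : nd 30865 = n63635 := ndS (p := 30323) (l := 3) rfl N30323 D63635
theorem N30866 : nd 30866 = n63636 := ndS (p := 30324) (l := 2) rfl N30324 D63636
theorem N30867 : nd 30867 = n63637 := ndS (p := 30325) (l := 2) rfl N30325 D63637
theorem N30868 : nd 30868 = n63638 := ndS (p := 30328) (l := 2) rfl N30328 D63638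
theorem N30869 : nd 30869 = n63639 := ndS (p := 30330) (l := 1) rfl N30330 D63639
theorem N30870 : nd 30870 = n63640 := ndS (p := 30330) (l := 8) rfl N30330 D63640
theorem N30871 : nd 30871 = n63641 := ndS (p := 30333) (l := 3) rfl N30333 D63641
theorem N30872 : nd 30872 = n63642 := ndS (p := 30334) (l := 2) rfl N30334 D63642
theorem N30873 : nd 30873 = n63643 := ndS (p := 30335) (l := 2) rfl N30335 D63643
theorem N30874 : nd 30874 = n63644 := ndS (p := 30335) (l := 8) rfl N30335 D63644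
theorem N30875 : nd 30875 = n63645 := ndS (p := 30336) (l := 8) rfl N30336 D63645
theorem N30876 : nd 30876 = n63646 := ndS (p := 30337) (l := 9) rfl N30337 D63646
theorem N30877 : nd 30877 = n63647 := ndS (p := 30339) (l := 5) rfl N30339 D63647
theorem N30878 : nd 30878 = n63648 := ndS (p := 30341) (l := 5) rfl N30341 D63648
theorem N30879 : nd 30879 = n63649 := ndS (p := 30341) (l := 8) rfl N30341 D63649
theorem N30880 : nd 30880 = n63650 := ndS (p := 30343) (l := 8) rfl N30343 D63650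
theorem N30881 : nd 30881 = n63651 := ndS (p := 30344) (l := 9) rfl N30344 D63651
theorem N30882 : nd 30882 = n63652 := ndS (p := 30347) (l := 9) rfl N30347 D63652
theorem N30883 : nd 30883 = n63653 := ndS (p := 30350) (l := 1) rfl N30350 D63653
theorem N30884 : nd 30884 = n63654 := ndS (p := 30351) (l := 9) rfl N30351 D63654
theorem N30885 : nd 30885 = n63655 := ndS (p := 30353) (l := 8) rfl N30353 D63655
theorem N30886 : nd 30886 = n63656 := ndS (p := 30356) (l := 2) rfl N30356 D63656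
theorem N30887 : nd 30887 = n63657 := ndS (p := 30358) (l := 3) rfl N30358 D63657
theorem N30888 : nd 30888 = n63658 := ndS (p := 30358) (l := 5) rfl N30358 D63658
theorem N30889 : nd 30889 = n63659 := ndS (p := 30359) (l := 2) rfl N30359 D63659
theorem N30890 : nd 30890 = n63660 := ndS (p := 30361) (l := 3) rfl N30361 D63660
theorem N30891 : nd 30891 = n63661 := ndS (p := 30361) (l := 5) rfl N30361 D63661
theorem N30892 : nd 30892 = n63662 := ndS (p := 30362) (l := 2) rfl N30362 D63662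
theorem N30893 : nd 30893 = n63663 := ndS (p := 30362) (l := 5) rfl N30362 D63663
theorem N30894 : nd 30894 = n63664 := ndS (p := 30362) (l := 8) rfl N30362 D63664
theorem N30895 : nd 30895 = n63665 := ndS (p := 30366) (l := 2) rfl N30366 D63665
theorem N30896 : nd 30896 = n63666 := ndS (p := 30366) (l := 5) rfl N30366 D63666
theorem N30897 : nd 30897 = n63667 := ndS (p := 30368) (l := 5) rfl N30368 D63667
theorem N30898 : nd 30898 = n63668 := ndS (p := 30370) (l := 2) rfl N30370 D63668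
theorem N30899 : nd 30899 = n63669 := ndS (p := 30370) (l := 8) rfl N30370 D63669
theorem N30900 : nd 30900 = n63670 := ndS (p := 30371) (l := 8) rfl N30371 D63670
theorem N30901 : nd 30901 = n63671 := ndS (p := 30372) (l := 9) rfl N30372 D63671
theorem N30902 : nd 30902 = n63672 := ndS (p := 30374) (l := 1) rfl N30374 D63672
theorem N30903 : nd 30903 = n63673 := ndS (p := 30374) (l := 5) rfl N30374 D63673
theorem N30904 : nd 30904 = n63674 := ndS (p := 30374) (l := 8) rfl N30374 D63674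
theorem N30905 : nd 30905 = n63675 := ndS (p := 30375) (l := 4) rfl N30375 D63675
theorem N30906 : nd 30906 = n63676 := ndS (p := 30376) (l := 9) rfl N30376 D63676
theorem N30907 : nd 30907 = n63677 := ndS (p := 30377) (l := 4) rfl N30377 D63677
theorem N30908 : nd 30908 = n63678 := ndS (p := 30378) (l := 9) rfl N30378 D63678
theorem N30909 : nd 30909 = n63679 := ndS (p := 30385) (l := 3) rfl N30385 D63679
theorem N30910 : nd 30910 = n63680 := ndS (p := 30386) (l := 4) rfl N30386 D63680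
theorem N30911 : nd 30911 = n63681 := ndS (p := 30391) (l := 2) rfl N30391 D63681
theorem N30912 : nd 30912 = n63682 := ndS (p := 30393) (l := 2) rfl N30393 D63682
theorem N30913 : nd 30913 = n63683 := ndS (p := 30397) (l := 2) rfl N30397 D63683
theorem N30914 : nd 30914 = n63684 := ndS (p := 30397) (l := 8) rfl N30397 D63684
theorem N30915 : nd 30915 = n63685 := ndS (p := 30398) (l := 8) rfl N30398 D63685
theorem N30916 : nd 30916 = n63686 := ndS (p := 30399) (l := 9) rfl N30399 D63686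
theorem N30917 : nd 30917 = n63687 := ndS (p := 30402) (l := 3) rfl N30402 D63687
theorem N30918 : nd 30918 = n63688 := ndS (p := 30403) (l := 2) rfl N30403 D63688
theorem N30919 : nd 30919 = n63689 := ndS (p := 30404) (l := 6) rfl N30404 D63689
theorem N30920 : nd 30920 = n63690 := ndS (p := 30409) (l := 2) rfl N30409 D63690
theorem N30921 : nd 30921 = n63691 := ndS (p := 30412) (l := 2) rfl N30412 D63691
theorem N30922 : nd 30922 = n63692 := ndS (p := 30414) (l := 3) rfl N30414 D63692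
theorem N30923 : nd 30923 = n63693 := ndS (p := 30414) (l := 5) rfl N30414 D63693
theorem N30924 : nd 30924 = n63694 := ndS (p := 30415) (l := 2) rfl N30415 D63694
theorem N30925 : nd 30925 = n63695 := ndS (p := 30418) (l := 3) rfl N30418 D63695
theorem N30926 : nd 30926 = n63696 := ndS (p := 30419) (l := 2) rfl N30419 D63696
theorem N30927 : nd 30927 = n63697 := ndS (p := 30420) (l := 3) rfl N30420 D63697
theorem N30928 : nd 30928 = n63698 := ndS (p := 30421) (l := 2) rfl N30421 D63698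
theorem N30929 : nd 30929 = n63699 := ndS (p := 30422) (l := 2) rfl N30422 D63699
theorem N30930 : nd 30930 = n63700 := ndS (p := 30424) (l := 2) rfl N30424 D63700
theorem N30931 : nd 30931 = n63701 := ndS (p := 30426) (l := 2) rfl N30426 D63701
theorem N30932 : nd 30932 = n63702 := ndS (p := 30428) (l := 1) rfl N30428 D63702
theorem N30933 : nd 30933 = n63703 := ndS (p := 30429) (l := 2) rfl N30429 D63703
theorem N30934 : nd 30934 = n63704 := ndS (p := 30432) (l := 1) rfl N30432 D63704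
theorem N30935 : nd 30935 = n63705 := ndS (p := 30432) (l := 8) rfl N30432 D63705
theorem N30936 : nd 30936 = n63706 := ndS (p := 30433) (l := 9) rfl N30433 D63706
theorem N30937 : nd 30937 = n63707 := ndS (p := 30434) (l := 9) rfl N30434 D63707
theorem N30938 : nd 30938 = n63708 := ndS (p := 30436) (l := 3) rfl N30436 D63708
theorem N30939 : nd 30939 = n63709 := ndS (p := 30437) (l := 2) rfl N30437 D63709
theorem N30940 : nd 30940 = n63710 := ndS (p := 30438) (l := 2) rfl N30438 D63710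
theorem N30941 : nd 30941 = n63711 := ndS (p := 30440) (l := 6) rfl N30440 D63711
theorem N30942 : nd 30942 = n63712 := ndS (p := 30443) (l := 2) rfl N30443 D63712
theorem N30943 : nd 30943 = n63713 := ndS (p := 30445) (l := 2) rfl N30445 D63713
theorem N30944 : nd 30944 = n63714 := ndS (p := 30447) (l := 2) rfl N30447 D63714
theorem N30945 : nd 30945 = n63715 := ndS (p := 30449) (l := 1) rfl N30449 D63715
theorem N30946 : nd 30946 = n63716 := ndS (p := 30450) (l := 3) rfl N30450 D63716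
theorem N30947 : nd 30947 = n63717 := ndS (p := 30450) (l := 5) rfl N30450 D63717
theorem N30948 : nd 30948 = n63718 := ndS (p := 30451) (l := 2) rfl N30451 D63718
theorem N30949 : nd 30949 = n63719 := ndS (p := 30453) (l := 2) rfl N30453 D63719
theorem N30950 : nd 30950 = n63720 := ndS (p := 30456) (l := 3) rfl N30456 D63720
theorem N30951 : nd 30951 = n63721 := ndS (p := 30456) (l := 5) rfl N30456 D63721
theorem N30952 : nd 30952 = n63722 := ndS (p := 30457) (l := 2) rfl N30457 D63722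
theorem N30953 : nd 30953 = n63723 := ndS (p := 30459) (l := 2) rfl N30459 D63723
theorem N30954 : nd 30954 = n63724 := ndS (p := 30463) (l := 2) rfl N30463 D63724
theorem N30955 : nd 30955 = n63725 := ndS (p := 30465) (l := 2) rfl N30465 D63725
theorem N30956 : nd 30956 = n63726 := ndS (p := 30467) (l := 1) rfl N30467 D63726
theorem N30957 : nd 30957 = n63727 := ndS (p := 30468) (l := 2) rfl N30468 D63727
theorem N30958 : nd 30958 = n63728 := ndS (p := 30470) (l := 2) rfl N30470 D63728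
theorem N30959 : nd 30959 = n63729 := ndS (p := 30472) (l := 1) rfl N30472 D63729
theorem N30960 : nd 30960 = n63730 := ndS (p := 30473) (l := 2) rfl N30473 D63730
theorem N30961 : nd 30961 = n63731 := ndS (p := 30475) (l := 2) rfl N30475 D63731
theorem N30962 : nd 30962 = n63732 := ndS (p := 30477) (l := 1) rfl N30477 D63732
theorem N30963 : nd 30963 = n63733 := ndS (p := 30478) (l := 1) rfl N30478 D63733
theorem N30964 : nd 30964 = n63734 := ndS (p := 30479) (l := 2) rfl N30479 D63734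
theorem N30965 : nd 30965 = n63735 := ndS (p := 30481) (l := 1) rfl N30481 D63735
theorem N30966 : nd 30966 = n63736 := ndS (p := 30482) (l := 2) rfl N30482 D63736
theorem N30967 : nd 30967 = n63737 := ndS (p := 30482) (l := 8) rfl N30482 D63737
theorem N30968 : nd 30968 = n63738 := ndS (p := 30483) (l := 8) rfl N30483 D63738
theorem N30969 : nd 30969 = n63739 := ndS (p := 30484) (l := 9) rfl N30484 D63739
theorem N30970 : nd 30970 = n63740 := ndS (p := 30486) (l := 9) rfl N30486 D63740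
theorem N30971 : nd 30971 = n63741 := ndS (p := 30488) (l := 3) rfl N30488 D63741
theorem N30972 : nd 30972 = n63742 := ndS (p := 30489) (l := 2) rfl N30489 D63742
theorem N30973 : nd 30973 = n63743 := ndS (p := 30490) (l := 2) rfl N30490 D63743
theorem N30974 : nd 30974 = n63744 := ndS (p := 30492) (l := 2) rfl N30492 D63744
theorem N30975 : nd 30975 = n63745 := ndS (p := 30494) (l := 1) rfl N30494 D63745
theorem N30976 : nd 30976 = n63746 := ndS (p := 30495) (l := 1) rfl N30495 D63746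
theorem N30977 : nd 30977 = n63747 := ndS (p := 30496) (l := 1) rfl N30496 D63747
theorem N30978 : nd 30978 = n63748 := ndS (p := 30497) (l := 8) rfl N30497 D63748
theorem N30979 : nd 30979 = n63749 := ndS (p := 30498) (l := 3) rfl N30498 D63749
theorem N30980 : nd 30980 = n63750 := ndS (p := 30501) (l := 9) rfl N30501 D63750
theorem N30981 : nd 30981 = n63751 := ndS (p := 30504) (l := 3) rfl N30504 D63751
theorem N30982 : nd 30982 = n63752 := ndS (p := 30505) (l := 2) rfl N30505 D63752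
theorem N30983 : nd 30983 = n63753 := ndS (p := 30505) (l := 8) rfl N30505 D63753
theorem N30984 : nd 30984 = n63754 := ndS (p := 30507) (l := 3) rfl N30507 D63754
theorem N30985 : nd 30985 = n63755 := ndS (p := 30507) (l := 5) rfl N30507 D63755
theorem N30986 : nd 30986 = n63756 := ndS (p := 30508) (l := 5) rfl N30508 D63756
theorem N30987 : nd 30987 = n63757 := ndS (p := 30509) (l := 6) rfl N30509 D63757
theorem N30988 : nd 30988 = n63758 := ndS (p := 30512) (l := 3) rfl N30512 D63758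
theorem N30989 : nd 30989 = n63759 := ndS (p := 30512) (l := 5) rfl N30512 D63759
theorem N30990 : nd 30990 = n63760 := ndS (p := 30513) (l := 2) rfl N30513 D63760
theorem N30991 : nd 30991 = n63761 := ndS (p := 30513) (l := 5) rfl N30513 D63761
theorem N30992 : nd 30992 = n63762 := ndS (p := 30514) (l := 6) rfl N30514 D63762
theorem N30993 : nd 30993 = n63763 := ndS (p := 30515) (l := 4) rfl N30515 D63763
theorem N30994 : nd 30994 = n63764 := ndS (p := 30515) (l := 6) rfl N30515 D63764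
theorem N30995 : nd 30995 = n63765 := ndS (p := 30517) (l := 3) rfl N30517 D63765
theorem N30996 : nd 30996 = n63766 := ndS (p := 30517) (l := 5) rfl N30517 D63766
theorem N30997 : nd 30997 = n63767 := ndS (p := 30518) (l := 2) rfl N30518 D63767
theorem N30998 : nd 30998 = n63768 := ndS (p := 30518) (l := 5) rfl N30518 D63768
theorem N30999 : nd 30999 = n63769 := ndS (p := 30518) (l := 8) rfl N30518 D63769
theorem N31000 : nd 31000 = n63770 := ndS (p := 30519) (l := 6) rfl N30519 D63770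
theorem N31001 : nd 31001 = n63771 := ndS (p := 30520) (l := 6) rfl N30520 D63771
theorem N31002 : nd 31002 = n63772 := ndS (p := 30520) (l := 8) rfl N30520 D63772
theorem N31003 : nd 31003 = n63773 := ndS (p := 30523) (l := 6) rfl N30523 D63773
theorem N31004 : nd 31004 = n63774 := ndS (p := 30525) (l := 2) rfl N30525 D63774
theorem N31005 : nd 31005 = n63775 := ndS (p := 30525) (l := 8) rfl N30525 D63775
theorem N31006 : nd 31006 = n63776 := ndS (p := 30526) (l := 8) rfl N30526 D63776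
theorem N31007 : nd 31007 = n63777 := ndS (p := 30527) (l := 9) rfl N30527 D63777
theorem N31008 : nd 31008 = n63778 := ndS (p := 30529) (l := 3) rfl N30529 D63778
theorem N31009 : nd 31009 = n63779 := ndS (p := 30529) (l := 5) rfl N30529 D63779
theorem N31010 : nd 31010 = n63780 := ndS (p := 30530) (l := 2) rfl N30530 D63780
theorem N31011 : nd 31011 = n63781 := ndS (p := 30531) (l := 6) rfl N30531 D63781
theorem N31012 : nd 31012 = n63782 := ndS (p := 30533) (l := 6) rfl N30533 D63782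
theorem N31013 : nd 31013 = n63783 := ndS (p := 30535) (l := 3) rfl N30535 D63783
theorem N31014 : nd 31014 = n63784 := ndS (p := 30535) (l := 5) rfl N30535 D63784
theorem N31015 : nd 31015 = n63785 := ndS (p := 30536) (l := 8) rfl N30536 D63785
theorem N31016 : nd 31016 = n63786 := ndS (p := 30539) (l := 8) rfl N30539 D63786
theorem N31017 : nd 31017 = n63787 := ndS (p := 30541) (l := 3) rfl N30541 D63787
theorem N31018 : nd 31018 = n63788 := ndS (p := 30541) (l := 5) rfl N30541 D63788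
theorem N31019 : nd 31019 = n63789 := ndS (p := 30542) (l := 2) rfl N30542 D63789
theorem N31020 : nd 31020 = n63790 := ndS (p := 30542) (l := 5) rfl N30542 D63790
theorem N31021 : nd 31021 = n63791 := ndS (p := 30544) (l := 4) rfl N30544 D63791
theorem N31022 : nd 31022 = n63792 := ndS (p := 30545) (l := 2) rfl N30545 D63792
theorem N31023 : nd 31023 = n63793 := ndS (p := 30545) (l := 5) rfl N30545 D63793
theorem N31024 : nd 31024 = n63794 := ndS (p := 30547) (l := 5) rfl N30547 D63794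
theorem N31025 : nd 31025 = n63795 := ndS (p := 30548) (l := 4) rfl N30548 D63795
theorem N31026 : nd 31026 = n63796 := ndS (p := 30550) (l := 9) rfl N30550 D63796
theorem N31027 : nd 31027 = n63797 := ndS (p := 30553) (l := 6) rfl N30553 D63797
theorem N31028 : nd 31028 = n63798 := ndS (p := 30559) (l := 3) rfl N30559 D63798
theorem N31029 : nd 31029 = n63799 := ndS (p := 30559) (l := 5) rfl N30559 D63799
theorem N31030 : nd 31030 = n63800 := ndS (p := 30560) (l := 2) rfl N30560 D63800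
theorem N31031 : nd 31031 = n63801 := ndS (p := 30560) (l := 5) rfl N30560 D63801
theorem N31032 : nd 31032 = n63802 := ndS (p := 30560) (l := 8) rfl N30560 D63802
theorem N31033 : nd 31033 = n63803 := ndS (p := 30562) (l := 8) rfl N30562 D63803
theorem N31034 : nd 31034 = n63804 := ndS (p := 30564) (l := 2) rfl N30564 D63804
theorem N31035 : nd 31035 = n63805 := ndS (p := 30564) (l := 5) rfl N30564 D63805
theorem N31036 : nd 31036 = n63806 := ndS (p := 30564) (l := 8) rfl N30564 D63806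
theorem N31037 : nd 31037 = n63807 := ndS (p := 30566) (l := 5) rfl N30566 D63807
theorem N31038 : nd 31038 = n63808 := ndS (p := 30566) (l := 8) rfl N30566 D63808
theorem N31039 : nd 31039 = n63809 := ndS (p := 30568) (l := 9) rfl N30568 D63809
theorem N31040 : nd 31040 = n63810 := ndS (p := 30570) (l := 6) rfl N30570 D63810
theorem N31041 : nd 31041 = n63811 := ndS (p := 30573) (l := 9) rfl N30573 D63811
theorem N31042 : nd 31042 = n63812 := ndS (p := 30576) (l := 3) rfl N30576 D63812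
theorem N31043 : nd 31043 = n63813 := ndS (p := 30577) (l := 2) rfl N30577 D63813
theorem N31044 : nd 31044 = n63814 := ndS (p := 30578) (l := 2) rfl N30578 D63814
theorem N31045 : nd 31045 = n63815 := ndS (p := 30580) (l := 2) rfl N30580 D63815
theorem N31046 : nd 31046 = n63816 := ndS (p := 30582) (l := 2) rfl N30582 D63816
theorem N31047 : nd 31047 = n63817 := ndS (p := 30584) (l := 2) rfl N30584 D63817
theorem N31048 : nd 31048 = n63818 := ndS (p := 30584) (l := 8) rfl N30584 D63818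
theorem N31049 : nd 31049 = n63819 := ndS (p := 30585) (l := 8) rfl N30585 D63819
theorem N31050 : nd 31050 = n63820 := ndS (p := 30586) (l := 9) rfl N30586 D63820
theorem N31051 : nd 31051 = n63821 := ndS (p := 30588) (l := 5) rfl N30588 D63821
theorem N31052 : nd 31052 = n63822 := ndS (p := 30590) (l := 3) rfl N30590 D63822
theorem N31053 : nd 31053 = n63823 := ndS (p := 30590) (l := 5) rfl N30590 D63823
theorem N31054 : nd 31054 = n63824 := ndS (p := 30591) (l := 2) rfl N30591 D63824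
theorem N31055 : nd 31055 = n63825 := ndS (p := 30591) (l := 5) rfl N30591 D63825
theorem N31056 : nd 31056 = n63826 := ndS (p := 30592) (l := 6) rfl N30592 D63826
theorem N31057 : nd 31057 = n63827 := ndS (p := 30595) (l := 3) rfl N30595 D63827
theorem N31058 : nd 31058 = n63828 := ndS (p := 30595) (l := 5) rfl N30595 D63828
theorem N31059 : nd 31059 = n63829 := ndS (p := 30596) (l := 2) rfl N30596 D63829
theorem N31060 : nd 31060 = n63830 := ndS (p := 30596) (l := 5) rfl N30596 D63830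
theorem N31061 : nd 31061 = n63831 := ndS (p := 30597) (l := 6) rfl N30597 D63831
theorem N31062 : nd 31062 = n63832 := ndS (p := 30600) (l := 6) rfl N30600 D63832
theorem N31063 : nd 31063 = n63833 := ndS (p := 30602) (l := 3) rfl N30602 D63833
theorem N31064 : nd 31064 = n63834 := ndS (p := 30602) (l := 5) rfl N30602 D63834
theorem N31065 : nd 31065 = n63835 := ndS (p := 30603) (l := 2) rfl N30603 D63835
theorem N31066 : nd 31066 = n63836 := ndS (p := 30603) (l := 5) rfl N30603 D63836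
theorem N31067 : nd 31067 = n63837 := ndS (p := 30606) (l := 2) rfl N30606 D63837
theorem N31068 : nd 31068 = n63838 := ndS (p := 30606) (l := 8) rfl N30606 D63838
theorem N31069 : nd 31069 = n63839 := ndS (p := 30607) (l := 8) rfl N30607 D63839
theorem N31070 : nd 31070 = n63840 := ndS (p := 30610) (l := 8) rfl N30610 D63840
theorem N31071 : nd 31071 = n63841 := ndS (p := 30613) (l := 2) rfl N30613 D63841
theorem N31072 : nd 31072 = n63842 := ndS (p := 30613) (l := 5) rfl N30613 D63842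
theorem N31073 : nd 31073 = n63843 := ndS (p := 30615) (l := 5) rfl N30615 D63843
theorem N31074 : nd 31074 = n63844 := ndS (p := 30616) (l := 4) rfl N30616 D63844
theorem N31075 : nd 31075 = n63845 := ndS (p := 30618) (l := 2) rfl N30618 D63845
theorem N31076 : nd 31076 = n63846 := ndS (p := 30618) (l := 5) rfl N30618 D63846
theorem N31077 : nd 31077 = n63847 := ndS (p := 30618) (l := 8) rfl N30618 D63847
theorem N31078 : nd 31078 = n63848 := ndS (p := 30620) (l := 5) rfl N30620 D63848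
theorem N31079 : nd 31079 = n63849 := ndS (p := 30620) (l := 8) rfl N30620 D63849
theorem N31080 : nd 31080 = n63850 := ndS (p := 30621) (l := 8) rfl N30621 D63850
theorem N31081 : nd 31081 = n63851 := ndS (p := 30625) (l := 1) rfl N30625 D63851
theorem N31082 : nd 31082 = n63852 := ndS (p := 30625) (l := 8) rfl N30625 D63852
theorem N31083 : nd 31083 = n63853 := ndS (p := 30626) (l := 9) rfl N30626 D63853
theorem N31084 : nd 31084 = n63854 := ndS (p := 30627) (l := 9) rfl N30627 D63854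
theorem N31085 : nd 31085 = n63855 := ndS (p := 30629) (l := 3) rfl N30629 D63855
theorem N31086 : nd 31086 = n63856 := ndS (p := 30629) (l := 5) rfl N30629 D63856
theorem N31087 : nd 31087 = n63857 := ndS (p := 30630) (l := 2) rfl N30630 D63857
theorem N31088 : nd 31088 = n63858 := ndS (p := 30630) (l := 5) rfl N30630 D63858
theorem N31089 : nd 31089 = n63859 := ndS (p := 30630) (l := 8) rfl N30630 D63859
theorem N31090 : nd 31090 = n63860 := ndS (p := 30634) (l := 2) rfl N30634 D63860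
theorem N31091 : nd 31091 = n63861 := ndS (p := 30634) (l := 8) rfl N30634 D63861
theorem N31092 : nd 31092 = n63862 := ndS (p := 30635) (l := 8) rfl N30635 D63862
theorem N31093 : nd 31093 = n63863 := ndS (p := 30636) (l := 9) rfl N30636 D63863
theorem N31094 : nd 31094 = n63864 := ndS (p := 30638) (l := 2) rfl N30638 D63864
theorem N31095 : nd 31095 = n63865 := ndS (p := 30642) (l := 2) rfl N30642 D63865
theorem N31096 : nd 31096 = n63866 := ndS (p := 30644) (l := 2) rfl N30644 D63866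
theorem N31097 : nd 31097 = n63867 := ndS (p := 30646) (l := 1) rfl N30646 D63867
theorem N31098 : nd 31098 = n63868 := ndS (p := 30646) (l := 5) rfl N30646 D63868
theorem N31099 : nd 31099 = n63869 := ndS (p := 30647) (l := 4) rfl N30647 D63869
theorem N31100 : nd 31100 = n63870 := ndS (p := 30648) (l := 4) rfl N30648 D63870
theorem N31101 : nd 31101 = n63871 := ndS (p := 30651) (l := 3) rfl N30651 D63871
theorem N31102 : nd 31102 = n63872 := ndS (p := 30652) (l := 2) rfl N30652 D63872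
theorem N31103 : nd 31103 = n63873 := ndS (p := 30653) (l := 2) rfl N30653 D63873
theorem N31104 : nd 31104 = n63874 := ndS (p := 30653) (l := 5) rfl N30653 D63874
theorem N31105 : nd 31105 = n63875 := ndS (p := 30653) (l := 8) rfl N30653 D63875
theorem N31106 : nd 31106 = n63876 := ndS (p := 30655) (l := 5) rfl N30655 D63876
theorem N31107 : nd 31107 = n63877 := ndS (p := 30655) (l := 8) rfl N30655 D63877
theorem N31108 : nd 31108 = n63878 := ndS (p := 30658) (l := 1) rfl N30658 D63878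
theorem N31109 : nd 31109 = n63879 := ndS (p := 30658) (l := 8) rfl N30658 D63879
theorem N31110 : nd 31110 = n63880 := ndS (p := 30659) (l := 9) rfl N30659 D63880
theorem N31111 : nd 31111 = n63881 := ndS (p := 30660) (l := 3) rfl N30660 D63881
theorem N31112 : nd 31112 = n63882 := ndS (p := 30660) (l := 9) rfl N30660 D63882
theorem N31113 : nd 31113 = n63883 := ndS (p := 30662) (l := 3) rfl N30662 D63883
theorem N31114 : nd 31114 = n63884 := ndS (p := 30662) (l := 5) rfl N30662 D63884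
theorem N31115 : nd 31115 = n63885 := ndS (p := 30663) (l := 2) rfl N30663 D63885
theorem N31116 : nd 31116 = n63886 := ndS (p := 30665) (l := 3) rfl N30665 D63886
theorem N31117 : nd 31117 = n63887 := ndS (p := 30665) (l := 5) rfl N30665 D63887
theorem N31118 : nd 31118 = n63888 := ndS (p := 30666) (l := 2) rfl N30666 D63888
theorem N31119 : nd 31119 = n63889 := ndS (p := 30669) (l := 2) rfl N30669 D63889
theorem N31120 : nd 31120 = n63890 := ndS (p := 30671) (l := 2) rfl N30671 D63890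
theorem N31121 : nd 31121 = n63891 := ndS (p := 30671) (l := 5) rfl N30671 D63891
theorem N31122 : nd 31122 = n63892 := ndS (p := 30675) (l := 3) rfl N30675 D63892
theorem N31123 : nd 31123 = n63893 := ndS (p := 30675) (l := 5) rfl N30675 D63893
theorem N31124 : nd 31124 = n63894 := ndS (p := 30676) (l := 2) rfl N30676 D63894
theorem N31125 : nd 31125 = n63895 := ndS (p := 30677) (l := 6) rfl N30677 D63895
theorem N31126 : nd 31126 = n63896 := ndS (p := 30679) (l := 3) rfl N30679 D63896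
theorem N31127 : nd 31127 = n63897 := ndS (p := 30679) (l := 5) rfl N30679 D63897
theorem N31128 : nd 31128 = n63898 := ndS (p := 30680) (l := 2) rfl N30680 D63898
theorem N31129 : nd 31129 = n63899 := ndS (p := 30680) (l := 5) rfl N30680 D63899
theorem N31130 : nd 31130 = n63900 := ndS (p := 30680) (l := 8) rfl N30680 D63900
theorem N31131 : nd 31131 = n63901 := ndS (p := 30681) (l := 6) rfl N30681 D63901
theorem N31132 : nd 31132 = n63902 := ndS (p := 30685) (l := 6) rfl N30685 D63902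
theorem N31133 : nd 31133 = n63903 := ndS (p := 30687) (l := 2) rfl N30687 D63903
theorem N31134 : nd 31134 = n63904 := ndS (p := 30687) (l := 8) rfl N30687 D63904
theorem N31135 : nd 31135 = n63905 := ndS (p := 30690) (l := 2) rfl N30690 D63905
theorem N31136 : nd 31136 = n63906 := ndS (p := 30690) (l := 5) rfl N30690 D63906
theorem N31137 : nd 31137 = n63907 := ndS (p := 30692) (l := 5) rfl N30692 D63907
theorem N31138 : nd 31138 = n63908 := ndS (p := 30693) (l := 4) rfl N30693 D63908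
theorem N31139 : nd 31139 = n63909 := ndS (p := 30695) (l := 9) rfl N30695 D63909
theorem N31140 : nd 31140 = n63910 := ndS (p := 30697) (l := 9) rfl N30697 D63910
theorem N31141 : nd 31141 = n63911 := ndS (p := 30700) (l := 3) rfl N30700 D63911
theorem N31142 : nd 31142 = n63912 := ndS (p := 30701) (l := 2) rfl N30701 D63912
theorem N31143 : nd 31143 = n63913 := ndS (p := 30702) (l := 2) rfl N30702 D63913
theorem N31144 : nd 31144 = n63914 := ndS (p := 30704) (l := 5) rfl N30704 D63914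
theorem N31145 : nd 31145 = n63915 := ndS (p := 30704) (l := 8) rfl N30704 D63915
theorem N31146 : nd 31146 = n63916 := ndS (p := 30705) (l := 6) rfl N30705 D63916
theorem N31147 : nd 31147 = n63917 := ndS (p := 30709) (l := 2) rfl N30709 D63917
theorem N31148 : nd 31148 = n63918 := ndS (p := 30709) (l := 5) rfl N30709 D63918
theorem N31149 : nd 31149 = n63919 := ndS (p := 30710) (l := 6) rfl N30710 D63919
theorem N31150 : nd 31150 = n63920 := ndS (p := 30711) (l := 5) rfl N30711 D63920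
theorem N31151 : nd 31151 = n63921 := ndS (p := 30712) (l := 4) rfl N30712 D63921
theorem N31152 : nd 31152 = n63922 := ndS (p := 30712) (l := 6) rfl N30712 D63922
theorem N31153 : nd 31153 = n63923 := ndS (p := 30716) (l := 2) rfl N30716 D63923
theorem N31154 : nd 31154 = n63924 := ndS (p := 30716) (l := 5) rfl N30716 D63924
theorem N31155 : nd 31155 = n63925 := ndS (p := 30716) (l := 8) rfl N30716 D63925
theorem N31156 : nd 31156 = n63926 := ndS (p := 30717) (l := 6) rfl N30717 D63926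
theorem N31157 : nd 31157 = n63927 := ndS (p := 30718) (l := 5) rfl N30718 D63927
theorem N31158 : nd 31158 = n63928 := ndS (p := 30718) (l := 8) rfl N30718 D63928
theorem N31159 : nd 31159 = n63929 := ndS (p := 30719) (l := 6) rfl N30719 D63929
theorem N31160 : nd 31160 = n63930 := ndS (p := 30719) (l := 8) rfl N30719 D63930
theorem N31161 : nd 31161 = n63931 := ndS (p := 30724) (l := 7) rfl N30724 D63931
theorem N31162 : nd 31162 = n63932 := ndS (p := 30726) (l := 1) rfl N30726 D63932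
theorem N31163 : nd 31163 = n63933 := ndS (p := 30726) (l := 8) rfl N30726 D63933
theorem N31164 : nd 31164 = n63934 := ndS (p := 30727) (l := 9) rfl N30727 D63934
theorem N31165 : nd 31165 = n63935 := ndS (p := 30728) (l := 9) rfl N30728 D63935
theorem N31166 : nd 31166 = n63936 := ndS (p := 30731) (l := 2) rfl N30731 D63936
theorem N31167 : nd 31167 = n63937 := ndS (p := 30733) (l := 2) rfl N30733 D63937
theorem N31168 : nd 31168 = n63938 := ndS (p := 30736) (l := 2) rfl N30736 D63938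
theorem N31169 : nd 31169 = n63939 := ndS (p := 30736) (l := 5) rfl N30736 D63939
theorem N31170 : nd 31170 = n63940 := ndS (p := 30738) (l := 5) rfl N30738 D63940
theorem N31171 : nd 31171 = n63941 := ndS (p := 30739) (l := 4) rfl N30739 D63941
theorem N31172 : nd 31172 = n63942 := ndS (p := 30741) (l := 1) rfl N30741 D63942
theorem N31173 : nd 31173 = n63943 := ndS (p := 30741) (l := 5) rfl N30741 D63943
theorem N31174 : nd 31174 = n63944 := ndS (p := 30742) (l := 4) rfl N30742 D63944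
theorem N31175 : nd 31175 = n63945 := ndS (p := 30743) (l := 4) rfl N30743 D63945
theorem N31176 : nd 31176 = n63946 := ndS (p := 30747) (l := 2) rfl N30747 D63946
theorem N31177 : nd 31177 = n63947 := ndS (p := 30749) (l := 2) rfl N30749 D63947
theorem N31178 : nd 31178 = n63948 := ndS (p := 30753) (l := 2) rfl N30753 D63948
theorem N31179 : nd 31179 = n63949 := ndS (p := 30753) (l := 5) rfl N30753 D63949
theorem N31180 : nd 31180 = n63950 := ndS (p := 30753) (l := 8) rfl N30753 D63950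
theorem N31181 : nd 31181 = n63951 := ndS (p := 30755) (l := 5) rfl N30755 D63951
theorem N31182 : nd 31182 = n63952 := ndS (p := 30755) (l := 8) rfl N30755 D63952
theorem N31183 : nd 31183 = n63953 := ndS (p := 30756) (l := 8) rfl N30756 D63953
theorem N31184 : nd 31184 = n63954 := ndS (p := 30759) (l := 1) rfl N30759 D63954
theorem N31185 : nd 31185 = n63955 := ndS (p := 30759) (l := 5) rfl N30759 D63955
theorem N31186 : nd 31186 = n63956 := ndS (p := 30759) (l := 8) rfl N30759 D63956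
theorem N31187 : nd 31187 = n63957 := ndS (p := 30760) (l := 4) rfl N30760 D63957
theorem N31188 : nd 31188 = n63958 := ndS (p := 30761) (l := 9) rfl N30761 D63958
theorem N31189 : nd 31189 = n63959 := ndS (p := 30762) (l := 4) rfl N30762 D63959
theorem N31190 : nd 31190 = n63960 := ndS (p := 30763) (l := 9) rfl N30763 D63960
theorem N31191 : nd 31191 = n63961 := ndS (p := 30768) (l := 6) rfl N30768 D63961
theorem N31192 : nd 31192 = n63962 := ndS (p := 30772) (l := 2) rfl N30772 D63962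
theorem N31193 : nd 31193 = n63963 := ndS (p := 30774) (l := 1) rfl N30774 D63963
theorem N31194 : nd 31194 = n63964 := ndS (p := 30775) (l := 2) rfl N30775 D63964
theorem N31195 : nd 31195 = n63965 := ndS (p := 30777) (l := 1) rfl N30777 D63965
theorem N31196 : nd 31196 = n63966 := ndS (p := 30778) (l := 1) rfl N30778 D63966
theorem N31197 : nd 31197 = n63967 := ndS (p := 30779) (l := 2) rfl N30779 D63967
theorem N31198 : nd 31198 = n63968 := ndS (p := 30779) (l := 8) rfl N30779 D63968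
theorem N31199 : nd 31199 = n63969 := ndS (p := 30780) (l := 8) rfl N30780 D63969
theorem N31200 : nd 31200 = n63970 := ndS (p := 30782) (l := 2) rfl N30782 D63970
theorem N31201 : nd 31201 = n63971 := ndS (p := 30782) (l := 5) rfl N30782 D63971
theorem N31202 : nd 31202 = n63972 := ndS (p := 30782) (l := 8) rfl N30782 D63972
theorem N31203 : nd 31203 = n63973 := ndS (p := 30783) (l := 6) rfl N30783 D63973
theorem N31204 : nd 31204 = n63974 := ndS (p := 30784) (l := 5) rfl N30784 D63974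
theorem N31205 : nd 31205 = n63975 := ndS (p := 30784) (l := 8) rfl N30784 D63975
theorem N31206 : nd 31206 = n63976 := ndS (p := 30789) (l := 1) rfl N30789 D63976
theorem N31207 : nd 31207 = n63977 := ndS (p := 30789) (l := 8) rfl N30789 D63977
theorem N31208 : nd 31208 = n63978 := ndS (p := 30792) (l := 2) rfl N30792 D63978
theorem N31209 : nd 31209 = n63979 := ndS (p := 30794) (l := 8) rfl N30794 D63979
theorem N31210 : nd 31210 = n63980 := ndS (p := 30798) (l := 2) rfl N30798 D63980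
theorem N31211 : nd 31211 = n63981 := ndS (p := 30800) (l := 1) rfl N30800 D63981
theorem N31212 : nd 31212 = n63982 := ndS (p := 30801) (l := 2) rfl N30801 D63982
theorem N31213 : nd 31213 = n63983 := ndS (p := 30804) (l := 2) rfl N30804 D63983
theorem N31214 : nd 31214 = n63984 := ndS (p := 30804) (l := 8) rfl N30804 D63984
theorem N31215 : nd 31215 = n63985 := ndS (p := 30805) (l := 8) rfl N30805 D63985
theorem N31216 : nd 31216 = n63986 := ndS (p := 30807) (l := 1) rfl N30807 D63986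
theorem N31217 : nd 31217 = n63987 := ndS (p := 30807) (l := 8) rfl N30807 D63987
theorem N31218 : nd 31218 = n63988 := ndS (p := 30810) (l := 2) rfl N30810 D63988
theorem N31219 : nd 31219 = n63989 := ndS (p := 30812) (l := 2) rfl N30812 D63989
theorem N31220 : nd 31220 = n63990 := ndS (p := 30812) (l := 8) rfl N30812 D63990
theorem N31221 : nd 31221 = n63991 := ndS (p := 30813) (l := 8) rfl N30813 D63991
theorem N31222 : nd 31222 = n63992 := ndS (p := 30815) (l := 1) rfl N30815 D63992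
theorem N31223 : nd 31223 = n63993 := ndS (p := 30815) (l := 8) rfl N30815 D63993
theorem N31224 : nd 31224 = n63994 := ndS (p := 30816) (l := 9) rfl N30816 D63994
theorem N31225 : nd 31225 = n63995 := ndS (p := 30817) (l := 9) rfl N30817 D63995
theorem N31226 : nd 31226 = n63996 := ndS (p := 30819) (l := 5) rfl N30819 D63996
theorem N31227 : nd 31227 = n63997 := ndS (p := 30819) (l := 8) rfl N30819 D63997
theorem N31228 : nd 31228 = n63998 := ndS (p := 30823) (l := 2) rfl N30823 D63998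
theorem N31229 : nd 31229 = n63999 := ndS (p := 30826) (l := 4) rfl N30826 D63999
theorem N31230 : nd 31230 = n64000 := ndS (p := 30829) (l := 2) rfl N30829 D64000
theorem N31231 : nd 31231 = n64001 := ndS (p := 30829) (l := 5) rfl N30829 D64001
theorem N31232 : nd 31232 = n64002 := ndS (p := 30829) (l := 8) rfl N30829 D64002
theorem N31233 : nd 31233 = n64003 := ndS (p := 30830) (l := 6) rfl N30830 D64003
theorem N31234 : nd 31234 = n64004 := ndS (p := 30831) (l := 5) rfl N30831 D64004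
theorem N31235 : nd 31235 = n64005 := ndS (p := 30831) (l := 8) rfl N30831 D64005
theorem N31236 : nd 31236 = n64006 := ndS (p := 30835) (l := 1) rfl N30835 D64006
theorem N31237 : nd 31237 = n64007 := ndS (p := 30835) (l := 5) rfl N30835 D64007
theorem N31238 : nd 31238 = n64008 := ndS (p := 30835) (l := 8) rfl N30835 D64008
theorem N31239 : nd 31239 = n64009 := ndS (p := 30841) (l := 1) rfl N30841 D64009
theorem N31240 : nd 31240 = n64010 := ndS (p := 30841) (l := 8) rfl N30841 D64010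
theorem N31241 : nd 31241 = n64011 := ndS (p := 30842) (l := 9) rfl N30842 D64011
theorem N31242 : nd 31242 = n64012 := ndS (p := 30843) (l := 9) rfl N30843 D64012
theorem N31243 : nd 31243 = n64013 := ndS (p := 30845) (l := 8) rfl N30845 D64013
theorem N31244 : nd 31244 = n64014 := ndS (p := 30846) (l := 3) rfl N30846 D64014
theorem N31245 : nd 31245 = n64015 := ndS (p := 30846) (l := 9) rfl N30846 D64015
theorem N31246 : nd 31246 = n64016 := ndS (p := 30848) (l := 9) rfl N30848 D64016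
theorem N31247 : nd 31247 = n64017 := ndS (p := 30850) (l := 2) rfl N30850 D64017
theorem N31248 : nd 31248 = n64018 := ndS (p := 30852) (l := 1) rfl N30852 D64018
theorem N31249 : nd 31249 = n64019 := ndS (p := 30852) (l := 8) rfl N30852 D64019
theorem N31250 : nd 31250 = n64020 := ndS (p := 30857) (l := 9) rfl N30857 D64020
theorem N31251 : nd 31251 = n64021 := ndS (p := 30862) (l := 9) rfl N30862 D64021
theorem N31252 : nd 31252 = n64022 := ndS (p := 30865) (l := 2) rfl N30865 D64022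
theorem N31253 : nd 31253 = n64023 := ndS (p := 30867) (l := 1) rfl N30867 D64023
theorem N31254 : nd 31254 = n64024 := ndS (p := 30868) (l := 1) rfl N30868 D64024
theorem N31255 : nd 31255 = n64025 := ndS (p := 30869) (l := 8) rfl N30869 D64025
theorem N31256 : nd 31256 = n64026 := ndS (p := 30871) (l := 2) rfl N30871 D64026
theorem N31257 : nd 31257 = n64027 := ndS (p := 30873) (l := 1) rfl N30873 D64027
theorem N31258 : nd 31258 = n64028 := ndS (p := 30873) (l := 8) rfl N30873 D64028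
theorem N31259 : nd 31259 = n64029 := ndS (p := 30874) (l := 9) rfl N30874 D64029
theorem N31260 : nd 31260 = n64030 := ndS (p := 30875) (l := 9) rfl N30875 D64030
theorem N31261 : nd 31261 = n64031 := ndS (p := 30878) (l := 8) rfl N30878 D64031
theorem N31262 : nd 31262 = n64032 := ndS (p := 30879) (l := 9) rfl N30879 D64032
theorem N31263 : nd 31263 = n64033 := ndS (p := 30886) (l := 1) rfl N30886 D64033
theorem N31264 : nd 31264 = n64034 := ndS (p := 30887) (l := 2) rfl N30887 D64034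
theorem N31265 : nd 31265 = n64035 := ndS (p := 30890) (l := 2) rfl N30890 D64035
theorem N31266 : nd 31266 = n64036 := ndS (p := 30890) (l := 5) rfl N30890 D64036
theorem N31267 : nd 31267 = n64037 := ndS (p := 30890) (l := 8) rfl N30890 D64037
theorem N31268 : nd 31268 = n64038 := ndS (p := 30892) (l := 5) rfl N30892 D64038
theorem N31269 : nd 31269 = n64039 := ndS (p := 30892) (l := 8) rfl N30892 D64039
theorem N31270 : nd 31270 = n64040 := ndS (p := 30895) (l := 1) rfl N30895 D64040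
theorem N31271 : nd 31271 = n64041 := ndS (p := 30895) (l := 5) rfl N30895 D64041
theorem N31272 : nd 31272 = n64042 := ndS (p := 30898) (l := 1) rfl N30898 D64042
theorem N31273 : nd 31273 = n64043 := ndS (p := 30898) (l := 8) rfl N30898 D64043
theorem N31274 : nd 31274 = n64044 := ndS (p := 30899) (l := 9) rfl N30899 D64044
theorem N31275 : nd 31275 = n64045 := ndS (p := 30900) (l := 9) rfl N30900 D64045
theorem N31276 : nd 31276 = n64046 := ndS (p := 30902) (l := 5) rfl N30902 D64046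
theorem N31277 : nd 31277 = n64047 := ndS (p := 30902) (l := 8) rfl N30902 D64047
theorem N31278 : nd 31278 = n64048 := ndS (p := 30903) (l := 4) rfl N30903 D64048
theorem N31279 : nd 31279 = n64049 := ndS (p := 30904) (l := 9) rfl N30904 D64049
theorem N31280 : nd 31280 = n64050 := ndS (p := 30911) (l := 1) rfl N30911 D64050
theorem N31281 : nd 31281 = n64051 := ndS (p := 30912) (l := 1) rfl N30912 D64051
theorem N31282 : nd 31282 = n64052 := ndS (p := 30913) (l := 1) rfl N30913 D64052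
theorem N31283 : nd 31283 = n64053 := ndS (p := 30913) (l := 8) rfl N30913 D64053
theorem N31284 : nd 31284 = n64054 := ndS (p := 30914) (l := 9) rfl N30914 D64054
theorem N31285 : nd 31285 = n64055 := ndS (p := 30915) (l := 9) rfl N30915 D64055
theorem N31286 : nd 31286 = n64056 := ndS (p := 30917) (l := 2) rfl N30917 D64056
theorem N31287 : nd 31287 = n64057 := ndS (p := 30920) (l := 1) rfl N30920 D64057
theorem N31288 : nd 31288 = n64058 := ndS (p := 30921) (l := 1) rfl N30921 D64058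
theorem N31289 : nd 31289 = n64059 := ndS (p := 30922) (l := 2) rfl N30922 D64059
theorem N31290 : nd 31290 = n64060 := ndS (p := 30925) (l := 2) rfl N30925 D64060
theorem N31291 : nd 31291 = n64061 := ndS (p := 30927) (l := 2) rfl N30927 D64061
theorem N31292 : nd 31292 = n64062 := ndS (p := 30929) (l := 1) rfl N30929 D64062
theorem N31293 : nd 31293 = n64063 := ndS (p := 30930) (l := 1) rfl N30930 D64063
theorem N31294 : nd 31294 = n64064 := ndS (p := 30931) (l := 1) rfl N30931 D64064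
theorem N31295 : nd 31295 = n64065 := ndS (p := 30933) (l := 1) rfl N30933 D64065
theorem N31296 : nd 31296 = n64066 := ndS (p := 30934) (l := 8) rfl N30934 D64066
theorem N31297 : nd 31297 = n64067 := ndS (p := 30935) (l := 9) rfl N30935 D64067
theorem N31298 : nd 31298 = n64068 := ndS (p := 30938) (l := 2) rfl N30938 D64068
theorem N31299 : nd 31299 = n64069 := ndS (p := 30940) (l := 1) rfl N30940 D64069
theorem N31300 : nd 31300 = n64070 := ndS (p := 30942) (l := 1) rfl N30942 D64070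
theorem N31301 : nd 31301 = n64071 := ndS (p := 30943) (l := 1) rfl N30943 D64071
theorem N31302 : nd 31302 = n64072 := ndS (p := 30944) (l := 1) rfl N30944 D64072
theorem N31303 : nd 31303 = n64073 := ndS (p := 30946) (l := 2) rfl N30946 D64073
theorem N31304 : nd 31304 = n64074 := ndS (p := 30949) (l := 1) rfl N30949 D64074
theorem N31305 : nd 31305 = n64075 := ndS (p := 30950) (l := 2) rfl N30950 D64075
theorem N31306 : nd 31306 = n64076 := ndS (p := 30953) (l := 1) rfl N30953 D64076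
theorem N31307 : nd 31307 = n64077 := ndS (p := 30954) (l := 1) rfl N30954 D64077
theorem N31308 : nd 31308 = n64078 := ndS (p := 30955) (l := 1) rfl N30955 D64078
theorem N31309 : nd 31309 = n64079 := ndS (p := 30957) (l := 1) rfl N30957 D64079
theorem N31310 : nd 31310 = n64080 := ndS (p := 30958) (l := 1) rfl N30958 D64080
theorem N31311 : nd 31311 = n64081 := ndS (p := 30960) (l := 1) rfl N30960 D64081
theorem N31312 : nd 31312 = n64082 := ndS (p := 30961) (l := 1) rfl N30961 D64082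
theorem N31313 : nd 31313 = n64083 := ndS (p := 30964) (l := 1) rfl N30964 D64083
theorem N31314 : nd 31314 = n64084 := ndS (p := 30966) (l := 1) rfl N30966 D64084
theorem N31315 : nd 31315 = n64085 := ndS (p := 30966) (l := 8) rfl N30966 D64085
theorem N31316 : nd 31316 = n64086 := ndS (p := 30967) (l := 9) rfl N30967 D64086
theorem N31317 : nd 31317 = n64087 := ndS (p := 30968) (l := 9) rfl N30968 D64087
theorem N31318 : nd 31318 = n64088 := ndS (p := 30971) (l := 2) rfl N30971 D64088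
theorem N31319 : nd 31319 = n64089 := ndS (p := 30973) (l := 1) rfl N30973 D64089
theorem N31320 : nd 31320 = n64090 := ndS (p := 30974) (l := 1) rfl N30974 D64090
theorem N31321 : nd 31321 = n64091 := ndS (p := 30978) (l := 3) rfl N30978 D64091
theorem N31322 : nd 31322 = n64092 := ndS (p := 30981) (l := 2) rfl N30981 D64092
theorem N31323 : nd 31323 = n64093 := ndS (p := 30981) (l := 8) rfl N30981 D64093
theorem N31324 : nd 31324 = n64094 := ndS (p := 30982) (l := 8) rfl N30982 D64094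
theorem N31325 : nd 31325 = n64095 := ndS (p := 30984) (l := 5) rfl N30984 D64095
theorem N31326 : nd 31326 = n64096 := ndS (p := 30985) (l := 6) rfl N30985 D64096
theorem N31327 : nd 31327 = n64097 := ndS (p := 30988) (l := 2) rfl N30988 D64097
theorem N31328 : nd 31328 = n64098 := ndS (p := 30988) (l := 5) rfl N30988 D64098
theorem N31329 : nd 31329 = n64099 := ndS (p := 30989) (l := 6) rfl N30989 D64099
theorem N31330 : nd 31330 = n64100 := ndS (p := 30990) (l := 5) rfl N30990 D64100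
theorem N31331 : nd 31331 = n64101 := ndS (p := 30991) (l := 4) rfl N30991 D64101
theorem N31332 : nd 31332 = n64102 := ndS (p := 30991) (l := 6) rfl N30991 D64102
theorem N31333 : nd 31333 = n64103 := ndS (p := 30995) (l := 2) rfl N30995 D64103
theorem N31334 : nd 31334 = n64104 := ndS (p := 30995) (l := 5) rfl N30995 D64104
theorem N31335 : nd 31335 = n64105 := ndS (p := 30995) (l := 8) rfl N30995 D64105
theorem N31336 : nd 31336 = n64106 := ndS (p := 30996) (l := 6) rfl N30996 D64106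
theorem N31337 : nd 31337 = n64107 := ndS (p := 30997) (l := 5) rfl N30997 D64107
theorem N31338 : nd 31338 = n64108 := ndS (p := 30997) (l := 8) rfl N30997 D64108
theorem N31339 : nd 31339 = n64109 := ndS (p := 30998) (l := 6) rfl N30998 D64109
theorem N31340 : nd 31340 = n64110 := ndS (p := 30998) (l := 8) rfl N30998 D64110
theorem N31341 : nd 31341 = n64111 := ndS (p := 31004) (l := 1) rfl N31004 D64111
theorem N31342 : nd 31342 = n64112 := ndS (p := 31004) (l := 8) rfl N31004 D64112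
theorem N31343 : nd 31343 = n64113 := ndS (p := 31005) (l := 9) rfl N31005 D64113
theorem N31344 : nd 31344 = n64114 := ndS (p := 31006) (l := 9) rfl N31006 D64114
theorem N31345 : nd 31345 = n64115 := ndS (p := 31008) (l := 2) rfl N31008 D64115
theorem N31346 : nd 31346 = n64116 := ndS (p := 31009) (l := 6) rfl N31009 D64116
theorem N31347 : nd 31347 = n64117 := ndS (p := 31013) (l := 8) rfl N31013 D64117
theorem N31348 : nd 31348 = n64118 := ndS (p := 31017) (l := 2) rfl N31017 D64118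
theorem N31349 : nd 31349 = n64119 := ndS (p := 31017) (l := 5) rfl N31017 D64119
theorem N31350 : nd 31350 = n64120 := ndS (p := 31019) (l := 5) rfl N31019 D64120
theorem N31351 : nd 31351 = n64121 := ndS (p := 31020) (l := 4) rfl N31020 D64121
theorem N31352 : nd 31352 = n64122 := ndS (p := 31022) (l := 1) rfl N31022 D64122
theorem N31353 : nd 31353 = n64123 := ndS (p := 31022) (l := 5) rfl N31022 D64123
theorem N31354 : nd 31354 = n64124 := ndS (p := 31023) (l := 4) rfl N31023 D64124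
theorem N31355 : nd 31355 = n64125 := ndS (p := 31024) (l := 4) rfl N31024 D64125
theorem N31356 : nd 31356 = n64126 := ndS (p := 31028) (l := 2) rfl N31028 D64126
theorem N31357 : nd 31357 = n64127 := ndS (p := 31028) (l := 5) rfl N31028 D64127
theorem N31358 : nd 31358 = n64128 := ndS (p := 31028) (l := 8) rfl N31028 D64128
theorem N31359 : nd 31359 = n64129 := ndS (p := 31030) (l := 5) rfl N31030 D64129
theorem N31360 : nd 31360 = n64130 := ndS (p := 31030) (l := 8) rfl N31030 D64130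
theorem N31361 : nd 31361 = n64131 := ndS (p := 31031) (l := 8) rfl N31031 D64131
theorem N31362 : nd 31362 = n64132 := ndS (p := 31034) (l := 1) rfl N31034 D64132
theorem N31363 : nd 31363 = n64133 := ndS (p := 31034) (l := 5) rfl N31034 D64133
theorem N31364 : nd 31364 = n64134 := ndS (p := 31034) (l := 8) rfl N31034 D64134
theorem N31365 : nd 31365 = n64135 := ndS (p := 31036) (l := 9) rfl N31036 D64135
theorem N31366 : nd 31366 = n64136 := ndS (p := 31038) (l := 9) rfl N31038 D64136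
theorem N31367 : nd 31367 = n64137 := ndS (p := 31042) (l := 2) rfl N31042 D64137
theorem N31368 : nd 31368 = n64138 := ndS (p := 31044) (l := 1) rfl N31044 D64138
theorem N31369 : nd 31369 = n64139 := ndS (p := 31045) (l := 1) rfl N31045 D64139
theorem N31370 : nd 31370 = n64140 := ndS (p := 31046) (l := 1) rfl N31046 D64140
theorem N31371 : nd 31371 = n64141 := ndS (p := 31047) (l := 1) rfl N31047 D64141
theorem N31372 : nd 31372 = n64142 := ndS (p := 31047) (l := 8) rfl N31047 D64142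
theorem N31373 : nd 31373 = n64143 := ndS (p := 31048) (l := 9) rfl N31048 D64143
theorem N31374 : nd 31374 = n64144 := ndS (p := 31049) (l := 9) rfl N31049 D64144
theorem N31375 : nd 31375 = n64145 := ndS (p := 31052) (l := 2) rfl N31052 D64145
theorem N31376 : nd 31376 = n64146 := ndS (p := 31052) (l := 5) rfl N31052 D64146
theorem N31377 : nd 31377 = n64147 := ndS (p := 31053) (l := 6) rfl N31053 D64147
theorem N31378 : nd 31378 = n64148 := ndS (p := 31054) (l := 5) rfl N31054 D64148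
theorem N31379 : nd 31379 = n64149 := ndS (p := 31057) (l := 2) rfl N31057 D64149
theorem N31380 : nd 31380 = n64150 := ndS (p := 31057) (l := 5) rfl N31057 D64150
theorem N31381 : nd 31381 = n64151 := ndS (p := 31058) (l := 6) rfl N31058 D64151
theorem N31382 : nd 31382 = n64152 := ndS (p := 31059) (l := 5) rfl N31059 D64152
theorem N31383 : nd 31383 = n64153 := ndS (p := 31063) (l := 2) rfl N31063 D64153
theorem N31384 : nd 31384 = n64154 := ndS (p := 31063) (l := 5) rfl N31063 D64154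
theorem N31385 : nd 31385 = n64155 := ndS (p := 31065) (l := 5) rfl N31065 D64155
theorem N31386 : nd 31386 = n64156 := ndS (p := 31067) (l := 1) rfl N31067 D64156
theorem N31387 : nd 31387 = n64157 := ndS (p := 31067) (l := 8) rfl N31067 D64157
theorem N31388 : nd 31388 = n64158 := ndS (p := 31071) (l := 1) rfl N31071 D64158
theorem N31389 : nd 31389 = n64159 := ndS (p := 31071) (l := 5) rfl N31071 D64159
theorem N31390 : nd 31390 = n64160 := ndS (p := 31072) (l := 4) rfl N31072 D64160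
theorem N31391 : nd 31391 = n64161 := ndS (p := 31073) (l := 4) rfl N31073 D64161
theorem N31392 : nd 31392 = n64162 := ndS (p := 31075) (l := 1) rfl N31075 D64162
theorem N31393 : nd 31393 = n64163 := ndS (p := 31075) (l := 5) rfl N31075 D64163
theorem N31394 : nd 31394 = n64164 := ndS (p := 31075) (l := 8) rfl N31075 D64164
theorem N31395 : nd 31395 = n64165 := ndS (p := 31076) (l := 8) rfl N31076 D64165
theorem N31396 : nd 31396 = n64166 := ndS (p := 31078) (l := 8) rfl N31078 D64166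
theorem N31397 : nd 31397 = n64167 := ndS (p := 31081) (l := 8) rfl N31081 D64167
theorem N31398 : nd 31398 = n64168 := ndS (p := 31082) (l := 9) rfl N31082 D64168
theorem N31399 : nd 31399 = n64169 := ndS (p := 31085) (l := 2) rfl N31085 D64169
theorem N31400 : nd 31400 = n64170 := ndS (p := 31085) (l := 5) rfl N31085 D64170
theorem N31401 : nd 31401 = n64171 := ndS (p := 31085) (l := 8) rfl N31085 D64171
theorem N31402 : nd 31402 = n64172 := ndS (p := 31087) (l := 5) rfl N31087 D64172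
theorem N31403 : nd 31403 = n64173 := ndS (p := 31087) (l := 8) rfl N31087 D64173
theorem N31404 : nd 31404 = n64174 := ndS (p := 31090) (l := 1) rfl N31090 D64174
theorem N31405 : nd 31405 = n64175 := ndS (p := 31090) (l := 8) rfl N31090 D64175
theorem N31406 : nd 31406 = n64176 := ndS (p := 31091) (l := 9) rfl N31091 D64176
theorem N31407 : nd 31407 = n64177 := ndS (p := 31092) (l := 9) rfl N31092 D64177
theorem N31408 : nd 31408 = n64178 := ndS (p := 31094) (l := 1) rfl N31094 D64178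
theorem N31409 : nd 31409 = n64179 := ndS (p := 31095) (l := 1) rfl N31095 D64179
theorem N31410 : nd 31410 = n64180 := ndS (p := 31096) (l := 1) rfl N31096 D64180
theorem N31411 : nd 31411 = n64181 := ndS (p := 31097) (l := 5) rfl N31097 D64181
theorem N31412 : nd 31412 = n64182 := ndS (p := 31098) (l := 4) rfl N31098 D64182
theorem N31413 : nd 31413 = n64183 := ndS (p := 31101) (l := 2) rfl N31101 D64183
theorem N31414 : nd 31414 = n64184 := ndS (p := 31103) (l := 1) rfl N31103 D64184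
theorem N31415 : nd 31415 = n64185 := ndS (p := 31103) (l := 5) rfl N31103 D64185
theorem N31416 : nd 31416 = n64186 := ndS (p := 31103) (l := 8) rfl N31103 D64186
theorem N31417 : nd 31417 = n64187 := ndS (p := 31108) (l := 8) rfl N31108 D64187
theorem N31418 : nd 31418 = n64188 := ndS (p := 31109) (l := 3) rfl N31109 D64188
theorem N31419 : nd 31419 = n64189 := ndS (p := 31109) (l := 9) rfl N31109 D64189
theorem N31420 : nd 31420 = n64190 := ndS (p := 31111) (l := 4) rfl N31111 D64190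
theorem N31421 : nd 31421 = n64191 := ndS (p := 31113) (l := 2) rfl N31113 D64191
theorem N31422 : nd 31422 = n64192 := ndS (p := 31116) (l := 2) rfl N31116 D64192
theorem N31423 : nd 31423 = n64193 := ndS (p := 31119) (l := 1) rfl N31119 D64193
theorem N31424 : nd 31424 = n64194 := ndS (p := 31120) (l := 1) rfl N31120 D64194
theorem N31425 : nd 31425 = n64195 := ndS (p := 31122) (l := 2) rfl N31122 D64195
theorem N31426 : nd 31426 = n64196 := ndS (p := 31123) (l := 6) rfl N31123 D64196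
theorem N31427 : nd 31427 = n64197 := ndS (p := 31126) (l := 2) rfl N31126 D64197
theorem N31428 : nd 31428 = n64198 := ndS (p := 31126) (l := 5) rfl N31126 D64198
theorem N31429 : nd 31429 = n64199 := ndS (p := 31126) (l := 8) rfl N31126 D64199
theorem N31430 : nd 31430 = n64200 := ndS (p := 31127) (l := 6) rfl N31127 D64200
theorem N31431 : nd 31431 = n64201 := ndS (p := 31128) (l := 5) rfl N31128 D64201
theorem N31432 : nd 31432 = n64202 := ndS (p := 31133) (l := 1) rfl N31133 D64202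
theorem N31433 : nd 31433 = n64203 := ndS (p := 31135) (l := 1) rfl N31135 D64203
theorem N31434 : nd 31434 = n64204 := ndS (p := 31135) (l := 5) rfl N31135 D64204
theorem N31435 : nd 31435 = n64205 := ndS (p := 31136) (l := 4) rfl N31136 D64205
theorem N31436 : nd 31436 = n64206 := ndS (p := 31137) (l := 4) rfl N31137 D64206
theorem N31437 : nd 31437 = n64207 := ndS (p := 31141) (l := 2) rfl N31141 D64207
theorem N31438 : nd 31438 = n64208 := ndS (p := 31143) (l := 1) rfl N31143 D64208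
theorem N31439 : nd 31439 = n64209 := ndS (p := 31147) (l := 1) rfl N31147 D64209
theorem N31440 : nd 31440 = n64210 := ndS (p := 31147) (l := 5) rfl N31147 D64210
theorem N31441 : nd 31441 = n64211 := ndS (p := 31148) (l := 4) rfl N31148 D64211
theorem N31442 : nd 31442 = n64212 := ndS (p := 31148) (l := 6) rfl N31148 D64212
theorem N31443 : nd 31443 = n64213 := ndS (p := 31150) (l := 4) rfl N31150 D64213
theorem N31444 : nd 31444 = n64214 := ndS (p := 31150) (l := 6) rfl N31150 D64214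
theorem N31445 : nd 31445 = n64215 := ndS (p := 31153) (l := 1) rfl N31153 D64215
theorem N31446 : nd 31446 = n64216 := ndS (p := 31153) (l := 5) rfl N31153 D64216
theorem N31447 : nd 31447 = n64217 := ndS (p := 31153) (l := 8) rfl N31153 D64217
theorem N31448 : nd 31448 = n64218 := ndS (p := 31154) (l := 6) rfl N31154 D64218
theorem N31449 : nd 31449 = n64219 := ndS (p := 31154) (l := 8) rfl N31154 D64219
theorem N31450 : nd 31450 = n64220 := ndS (p := 31157) (l := 6) rfl N31157 D64220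
theorem N31451 : nd 31451 = n64221 := ndS (p := 31157) (l := 8) rfl N31157 D64221
theorem N31452 : nd 31452 = n64222 := ndS (p := 31162) (l := 8) rfl N31162 D64222
theorem N31453 : nd 31453 = n64223 := ndS (p := 31163) (l := 9) rfl N31163 D64223
theorem N31454 : nd 31454 = n64224 := ndS (p := 31166) (l := 1) rfl N31166 D64224
theorem N31455 : nd 31455 = n64225 := ndS (p := 31167) (l := 1) rfl N31167 D64225
theorem N31456 : nd 31456 = n64226 := ndS (p := 31168) (l := 1) rfl N31168 D64226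
theorem N31457 : nd 31457 = n64227 := ndS (p := 31168) (l := 5) rfl N31168 D64227
theorem N31458 : nd 31458 = n64228 := ndS (p := 31169) (l := 4) rfl N31169 D64228
theorem N31459 : nd 31459 = n64229 := ndS (p := 31170) (l := 4) rfl N31170 D64229
theorem N31460 : nd 31460 = n64230 := ndS (p := 31172) (l := 5) rfl N31172 D64230
theorem N31461 : nd 31461 = n64231 := ndS (p := 31173) (l := 4) rfl N31173 D64231
theorem N31462 : nd 31462 = n64232 := ndS (p := 31176) (l := 1) rfl N31176 D64232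
theorem N31463 : nd 31463 = n64233 := ndS (p := 31177) (l := 1) rfl N31177 D64233
theorem N31464 : nd 31464 = n64234 := ndS (p := 31178) (l := 1) rfl N31178 D64234
theorem N31465 : nd 31465 = n64235 := ndS (p := 31178) (l := 5) rfl N31178 D64235
theorem N31466 : nd 31466 = n64236 := ndS (p := 31178) (l := 8) rfl N31178 D64236
theorem N31467 : nd 31467 = n64237 := ndS (p := 31179) (l := 8) rfl N31179 D64237
theorem N31468 : nd 31468 = n64238 := ndS (p := 31181) (l := 8) rfl N31181 D64238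
theorem N31469 : nd 31469 = n64239 := ndS (p := 31184) (l := 5) rfl N31184 D64239
theorem N31470 : nd 31470 = n64240 := ndS (p := 31184) (l := 8) rfl N31184 D64240
theorem N31471 : nd 31471 = n64241 := ndS (p := 31185) (l := 4) rfl N31185 D64241
theorem N31472 : nd 31472 = n64242 := ndS (p := 31186) (l := 9) rfl N31186 D64242
theorem N31473 : nd 31473 = n64243 := ndS (p := 31192) (l := 1) rfl N31192 D64243
theorem N31474 : nd 31474 = n64244 := ndS (p := 31194) (l := 1) rfl N31194 D64244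
theorem N31475 : nd 31475 = n64245 := ndS (p := 31197) (l := 1) rfl N31197 D64245
theorem N31476 : nd 31476 = n64246 := ndS (p := 31197) (l := 8) rfl N31197 D64246
theorem N31477 : nd 31477 = n64247 := ndS (p := 31200) (l := 1) rfl N31200 D64247
theorem N31478 : nd 31478 = n64248 := ndS (p := 31200) (l := 5) rfl N31200 D64248
theorem N31479 : nd 31479 = n64249 := ndS (p := 31200) (l := 8) rfl N31200 D64249
theorem N31480 : nd 31480 = n64250 := ndS (p := 31206) (l := 8) rfl N31206 D64250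
theorem N31481 : nd 31481 = n64251 := ndS (p := 31208) (l := 1) rfl N31208 D64251
theorem N31482 : nd 31482 = n64252 := ndS (p := 31210) (l := 1) rfl N31210 D64252
theorem N31483 : nd 31483 = n64253 := ndS (p := 31212) (l := 1) rfl N31212 D64253
theorem N31484 : nd 31484 = n64254 := ndS (p := 31213) (l := 1) rfl N31213 D64254
theorem N31485 : nd 31485 = n64255 := ndS (p := 31213) (l := 8) rfl N31213 D64255
theorem N31486 : nd 31486 = n64256 := ndS (p := 31216) (l := 8) rfl N31216 D64256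
theorem N31487 : nd 31487 = n64257 := ndS (p := 31218) (l := 1) rfl N31218 D64257
theorem N31488 : nd 31488 = n64258 := ndS (p := 31219) (l := 1) rfl N31219 D64258
theorem N31489 : nd 31489 = n64259 := ndS (p := 31219) (l := 8) rfl N31219 D64259
theorem N31490 : nd 31490 = n64260 := ndS (p := 31222) (l := 8) rfl N31222 D64260
theorem N31491 : nd 31491 = n64261 := ndS (p := 31223) (l := 9) rfl N31223 D64261
theorem N31492 : nd 31492 = n64262 := ndS (p := 31228) (l := 1) rfl N31228 D64262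
theorem N31493 : nd 31493 = n64263 := ndS (p := 31230) (l := 1) rfl N31230 D64263
theorem N31494 : nd 31494 = n64264 := ndS (p := 31230) (l := 5) rfl N31230 D64264
theorem N31495 : nd 31495 = n64265 := ndS (p := 31230) (l := 8) rfl N31230 D64265
theorem N31496 : nd 31496 = n64266 := ndS (p := 31236) (l := 5) rfl N31236 D64266
theorem N31497 : nd 31497 = n64267 := ndS (p := 31236) (l := 8) rfl N31236 D64267
theorem N31498 : nd 31498 = n64268 := ndS (p := 31239) (l := 8) rfl N31239 D64268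
theorem N31499 : nd 31499 = n64269 := ndS (p := 31240) (l := 9) rfl N31240 D64269
theorem N31500 : nd 31500 = n64270 := ndS (p := 31243) (l := 3) rfl N31243 D64270
theorem N31501 : nd 31501 = n64271 := ndS (p := 31243) (l := 9) rfl N31243 D64271
theorem N31502 : nd 31502 = n64272 := ndS (p := 31244) (l := 9) rfl N31244 D64272
theorem N31503 : nd 31503 = n64273 := ndS (p := 31247) (l := 1) rfl N31247 D64273
theorem N31504 : nd 31504 = n64274 := ndS (p := 31248) (l := 8) rfl N31248 D64274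
theorem N31505 : nd 31505 = n64275 := ndS (p := 31252) (l := 1) rfl N31252 D64275
theorem N31506 : nd 31506 = n64276 := ndS (p := 31256) (l := 1) rfl N31256 D64276
theorem N31507 : nd 31507 = n64277 := ndS (p := 31257) (l := 8) rfl N31257 D64277
theorem N31508 : nd 31508 = n64278 := ndS (p := 31258) (l := 9) rfl N31258 D64278
theorem N31509 : nd 31509 = n64279 := ndS (p := 31264) (l := 1) rfl N31264 D64279
theorem N31510 : nd 31510 = n64280 := ndS (p := 31265) (l := 1) rfl N31265 D64280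
theorem N31511 : nd 31511 = n64281 := ndS (p := 31265) (l := 5) rfl N31265 D64281
theorem N31512 : nd 31512 = n64282 := ndS (p := 31265) (l := 8) rfl N31265 D64282
theorem N31513 : nd 31513 = n64283 := ndS (p := 31270) (l := 5) rfl N31270 D64283
theorem N31514 : nd 31514 = n64284 := ndS (p := 31272) (l := 8) rfl N31272 D64284
theorem N31515 : nd 31515 = n64285 := ndS (p := 31273) (l := 9) rfl N31273 D64285
theorem N31516 : nd 31516 = n64286 := ndS (p := 31276) (l := 4) rfl N31276 D64286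
theorem N31517 : nd 31517 = n64287 := ndS (p := 31277) (l := 9) rfl N31277 D64287
theorem N31518 : nd 31518 = n64288 := ndS (p := 31282) (l := 8) rfl N31282 D64288
theorem N31519 : nd 31519 = n64289 := ndS (p := 31283) (l := 9) rfl N31283 D64289
theorem N31520 : nd 31520 = n64290 := ndS (p := 31286) (l := 1) rfl N31286 D64290
theorem N31521 : nd 31521 = n64291 := ndS (p := 31289) (l := 1) rfl N31289 D64291
theorem N31522 : nd 31522 = n64292 := ndS (p := 31290) (l := 1) rfl N31290 D64292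
theorem N31523 : nd 31523 = n64293 := ndS (p := 31291) (l := 1) rfl N31291 D64293
theorem N31524 : nd 31524 = n64294 := ndS (p := 31296) (l := 9) rfl N31296 D64294
theorem N31525 : nd 31525 = n64295 := ndS (p := 31298) (l := 1) rfl N31298 D64295
theorem N31526 : nd 31526 = n64296 := ndS (p := 31303) (l := 1) rfl N31303 D64296
theorem N31527 : nd 31527 = n64297 := ndS (p := 31305) (l := 1) rfl N31305 D64297
theorem N31528 : nd 31528 = n64298 := ndS (p := 31314) (l := 8) rfl N31314 D64298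
theorem N31529 : nd 31529 = n64299 := ndS (p := 31315) (l := 9) rfl N31315 D64299
theorem N31530 : nd 31530 = n64300 := ndS (p := 31318) (l := 1) rfl N31318 D64300
theorem N31531 : nd 31531 = n64301 := ndS (p := 31322) (l := 1) rfl N31322 D64301
theorem N31532 : nd 31532 = n64302 := ndS (p := 31322) (l := 8) rfl N31322 D64302
theorem N31533 : nd 31533 = n64303 := ndS (p := 31327) (l := 1) rfl N31327 D64303
theorem N31534 : nd 31534 = n64304 := ndS (p := 31327) (l := 5) rfl N31327 D64304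
theorem N31535 : nd 31535 = n64305 := ndS (p := 31328) (l := 4) rfl N31328 D64305
theorem N31536 : nd 31536 = n64306 := ndS (p := 31328) (l := 6) rfl N31328 D64306
theorem N31537 : nd 31537 = n64307 := ndS (p := 31330) (l := 4) rfl N31330 D64307
theorem N31538 : nd 31538 = n64308 := ndS (p := 31330) (l := 6) rfl N31330 D64308
theorem N31539 : nd 31539 = n64309 := ndS (p := 31333) (l := 1) rfl N31333 D64309
theorem N31540 : nd 31540 = n64310 := ndS (p := 31333) (l := 5) rfl N31333 D64310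
theorem N31541 : nd 31541 = n64311 := ndS (p := 31333) (l := 8) rfl N31333 D64311
theorem N31542 : nd 31542 = n64312 := ndS (p := 31334) (l := 6) rfl N31334 D64312
theorem N31543 : nd 31543 = n64313 := ndS (p := 31334) (l := 8) rfl N31334 D64313
theorem N31544 : nd 31544 = n64314 := ndS (p := 31337) (l := 6) rfl N31337 D64314
theorem N31545 : nd 31545 = n64315 := ndS (p := 31337) (l := 8) rfl N31337 D64315
theorem N31546 : nd 31546 = n64316 := ndS (p := 31341) (l := 8) rfl N31341 D64316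
theorem N31547 : nd 31547 = n64317 := ndS (p := 31342) (l := 9) rfl N31342 D64317
theorem N31548 : nd 31548 = n64318 := ndS (p := 31345) (l := 1) rfl N31345 D64318
theorem N31549 : nd 31549 = n64319 := ndS (p := 31348) (l := 1) rfl N31348 D64319
theorem N31550 : nd 31550 = n64320 := ndS (p := 31348) (l := 5) rfl N31348 D64320
theorem N31551 : nd 31551 = n64321 := ndS (p := 31349) (l := 4) rfl N31349 D64321
theorem N31552 : nd 31552 = n64322 := ndS (p := 31350) (l := 4) rfl N31350 D64322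
theorem N31553 : nd 31553 = n64323 := ndS (p := 31352) (l := 5) rfl N31352 D64323
theorem N31554 : nd 31554 = n64324 := ndS (p := 31353) (l := 4) rfl N31353 D64324
theorem N31555 : nd 31555 = n64325 := ndS (p := 31356) (l := 1) rfl N31356 D64325
theorem N31556 : nd 31556 = n64326 := ndS (p := 31356) (l := 5) rfl N31356 D64326
theorem N31557 : nd 31557 = n64327 := ndS (p := 31356) (l := 8) rfl N31356 D64327
theorem N31558 : nd 31558 = n64328 := ndS (p := 31357) (l := 8) rfl N31357 D64328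
theorem N31559 : nd 31559 = n64329 := ndS (p := 31359) (l := 8) rfl N31359 D64329
theorem N31560 : nd 31560 = n64330 := ndS (p := 31362) (l := 5) rfl N31362 D64330
theorem N31561 : nd 31561 = n64331 := ndS (p := 31362) (l := 8) rfl N31362 D64331
theorem N31562 : nd 31562 = n64332 := ndS (p := 31364) (l := 9) rfl N31364 D64332
theorem N31563 : nd 31563 = n64333 := ndS (p := 31367) (l := 1) rfl N31367 D64333
theorem N31564 : nd 31564 = n64334 := ndS (p := 31371) (l := 8) rfl N31371 D64334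
theorem N31565 : nd 31565 = n64335 := ndS (p := 31372) (l := 9) rfl N31372 D64335
theorem N31566 : nd 31566 = n64336 := ndS (p := 31375) (l := 1) rfl N31375 D64336
theorem N31567 : nd 31567 = n64337 := ndS (p := 31375) (l := 5) rfl N31375 D64337
theorem N31568 : nd 31568 = n64338 := ndS (p := 31379) (l := 1) rfl N31379 D64338
theorem N31569 : nd 31569 = n64339 := ndS (p := 31379) (l := 5) rfl N31379 D64339
theorem N31570 : nd 31570 = n64340 := ndS (p := 31383) (l := 1) rfl N31383 D64340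
theorem N31571 : nd 31571 = n64341 := ndS (p := 31383) (l := 5) rfl N31383 D64341
theorem N31572 : nd 31572 = n64342 := ndS (p := 31386) (l := 8) rfl N31386 D64342
theorem N31573 : nd 31573 = n64343 := ndS (p := 31388) (l := 5) rfl N31388 D64343
theorem N31574 : nd 31574 = n64344 := ndS (p := 31389) (l := 4) rfl N31389 D64344
theorem N31575 : nd 31575 = n64345 := ndS (p := 31392) (l := 5) rfl N31392 D64345
theorem N31576 : nd 31576 = n64346 := ndS (p := 31392) (l := 8) rfl N31392 D64346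
theorem N31577 : nd 31577 = n64347 := ndS (p := 31393) (l := 8) rfl N31393 D64347
theorem N31578 : nd 31578 = n64348 := ndS (p := 31397) (l := 9) rfl N31397 D64348
theorem N31579 : nd 31579 = n64349 := ndS (p := 31399) (l := 1) rfl N31399 D64349
theorem N31580 : nd 31580 = n64350 := ndS (p := 31399) (l := 5) rfl N31399 D64350
theorem N31581 : nd 31581 = n64351 := ndS (p := 31399) (l := 8) rfl N31399 D64351
theorem N31582 : nd 31582 = n64352 := ndS (p := 31404) (l := 8) rfl N31404 D64352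
theorem N31583 : nd 31583 = n64353 := ndS (p := 31405) (l := 9) rfl N31405 D64353
theorem N31584 : nd 31584 = n64354 := ndS (p := 31411) (l := 4) rfl N31411 D64354
theorem N31585 : nd 31585 = n64355 := ndS (p := 31413) (l := 1) rfl N31413 D64355
theorem N31586 : nd 31586 = n64356 := ndS (p := 31414) (l := 5) rfl N31414 D64356
theorem N31587 : nd 31587 = n64357 := ndS (p := 31414) (l := 8) rfl N31414 D64357
theorem N31588 : nd 31588 = n64358 := ndS (p := 31417) (l := 3) rfl N31417 D64358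
theorem N31589 : nd 31589 = n64359 := ndS (p := 31417) (l := 9) rfl N31417 D64359
theorem N31590 : nd 31590 = n64360 := ndS (p := 31418) (l := 4) rfl N31418 D64360
theorem N31591 : nd 31591 = n64361 := ndS (p := 31421) (l := 1) rfl N31421 D64361
theorem N31592 : nd 31592 = n64362 := ndS (p := 31422) (l := 1) rfl N31422 D64362
theorem N31593 : nd 31593 = n64363 := ndS (p := 31425) (l := 1) rfl N31425 D64363
theorem N31594 : nd 31594 = n64364 := ndS (p := 31427) (l := 1) rfl N31427 D64364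
theorem N31595 : nd 31595 = n64365 := ndS (p := 31427) (l := 5) rfl N31427 D64365
theorem N31596 : nd 31596 = n64366 := ndS (p := 31433) (l := 5) rfl N31433 D64366
theorem N31597 : nd 31597 = n64367 := ndS (p := 31434) (l := 4) rfl N31434 D64367
theorem N31598 : nd 31598 = n64368 := ndS (p := 31437) (l := 1) rfl N31437 D64368
theorem N31599 : nd 31599 = n64369 := ndS (p := 31439) (l := 5) rfl N31439 D64369
theorem N31600 : nd 31600 = n64370 := ndS (p := 31440) (l := 4) rfl N31440 D64370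
theorem N31601 : nd 31601 = n64371 := ndS (p := 31440) (l := 6) rfl N31440 D64371
theorem N31602 : nd 31602 = n64372 := ndS (p := 31445) (l := 5) rfl N31445 D64372
theorem N31603 : nd 31603 = n64373 := ndS (p := 31445) (l := 8) rfl N31445 D64373
theorem N31604 : nd 31604 = n64374 := ndS (p := 31446) (l := 6) rfl N31446 D64374
theorem N31605 : nd 31605 = n64375 := ndS (p := 31446) (l := 8) rfl N31446 D64375
theorem N31606 : nd 31606 = n64376 := ndS (p := 31452) (l := 9) rfl N31452 D64376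
theorem N31607 : nd 31607 = n64377 := ndS (p := 31456) (l := 5) rfl N31456 D64377
theorem N31608 : nd 31608 = n64378 := ndS (p := 31457) (l := 4) rfl N31457 D64378
theorem N31609 : nd 31609 = n64379 := ndS (p := 31460) (l := 4) rfl N31460 D64379
theorem N31610 : nd 31610 = n64380 := ndS (p := 31464) (l := 5) rfl N31464 D64380
theorem N31611 : nd 31611 = n64381 := ndS (p := 31464) (l := 8) rfl N31464 D64381
theorem N31612 : nd 31612 = n64382 := ndS (p := 31465) (l := 8) rfl N31465 D64382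
theorem N31613 : nd 31613 = n64383 := ndS (p := 31469) (l := 4) rfl N31469 D64383
theorem N31614 : nd 31614 = n64384 := ndS (p := 31470) (l := 9) rfl N31470 D64384
theorem N31615 : nd 31615 = n64385 := ndS (p := 31475) (l := 8) rfl N31475 D64385
theorem N31616 : nd 31616 = n64386 := ndS (p := 31477) (l := 5) rfl N31477 D64386
theorem N31617 : nd 31617 = n64387 := ndS (p := 31477) (l := 8) rfl N31477 D64387
theorem N31618 : nd 31618 = n64388 := ndS (p := 31484) (l := 8) rfl N31484 D64388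
theorem N31619 : nd 31619 = n64389 := ndS (p := 31488) (l := 8) rfl N31488 D64389
theorem N31620 : nd 31620 = n64390 := ndS (p := 31490) (l := 9) rfl N31490 D64390
theorem N31621 : nd 31621 = n64391 := ndS (p := 31493) (l := 5) rfl N31493 D64391
theorem N31622 : nd 31622 = n64392 := ndS (p := 31493) (l := 8) rfl N31493 D64392
theorem N31623 : nd 31623 = n64393 := ndS (p := 31498) (l := 9) rfl N31498 D64393
theorem N31624 : nd 31624 = n64394 := ndS (p := 31500) (l := 9) rfl N31500 D64394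
theorem N31625 : nd 31625 = n64395 := ndS (p := 31507) (l := 9) rfl N31507 D64395
theorem N31626 : nd 31626 = n64396 := ndS (p := 31510) (l := 5) rfl N31510 D64396
theorem N31627 : nd 31627 = n64397 := ndS (p := 31510) (l := 8) rfl N31510 D64397
theorem N31628 : nd 31628 = n64398 := ndS (p := 31514) (l := 9) rfl N31514 D64398
theorem N31629 : nd 31629 = n64399 := ndS (p := 31518) (l := 9) rfl N31518 D64399
theorem N31630 : nd 31630 = n64400 := ndS (p := 31528) (l := 9) rfl N31528 D64400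
theorem N31631 : nd 31631 = n64401 := ndS (p := 31531) (l := 8) rfl N31531 D64401
theorem N31632 : nd 31632 = n64402 := ndS (p := 31533) (l := 5) rfl N31533 D64402
theorem N31633 : nd 31633 = n64403 := ndS (p := 31534) (l := 4) rfl N31534 D64403
theorem N31634 : nd 31634 = n64404 := ndS (p := 31534) (l := 6) rfl N31534 D64404
theorem N31635 : nd 31635 = n64405 := ndS (p := 31539) (l := 5) rfl N31539 D64405
theorem N31636 : nd 31636 = n64406 := ndS (p := 31539) (l := 8) rfl N31539 D64406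
theorem N31637 : nd 31637 = n64407 := ndS (p := 31540) (l := 6) rfl N31540 D64407
theorem N31638 : nd 31638 = n64408 := ndS (p := 31540) (l := 8) rfl N31540 D64408
theorem N31639 : nd 31639 = n64409 := ndS (p := 31546) (l := 9) rfl N31546 D64409
theorem N31640 : nd 31640 = n64410 := ndS (p := 31549) (l := 5) rfl N31549 D64410
theorem N31641 : nd 31641 = n64411 := ndS (p := 31550) (l := 4) rfl N31550 D64411
theorem N31642 : nd 31642 = n64412 := ndS (p := 31553) (l := 4) rfl N31553 D64412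
theorem N31643 : nd 31643 = n64413 := ndS (p := 31555) (l := 5) rfl N31555 D64413
theorem N31644 : nd 31644 = n64414 := ndS (p := 31555) (l := 8) rfl N31555 D64414
theorem N31645 : nd 31645 = n64415 := ndS (p := 31556) (l := 8) rfl N31556 D64415
theorem N31646 : nd 31646 = n64416 := ndS (p := 31561) (l := 9) rfl N31561 D64416
theorem N31647 : nd 31647 = n64417 := ndS (p := 31564) (l := 9) rfl N31564 D64417
theorem N31648 : nd 31648 = n64418 := ndS (p := 31566) (l := 5) rfl N31566 D64418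
theorem N31649 : nd 31649 = n64419 := ndS (p := 31568) (l := 5) rfl N31568 D64419
theorem N31650 : nd 31650 = n64420 := ndS (p := 31570) (l := 5) rfl N31570 D64420
theorem N31651 : nd 31651 = n64421 := ndS (p := 31573) (l := 4) rfl N31573 D64421
theorem N31652 : nd 31652 = n64422 := ndS (p := 31575) (l := 8) rfl N31575 D64422
theorem N31653 : nd 31653 = n64423 := ndS (p := 31579) (l := 5) rfl N31579 D64423
theorem N31654 : nd 31654 = n64424 := ndS (p := 31579) (l := 8) rfl N31579 D64424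
theorem N31655 : nd 31655 = n64425 := ndS (p := 31582) (l := 9) rfl N31582 D64425
theorem N31656 : nd 31656 = n64426 := ndS (p := 31588) (l := 4) rfl N31588 D64426
theorem N31657 : nd 31657 = n64427 := ndS (p := 31594) (l := 5) rfl N31594 D64427
theorem N31658 : nd 31658 = n64428 := ndS (p := 31596) (l := 4) rfl N31596 D64428
theorem N31659 : nd 31659 = n64429 := ndS (p := 31599) (l := 4) rfl N31599 D64429
theorem N31660 : nd 31660 = n64430 := ndS (p := 31599) (l := 6) rfl N31599 D64430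
theorem N31661 : nd 31661 = n64431 := ndS (p := 31602) (l := 6) rfl N31602 D64431
theorem N31662 : nd 31662 = n64432 := ndS (p := 31602) (l := 8) rfl N31602 D64432
theorem N31663 : nd 31663 = n64433 := ndS (p := 31607) (l := 4) rfl N31607 D64433
theorem N31664 : nd 31664 = n64434 := ndS (p := 31610) (l := 8) rfl N31610 D64434
theorem N31665 : nd 31665 = n64435 := ndS (p := 31632) (l := 4) rfl N31632 D64435
theorem N31666 : nd 31666 = n64436 := ndS (p := 31632) (l := 6) rfl N31632 D64436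
theorem N31667 : nd 31667 = n64437 := ndS (p := 31635) (l := 6) rfl N31635 D64437
theorem N31668 : nd 31668 = n64438 := ndS (p := 31635) (l := 8) rfl N31635 D64438
theorem N31669 : nd 31669 = n64439 := ndS (p := 31640) (l := 4) rfl N31640 D64439
theorem N31670 : nd 31670 = n64440 := ndS (p := 31643) (l := 8) rfl N31643 D64440
theorem Q1 : ∀ i, i < 1 → P i := stepQ 0 Q0 (allL N0 (tt N0 F1) (tt N0 F2) (tt N0 F3) (tt N0 F4) (tt N0 F5) (tt N0 F6) (tt N0 F7) (tt N1 D1) (tt N0 F8) (tt N0 F9))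
theorem Q2 : ∀ i, i < 2 → P i := stepQ 1 Q1 (allL N1 (tt N1 F10) (tt N1 F11) (tt N1 F12) (tt N1 F13) (tt N1 F14) (tt N1 F15) (tt N2 D2) (tt N0 (iv D1)) (tt N1 F16) (tt N1 F17))
theorem Q3 : ∀ i, i < 3 → P i := stepQ 2 Q2 (allL N2 (tt N2 F18) (tt N2 F19) (tt N2 F20) (tt N2 F21) (tt N2 F22) (tt N3 D3) (tt N1 (iv D2)) (tt N2 F23) (tt N2 F24) (tt N2 F25))
theorem Q4 : ∀ i, i < 4 → P i := stepQ 3 Q3 (allL N3 (tt N3 F26) (tt N3 F27) (tt N3 F28) (tt N3 F29) (tt N4 D4) (tt N2 (iv D3)) (tt N3 F30) (tt N3 F31) (tt N3 F32) (tt N3 F33))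
theorem Q5 : ∀ i, i < 5 → P i := stepQ 4 Q4 (allL N4 (tt N4 F34) (tt N4 F35) (tt N4 F36) (tt N5 D5) (tt N3 (iv D4)) (tt N4 F37) (tt N4 F38) (tt N4 F39) (tt N4 F40) (tt N4 F41))
theorem Q6 : ∀ i, i < 6 → P i := stepQ 5 Q5 (allL N5 (tt N5 F42) (tt N5 F43) (tt N6 D6) (tt N4 (iv D5)) (tt N5 F44) (tt N5 F45) (tt N5 F46) (tt N5 F47) (tt N7 D7) (tt N5 F48))
theorem Q7 : ∀ i, i < 7 → P i := stepQ 6 Q6 (allL N6 (tt N6 F49) (tt N8 D8) (tt N5 (iv D6)) (tt N6 F50) (tt N6 F51) (tt N6 F52) (tt N6 F53) (tt N6 F54) (tt N9 D9) (tt N6 F55))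
theorem Q8 : ∀ i, i < 8 → P i := stepQ 7 Q7 (allL N7 (tt N7 F56) (tt N7 F57) (tt N9 (iv F71)) (tt N7 F58) (tt N7 F59) (tt N7 F60) (tt N7 F61) (tt N7 F62) (tt N5 (iv D7)) (tt N10 D10))
theorem Q9 : ∀ i, i < 9 → P i := stepQ 8 Q8 (allL N8 (tt N11 D11) (tt N6 (iv D8)) (tt N8 F63) (tt N8 F64) (tt N8 F65) (tt N8 F66) (tt N8 F67) (tt N8 F68) (tt N12 D12) (tt N8 F69))
theorem Q10 : ∀ i, i < 10 → P i := stepQ 9 Q9 (allL N9 (tt N9 F70) (tt N12 (iv F92)) (tt N7 F71) (tt N13 D13) (tt N9 F72) (tt N9 F73) (tt N9 F74) (tt N9 F75) (tt N6 (iv D9)) (tt N14 D14))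
theorem Q11 : ∀ i, i < 11 → P i := stepQ 10 Q10 (allL N10 (tt N10 F76) (tt N10 F77) (tt N14 (iv F105)) (tt N10 F78) (tt N10 F79) (tt N10 F80) (tt N10 F81) (tt N10 F82) (tt N10 F83) (tt N7 (iv D10)))
theorem Q12 : ∀ i, i < 12 → P i := stepQ 11 Q11 (allL N11 (tt N8 (iv D11)) (tt N11 F84) (tt N11 F85) (tt N11 F86) (tt N11 F87) (tt N11 F88) (tt N11 F89) (tt N11 F90) (tt N15 D15) (tt N11 F91))
theorem Q13 : ∀ i, i < 13 → P i := stepQ 12 Q12 (allL N12 (tt N15 (iv F111)) (tt N9 F92) (tt N12 F93) (tt N16 D16) (tt N12 F94) (tt N12 F95) (tt N12 F96) (tt N12 F97) (tt N8 (iv D12)) (tt N17 D17))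
theorem Q14 : ∀ i, i < 14 → P i := stepQ 13 Q13 (allL N13 (tt N13 F98) (tt N16 (iv F118)) (tt N13 F99) (tt N9 (iv D13)) (tt N18 D18) (tt N13 F100) (tt N13 F101) (tt N13 F102) (tt N13 F103) (tt N19 D19))
theorem Q15 : ∀ i, i < 15 → P i := stepQ 14 Q14 (allL N14 (tt N14 F104) (tt N17 (iv F123)) (tt N10 F105) (tt N19 (iv F138)) (tt N14 F106) (tt N14 F107) (tt N14 F108) (tt N14 F109) (tt N14 F110) (tt N9 (iv D14)))
theorem Q16 : ∀ i, i < 16 → P i := stepQ 15 Q15 (allL N15 (tt N12 F111) (tt N15 F112) (tt N15 F113) (tt N20 D20) (tt N15 F114) (tt N15 F115) (tt N15 F116) (tt N15 F117) (tt N11 (iv D15)) (tt N21 D21))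
theorem Q17 : ∀ i, i < 17 → P i := stepQ 16 Q16 (allL N16 (tt N20 (iv F142)) (tt N13 F118) (tt N22 D22) (tt N12 (iv D16)) (tt N23 D23) (tt N16 F119) (tt N16 F120) (tt N16 F121) (tt N16 F122) (tt N24 D24))
theorem Q18 : ∀ i, i < 18 → P i := stepQ 17 Q17 (allL N17 (tt N21 (iv F148)) (tt N14 F123) (tt N17 F124) (tt N24 (iv F168)) (tt N17 F125) (tt N17 F126) (tt N17 F127) (tt N17 F128) (tt N17 F129) (tt N12 (iv D17)))
theorem Q19 : ∀ i, i < 19 → P i := stepQ 18 Q18 (allL N18 (tt N18 F130) (tt N23 (iv F162)) (tt N18 F131) (tt N18 F132) (tt N13 (iv D18)) (tt N25 D25) (tt N18 F133) (tt N18 F134) (tt N18 F135) (tt N26 D26))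
theorem Q20 : ∀ i, i < 20 → P i := stepQ 19 Q19 (allL N19 (tt N19 F136) (tt N24 (iv F167)) (tt N19 F137) (tt N14 F138) (tt N26 (iv F181)) (tt N19 F139) (tt N19 F140) (tt N19 F141) (tt N27 D27) (tt N13 (iv D19)))
theorem Q21 : ∀ i, i < 21 → P i := stepQ 20 Q20 (allL N20 (tt N16 F142) (tt N20 F143) (tt N28 D28) (tt N15 (iv D20)) (tt N29 D29) (tt N20 F144) (tt N20 F145) (tt N20 F146) (tt N20 F147) (tt N30 D30))
theorem Q22 : ∀ i, i < 22 → P i := stepQ 21 Q21 (allL N21 (tt N17 F148) (tt N21 F149) (tt N21 F150) (tt N30 (iv F205)) (tt N21 F151) (tt N21 F152) (tt N21 F153) (tt N21 F154) (tt N21 F155) (tt N15 (iv D21)))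
theorem Q23 : ∀ i, i < 23 → P i := stepQ 22 Q22 (allL N22 (tt N28 (iv F191)) (tt N22 F156) (tt N16 (iv D22)) (tt N22 F157) (tt N31 D31) (tt N22 F158) (tt N22 F159) (tt N22 F160) (tt N22 F161) (tt N32 D32))
theorem Q24 : ∀ i, i < 24 → P i := stepQ 23 Q23 (allL N23 (tt N29 (iv F197)) (tt N18 F162) (tt N31 (iv F210)) (tt N23 F163) (tt N16 (iv D23)) (tt N33 D33) (tt N23 F164) (tt N23 F165) (tt N23 F166) (tt N34 D34))
theorem Q25 : ∀ i, i < 25 → P i := stepQ 24 Q24 (allL N24 (tt N30 (iv F203)) (tt N19 F167) (tt N32 (iv F215)) (tt N17 F168) (tt N34 (iv F227)) (tt N24 F169) (tt N24 F170) (tt N24 F171) (tt N35 D35) (tt N16 (iv D24)))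
theorem Q26 : ∀ i, i < 26 → P i := stepQ 25 Q25 (allL N25 (tt N25 F172) (tt N33 (iv F220)) (tt N25 F173) (tt N25 F174) (tt N25 F175) (tt N18 (iv D25)) (tt N36 D36) (tt N25 F176) (tt N25 F177) (tt N37 D37))
theorem Q27 : ∀ i, i < 27 → P i := stepQ 26 Q26 (allL N26 (tt N26 F178) (tt N34 (iv F225)) (tt N26 F179) (tt N26 F180) (tt N19 F181) (tt N37 (iv F246)) (tt N26 F182) (tt N26 F183) (tt N38 D38) (tt N18 (iv D26)))
theorem Q28 : ∀ i, i < 28 → P i := stepQ 27 Q27 (allL N27 (tt N27 F184) (tt N35 (iv F230)) (tt N27 F185) (tt N27 F186) (tt N38 (iv F250)) (tt N27 F187) (tt N27 F188) (tt N27 F189) (tt N19 (iv D27)) (tt N27 F190))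
theorem Q29 : ∀ i, i < 29 → P i := stepQ 28 Q28 (allL N28 (tt N22 F191) (tt N39 D39) (tt N20 (iv D28)) (tt N28 F192) (tt N40 D40) (tt N28 F193) (tt N28 F194) (tt N28 F195) (tt N28 F196) (tt N41 D41))
theorem Q30 : ∀ i, i < 30 → P i := stepQ 29 Q29 (allL N29 (tt N23 F197) (tt N29 F198) (tt N40 (iv F262)) (tt N29 F199) (tt N20 (iv D29)) (tt N42 D42) (tt N29 F200) (tt N29 F201) (tt N29 F202) (tt N43 D43))
theorem Q31 : ∀ i, i < 31 → P i := stepQ 30 Q30 (allL N30 (tt N24 F203) (tt N30 F204) (tt N41 (iv F267)) (tt N21 F205) (tt N43 (iv F281)) (tt N30 F206) (tt N30 F207) (tt N30 F208) (tt N44 D44) (tt N20 (iv D30)))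
theorem Q32 : ∀ i, i < 32 → P i := stepQ 31 Q31 (allL N31 (tt N40 (iv F261)) (tt N31 F209) (tt N23 F210) (tt N45 D45) (tt N22 (iv D31)) (tt N46 D46) (tt N31 F211) (tt N31 F212) (tt N31 F213) (tt N47 D47))
theorem Q33 : ∀ i, i < 33 → P i := stepQ 32 Q32 (allL N32 (tt N41 (iv F266)) (tt N32 F214) (tt N24 F215) (tt N32 F216) (tt N47 (iv F303)) (tt N32 F217) (tt N32 F218) (tt N32 F219) (tt N48 D48) (tt N22 (iv D32)))
theorem Q34 : ∀ i, i < 34 → P i := stepQ 33 Q33 (allL N33 (tt N42 (iv F272)) (tt N25 F220) (tt N46 (iv F297)) (tt N33 F221) (tt N33 F222) (tt N23 (iv D33)) (tt N49 D49) (tt N33 F223) (tt N33 F224) (tt N50 D50))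
theorem Q35 : ∀ i, i < 35 → P i := stepQ 34 Q34 (allL N34 (tt N43 (iv F278)) (tt N26 F225) (tt N47 (iv F302)) (tt N34 F226) (tt N24 F227) (tt N50 (iv F320)) (tt N34 F228) (tt N34 F229) (tt N51 D51) (tt N23 (iv D34)))
theorem Q36 : ∀ i, i < 36 → P i := stepQ 35 Q35 (allL N35 (tt N44 (iv F284)) (tt N27 F230) (tt N48 (iv F307)) (tt N35 F231) (tt N51 (iv F323)) (tt N35 F232) (tt N35 F233) (tt N35 F234) (tt N24 (iv D35)) (tt N35 F235))
theorem Q37 : ∀ i, i < 37 → P i := stepQ 36 Q36 (allL N36 (tt N36 F236) (tt N49 (iv F312)) (tt N36 F237) (tt N36 F238) (tt N36 F239) (tt N36 F240) (tt N25 (iv D36)) (tt N52 D52) (tt N36 F241) (tt N53 D53))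
theorem Q38 : ∀ i, i < 38 → P i := stepQ 37 Q37 (allL N37 (tt N37 F242) (tt N50 (iv F317)) (tt N37 F243) (tt N37 F244) (tt N37 F245) (tt N26 F246) (tt N53 (iv F339)) (tt N37 F247) (tt N54 D54) (tt N25 (iv D37)))
theorem Q39 : ∀ i, i < 39 → P i := stepQ 38 Q38 (allL N38 (tt N38 F248) (tt N51 (iv F322)) (tt N38 F249) (tt N55 D55) (tt N27 F250) (tt N54 (iv F343)) (tt N38 F251) (tt N38 F252) (tt N26 (iv D38)) (tt N38 F253))
theorem Q40 : ∀ i, i < 40 → P i := stepQ 39 Q39 (allL N39 (tt N39 F254) (tt N28 (iv D39)) (tt N39 F255) (tt N39 F256) (tt N56 D56) (tt N39 F257) (tt N39 F258) (tt N39 F259) (tt N39 F260) (tt N57 D57))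
theorem Q41 : ∀ i, i < 41 → P i := stepQ 40 Q40 (allL N40 (tt N31 F261) (tt N56 (iv F353)) (tt N29 F262) (tt N58 D58) (tt N28 (iv D40)) (tt N59 D59) (tt N40 F263) (tt N40 F264) (tt N40 F265) (tt N60 D60))
theorem Q42 : ∀ i, i < 42 → P i := stepQ 41 Q41 (allL N41 (tt N32 F266) (tt N57 (iv F359)) (tt N30 F267) (tt N41 F268) (tt N60 (iv F377)) (tt N41 F269) (tt N41 F270) (tt N41 F271) (tt N61 D61) (tt N28 (iv D41)))
theorem Q43 : ∀ i, i < 43 → P i := stepQ 42 Q42 (allL N42 (tt N33 F272) (tt N42 F273) (tt N59 (iv F371)) (tt N42 F274) (tt N42 F275) (tt N29 (iv D42)) (tt N62 D62) (tt N42 F276) (tt N42 F277) (tt N63 D63))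
theorem Q44 : ∀ i, i < 44 → P i := stepQ 43 Q43 (allL N43 (tt N34 F278) (tt N43 F279) (tt N60 (iv F376)) (tt N43 F280) (tt N30 F281) (tt N63 (iv F396)) (tt N43 F282) (tt N43 F283) (tt N64 D64) (tt N29 (iv D43)))
theorem Q45 : ∀ i, i < 45 → P i := stepQ 44 Q44 (allL N44 (tt N35 F284) (tt N44 F285) (tt N61 (iv F381)) (tt N44 F286) (tt N64 (iv F400)) (tt N44 F287) (tt N44 F288) (tt N44 F289) (tt N30 (iv D44)) (tt N44 F290))
theorem Q46 : ∀ i, i < 46 → P i := stepQ 45 Q45 (allL N45 (tt N58 (iv F365)) (tt N45 F291) (tt N45 F292) (tt N31 (iv D45)) (tt N45 F293) (tt N65 D65) (tt N45 F294) (tt N45 F295) (tt N66 D66) (tt N67 D67))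
theorem Q47 : ∀ i, i < 47 → P i := stepQ 46 Q46 (allL N46 (tt N59 (iv F370)) (tt N46 F296) (tt N33 F297) (tt N65 (iv F406)) (tt N46 F298) (tt N31 (iv D46)) (tt N68 D68) (tt N46 F299) (tt N46 F300) (tt N69 D69))
theorem Q48 : ∀ i, i < 48 → P i := stepQ 47 Q47 (allL N47 (tt N60 (iv F375)) (tt N47 F301) (tt N34 F302) (tt N67 (iv F416)) (tt N32 F303) (tt N69 (iv F428)) (tt N47 F304) (tt N47 F305) (tt N70 D70) (tt N31 (iv D47)))
theorem Q49 : ∀ i, i < 49 → P i := stepQ 48 Q48 (allL N48 (tt N61 (iv F380)) (tt N48 F306) (tt N35 F307) (tt N71 D71) (tt N70 (iv F432)) (tt N48 F308) (tt N48 F309) (tt N48 F310) (tt N32 (iv D48)) (tt N48 F311))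
theorem Q50 : ∀ i, i < 50 → P i := stepQ 49 Q49 (allL N49 (tt N62 (iv F386)) (tt N36 F312) (tt N68 (iv F421)) (tt N49 F313) (tt N49 F314) (tt N49 F315) (tt N33 (iv D49)) (tt N72 D72) (tt N49 F316) (tt N73 D73))
theorem Q51 : ∀ i, i < 51 → P i := stepQ 50 Q50 (allL N50 (tt N63 (iv F392)) (tt N37 F317) (tt N69 (iv F426)) (tt N50 F318) (tt N50 F319) (tt N34 F320) (tt N73 (iv F453)) (tt N50 F321) (tt N74 D74) (tt N33 (iv D50)))
theorem Q52 : ∀ i, i < 52 → P i := stepQ 51 Q51 (allL N51 (tt N64 (iv F398)) (tt N38 F322) (tt N70 (iv F431)) (tt N75 D75) (tt N35 F323) (tt N74 (iv F456)) (tt N51 F324) (tt N51 F325) (tt N34 (iv D51)) (tt N51 F326))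
theorem Q53 : ∀ i, i < 53 → P i := stepQ 52 Q52 (allL N52 (tt N52 F327) (tt N72 (iv F443)) (tt N52 F328) (tt N52 F329) (tt N52 F330) (tt N52 F331) (tt N52 F332) (tt N36 (iv D52)) (tt N52 F333) (tt N76 D76))
theorem Q54 : ∀ i, i < 54 → P i := stepQ 53 Q53 (allL N53 (tt N53 F334) (tt N73 (iv F449)) (tt N53 F335) (tt N53 F336) (tt N53 F337) (tt N53 F338) (tt N37 F339) (tt N76 (iv F471)) (tt N77 D77) (tt N36 (iv D53)))
theorem Q55 : ∀ i, i < 55 → P i := stepQ 54 Q54 (allL N54 (tt N54 F340) (tt N74 (iv F454)) (tt N54 F341) (tt N78 D78) (tt N54 F342) (tt N38 F343) (tt N77 (iv F476)) (tt N54 F344) (tt N37 (iv D54)) (tt N54 F345))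
theorem Q56 : ∀ i, i < 56 → P i := stepQ 55 Q55 (allL N55 (tt N55 F346) (tt N75 (iv F459)) (tt N79 D79) (tt N38 (iv D55)) (tt N55 F347) (tt N78 (iv F479)) (tt N55 F348) (tt N55 F349) (tt N55 F350) (tt N55 F351))
theorem Q57 : ∀ i, i < 57 → P i := stepQ 56 Q56 (allL N56 (tt N56 F352) (tt N40 F353) (tt N56 F354) (tt N80 D80) (tt N39 (iv D56)) (tt N81 D81) (tt N56 F355) (tt N56 F356) (tt N56 F357) (tt N82 D82))
theorem Q58 : ∀ i, i < 58 → P i := stepQ 57 Q57 (allL N57 (tt N57 F358) (tt N41 F359) (tt N57 F360) (tt N57 F361) (tt N82 (iv F504)) (tt N57 F362) (tt N57 F363) (tt N57 F364) (tt N83 D83) (tt N39 (iv D57)))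
theorem Q59 : ∀ i, i < 59 → P i := stepQ 58 Q58 (allL N58 (tt N45 F365) (tt N80 (iv F491)) (tt N58 F366) (tt N40 (iv D58)) (tt N58 F367) (tt N84 D84) (tt N58 F368) (tt N58 F369) (tt N85 D85) (tt N86 D86))
theorem Q60 : ∀ i, i < 60 → P i := stepQ 59 Q59 (allL N59 (tt N46 F370) (tt N81 (iv F496)) (tt N42 F371) (tt N84 (iv F516)) (tt N59 F372) (tt N40 (iv D59)) (tt N87 D87) (tt N59 F373) (tt N59 F374) (tt N88 D88))
theorem Q61 : ∀ i, i < 61 → P i := stepQ 60 Q60 (allL N60 (tt N47 F375) (tt N82 (iv F502)) (tt N43 F376) (tt N86 (iv F526)) (tt N41 F377) (tt N88 (iv F538)) (tt N60 F378) (tt N60 F379) (tt N89 D89) (tt N40 (iv D60)))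
theorem Q62 : ∀ i, i < 62 → P i := stepQ 61 Q61 (allL N61 (tt N48 F380) (tt N83 (iv F508)) (tt N44 F381) (tt N90 D90) (tt N89 (iv F542)) (tt N61 F382) (tt N61 F383) (tt N61 F384) (tt N41 (iv D61)) (tt N61 F385))
theorem Q63 : ∀ i, i < 63 → P i := stepQ 62 Q62 (allL N62 (tt N49 F386) (tt N62 F387) (tt N87 (iv F531)) (tt N62 F388) (tt N62 F389) (tt N62 F390) (tt N42 (iv D62)) (tt N91 D91) (tt N62 F391) (tt N92 D92))
theorem Q64 : ∀ i, i < 64 → P i := stepQ 63 Q63 (allL N63 (tt N50 F392) (tt N63 F393) (tt N88 (iv F536)) (tt N63 F394) (tt N63 F395) (tt N43 F396) (tt N92 (iv F565)) (tt N63 F397) (tt N93 D93) (tt N42 (iv D63)))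
theorem Q65 : ∀ i, i < 65 → P i := stepQ 64 Q64 (allL N64 (tt N51 F398) (tt N64 F399) (tt N89 (iv F541)) (tt N94 D94) (tt N44 F400) (tt N93 (iv F569)) (tt N64 F401) (tt N64 F402) (tt N43 (iv D64)) (tt N64 F403))
theorem Q66 : ∀ i, i < 66 → P i := stepQ 65 Q65 (allL N65 (tt N84 (iv F514)) (tt N65 F404) (tt N65 F405) (tt N46 F406) (tt N95 D95) (tt N45 (iv D65)) (tt N96 D96) (tt N65 F407) (tt N97 D97) (tt N98 D98))
theorem Q67 : ∀ i, i < 67 → P i := stepQ 66 Q66 (allL N66 (tt N85 (iv F518)) (tt N66 F408) (tt N66 F409) (tt N66 F410) (tt N66 F411) (tt N97 (iv F591)) (tt N66 F412) (tt N66 F413) (tt N45 (iv D66)) (tt N99 D99))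
theorem Q68 : ∀ i, i < 68 → P i := stepQ 67 Q67 (allL N67 (tt N86 (iv F524)) (tt N67 F414) (tt N67 F415) (tt N47 F416) (tt N67 F417) (tt N98 (iv F596)) (tt N67 F418) (tt N67 F419) (tt N100 D100) (tt N45 (iv D67)))
theorem Q69 : ∀ i, i < 69 → P i := stepQ 68 Q68 (allL N68 (tt N87 (iv F530)) (tt N68 F420) (tt N49 F421) (tt N96 (iv F586)) (tt N68 F422) (tt N68 F423) (tt N46 (iv D68)) (tt N101 D101) (tt N68 F424) (tt N102 D102))
theorem Q70 : ∀ i, i < 70 → P i := stepQ 69 Q69 (allL N69 (tt N88 (iv F535)) (tt N69 F425) (tt N50 F426) (tt N98 (iv F595)) (tt N69 F427) (tt N47 F428) (tt N102 (iv F619)) (tt N69 F429) (tt N103 D103) (tt N46 (iv D69)))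
theorem Q71 : ∀ i, i < 71 → P i := stepQ 70 Q70 (allL N70 (tt N89 (iv F540)) (tt N70 F430) (tt N51 F431) (tt N104 D104) (tt N48 F432) (tt N103 (iv F623)) (tt N70 F433) (tt N70 F434) (tt N47 (iv D70)) (tt N70 F435))
theorem Q72 : ∀ i, i < 72 → P i := stepQ 71 Q71 (allL N71 (tt N90 (iv F546)) (tt N71 F436) (tt N71 F437) (tt N48 (iv D71)) (tt N105 D105) (tt N71 F438) (tt N71 F439) (tt N71 F440) (tt N71 F441) (tt N71 F442))
theorem Q73 : ∀ i, i < 73 → P i := stepQ 72 Q72 (allL N72 (tt N91 (iv F553)) (tt N52 F443) (tt N101 (iv F610)) (tt N72 F444) (tt N72 F445) (tt N72 F446) (tt N72 F447) (tt N49 (iv D72)) (tt N72 F448) (tt N106 D106))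
theorem Q74 : ∀ i, i < 74 → P i := stepQ 73 Q73 (allL N73 (tt N92 (iv F560)) (tt N53 F449) (tt N102 (iv F616)) (tt N73 F450) (tt N73 F451) (tt N73 F452) (tt N50 F453) (tt N106 (iv F641)) (tt N107 D107) (tt N49 (iv D73)))
theorem Q75 : ∀ i, i < 75 → P i := stepQ 74 Q74 (allL N74 (tt N93 (iv F566)) (tt N54 F454) (tt N103 (iv F621)) (tt N108 D108) (tt N74 F455) (tt N51 F456) (tt N107 (iv F645)) (tt N74 F457) (tt N50 (iv D74)) (tt N74 F458))
theorem Q76 : ∀ i, i < 76 → P i := stepQ 75 Q75 (allL N75 (tt N94 (iv F572)) (tt N55 F459) (tt N109 D109) (tt N51 (iv D75)) (tt N75 F460) (tt N108 (iv F648)) (tt N75 F461) (tt N75 F462) (tt N75 F463) (tt N75 F464))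
theorem Q77 : ∀ i, i < 77 → P i := stepQ 76 Q76 (allL N76 (tt N76 F465) (tt N106 (iv F636)) (tt N76 F466) (tt N76 F467) (tt N76 F468) (tt N76 F469) (tt N76 F470) (tt N53 F471) (tt N110 D110) (tt N52 (iv D76)))
theorem Q78 : ∀ i, i < 78 → P i := stepQ 77 Q77 (allL N77 (tt N77 F472) (tt N107 (iv F642)) (tt N77 F473) (tt N111 D111) (tt N77 F474) (tt N77 F475) (tt N54 F476) (tt N110 (iv F662)) (tt N53 (iv D77)) (tt N77 F477))
theorem Q79 : ∀ i, i < 79 → P i := stepQ 78 Q78 (allL N78 (tt N78 F478) (tt N108 (iv F647)) (tt N112 D112) (tt N54 (iv D78)) (tt N113 D113) (tt N55 F479) (tt N111 (iv F666)) (tt N78 F480) (tt N78 F481) (tt N78 F482))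
theorem Q80 : ∀ i, i < 80 → P i := stepQ 79 Q79 (allL N79 (tt N79 F483) (tt N114 D114) (tt N55 (iv D79)) (tt N79 F484) (tt N79 F485) (tt N112 (iv F671)) (tt N79 F486) (tt N79 F487) (tt N79 F488) (tt N79 F489))
theorem Q81 : ∀ i, i < 81 → P i := stepQ 80 Q80 (allL N80 (tt N80 F490) (tt N58 F491) (tt N115 D115) (tt N56 (iv D80)) (tt N80 F492) (tt N116 D116) (tt N80 F493) (tt N80 F494) (tt N117 D117) (tt N118 D118))
theorem Q82 : ∀ i, i < 82 → P i := stepQ 81 Q81 (allL N81 (tt N81 F495) (tt N59 F496) (tt N81 F497) (tt N116 (iv F695)) (tt N81 F498) (tt N56 (iv D81)) (tt N119 D119) (tt N81 F499) (tt N81 F500) (tt N120 D120))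
theorem Q83 : ∀ i, i < 83 → P i := stepQ 82 Q82 (allL N82 (tt N82 F501) (tt N60 F502) (tt N82 F503) (tt N118 (iv F705)) (tt N57 F504) (tt N120 (iv F719)) (tt N82 F505) (tt N82 F506) (tt N121 D121) (tt N56 (iv D82)))
theorem Q84 : ∀ i, i < 84 → P i := stepQ 83 Q83 (allL N83 (tt N83 F507) (tt N61 F508) (tt N83 F509) (tt N122 D122) (tt N121 (iv F724)) (tt N83 F510) (tt N83 F511) (tt N83 F512) (tt N57 (iv D83)) (tt N83 F513))
theorem Q85 : ∀ i, i < 85 → P i := stepQ 84 Q84 (allL N84 (tt N65 F514) (tt N116 (iv F694)) (tt N84 F515) (tt N59 F516) (tt N123 D123) (tt N58 (iv D84)) (tt N124 D124) (tt N84 F517) (tt N125 D125) (tt N126 D126))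
theorem Q86 : ∀ i, i < 86 → P i := stepQ 85 Q85 (allL N85 (tt N66 F518) (tt N117 (iv F698)) (tt N85 F519) (tt N85 F520) (tt N85 F521) (tt N125 (iv F747)) (tt N85 F522) (tt N85 F523) (tt N58 (iv D85)) (tt N127 D127))
theorem Q87 : ∀ i, i < 87 → P i := stepQ 86 Q86 (allL N86 (tt N67 F524) (tt N118 (iv F704)) (tt N86 F525) (tt N60 F526) (tt N86 F527) (tt N126 (iv F752)) (tt N86 F528) (tt N86 F529) (tt N128 D128) (tt N58 (iv D86)))
theorem Q88 : ∀ i, i < 88 → P i := stepQ 87 Q87 (allL N87 (tt N68 F530) (tt N119 (iv F710)) (tt N62 F531) (tt N124 (iv F742)) (tt N87 F532) (tt N87 F533) (tt N59 (iv D87)) (tt N129 D129) (tt N87 F534) (tt N130 D130))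
theorem Q89 : ∀ i, i < 89 → P i := stepQ 88 Q88 (allL N88 (tt N69 F535) (tt N120 (iv F716)) (tt N63 F536) (tt N126 (iv F751)) (tt N88 F537) (tt N60 F538) (tt N130 (iv F775)) (tt N88 F539) (tt N131 D131) (tt N59 (iv D88)))
theorem Q90 : ∀ i, i < 90 → P i := stepQ 89 Q89 (allL N89 (tt N70 F540) (tt N121 (iv F722)) (tt N64 F541) (tt N132 D132) (tt N61 F542) (tt N131 (iv F779)) (tt N89 F543) (tt N89 F544) (tt N60 (iv D89)) (tt N89 F545))
theorem Q91 : ∀ i, i < 91 → P i := stepQ 90 Q90 (allL N90 (tt N71 F546) (tt N122 (iv F729)) (tt N90 F547) (tt N61 (iv D90)) (tt N133 D133) (tt N90 F548) (tt N90 F549) (tt N90 F550) (tt N90 F551) (tt N90 F552))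
theorem Q92 : ∀ i, i < 92 → P i := stepQ 91 Q91 (allL N91 (tt N72 F553) (tt N91 F554) (tt N129 (iv F766)) (tt N91 F555) (tt N91 F556) (tt N91 F557) (tt N91 F558) (tt N62 (iv D91)) (tt N91 F559) (tt N134 D134))
theorem Q93 : ∀ i, i < 93 → P i := stepQ 92 Q92 (allL N92 (tt N73 F560) (tt N92 F561) (tt N130 (iv F772)) (tt N92 F562) (tt N92 F563) (tt N92 F564) (tt N63 F565) (tt N134 (iv F798)) (tt N135 D135) (tt N62 (iv D92)))
theorem Q94 : ∀ i, i < 94 → P i := stepQ 93 Q93 (allL N93 (tt N74 F566) (tt N93 F567) (tt N131 (iv F777)) (tt N136 D136) (tt N93 F568) (tt N64 F569) (tt N135 (iv F803)) (tt N93 F570) (tt N63 (iv D93)) (tt N93 F571))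
theorem Q95 : ∀ i, i < 95 → P i := stepQ 94 Q94 (allL N94 (tt N75 F572) (tt N94 F573) (tt N137 D137) (tt N64 (iv D94)) (tt N94 F574) (tt N136 (iv F807)) (tt N94 F575) (tt N94 F576) (tt N94 F577) (tt N94 F578))
theorem Q96 : ∀ i, i < 96 → P i := stepQ 95 Q95 (allL N95 (tt N123 (iv F735)) (tt N95 F579) (tt N95 F580) (tt N95 F581) (tt N65 (iv D95)) (tt N95 F582) (tt N138 D138) (tt N95 F583) (tt N139 D139) (tt N140 D140))
theorem Q97 : ∀ i, i < 97 → P i := stepQ 96 Q96 (allL N96 (tt N124 (iv F740)) (tt N96 F584) (tt N96 F585) (tt N68 F586) (tt N138 (iv F820)) (tt N96 F587) (tt N65 (iv D96)) (tt N141 D141) (tt N142 D142) (tt N143 D143))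
theorem Q98 : ∀ i, i < 98 → P i := stepQ 97 Q97 (allL N97 (tt N125 (iv F744)) (tt N97 F588) (tt N97 F589) (tt N97 F590) (tt N139 (iv F823)) (tt N66 F591) (tt N142 (iv F841)) (tt N97 F592) (tt N65 (iv D97)) (tt N144 D144))
theorem Q99 : ∀ i, i < 99 → P i := stepQ 98 Q98 (allL N98 (tt N126 (iv F749)) (tt N98 F593) (tt N98 F594) (tt N69 F595) (tt N140 (iv F829)) (tt N67 F596) (tt N143 (iv F846)) (tt N98 F597) (tt N145 D145) (tt N65 (iv D98)))
theorem Q100 : ∀ i, i < 100 → P i := stepQ 99 Q99 (allL N99 (tt N127 (iv F754)) (tt N99 F598) (tt N99 F599) (tt N99 F600) (tt N99 F601) (tt N144 (iv F850)) (tt N99 F602) (tt N99 F603) (tt N146 D146) (tt N66 (iv D99)))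
theorem Q101 : ∀ i, i < 101 → P i := stepQ 100 Q100 (allL N100 (tt N128 (iv F760)) (tt N100 F604) (tt N100 F605) (tt N147 D147) (tt N100 F606) (tt N145 (iv F854)) (tt N100 F607) (tt N100 F608) (tt N67 (iv D100)) (tt N146 (iv F861)))
theorem Q102 : ∀ i, i < 102 → P i := stepQ 101 Q101 (allL N101 (tt N129 (iv F765)) (tt N101 F609) (tt N72 F610) (tt N141 (iv F834)) (tt N101 F611) (tt N101 F612) (tt N101 F613) (tt N68 (iv D101)) (tt N101 F614) (tt N148 D148))
theorem Q103 : ∀ i, i < 103 → P i := stepQ 102 Q102 (allL N102 (tt N130 (iv F771)) (tt N102 F615) (tt N73 F616) (tt N143 (iv F844)) (tt N102 F617) (tt N102 F618) (tt N69 F619) (tt N148 (iv F871)) (tt N149 D149) (tt N68 (iv D102)))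
theorem Q104 : ∀ i, i < 104 → P i := stepQ 103 Q103 (allL N103 (tt N131 (iv F776)) (tt N103 F620) (tt N74 F621) (tt N150 D150) (tt N103 F622) (tt N70 F623) (tt N149 (iv F876)) (tt N103 F624) (tt N69 (iv D103)) (tt N103 F625))
theorem Q105 : ∀ i, i < 105 → P i := stepQ 104 Q104 (allL N104 (tt N132 (iv F782)) (tt N104 F626) (tt N151 D151) (tt N70 (iv D104)) (tt N152 D152) (tt N150 (iv F879)) (tt N104 F627) (tt N104 F628) (tt N147 (iv F865)) (tt N104 F629))
theorem Q106 : ∀ i, i < 106 → P i := stepQ 105 Q105 (allL N105 (tt N133 (iv F786)) (tt N105 F630) (tt N105 F631) (tt N152 (iv F887)) (tt N71 (iv D105)) (tt N153 D153) (tt N105 F632) (tt N105 F633) (tt N105 F634) (tt N105 F635))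
theorem Q107 : ∀ i, i < 107 → P i := stepQ 106 Q106 (allL N106 (tt N134 (iv F792)) (tt N76 F636) (tt N148 (iv F867)) (tt N106 F637) (tt N106 F638) (tt N106 F639) (tt N106 F640) (tt N73 F641) (tt N154 D154) (tt N72 (iv D106)))
theorem Q108 : ∀ i, i < 108 → P i := stepQ 107 Q107 (allL N107 (tt N135 (iv F799)) (tt N77 F642) (tt N149 (iv F873)) (tt N155 D155) (tt N107 F643) (tt N107 F644) (tt N74 F645) (tt N154 (iv F901)) (tt N73 (iv D107)) (tt N107 F646))
theorem Q109 : ∀ i, i < 109 → P i := stepQ 108 Q108 (allL N108 (tt N136 (iv F805)) (tt N78 F647) (tt N156 D156) (tt N74 (iv D108)) (tt N157 D157) (tt N75 F648) (tt N155 (iv F905)) (tt N108 F649) (tt N108 F650) (tt N108 F651))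
theorem Q110 : ∀ i, i < 110 → P i := stepQ 109 Q109 (allL N109 (tt N137 (iv F811)) (tt N158 D158) (tt N75 (iv D109)) (tt N151 (iv F882)) (tt N109 F652) (tt N156 (iv F908)) (tt N109 F653) (tt N109 F654) (tt N109 F655) (tt N109 F656))
theorem Q111 : ∀ i, i < 111 → P i := stepQ 110 Q110 (allL N110 (tt N110 F657) (tt N154 (iv F897)) (tt N110 F658) (tt N159 D159) (tt N110 F659) (tt N110 F660) (tt N110 F661) (tt N77 F662) (tt N76 (iv D110)) (tt N110 F663))
theorem Q112 : ∀ i, i < 112 → P i := stepQ 111 Q111 (allL N111 (tt N111 F664) (tt N155 (iv F903)) (tt N160 D160) (tt N77 (iv D111)) (tt N161 D161) (tt N111 F665) (tt N78 F666) (tt N159 (iv F927)) (tt N111 F667) (tt N111 F668))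
theorem Q113 : ∀ i, i < 113 → P i := stepQ 112 Q112 (allL N112 (tt N112 F669) (tt N162 D162) (tt N78 (iv D112)) (tt N112 F670) (tt N163 D163) (tt N79 F671) (tt N160 (iv F933)) (tt N112 F672) (tt N112 F673) (tt N112 F674))
theorem Q114 : ∀ i, i < 114 → P i := stepQ 113 Q113 (allL N113 (tt N113 F675) (tt N157 (iv F912)) (tt N163 (iv F947)) (tt N113 F676) (tt N78 (iv D113)) (tt N113 F677) (tt N161 (iv F938)) (tt N113 F678) (tt N113 F679) (tt N113 F680))
theorem Q115 : ∀ i, i < 115 → P i := stepQ 114 Q114 (allL N114 (tt N164 D164) (tt N79 (iv D114)) (tt N158 (iv F918)) (tt N114 F681) (tt N114 F682) (tt N162 (iv F942)) (tt N114 F683) (tt N114 F684) (tt N114 F685) (tt N114 F686))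
theorem Q116 : ∀ i, i < 116 → P i := stepQ 115 Q115 (allL N115 (tt N115 F687) (tt N115 F688) (tt N80 (iv D115)) (tt N115 F689) (tt N115 F690) (tt N165 D165) (tt N115 F691) (tt N115 F692) (tt N166 D166) (tt N167 D167))
theorem Q117 : ∀ i, i < 117 → P i := stepQ 116 Q116 (allL N116 (tt N116 F693) (tt N84 F694) (tt N165 (iv F961)) (tt N81 F695) (tt N168 D168) (tt N80 (iv D116)) (tt N169 D169) (tt N116 F696) (tt N170 D170) (tt N171 D171))
theorem Q118 : ∀ i, i < 118 → P i := stepQ 117 Q117 (allL N117 (tt N117 F697) (tt N85 F698) (tt N166 (iv F966)) (tt N117 F699) (tt N117 F700) (tt N170 (iv F989)) (tt N117 F701) (tt N117 F702) (tt N80 (iv D117)) (tt N172 D172))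
theorem Q119 : ∀ i, i < 119 → P i := stepQ 118 Q118 (allL N118 (tt N118 F703) (tt N86 F704) (tt N167 (iv F972)) (tt N82 F705) (tt N118 F706) (tt N171 (iv F994)) (tt N118 F707) (tt N118 F708) (tt N173 D173) (tt N80 (iv D118)))
theorem Q120 : ∀ i, i < 120 → P i := stepQ 119 Q119 (allL N119 (tt N119 F709) (tt N87 F710) (tt N119 F711) (tt N169 (iv F984)) (tt N119 F712) (tt N119 F713) (tt N81 (iv D119)) (tt N174 D174) (tt N119 F714) (tt N175 D175))
theorem Q121 : ∀ i, i < 121 → P i := stepQ 120 Q120 (allL N120 (tt N120 F715) (tt N88 F716) (tt N120 F717) (tt N171 (iv F993)) (tt N120 F718) (tt N82 F719) (tt N175 (iv F1019)) (tt N120 F720) (tt N176 D176) (tt N81 (iv D120)))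
theorem Q122 : ∀ i, i < 122 → P i := stepQ 121 Q121 (allL N121 (tt N121 F721) (tt N89 F722) (tt N121 F723) (tt N177 D177) (tt N83 F724) (tt N176 (iv F1024)) (tt N121 F725) (tt N121 F726) (tt N82 (iv D121)) (tt N121 F727))
theorem Q123 : ∀ i, i < 123 → P i := stepQ 122 Q122 (allL N122 (tt N122 F728) (tt N90 F729) (tt N178 D178) (tt N83 (iv D122)) (tt N179 D179) (tt N122 F730) (tt N122 F731) (tt N122 F732) (tt N122 F733) (tt N122 F734))
theorem Q124 : ∀ i, i < 124 → P i := stepQ 123 Q123 (allL N123 (tt N95 F735) (tt N168 (iv F978)) (tt N123 F736) (tt N123 F737) (tt N84 (iv D123)) (tt N123 F738) (tt N180 D180) (tt N123 F739) (tt N181 D181) (tt N182 D182))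
theorem Q125 : ∀ i, i < 125 → P i := stepQ 124 Q124 (allL N124 (tt N96 F740) (tt N169 (iv F983)) (tt N124 F741) (tt N87 F742) (tt N180 (iv F1049)) (tt N124 F743) (tt N84 (iv D124)) (tt N183 D183) (tt N184 D184) (tt N185 D185))
theorem Q126 : ∀ i, i < 126 → P i := stepQ 125 Q125 (allL N125 (tt N97 F744) (tt N170 (iv F987)) (tt N125 F745) (tt N125 F746) (tt N181 (iv F1052)) (tt N85 F747) (tt N184 (iv F1070)) (tt N125 F748) (tt N84 (iv D125)) (tt N186 D186))
theorem Q127 : ∀ i, i < 127 → P i := stepQ 126 Q126 (allL N126 (tt N98 F749) (tt N171 (iv F992)) (tt N126 F750) (tt N88 F751) (tt N182 (iv F1058)) (tt N86 F752) (tt N185 (iv F1075)) (tt N126 F753) (tt N187 D187) (tt N84 (iv D126)))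
theorem Q128 : ∀ i, i < 128 → P i := stepQ 127 Q127 (allL N127 (tt N99 F754) (tt N172 (iv F997)) (tt N127 F755) (tt N127 F756) (tt N127 F757) (tt N186 (iv F1079)) (tt N127 F758) (tt N127 F759) (tt N188 D188) (tt N85 (iv D127)))
theorem Q129 : ∀ i, i < 129 → P i := stepQ 128 Q128 (allL N128 (tt N100 F760) (tt N173 (iv F1003)) (tt N128 F761) (tt N189 D189) (tt N128 F762) (tt N187 (iv F1083)) (tt N128 F763) (tt N128 F764) (tt N86 (iv D128)) (tt N188 (iv F1090)))
theorem Q130 : ∀ i, i < 130 → P i := stepQ 129 Q129 (allL N129 (tt N101 F765) (tt N174 (iv F1008)) (tt N91 F766) (tt N183 (iv F1063)) (tt N129 F767) (tt N129 F768) (tt N129 F769) (tt N87 (iv D129)) (tt N129 F770) (tt N190 D190))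
theorem Q131 : ∀ i, i < 131 → P i := stepQ 130 Q130 (allL N130 (tt N102 F771) (tt N175 (iv F1015)) (tt N92 F772) (tt N185 (iv F1073)) (tt N130 F773) (tt N130 F774) (tt N88 F775) (tt N190 (iv F1100)) (tt N191 D191) (tt N87 (iv D130)))
theorem Q132 : ∀ i, i < 132 → P i := stepQ 131 Q131 (allL N131 (tt N103 F776) (tt N176 (iv F1021)) (tt N93 F777) (tt N192 D192) (tt N131 F778) (tt N89 F779) (tt N191 (iv F1105)) (tt N131 F780) (tt N88 (iv D131)) (tt N131 F781))
theorem Q133 : ∀ i, i < 133 → P i := stepQ 132 Q132 (allL N132 (tt N104 F782) (tt N177 (iv F1028)) (tt N193 D193) (tt N89 (iv D132)) (tt N194 D194) (tt N192 (iv F1108)) (tt N132 F783) (tt N132 F784) (tt N189 (iv F1094)) (tt N132 F785))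
theorem Q134 : ∀ i, i < 134 → P i := stepQ 133 Q133 (allL N133 (tt N105 F786) (tt N179 (iv F1041)) (tt N133 F787) (tt N194 (iv F1117)) (tt N90 (iv D133)) (tt N195 D195) (tt N133 F788) (tt N133 F789) (tt N133 F790) (tt N133 F791))
theorem Q135 : ∀ i, i < 135 → P i := stepQ 134 Q134 (allL N134 (tt N106 F792) (tt N134 F793) (tt N190 (iv F1096)) (tt N134 F794) (tt N134 F795) (tt N134 F796) (tt N134 F797) (tt N92 F798) (tt N196 D196) (tt N91 (iv D134)))
theorem Q136 : ∀ i, i < 136 → P i := stepQ 135 Q135 (allL N135 (tt N107 F799) (tt N135 F800) (tt N191 (iv F1102)) (tt N197 D197) (tt N135 F801) (tt N135 F802) (tt N93 F803) (tt N196 (iv F1132)) (tt N92 (iv D135)) (tt N135 F804))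
theorem Q137 : ∀ i, i < 137 → P i := stepQ 136 Q136 (allL N136 (tt N108 F805) (tt N136 F806) (tt N198 D198) (tt N93 (iv D136)) (tt N199 D199) (tt N94 F807) (tt N197 (iv F1137)) (tt N136 F808) (tt N136 F809) (tt N136 F810))
theorem Q138 : ∀ i, i < 138 → P i := stepQ 137 Q137 (allL N137 (tt N109 F811) (tt N200 D200) (tt N94 (iv D137)) (tt N193 (iv F1112)) (tt N137 F812) (tt N198 (iv F1141)) (tt N137 F813) (tt N137 F814) (tt N137 F815) (tt N137 F816))
theorem Q139 : ∀ i, i < 139 → P i := stepQ 138 Q138 (allL N138 (tt N180 (iv F1046)) (tt N138 F817) (tt N138 F818) (tt N138 F819) (tt N96 F820) (tt N201 D201) (tt N95 (iv D138)) (tt N202 D202) (tt N203 D203) (tt N204 D204))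
theorem Q140 : ∀ i, i < 140 → P i := stepQ 139 Q139 (allL N139 (tt N181 (iv F1050)) (tt N139 F821) (tt N139 F822) (tt N205 D205) (tt N97 F823) (tt N139 F824) (tt N203 (iv F1171)) (tt N139 F825) (tt N95 (iv D139)) (tt N206 D206))
theorem Q141 : ∀ i, i < 141 → P i := stepQ 140 Q140 (allL N140 (tt N182 (iv F1055)) (tt N140 F826) (tt N140 F827) (tt N140 F828) (tt N98 F829) (tt N140 F830) (tt N204 (iv F1176)) (tt N140 F831) (tt N207 D207) (tt N95 (iv D140)))
theorem Q142 : ∀ i, i < 142 → P i := stepQ 141 Q141 (allL N141 (tt N183 (iv F1061)) (tt N141 F832) (tt N141 F833) (tt N101 F834) (tt N202 (iv F1166)) (tt N141 F835) (tt N141 F836) (tt N96 (iv D141)) (tt N208 D208) (tt N209 D209))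
theorem Q143 : ∀ i, i < 143 → P i := stepQ 142 Q142 (allL N142 (tt N184 (iv F1066)) (tt N142 F837) (tt N142 F838) (tt N142 F839) (tt N203 (iv F1170)) (tt N142 F840) (tt N97 F841) (tt N208 (iv F1197)) (tt N96 (iv D142)) (tt N210 D210))
theorem Q144 : ∀ i, i < 144 → P i := stepQ 143 Q143 (allL N143 (tt N185 (iv F1071)) (tt N143 F842) (tt N143 F843) (tt N102 F844) (tt N204 (iv F1175)) (tt N143 F845) (tt N98 F846) (tt N209 (iv F1203)) (tt N211 D211) (tt N96 (iv D143)))
theorem Q145 : ∀ i, i < 145 → P i := stepQ 144 Q144 (allL N144 (tt N186 (iv F1076)) (tt N144 F847) (tt N144 F848) (tt N144 F849) (tt N206 (iv F1184)) (tt N99 F850) (tt N210 (iv F1208)) (tt N144 F851) (tt N212 D212) (tt N97 (iv D144)))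
theorem Q146 : ∀ i, i < 146 → P i := stepQ 145 Q145 (allL N145 (tt N187 (iv F1081)) (tt N145 F852) (tt N145 F853) (tt N213 D213) (tt N207 (iv F1189)) (tt N100 F854) (tt N211 (iv F1212)) (tt N145 F855) (tt N98 (iv D145)) (tt N212 (iv F1217)))
theorem Q147 : ∀ i, i < 147 → P i := stepQ 146 Q146 (allL N146 (tt N188 (iv F1085)) (tt N146 F856) (tt N146 F857) (tt N214 D214) (tt N146 F858) (tt N212 (iv F1215)) (tt N146 F859) (tt N146 F860) (tt N99 (iv D146)) (tt N100 F861))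
theorem Q148 : ∀ i, i < 148 → P i := stepQ 147 Q147 (allL N147 (tt N189 (iv F1091)) (tt N147 F862) (tt N215 D215) (tt N100 (iv D147)) (tt N216 D216) (tt N213 (iv F1219)) (tt N147 F863) (tt N147 F864) (tt N104 F865) (tt N214 (iv F1226)))
theorem Q149 : ∀ i, i < 149 → P i := stepQ 148 Q148 (allL N148 (tt N190 (iv F1095)) (tt N148 F866) (tt N106 F867) (tt N209 (iv F1200)) (tt N148 F868) (tt N148 F869) (tt N148 F870) (tt N102 F871) (tt N217 D217) (tt N101 (iv D148)))
theorem Q150 : ∀ i, i < 150 → P i := stepQ 149 Q149 (allL N149 (tt N191 (iv F1101)) (tt N149 F872) (tt N107 F873) (tt N218 D218) (tt N149 F874) (tt N149 F875) (tt N103 F876) (tt N217 (iv F1241)) (tt N102 (iv D149)) (tt N149 F877))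
theorem Q151 : ∀ i, i < 151 → P i := stepQ 150 Q150 (allL N150 (tt N192 (iv F1107)) (tt N150 F878) (tt N219 D219) (tt N103 (iv D150)) (tt N220 D220) (tt N104 F879) (tt N218 (iv F1245)) (tt N150 F880) (tt N213 (iv F1221)) (tt N150 F881))
theorem Q152 : ∀ i, i < 152 → P i := stepQ 151 Q151 (allL N151 (tt N193 (iv F1111)) (tt N221 D221) (tt N104 (iv D151)) (tt N109 F882) (tt N222 D222) (tt N219 (iv F1248)) (tt N151 F883) (tt N151 F884) (tt N215 (iv F1230)) (tt N151 F885))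
theorem Q153 : ∀ i, i < 153 → P i := stepQ 152 Q152 (allL N152 (tt N194 (iv F1116)) (tt N152 F886) (tt N222 (iv F1260)) (tt N105 F887) (tt N104 (iv D152)) (tt N223 D223) (tt N152 F888) (tt N152 F889) (tt N216 (iv F1235)) (tt N152 F890))
theorem Q154 : ∀ i, i < 154 → P i := stepQ 153 Q153 (allL N153 (tt N195 (iv F1121)) (tt N153 F891) (tt N153 F892) (tt N223 (iv F1266)) (tt N153 F893) (tt N105 (iv D153)) (tt N224 D224) (tt N153 F894) (tt N153 F895) (tt N153 F896))
theorem Q155 : ∀ i, i < 155 → P i := stepQ 154 Q154 (allL N154 (tt N196 (iv F1127)) (tt N110 F897) (tt N217 (iv F1237)) (tt N225 D225) (tt N154 F898) (tt N154 F899) (tt N154 F900) (tt N107 F901) (tt N106 (iv D154)) (tt N154 F902))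
theorem Q156 : ∀ i, i < 156 → P i := stepQ 155 Q155 (allL N155 (tt N197 (iv F1134)) (tt N111 F903) (tt N226 D226) (tt N107 (iv D155)) (tt N227 D227) (tt N155 F904) (tt N108 F905) (tt N225 (iv F1278)) (tt N155 F906) (tt N155 F907))
theorem Q157 : ∀ i, i < 157 → P i := stepQ 156 Q156 (allL N156 (tt N198 (iv F1140)) (tt N228 D228) (tt N108 (iv D156)) (tt N219 (iv F1247)) (tt N229 D229) (tt N109 F908) (tt N226 (iv F1282)) (tt N156 F909) (tt N156 F910) (tt N156 F911))
theorem Q158 : ∀ i, i < 158 → P i := stepQ 157 Q157 (allL N157 (tt N199 (iv F1145)) (tt N113 F912) (tt N229 (iv F1295)) (tt N157 F913) (tt N108 (iv D157)) (tt N157 F914) (tt N227 (iv F1287)) (tt N157 F915) (tt N157 F916) (tt N157 F917))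
theorem Q159 : ∀ i, i < 159 → P i := stepQ 158 Q158 (allL N158 (tt N230 D230) (tt N109 (iv D158)) (tt N114 F918) (tt N221 (iv F1256)) (tt N158 F919) (tt N228 (iv F1291)) (tt N158 F920) (tt N158 F921) (tt N158 F922) (tt N158 F923))
theorem Q160 : ∀ i, i < 160 → P i := stepQ 159 Q159 (allL N159 (tt N159 F924) (tt N225 (iv F1275)) (tt N231 D231) (tt N110 (iv D159)) (tt N232 D232) (tt N159 F925) (tt N159 F926) (tt N111 F927) (tt N159 F928) (tt N159 F929))
theorem Q161 : ∀ i, i < 161 → P i := stepQ 160 Q160 (allL N160 (tt N160 F930) (tt N233 D233) (tt N111 (iv D160)) (tt N160 F931) (tt N234 D234) (tt N160 F932) (tt N112 F933) (tt N231 (iv F1310)) (tt N160 F934) (tt N160 F935))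
theorem Q162 : ∀ i, i < 162 → P i := stepQ 161 Q161 (allL N161 (tt N161 F936) (tt N227 (iv F1285)) (tt N234 (iv F1325)) (tt N161 F937) (tt N111 (iv D161)) (tt N235 D235) (tt N113 F938) (tt N232 (iv F1316)) (tt N161 F939) (tt N161 F940))
theorem Q163 : ∀ i, i < 163 → P i := stepQ 162 Q162 (allL N162 (tt N236 D236) (tt N112 (iv D162)) (tt N228 (iv F1290)) (tt N162 F941) (tt N237 D237) (tt N114 F942) (tt N233 (iv F1321)) (tt N162 F943) (tt N162 F944) (tt N162 F945))
theorem Q164 : ∀ i, i < 164 → P i := stepQ 163 Q163 (allL N163 (tt N163 F946) (tt N237 (iv F1341)) (tt N113 F947) (tt N238 D238) (tt N112 (iv D163)) (tt N163 F948) (tt N234 (iv F1326)) (tt N163 F949) (tt N163 F950) (tt N163 F951))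
theorem Q165 : ∀ i, i < 165 → P i := stepQ 164 Q164 (allL N164 (tt N114 (iv D164)) (tt N164 F952) (tt N230 (iv F1300)) (tt N164 F953) (tt N164 F954) (tt N236 (iv F1337)) (tt N164 F955) (tt N164 F956) (tt N164 F957) (tt N164 F958))
theorem Q166 : ∀ i, i < 166 → P i := stepQ 165 Q165 (allL N165 (tt N165 F959) (tt N165 F960) (tt N116 F961) (tt N165 F962) (tt N239 D239) (tt N115 (iv D165)) (tt N240 D240) (tt N165 F963) (tt N241 D241) (tt N242 D242))
theorem Q167 : ∀ i, i < 167 → P i := stepQ 166 Q166 (allL N166 (tt N166 F964) (tt N166 F965) (tt N117 F966) (tt N243 D243) (tt N166 F967) (tt N241 (iv F1365)) (tt N166 F968) (tt N166 F969) (tt N115 (iv D166)) (tt N244 D244))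
theorem Q168 : ∀ i, i < 168 → P i := stepQ 167 Q167 (allL N167 (tt N167 F970) (tt N167 F971) (tt N118 F972) (tt N167 F973) (tt N167 F974) (tt N242 (iv F1371)) (tt N167 F975) (tt N167 F976) (tt N245 D245) (tt N115 (iv D167)))
theorem Q169 : ∀ i, i < 169 → P i := stepQ 168 Q168 (allL N168 (tt N168 F977) (tt N123 F978) (tt N239 (iv F1354)) (tt N168 F979) (tt N116 (iv D168)) (tt N168 F980) (tt N246 D246) (tt N168 F981) (tt N247 D247) (tt N248 D248))
theorem Q170 : ∀ i, i < 170 → P i := stepQ 169 Q169 (allL N169 (tt N169 F982) (tt N124 F983) (tt N240 (iv F1359)) (tt N119 F984) (tt N246 (iv F1394)) (tt N169 F985) (tt N116 (iv D169)) (tt N249 D249) (tt N250 D250) (tt N251 D251))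
theorem Q171 : ∀ i, i < 171 → P i := stepQ 170 Q170 (allL N170 (tt N170 F986) (tt N125 F987) (tt N241 (iv F1364)) (tt N170 F988) (tt N247 (iv F1397)) (tt N117 F989) (tt N250 (iv F1415)) (tt N170 F990) (tt N116 (iv D170)) (tt N252 D252))
theorem Q172 : ∀ i, i < 172 → P i := stepQ 171 Q171 (allL N171 (tt N171 F991) (tt N126 F992) (tt N242 (iv F1369)) (tt N120 F993) (tt N248 (iv F1403)) (tt N118 F994) (tt N251 (iv F1420)) (tt N171 F995) (tt N253 D253) (tt N116 (iv D171)))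
theorem Q173 : ∀ i, i < 173 → P i := stepQ 172 Q172 (allL N172 (tt N172 F996) (tt N127 F997) (tt N244 (iv F1381)) (tt N172 F998) (tt N172 F999) (tt N252 (iv F1424)) (tt N172 F1000) (tt N172 F1001) (tt N254 D254) (tt N117 (iv D172)))
theorem Q174 : ∀ i, i < 174 → P i := stepQ 173 Q173 (allL N173 (tt N173 F1002) (tt N128 F1003) (tt N245 (iv F1387)) (tt N255 D255) (tt N173 F1004) (tt N253 (iv F1428)) (tt N173 F1005) (tt N173 F1006) (tt N118 (iv D173)) (tt N254 (iv F1435)))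
theorem Q175 : ∀ i, i < 175 → P i := stepQ 174 Q174 (allL N174 (tt N174 F1007) (tt N129 F1008) (tt N174 F1009) (tt N249 (iv F1408)) (tt N174 F1010) (tt N174 F1011) (tt N174 F1012) (tt N119 (iv D174)) (tt N174 F1013) (tt N256 D256))
theorem Q176 : ∀ i, i < 176 → P i := stepQ 175 Q175 (allL N175 (tt N175 F1014) (tt N130 F1015) (tt N175 F1016) (tt N251 (iv F1418)) (tt N175 F1017) (tt N175 F1018) (tt N120 F1019) (tt N256 (iv F1447)) (tt N257 D257) (tt N119 (iv D175)))
theorem Q177 : ∀ i, i < 177 → P i := stepQ 176 Q176 (allL N176 (tt N176 F1020) (tt N131 F1021) (tt N176 F1022) (tt N258 D258) (tt N176 F1023) (tt N121 F1024) (tt N257 (iv F1453)) (tt N176 F1025) (tt N120 (iv D176)) (tt N176 F1026))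
theorem Q178 : ∀ i, i < 178 → P i := stepQ 177 Q177 (allL N177 (tt N177 F1027) (tt N132 F1028) (tt N259 D259) (tt N121 (iv D177)) (tt N260 D260) (tt N258 (iv F1457)) (tt N177 F1029) (tt N177 F1030) (tt N255 (iv F1440)) (tt N177 F1031))
theorem Q179 : ∀ i, i < 179 → P i := stepQ 178 Q178 (allL N178 (tt N178 F1032) (tt N178 F1033) (tt N122 (iv D178)) (tt N178 F1034) (tt N261 D261) (tt N178 F1035) (tt N178 F1036) (tt N178 F1037) (tt N178 F1038) (tt N178 F1039))
theorem Q180 : ∀ i, i < 180 → P i := stepQ 179 Q179 (allL N179 (tt N179 F1040) (tt N133 F1041) (tt N261 (iv F1473)) (tt N260 (iv F1467)) (tt N122 (iv D179)) (tt N262 D262) (tt N179 F1042) (tt N179 F1043) (tt N179 F1044) (tt N179 F1045))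
theorem Q181 : ∀ i, i < 181 → P i := stepQ 180 Q180 (allL N180 (tt N138 F1046) (tt N246 (iv F1392)) (tt N180 F1047) (tt N180 F1048) (tt N124 F1049) (tt N263 D263) (tt N123 (iv D180)) (tt N264 D264) (tt N265 D265) (tt N266 D266))
theorem Q182 : ∀ i, i < 182 → P i := stepQ 181 Q181 (allL N181 (tt N139 F1050) (tt N247 (iv F1396)) (tt N181 F1051) (tt N267 D267) (tt N125 F1052) (tt N181 F1053) (tt N265 (iv F1497)) (tt N181 F1054) (tt N123 (iv D181)) (tt N268 D268))
theorem Q183 : ∀ i, i < 183 → P i := stepQ 182 Q182 (allL N182 (tt N140 F1055) (tt N248 (iv F1401)) (tt N182 F1056) (tt N182 F1057) (tt N126 F1058) (tt N182 F1059) (tt N266 (iv F1502)) (tt N182 F1060) (tt N269 D269) (tt N123 (iv D182)))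
theorem Q184 : ∀ i, i < 184 → P i := stepQ 183 Q183 (allL N183 (tt N141 F1061) (tt N249 (iv F1407)) (tt N183 F1062) (tt N129 F1063) (tt N264 (iv F1492)) (tt N183 F1064) (tt N183 F1065) (tt N124 (iv D183)) (tt N270 D270) (tt N271 D271))
theorem Q185 : ∀ i, i < 185 → P i := stepQ 184 Q184 (allL N184 (tt N142 F1066) (tt N250 (iv F1412)) (tt N184 F1067) (tt N184 F1068) (tt N265 (iv F1496)) (tt N184 F1069) (tt N125 F1070) (tt N270 (iv F1523)) (tt N124 (iv D184)) (tt N272 D272))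
theorem Q186 : ∀ i, i < 186 → P i := stepQ 185 Q185 (allL N185 (tt N143 F1071) (tt N251 (iv F1417)) (tt N185 F1072) (tt N130 F1073) (tt N266 (iv F1501)) (tt N185 F1074) (tt N126 F1075) (tt N271 (iv F1529)) (tt N273 D273) (tt N124 (iv D185)))
theorem Q187 : ∀ i, i < 187 → P i := stepQ 186 Q186 (allL N186 (tt N144 F1076) (tt N252 (iv F1422)) (tt N186 F1077) (tt N186 F1078) (tt N268 (iv F1510)) (tt N127 F1079) (tt N272 (iv F1534)) (tt N186 F1080) (tt N274 D274) (tt N125 (iv D186)))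
theorem Q188 : ∀ i, i < 188 → P i := stepQ 187 Q187 (allL N187 (tt N145 F1081) (tt N253 (iv F1427)) (tt N187 F1082) (tt N275 D275) (tt N269 (iv F1515)) (tt N128 F1083) (tt N273 (iv F1538)) (tt N187 F1084) (tt N126 (iv D187)) (tt N274 (iv F1543)))
theorem Q189 : ∀ i, i < 189 → P i := stepQ 188 Q188 (allL N188 (tt N146 F1085) (tt N254 (iv F1431)) (tt N188 F1086) (tt N276 D276) (tt N188 F1087) (tt N274 (iv F1541)) (tt N188 F1088) (tt N188 F1089) (tt N127 (iv D188)) (tt N128 F1090))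
theorem Q190 : ∀ i, i < 190 → P i := stepQ 189 Q189 (allL N189 (tt N147 F1091) (tt N255 (iv F1437)) (tt N277 D277) (tt N128 (iv D189)) (tt N278 D278) (tt N275 (iv F1545)) (tt N189 F1092) (tt N189 F1093) (tt N132 F1094) (tt N276 (iv F1552)))
theorem Q191 : ∀ i, i < 191 → P i := stepQ 190 Q190 (allL N190 (tt N148 F1095) (tt N256 (iv F1442)) (tt N134 F1096) (tt N271 (iv F1526)) (tt N190 F1097) (tt N190 F1098) (tt N190 F1099) (tt N130 F1100) (tt N279 D279) (tt N129 (iv D190)))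
theorem Q192 : ∀ i, i < 192 → P i := stepQ 191 Q191 (allL N191 (tt N149 F1101) (tt N257 (iv F1449)) (tt N135 F1102) (tt N280 D280) (tt N191 F1103) (tt N191 F1104) (tt N131 F1105) (tt N279 (iv F1568)) (tt N130 (iv D191)) (tt N191 F1106))
theorem Q193 : ∀ i, i < 193 → P i := stepQ 192 Q192 (allL N192 (tt N150 F1107) (tt N258 (iv F1456)) (tt N281 D281) (tt N131 (iv D192)) (tt N282 D282) (tt N132 F1108) (tt N280 (iv F1572)) (tt N192 F1109) (tt N275 (iv F1547)) (tt N192 F1110))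
theorem Q194 : ∀ i, i < 194 → P i := stepQ 193 Q193 (allL N193 (tt N151 F1111) (tt N283 D283) (tt N132 (iv D193)) (tt N137 F1112) (tt N284 D284) (tt N281 (iv F1576)) (tt N193 F1113) (tt N193 F1114) (tt N277 (iv F1557)) (tt N193 F1115))
theorem Q195 : ∀ i, i < 195 → P i := stepQ 194 Q194 (allL N194 (tt N152 F1116) (tt N260 (iv F1466)) (tt N284 (iv F1588)) (tt N133 F1117) (tt N132 (iv D194)) (tt N285 D285) (tt N194 F1118) (tt N194 F1119) (tt N278 (iv F1562)) (tt N194 F1120))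
theorem Q196 : ∀ i, i < 196 → P i := stepQ 195 Q195 (allL N195 (tt N153 F1121) (tt N262 (iv F1479)) (tt N195 F1122) (tt N285 (iv F1594)) (tt N195 F1123) (tt N133 (iv D195)) (tt N286 D286) (tt N195 F1124) (tt N195 F1125) (tt N195 F1126))
theorem Q197 : ∀ i, i < 197 → P i := stepQ 196 Q196 (allL N196 (tt N154 F1127) (tt N196 F1128) (tt N279 (iv F1564)) (tt N287 D287) (tt N196 F1129) (tt N196 F1130) (tt N196 F1131) (tt N135 F1132) (tt N134 (iv D196)) (tt N196 F1133))
theorem Q198 : ∀ i, i < 198 → P i := stepQ 197 Q197 (allL N197 (tt N155 F1134) (tt N197 F1135) (tt N288 D288) (tt N135 (iv D197)) (tt N289 D289) (tt N197 F1136) (tt N136 F1137) (tt N287 (iv F1607)) (tt N197 F1138) (tt N197 F1139))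
theorem Q199 : ∀ i, i < 199 → P i := stepQ 198 Q198 (allL N198 (tt N156 F1140) (tt N290 D290) (tt N136 (iv D198)) (tt N281 (iv F1575)) (tt N291 D291) (tt N137 F1141) (tt N288 (iv F1612)) (tt N198 F1142) (tt N198 F1143) (tt N198 F1144))
theorem Q200 : ∀ i, i < 200 → P i := stepQ 199 Q199 (allL N199 (tt N157 F1145) (tt N199 F1146) (tt N291 (iv F1627)) (tt N199 F1147) (tt N136 (iv D199)) (tt N199 F1148) (tt N289 (iv F1618)) (tt N199 F1149) (tt N199 F1150) (tt N199 F1151))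
theorem Q201 : ∀ i, i < 201 → P i := stepQ 200 Q200 (allL N200 (tt N292 D292) (tt N137 (iv D200)) (tt N200 F1152) (tt N283 (iv F1583)) (tt N200 F1153) (tt N290 (iv F1622)) (tt N200 F1154) (tt N200 F1155) (tt N200 F1156) (tt N200 F1157))
theorem Q202 : ∀ i, i < 202 → P i := stepQ 201 Q201 (allL N201 (tt N263 (iv F1484)) (tt N201 F1158) (tt N201 F1159) (tt N201 F1160) (tt N201 F1161) (tt N138 (iv D201)) (tt N201 F1162) (tt N293 D293) (tt N294 D294) (tt N295 D295))
theorem Q203 : ∀ i, i < 203 → P i := stepQ 202 Q202 (allL N202 (tt N264 (iv F1489)) (tt N202 F1163) (tt N202 F1164) (tt N202 F1165) (tt N141 F1166) (tt N293 (iv F1643)) (tt N202 F1167) (tt N138 (iv D202)) (tt N296 D296) (tt N297 D297))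
theorem Q204 : ∀ i, i < 204 → P i := stepQ 203 Q203 (allL N203 (tt N265 (iv F1494)) (tt N203 F1168) (tt N203 F1169) (tt N298 D298) (tt N142 F1170) (tt N294 (iv F1647)) (tt N139 F1171) (tt N296 (iv F1659)) (tt N138 (iv D203)) (tt N299 D299))
theorem Q205 : ∀ i, i < 205 → P i := stepQ 204 Q204 (allL N204 (tt N266 (iv F1498)) (tt N204 F1172) (tt N204 F1173) (tt N204 F1174) (tt N143 F1175) (tt N295 (iv F1653)) (tt N140 F1176) (tt N297 (iv F1665)) (tt N300 D300) (tt N138 (iv D204)))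
theorem Q206 : ∀ i, i < 206 → P i := stepQ 205 Q205 (allL N205 (tt N267 (iv F1503)) (tt N205 F1177) (tt N301 D301) (tt N139 (iv D205)) (tt N205 F1178) (tt N205 F1179) (tt N298 (iv F1668)) (tt N205 F1180) (tt N205 F1181) (tt N302 D302))
theorem Q207 : ∀ i, i < 207 → P i := stepQ 206 Q206 (allL N206 (tt N268 (iv F1508)) (tt N206 F1182) (tt N206 F1183) (tt N302 (iv F1684)) (tt N144 F1184) (tt N206 F1185) (tt N299 (iv F1673)) (tt N206 F1186) (tt N303 D303) (tt N139 (iv D206)))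
theorem Q208 : ∀ i, i < 208 → P i := stepQ 207 Q207 (allL N207 (tt N269 (iv F1513)) (tt N207 F1187) (tt N207 F1188) (tt N304 D304) (tt N145 F1189) (tt N207 F1190) (tt N300 (iv F1677)) (tt N207 F1191) (tt N140 (iv D207)) (tt N303 (iv F1693)))
theorem Q209 : ∀ i, i < 209 → P i := stepQ 208 Q208 (allL N208 (tt N270 (iv F1518)) (tt N208 F1192) (tt N208 F1193) (tt N208 F1194) (tt N296 (iv F1657)) (tt N208 F1195) (tt N208 F1196) (tt N142 F1197) (tt N141 (iv D208)) (tt N305 D305))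
theorem Q210 : ∀ i, i < 210 → P i := stepQ 209 Q209 (allL N209 (tt N271 (iv F1524)) (tt N209 F1198) (tt N209 F1199) (tt N148 F1200) (tt N297 (iv F1663)) (tt N209 F1201) (tt N209 F1202) (tt N143 F1203) (tt N306 D306) (tt N141 (iv D209)))
theorem Q211 : ∀ i, i < 211 → P i := stepQ 210 Q210 (allL N210 (tt N272 (iv F1530)) (tt N210 F1204) (tt N210 F1205) (tt N210 F1206) (tt N299 (iv F1672)) (tt N210 F1207) (tt N144 F1208) (tt N305 (iv F1703)) (tt N307 D307) (tt N142 (iv D210)))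
theorem Q212 : ∀ i, i < 212 → P i := stepQ 211 Q211 (allL N211 (tt N273 (iv F1535)) (tt N211 F1209) (tt N211 F1210) (tt N308 D308) (tt N300 (iv F1676)) (tt N211 F1211) (tt N145 F1212) (tt N306 (iv F1708)) (tt N143 (iv D211)) (tt N307 (iv F1713)))
theorem Q213 : ∀ i, i < 213 → P i := stepQ 212 Q212 (allL N212 (tt N274 (iv F1539)) (tt N212 F1213) (tt N212 F1214) (tt N309 D309) (tt N303 (iv F1690)) (tt N146 F1215) (tt N307 (iv F1712)) (tt N212 F1216) (tt N144 (iv D212)) (tt N145 F1217))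
theorem Q214 : ∀ i, i < 214 → P i := stepQ 213 Q213 (allL N213 (tt N275 (iv F1544)) (tt N213 F1218) (tt N310 D310) (tt N145 (iv D213)) (tt N311 D311) (tt N147 F1219) (tt N308 (iv F1716)) (tt N213 F1220) (tt N150 F1221) (tt N309 (iv F1722)))
theorem Q215 : ∀ i, i < 215 → P i := stepQ 214 Q214 (allL N214 (tt N276 (iv F1548)) (tt N214 F1222) (tt N312 D312) (tt N146 (iv D214)) (tt N313 D313) (tt N309 (iv F1719)) (tt N214 F1223) (tt N214 F1224) (tt N214 F1225) (tt N147 F1226))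
theorem Q216 : ∀ i, i < 216 → P i := stepQ 215 Q215 (allL N215 (tt N277 (iv F1553)) (tt N314 D314) (tt N147 (iv D215)) (tt N215 F1227) (tt N315 D315) (tt N310 (iv F1724)) (tt N215 F1228) (tt N215 F1229) (tt N151 F1230) (tt N312 (iv F1734)))
theorem Q217 : ∀ i, i < 217 → P i := stepQ 216 Q216 (allL N216 (tt N278 (iv F1558)) (tt N216 F1231) (tt N315 (iv F1746)) (tt N216 F1232) (tt N147 (iv D216)) (tt N316 D316) (tt N216 F1233) (tt N216 F1234) (tt N152 F1235) (tt N313 (iv F1740)))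
theorem Q218 : ∀ i, i < 218 → P i := stepQ 217 Q217 (allL N217 (tt N279 (iv F1563)) (tt N217 F1236) (tt N154 F1237) (tt N317 D317) (tt N217 F1238) (tt N217 F1239) (tt N217 F1240) (tt N149 F1241) (tt N148 (iv D217)) (tt N217 F1242))
theorem Q219 : ∀ i, i < 219 → P i := stepQ 218 Q218 (allL N218 (tt N280 (iv F1570)) (tt N218 F1243) (tt N318 D318) (tt N149 (iv D218)) (tt N319 D319) (tt N218 F1244) (tt N150 F1245) (tt N317 (iv F1757)) (tt N308 (iv F1717)) (tt N218 F1246))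
theorem Q220 : ∀ i, i < 220 → P i := stepQ 219 Q219 (allL N219 (tt N281 (iv F1574)) (tt N320 D320) (tt N150 (iv D219)) (tt N156 F1247) (tt N321 D321) (tt N151 F1248) (tt N318 (iv F1761)) (tt N219 F1249) (tt N310 (iv F1726)) (tt N219 F1250))
theorem Q221 : ∀ i, i < 221 → P i := stepQ 220 Q220 (allL N220 (tt N282 (iv F1579)) (tt N220 F1251) (tt N321 (iv F1772)) (tt N220 F1252) (tt N150 (iv D220)) (tt N322 D322) (tt N319 (iv F1765)) (tt N220 F1253) (tt N311 (iv F1729)) (tt N220 F1254))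
theorem Q222 : ∀ i, i < 222 → P i := stepQ 221 Q221 (allL N221 (tt N323 D323) (tt N151 (iv D221)) (tt N221 F1255) (tt N158 F1256) (tt N324 D324) (tt N320 (iv F1769)) (tt N221 F1257) (tt N221 F1258) (tt N314 (iv F1745)) (tt N221 F1259))
theorem Q223 : ∀ i, i < 223 → P i := stepQ 222 Q222 (allL N222 (tt N284 (iv F1587)) (tt N324 (iv F1785)) (tt N152 F1260) (tt N222 F1261) (tt N151 (iv D222)) (tt N325 D325) (tt N222 F1262) (tt N222 F1263) (tt N315 (iv F1749)) (tt N222 F1264))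
theorem Q224 : ∀ i, i < 224 → P i := stepQ 223 Q223 (allL N223 (tt N285 (iv F1593)) (tt N223 F1265) (tt N325 (iv F1791)) (tt N153 F1266) (tt N322 (iv F1777)) (tt N152 (iv D223)) (tt N326 D326) (tt N223 F1267) (tt N316 (iv F1753)) (tt N223 F1268))
theorem Q225 : ∀ i, i < 225 → P i := stepQ 224 Q224 (allL N224 (tt N286 (iv F1597)) (tt N224 F1269) (tt N224 F1270) (tt N326 (iv F1796)) (tt N224 F1271) (tt N224 F1272) (tt N153 (iv D224)) (tt N327 D327) (tt N224 F1273) (tt N224 F1274))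
theorem Q226 : ∀ i, i < 226 → P i := stepQ 225 Q225 (allL N225 (tt N287 (iv F1603)) (tt N159 F1275) (tt N328 D328) (tt N154 (iv D225)) (tt N329 D329) (tt N225 F1276) (tt N225 F1277) (tt N155 F1278) (tt N225 F1279) (tt N225 F1280))
theorem Q227 : ∀ i, i < 227 → P i := stepQ 226 Q226 (allL N226 (tt N288 (iv F1610)) (tt N330 D330) (tt N155 (iv D226)) (tt N318 (iv F1759)) (tt N331 D331) (tt N226 F1281) (tt N156 F1282) (tt N328 (iv F1808)) (tt N226 F1283) (tt N226 F1284))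
theorem Q228 : ∀ i, i < 228 → P i := stepQ 227 Q227 (allL N227 (tt N289 (iv F1615)) (tt N161 F1285) (tt N331 (iv F1822)) (tt N227 F1286) (tt N155 (iv D227)) (tt N332 D332) (tt N157 F1287) (tt N329 (iv F1814)) (tt N227 F1288) (tt N227 F1289))
theorem Q229 : ∀ i, i < 229 → P i := stepQ 228 Q228 (allL N228 (tt N333 D333) (tt N156 (iv D228)) (tt N162 F1290) (tt N320 (iv F1768)) (tt N334 D334) (tt N158 F1291) (tt N330 (iv F1819)) (tt N228 F1292) (tt N228 F1293) (tt N228 F1294))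
theorem Q230 : ∀ i, i < 230 → P i := stepQ 229 Q229 (allL N229 (tt N291 (iv F1626)) (tt N334 (iv F1837)) (tt N157 F1295) (tt N335 D335) (tt N156 (iv D229)) (tt N229 F1296) (tt N331 (iv F1823)) (tt N229 F1297) (tt N229 F1298) (tt N229 F1299))
theorem Q231 : ∀ i, i < 231 → P i := stepQ 230 Q230 (allL N230 (tt N158 (iv D230)) (tt N292 (iv F1632)) (tt N164 F1300) (tt N323 (iv F1781)) (tt N230 F1301) (tt N333 (iv F1833)) (tt N230 F1302) (tt N230 F1303) (tt N230 F1304) (tt N230 F1305))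
theorem Q232 : ∀ i, i < 232 → P i := stepQ 231 Q231 (allL N231 (tt N231 F1306) (tt N336 D336) (tt N159 (iv D231)) (tt N231 F1307) (tt N337 D337) (tt N231 F1308) (tt N231 F1309) (tt N160 F1310) (tt N231 F1311) (tt N231 F1312))
theorem Q233 : ∀ i, i < 233 → P i := stepQ 232 Q232 (allL N232 (tt N232 F1313) (tt N329 (iv F1811)) (tt N337 (iv F1854)) (tt N232 F1314) (tt N159 (iv D232)) (tt N338 D338) (tt N232 F1315) (tt N161 F1316) (tt N232 F1317) (tt N232 F1318))
theorem Q234 : ∀ i, i < 234 → P i := stepQ 233 Q233 (allL N233 (tt N339 D339) (tt N160 (iv D233)) (tt N330 (iv F1817)) (tt N233 F1319) (tt N340 D340) (tt N233 F1320) (tt N162 F1321) (tt N336 (iv F1850)) (tt N233 F1322) (tt N233 F1323))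
theorem Q235 : ∀ i, i < 235 → P i := stepQ 234 Q234 (allL N234 (tt N234 F1324) (tt N340 (iv F1871)) (tt N161 F1325) (tt N341 D341) (tt N160 (iv D234)) (tt N342 D342) (tt N163 F1326) (tt N337 (iv F1856)) (tt N234 F1327) (tt N234 F1328))
theorem Q236 : ∀ i, i < 236 → P i := stepQ 235 Q235 (allL N235 (tt N235 F1329) (tt N332 (iv F1826)) (tt N342 (iv F1881)) (tt N235 F1330) (tt N235 F1331) (tt N161 (iv D235)) (tt N235 F1332) (tt N338 (iv F1862)) (tt N235 F1333) (tt N235 F1334))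
theorem Q237 : ∀ i, i < 237 → P i := stepQ 236 Q236 (allL N236 (tt N162 (iv D236)) (tt N236 F1335) (tt N333 (iv F1832)) (tt N236 F1336) (tt N343 D343) (tt N164 F1337) (tt N339 (iv F1868)) (tt N236 F1338) (tt N236 F1339) (tt N236 F1340))
theorem Q238 : ∀ i, i < 238 → P i := stepQ 237 Q237 (allL N237 (tt N343 (iv F1886)) (tt N163 F1341) (tt N334 (iv F1838)) (tt N344 D344) (tt N162 (iv D237)) (tt N237 F1342) (tt N340 (iv F1872)) (tt N237 F1343) (tt N237 F1344) (tt N237 F1345))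
theorem Q239 : ∀ i, i < 239 → P i := stepQ 238 Q238 (allL N238 (tt N238 F1346) (tt N344 (iv F1892)) (tt N238 F1347) (tt N163 (iv D238)) (tt N238 F1348) (tt N238 F1349) (tt N341 (iv F1878)) (tt N238 F1350) (tt N345 D345) (tt N238 F1351))
theorem Q240 : ∀ i, i < 240 → P i := stepQ 239 Q239 (allL N239 (tt N239 F1352) (tt N239 F1353) (tt N168 F1354) (tt N346 D346) (tt N165 (iv D239)) (tt N239 F1355) (tt N347 D347) (tt N239 F1356) (tt N348 D348) (tt N349 D349))
theorem Q241 : ∀ i, i < 241 → P i := stepQ 240 Q240 (allL N240 (tt N240 F1357) (tt N240 F1358) (tt N169 F1359) (tt N240 F1360) (tt N347 (iv F1913)) (tt N240 F1361) (tt N165 (iv D240)) (tt N350 D350) (tt N351 D351) (tt N352 D352))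
theorem Q242 : ∀ i, i < 242 → P i := stepQ 241 Q241 (allL N241 (tt N241 F1362) (tt N241 F1363) (tt N170 F1364) (tt N353 D353) (tt N348 (iv F1918)) (tt N166 F1365) (tt N351 (iv F1937)) (tt N241 F1366) (tt N165 (iv D241)) (tt N354 D354))
theorem Q243 : ∀ i, i < 243 → P i := stepQ 242 Q242 (allL N242 (tt N242 F1367) (tt N242 F1368) (tt N171 F1369) (tt N242 F1370) (tt N349 (iv F1924)) (tt N167 F1371) (tt N352 (iv F1943)) (tt N242 F1372) (tt N355 D355) (tt N165 (iv D242)))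
theorem Q244 : ∀ i, i < 244 → P i := stepQ 243 Q243 (allL N243 (tt N243 F1373) (tt N243 F1374) (tt N243 F1375) (tt N166 (iv D243)) (tt N356 D356) (tt N353 (iv F1948)) (tt N243 F1376) (tt N243 F1377) (tt N243 F1378) (tt N357 D357))
theorem Q245 : ∀ i, i < 245 → P i := stepQ 244 Q244 (allL N244 (tt N244 F1379) (tt N244 F1380) (tt N172 F1381) (tt N357 (iv F1972)) (tt N244 F1382) (tt N354 (iv F1954)) (tt N244 F1383) (tt N244 F1384) (tt N358 D358) (tt N166 (iv D244)))
theorem Q246 : ∀ i, i < 246 → P i := stepQ 245 Q245 (allL N245 (tt N245 F1385) (tt N245 F1386) (tt N173 F1387) (tt N359 D359) (tt N245 F1388) (tt N355 (iv F1959)) (tt N245 F1389) (tt N245 F1390) (tt N167 (iv D245)) (tt N358 (iv F1981)))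
theorem Q247 : ∀ i, i < 247 → P i := stepQ 246 Q246 (allL N246 (tt N246 F1391) (tt N180 F1392) (tt N347 (iv F1912)) (tt N246 F1393) (tt N169 F1394) (tt N360 D360) (tt N168 (iv D246)) (tt N361 D361) (tt N362 D362) (tt N363 D363))
theorem Q248 : ∀ i, i < 248 → P i := stepQ 247 Q247 (allL N247 (tt N247 F1395) (tt N181 F1396) (tt N348 (iv F1916)) (tt N364 D364) (tt N170 F1397) (tt N247 F1398) (tt N362 (iv F2000)) (tt N247 F1399) (tt N168 (iv D247)) (tt N365 D365))
theorem Q249 : ∀ i, i < 249 → P i := stepQ 248 Q248 (allL N248 (tt N248 F1400) (tt N182 F1401) (tt N349 (iv F1923)) (tt N248 F1402) (tt N171 F1403) (tt N248 F1404) (tt N363 (iv F2005)) (tt N248 F1405) (tt N366 D366) (tt N168 (iv D248)))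
theorem Q250 : ∀ i, i < 250 → P i := stepQ 249 Q249 (allL N249 (tt N249 F1406) (tt N183 F1407) (tt N350 (iv F1929)) (tt N174 F1408) (tt N361 (iv F1995)) (tt N249 F1409) (tt N249 F1410) (tt N169 (iv D249)) (tt N367 D367) (tt N368 D368))
theorem Q251 : ∀ i, i < 251 → P i := stepQ 250 Q250 (allL N250 (tt N250 F1411) (tt N184 F1412) (tt N351 (iv F1935)) (tt N250 F1413) (tt N362 (iv F1999)) (tt N250 F1414) (tt N170 F1415) (tt N367 (iv F2028)) (tt N169 (iv D250)) (tt N369 D369))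
theorem Q252 : ∀ i, i < 252 → P i := stepQ 251 Q251 (allL N251 (tt N251 F1416) (tt N185 F1417) (tt N352 (iv F1940)) (tt N175 F1418) (tt N363 (iv F2004)) (tt N251 F1419) (tt N171 F1420) (tt N368 (iv F2034)) (tt N370 D370) (tt N169 (iv D251)))
theorem Q253 : ∀ i, i < 253 → P i := stepQ 252 Q252 (allL N252 (tt N252 F1421) (tt N186 F1422) (tt N354 (iv F1953)) (tt N252 F1423) (tt N365 (iv F2015)) (tt N172 F1424) (tt N369 (iv F2039)) (tt N252 F1425) (tt N371 D371) (tt N170 (iv D252)))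
theorem Q254 : ∀ i, i < 254 → P i := stepQ 253 Q253 (allL N253 (tt N253 F1426) (tt N187 F1427) (tt N355 (iv F1958)) (tt N372 D372) (tt N366 (iv F2020)) (tt N173 F1428) (tt N370 (iv F2043)) (tt N253 F1429) (tt N171 (iv D253)) (tt N371 (iv F2048)))
theorem Q255 : ∀ i, i < 255 → P i := stepQ 254 Q254 (allL N254 (tt N254 F1430) (tt N188 F1431) (tt N358 (iv F1977)) (tt N373 D373) (tt N254 F1432) (tt N371 (iv F2046)) (tt N254 F1433) (tt N254 F1434) (tt N172 (iv D254)) (tt N173 F1435))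
theorem Q256 : ∀ i, i < 256 → P i := stepQ 255 Q255 (allL N255 (tt N255 F1436) (tt N189 F1437) (tt N374 D374) (tt N173 (iv D255)) (tt N375 D375) (tt N372 (iv F2051)) (tt N255 F1438) (tt N255 F1439) (tt N177 F1440) (tt N373 (iv F2059)))
theorem Q257 : ∀ i, i < 257 → P i := stepQ 256 Q256 (allL N256 (tt N256 F1441) (tt N190 F1442) (tt N256 F1443) (tt N368 (iv F2031)) (tt N256 F1444) (tt N256 F1445) (tt N256 F1446) (tt N175 F1447) (tt N376 D376) (tt N174 (iv D256)))
theorem Q258 : ∀ i, i < 258 → P i := stepQ 257 Q257 (allL N257 (tt N257 F1448) (tt N191 F1449) (tt N257 F1450) (tt N377 D377) (tt N257 F1451) (tt N257 F1452) (tt N176 F1453) (tt N376 (iv F2076)) (tt N175 (iv D257)) (tt N257 F1454))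
theorem Q259 : ∀ i, i < 259 → P i := stepQ 258 Q258 (allL N258 (tt N258 F1455) (tt N192 F1456) (tt N378 D378) (tt N176 (iv D258)) (tt N379 D379) (tt N177 F1457) (tt N377 (iv F2081)) (tt N258 F1458) (tt N372 (iv F2053)) (tt N258 F1459))
theorem Q260 : ∀ i, i < 260 → P i := stepQ 259 Q259 (allL N259 (tt N259 F1460) (tt N380 D380) (tt N177 (iv D259)) (tt N259 F1461) (tt N381 D381) (tt N378 (iv F2085)) (tt N259 F1462) (tt N259 F1463) (tt N374 (iv F2063)) (tt N259 F1464))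
theorem Q261 : ∀ i, i < 261 → P i := stepQ 260 Q260 (allL N260 (tt N260 F1465) (tt N194 F1466) (tt N381 (iv F2099)) (tt N179 F1467) (tt N177 (iv D260)) (tt N382 D382) (tt N260 F1468) (tt N260 F1469) (tt N375 (iv F2069)) (tt N260 F1470))
theorem Q262 : ∀ i, i < 262 → P i := stepQ 261 Q261 (allL N261 (tt N261 F1471) (tt N261 F1472) (tt N179 F1473) (tt N383 D383) (tt N178 (iv D261)) (tt N384 D384) (tt N261 F1474) (tt N261 F1475) (tt N261 F1476) (tt N261 F1477))
theorem Q263 : ∀ i, i < 263 → P i := stepQ 262 Q262 (allL N262 (tt N262 F1478) (tt N195 F1479) (tt N384 (iv F2116)) (tt N382 (iv F2105)) (tt N262 F1480) (tt N179 (iv D262)) (tt N385 D385) (tt N262 F1481) (tt N262 F1482) (tt N262 F1483))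
theorem Q264 : ∀ i, i < 264 → P i := stepQ 263 Q263 (allL N263 (tt N201 F1484) (tt N360 (iv F1988)) (tt N263 F1485) (tt N263 F1486) (tt N263 F1487) (tt N180 (iv D263)) (tt N263 F1488) (tt N386 D386) (tt N387 D387) (tt N388 D388))
theorem Q265 : ∀ i, i < 265 → P i := stepQ 264 Q264 (allL N264 (tt N202 F1489) (tt N361 (iv F1993)) (tt N264 F1490) (tt N264 F1491) (tt N183 F1492) (tt N386 (iv F2131)) (tt N264 F1493) (tt N180 (iv D264)) (tt N389 D389) (tt N390 D390))
theorem Q266 : ∀ i, i < 266 → P i := stepQ 265 Q265 (allL N265 (tt N203 F1494) (tt N362 (iv F1998)) (tt N265 F1495) (tt N391 D391) (tt N184 F1496) (tt N387 (iv F2135)) (tt N181 F1497) (tt N389 (iv F2147)) (tt N180 (iv D265)) (tt N392 D392))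
theorem Q267 : ∀ i, i < 267 → P i := stepQ 266 Q266 (allL N266 (tt N204 F1498) (tt N363 (iv F2002)) (tt N266 F1499) (tt N266 F1500) (tt N185 F1501) (tt N388 (iv F2141)) (tt N182 F1502) (tt N390 (iv F2153)) (tt N393 D393) (tt N180 (iv D266)))
theorem Q268 : ∀ i, i < 268 → P i := stepQ 267 Q267 (allL N267 (tt N205 F1503) (tt N364 (iv F2007)) (tt N394 D394) (tt N181 (iv D267)) (tt N267 F1504) (tt N267 F1505) (tt N391 (iv F2156)) (tt N267 F1506) (tt N267 F1507) (tt N395 D395))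
theorem Q269 : ∀ i, i < 269 → P i := stepQ 268 Q268 (allL N268 (tt N206 F1508) (tt N365 (iv F2014)) (tt N268 F1509) (tt N395 (iv F2174)) (tt N186 F1510) (tt N268 F1511) (tt N392 (iv F2161)) (tt N268 F1512) (tt N396 D396) (tt N181 (iv D268)))
theorem Q270 : ∀ i, i < 270 → P i := stepQ 269 Q269 (allL N269 (tt N207 F1513) (tt N366 (iv F2019)) (tt N269 F1514) (tt N397 D397) (tt N187 F1515) (tt N269 F1516) (tt N393 (iv F2165)) (tt N269 F1517) (tt N182 (iv D269)) (tt N396 (iv F2183)))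
theorem Q271 : ∀ i, i < 271 → P i := stepQ 270 Q270 (allL N270 (tt N208 F1518) (tt N367 (iv F2024)) (tt N270 F1519) (tt N270 F1520) (tt N389 (iv F2145)) (tt N270 F1521) (tt N270 F1522) (tt N184 F1523) (tt N183 (iv D270)) (tt N398 D398))
theorem Q272 : ∀ i, i < 272 → P i := stepQ 271 Q271 (allL N271 (tt N209 F1524) (tt N368 (iv F2030)) (tt N271 F1525) (tt N190 F1526) (tt N390 (iv F2151)) (tt N271 F1527) (tt N271 F1528) (tt N185 F1529) (tt N399 D399) (tt N183 (iv D271)))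
theorem Q273 : ∀ i, i < 273 → P i := stepQ 272 Q272 (allL N272 (tt N210 F1530) (tt N369 (iv F2036)) (tt N272 F1531) (tt N272 F1532) (tt N392 (iv F2160)) (tt N272 F1533) (tt N186 F1534) (tt N398 (iv F2193)) (tt N400 D400) (tt N184 (iv D272)))
theorem Q274 : ∀ i, i < 274 → P i := stepQ 273 Q273 (allL N273 (tt N211 F1535) (tt N370 (iv F2041)) (tt N273 F1536) (tt N401 D401) (tt N393 (iv F2164)) (tt N273 F1537) (tt N187 F1538) (tt N399 (iv F2198)) (tt N185 (iv D273)) (tt N400 (iv F2203)))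
theorem Q275 : ∀ i, i < 275 → P i := stepQ 274 Q274 (allL N274 (tt N212 F1539) (tt N371 (iv F2045)) (tt N274 F1540) (tt N402 D402) (tt N396 (iv F2180)) (tt N188 F1541) (tt N400 (iv F2202)) (tt N274 F1542) (tt N186 (iv D274)) (tt N187 F1543))
theorem Q276 : ∀ i, i < 276 → P i := stepQ 275 Q275 (allL N275 (tt N213 F1544) (tt N372 (iv F2050)) (tt N403 D403) (tt N187 (iv D275)) (tt N404 D404) (tt N189 F1545) (tt N401 (iv F2206)) (tt N275 F1546) (tt N192 F1547) (tt N402 (iv F2212)))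
theorem Q277 : ∀ i, i < 277 → P i := stepQ 276 Q276 (allL N276 (tt N214 F1548) (tt N373 (iv F2055)) (tt N405 D405) (tt N188 (iv D276)) (tt N406 D406) (tt N402 (iv F2209)) (tt N276 F1549) (tt N276 F1550) (tt N276 F1551) (tt N189 F1552))
theorem Q278 : ∀ i, i < 278 → P i := stepQ 277 Q277 (allL N277 (tt N215 F1553) (tt N407 D407) (tt N189 (iv D277)) (tt N277 F1554) (tt N408 D408) (tt N403 (iv F2215)) (tt N277 F1555) (tt N277 F1556) (tt N193 F1557) (tt N405 (iv F2226)))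
theorem Q279 : ∀ i, i < 279 → P i := stepQ 278 Q278 (allL N278 (tt N216 F1558) (tt N375 (iv F2065)) (tt N408 (iv F2238)) (tt N278 F1559) (tt N189 (iv D278)) (tt N409 D409) (tt N278 F1560) (tt N278 F1561) (tt N194 F1562) (tt N406 (iv F2232)))
theorem Q280 : ∀ i, i < 280 → P i := stepQ 279 Q279 (allL N279 (tt N217 F1563) (tt N376 (iv F2071)) (tt N196 F1564) (tt N410 D410) (tt N279 F1565) (tt N279 F1566) (tt N279 F1567) (tt N191 F1568) (tt N190 (iv D279)) (tt N279 F1569))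
theorem Q281 : ∀ i, i < 281 → P i := stepQ 280 Q280 (allL N280 (tt N218 F1570) (tt N377 (iv F2079)) (tt N411 D411) (tt N191 (iv D280)) (tt N412 D412) (tt N280 F1571) (tt N192 F1572) (tt N410 (iv F2249)) (tt N401 (iv F2207)) (tt N280 F1573))
theorem Q282 : ∀ i, i < 282 → P i := stepQ 281 Q281 (allL N281 (tt N219 F1574) (tt N413 D413) (tt N192 (iv D281)) (tt N198 F1575) (tt N414 D414) (tt N193 F1576) (tt N411 (iv F2254)) (tt N281 F1577) (tt N403 (iv F2217)) (tt N281 F1578))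
theorem Q283 : ∀ i, i < 283 → P i := stepQ 282 Q282 (allL N282 (tt N220 F1579) (tt N379 (iv F2089)) (tt N414 (iv F2265)) (tt N282 F1580) (tt N192 (iv D282)) (tt N415 D415) (tt N412 (iv F2258)) (tt N282 F1581) (tt N404 (iv F2220)) (tt N282 F1582))
theorem Q284 : ∀ i, i < 284 → P i := stepQ 283 Q283 (allL N283 (tt N416 D416) (tt N193 (iv D283)) (tt N380 (iv F2093)) (tt N200 F1583) (tt N417 D417) (tt N413 (iv F2261)) (tt N283 F1584) (tt N283 F1585) (tt N407 (iv F2236)) (tt N283 F1586))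
theorem Q285 : ∀ i, i < 285 → P i := stepQ 284 Q284 (allL N284 (tt N222 F1587) (tt N417 (iv F2278)) (tt N194 F1588) (tt N284 F1589) (tt N193 (iv D284)) (tt N418 D418) (tt N284 F1590) (tt N284 F1591) (tt N408 (iv F2241)) (tt N284 F1592))
theorem Q286 : ∀ i, i < 286 → P i := stepQ 285 Q285 (allL N285 (tt N223 F1593) (tt N382 (iv F2104)) (tt N418 (iv F2284)) (tt N195 F1594) (tt N415 (iv F2270)) (tt N194 (iv D285)) (tt N419 D419) (tt N285 F1595) (tt N409 (iv F2245)) (tt N285 F1596))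
theorem Q287 : ∀ i, i < 287 → P i := stepQ 286 Q286 (allL N286 (tt N224 F1597) (tt N385 (iv F2122)) (tt N286 F1598) (tt N419 (iv F2289)) (tt N286 F1599) (tt N286 F1600) (tt N195 (iv D286)) (tt N420 D420) (tt N286 F1601) (tt N286 F1602))
theorem Q288 : ∀ i, i < 288 → P i := stepQ 287 Q287 (allL N287 (tt N225 F1603) (tt N287 F1604) (tt N421 D421) (tt N196 (iv D287)) (tt N422 D422) (tt N287 F1605) (tt N287 F1606) (tt N197 F1607) (tt N287 F1608) (tt N287 F1609))
theorem Q289 : ∀ i, i < 289 → P i := stepQ 288 Q288 (allL N288 (tt N226 F1610) (tt N423 D423) (tt N197 (iv D288)) (tt N411 (iv F2252)) (tt N424 D424) (tt N288 F1611) (tt N198 F1612) (tt N421 (iv F2302)) (tt N288 F1613) (tt N288 F1614))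
theorem Q290 : ∀ i, i < 290 → P i := stepQ 289 Q289 (allL N289 (tt N227 F1615) (tt N289 F1616) (tt N424 (iv F2318)) (tt N289 F1617) (tt N197 (iv D289)) (tt N425 D425) (tt N199 F1618) (tt N422 (iv F2309)) (tt N289 F1619) (tt N289 F1620))
theorem Q291 : ∀ i, i < 291 → P i := stepQ 290 Q290 (allL N290 (tt N426 D426) (tt N198 (iv D290)) (tt N290 F1621) (tt N413 (iv F2260)) (tt N427 D427) (tt N200 F1622) (tt N423 (iv F2314)) (tt N290 F1623) (tt N290 F1624) (tt N290 F1625))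
theorem Q292 : ∀ i, i < 292 → P i := stepQ 291 Q291 (allL N291 (tt N229 F1626) (tt N427 (iv F2335)) (tt N199 F1627) (tt N428 D428) (tt N198 (iv D291)) (tt N291 F1628) (tt N424 (iv F2319)) (tt N291 F1629) (tt N291 F1630) (tt N291 F1631))
theorem Q293 : ∀ i, i < 293 → P i := stepQ 292 Q292 (allL N292 (tt N200 (iv D292)) (tt N230 F1632) (tt N292 F1633) (tt N416 (iv F2274)) (tt N292 F1634) (tt N426 (iv F2331)) (tt N292 F1635) (tt N292 F1636) (tt N292 F1637) (tt N292 F1638))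
theorem Q294 : ∀ i, i < 294 → P i := stepQ 293 Q293 (allL N293 (tt N386 (iv F2127)) (tt N293 F1639) (tt N293 F1640) (tt N293 F1641) (tt N293 F1642) (tt N202 F1643) (tt N429 D429) (tt N201 (iv D293)) (tt N430 D430) (tt N431 D431))
theorem Q295 : ∀ i, i < 295 → P i := stepQ 294 Q294 (allL N294 (tt N387 (iv F2132)) (tt N294 F1644) (tt N294 F1645) (tt N432 D432) (tt N294 F1646) (tt N203 F1647) (tt N294 F1648) (tt N430 (iv F2356)) (tt N201 (iv D294)) (tt N433 D433))
theorem Q296 : ∀ i, i < 296 → P i := stepQ 295 Q295 (allL N295 (tt N388 (iv F2137)) (tt N295 F1649) (tt N295 F1650) (tt N295 F1651) (tt N295 F1652) (tt N204 F1653) (tt N295 F1654) (tt N431 (iv F2362)) (tt N434 D434) (tt N201 (iv D295)))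
theorem Q297 : ∀ i, i < 297 → P i := stepQ 296 Q296 (allL N296 (tt N389 (iv F2143)) (tt N296 F1655) (tt N296 F1656) (tt N435 D435) (tt N208 F1657) (tt N430 (iv F2355)) (tt N296 F1658) (tt N203 F1659) (tt N202 (iv D296)) (tt N436 D436))
theorem Q298 : ∀ i, i < 298 → P i := stepQ 297 Q297 (allL N297 (tt N390 (iv F2148)) (tt N297 F1660) (tt N297 F1661) (tt N297 F1662) (tt N209 F1663) (tt N431 (iv F2361)) (tt N297 F1664) (tt N204 F1665) (tt N437 D437) (tt N202 (iv D297)))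
theorem Q299 : ∀ i, i < 299 → P i := stepQ 298 Q298 (allL N298 (tt N391 (iv F2154)) (tt N298 F1666) (tt N438 D438) (tt N203 (iv D298)) (tt N298 F1667) (tt N432 (iv F2364)) (tt N205 F1668) (tt N435 (iv F2380)) (tt N298 F1669) (tt N439 D439))
theorem Q300 : ∀ i, i < 300 → P i := stepQ 299 Q299 (allL N299 (tt N392 (iv F2158)) (tt N299 F1670) (tt N299 F1671) (tt N439 (iv F2397)) (tt N210 F1672) (tt N433 (iv F2370)) (tt N206 F1673) (tt N436 (iv F2386)) (tt N440 D440) (tt N203 (iv D299)))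
theorem Q301 : ∀ i, i < 301 → P i := stepQ 300 Q300 (allL N300 (tt N393 (iv F2162)) (tt N300 F1674) (tt N300 F1675) (tt N441 D441) (tt N211 F1676) (tt N434 (iv F2375)) (tt N207 F1677) (tt N437 (iv F2391)) (tt N204 (iv D300)) (tt N440 (iv F2404)))
theorem Q302 : ∀ i, i < 302 → P i := stepQ 301 Q301 (allL N301 (tt N394 (iv F2166)) (tt N442 D442) (tt N205 (iv D301)) (tt N301 F1678) (tt N301 F1679) (tt N301 F1680) (tt N438 (iv F2394)) (tt N301 F1681) (tt N301 F1682) (tt N443 D443))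
theorem Q303 : ∀ i, i < 303 → P i := stepQ 302 Q302 (allL N302 (tt N395 (iv F2173)) (tt N302 F1683) (tt N443 (iv F2415)) (tt N206 F1684) (tt N302 F1685) (tt N302 F1686) (tt N439 (iv F2399)) (tt N302 F1687) (tt N444 D444) (tt N205 (iv D302)))
theorem Q304 : ∀ i, i < 304 → P i := stepQ 303 Q303 (allL N303 (tt N396 (iv F2178)) (tt N303 F1688) (tt N303 F1689) (tt N445 D445) (tt N212 F1690) (tt N303 F1691) (tt N440 (iv F2403)) (tt N303 F1692) (tt N206 (iv D303)) (tt N207 F1693))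
theorem Q305 : ∀ i, i < 305 → P i := stepQ 304 Q304 (allL N304 (tt N397 (iv F2184)) (tt N304 F1694) (tt N446 D446) (tt N207 (iv D304)) (tt N447 D447) (tt N304 F1695) (tt N441 (iv F2406)) (tt N304 F1696) (tt N304 F1697) (tt N445 (iv F2428)))
theorem Q306 : ∀ i, i < 306 → P i := stepQ 305 Q305 (allL N305 (tt N398 (iv F2188)) (tt N305 F1698) (tt N305 F1699) (tt N305 F1700) (tt N436 (iv F2384)) (tt N305 F1701) (tt N305 F1702) (tt N210 F1703) (tt N448 D448) (tt N208 (iv D305)))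
theorem Q307 : ∀ i, i < 307 → P i := stepQ 306 Q306 (allL N306 (tt N399 (iv F2194)) (tt N306 F1704) (tt N306 F1705) (tt N449 D449) (tt N437 (iv F2389)) (tt N306 F1706) (tt N306 F1707) (tt N211 F1708) (tt N209 (iv D306)) (tt N448 (iv F2442)))
theorem Q308 : ∀ i, i < 308 → P i := stepQ 307 Q307 (allL N307 (tt N400 (iv F2199)) (tt N307 F1709) (tt N307 F1710) (tt N450 D450) (tt N440 (iv F2402)) (tt N307 F1711) (tt N212 F1712) (tt N448 (iv F2441)) (tt N210 (iv D307)) (tt N211 F1713))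
theorem Q309 : ∀ i, i < 309 → P i := stepQ 308 Q308 (allL N308 (tt N401 (iv F2204)) (tt N308 F1714) (tt N451 D451) (tt N211 (iv D308)) (tt N452 D452) (tt N308 F1715) (tt N213 F1716) (tt N449 (iv F2446)) (tt N218 F1717) (tt N450 (iv F2452)))
theorem Q310 : ∀ i, i < 310 → P i := stepQ 309 Q309 (allL N309 (tt N402 (iv F2208)) (tt N309 F1718) (tt N453 D453) (tt N212 (iv D309)) (tt N454 D454) (tt N214 F1719) (tt N450 (iv F2450)) (tt N309 F1720) (tt N309 F1721) (tt N213 F1722))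
theorem Q311 : ∀ i, i < 311 → P i := stepQ 310 Q310 (allL N310 (tt N403 (iv F2213)) (tt N455 D455) (tt N213 (iv D310)) (tt N310 F1723) (tt N456 D456) (tt N215 F1724) (tt N451 (iv F2455)) (tt N310 F1725) (tt N219 F1726) (tt N453 (iv F2464)))
theorem Q312 : ∀ i, i < 312 → P i := stepQ 311 Q311 (allL N311 (tt N404 (iv F2218)) (tt N311 F1727) (tt N456 (iv F2474)) (tt N447 (iv F2434)) (tt N213 (iv D311)) (tt N457 D457) (tt N452 (iv F2458)) (tt N311 F1728) (tt N220 F1729) (tt N454 (iv F2468)))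
theorem Q313 : ∀ i, i < 313 → P i := stepQ 312 Q312 (allL N312 (tt N405 (iv F2221)) (tt N458 D458) (tt N214 (iv D312)) (tt N312 F1730) (tt N459 D459) (tt N453 (iv F2461)) (tt N312 F1731) (tt N312 F1732) (tt N312 F1733) (tt N215 F1734))
theorem Q314 : ∀ i, i < 314 → P i := stepQ 313 Q313 (allL N313 (tt N406 (iv F2227)) (tt N313 F1735) (tt N459 (iv F2487)) (tt N313 F1736) (tt N214 (iv D313)) (tt N460 D460) (tt N313 F1737) (tt N313 F1738) (tt N313 F1739) (tt N216 F1740))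
theorem Q315 : ∀ i, i < 315 → P i := stepQ 314 Q314 (allL N314 (tt N461 D461) (tt N215 (iv D314)) (tt N314 F1741) (tt N314 F1742) (tt N462 D462) (tt N455 (iv F2471)) (tt N314 F1743) (tt N314 F1744) (tt N221 F1745) (tt N458 (iv F2486)))
theorem Q316 : ∀ i, i < 316 → P i := stepQ 315 Q315 (allL N315 (tt N408 (iv F2237)) (tt N462 (iv F2502)) (tt N216 F1746) (tt N463 D463) (tt N215 (iv D315)) (tt N464 D464) (tt N315 F1747) (tt N315 F1748) (tt N222 F1749) (tt N459 (iv F2491)))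
theorem Q317 : ∀ i, i < 317 → P i := stepQ 316 Q316 (allL N316 (tt N409 (iv F2242)) (tt N316 F1750) (tt N464 (iv F2512)) (tt N316 F1751) (tt N457 (iv F2478)) (tt N216 (iv D316)) (tt N465 D465) (tt N316 F1752) (tt N223 F1753) (tt N460 (iv F2496)))
theorem Q318 : ∀ i, i < 318 → P i := stepQ 317 Q317 (allL N317 (tt N410 (iv F2246)) (tt N317 F1754) (tt N466 D466) (tt N217 (iv D317)) (tt N467 D467) (tt N317 F1755) (tt N317 F1756) (tt N218 F1757) (tt N449 (iv F2447)) (tt N317 F1758))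
theorem Q319 : ∀ i, i < 319 → P i := stepQ 318 Q318 (allL N318 (tt N411 (iv F2251)) (tt N468 D468) (tt N218 (iv D318)) (tt N226 F1759) (tt N469 D469) (tt N318 F1760) (tt N219 F1761) (tt N466 (iv F2522)) (tt N451 (iv F2456)) (tt N318 F1762))
theorem Q320 : ∀ i, i < 320 → P i := stepQ 319 Q319 (allL N319 (tt N412 (iv F2256)) (tt N319 F1763) (tt N469 (iv F2534)) (tt N319 F1764) (tt N218 (iv D319)) (tt N470 D470) (tt N220 F1765) (tt N467 (iv F2527)) (tt N452 (iv F2459)) (tt N319 F1766))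
theorem Q321 : ∀ i, i < 321 → P i := stepQ 320 Q320 (allL N320 (tt N471 D471) (tt N219 (iv D320)) (tt N320 F1767) (tt N228 F1768) (tt N472 D472) (tt N221 F1769) (tt N468 (iv F2532)) (tt N320 F1770) (tt N455 (iv F2473)) (tt N320 F1771))
theorem Q322 : ∀ i, i < 322 → P i := stepQ 321 Q321 (allL N321 (tt N414 (iv F2264)) (tt N472 (iv F2546)) (tt N220 F1772) (tt N473 D473) (tt N219 (iv D321)) (tt N474 D474) (tt N469 (iv F2535)) (tt N321 F1773) (tt N456 (iv F2476)) (tt N321 F1774))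
theorem Q323 : ∀ i, i < 323 → P i := stepQ 322 Q322 (allL N322 (tt N415 (iv F2268)) (tt N322 F1775) (tt N474 (iv F2554)) (tt N322 F1776) (tt N223 F1777) (tt N220 (iv D322)) (tt N475 D475) (tt N322 F1778) (tt N457 (iv F2480)) (tt N322 F1779))
theorem Q324 : ∀ i, i < 324 → P i := stepQ 323 Q323 (allL N323 (tt N221 (iv D323)) (tt N416 (iv F2273)) (tt N323 F1780) (tt N230 F1781) (tt N476 D476) (tt N471 (iv F2543)) (tt N323 F1782) (tt N323 F1783) (tt N461 (iv F2501)) (tt N323 F1784))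
theorem Q325 : ∀ i, i < 325 → P i := stepQ 324 Q324 (allL N324 (tt N476 (iv F2562)) (tt N222 F1785) (tt N324 F1786) (tt N324 F1787) (tt N221 (iv D324)) (tt N477 D477) (tt N324 F1788) (tt N324 F1789) (tt N462 (iv F2506)) (tt N324 F1790))
theorem Q326 : ∀ i, i < 326 → P i := stepQ 325 Q325 (allL N325 (tt N418 (iv F2283)) (tt N477 (iv F2568)) (tt N223 F1791) (tt N325 F1792) (tt N474 (iv F2555)) (tt N222 (iv D325)) (tt N478 D478) (tt N325 F1793) (tt N464 (iv F2514)) (tt N325 F1794))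
theorem Q327 : ∀ i, i < 327 → P i := stepQ 326 Q326 (allL N326 (tt N419 (iv F2288)) (tt N326 F1795) (tt N478 (iv F2573)) (tt N224 F1796) (tt N475 (iv F2560)) (tt N326 F1797) (tt N223 (iv D326)) (tt N479 D479) (tt N465 (iv F2518)) (tt N326 F1798))
theorem Q328 : ∀ i, i < 328 → P i := stepQ 327 Q327 (allL N327 (tt N420 (iv F2292)) (tt N327 F1799) (tt N327 F1800) (tt N479 (iv F2578)) (tt N327 F1801) (tt N327 F1802) (tt N327 F1803) (tt N224 (iv D327)) (tt N327 F1804) (tt N327 F1805))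
theorem Q329 : ∀ i, i < 329 → P i := stepQ 328 Q328 (allL N328 (tt N421 (iv F2299)) (tt N480 D480) (tt N225 (iv D328)) (tt N466 (iv F2519)) (tt N481 D481) (tt N328 F1806) (tt N328 F1807) (tt N226 F1808) (tt N328 F1809) (tt N328 F1810))
theorem Q330 : ∀ i, i < 330 → P i := stepQ 329 Q329 (allL N329 (tt N422 (iv F2305)) (tt N232 F1811) (tt N481 (iv F2588)) (tt N329 F1812) (tt N225 (iv D329)) (tt N482 D482) (tt N329 F1813) (tt N227 F1814) (tt N329 F1815) (tt N329 F1816))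
theorem Q331 : ∀ i, i < 331 → P i := stepQ 330 Q330 (allL N330 (tt N483 D483) (tt N226 (iv D330)) (tt N233 F1817) (tt N468 (iv F2530)) (tt N484 D484) (tt N330 F1818) (tt N228 F1819) (tt N480 (iv F2585)) (tt N330 F1820) (tt N330 F1821))
theorem Q332 : ∀ i, i < 332 → P i := stepQ 331 Q331 (allL N331 (tt N424 (iv F2317)) (tt N484 (iv F2604)) (tt N227 F1822) (tt N485 D485) (tt N226 (iv D331)) (tt N486 D486) (tt N229 F1823) (tt N481 (iv F2590)) (tt N331 F1824) (tt N331 F1825))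
theorem Q333 : ∀ i, i < 333 → P i := stepQ 332 Q332 (allL N332 (tt N425 (iv F2322)) (tt N235 F1826) (tt N486 (iv F2612)) (tt N332 F1827) (tt N332 F1828) (tt N227 (iv D332)) (tt N332 F1829) (tt N482 (iv F2596)) (tt N332 F1830) (tt N332 F1831))
theorem Q334 : ∀ i, i < 334 → P i := stepQ 333 Q333 (allL N333 (tt N228 (iv D333)) (tt N426 (iv F2329)) (tt N236 F1832) (tt N471 (iv F2542)) (tt N487 D487) (tt N230 F1833) (tt N483 (iv F2601)) (tt N333 F1834) (tt N333 F1835) (tt N333 F1836))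
theorem Q335 : ∀ i, i < 335 → P i := stepQ 334 Q334 (allL N334 (tt N487 (iv F2617)) (tt N229 F1837) (tt N237 F1838) (tt N488 D488) (tt N228 (iv D334)) (tt N334 F1839) (tt N484 (iv F2606)) (tt N334 F1840) (tt N334 F1841) (tt N334 F1842))
theorem Q336 : ∀ i, i < 336 → P i := stepQ 335 Q335 (allL N335 (tt N428 (iv F2341)) (tt N488 (iv F2623)) (tt N335 F1843) (tt N229 (iv D335)) (tt N473 (iv F2551)) (tt N335 F1844) (tt N485 (iv F2610)) (tt N335 F1845) (tt N489 D489) (tt N335 F1846))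
theorem Q337 : ∀ i, i < 337 → P i := stepQ 336 Q336 (allL N336 (tt N490 D490) (tt N231 (iv D336)) (tt N480 (iv F2582)) (tt N336 F1847) (tt N491 D491) (tt N336 F1848) (tt N336 F1849) (tt N233 F1850) (tt N336 F1851) (tt N336 F1852))
theorem Q338 : ∀ i, i < 338 → P i := stepQ 337 Q337 (allL N337 (tt N337 F1853) (tt N491 (iv F2638)) (tt N232 F1854) (tt N492 D492) (tt N231 (iv D337)) (tt N493 D493) (tt N337 F1855) (tt N234 F1856) (tt N337 F1857) (tt N337 F1858))
theorem Q339 : ∀ i, i < 339 → P i := stepQ 338 Q338 (allL N338 (tt N338 F1859) (tt N482 (iv F2593)) (tt N493 (iv F2650)) (tt N338 F1860) (tt N338 F1861) (tt N232 (iv D338)) (tt N494 D494) (tt N235 F1862) (tt N338 F1863) (tt N338 F1864))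
theorem Q340 : ∀ i, i < 340 → P i := stepQ 339 Q339 (allL N339 (tt N233 (iv D339)) (tt N339 F1865) (tt N483 (iv F2599)) (tt N339 F1866) (tt N495 D495) (tt N339 F1867) (tt N236 F1868) (tt N490 (iv F2635)) (tt N339 F1869) (tt N339 F1870))
theorem Q341 : ∀ i, i < 341 → P i := stepQ 340 Q340 (allL N340 (tt N495 (iv F2662)) (tt N234 F1871) (tt N484 (iv F2605)) (tt N496 D496) (tt N233 (iv D340)) (tt N497 D497) (tt N237 F1872) (tt N491 (iv F2640)) (tt N340 F1873) (tt N340 F1874))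
theorem Q342 : ∀ i, i < 342 → P i := stepQ 341 Q341 (allL N341 (tt N341 F1875) (tt N496 (iv F2667)) (tt N341 F1876) (tt N234 (iv D341)) (tt N341 F1877) (tt N498 D498) (tt N238 F1878) (tt N492 (iv F2647)) (tt N499 D499) (tt N341 F1879))
theorem Q343 : ∀ i, i < 343 → P i := stepQ 342 Q342 (allL N342 (tt N342 F1880) (tt N497 (iv F2671)) (tt N235 F1881) (tt N498 (iv F2678)) (tt N342 F1882) (tt N234 (iv D342)) (tt N342 F1883) (tt N493 (iv F2652)) (tt N342 F1884) (tt N342 F1885))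
theorem Q344 : ∀ i, i < 344 → P i := stepQ 343 Q343 (allL N343 (tt N237 F1886) (tt N343 F1887) (tt N487 (iv F2618)) (tt N500 D500) (tt N236 (iv D343)) (tt N343 F1888) (tt N495 (iv F2664)) (tt N343 F1889) (tt N343 F1890) (tt N343 F1891))
theorem Q345 : ∀ i, i < 345 → P i := stepQ 344 Q344 (allL N344 (tt N500 (iv F2686)) (tt N238 F1892) (tt N444 F201298) (tt N237 (iv D344)) (tt N344 F1893) (tt N344 F1894) (tt N496 (iv F2669)) (tt N344 F1895) (tt N443 (iv F201675)) (tt N344 F1896))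
theorem Q346 : ∀ i, i < 346 → P i := stepQ 345 Q345 (allL N345 (tt N345 F1897) (tt N443 F202085) (tt N345 F1898) (tt N345 F1899) (tt N345 F1900) (tt N345 F1901) (tt N499 (iv F2685)) (tt N345 F1902) (tt N238 (iv D345)) (tt N442 (iv F202478)))
theorem Q347 : ∀ i, i < 347 → P i := stepQ 346 Q346 (allL N346 (tt N346 F1903) (tt N346 F1904) (tt N346 F1905) (tt N239 (iv D346)) (tt N346 F1906) (tt N346 F1907) (tt N501 D504) (tt N346 F1908) (tt N346 F1909) (tt N502 D505))
theorem Q348 : ∀ i, i < 348 → P i := stepQ 347 Q347 (allL N347 (tt N347 F1910) (tt N347 F1911) (tt N246 F1912) (tt N501 (iv F2712)) (tt N240 F1913) (tt N503 D506) (tt N239 (iv D347)) (tt N504 D507) (tt N505 D508) (tt N506 D509))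
theorem Q349 : ∀ i, i < 349 → P i := stepQ 348 Q348 (allL N348 (tt N348 F1914) (tt N348 F1915) (tt N247 F1916) (tt N348 F1917) (tt N241 F1918) (tt N348 F1919) (tt N505 (iv F2737)) (tt N348 F1920) (tt N239 (iv D348)) (tt N507 D510))
theorem Q350 : ∀ i, i < 350 → P i := stepQ 349 Q349 (allL N349 (tt N349 F1921) (tt N349 F1922) (tt N248 F1923) (tt N502 (iv F2718)) (tt N242 F1924) (tt N349 F1925) (tt N506 (iv F2742)) (tt N349 F1926) (tt N508 D511) (tt N239 (iv D349)))
theorem Q351 : ∀ i, i < 351 → P i := stepQ 350 Q350 (allL N350 (tt N350 F1927) (tt N350 F1928) (tt N249 F1929) (tt N350 F1930) (tt N504 (iv F2730)) (tt N350 F1931) (tt N350 F1932) (tt N240 (iv D350)) (tt N509 D512) (tt N510 D513))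
theorem Q352 : ∀ i, i < 352 → P i := stepQ 351 Q351 (allL N351 (tt N351 F1933) (tt N351 F1934) (tt N250 F1935) (tt N511 D514) (tt N505 (iv F2736)) (tt N351 F1936) (tt N241 F1937) (tt N509 (iv F2761)) (tt N240 (iv D351)) (tt N512 D515))
theorem Q353 : ∀ i, i < 353 → P i := stepQ 352 Q352 (allL N352 (tt N352 F1938) (tt N352 F1939) (tt N251 F1940) (tt N352 F1941) (tt N506 (iv F2741)) (tt N352 F1942) (tt N242 F1943) (tt N510 (iv F2768)) (tt N513 D516) (tt N240 (iv D352)))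
theorem Q354 : ∀ i, i < 354 → P i := stepQ 353 Q353 (allL N353 (tt N353 F1944) (tt N353 F1945) (tt N353 F1946) (tt N241 (iv D353)) (tt N353 F1947) (tt N243 F1948) (tt N511 (iv F2774)) (tt N353 F1949) (tt N353 F1950) (tt N514 D517))
theorem Q355 : ∀ i, i < 355 → P i := stepQ 354 Q354 (allL N354 (tt N354 F1951) (tt N354 F1952) (tt N252 F1953) (tt N514 (iv F2789)) (tt N507 (iv F2747)) (tt N244 F1954) (tt N512 (iv F2780)) (tt N354 F1955) (tt N515 D518) (tt N241 (iv D354)))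
theorem Q356 : ∀ i, i < 356 → P i := stepQ 355 Q355 (allL N355 (tt N355 F1956) (tt N355 F1957) (tt N253 F1958) (tt N516 D519) (tt N508 (iv F2753)) (tt N245 F1959) (tt N513 (iv F2785)) (tt N355 F1960) (tt N242 (iv D355)) (tt N515 (iv F2798)))
theorem Q357 : ∀ i, i < 357 → P i := stepQ 356 Q356 (allL N356 (tt N356 F1961) (tt N356 F1962) (tt N356 F1963) (tt N356 F1964) (tt N243 (iv D356)) (tt N356 F1965) (tt N356 F1966) (tt N356 F1967) (tt N356 F1968) (tt N517 D520))
theorem Q358 : ∀ i, i < 358 → P i := stepQ 357 Q357 (allL N357 (tt N357 F1969) (tt N357 F1970) (tt N357 F1971) (tt N244 F1972) (tt N517 (iv F2808)) (tt N514 (iv F2791)) (tt N357 F1973) (tt N357 F1974) (tt N518 D521) (tt N243 (iv D357)))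
theorem Q359 : ∀ i, i < 359 → P i := stepQ 358 Q358 (allL N358 (tt N358 F1975) (tt N358 F1976) (tt N254 F1977) (tt N519 D522) (tt N358 F1978) (tt N515 (iv F2796)) (tt N358 F1979) (tt N358 F1980) (tt N244 (iv D358)) (tt N245 F1981))
theorem Q360 : ∀ i, i < 360 → P i := stepQ 359 Q359 (allL N359 (tt N359 F1982) (tt N359 F1983) (tt N520 D523) (tt N245 (iv D359)) (tt N521 D524) (tt N516 (iv F2801)) (tt N359 F1984) (tt N359 F1985) (tt N359 F1986) (tt N519 (iv F2822)))
theorem Q361 : ∀ i, i < 361 → P i := stepQ 360 Q360 (allL N360 (tt N360 F1987) (tt N263 F1988) (tt N503 (iv F2724)) (tt N360 F1989) (tt N360 F1990) (tt N246 (iv D360)) (tt N360 F1991) (tt N522 D525) (tt N523 D526) (tt N524 D527))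
theorem Q362 : ∀ i, i < 362 → P i := stepQ 361 Q361 (allL N361 (tt N361 F1992) (tt N264 F1993) (tt N504 (iv F2729)) (tt N361 F1994) (tt N249 F1995) (tt N522 (iv F2838)) (tt N361 F1996) (tt N246 (iv D361)) (tt N525 D528) (tt N526 D529))
theorem Q363 : ∀ i, i < 363 → P i := stepQ 362 Q362 (allL N362 (tt N362 F1997) (tt N265 F1998) (tt N505 (iv F2734)) (tt N527 D530) (tt N250 F1999) (tt N523 (iv F2842)) (tt N247 F2000) (tt N525 (iv F2854)) (tt N246 (iv D362)) (tt N528 D531))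
theorem Q364 : ∀ i, i < 364 → P i := stepQ 363 Q363 (allL N363 (tt N363 F2001) (tt N266 F2002) (tt N506 (iv F2740)) (tt N363 F2003) (tt N251 F2004) (tt N524 (iv F2848)) (tt N248 F2005) (tt N526 (iv F2860)) (tt N529 D532) (tt N246 (iv D363)))
theorem Q365 : ∀ i, i < 365 → P i := stepQ 364 Q364 (allL N364 (tt N364 F2006) (tt N267 F2007) (tt N364 F2008) (tt N247 (iv D364)) (tt N364 F2009) (tt N364 F2010) (tt N527 (iv F2865)) (tt N364 F2011) (tt N364 F2012) (tt N530 D533))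
theorem Q366 : ∀ i, i < 366 → P i := stepQ 365 Q365 (allL N365 (tt N365 F2013) (tt N268 F2014) (tt N507 (iv F2745)) (tt N530 (iv F2878)) (tt N252 F2015) (tt N365 F2016) (tt N528 (iv F2870)) (tt N365 F2017) (tt N531 D534) (tt N247 (iv D365)))
theorem Q367 : ∀ i, i < 367 → P i := stepQ 366 Q366 (allL N366 (tt N366 F2018) (tt N269 F2019) (tt N508 (iv F2752)) (tt N532 D535) (tt N253 F2020) (tt N366 F2021) (tt N529 (iv F2874)) (tt N366 F2022) (tt N248 (iv D366)) (tt N531 (iv F2887)))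
theorem Q368 : ∀ i, i < 368 → P i := stepQ 367 Q367 (allL N367 (tt N367 F2023) (tt N270 F2024) (tt N509 (iv F2758)) (tt N367 F2025) (tt N525 (iv F2852)) (tt N367 F2026) (tt N367 F2027) (tt N250 F2028) (tt N249 (iv D367)) (tt N533 D536))
theorem Q369 : ∀ i, i < 369 → P i := stepQ 368 Q368 (allL N368 (tt N368 F2029) (tt N271 F2030) (tt N510 (iv F2764)) (tt N256 F2031) (tt N526 (iv F2858)) (tt N368 F2032) (tt N368 F2033) (tt N251 F2034) (tt N534 D537) (tt N249 (iv D368)))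
theorem Q370 : ∀ i, i < 370 → P i := stepQ 369 Q369 (allL N369 (tt N369 F2035) (tt N272 F2036) (tt N512 (iv F2778)) (tt N369 F2037) (tt N528 (iv F2869)) (tt N369 F2038) (tt N252 F2039) (tt N533 (iv F2898)) (tt N535 D538) (tt N250 (iv D369)))
theorem Q371 : ∀ i, i < 371 → P i := stepQ 370 Q370 (allL N370 (tt N370 F2040) (tt N273 F2041) (tt N513 (iv F2783)) (tt N536 D539) (tt N529 (iv F2873)) (tt N370 F2042) (tt N253 F2043) (tt N534 (iv F2903)) (tt N251 (iv D370)) (tt N535 (iv F2908)))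
theorem Q372 : ∀ i, i < 372 → P i := stepQ 371 Q371 (allL N371 (tt N371 F2044) (tt N274 F2045) (tt N515 (iv F2795)) (tt N537 D540) (tt N531 (iv F2884)) (tt N254 F2046) (tt N535 (iv F2907)) (tt N371 F2047) (tt N252 (iv D371)) (tt N253 F2048))
theorem Q373 : ∀ i, i < 373 → P i := stepQ 372 Q372 (allL N372 (tt N372 F2049) (tt N275 F2050) (tt N538 D541) (tt N253 (iv D372)) (tt N539 D542) (tt N255 F2051) (tt N536 (iv F2912)) (tt N372 F2052) (tt N258 F2053) (tt N537 (iv F2919)))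
theorem Q374 : ∀ i, i < 374 → P i := stepQ 373 Q373 (allL N373 (tt N373 F2054) (tt N276 F2055) (tt N540 D543) (tt N254 (iv D373)) (tt N541 D544) (tt N537 (iv F2916)) (tt N373 F2056) (tt N373 F2057) (tt N373 F2058) (tt N255 F2059))
theorem Q375 : ∀ i, i < 375 → P i := stepQ 374 Q374 (allL N374 (tt N374 F2060) (tt N542 D545) (tt N255 (iv D374)) (tt N520 (iv F2824)) (tt N543 D546) (tt N538 (iv F2921)) (tt N374 F2061) (tt N374 F2062) (tt N259 F2063) (tt N540 (iv F2932)))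
theorem Q376 : ∀ i, i < 376 → P i := stepQ 375 Q375 (allL N375 (tt N375 F2064) (tt N278 F2065) (tt N543 (iv F2945)) (tt N375 F2066) (tt N255 (iv D375)) (tt N544 D547) (tt N375 F2067) (tt N375 F2068) (tt N260 F2069) (tt N541 (iv F2939)))
theorem Q377 : ∀ i, i < 377 → P i := stepQ 376 Q376 (allL N376 (tt N376 F2070) (tt N279 F2071) (tt N376 F2072) (tt N545 D548) (tt N376 F2073) (tt N376 F2074) (tt N376 F2075) (tt N257 F2076) (tt N256 (iv D376)) (tt N376 F2077))
theorem Q378 : ∀ i, i < 378 → P i := stepQ 377 Q377 (allL N377 (tt N377 F2078) (tt N280 F2079) (tt N546 D549) (tt N257 (iv D377)) (tt N547 D550) (tt N377 F2080) (tt N258 F2081) (tt N545 (iv F2958)) (tt N536 (iv F2913)) (tt N377 F2082))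
theorem Q379 : ∀ i, i < 379 → P i := stepQ 378 Q378 (allL N378 (tt N378 F2083) (tt N548 D551) (tt N258 (iv D378)) (tt N378 F2084) (tt N549 D552) (tt N259 F2085) (tt N546 (iv F2963)) (tt N378 F2086) (tt N538 (iv F2923)) (tt N378 F2087))
theorem Q380 : ∀ i, i < 380 → P i := stepQ 379 Q379 (allL N379 (tt N379 F2088) (tt N282 F2089) (tt N549 (iv F2976)) (tt N379 F2090) (tt N258 (iv D379)) (tt N550 D553) (tt N547 (iv F2968)) (tt N379 F2091) (tt N539 (iv F2927)) (tt N379 F2092))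
theorem Q381 : ∀ i, i < 381 → P i := stepQ 380 Q380 (allL N380 (tt N551 D554) (tt N259 (iv D380)) (tt N283 F2093) (tt N380 F2094) (tt N552 D555) (tt N548 (iv F2972)) (tt N380 F2095) (tt N380 F2096) (tt N542 (iv F2943)) (tt N380 F2097))
theorem Q382 : ∀ i, i < 382 → P i := stepQ 381 Q381 (allL N381 (tt N381 F2098) (tt N552 (iv F2991)) (tt N260 F2099) (tt N553 D556) (tt N259 (iv D381)) (tt N554 D557) (tt N381 F2100) (tt N381 F2101) (tt N543 (iv F2948)) (tt N381 F2102))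
theorem Q383 : ∀ i, i < 383 → P i := stepQ 382 Q382 (allL N382 (tt N382 F2103) (tt N285 F2104) (tt N554 (iv F3003)) (tt N262 F2105) (tt N550 (iv F2982)) (tt N260 (iv D382)) (tt N555 D558) (tt N382 F2106) (tt N544 (iv F2953)) (tt N382 F2107))
theorem Q384 : ∀ i, i < 384 → P i := stepQ 383 Q383 (allL N383 (tt N383 F2108) (tt N383 F2109) (tt N553 (iv F2997)) (tt N261 (iv D383)) (tt N383 F2110) (tt N556 D559) (tt N383 F2111) (tt N383 F2112) (tt N557 D560) (tt N383 F2113))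
theorem Q385 : ∀ i, i < 385 → P i := stepQ 384 Q384 (allL N384 (tt N384 F2114) (tt N384 F2115) (tt N262 F2116) (tt N556 (iv F3013)) (tt N384 F2117) (tt N261 (iv D384)) (tt N558 D561) (tt N384 F2118) (tt N384 F2119) (tt N384 F2120))
theorem Q386 : ∀ i, i < 386 → P i := stepQ 385 Q385 (allL N385 (tt N385 F2121) (tt N286 F2122) (tt N558 (iv F3024)) (tt N555 (iv F3008)) (tt N385 F2123) (tt N385 F2124) (tt N262 (iv D385)) (tt N559 D562) (tt N385 F2125) (tt N385 F2126))
theorem Q387 : ∀ i, i < 387 → P i := stepQ 386 Q386 (allL N386 (tt N293 F2127) (tt N522 (iv F2835)) (tt N386 F2128) (tt N386 F2129) (tt N386 F2130) (tt N264 F2131) (tt N560 D563) (tt N263 (iv D386)) (tt N561 D564) (tt N562 D565))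
theorem Q388 : ∀ i, i < 388 → P i := stepQ 387 Q387 (allL N387 (tt N294 F2132) (tt N523 (iv F2840)) (tt N387 F2133) (tt N563 D566) (tt N387 F2134) (tt N265 F2135) (tt N387 F2136) (tt N561 (iv F3046)) (tt N263 (iv D387)) (tt N564 D567))
theorem Q389 : ∀ i, i < 389 → P i := stepQ 388 Q388 (allL N388 (tt N295 F2137) (tt N524 (iv F2845)) (tt N388 F2138) (tt N388 F2139) (tt N388 F2140) (tt N266 F2141) (tt N388 F2142) (tt N562 (iv F3052)) (tt N565 D568) (tt N263 (iv D388)))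
theorem Q390 : ∀ i, i < 390 → P i := stepQ 389 Q389 (allL N389 (tt N296 F2143) (tt N525 (iv F2851)) (tt N389 F2144) (tt N566 D569) (tt N270 F2145) (tt N561 (iv F3045)) (tt N389 F2146) (tt N265 F2147) (tt N264 (iv D389)) (tt N567 D570))
theorem Q391 : ∀ i, i < 391 → P i := stepQ 390 Q390 (allL N390 (tt N297 F2148) (tt N526 (iv F2856)) (tt N390 F2149) (tt N390 F2150) (tt N271 F2151) (tt N562 (iv F3051)) (tt N390 F2152) (tt N266 F2153) (tt N568 D571) (tt N264 (iv D390)))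
theorem Q392 : ∀ i, i < 392 → P i := stepQ 391 Q391 (allL N391 (tt N298 F2154) (tt N527 (iv F2862)) (tt N569 D572) (tt N265 (iv D391)) (tt N391 F2155) (tt N563 (iv F3054)) (tt N267 F2156) (tt N566 (iv F3070)) (tt N391 F2157) (tt N570 D573))
theorem Q393 : ∀ i, i < 393 → P i := stepQ 392 Q392 (allL N392 (tt N299 F2158) (tt N528 (iv F2868)) (tt N392 F2159) (tt N570 (iv F3089)) (tt N272 F2160) (tt N564 (iv F3060)) (tt N268 F2161) (tt N567 (iv F3076)) (tt N571 D574) (tt N265 (iv D392)))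
theorem Q394 : ∀ i, i < 394 → P i := stepQ 393 Q393 (allL N393 (tt N300 F2162) (tt N529 (iv F2872)) (tt N393 F2163) (tt N572 D575) (tt N273 F2164) (tt N565 (iv F3065)) (tt N269 F2165) (tt N568 (iv F3081)) (tt N266 (iv D393)) (tt N571 (iv F3096)))
theorem Q395 : ∀ i, i < 395 → P i := stepQ 394 Q394 (allL N394 (tt N301 F2166) (tt N394 F2167) (tt N267 (iv D394)) (tt N394 F2168) (tt N394 F2169) (tt N394 F2170) (tt N569 (iv F3086)) (tt N394 F2171) (tt N394 F2172) (tt N573 D576))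
theorem Q396 : ∀ i, i < 396 → P i := stepQ 395 Q395 (allL N395 (tt N302 F2173) (tt N530 (iv F2876)) (tt N573 (iv F3102)) (tt N268 F2174) (tt N395 F2175) (tt N395 F2176) (tt N570 (iv F3091)) (tt N395 F2177) (tt N574 D577) (tt N267 (iv D395)))
theorem Q397 : ∀ i, i < 397 → P i := stepQ 396 Q396 (allL N396 (tt N303 F2178) (tt N531 (iv F2883)) (tt N396 F2179) (tt N575 D578) (tt N274 F2180) (tt N396 F2181) (tt N571 (iv F3095)) (tt N396 F2182) (tt N268 (iv D396)) (tt N269 F2183))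
theorem Q398 : ∀ i, i < 398 → P i := stepQ 397 Q397 (allL N397 (tt N304 F2184) (tt N532 (iv F2889)) (tt N576 D579) (tt N269 (iv D397)) (tt N577 D580) (tt N397 F2185) (tt N572 (iv F3098)) (tt N397 F2186) (tt N397 F2187) (tt N575 (iv F3115)))
theorem Q399 : ∀ i, i < 399 → P i := stepQ 398 Q398 (allL N398 (tt N305 F2188) (tt N533 (iv F2894)) (tt N398 F2189) (tt N398 F2190) (tt N567 (iv F3074)) (tt N398 F2191) (tt N398 F2192) (tt N272 F2193) (tt N578 D581) (tt N270 (iv D398)))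
theorem Q400 : ∀ i, i < 400 → P i := stepQ 399 Q399 (allL N399 (tt N306 F2194) (tt N534 (iv F2900)) (tt N399 F2195) (tt N579 D582) (tt N568 (iv F3079)) (tt N399 F2196) (tt N399 F2197) (tt N273 F2198) (tt N271 (iv D399)) (tt N578 (iv F3130)))
theorem Q401 : ∀ i, i < 401 → P i := stepQ 400 Q400 (allL N400 (tt N307 F2199) (tt N535 (iv F2905)) (tt N400 F2200) (tt N580 D583) (tt N571 (iv F3094)) (tt N400 F2201) (tt N274 F2202) (tt N578 (iv F3129)) (tt N272 (iv D400)) (tt N273 F2203))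
theorem Q402 : ∀ i, i < 402 → P i := stepQ 401 Q401 (allL N401 (tt N308 F2204) (tt N536 (iv F2910)) (tt N581 D584) (tt N273 (iv D401)) (tt N582 D585) (tt N401 F2205) (tt N275 F2206) (tt N579 (iv F3134)) (tt N280 F2207) (tt N580 (iv F3140)))
theorem Q403 : ∀ i, i < 403 → P i := stepQ 402 Q402 (allL N402 (tt N309 F2208) (tt N537 (iv F2915)) (tt N583 D586) (tt N274 (iv D402)) (tt N584 D587) (tt N276 F2209) (tt N580 (iv F3138)) (tt N402 F2210) (tt N402 F2211) (tt N275 F2212))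
theorem Q404 : ∀ i, i < 404 → P i := stepQ 403 Q403 (allL N403 (tt N310 F2213) (tt N585 D588) (tt N275 (iv D403)) (tt N403 F2214) (tt N586 D589) (tt N277 F2215) (tt N581 (iv F3144)) (tt N403 F2216) (tt N281 F2217) (tt N583 (iv F3154)))
theorem Q405 : ∀ i, i < 405 → P i := stepQ 404 Q404 (allL N404 (tt N311 F2218) (tt N539 (iv F2925)) (tt N586 (iv F3164)) (tt N577 (iv F3122)) (tt N275 (iv D404)) (tt N587 D590) (tt N582 (iv F3147)) (tt N404 F2219) (tt N282 F2220) (tt N584 (iv F3158)))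
theorem Q406 : ∀ i, i < 406 → P i := stepQ 405 Q405 (allL N405 (tt N312 F2221) (tt N588 D591) (tt N276 (iv D405)) (tt N405 F2222) (tt N589 D592) (tt N583 (iv F3151)) (tt N405 F2223) (tt N405 F2224) (tt N405 F2225) (tt N277 F2226))
theorem Q407 : ∀ i, i < 407 → P i := stepQ 406 Q406 (allL N406 (tt N313 F2227) (tt N541 (iv F2934)) (tt N589 (iv F3177)) (tt N406 F2228) (tt N276 (iv D406)) (tt N590 D593) (tt N406 F2229) (tt N406 F2230) (tt N406 F2231) (tt N278 F2232))
theorem Q408 : ∀ i, i < 408 → P i := stepQ 407 Q407 (allL N407 (tt N591 D594) (tt N277 (iv D407)) (tt N542 (iv F2940)) (tt N407 F2233) (tt N592 D595) (tt N585 (iv F3160)) (tt N407 F2234) (tt N407 F2235) (tt N283 F2236) (tt N588 (iv F3175)))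
theorem Q409 : ∀ i, i < 409 → P i := stepQ 408 Q408 (allL N408 (tt N315 F2237) (tt N592 (iv F3192)) (tt N278 F2238) (tt N593 D596) (tt N277 (iv D408)) (tt N594 D597) (tt N408 F2239) (tt N408 F2240) (tt N284 F2241) (tt N589 (iv F3181)))
theorem Q410 : ∀ i, i < 410 → P i := stepQ 409 Q409 (allL N409 (tt N316 F2242) (tt N544 (iv F2950)) (tt N594 (iv F3203)) (tt N409 F2243) (tt N587 (iv F3168)) (tt N278 (iv D409)) (tt N595 D598) (tt N409 F2244) (tt N285 F2245) (tt N590 (iv F3186)))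
theorem Q411 : ∀ i, i < 411 → P i := stepQ 410 Q410 (allL N410 (tt N317 F2246) (tt N545 (iv F2955)) (tt N596 D599) (tt N279 (iv D410)) (tt N597 D600) (tt N410 F2247) (tt N410 F2248) (tt N280 F2249) (tt N579 (iv F3135)) (tt N410 F2250))
theorem Q412 : ∀ i, i < 412 → P i := stepQ 411 Q411 (allL N411 (tt N318 F2251) (tt N598 D601) (tt N280 (iv D411)) (tt N288 F2252) (tt N599 D602) (tt N411 F2253) (tt N281 F2254) (tt N596 (iv F3214)) (tt N581 (iv F3145)) (tt N411 F2255))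
theorem Q413 : ∀ i, i < 413 → P i := stepQ 412 Q412 (allL N412 (tt N319 F2256) (tt N547 (iv F2966)) (tt N599 (iv F3226)) (tt N412 F2257) (tt N280 (iv D412)) (tt N600 D603) (tt N282 F2258) (tt N597 (iv F3219)) (tt N582 (iv F3148)) (tt N412 F2259))
theorem Q414 : ∀ i, i < 414 → P i := stepQ 413 Q413 (allL N413 (tt N601 D604) (tt N281 (iv D413)) (tt N548 (iv F2970)) (tt N290 F2260) (tt N602 D605) (tt N283 F2261) (tt N598 (iv F3223)) (tt N413 F2262) (tt N585 (iv F3162)) (tt N413 F2263))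
theorem Q415 : ∀ i, i < 415 → P i := stepQ 414 Q414 (allL N414 (tt N321 F2264) (tt N602 (iv F3238)) (tt N282 F2265) (tt N603 D606) (tt N281 (iv D414)) (tt N604 D607) (tt N599 (iv F3227)) (tt N414 F2266) (tt N586 (iv F3166)) (tt N414 F2267))
theorem Q416 : ∀ i, i < 416 → P i := stepQ 415 Q415 (allL N415 (tt N322 F2268) (tt N550 (iv F2980)) (tt N604 (iv F3247)) (tt N415 F2269) (tt N285 F2270) (tt N282 (iv D415)) (tt N605 D608) (tt N415 F2271) (tt N587 (iv F3170)) (tt N415 F2272))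
theorem Q417 : ∀ i, i < 417 → P i := stepQ 416 Q416 (allL N416 (tt N283 (iv D416)) (tt N323 F2273) (tt N551 (iv F2986)) (tt N292 F2274) (tt N606 D609) (tt N601 (iv F3235)) (tt N416 F2275) (tt N416 F2276) (tt N591 (iv F3191)) (tt N416 F2277))
theorem Q418 : ∀ i, i < 418 → P i := stepQ 417 Q417 (allL N417 (tt N606 (iv F3255)) (tt N284 F2278) (tt N552 (iv F2992)) (tt N417 F2279) (tt N283 (iv D417)) (tt N607 D610) (tt N417 F2280) (tt N417 F2281) (tt N592 (iv F3195)) (tt N417 F2282))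
theorem Q419 : ∀ i, i < 419 → P i := stepQ 418 Q418 (allL N418 (tt N325 F2283) (tt N607 (iv F3261)) (tt N285 F2284) (tt N418 F2285) (tt N604 (iv F3248)) (tt N284 (iv D418)) (tt N608 D611) (tt N418 F2286) (tt N594 (iv F3205)) (tt N418 F2287))
theorem Q420 : ∀ i, i < 420 → P i := stepQ 419 Q419 (allL N419 (tt N326 F2288) (tt N555 (iv F3007)) (tt N608 (iv F3266)) (tt N286 F2289) (tt N605 (iv F3253)) (tt N419 F2290) (tt N285 (iv D419)) (tt N609 D612) (tt N595 (iv F3209)) (tt N419 F2291))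
theorem Q421 : ∀ i, i < 421 → P i := stepQ 420 Q420 (allL N420 (tt N327 F2292) (tt N559 (iv F3030)) (tt N420 F2293) (tt N609 (iv F3271)) (tt N420 F2294) (tt N420 F2295) (tt N420 F2296) (tt N286 (iv D420)) (tt N420 F2297) (tt N420 F2298))
theorem Q422 : ∀ i, i < 422 → P i := stepQ 421 Q421 (allL N421 (tt N328 F2299) (tt N610 D613) (tt N287 (iv D421)) (tt N596 (iv F3211)) (tt N611 D614) (tt N421 F2300) (tt N421 F2301) (tt N288 F2302) (tt N421 F2303) (tt N421 F2304))
theorem Q423 : ∀ i, i < 423 → P i := stepQ 422 Q422 (allL N422 (tt N329 F2305) (tt N422 F2306) (tt N611 (iv F3282)) (tt N422 F2307) (tt N287 (iv D422)) (tt N612 D615) (tt N422 F2308) (tt N289 F2309) (tt N422 F2310) (tt N422 F2311))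
theorem Q424 : ∀ i, i < 424 → P i := stepQ 423 Q423 (allL N423 (tt N613 D616) (tt N288 (iv D423)) (tt N423 F2312) (tt N598 (iv F3221)) (tt N614 D617) (tt N423 F2313) (tt N290 F2314) (tt N610 (iv F3278)) (tt N423 F2315) (tt N423 F2316))
theorem Q425 : ∀ i, i < 425 → P i := stepQ 424 Q424 (allL N424 (tt N331 F2317) (tt N614 (iv F3300)) (tt N289 F2318) (tt N615 D618) (tt N288 (iv D424)) (tt N616 D619) (tt N291 F2319) (tt N611 (iv F3284)) (tt N424 F2320) (tt N424 F2321))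
theorem Q426 : ∀ i, i < 426 → P i := stepQ 425 Q425 (allL N425 (tt N332 F2322) (tt N425 F2323) (tt N616 (iv F3310)) (tt N425 F2324) (tt N425 F2325) (tt N289 (iv D425)) (tt N425 F2326) (tt N612 (iv F3291)) (tt N425 F2327) (tt N425 F2328))
theorem Q427 : ∀ i, i < 427 → P i := stepQ 426 Q426 (allL N426 (tt N290 (iv D426)) (tt N333 F2329) (tt N426 F2330) (tt N601 (iv F3234)) (tt N617 D620) (tt N292 F2331) (tt N613 (iv F3297)) (tt N426 F2332) (tt N426 F2333) (tt N426 F2334))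
theorem Q428 : ∀ i, i < 428 → P i := stepQ 427 Q427 (allL N427 (tt N617 (iv F3315)) (tt N291 F2335) (tt N427 F2336) (tt N618 D621) (tt N290 (iv D427)) (tt N427 F2337) (tt N614 (iv F3302)) (tt N427 F2338) (tt N427 F2339) (tt N427 F2340))
theorem Q429 : ∀ i, i < 429 → P i := stepQ 428 Q428 (allL N428 (tt N335 F2341) (tt N618 (iv F3322)) (tt N428 F2342) (tt N291 (iv D428)) (tt N603 (iv F3243)) (tt N428 F2343) (tt N615 (iv F3307)) (tt N428 F2344) (tt N619 D622) (tt N428 F2345))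
theorem Q430 : ∀ i, i < 430 → P i := stepQ 429 Q429 (allL N429 (tt N560 (iv F3036)) (tt N429 F2346) (tt N429 F2347) (tt N429 F2348) (tt N429 F2349) (tt N429 F2350) (tt N293 (iv D429)) (tt N429 F2351) (tt N620 D623) (tt N621 D624))
theorem Q431 : ∀ i, i < 431 → P i := stepQ 430 Q430 (allL N430 (tt N561 (iv F3042)) (tt N430 F2352) (tt N430 F2353) (tt N622 D625) (tt N430 F2354) (tt N296 F2355) (tt N620 (iv F3335)) (tt N294 F2356) (tt N293 (iv D430)) (tt N623 D626))
theorem Q432 : ∀ i, i < 432 → P i := stepQ 431 Q431 (allL N431 (tt N562 (iv F3047)) (tt N431 F2357) (tt N431 F2358) (tt N431 F2359) (tt N431 F2360) (tt N297 F2361) (tt N621 (iv F3342)) (tt N295 F2362) (tt N624 D627) (tt N293 (iv D431)))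
theorem Q433 : ∀ i, i < 433 → P i := stepQ 432 Q432 (allL N432 (tt N563 (iv F3053)) (tt N432 F2363) (tt N625 D628) (tt N294 (iv D432)) (tt N626 D629) (tt N298 F2364) (tt N432 F2365) (tt N622 (iv F3346)) (tt N432 F2366) (tt N627 D630))
theorem Q434 : ∀ i, i < 434 → P i := stepQ 433 Q433 (allL N433 (tt N564 (iv F3057)) (tt N433 F2367) (tt N433 F2368) (tt N627 (iv F3368)) (tt N433 F2369) (tt N299 F2370) (tt N433 F2371) (tt N623 (iv F3352)) (tt N628 D631) (tt N294 (iv D433)))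
theorem Q435 : ∀ i, i < 435 → P i := stepQ 434 Q434 (allL N434 (tt N565 (iv F3062)) (tt N434 F2372) (tt N434 F2373) (tt N629 D632) (tt N434 F2374) (tt N300 F2375) (tt N434 F2376) (tt N624 (iv F3357)) (tt N295 (iv D434)) (tt N628 (iv F3376)))
theorem Q436 : ∀ i, i < 436 → P i := stepQ 435 Q435 (allL N435 (tt N566 (iv F3067)) (tt N435 F2377) (tt N630 D633) (tt N296 (iv D435)) (tt N435 F2378) (tt N622 (iv F3345)) (tt N435 F2379) (tt N298 F2380) (tt N435 F2381) (tt N631 D634))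
theorem Q437 : ∀ i, i < 437 → P i := stepQ 436 Q436 (allL N436 (tt N567 (iv F3072)) (tt N436 F2382) (tt N436 F2383) (tt N631 (iv F3387)) (tt N305 F2384) (tt N623 (iv F3351)) (tt N436 F2385) (tt N299 F2386) (tt N632 D635) (tt N296 (iv D436)))
theorem Q438 : ∀ i, i < 438 → P i := stepQ 437 Q437 (allL N437 (tt N568 (iv F3077)) (tt N437 F2387) (tt N437 F2388) (tt N633 D636) (tt N306 F2389) (tt N624 (iv F3356)) (tt N437 F2390) (tt N300 F2391) (tt N297 (iv D437)) (tt N632 (iv F3396)))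
theorem Q439 : ∀ i, i < 439 → P i := stepQ 438 Q438 (allL N438 (tt N569 (iv F3082)) (tt N634 D637) (tt N298 (iv D438)) (tt N438 F2392) (tt N438 F2393) (tt N625 (iv F3359)) (tt N301 F2394) (tt N630 (iv F3384)) (tt N438 F2395) (tt N635 D638))
theorem Q440 : ∀ i, i < 440 → P i := stepQ 439 Q439 (allL N439 (tt N570 (iv F3088)) (tt N439 F2396) (tt N635 (iv F3407)) (tt N299 F2397) (tt N439 F2398) (tt N627 (iv F3369)) (tt N302 F2399) (tt N631 (iv F3390)) (tt N636 D639) (tt N298 (iv D439)))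
theorem Q441 : ∀ i, i < 441 → P i := stepQ 440 Q440 (allL N440 (tt N571 (iv F3092)) (tt N440 F2400) (tt N440 F2401) (tt N637 D640) (tt N307 F2402) (tt N628 (iv F3374)) (tt N303 F2403) (tt N632 (iv F3395)) (tt N299 (iv D440)) (tt N300 F2404))
theorem Q442 : ∀ i, i < 442 → P i := stepQ 441 Q441 (allL N441 (tt N572 (iv F3097)) (tt N441 F2405) (tt N638 D641) (tt N300 (iv D441)) (tt N639 D642) (tt N629 (iv F3378)) (tt N304 F2406) (tt N633 (iv F3399)) (tt N441 F2407) (tt N637 (iv F3417)))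
theorem Q443 : ∀ i, i < 443 → P i := stepQ 442 Q442 (allL N442 (tt N442 F2408) (tt N301 (iv D442)) (tt N442 F2409) (tt N442 F2410) (tt N442 F2411) (tt N442 F2412) (tt N634 (iv F3405)) (tt N442 F2413) (tt N442 F2414) (tt N345 F202478))
theorem Q444 : ∀ i, i < 444 → P i := stepQ 443 Q443 (allL N443 (tt N573 (iv F3100)) (tt N345 (iv F202085)) (tt N302 F2415) (tt N443 F2416) (tt N443 F2417) (tt N443 F2418) (tt N635 (iv F3410)) (tt N443 F2419) (tt N344 F201675) (tt N301 (iv D443)))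
theorem Q445 : ∀ i, i < 445 → P i := stepQ 444 Q444 (allL N444 (tt N574 (iv F3107)) (tt N444 F2420) (tt N344 (iv F201298)) (tt N640 D645) (tt N444 F2421) (tt N444 F2422) (tt N636 (iv F3413)) (tt N444 F2423) (tt N302 (iv D444)) (tt N444 F2424))
theorem Q446 : ∀ i, i < 446 → P i := stepQ 445 Q445 (allL N445 (tt N575 (iv F3112)) (tt N445 F2425) (tt N641 D646) (tt N303 (iv D445)) (tt N642 D647) (tt N445 F2426) (tt N637 (iv F3416)) (tt N445 F2427) (tt N640 (iv F3440)) (tt N304 F2428))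
theorem Q447 : ∀ i, i < 447 → P i := stepQ 446 Q446 (allL N446 (tt N576 (iv F3116)) (tt N643 D648) (tt N304 (iv D446)) (tt N446 F2429) (tt N644 D649) (tt N446 F2430) (tt N638 (iv F3419)) (tt N446 F2431) (tt N446 F2432) (tt N641 (iv F3445)))
theorem Q448 : ∀ i, i < 448 → P i := stepQ 447 Q447 (allL N447 (tt N577 (iv F3121)) (tt N447 F2433) (tt N644 (iv F3455)) (tt N311 F2434) (tt N304 (iv D447)) (tt N645 D650) (tt N639 (iv F3423)) (tt N447 F2435) (tt N447 F2436) (tt N642 (iv F3449)))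
theorem Q449 : ∀ i, i < 449 → P i := stepQ 448 Q448 (allL N448 (tt N578 (iv F3125)) (tt N448 F2437) (tt N448 F2438) (tt N646 D651) (tt N632 (iv F3393)) (tt N448 F2439) (tt N448 F2440) (tt N307 F2441) (tt N305 (iv D448)) (tt N306 F2442))
theorem Q450 : ∀ i, i < 450 → P i := stepQ 449 Q449 (allL N449 (tt N579 (iv F3131)) (tt N449 F2443) (tt N647 D652) (tt N306 (iv D449)) (tt N648 D653) (tt N449 F2444) (tt N449 F2445) (tt N308 F2446) (tt N317 F2447) (tt N646 (iv F3468)))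
theorem Q451 : ∀ i, i < 451 → P i := stepQ 450 Q450 (allL N450 (tt N580 (iv F3136)) (tt N450 F2448) (tt N649 D654) (tt N307 (iv D450)) (tt N650 D655) (tt N450 F2449) (tt N309 F2450) (tt N646 (iv F3466)) (tt N450 F2451) (tt N308 F2452))
theorem Q452 : ∀ i, i < 452 → P i := stepQ 451 Q451 (allL N451 (tt N581 (iv F3141)) (tt N651 D656) (tt N308 (iv D451)) (tt N451 F2453) (tt N652 D657) (tt N451 F2454) (tt N310 F2455) (tt N647 (iv F3472)) (tt N318 F2456) (tt N649 (iv F3482)))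
theorem Q453 : ∀ i, i < 453 → P i := stepQ 452 Q452 (allL N452 (tt N582 (iv F3146)) (tt N452 F2457) (tt N652 (iv F3492)) (tt N639 (iv F3422)) (tt N308 (iv D452)) (tt N653 D658) (tt N311 F2458) (tt N648 (iv F3476)) (tt N319 F2459) (tt N650 (iv F3486)))
theorem Q454 : ∀ i, i < 454 → P i := stepQ 453 Q453 (allL N453 (tt N583 (iv F3149)) (tt N654 D659) (tt N309 (iv D453)) (tt N453 F2460) (tt N655 D660) (tt N312 F2461) (tt N649 (iv F3480)) (tt N453 F2462) (tt N453 F2463) (tt N310 F2464))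
theorem Q455 : ∀ i, i < 455 → P i := stepQ 454 Q454 (allL N454 (tt N584 (iv F3155)) (tt N454 F2465) (tt N655 (iv F3504)) (tt N642 (iv F3447)) (tt N309 (iv D454)) (tt N656 D661) (tt N650 (iv F3484)) (tt N454 F2466) (tt N454 F2467) (tt N311 F2468))
theorem Q456 : ∀ i, i < 456 → P i := stepQ 455 Q455 (allL N455 (tt N657 D662) (tt N310 (iv D455)) (tt N455 F2469) (tt N455 F2470) (tt N658 D663) (tt N314 F2471) (tt N651 (iv F3490)) (tt N455 F2472) (tt N320 F2473) (tt N654 (iv F3503)))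
theorem Q457 : ∀ i, i < 457 → P i := stepQ 456 Q456 (allL N456 (tt N586 (iv F3163)) (tt N658 (iv F3518)) (tt N311 F2474) (tt N659 D664) (tt N310 (iv D456)) (tt N660 D665) (tt N652 (iv F3493)) (tt N456 F2475) (tt N321 F2476) (tt N655 (iv F3507)))
theorem Q458 : ∀ i, i < 458 → P i := stepQ 457 Q457 (allL N457 (tt N587 (iv F3167)) (tt N457 F2477) (tt N660 (iv F3524)) (tt N645 (iv F3459)) (tt N316 F2478) (tt N311 (iv D457)) (tt N661 D666) (tt N457 F2479) (tt N322 F2480) (tt N656 (iv F3512)))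
theorem Q459 : ∀ i, i < 459 → P i := stepQ 458 Q458 (allL N458 (tt N662 D667) (tt N312 (iv D458)) (tt N458 F2481) (tt N458 F2482) (tt N663 D668) (tt N654 (iv F3500)) (tt N458 F2483) (tt N458 F2484) (tt N458 F2485) (tt N314 F2486))
theorem Q460 : ∀ i, i < 460 → P i := stepQ 459 Q459 (allL N459 (tt N589 (iv F3176)) (tt N663 (iv F3537)) (tt N313 F2487) (tt N664 D669) (tt N312 (iv D459)) (tt N665 D670) (tt N459 F2488) (tt N459 F2489) (tt N459 F2490) (tt N315 F2491))
theorem Q461 : ∀ i, i < 461 → P i := stepQ 460 Q460 (allL N460 (tt N590 (iv F3182)) (tt N460 F2492) (tt N665 (iv F3548)) (tt N460 F2493) (tt N656 (iv F3509)) (tt N313 (iv D460)) (tt N666 D671) (tt N460 F2494) (tt N460 F2495) (tt N316 F2496))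
theorem Q462 : ∀ i, i < 462 → P i := stepQ 461 Q461 (allL N461 (tt N314 (iv D461)) (tt N591 (iv F3187)) (tt N461 F2497) (tt N461 F2498) (tt N667 D672) (tt N657 (iv F3515)) (tt N461 F2499) (tt N461 F2500) (tt N323 F2501) (tt N662 (iv F3536)))
theorem Q463 : ∀ i, i < 463 → P i := stepQ 462 Q462 (allL N462 (tt N667 (iv F3557)) (tt N315 F2502) (tt N462 F2503) (tt N668 D673) (tt N314 (iv D462)) (tt N669 D674) (tt N462 F2504) (tt N462 F2505) (tt N324 F2506) (tt N663 (iv F3542)))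
theorem Q464 : ∀ i, i < 464 → P i := stepQ 463 Q463 (allL N463 (tt N593 (iv F3196)) (tt N668 (iv F3562)) (tt N463 F2507) (tt N315 (iv D463)) (tt N463 F2508) (tt N670 D675) (tt N463 F2509) (tt N463 F2510) (tt N463 F2511) (tt N664 (iv F3547)))
theorem Q465 : ∀ i, i < 465 → P i := stepQ 464 Q464 (allL N464 (tt N594 (iv F3202)) (tt N669 (iv F3567)) (tt N316 F2512) (tt N670 (iv F3572)) (tt N660 (iv F3525)) (tt N315 (iv D464)) (tt N671 D676) (tt N464 F2513) (tt N325 F2514) (tt N665 (iv F3551)))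
theorem Q466 : ∀ i, i < 466 → P i := stepQ 465 Q465 (allL N465 (tt N595 (iv F3206)) (tt N465 F2515) (tt N671 (iv F3575)) (tt N465 F2516) (tt N661 (iv F3529)) (tt N465 F2517) (tt N316 (iv D465)) (tt N672 D677) (tt N326 F2518) (tt N666 (iv F3556)))
theorem Q467 : ∀ i, i < 467 → P i := stepQ 466 Q466 (allL N466 (tt N596 (iv F3210)) (tt N673 D678) (tt N317 (iv D466)) (tt N328 F2519) (tt N674 D679) (tt N466 F2520) (tt N466 F2521) (tt N318 F2522) (tt N647 (iv F3473)) (tt N466 F2523))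
theorem Q468 : ∀ i, i < 468 → P i := stepQ 467 Q467 (allL N467 (tt N597 (iv F3216)) (tt N467 F2524) (tt N674 (iv F3589)) (tt N467 F2525) (tt N317 (iv D467)) (tt N675 D680) (tt N467 F2526) (tt N319 F2527) (tt N648 (iv F3477)) (tt N467 F2528))
theorem Q469 : ∀ i, i < 469 → P i := stepQ 468 Q468 (allL N468 (tt N676 D681) (tt N318 (iv D468)) (tt N468 F2529) (tt N330 F2530) (tt N677 D682) (tt N468 F2531) (tt N320 F2532) (tt N673 (iv F3587)) (tt N651 (iv F3491)) (tt N468 F2533))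
theorem Q470 : ∀ i, i < 470 → P i := stepQ 469 Q469 (allL N469 (tt N599 (iv F3225)) (tt N677 (iv F3603)) (tt N319 F2534) (tt N678 D683) (tt N318 (iv D469)) (tt N679 D684) (tt N321 F2535) (tt N674 (iv F3591)) (tt N652 (iv F3494)) (tt N469 F2536))
theorem Q471 : ∀ i, i < 471 → P i := stepQ 470 Q470 (allL N470 (tt N600 (iv F3229)) (tt N470 F2537) (tt N679 (iv F3611)) (tt N470 F2538) (tt N470 F2539) (tt N319 (iv D470)) (tt N680 D685) (tt N675 (iv F3596)) (tt N653 (iv F3497)) (tt N470 F2540))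
theorem Q472 : ∀ i, i < 472 → P i := stepQ 471 Q471 (allL N471 (tt N320 (iv D471)) (tt N601 (iv F3233)) (tt N471 F2541) (tt N333 F2542) (tt N681 D686) (tt N323 F2543) (tt N676 (iv F3601)) (tt N471 F2544) (tt N657 (iv F3517)) (tt N471 F2545))
theorem Q473 : ∀ i, i < 473 → P i := stepQ 472 Q472 (allL N472 (tt N681 (iv F3619)) (tt N321 F2546) (tt N472 F2547) (tt N682 D687) (tt N320 (iv D472)) (tt N683 D688) (tt N677 (iv F3605)) (tt N472 F2548) (tt N658 (iv F3521)) (tt N472 F2549))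
theorem Q474 : ∀ i, i < 474 → P i := stepQ 473 Q473 (allL N473 (tt N603 (iv F3241)) (tt N682 (iv F3623)) (tt N473 F2550) (tt N321 (iv D473)) (tt N335 F2551) (tt N684 D689) (tt N678 (iv F3609)) (tt N473 F2552) (tt N685 D690) (tt N473 F2553))
theorem Q475 : ∀ i, i < 475 → P i := stepQ 474 Q474 (allL N474 (tt N604 (iv F3246)) (tt N683 (iv F3627)) (tt N322 F2554) (tt N684 (iv F3633)) (tt N325 F2555) (tt N321 (iv D474)) (tt N686 D691) (tt N474 F2556) (tt N660 (iv F3527)) (tt N474 F2557))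
theorem Q476 : ∀ i, i < 476 → P i := stepQ 475 Q475 (allL N475 (tt N605 (iv F3251)) (tt N475 F2558) (tt N686 (iv F3640)) (tt N475 F2559) (tt N326 F2560) (tt N680 (iv F3617)) (tt N322 (iv D475)) (tt N687 D692) (tt N661 (iv F3530)) (tt N475 F2561))
theorem Q477 : ∀ i, i < 477 → P i := stepQ 476 Q476 (allL N476 (tt N324 F2562) (tt N606 (iv F3256)) (tt N476 F2563) (tt N476 F2564) (tt N323 (iv D476)) (tt N688 D693) (tt N476 F2565) (tt N476 F2566) (tt N667 (iv F3561)) (tt N476 F2567))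
theorem Q478 : ∀ i, i < 478 → P i := stepQ 477 Q477 (allL N477 (tt N688 (iv F3648)) (tt N325 F2568) (tt N477 F2569) (tt N477 F2570) (tt N683 (iv F3629)) (tt N324 (iv D477)) (tt N689 D694) (tt N477 F2571) (tt N669 (iv F3570)) (tt N477 F2572))
theorem Q479 : ∀ i, i < 479 → P i := stepQ 478 Q478 (allL N478 (tt N608 (iv F3265)) (tt N689 (iv F3653)) (tt N326 F2573) (tt N478 F2574) (tt N686 (iv F3641)) (tt N478 F2575) (tt N325 (iv D478)) (tt N690 D695) (tt N671 (iv F3577)) (tt N478 F2576))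
theorem Q480 : ∀ i, i < 480 → P i := stepQ 479 Q479 (allL N479 (tt N609 (iv F3270)) (tt N479 F2577) (tt N690 (iv F3658)) (tt N327 F2578) (tt N687 (iv F3645)) (tt N479 F2579) (tt N479 F2580) (tt N326 (iv D479)) (tt N672 (iv F3582)) (tt N479 F2581))
theorem Q481 : ∀ i, i < 481 → P i := stepQ 480 Q480 (allL N480 (tt N691 D696) (tt N328 (iv D480)) (tt N336 F2582) (tt N673 (iv F3584)) (tt N692 D697) (tt N480 F2583) (tt N480 F2584) (tt N330 F2585) (tt N480 F2586) (tt N480 F2587))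
theorem Q482 : ∀ i, i < 482 → P i := stepQ 481 Q481 (allL N481 (tt N611 (iv F3281)) (tt N692 (iv F3669)) (tt N329 F2588) (tt N693 D698) (tt N328 (iv D481)) (tt N694 D699) (tt N481 F2589) (tt N331 F2590) (tt N481 F2591) (tt N481 F2592))
theorem Q483 : ∀ i, i < 483 → P i := stepQ 482 Q482 (allL N482 (tt N612 (iv F3287)) (tt N338 F2593) (tt N694 (iv F3679)) (tt N482 F2594) (tt N482 F2595) (tt N329 (iv D482)) (tt N695 D700) (tt N332 F2596) (tt N482 F2597) (tt N482 F2598))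
theorem Q484 : ∀ i, i < 484 → P i := stepQ 483 Q483 (allL N483 (tt N330 (iv D483)) (tt N613 (iv F3294)) (tt N339 F2599) (tt N676 (iv F3599)) (tt N696 D701) (tt N483 F2600) (tt N333 F2601) (tt N691 (iv F3666)) (tt N483 F2602) (tt N483 F2603))
theorem Q485 : ∀ i, i < 485 → P i := stepQ 484 Q484 (allL N484 (tt N696 (iv F3691)) (tt N331 F2604) (tt N340 F2605) (tt N697 D702) (tt N330 (iv D484)) (tt N698 D703) (tt N334 F2606) (tt N692 (iv F3672)) (tt N484 F2607) (tt N484 F2608))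
theorem Q486 : ∀ i, i < 486 → P i := stepQ 485 Q485 (allL N485 (tt N615 (iv F3305)) (tt N697 (iv F3696)) (tt N485 F2609) (tt N331 (iv D485)) (tt N678 (iv F3608)) (tt N699 D704) (tt N335 F2610) (tt N693 (iv F3677)) (tt N700 D705) (tt N485 F2611))
theorem Q487 : ∀ i, i < 487 → P i := stepQ 486 Q486 (allL N486 (tt N616 (iv F3309)) (tt N698 (iv F3699)) (tt N332 F2612) (tt N699 (iv F3706)) (tt N486 F2613) (tt N331 (iv D486)) (tt N486 F2614) (tt N694 (iv F3681)) (tt N486 F2615) (tt N486 F2616))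
theorem Q488 : ∀ i, i < 488 → P i := stepQ 487 Q487 (allL N487 (tt N334 F2617) (tt N617 (iv F3316)) (tt N343 F2618) (tt N701 D706) (tt N333 (iv D487)) (tt N487 F2619) (tt N696 (iv F3693)) (tt N487 F2620) (tt N487 F2621) (tt N487 F2622))
theorem Q489 : ∀ i, i < 489 → P i := stepQ 488 Q488 (allL N488 (tt N701 (iv F3712)) (tt N335 F2623) (tt N640 F200915) (tt N334 (iv D488)) (tt N682 (iv F3624)) (tt N488 F2624) (tt N697 (iv F3697)) (tt N488 F2625) (tt N641 F200916) (tt N488 F2626))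
theorem Q490 : ∀ i, i < 490 → P i := stepQ 489 Q489 (allL N489 (tt N619 (iv F3326)) (tt N641 F200909) (tt N489 F2627) (tt N489 F2628) (tt N685 (iv F3638)) (tt N489 F2629) (tt N700 (iv F3711)) (tt N489 F2630) (tt N335 (iv D489)) (tt N643 F200910))
theorem Q491 : ∀ i, i < 491 → P i := stepQ 490 Q490 (allL N490 (tt N336 (iv D490)) (tt N490 F2631) (tt N691 (iv F3663)) (tt N490 F2632) (tt N702 D710) (tt N490 F2633) (tt N490 F2634) (tt N339 F2635) (tt N490 F2636) (tt N490 F2637))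
theorem Q492 : ∀ i, i < 492 → P i := stepQ 491 Q491 (allL N491 (tt N702 (iv F3730)) (tt N337 F2638) (tt N692 (iv F3670)) (tt N703 D711) (tt N336 (iv D491)) (tt N704 D712) (tt N491 F2639) (tt N340 F2640) (tt N491 F2641) (tt N491 F2642))
theorem Q493 : ∀ i, i < 493 → P i := stepQ 492 Q492 (allL N492 (tt N492 F2643) (tt N703 (iv F3736)) (tt N492 F2644) (tt N337 (iv D492)) (tt N492 F2645) (tt N705 D713) (tt N492 F2646) (tt N341 F2647) (tt N706 D714) (tt N492 F2648))
theorem Q494 : ∀ i, i < 494 → P i := stepQ 493 Q493 (allL N493 (tt N493 F2649) (tt N704 (iv F3741)) (tt N338 F2650) (tt N705 (iv F3748)) (tt N493 F2651) (tt N337 (iv D493)) (tt N707 D715) (tt N342 F2652) (tt N493 F2653) (tt N493 F2654))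
theorem Q495 : ∀ i, i < 495 → P i := stepQ 494 Q494 (allL N494 (tt N494 F2655) (tt N695 (iv F3684)) (tt N707 (iv F3758)) (tt N494 F2656) (tt N494 F2657) (tt N494 F2658) (tt N338 (iv D494)) (tt N494 F2659) (tt N494 F2660) (tt N494 F2661))
theorem Q496 : ∀ i, i < 496 → P i := stepQ 495 Q495 (allL N495 (tt N340 F2662) (tt N495 F2663) (tt N696 (iv F3692)) (tt N708 D716) (tt N339 (iv D495)) (tt N709 D717) (tt N343 F2664) (tt N702 (iv F3733)) (tt N495 F2665) (tt N495 F2666))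
theorem Q497 : ∀ i, i < 497 → P i := stepQ 496 Q496 (allL N496 (tt N708 (iv F3764)) (tt N341 F2667) (tt N636 F200919) (tt N340 (iv D496)) (tt N496 F2668) (tt N710 D719) (tt N344 F2669) (tt N703 (iv F3739)) (tt N635 (iv F201290)) (tt N496 F2670))
theorem Q498 : ∀ i, i < 498 → P i := stepQ 497 Q497 (allL N497 (tt N709 (iv F3769)) (tt N342 F2671) (tt N698 (iv F3700)) (tt N710 (iv F3780)) (tt N497 F2672) (tt N340 (iv D497)) (tt N497 F2673) (tt N704 (iv F3743)) (tt N497 F2674) (tt N497 F2675))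
theorem Q499 : ∀ i, i < 499 → P i := stepQ 498 Q498 (allL N498 (tt N498 F2676) (tt N710 (iv F3779)) (tt N498 F2677) (tt N342 F2678) (tt N711 D721) (tt N341 (iv D498)) (tt N498 F2679) (tt N705 (iv F3749)) (tt N712 D722) (tt N498 F2680))
theorem Q500 : ∀ i, i < 500 → P i := stepQ 499 Q499 (allL N499 (tt N499 F2681) (tt N635 F201676) (tt N499 F2682) (tt N499 F2683) (tt N499 F2684) (tt N712 (iv F3796)) (tt N345 F2685) (tt N706 (iv F3756)) (tt N341 (iv D499)) (tt N634 (iv F202086)))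
theorem Q501 : ∀ i, i < 501 → P i := stepQ 500 Q500 (allL N500 (tt N344 F2686) (tt N500 F2687) (tt N574 F201615) (tt N343 (iv D500)) (tt N500 F2688) (tt N500 F2689) (tt N708 (iv F3767)) (tt N500 F2690) (tt N573 (iv F202033)) (tt N500 F2691))
theorem Q502 : ∀ i, i < 502 → P i := stepQ 501 Q501 (allL N501 (tt N501 F2709) (tt N501 F2710) (tt N501 F2711) (tt N347 F2712) (tt N501 F2713) (tt N713 D728) (tt N346 (iv D504)) (tt N714 D729) (tt N501 F2714) (tt N715 D730))
theorem Q503 : ∀ i, i < 503 → P i := stepQ 502 Q502 (allL N502 (tt N502 F2715) (tt N502 F2716) (tt N502 F2717) (tt N349 F2718) (tt N502 F2719) (tt N502 F2720) (tt N715 (iv F3844)) (tt N502 F2721) (tt N716 D731) (tt N346 (iv D505)))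
theorem Q504 : ∀ i, i < 504 → P i := stepQ 503 Q503 (allL N503 (tt N503 F2722) (tt N503 F2723) (tt N360 F2724) (tt N713 (iv F3829)) (tt N503 F2725) (tt N347 (iv D506)) (tt N503 F2726) (tt N717 D732) (tt N718 D733) (tt N719 D734))
theorem Q505 : ∀ i, i < 505 → P i := stepQ 504 Q504 (allL N504 (tt N504 F2727) (tt N504 F2728) (tt N361 F2729) (tt N714 (iv F3835)) (tt N350 F2730) (tt N717 (iv F3856)) (tt N504 F2731) (tt N347 (iv D507)) (tt N720 D735) (tt N721 D736))
theorem Q506 : ∀ i, i < 506 → P i := stepQ 505 Q505 (allL N505 (tt N505 F2732) (tt N505 F2733) (tt N362 F2734) (tt N505 F2735) (tt N351 F2736) (tt N718 (iv F3862)) (tt N348 F2737) (tt N720 (iv F3876)) (tt N347 (iv D508)) (tt N722 D737))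
theorem Q507 : ∀ i, i < 507 → P i := stepQ 506 Q506 (allL N506 (tt N506 F2738) (tt N506 F2739) (tt N363 F2740) (tt N715 (iv F3842)) (tt N352 F2741) (tt N719 (iv F3868)) (tt N349 F2742) (tt N721 (iv F3882)) (tt N723 D738) (tt N347 (iv D509)))
theorem Q508 : ∀ i, i < 508 → P i := stepQ 507 Q507 (allL N507 (tt N507 F2743) (tt N507 F2744) (tt N365 F2745) (tt N507 F2746) (tt N354 F2747) (tt N507 F2748) (tt N722 (iv F3888)) (tt N507 F2749) (tt N724 D739) (tt N348 (iv D510)))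
theorem Q509 : ∀ i, i < 509 → P i := stepQ 508 Q508 (allL N508 (tt N508 F2750) (tt N508 F2751) (tt N366 F2752) (tt N725 D740) (tt N355 F2753) (tt N508 F2754) (tt N723 (iv F3893)) (tt N508 F2755) (tt N349 (iv D511)) (tt N724 (iv F3900)))
theorem Q510 : ∀ i, i < 510 → P i := stepQ 509 Q509 (allL N509 (tt N509 F2756) (tt N509 F2757) (tt N367 F2758) (tt N726 D741) (tt N720 (iv F3874)) (tt N509 F2759) (tt N509 F2760) (tt N351 F2761) (tt N350 (iv D512)) (tt N727 D742))
theorem Q511 : ∀ i, i < 511 → P i := stepQ 510 Q510 (allL N510 (tt N510 F2762) (tt N510 F2763) (tt N368 F2764) (tt N510 F2765) (tt N721 (iv F3880)) (tt N510 F2766) (tt N510 F2767) (tt N352 F2768) (tt N728 D743) (tt N350 (iv D513)))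
theorem Q512 : ∀ i, i < 512 → P i := stepQ 511 Q511 (allL N511 (tt N511 F2769) (tt N511 F2770) (tt N511 F2771) (tt N351 (iv D514)) (tt N511 F2772) (tt N511 F2773) (tt N353 F2774) (tt N726 (iv F3911)) (tt N511 F2775) (tt N729 D744))
theorem Q513 : ∀ i, i < 513 → P i := stepQ 512 Q512 (allL N512 (tt N512 F2776) (tt N512 F2777) (tt N369 F2778) (tt N729 (iv F3928)) (tt N722 (iv F3887)) (tt N512 F2779) (tt N354 F2780) (tt N727 (iv F3918)) (tt N730 D745) (tt N351 (iv D515)))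
theorem Q514 : ∀ i, i < 514 → P i := stepQ 513 Q513 (allL N513 (tt N513 F2781) (tt N513 F2782) (tt N370 F2783) (tt N731 D746) (tt N723 (iv F3892)) (tt N513 F2784) (tt N355 F2785) (tt N728 (iv F3924)) (tt N352 (iv D516)) (tt N730 (iv F3937)))
theorem Q515 : ∀ i, i < 515 → P i := stepQ 514 Q514 (allL N514 (tt N514 F2786) (tt N514 F2787) (tt N514 F2788) (tt N354 F2789) (tt N514 F2790) (tt N357 F2791) (tt N729 (iv F3931)) (tt N514 F2792) (tt N732 D747) (tt N353 (iv D517)))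
theorem Q516 : ∀ i, i < 516 → P i := stepQ 515 Q515 (allL N515 (tt N515 F2793) (tt N515 F2794) (tt N371 F2795) (tt N733 D748) (tt N724 (iv F3897)) (tt N358 F2796) (tt N730 (iv F3936)) (tt N515 F2797) (tt N354 (iv D518)) (tt N355 F2798))
theorem Q517 : ∀ i, i < 517 → P i := stepQ 516 Q516 (allL N516 (tt N516 F2799) (tt N516 F2800) (tt N734 D749) (tt N355 (iv D519)) (tt N735 D750) (tt N359 F2801) (tt N731 (iv F3941)) (tt N516 F2802) (tt N516 F2803) (tt N733 (iv F3954)))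
theorem Q518 : ∀ i, i < 518 → P i := stepQ 517 Q517 (allL N517 (tt N517 F2804) (tt N517 F2805) (tt N517 F2806) (tt N517 F2807) (tt N357 F2808) (tt N517 F2809) (tt N517 F2810) (tt N517 F2811) (tt N736 D751) (tt N356 (iv D520)))
theorem Q519 : ∀ i, i < 519 → P i := stepQ 518 Q518 (allL N518 (tt N518 F2812) (tt N518 F2813) (tt N518 F2814) (tt N737 D752) (tt N736 (iv F3967)) (tt N732 (iv F3947)) (tt N518 F2815) (tt N518 F2816) (tt N357 (iv D521)) (tt N518 F2817))
theorem Q520 : ∀ i, i < 520 → P i := stepQ 519 Q519 (allL N519 (tt N519 F2818) (tt N519 F2819) (tt N738 D753) (tt N358 (iv D522)) (tt N739 D754) (tt N733 (iv F3952)) (tt N519 F2820) (tt N519 F2821) (tt N737 (iv F3976)) (tt N359 F2822))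
theorem Q521 : ∀ i, i < 521 → P i := stepQ 520 Q520 (allL N520 (tt N520 F2823) (tt N740 D755) (tt N359 (iv D523)) (tt N374 F2824) (tt N741 D756) (tt N734 (iv F3957)) (tt N520 F2825) (tt N520 F2826) (tt N520 F2827) (tt N738 (iv F3982)))
theorem Q522 : ∀ i, i < 522 → P i := stepQ 521 Q521 (allL N521 (tt N521 F2828) (tt N521 F2829) (tt N741 (iv F3995)) (tt N521 F2830) (tt N359 (iv D524)) (tt N742 D757) (tt N521 F2831) (tt N521 F2832) (tt N521 F2833) (tt N739 (iv F3988)))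
theorem Q523 : ∀ i, i < 523 → P i := stepQ 522 Q522 (allL N522 (tt N522 F2834) (tt N386 F2835) (tt N717 (iv F3854)) (tt N522 F2836) (tt N522 F2837) (tt N361 F2838) (tt N743 D758) (tt N360 (iv D525)) (tt N744 D759) (tt N745 D760))
theorem Q524 : ∀ i, i < 524 → P i := stepQ 523 Q523 (allL N523 (tt N523 F2839) (tt N387 F2840) (tt N718 (iv F3859)) (tt N746 D761) (tt N523 F2841) (tt N362 F2842) (tt N523 F2843) (tt N744 (iv F4014)) (tt N360 (iv D526)) (tt N747 D762))
theorem Q525 : ∀ i, i < 525 → P i := stepQ 524 Q524 (allL N524 (tt N524 F2844) (tt N388 F2845) (tt N719 (iv F3866)) (tt N524 F2846) (tt N524 F2847) (tt N363 F2848) (tt N524 F2849) (tt N745 (iv F4020)) (tt N748 D763) (tt N360 (iv D527)))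
theorem Q526 : ∀ i, i < 526 → P i := stepQ 525 Q525 (allL N525 (tt N525 F2850) (tt N389 F2851) (tt N720 (iv F3872)) (tt N749 D764) (tt N367 F2852) (tt N744 (iv F4013)) (tt N525 F2853) (tt N362 F2854) (tt N361 (iv D528)) (tt N750 D765))
theorem Q527 : ∀ i, i < 527 → P i := stepQ 526 Q526 (allL N526 (tt N526 F2855) (tt N390 F2856) (tt N721 (iv F3879)) (tt N526 F2857) (tt N368 F2858) (tt N745 (iv F4019)) (tt N526 F2859) (tt N363 F2860) (tt N751 D766) (tt N361 (iv D529)))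
theorem Q528 : ∀ i, i < 528 → P i := stepQ 527 Q527 (allL N527 (tt N527 F2861) (tt N391 F2862) (tt N527 F2863) (tt N362 (iv D530)) (tt N527 F2864) (tt N746 (iv F4024)) (tt N364 F2865) (tt N749 (iv F4042)) (tt N527 F2866) (tt N752 D767))
theorem Q529 : ∀ i, i < 529 → P i := stepQ 528 Q528 (allL N528 (tt N528 F2867) (tt N392 F2868) (tt N722 (iv F3885)) (tt N752 (iv F4057)) (tt N369 F2869) (tt N747 (iv F4030)) (tt N365 F2870) (tt N750 (iv F4048)) (tt N753 D768) (tt N362 (iv D531)))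
theorem Q530 : ∀ i, i < 530 → P i := stepQ 529 Q529 (allL N529 (tt N529 F2871) (tt N393 F2872) (tt N723 (iv F3891)) (tt N754 D769) (tt N370 F2873) (tt N748 (iv F4035)) (tt N366 F2874) (tt N751 (iv F4053)) (tt N363 (iv D532)) (tt N753 (iv F4064)))
theorem Q531 : ∀ i, i < 531 → P i := stepQ 530 Q530 (allL N530 (tt N530 F2875) (tt N395 F2876) (tt N530 F2877) (tt N365 F2878) (tt N530 F2879) (tt N530 F2880) (tt N752 (iv F4059)) (tt N530 F2881) (tt N755 D770) (tt N364 (iv D533)))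
theorem Q532 : ∀ i, i < 532 → P i := stepQ 531 Q531 (allL N531 (tt N531 F2882) (tt N396 F2883) (tt N724 (iv F3896)) (tt N756 D771) (tt N371 F2884) (tt N531 F2885) (tt N753 (iv F4063)) (tt N531 F2886) (tt N365 (iv D534)) (tt N366 F2887))
theorem Q533 : ∀ i, i < 533 → P i := stepQ 532 Q532 (allL N532 (tt N532 F2888) (tt N397 F2889) (tt N757 D772) (tt N366 (iv D535)) (tt N758 D773) (tt N532 F2890) (tt N754 (iv F4067)) (tt N532 F2891) (tt N532 F2892) (tt N756 (iv F4080)))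
theorem Q534 : ∀ i, i < 534 → P i := stepQ 533 Q533 (allL N533 (tt N533 F2893) (tt N398 F2894) (tt N727 (iv F3915)) (tt N533 F2895) (tt N750 (iv F4046)) (tt N533 F2896) (tt N533 F2897) (tt N369 F2898) (tt N759 D774) (tt N367 (iv D536)))
theorem Q535 : ∀ i, i < 535 → P i := stepQ 534 Q534 (allL N534 (tt N534 F2899) (tt N399 F2900) (tt N728 (iv F3921)) (tt N760 D775) (tt N751 (iv F4051)) (tt N534 F2901) (tt N534 F2902) (tt N370 F2903) (tt N368 (iv D537)) (tt N759 (iv F4095)))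
theorem Q536 : ∀ i, i < 536 → P i := stepQ 535 Q535 (allL N535 (tt N535 F2904) (tt N400 F2905) (tt N730 (iv F3934)) (tt N761 D776) (tt N753 (iv F4062)) (tt N535 F2906) (tt N371 F2907) (tt N759 (iv F4094)) (tt N369 (iv D538)) (tt N370 F2908))
theorem Q537 : ∀ i, i < 537 → P i := stepQ 536 Q536 (allL N536 (tt N536 F2909) (tt N401 F2910) (tt N762 D777) (tt N370 (iv D539)) (tt N763 D778) (tt N536 F2911) (tt N372 F2912) (tt N760 (iv F4100)) (tt N377 F2913) (tt N761 (iv F4107)))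
theorem Q538 : ∀ i, i < 538 → P i := stepQ 537 Q537 (allL N537 (tt N537 F2914) (tt N402 F2915) (tt N764 D779) (tt N371 (iv D540)) (tt N765 D780) (tt N373 F2916) (tt N761 (iv F4105)) (tt N537 F2917) (tt N537 F2918) (tt N372 F2919))
theorem Q539 : ∀ i, i < 539 → P i := stepQ 538 Q538 (allL N538 (tt N538 F2920) (tt N766 D781) (tt N372 (iv D541)) (tt N734 (iv F3956)) (tt N767 D782) (tt N374 F2921) (tt N762 (iv F4110)) (tt N538 F2922) (tt N378 F2923) (tt N764 (iv F4120)))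
theorem Q540 : ∀ i, i < 540 → P i := stepQ 539 Q539 (allL N539 (tt N539 F2924) (tt N404 F2925) (tt N767 (iv F4131)) (tt N758 (iv F4087)) (tt N372 (iv D542)) (tt N768 D783) (tt N763 (iv F4114)) (tt N539 F2926) (tt N379 F2927) (tt N765 (iv F4125)))
theorem Q541 : ∀ i, i < 541 → P i := stepQ 540 Q540 (allL N540 (tt N540 F2928) (tt N769 D784) (tt N373 (iv D543)) (tt N738 (iv F3979)) (tt N770 D785) (tt N764 (iv F4117)) (tt N540 F2929) (tt N540 F2930) (tt N540 F2931) (tt N374 F2932))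
theorem Q542 : ∀ i, i < 542 → P i := stepQ 541 Q541 (allL N541 (tt N541 F2933) (tt N406 F2934) (tt N770 (iv F4145)) (tt N541 F2935) (tt N373 (iv D544)) (tt N771 D786) (tt N541 F2936) (tt N541 F2937) (tt N541 F2938) (tt N375 F2939))
theorem Q543 : ∀ i, i < 543 → P i := stepQ 542 Q542 (allL N542 (tt N772 D787) (tt N374 (iv D545)) (tt N407 F2940) (tt N740 (iv F3990)) (tt N773 D788) (tt N766 (iv F4127)) (tt N542 F2941) (tt N542 F2942) (tt N380 F2943) (tt N769 (iv F4143)))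
theorem Q544 : ∀ i, i < 544 → P i := stepQ 543 Q543 (allL N543 (tt N543 F2944) (tt N773 (iv F4161)) (tt N375 F2945) (tt N774 D789) (tt N374 (iv D546)) (tt N775 D790) (tt N543 F2946) (tt N543 F2947) (tt N381 F2948) (tt N770 (iv F4149)))
theorem Q545 : ∀ i, i < 545 → P i := stepQ 544 Q544 (allL N544 (tt N544 F2949) (tt N409 F2950) (tt N775 (iv F4171)) (tt N544 F2951) (tt N768 (iv F4136)) (tt N375 (iv D547)) (tt N776 D791) (tt N544 F2952) (tt N382 F2953) (tt N771 (iv F4155)))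
theorem Q546 : ∀ i, i < 546 → P i := stepQ 545 Q545 (allL N545 (tt N545 F2954) (tt N410 F2955) (tt N777 D792) (tt N376 (iv D548)) (tt N778 D793) (tt N545 F2956) (tt N545 F2957) (tt N377 F2958) (tt N760 (iv F4101)) (tt N545 F2959))
theorem Q547 : ∀ i, i < 547 → P i := stepQ 546 Q546 (allL N546 (tt N546 F2960) (tt N779 D794) (tt N377 (iv D549)) (tt N546 F2961) (tt N780 D795) (tt N546 F2962) (tt N378 F2963) (tt N777 (iv F4183)) (tt N762 (iv F4111)) (tt N546 F2964))
theorem Q548 : ∀ i, i < 548 → P i := stepQ 547 Q547 (allL N547 (tt N547 F2965) (tt N412 F2966) (tt N780 (iv F4197)) (tt N547 F2967) (tt N377 (iv D550)) (tt N781 D796) (tt N379 F2968) (tt N778 (iv F4189)) (tt N763 (iv F4115)) (tt N547 F2969))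
theorem Q549 : ∀ i, i < 549 → P i := stepQ 548 Q548 (allL N548 (tt N782 D797) (tt N378 (iv D551)) (tt N413 F2970) (tt N548 F2971) (tt N783 D798) (tt N380 F2972) (tt N779 (iv F4194)) (tt N548 F2973) (tt N766 (iv F4129)) (tt N548 F2974))
theorem Q550 : ∀ i, i < 550 → P i := stepQ 549 Q549 (allL N549 (tt N549 F2975) (tt N783 (iv F4211)) (tt N379 F2976) (tt N784 D799) (tt N378 (iv D552)) (tt N785 D800) (tt N780 (iv F4198)) (tt N549 F2977) (tt N767 (iv F4133)) (tt N549 F2978))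
theorem Q551 : ∀ i, i < 551 → P i := stepQ 550 Q550 (allL N550 (tt N550 F2979) (tt N415 F2980) (tt N785 (iv F4221)) (tt N550 F2981) (tt N382 F2982) (tt N379 (iv D553)) (tt N786 D801) (tt N550 F2983) (tt N768 (iv F4138)) (tt N550 F2984))
theorem Q552 : ∀ i, i < 552 → P i := stepQ 551 Q551 (allL N551 (tt N380 (iv D554)) (tt N551 F2985) (tt N416 F2986) (tt N551 F2987) (tt N787 D802) (tt N782 (iv F4208)) (tt N551 F2988) (tt N551 F2989) (tt N772 (iv F4160)) (tt N551 F2990))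
theorem Q553 : ∀ i, i < 553 → P i := stepQ 552 Q552 (allL N552 (tt N787 (iv F4230)) (tt N381 F2991) (tt N417 F2992) (tt N788 D803) (tt N380 (iv D555)) (tt N789 D804) (tt N552 F2993) (tt N552 F2994) (tt N773 (iv F4165)) (tt N552 F2995))
theorem Q554 : ∀ i, i < 554 → P i := stepQ 553 Q553 (allL N553 (tt N553 F2996) (tt N788 (iv F4236)) (tt N383 F2997) (tt N381 (iv D556)) (tt N553 F2998) (tt N790 D805) (tt N553 F2999) (tt N553 F3000) (tt N791 D806) (tt N553 F3001))
theorem Q555 : ∀ i, i < 555 → P i := stepQ 554 Q554 (allL N554 (tt N554 F3002) (tt N789 (iv F4242)) (tt N382 F3003) (tt N790 (iv F4248)) (tt N785 (iv F4222)) (tt N381 (iv D557)) (tt N792 D807) (tt N554 F3004) (tt N775 (iv F4173)) (tt N554 F3005))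
theorem Q556 : ∀ i, i < 556 → P i := stepQ 555 Q555 (allL N555 (tt N555 F3006) (tt N419 F3007) (tt N792 (iv F4257)) (tt N385 F3008) (tt N786 (iv F4228)) (tt N555 F3009) (tt N382 (iv D558)) (tt N793 D808) (tt N776 (iv F4178)) (tt N555 F3010))
theorem Q557 : ∀ i, i < 557 → P i := stepQ 556 Q556 (allL N556 (tt N556 F3011) (tt N556 F3012) (tt N790 (iv F4247)) (tt N384 F3013) (tt N794 D809) (tt N383 (iv D559)) (tt N795 D810) (tt N556 F3014) (tt N796 D811) (tt N556 F3015))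
theorem Q558 : ∀ i, i < 558 → P i := stepQ 557 Q557 (allL N557 (tt N557 F3016) (tt N557 F3017) (tt N791 (iv F4252)) (tt N557 F3018) (tt N557 F3019) (tt N796 (iv F4280)) (tt N557 F3020) (tt N557 F3021) (tt N383 (iv D560)) (tt N797 D812))
theorem Q559 : ∀ i, i < 559 → P i := stepQ 558 Q558 (allL N558 (tt N558 F3022) (tt N558 F3023) (tt N385 F3024) (tt N795 (iv F4274)) (tt N558 F3025) (tt N558 F3026) (tt N384 (iv D561)) (tt N798 D813) (tt N558 F3027) (tt N558 F3028))
theorem Q560 : ∀ i, i < 560 → P i := stepQ 559 Q559 (allL N559 (tt N559 F3029) (tt N420 F3030) (tt N798 (iv F4291)) (tt N793 (iv F4262)) (tt N559 F3031) (tt N559 F3032) (tt N559 F3033) (tt N385 (iv D562)) (tt N559 F3034) (tt N559 F3035))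
theorem Q561 : ∀ i, i < 561 → P i := stepQ 560 Q560 (allL N560 (tt N429 F3036) (tt N743 (iv F4005)) (tt N560 F3037) (tt N560 F3038) (tt N560 F3039) (tt N560 F3040) (tt N386 (iv D563)) (tt N560 F3041) (tt N799 D814) (tt N800 D815))
theorem Q562 : ∀ i, i < 562 → P i := stepQ 561 Q561 (allL N561 (tt N430 F3042) (tt N744 (iv F4011)) (tt N561 F3043) (tt N801 D816) (tt N561 F3044) (tt N389 F3045) (tt N799 (iv F4301)) (tt N387 F3046) (tt N386 (iv D564)) (tt N802 D817))
theorem Q563 : ∀ i, i < 563 → P i := stepQ 562 Q562 (allL N562 (tt N431 F3047) (tt N745 (iv F4016)) (tt N562 F3048) (tt N562 F3049) (tt N562 F3050) (tt N390 F3051) (tt N800 (iv F4308)) (tt N388 F3052) (tt N803 D818) (tt N386 (iv D565)))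
theorem Q564 : ∀ i, i < 564 → P i := stepQ 563 Q563 (allL N563 (tt N432 F3053) (tt N746 (iv F4022)) (tt N804 D819) (tt N387 (iv D566)) (tt N805 D820) (tt N391 F3054) (tt N563 F3055) (tt N801 (iv F4312)) (tt N563 F3056) (tt N806 D821))
theorem Q565 : ∀ i, i < 565 → P i := stepQ 564 Q564 (allL N564 (tt N433 F3057) (tt N747 (iv F4028)) (tt N564 F3058) (tt N806 (iv F4336)) (tt N564 F3059) (tt N392 F3060) (tt N564 F3061) (tt N802 (iv F4318)) (tt N807 D822) (tt N387 (iv D567)))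
theorem Q566 : ∀ i, i < 566 → P i := stepQ 565 Q565 (allL N565 (tt N434 F3062) (tt N748 (iv F4033)) (tt N565 F3063) (tt N808 D823) (tt N565 F3064) (tt N393 F3065) (tt N565 F3066) (tt N803 (iv F4323)) (tt N388 (iv D568)) (tt N807 (iv F4344)))
theorem Q567 : ∀ i, i < 567 → P i := stepQ 566 Q566 (allL N566 (tt N435 F3067) (tt N749 (iv F4038)) (tt N809 D824) (tt N389 (iv D569)) (tt N566 F3068) (tt N801 (iv F4311)) (tt N566 F3069) (tt N391 F3070) (tt N566 F3071) (tt N810 D825))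
theorem Q568 : ∀ i, i < 568 → P i := stepQ 567 Q567 (allL N567 (tt N436 F3072) (tt N750 (iv F4045)) (tt N567 F3073) (tt N810 (iv F4357)) (tt N398 F3074) (tt N802 (iv F4317)) (tt N567 F3075) (tt N392 F3076) (tt N811 D826) (tt N389 (iv D570)))
theorem Q569 : ∀ i, i < 569 → P i := stepQ 568 Q568 (allL N568 (tt N437 F3077) (tt N751 (iv F4050)) (tt N568 F3078) (tt N812 D827) (tt N399 F3079) (tt N803 (iv F4322)) (tt N568 F3080) (tt N393 F3081) (tt N390 (iv D571)) (tt N811 (iv F4366)))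
theorem Q570 : ∀ i, i < 570 → P i := stepQ 569 Q569 (allL N569 (tt N438 F3082) (tt N569 F3083) (tt N391 (iv D572)) (tt N569 F3084) (tt N569 F3085) (tt N804 (iv F4327)) (tt N394 F3086) (tt N809 (iv F4354)) (tt N569 F3087) (tt N813 D828))
theorem Q571 : ∀ i, i < 571 → P i := stepQ 570 Q570 (allL N570 (tt N439 F3088) (tt N752 (iv F4055)) (tt N813 (iv F4373)) (tt N392 F3089) (tt N570 F3090) (tt N806 (iv F4337)) (tt N395 F3091) (tt N810 (iv F4360)) (tt N814 D829) (tt N391 (iv D573)))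
theorem Q572 : ∀ i, i < 572 → P i := stepQ 571 Q571 (allL N571 (tt N440 F3092) (tt N753 (iv F4061)) (tt N571 F3093) (tt N815 D830) (tt N400 F3094) (tt N807 (iv F4342)) (tt N396 F3095) (tt N811 (iv F4365)) (tt N392 (iv D574)) (tt N393 F3096))
theorem Q573 : ∀ i, i < 573 → P i := stepQ 572 Q572 (allL N572 (tt N441 F3097) (tt N754 (iv F4066)) (tt N816 D831) (tt N393 (iv D575)) (tt N817 D832) (tt N808 (iv F4346)) (tt N397 F3098) (tt N812 (iv F4369)) (tt N572 F3099) (tt N815 (iv F4383)))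
theorem Q574 : ∀ i, i < 574 → P i := stepQ 573 Q573 (allL N573 (tt N443 F3100) (tt N573 F3101) (tt N395 F3102) (tt N573 F3103) (tt N573 F3104) (tt N573 F3105) (tt N813 (iv F4376)) (tt N573 F3106) (tt N500 F202033) (tt N394 (iv D576)))
theorem Q575 : ∀ i, i < 575 → P i := stepQ 574 Q574 (allL N574 (tt N444 F3107) (tt N755 (iv F4070)) (tt N500 (iv F201615)) (tt N818 D834) (tt N574 F3108) (tt N574 F3109) (tt N814 (iv F4379)) (tt N574 F3110) (tt N395 (iv D577)) (tt N574 F3111))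
theorem Q576 : ∀ i, i < 576 → P i := stepQ 575 Q575 (allL N575 (tt N445 F3112) (tt N756 (iv F4077)) (tt N819 D835) (tt N396 (iv D578)) (tt N820 D836) (tt N575 F3113) (tt N815 (iv F4382)) (tt N575 F3114) (tt N818 (iv F4402)) (tt N397 F3115))
theorem Q577 : ∀ i, i < 577 → P i := stepQ 576 Q576 (allL N576 (tt N446 F3116) (tt N821 D837) (tt N397 (iv D579)) (tt N576 F3117) (tt N822 D838) (tt N576 F3118) (tt N816 (iv F4386)) (tt N576 F3119) (tt N576 F3120) (tt N819 (iv F4408)))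
theorem Q578 : ∀ i, i < 578 → P i := stepQ 577 Q577 (allL N577 (tt N447 F3121) (tt N758 (iv F4086)) (tt N822 (iv F4418)) (tt N404 F3122) (tt N397 (iv D580)) (tt N823 D839) (tt N817 (iv F4390)) (tt N577 F3123) (tt N577 F3124) (tt N820 (iv F4412)))
theorem Q579 : ∀ i, i < 579 → P i := stepQ 578 Q578 (allL N578 (tt N448 F3125) (tt N759 (iv F4091)) (tt N578 F3126) (tt N824 D840) (tt N811 (iv F4363)) (tt N578 F3127) (tt N578 F3128) (tt N400 F3129) (tt N398 (iv D581)) (tt N399 F3130))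
theorem Q580 : ∀ i, i < 580 → P i := stepQ 579 Q579 (allL N579 (tt N449 F3131) (tt N760 (iv F4097)) (tt N825 D841) (tt N399 (iv D582)) (tt N826 D842) (tt N579 F3132) (tt N579 F3133) (tt N401 F3134) (tt N410 F3135) (tt N824 (iv F4431)))
theorem Q581 : ∀ i, i < 581 → P i := stepQ 580 Q580 (allL N580 (tt N450 F3136) (tt N761 (iv F4103)) (tt N827 D843) (tt N400 (iv D583)) (tt N828 D844) (tt N580 F3137) (tt N402 F3138) (tt N824 (iv F4429)) (tt N580 F3139) (tt N401 F3140))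
theorem Q582 : ∀ i, i < 582 → P i := stepQ 581 Q581 (allL N581 (tt N451 F3141) (tt N829 D845) (tt N401 (iv D584)) (tt N581 F3142) (tt N830 D846) (tt N581 F3143) (tt N403 F3144) (tt N825 (iv F4436)) (tt N411 F3145) (tt N827 (iv F4447)))
theorem Q583 : ∀ i, i < 583 → P i := stepQ 582 Q582 (allL N582 (tt N452 F3146) (tt N763 (iv F4113)) (tt N830 (iv F4457)) (tt N817 (iv F4389)) (tt N401 (iv D585)) (tt N831 D847) (tt N404 F3147) (tt N826 (iv F4440)) (tt N412 F3148) (tt N828 (iv F4451)))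
theorem Q584 : ∀ i, i < 584 → P i := stepQ 583 Q583 (allL N583 (tt N453 F3149) (tt N832 D848) (tt N402 (iv D586)) (tt N583 F3150) (tt N833 D849) (tt N405 F3151) (tt N827 (iv F4445)) (tt N583 F3152) (tt N583 F3153) (tt N403 F3154))
theorem Q585 : ∀ i, i < 585 → P i := stepQ 584 Q584 (allL N584 (tt N454 F3155) (tt N765 (iv F4122)) (tt N833 (iv F4469)) (tt N820 (iv F4410)) (tt N402 (iv D587)) (tt N834 D850) (tt N828 (iv F4449)) (tt N584 F3156) (tt N584 F3157) (tt N404 F3158))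
theorem Q586 : ∀ i, i < 586 → P i := stepQ 585 Q585 (allL N585 (tt N835 D851) (tt N403 (iv D588)) (tt N766 (iv F4126)) (tt N585 F3159) (tt N836 D852) (tt N407 F3160) (tt N829 (iv F4454)) (tt N585 F3161) (tt N413 F3162) (tt N832 (iv F4467)))
theorem Q587 : ∀ i, i < 587 → P i := stepQ 586 Q586 (allL N586 (tt N456 F3163) (tt N836 (iv F4483)) (tt N404 F3164) (tt N837 D853) (tt N403 (iv D589)) (tt N838 D854) (tt N830 (iv F4458)) (tt N586 F3165) (tt N414 F3166) (tt N833 (iv F4472)))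
theorem Q588 : ∀ i, i < 588 → P i := stepQ 587 Q587 (allL N587 (tt N457 F3167) (tt N768 (iv F4135)) (tt N838 (iv F4490)) (tt N823 (iv F4422)) (tt N409 F3168) (tt N404 (iv D590)) (tt N839 D855) (tt N587 F3169) (tt N415 F3170) (tt N834 (iv F4477)))
theorem Q589 : ∀ i, i < 589 → P i := stepQ 588 Q588 (allL N588 (tt N840 D856) (tt N405 (iv D591)) (tt N769 (iv F4139)) (tt N588 F3171) (tt N841 D857) (tt N832 (iv F4464)) (tt N588 F3172) (tt N588 F3173) (tt N588 F3174) (tt N407 F3175))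
theorem Q590 : ∀ i, i < 590 → P i := stepQ 589 Q589 (allL N589 (tt N459 F3176) (tt N841 (iv F4503)) (tt N406 F3177) (tt N842 D858) (tt N405 (iv D592)) (tt N843 D859) (tt N589 F3178) (tt N589 F3179) (tt N589 F3180) (tt N408 F3181))
theorem Q591 : ∀ i, i < 591 → P i := stepQ 590 Q590 (allL N590 (tt N460 F3182) (tt N771 (iv F4151)) (tt N843 (iv F4515)) (tt N590 F3183) (tt N834 (iv F4474)) (tt N406 (iv D593)) (tt N844 D860) (tt N590 F3184) (tt N590 F3185) (tt N409 F3186))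
theorem Q592 : ∀ i, i < 592 → P i := stepQ 591 Q591 (allL N591 (tt N407 (iv D594)) (tt N461 F3187) (tt N772 (iv F4157)) (tt N591 F3188) (tt N845 D861) (tt N835 (iv F4480)) (tt N591 F3189) (tt N591 F3190) (tt N416 F3191) (tt N840 (iv F4502)))
theorem Q593 : ∀ i, i < 593 → P i := stepQ 592 Q592 (allL N592 (tt N845 (iv F4524)) (tt N408 F3192) (tt N773 (iv F4162)) (tt N846 D862) (tt N407 (iv D595)) (tt N847 D863) (tt N592 F3193) (tt N592 F3194) (tt N417 F3195) (tt N841 (iv F4507)))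
theorem Q594 : ∀ i, i < 594 → P i := stepQ 593 Q593 (allL N593 (tt N463 F3196) (tt N846 (iv F4529)) (tt N593 F3197) (tt N408 (iv D596)) (tt N593 F3198) (tt N848 D864) (tt N593 F3199) (tt N593 F3200) (tt N593 F3201) (tt N842 (iv F4513)))
theorem Q595 : ∀ i, i < 595 → P i := stepQ 594 Q594 (allL N594 (tt N464 F3202) (tt N847 (iv F4534)) (tt N409 F3203) (tt N848 (iv F4539)) (tt N838 (iv F4491)) (tt N408 (iv D597)) (tt N849 D865) (tt N594 F3204) (tt N418 F3205) (tt N843 (iv F4518)))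
theorem Q596 : ∀ i, i < 596 → P i := stepQ 595 Q595 (allL N595 (tt N465 F3206) (tt N776 (iv F4175)) (tt N849 (iv F4543)) (tt N595 F3207) (tt N839 (iv F4495)) (tt N595 F3208) (tt N409 (iv D598)) (tt N850 D866) (tt N419 F3209) (tt N844 (iv F4523)))
theorem Q597 : ∀ i, i < 597 → P i := stepQ 596 Q596 (allL N596 (tt N466 F3210) (tt N851 D867) (tt N410 (iv D599)) (tt N421 F3211) (tt N852 D868) (tt N596 F3212) (tt N596 F3213) (tt N411 F3214) (tt N825 (iv F4437)) (tt N596 F3215))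
theorem Q598 : ∀ i, i < 598 → P i := stepQ 597 Q597 (allL N597 (tt N467 F3216) (tt N778 (iv F4186)) (tt N852 (iv F4557)) (tt N597 F3217) (tt N410 (iv D600)) (tt N853 D869) (tt N597 F3218) (tt N412 F3219) (tt N826 (iv F4441)) (tt N597 F3220))
theorem Q599 : ∀ i, i < 599 → P i := stepQ 598 Q598 (allL N598 (tt N854 D870) (tt N411 (iv D601)) (tt N779 (iv F4191)) (tt N423 F3221) (tt N855 D871) (tt N598 F3222) (tt N413 F3223) (tt N851 (iv F4554)) (tt N829 (iv F4455)) (tt N598 F3224))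
theorem Q600 : ∀ i, i < 600 → P i := stepQ 599 Q599 (allL N599 (tt N469 F3225) (tt N855 (iv F4571)) (tt N412 F3226) (tt N856 D872) (tt N411 (iv D602)) (tt N857 D873) (tt N414 F3227) (tt N852 (iv F4559)) (tt N830 (iv F4459)) (tt N599 F3228))
theorem Q601 : ∀ i, i < 601 → P i := stepQ 600 Q600 (allL N600 (tt N470 F3229) (tt N781 (iv F4201)) (tt N857 (iv F4580)) (tt N600 F3230) (tt N600 F3231) (tt N412 (iv D603)) (tt N858 D874) (tt N853 (iv F4564)) (tt N831 (iv F4462)) (tt N600 F3232))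
theorem Q602 : ∀ i, i < 602 → P i := stepQ 601 Q601 (allL N601 (tt N413 (iv D604)) (tt N471 F3233) (tt N782 (iv F4206)) (tt N426 F3234) (tt N859 D875) (tt N416 F3235) (tt N854 (iv F4569)) (tt N601 F3236) (tt N835 (iv F4482)) (tt N601 F3237))
theorem Q603 : ∀ i, i < 603 → P i := stepQ 602 Q602 (allL N602 (tt N859 (iv F4588)) (tt N414 F3238) (tt N783 (iv F4212)) (tt N860 D876) (tt N413 (iv D605)) (tt N861 D877) (tt N855 (iv F4572)) (tt N602 F3239) (tt N836 (iv F4485)) (tt N602 F3240))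
theorem Q604 : ∀ i, i < 604 → P i := stepQ 603 Q603 (allL N603 (tt N473 F3241) (tt N860 (iv F4592)) (tt N603 F3242) (tt N414 (iv D606)) (tt N428 F3243) (tt N862 D878) (tt N856 (iv F4577)) (tt N603 F3244) (tt N863 D879) (tt N603 F3245))
theorem Q605 : ∀ i, i < 605 → P i := stepQ 604 Q604 (allL N604 (tt N474 F3246) (tt N861 (iv F4596)) (tt N415 F3247) (tt N862 (iv F4602)) (tt N418 F3248) (tt N414 (iv D607)) (tt N864 D880) (tt N604 F3249) (tt N838 (iv F4493)) (tt N604 F3250))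
theorem Q606 : ∀ i, i < 606 → P i := stepQ 605 Q605 (allL N605 (tt N475 F3251) (tt N786 (iv F4226)) (tt N864 (iv F4611)) (tt N605 F3252) (tt N419 F3253) (tt N858 (iv F4586)) (tt N415 (iv D608)) (tt N865 D881) (tt N839 (iv F4496)) (tt N605 F3254))
theorem Q607 : ∀ i, i < 607 → P i := stepQ 606 Q606 (allL N606 (tt N417 F3255) (tt N476 F3256) (tt N787 (iv F4232)) (tt N606 F3257) (tt N416 (iv D609)) (tt N866 D882) (tt N606 F3258) (tt N606 F3259) (tt N845 (iv F4528)) (tt N606 F3260))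
theorem Q608 : ∀ i, i < 608 → P i := stepQ 607 Q607 (allL N607 (tt N866 (iv F4619)) (tt N418 F3261) (tt N789 (iv F4243)) (tt N607 F3262) (tt N861 (iv F4597)) (tt N417 (iv D610)) (tt N867 D883) (tt N607 F3263) (tt N847 (iv F4536)) (tt N607 F3264))
theorem Q609 : ∀ i, i < 609 → P i := stepQ 608 Q608 (allL N608 (tt N478 F3265) (tt N867 (iv F4624)) (tt N419 F3266) (tt N608 F3267) (tt N864 (iv F4612)) (tt N608 F3268) (tt N418 (iv D611)) (tt N868 D884) (tt N849 (iv F4545)) (tt N608 F3269))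
theorem Q610 : ∀ i, i < 610 → P i := stepQ 609 Q609 (allL N609 (tt N479 F3270) (tt N793 (iv F4261)) (tt N868 (iv F4629)) (tt N420 F3271) (tt N865 (iv F4616)) (tt N609 F3272) (tt N609 F3273) (tt N419 (iv D612)) (tt N850 (iv F4550)) (tt N609 F3274))
theorem Q611 : ∀ i, i < 611 → P i := stepQ 610 Q610 (allL N610 (tt N869 D885) (tt N421 (iv D613)) (tt N610 F3275) (tt N851 (iv F4551)) (tt N870 D886) (tt N610 F3276) (tt N610 F3277) (tt N423 F3278) (tt N610 F3279) (tt N610 F3280))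
theorem Q612 : ∀ i, i < 612 → P i := stepQ 611 Q611 (allL N611 (tt N481 F3281) (tt N870 (iv F4641)) (tt N422 F3282) (tt N871 D887) (tt N421 (iv D614)) (tt N872 D888) (tt N611 F3283) (tt N424 F3284) (tt N611 F3285) (tt N611 F3286))
theorem Q613 : ∀ i, i < 613 → P i := stepQ 612 Q612 (allL N612 (tt N482 F3287) (tt N612 F3288) (tt N872 (iv F4653)) (tt N612 F3289) (tt N612 F3290) (tt N422 (iv D615)) (tt N873 D889) (tt N425 F3291) (tt N612 F3292) (tt N612 F3293))
theorem Q614 : ∀ i, i < 614 → P i := stepQ 613 Q613 (allL N613 (tt N423 (iv D616)) (tt N483 F3294) (tt N613 F3295) (tt N854 (iv F4567)) (tt N874 D890) (tt N613 F3296) (tt N426 F3297) (tt N869 (iv F4638)) (tt N613 F3298) (tt N613 F3299))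
theorem Q615 : ∀ i, i < 615 → P i := stepQ 614 Q614 (allL N614 (tt N874 (iv F4666)) (tt N424 F3300) (tt N614 F3301) (tt N875 D891) (tt N423 (iv D617)) (tt N876 D892) (tt N427 F3302) (tt N870 (iv F4644)) (tt N614 F3303) (tt N614 F3304))
theorem Q616 : ∀ i, i < 616 → P i := stepQ 615 Q615 (allL N615 (tt N485 F3305) (tt N875 (iv F4672)) (tt N615 F3306) (tt N424 (iv D618)) (tt N856 (iv F4576)) (tt N877 D893) (tt N428 F3307) (tt N871 (iv F4650)) (tt N878 D894) (tt N615 F3308))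
theorem Q617 : ∀ i, i < 617 → P i := stepQ 616 Q616 (allL N616 (tt N486 F3309) (tt N876 (iv F4675)) (tt N425 F3310) (tt N877 (iv F4683)) (tt N616 F3311) (tt N424 (iv D619)) (tt N616 F3312) (tt N872 (iv F4655)) (tt N616 F3313) (tt N616 F3314))
theorem Q618 : ∀ i, i < 618 → P i := stepQ 617 Q617 (allL N617 (tt N427 F3315) (tt N487 F3316) (tt N617 F3317) (tt N879 D895) (tt N426 (iv D620)) (tt N617 F3318) (tt N874 (iv F4669)) (tt N617 F3319) (tt N617 F3320) (tt N617 F3321))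
theorem Q619 : ∀ i, i < 619 → P i := stepQ 618 Q618 (allL N618 (tt N879 (iv F4690)) (tt N428 F3322) (tt N880 D896) (tt N427 (iv D621)) (tt N860 (iv F4593)) (tt N618 F3323) (tt N875 (iv F4673)) (tt N618 F3324) (tt N881 D897) (tt N618 F3325))
theorem Q620 : ∀ i, i < 620 → P i := stepQ 619 Q619 (allL N619 (tt N489 F3326) (tt N881 (iv F4700)) (tt N619 F3327) (tt N619 F3328) (tt N863 (iv F4608)) (tt N619 F3329) (tt N878 (iv F4689)) (tt N619 F3330) (tt N428 (iv D622)) (tt N882 D898))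
theorem Q621 : ∀ i, i < 621 → P i := stepQ 620 Q620 (allL N620 (tt N799 (iv F4297)) (tt N620 F3331) (tt N620 F3332) (tt N883 D899) (tt N620 F3333) (tt N620 F3334) (tt N430 F3335) (tt N620 F3336) (tt N429 (iv D623)) (tt N884 D900))
theorem Q622 : ∀ i, i < 622 → P i := stepQ 621 Q621 (allL N621 (tt N800 (iv F4303)) (tt N621 F3337) (tt N621 F3338) (tt N621 F3339) (tt N621 F3340) (tt N621 F3341) (tt N431 F3342) (tt N621 F3343) (tt N885 D901) (tt N429 (iv D624)))
theorem Q623 : ∀ i, i < 623 → P i := stepQ 622 Q622 (allL N622 (tt N801 (iv F4310)) (tt N622 F3344) (tt N886 D902) (tt N430 (iv D625)) (tt N887 D903) (tt N435 F3345) (tt N883 (iv F4712)) (tt N432 F3346) (tt N622 F3347) (tt N888 D904))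
theorem Q624 : ∀ i, i < 624 → P i := stepQ 623 Q623 (allL N623 (tt N802 (iv F4314)) (tt N623 F3348) (tt N623 F3349) (tt N888 (iv F4737)) (tt N623 F3350) (tt N436 F3351) (tt N884 (iv F4719)) (tt N433 F3352) (tt N889 D905) (tt N430 (iv D626)))
theorem Q625 : ∀ i, i < 625 → P i := stepQ 624 Q624 (allL N624 (tt N803 (iv F4319)) (tt N624 F3353) (tt N624 F3354) (tt N890 D906) (tt N624 F3355) (tt N437 F3356) (tt N885 (iv F4725)) (tt N434 F3357) (tt N431 (iv D627)) (tt N889 (iv F4745)))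
theorem Q626 : ∀ i, i < 626 → P i := stepQ 625 Q625 (allL N625 (tt N804 (iv F4324)) (tt N891 D907) (tt N432 (iv D628)) (tt N625 F3358) (tt N892 D908) (tt N438 F3359) (tt N625 F3360) (tt N886 (iv F4729)) (tt N625 F3361) (tt N893 D909))
theorem Q627 : ∀ i, i < 627 → P i := stepQ 626 Q626 (allL N626 (tt N805 (iv F4330)) (tt N626 F3362) (tt N892 (iv F4756)) (tt N626 F3363) (tt N432 (iv D629)) (tt N626 F3364) (tt N626 F3365) (tt N887 (iv F4734)) (tt N626 F3366) (tt N894 D910))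
theorem Q628 : ∀ i, i < 628 → P i := stepQ 627 Q627 (allL N627 (tt N806 (iv F4335)) (tt N627 F3367) (tt N893 (iv F4760)) (tt N433 F3368) (tt N894 (iv F4766)) (tt N439 F3369) (tt N627 F3370) (tt N888 (iv F4739)) (tt N895 D911) (tt N432 (iv D630)))
theorem Q629 : ∀ i, i < 629 → P i := stepQ 628 Q628 (allL N628 (tt N807 (iv F4339)) (tt N628 F3371) (tt N628 F3372) (tt N896 D912) (tt N628 F3373) (tt N440 F3374) (tt N628 F3375) (tt N889 (iv F4744)) (tt N433 (iv D631)) (tt N434 F3376))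
theorem Q630 : ∀ i, i < 630 → P i := stepQ 629 Q629 (allL N629 (tt N808 (iv F4345)) (tt N629 F3377) (tt N897 D913) (tt N434 (iv D632)) (tt N898 D914) (tt N441 F3378) (tt N629 F3379) (tt N890 (iv F4748)) (tt N629 F3380) (tt N896 (iv F4776)))
theorem Q631 : ∀ i, i < 631 → P i := stepQ 630 Q630 (allL N630 (tt N809 (iv F4349)) (tt N899 D915) (tt N435 (iv D633)) (tt N630 F3381) (tt N630 F3382) (tt N886 (iv F4728)) (tt N630 F3383) (tt N438 F3384) (tt N630 F3385) (tt N900 D916))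
theorem Q632 : ∀ i, i < 632 → P i := stepQ 631 Q631 (allL N631 (tt N810 (iv F4356)) (tt N631 F3386) (tt N900 (iv F4792)) (tt N436 F3387) (tt N631 F3388) (tt N888 (iv F4738)) (tt N631 F3389) (tt N439 F3390) (tt N901 D917) (tt N435 (iv D634)))
theorem Q633 : ∀ i, i < 633 → P i := stepQ 632 Q632 (allL N632 (tt N811 (iv F4361)) (tt N632 F3391) (tt N632 F3392) (tt N902 D918) (tt N448 F3393) (tt N889 (iv F4743)) (tt N632 F3394) (tt N440 F3395) (tt N436 (iv D635)) (tt N437 F3396))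
theorem Q634 : ∀ i, i < 634 → P i := stepQ 633 Q633 (allL N633 (tt N812 (iv F4367)) (tt N633 F3397) (tt N903 D919) (tt N437 (iv D636)) (tt N904 D920) (tt N890 (iv F4747)) (tt N633 F3398) (tt N441 F3399) (tt N633 F3400) (tt N902 (iv F4805)))
theorem Q635 : ∀ i, i < 635 → P i := stepQ 634 Q634 (allL N634 (tt N634 F3401) (tt N438 (iv D637)) (tt N634 F3402) (tt N634 F3403) (tt N634 F3404) (tt N891 (iv F4753)) (tt N442 F3405) (tt N899 (iv F4790)) (tt N634 F3406) (tt N499 F202086))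
theorem Q636 : ∀ i, i < 636 → P i := stepQ 635 Q635 (allL N635 (tt N813 (iv F4371)) (tt N499 (iv F201676)) (tt N439 F3407) (tt N635 F3408) (tt N635 F3409) (tt N893 (iv F4762)) (tt N443 F3410) (tt N900 (iv F4796)) (tt N496 F201290) (tt N438 (iv D638)))
theorem Q637 : ∀ i, i < 637 → P i := stepQ 636 Q636 (allL N636 (tt N814 (iv F4377)) (tt N636 F3411) (tt N496 (iv F200919)) (tt N905 D923) (tt N636 F3412) (tt N895 (iv F4770)) (tt N444 F3413) (tt N901 (iv F4800)) (tt N439 (iv D639)) (tt N636 F3414))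
theorem Q638 : ∀ i, i < 638 → P i := stepQ 637 Q637 (allL N637 (tt N815 (iv F4381)) (tt N637 F3415) (tt N906 D924) (tt N440 (iv D640)) (tt N907 D925) (tt N896 (iv F4774)) (tt N445 F3416) (tt N902 (iv F4804)) (tt N905 (iv F4827)) (tt N441 F3417))
theorem Q639 : ∀ i, i < 639 → P i := stepQ 638 Q638 (allL N638 (tt N816 (iv F4384)) (tt N908 D926) (tt N441 (iv D641)) (tt N638 F3418) (tt N909 D927) (tt N897 (iv F4778)) (tt N446 F3419) (tt N903 (iv F4808)) (tt N638 F3420) (tt N906 (iv F4831)))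
theorem Q640 : ∀ i, i < 640 → P i := stepQ 639 Q639 (allL N639 (tt N817 (iv F4388)) (tt N639 F3421) (tt N909 (iv F4840)) (tt N452 F3422) (tt N441 (iv D642)) (tt N910 D928) (tt N447 F3423) (tt N904 (iv F4813)) (tt N639 F3424) (tt N907 (iv F4835)))
theorem Q641 : ∀ i, i < 641 → P i := stepQ 640 Q640 (allL N640 (tt N818 (iv F4399)) (tt N640 F3437) (tt N488 (iv F200915)) (tt N444 (iv D645)) (tt N911 D932) (tt N640 F3438) (tt N905 (iv F4826)) (tt N640 F3439) (tt N445 F3440) (tt N640 F3441))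
theorem Q642 : ∀ i, i < 642 → P i := stepQ 641 Q641 (allL N641 (tt N819 (iv F4404)) (tt N489 (iv F200909)) (tt N445 (iv D646)) (tt N641 F3442) (tt N912 D934) (tt N641 F3443) (tt N906 (iv F4830)) (tt N641 F3444) (tt N488 (iv F200916)) (tt N446 F3445))
theorem Q643 : ∀ i, i < 643 → P i := stepQ 642 Q642 (allL N642 (tt N820 (iv F4409)) (tt N642 F3446) (tt N912 (iv F4871)) (tt N454 F3447) (tt N445 (iv D647)) (tt N913 D935) (tt N907 (iv F4834)) (tt N642 F3448) (tt N911 (iv F4864)) (tt N447 F3449))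
theorem Q644 : ∀ i, i < 644 → P i := stepQ 643 Q643 (allL N643 (tt N882 (iv F200921)) (tt N446 (iv D648)) (tt N643 F3450) (tt N643 F3451) (tt N914 D937) (tt N643 F3452) (tt N908 (iv F4838)) (tt N643 F3453) (tt N643 F3454) (tt N489 (iv F200910)))
theorem Q645 : ∀ i, i < 645 → P i := stepQ 644 Q644 (allL N644 (tt N822 (iv F4417)) (tt N914 (iv F4884)) (tt N447 F3455) (tt N915 D938) (tt N446 (iv D649)) (tt N916 D939) (tt N909 (iv F4841)) (tt N644 F3456) (tt N644 F3457) (tt N912 (iv F4873)))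
theorem Q646 : ∀ i, i < 646 → P i := stepQ 645 Q645 (allL N645 (tt N823 (iv F4421)) (tt N645 F3458) (tt N916 (iv F4891)) (tt N457 F3459) (tt N645 F3460) (tt N447 (iv D650)) (tt N917 D940) (tt N645 F3461) (tt N645 F3462) (tt N913 (iv F4878)))
theorem Q647 : ∀ i, i < 647 → P i := stepQ 646 Q646 (allL N646 (tt N824 (iv F4426)) (tt N646 F3463) (tt N918 D941) (tt N448 (iv D651)) (tt N919 D942) (tt N646 F3464) (tt N646 F3465) (tt N450 F3466) (tt N646 F3467) (tt N449 F3468))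
theorem Q648 : ∀ i, i < 648 → P i := stepQ 647 Q647 (allL N647 (tt N825 (iv F4432)) (tt N920 D943) (tt N449 (iv D652)) (tt N647 F3469) (tt N921 D944) (tt N647 F3470) (tt N647 F3471) (tt N451 F3472) (tt N466 F3473) (tt N918 (iv F4904)))
theorem Q649 : ∀ i, i < 649 → P i := stepQ 648 Q648 (allL N648 (tt N826 (iv F4438)) (tt N648 F3474) (tt N921 (iv F4916)) (tt N904 (iv F4811)) (tt N449 (iv D653)) (tt N922 D945) (tt N648 F3475) (tt N452 F3476) (tt N467 F3477) (tt N919 (iv F4909)))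
theorem Q650 : ∀ i, i < 650 → P i := stepQ 649 Q649 (allL N649 (tt N827 (iv F4442)) (tt N923 D946) (tt N450 (iv D654)) (tt N649 F3478) (tt N924 D947) (tt N649 F3479) (tt N453 F3480) (tt N918 (iv F4902)) (tt N649 F3481) (tt N451 F3482))
theorem Q651 : ∀ i, i < 651 → P i := stepQ 650 Q650 (allL N650 (tt N828 (iv F4448)) (tt N650 F3483) (tt N924 (iv F4930)) (tt N907 (iv F4833)) (tt N450 (iv D655)) (tt N925 D948) (tt N454 F3484) (tt N919 (iv F4907)) (tt N650 F3485) (tt N452 F3486))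
theorem Q652 : ∀ i, i < 652 → P i := stepQ 651 Q651 (allL N651 (tt N926 D949) (tt N451 (iv D656)) (tt N651 F3487) (tt N651 F3488) (tt N927 D950) (tt N651 F3489) (tt N455 F3490) (tt N920 (iv F4914)) (tt N468 F3491) (tt N923 (iv F4929)))
theorem Q653 : ∀ i, i < 653 → P i := stepQ 652 Q652 (allL N652 (tt N830 (iv F4456)) (tt N927 (iv F4943)) (tt N452 F3492) (tt N928 D951) (tt N451 (iv D657)) (tt N929 D952) (tt N456 F3493) (tt N921 (iv F4918)) (tt N469 F3494) (tt N924 (iv F4933)))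
theorem Q654 : ∀ i, i < 654 → P i := stepQ 653 Q653 (allL N653 (tt N831 (iv F4460)) (tt N653 F3495) (tt N929 (iv F4949)) (tt N910 (iv F4844)) (tt N653 F3496) (tt N452 (iv D658)) (tt N930 D953) (tt N922 (iv F4922)) (tt N470 F3497) (tt N925 (iv F4937)))
theorem Q655 : ∀ i, i < 655 → P i := stepQ 654 Q654 (allL N654 (tt N931 D954) (tt N453 (iv D659)) (tt N654 F3498) (tt N654 F3499) (tt N932 D955) (tt N458 F3500) (tt N923 (iv F4927)) (tt N654 F3501) (tt N654 F3502) (tt N455 F3503))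
theorem Q656 : ∀ i, i < 656 → P i := stepQ 655 Q655 (allL N655 (tt N833 (iv F4468)) (tt N932 (iv F4962)) (tt N454 F3504) (tt N933 D956) (tt N453 (iv D660)) (tt N934 D957) (tt N924 (iv F4931)) (tt N655 F3505) (tt N655 F3506) (tt N456 F3507))
theorem Q657 : ∀ i, i < 657 → P i := stepQ 656 Q656 (allL N656 (tt N834 (iv F4473)) (tt N656 F3508) (tt N934 (iv F4970)) (tt N913 (iv F4875)) (tt N460 F3509) (tt N454 (iv D661)) (tt N935 D958) (tt N656 F3510) (tt N656 F3511) (tt N457 F3512))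
theorem Q658 : ∀ i, i < 658 → P i := stepQ 657 Q657 (allL N657 (tt N455 (iv D662)) (tt N835 (iv F4478)) (tt N657 F3513) (tt N657 F3514) (tt N936 D959) (tt N461 F3515) (tt N926 (iv F4941)) (tt N657 F3516) (tt N471 F3517) (tt N931 (iv F4961)))
theorem Q659 : ∀ i, i < 659 → P i := stepQ 658 Q658 (allL N658 (tt N936 (iv F4979)) (tt N456 F3518) (tt N658 F3519) (tt N937 D960) (tt N455 (iv D663)) (tt N938 D961) (tt N927 (iv F4945)) (tt N658 F3520) (tt N472 F3521) (tt N932 (iv F4966)))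
theorem Q660 : ∀ i, i < 660 → P i := stepQ 659 Q659 (allL N659 (tt N837 (iv F4486)) (tt N937 (iv F4983)) (tt N915 (iv F4888)) (tt N456 (iv D664)) (tt N659 F3522) (tt N939 D962) (tt N928 (iv F4948)) (tt N659 F3523) (tt N940 D963) (tt N933 (iv F4969)))
theorem Q661 : ∀ i, i < 661 → P i := stepQ 660 Q660 (allL N660 (tt N838 (iv F4489)) (tt N938 (iv F4986)) (tt N457 F3524) (tt N939 (iv F4991)) (tt N464 F3525) (tt N456 (iv D665)) (tt N941 D964) (tt N660 F3526) (tt N474 F3527) (tt N934 (iv F4974)))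
theorem Q662 : ∀ i, i < 662 → P i := stepQ 661 Q661 (allL N661 (tt N839 (iv F4494)) (tt N661 F3528) (tt N941 (iv F4996)) (tt N917 (iv F4896)) (tt N465 F3529) (tt N930 (iv F4954)) (tt N457 (iv D666)) (tt N942 D965) (tt N475 F3530) (tt N935 (iv F4978)))
theorem Q663 : ∀ i, i < 663 → P i := stepQ 662 Q662 (allL N662 (tt N458 (iv D667)) (tt N840 (iv F4497)) (tt N662 F3531) (tt N662 F3532) (tt N943 D966) (tt N931 (iv F4958)) (tt N662 F3533) (tt N662 F3534) (tt N662 F3535) (tt N461 F3536))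
theorem Q664 : ∀ i, i < 664 → P i := stepQ 663 Q663 (allL N663 (tt N943 (iv F5003)) (tt N459 F3537) (tt N663 F3538) (tt N944 D967) (tt N458 (iv D668)) (tt N945 D968) (tt N663 F3539) (tt N663 F3540) (tt N663 F3541) (tt N462 F3542))
theorem Q665 : ∀ i, i < 665 → P i := stepQ 664 Q664 (allL N664 (tt N842 (iv F4508)) (tt N944 (iv F5009)) (tt N664 F3543) (tt N459 (iv D669)) (tt N664 F3544) (tt N946 D969) (tt N664 F3545) (tt N664 F3546) (tt N947 D970) (tt N463 F3547))
theorem Q666 : ∀ i, i < 666 → P i := stepQ 665 Q665 (allL N665 (tt N843 (iv F4514)) (tt N945 (iv F5014)) (tt N460 F3548) (tt N946 (iv F5020)) (tt N934 (iv F4971)) (tt N459 (iv D670)) (tt N948 D971) (tt N665 F3549) (tt N665 F3550) (tt N464 F3551))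
theorem Q667 : ∀ i, i < 667 → P i := stepQ 666 Q666 (allL N666 (tt N844 (iv F4519)) (tt N666 F3552) (tt N948 (iv F5029)) (tt N666 F3553) (tt N935 (iv F4976)) (tt N666 F3554) (tt N460 (iv D671)) (tt N949 D972) (tt N666 F3555) (tt N465 F3556))
theorem Q668 : ∀ i, i < 668 → P i := stepQ 667 Q667 (allL N667 (tt N462 F3557) (tt N845 (iv F4525)) (tt N667 F3558) (tt N950 D973) (tt N461 (iv D672)) (tt N951 D974) (tt N667 F3559) (tt N667 F3560) (tt N476 F3561) (tt N943 (iv F5008)))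
theorem Q669 : ∀ i, i < 669 → P i := stepQ 668 Q668 (allL N668 (tt N950 (iv F5039)) (tt N463 F3562) (tt N952 D975) (tt N462 (iv D673)) (tt N668 F3563) (tt N953 D976) (tt N668 F3564) (tt N668 F3565) (tt N668 F3566) (tt N944 (iv F5013)))
theorem Q670 : ∀ i, i < 670 → P i := stepQ 669 Q669 (allL N669 (tt N951 (iv F5044)) (tt N464 F3567) (tt N669 F3568) (tt N953 (iv F5055)) (tt N938 (iv F4988)) (tt N462 (iv D674)) (tt N954 D977) (tt N669 F3569) (tt N477 F3570) (tt N945 (iv F5018)))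
theorem Q671 : ∀ i, i < 671 → P i := stepQ 670 Q670 (allL N670 (tt N848 (iv F4537)) (tt N953 (iv F5054)) (tt N670 F3571) (tt N464 F3572) (tt N955 D978) (tt N463 (iv D675)) (tt N956 D979) (tt N670 F3573) (tt N670 F3574) (tt N946 (iv F5022)))
theorem Q672 : ∀ i, i < 672 → P i := stepQ 671 Q671 (allL N671 (tt N849 (iv F4542)) (tt N954 (iv F5058)) (tt N465 F3575) (tt N956 (iv F5067)) (tt N941 (iv F4997)) (tt N671 F3576) (tt N464 (iv D676)) (tt N957 D980) (tt N478 F3577) (tt N948 (iv F5032)))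
theorem Q673 : ∀ i, i < 673 → P i := stepQ 672 Q672 (allL N672 (tt N850 (iv F4546)) (tt N672 F3578) (tt N957 (iv F5070)) (tt N672 F3579) (tt N942 (iv F5000)) (tt N672 F3580) (tt N672 F3581) (tt N465 (iv D677)) (tt N479 F3582) (tt N949 (iv F5038)))
theorem Q674 : ∀ i, i < 674 → P i := stepQ 673 Q673 (allL N673 (tt N958 D981) (tt N466 (iv D678)) (tt N673 F3583) (tt N480 F3584) (tt N959 D982) (tt N673 F3585) (tt N673 F3586) (tt N468 F3587) (tt N920 (iv F4915)) (tt N673 F3588))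
theorem Q675 : ∀ i, i < 675 → P i := stepQ 674 Q674 (allL N674 (tt N852 (iv F4556)) (tt N959 (iv F5080)) (tt N467 F3589) (tt N960 D983) (tt N466 (iv D679)) (tt N961 D984) (tt N674 F3590) (tt N469 F3591) (tt N921 (iv F4919)) (tt N674 F3592))
theorem Q676 : ∀ i, i < 676 → P i := stepQ 675 Q675 (allL N675 (tt N853 (iv F4561)) (tt N675 F3593) (tt N961 (iv F5090)) (tt N675 F3594) (tt N675 F3595) (tt N467 (iv D680)) (tt N962 D985) (tt N470 F3596) (tt N922 (iv F4923)) (tt N675 F3597))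
theorem Q677 : ∀ i, i < 677 → P i := stepQ 676 Q676 (allL N676 (tt N468 (iv D681)) (tt N854 (iv F4566)) (tt N676 F3598) (tt N483 F3599) (tt N963 D986) (tt N676 F3600) (tt N471 F3601) (tt N958 (iv F5078)) (tt N926 (iv F4942)) (tt N676 F3602))
theorem Q678 : ∀ i, i < 678 → P i := stepQ 677 Q677 (allL N677 (tt N963 (iv F5099)) (tt N469 F3603) (tt N677 F3604) (tt N964 D987) (tt N468 (iv D682)) (tt N965 D988) (tt N472 F3605) (tt N959 (iv F5083)) (tt N927 (iv F4946)) (tt N677 F3606))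
theorem Q679 : ∀ i, i < 679 → P i := stepQ 678 Q678 (allL N678 (tt N856 (iv F4574)) (tt N964 (iv F5103)) (tt N678 F3607) (tt N469 (iv D683)) (tt N485 F3608) (tt N966 D989) (tt N473 F3609) (tt N960 (iv F5088)) (tt N967 D990) (tt N678 F3610))
theorem Q680 : ∀ i, i < 680 → P i := stepQ 679 Q679 (allL N679 (tt N857 (iv F4579)) (tt N965 (iv F5107)) (tt N470 F3611) (tt N966 (iv F5112)) (tt N679 F3612) (tt N469 (iv D684)) (tt N968 D991) (tt N961 (iv F5092)) (tt N929 (iv F4951)) (tt N679 F3613))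
theorem Q681 : ∀ i, i < 681 → P i := stepQ 680 Q680 (allL N680 (tt N858 (iv F4583)) (tt N680 F3614) (tt N968 (iv F5117)) (tt N680 F3615) (tt N680 F3616) (tt N475 F3617) (tt N470 (iv D685)) (tt N969 D992) (tt N930 (iv F4955)) (tt N680 F3618))
theorem Q682 : ∀ i, i < 682 → P i := stepQ 681 Q681 (allL N681 (tt N472 F3619) (tt N859 (iv F4589)) (tt N681 F3620) (tt N970 D993) (tt N471 (iv D686)) (tt N971 D994) (tt N963 (iv F5101)) (tt N681 F3621) (tt N936 (iv F4982)) (tt N681 F3622))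
theorem Q683 : ∀ i, i < 683 → P i := stepQ 682 Q682 (allL N682 (tt N970 (iv F5126)) (tt N473 F3623) (tt N911 F200574) (tt N472 (iv D687)) (tt N488 F3624) (tt N972 D996) (tt N964 (iv F5105)) (tt N682 F3625) (tt N912 F200575) (tt N682 F3626))
theorem Q684 : ∀ i, i < 684 → P i := stepQ 683 Q683 (allL N683 (tt N971 (iv F5130)) (tt N474 F3627) (tt N683 F3628) (tt N972 (iv F5141)) (tt N477 F3629) (tt N472 (iv D688)) (tt N973 D998) (tt N683 F3630) (tt N938 (iv F4990)) (tt N683 F3631))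
theorem Q685 : ∀ i, i < 685 → P i := stepQ 684 Q684 (allL N684 (tt N862 (iv F4600)) (tt N972 (iv F5140)) (tt N684 F3632) (tt N474 F3633) (tt N684 F3634) (tt N473 (iv D689)) (tt N974 D999) (tt N684 F3635) (tt N975 D1000) (tt N684 F3636))
theorem Q686 : ∀ i, i < 686 → P i := stepQ 685 Q685 (allL N685 (tt N863 (iv F4606)) (tt N912 F200570) (tt N685 F3637) (tt N940 (iv F4993)) (tt N489 F3638) (tt N975 (iv F5158)) (tt N967 (iv F5116)) (tt N685 F3639) (tt N473 (iv D690)) (tt N914 F200571))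
theorem Q687 : ∀ i, i < 687 → P i := stepQ 686 Q686 (allL N686 (tt N864 (iv F4610)) (tt N973 (iv F5148)) (tt N475 F3640) (tt N974 (iv F5153)) (tt N478 F3641) (tt N968 (iv F5119)) (tt N474 (iv D691)) (tt N976 D1002) (tt N941 (iv F4998)) (tt N686 F3642))
theorem Q688 : ∀ i, i < 688 → P i := stepQ 687 Q687 (allL N687 (tt N865 (iv F4614)) (tt N687 F3643) (tt N976 (iv F5164)) (tt N687 F3644) (tt N479 F3645) (tt N969 (iv F5124)) (tt N687 F3646) (tt N475 (iv D692)) (tt N942 (iv F5002)) (tt N687 F3647))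
theorem Q689 : ∀ i, i < 689 → P i := stepQ 688 Q688 (allL N688 (tt N477 F3648) (tt N866 (iv F4620)) (tt N688 F3649) (tt N688 F3650) (tt N971 (iv F5132)) (tt N476 (iv D693)) (tt N977 D1003) (tt N688 F3651) (tt N951 (iv F5047)) (tt N688 F3652))
theorem Q690 : ∀ i, i < 690 → P i := stepQ 689 Q689 (allL N689 (tt N977 (iv F5168)) (tt N478 F3653) (tt N689 F3654) (tt N689 F3655) (tt N973 (iv F5150)) (tt N689 F3656) (tt N477 (iv D694)) (tt N978 D1004) (tt N954 (iv F5061)) (tt N689 F3657))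
theorem Q691 : ∀ i, i < 691 → P i := stepQ 690 Q690 (allL N690 (tt N868 (iv F4628)) (tt N978 (iv F5173)) (tt N479 F3658) (tt N690 F3659) (tt N976 (iv F5165)) (tt N690 F3660) (tt N690 F3661) (tt N478 (iv D695)) (tt N957 (iv F5073)) (tt N690 F3662))
theorem Q692 : ∀ i, i < 692 → P i := stepQ 691 Q691 (allL N691 (tt N480 (iv D696)) (tt N869 (iv F4634)) (tt N490 F3663) (tt N958 (iv F5075)) (tt N979 D1005) (tt N691 F3664) (tt N691 F3665) (tt N483 F3666) (tt N691 F3667) (tt N691 F3668))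
theorem Q693 : ∀ i, i < 693 → P i := stepQ 692 Q692 (allL N692 (tt N979 (iv F5179)) (tt N481 F3669) (tt N491 F3670) (tt N980 D1006) (tt N480 (iv D697)) (tt N981 D1007) (tt N692 F3671) (tt N484 F3672) (tt N692 F3673) (tt N692 F3674))
theorem Q694 : ∀ i, i < 694 → P i := stepQ 693 Q693 (allL N693 (tt N871 (iv F4647)) (tt N980 (iv F5185)) (tt N693 F3675) (tt N481 (iv D698)) (tt N960 (iv F5086)) (tt N982 D1008) (tt N693 F3676) (tt N485 F3677) (tt N983 D1009) (tt N693 F3678))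
theorem Q695 : ∀ i, i < 695 → P i := stepQ 694 Q694 (allL N694 (tt N872 (iv F4652)) (tt N981 (iv F5189)) (tt N482 F3679) (tt N982 (iv F5196)) (tt N694 F3680) (tt N481 (iv D699)) (tt N984 D1010) (tt N486 F3681) (tt N694 F3682) (tt N694 F3683))
theorem Q696 : ∀ i, i < 696 → P i := stepQ 695 Q695 (allL N695 (tt N873 (iv F4658)) (tt N494 F3684) (tt N984 (iv F5203)) (tt N695 F3685) (tt N695 F3686) (tt N695 F3687) (tt N482 (iv D700)) (tt N695 F3688) (tt N695 F3689) (tt N695 F3690))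
theorem Q697 : ∀ i, i < 697 → P i := stepQ 696 Q696 (allL N696 (tt N484 F3691) (tt N874 (iv F4667)) (tt N495 F3692) (tt N985 D1011) (tt N483 (iv D701)) (tt N986 D1012) (tt N487 F3693) (tt N979 (iv F5182)) (tt N696 F3694) (tt N696 F3695))
theorem Q698 : ∀ i, i < 698 → P i := stepQ 697 Q697 (allL N697 (tt N985 (iv F5209)) (tt N485 F3696) (tt N905 F200572) (tt N484 (iv D702)) (tt N964 (iv F5104)) (tt N987 D1014) (tt N488 F3697) (tt N980 (iv F5187)) (tt N906 F200573) (tt N697 F3698))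
theorem Q699 : ∀ i, i < 699 → P i := stepQ 698 Q698 (allL N698 (tt N986 (iv F5212)) (tt N486 F3699) (tt N497 F3700) (tt N987 (iv F5223)) (tt N698 F3701) (tt N484 (iv D703)) (tt N698 F3702) (tt N981 (iv F5192)) (tt N698 F3703) (tt N698 F3704))
theorem Q700 : ∀ i, i < 700 → P i := stepQ 699 Q699 (allL N699 (tt N877 (iv F4681)) (tt N987 (iv F5222)) (tt N699 F3705) (tt N486 F3706) (tt N988 D1016) (tt N485 (iv D704)) (tt N699 F3707) (tt N982 (iv F5197)) (tt N989 D1017) (tt N699 F3708))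
theorem Q701 : ∀ i, i < 701 → P i := stepQ 700 Q700 (allL N700 (tt N878 (iv F4686)) (tt N906 F200568) (tt N700 F3709) (tt N700 F3710) (tt N967 (iv F5115)) (tt N989 (iv F5235)) (tt N489 F3711) (tt N983 (iv F5202)) (tt N485 (iv D705)) (tt N908 F200569))
theorem Q702 : ∀ i, i < 702 → P i := stepQ 701 Q701 (allL N701 (tt N488 F3712) (tt N879 (iv F4691)) (tt N818 F201206) (tt N487 (iv D706)) (tt N970 (iv F5127)) (tt N701 F3713) (tt N985 (iv F5210)) (tt N701 F3714) (tt N819 F201207) (tt N701 F3715))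
theorem Q703 : ∀ i, i < 703 → P i := stepQ 702 Q702 (allL N702 (tt N491 F3730) (tt N702 F3731) (tt N979 (iv F5180)) (tt N990 D1023) (tt N490 (iv D710)) (tt N991 D1024) (tt N702 F3732) (tt N495 F3733) (tt N702 F3734) (tt N702 F3735))
theorem Q704 : ∀ i, i < 704 → P i := stepQ 703 Q703 (allL N703 (tt N990 (iv F5259)) (tt N492 F3736) (tt N901 F200648) (tt N491 (iv D711)) (tt N703 F3737) (tt N992 D1026) (tt N703 F3738) (tt N496 F3739) (tt N900 (iv F200925)) (tt N703 F3740))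
theorem Q705 : ∀ i, i < 705 → P i := stepQ 704 Q704 (allL N704 (tt N991 (iv F5265)) (tt N493 F3741) (tt N981 (iv F5190)) (tt N992 (iv F5277)) (tt N704 F3742) (tt N491 (iv D712)) (tt N993 D1028) (tt N497 F3743) (tt N704 F3744) (tt N704 F3745))
theorem Q706 : ∀ i, i < 706 → P i := stepQ 705 Q705 (allL N705 (tt N705 F3746) (tt N992 (iv F5276)) (tt N705 F3747) (tt N493 F3748) (tt N994 D1029) (tt N492 (iv D713)) (tt N995 D1030) (tt N498 F3749) (tt N996 D1031) (tt N705 F3750))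
theorem Q707 : ∀ i, i < 707 → P i := stepQ 706 Q706 (allL N706 (tt N706 F3751) (tt N900 F201303) (tt N706 F3752) (tt N706 F3753) (tt N706 F3754) (tt N996 (iv F5306)) (tt N706 F3755) (tt N499 F3756) (tt N492 (iv D714)) (tt N899 (iv F201684)))
theorem Q708 : ∀ i, i < 708 → P i := stepQ 707 Q707 (allL N707 (tt N707 F3757) (tt N993 (iv F5285)) (tt N494 F3758) (tt N995 (iv F5299)) (tt N707 F3759) (tt N707 F3760) (tt N493 (iv D715)) (tt N707 F3761) (tt N707 F3762) (tt N707 F3763))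
theorem Q709 : ∀ i, i < 709 → P i := stepQ 708 Q708 (allL N708 (tt N496 F3764) (tt N708 F3765) (tt N814 F201210) (tt N495 (iv D716)) (tt N708 F3766) (tt N997 D1034) (tt N500 F3767) (tt N990 (iv F5263)) (tt N813 (iv F201613)) (tt N708 F3768))
theorem Q710 : ∀ i, i < 710 → P i := stepQ 709 Q709 (allL N709 (tt N497 F3769) (tt N709 F3770) (tt N986 (iv F5213)) (tt N997 (iv F5321)) (tt N709 F3771) (tt N495 (iv D717)) (tt N709 F3772) (tt N991 (iv F5268)) (tt N709 F3773) (tt N709 F3774))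
theorem Q711 : ∀ i, i < 711 → P i := stepQ 710 Q710 (allL N710 (tt N997 (iv F5319)) (tt N498 F3779) (tt N895 F201297) (tt N497 F3780) (tt N998 D1038) (tt N496 (iv D719)) (tt N710 F3781) (tt N992 (iv F5278)) (tt N893 (iv F201674)) (tt N710 F3782))
theorem Q712 : ∀ i, i < 712 → P i := stepQ 711 Q711 (allL N711 (tt N711 F3787) (tt N998 (iv F5337)) (tt N711 F3788) (tt N711 F3789) (tt N498 (iv D721)) (tt N711 F3790) (tt N711 F3791) (tt N994 (iv F5295)) (tt N999 D1041) (tt N711 F3792))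
theorem Q713 : ∀ i, i < 713 → P i := stepQ 712 Q712 (allL N712 (tt N712 F3793) (tt N893 F202083) (tt N712 F3794) (tt N712 F3795) (tt N999 (iv F5353)) (tt N499 F3796) (tt N712 F3797) (tt N996 (iv F5307)) (tt N498 (iv D722)) (tt N891 (iv F202476)))
theorem Q714 : ∀ i, i < 714 → P i := stepQ 713 Q713 (allL N713 (tt N713 F3826) (tt N713 F3827) (tt N713 F3828) (tt N503 F3829) (tt N1000 D1048) (tt N501 (iv D728)) (tt N713 F3830) (tt N1001 D1049) (tt N713 F3831) (tt N1002 D1050))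
theorem Q715 : ∀ i, i < 715 → P i := stepQ 714 Q714 (allL N714 (tt N714 F3832) (tt N714 F3833) (tt N714 F3834) (tt N504 F3835) (tt N714 F3836) (tt N1001 (iv F5401)) (tt N714 F3837) (tt N501 (iv D729)) (tt N714 F3838) (tt N1003 D1051))
theorem Q716 : ∀ i, i < 716 → P i := stepQ 715 Q715 (allL N715 (tt N715 F3839) (tt N715 F3840) (tt N715 F3841) (tt N506 F3842) (tt N715 F3843) (tt N1002 (iv F5407)) (tt N502 F3844) (tt N1003 (iv F5415)) (tt N1004 D1052) (tt N501 (iv D730)))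
theorem Q717 : ∀ i, i < 717 → P i := stepQ 716 Q716 (allL N716 (tt N716 F3845) (tt N716 F3846) (tt N716 F3847) (tt N1005 D1053) (tt N716 F3848) (tt N716 F3849) (tt N1004 (iv F5420)) (tt N716 F3850) (tt N502 (iv D731)) (tt N716 F3851))
theorem Q718 : ∀ i, i < 718 → P i := stepQ 717 Q717 (allL N717 (tt N717 F3852) (tt N717 F3853) (tt N522 F3854) (tt N1001 (iv F5400)) (tt N717 F3855) (tt N504 F3856) (tt N1006 D1054) (tt N503 (iv D732)) (tt N1007 D1055) (tt N1008 D1056))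
theorem Q719 : ∀ i, i < 719 → P i := stepQ 718 Q718 (allL N718 (tt N718 F3857) (tt N718 F3858) (tt N523 F3859) (tt N718 F3860) (tt N718 F3861) (tt N505 F3862) (tt N718 F3863) (tt N1007 (iv F5440)) (tt N503 (iv D733)) (tt N1009 D1057))
theorem Q720 : ∀ i, i < 720 → P i := stepQ 719 Q719 (allL N719 (tt N719 F3864) (tt N719 F3865) (tt N524 F3866) (tt N1002 (iv F5406)) (tt N719 F3867) (tt N506 F3868) (tt N719 F3869) (tt N1008 (iv F5446)) (tt N1010 D1058) (tt N503 (iv D734)))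
theorem Q721 : ∀ i, i < 721 → P i := stepQ 720 Q720 (allL N720 (tt N720 F3870) (tt N720 F3871) (tt N525 F3872) (tt N720 F3873) (tt N509 F3874) (tt N1007 (iv F5439)) (tt N720 F3875) (tt N505 F3876) (tt N504 (iv D735)) (tt N1011 D1059))
theorem Q722 : ∀ i, i < 722 → P i := stepQ 721 Q721 (allL N721 (tt N721 F3877) (tt N721 F3878) (tt N526 F3879) (tt N1003 (iv F5412)) (tt N510 F3880) (tt N1008 (iv F5445)) (tt N721 F3881) (tt N506 F3882) (tt N1012 D1060) (tt N504 (iv D736)))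
theorem Q723 : ∀ i, i < 723 → P i := stepQ 722 Q722 (allL N722 (tt N722 F3883) (tt N722 F3884) (tt N528 F3885) (tt N722 F3886) (tt N512 F3887) (tt N1009 (iv F5452)) (tt N507 F3888) (tt N1011 (iv F5466)) (tt N1013 D1061) (tt N505 (iv D737)))
theorem Q724 : ∀ i, i < 724 → P i := stepQ 723 Q723 (allL N723 (tt N723 F3889) (tt N723 F3890) (tt N529 F3891) (tt N1014 D1062) (tt N513 F3892) (tt N1010 (iv F5458)) (tt N508 F3893) (tt N1012 (iv F5472)) (tt N506 (iv D738)) (tt N1013 (iv F5478)))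
theorem Q725 : ∀ i, i < 725 → P i := stepQ 724 Q724 (allL N724 (tt N724 F3894) (tt N724 F3895) (tt N531 F3896) (tt N1015 D1063) (tt N515 F3897) (tt N724 F3898) (tt N1013 (iv F5477)) (tt N724 F3899) (tt N507 (iv D739)) (tt N508 F3900))
theorem Q726 : ∀ i, i < 726 → P i := stepQ 725 Q725 (allL N725 (tt N725 F3901) (tt N725 F3902) (tt N1016 D1064) (tt N508 (iv D740)) (tt N1017 D1065) (tt N725 F3903) (tt N1014 (iv F5481)) (tt N725 F3904) (tt N1005 (iv F5426)) (tt N1015 (iv F5487)))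
theorem Q727 : ∀ i, i < 727 → P i := stepQ 726 Q726 (allL N726 (tt N726 F3905) (tt N726 F3906) (tt N726 F3907) (tt N509 (iv D741)) (tt N726 F3908) (tt N726 F3909) (tt N726 F3910) (tt N511 F3911) (tt N726 F3912) (tt N1018 D1066))
theorem Q728 : ∀ i, i < 728 → P i := stepQ 727 Q727 (allL N727 (tt N727 F3913) (tt N727 F3914) (tt N533 F3915) (tt N1018 (iv F5499)) (tt N1011 (iv F5464)) (tt N727 F3916) (tt N727 F3917) (tt N512 F3918) (tt N1019 D1067) (tt N509 (iv D742)))
theorem Q729 : ∀ i, i < 729 → P i := stepQ 728 Q728 (allL N728 (tt N728 F3919) (tt N728 F3920) (tt N534 F3921) (tt N1020 D1068) (tt N1012 (iv F5470)) (tt N728 F3922) (tt N728 F3923) (tt N513 F3924) (tt N510 (iv D743)) (tt N1019 (iv F5510)))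
theorem Q730 : ∀ i, i < 730 → P i := stepQ 729 Q729 (allL N729 (tt N729 F3925) (tt N729 F3926) (tt N729 F3927) (tt N512 F3928) (tt N729 F3929) (tt N729 F3930) (tt N514 F3931) (tt N1018 (iv F5503)) (tt N1021 D1069) (tt N511 (iv D744)))
theorem Q731 : ∀ i, i < 731 → P i := stepQ 730 Q730 (allL N730 (tt N730 F3932) (tt N730 F3933) (tt N535 F3934) (tt N1022 D1070) (tt N1013 (iv F5476)) (tt N730 F3935) (tt N515 F3936) (tt N1019 (iv F5509)) (tt N512 (iv D745)) (tt N513 F3937))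
theorem Q732 : ∀ i, i < 732 → P i := stepQ 731 Q731 (allL N731 (tt N731 F3938) (tt N731 F3939) (tt N1023 D1071) (tt N513 (iv D746)) (tt N1024 D1072) (tt N731 F3940) (tt N516 F3941) (tt N1020 (iv F5515)) (tt N731 F3942) (tt N1022 (iv F5528)))
theorem Q733 : ∀ i, i < 733 → P i := stepQ 732 Q732 (allL N732 (tt N732 F3943) (tt N732 F3944) (tt N732 F3945) (tt N1025 D1073) (tt N732 F3946) (tt N518 F3947) (tt N1021 (iv F5522)) (tt N732 F3948) (tt N514 (iv D747)) (tt N732 F3949))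
theorem Q734 : ∀ i, i < 734 → P i := stepQ 733 Q733 (allL N733 (tt N733 F3950) (tt N733 F3951) (tt N1026 D1074) (tt N515 (iv D748)) (tt N1027 D1075) (tt N519 F3952) (tt N1022 (iv F5527)) (tt N733 F3953) (tt N1025 (iv F5542)) (tt N516 F3954))
theorem Q735 : ∀ i, i < 735 → P i := stepQ 734 Q734 (allL N734 (tt N734 F3955) (tt N1028 D1076) (tt N516 (iv D749)) (tt N538 F3956) (tt N1029 D1077) (tt N520 F3957) (tt N1023 (iv F5532)) (tt N734 F3958) (tt N734 F3959) (tt N1026 (iv F5548)))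
theorem Q736 : ∀ i, i < 736 → P i := stepQ 735 Q735 (allL N735 (tt N735 F3960) (tt N735 F3961) (tt N1029 (iv F5559)) (tt N1017 (iv F5494)) (tt N516 (iv D750)) (tt N1030 D1078) (tt N1024 (iv F5536)) (tt N735 F3962) (tt N735 F3963) (tt N1027 (iv F5552)))
theorem Q737 : ∀ i, i < 737 → P i := stepQ 736 Q736 (allL N736 (tt N736 F3964) (tt N736 F3965) (tt N736 F3966) (tt N1031 D1079) (tt N518 F3967) (tt N736 F3968) (tt N736 F3969) (tt N736 F3970) (tt N517 (iv D751)) (tt N736 F3971))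
theorem Q738 : ∀ i, i < 738 → P i := stepQ 737 Q737 (allL N737 (tt N737 F3972) (tt N737 F3973) (tt N1032 D1080) (tt N518 (iv D752)) (tt N1033 D1081) (tt N1025 (iv F5540)) (tt N737 F3974) (tt N737 F3975) (tt N519 F3976) (tt N737 F3977))
theorem Q739 : ∀ i, i < 739 → P i := stepQ 738 Q738 (allL N738 (tt N738 F3978) (tt N1034 D1082) (tt N519 (iv D753)) (tt N540 F3979) (tt N1035 D1083) (tt N1026 (iv F5546)) (tt N738 F3980) (tt N738 F3981) (tt N1032 (iv F5578)) (tt N520 F3982))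
theorem Q740 : ∀ i, i < 740 → P i := stepQ 739 Q739 (allL N739 (tt N739 F3983) (tt N739 F3984) (tt N1035 (iv F5592)) (tt N739 F3985) (tt N519 (iv D754)) (tt N1036 D1084) (tt N739 F3986) (tt N739 F3987) (tt N1033 (iv F5584)) (tt N521 F3988))
theorem Q741 : ∀ i, i < 741 → P i := stepQ 740 Q740 (allL N740 (tt N1037 D1085) (tt N520 (iv D755)) (tt N740 F3989) (tt N542 F3990) (tt N1038 D1086) (tt N1028 (iv F5555)) (tt N740 F3991) (tt N740 F3992) (tt N740 F3993) (tt N1034 (iv F5590)))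
theorem Q742 : ∀ i, i < 742 → P i := stepQ 741 Q741 (allL N741 (tt N741 F3994) (tt N1038 (iv F5607)) (tt N521 F3995) (tt N1039 D1087) (tt N520 (iv D756)) (tt N1040 D1088) (tt N741 F3996) (tt N741 F3997) (tt N741 F3998) (tt N1035 (iv F5595)))
theorem Q743 : ∀ i, i < 743 → P i := stepQ 742 Q742 (allL N742 (tt N742 F3999) (tt N742 F4000) (tt N1040 (iv F5618)) (tt N742 F4001) (tt N1030 (iv F5564)) (tt N521 (iv D757)) (tt N1041 D1089) (tt N742 F4002) (tt N742 F4003) (tt N1036 (iv F5600)))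
theorem Q744 : ∀ i, i < 744 → P i := stepQ 743 Q743 (allL N743 (tt N743 F4004) (tt N560 F4005) (tt N1006 (iv F5430)) (tt N743 F4006) (tt N743 F4007) (tt N743 F4008) (tt N522 (iv D758)) (tt N743 F4009) (tt N1042 D1090) (tt N1043 D1091))
theorem Q745 : ∀ i, i < 745 → P i := stepQ 744 Q744 (allL N744 (tt N744 F4010) (tt N561 F4011) (tt N1007 (iv F5436)) (tt N1044 D1092) (tt N744 F4012) (tt N525 F4013) (tt N1042 (iv F5630)) (tt N523 F4014) (tt N522 (iv D759)) (tt N1045 D1093))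
theorem Q746 : ∀ i, i < 746 → P i := stepQ 745 Q745 (allL N745 (tt N745 F4015) (tt N562 F4016) (tt N1008 (iv F5443)) (tt N745 F4017) (tt N745 F4018) (tt N526 F4019) (tt N1043 (iv F5637)) (tt N524 F4020) (tt N1046 D1094) (tt N522 (iv D760)))
theorem Q747 : ∀ i, i < 747 → P i := stepQ 746 Q746 (allL N746 (tt N746 F4021) (tt N563 F4022) (tt N746 F4023) (tt N523 (iv D761)) (tt N1047 D1095) (tt N527 F4024) (tt N746 F4025) (tt N1044 (iv F5643)) (tt N746 F4026) (tt N1048 D1096))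
theorem Q748 : ∀ i, i < 748 → P i := stepQ 747 Q747 (allL N747 (tt N747 F4027) (tt N564 F4028) (tt N1009 (iv F5449)) (tt N1048 (iv F5665)) (tt N747 F4029) (tt N528 F4030) (tt N747 F4031) (tt N1045 (iv F5649)) (tt N1049 D1097) (tt N523 (iv D762)))
theorem Q749 : ∀ i, i < 749 → P i := stepQ 748 Q748 (allL N748 (tt N748 F4032) (tt N565 F4033) (tt N1010 (iv F5456)) (tt N1050 D1098) (tt N748 F4034) (tt N529 F4035) (tt N748 F4036) (tt N1046 (iv F5654)) (tt N524 (iv D763)) (tt N1049 (iv F5673)))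
theorem Q750 : ∀ i, i < 750 → P i := stepQ 749 Q749 (allL N749 (tt N749 F4037) (tt N566 F4038) (tt N749 F4039) (tt N525 (iv D764)) (tt N749 F4040) (tt N1044 (iv F5642)) (tt N749 F4041) (tt N527 F4042) (tt N749 F4043) (tt N1051 D1099))
theorem Q751 : ∀ i, i < 751 → P i := stepQ 750 Q750 (allL N750 (tt N750 F4044) (tt N567 F4045) (tt N1011 (iv F5462)) (tt N1051 (iv F5682)) (tt N533 F4046) (tt N1045 (iv F5648)) (tt N750 F4047) (tt N528 F4048) (tt N1052 D1100) (tt N525 (iv D765)))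
theorem Q752 : ∀ i, i < 752 → P i := stepQ 751 Q751 (allL N751 (tt N751 F4049) (tt N568 F4050) (tt N1012 (iv F5469)) (tt N1053 D1101) (tt N534 F4051) (tt N1046 (iv F5653)) (tt N751 F4052) (tt N529 F4053) (tt N526 (iv D766)) (tt N1052 (iv F5691)))
theorem Q753 : ∀ i, i < 753 → P i := stepQ 752 Q752 (allL N752 (tt N752 F4054) (tt N570 F4055) (tt N752 F4056) (tt N528 F4057) (tt N752 F4058) (tt N1048 (iv F5666)) (tt N530 F4059) (tt N1051 (iv F5685)) (tt N1054 D1102) (tt N527 (iv D767)))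
theorem Q754 : ∀ i, i < 754 → P i := stepQ 753 Q753 (allL N753 (tt N753 F4060) (tt N571 F4061) (tt N1013 (iv F5475)) (tt N1055 D1103) (tt N535 F4062) (tt N1049 (iv F5671)) (tt N531 F4063) (tt N1052 (iv F5690)) (tt N528 (iv D768)) (tt N529 F4064))
theorem Q755 : ∀ i, i < 755 → P i := stepQ 754 Q754 (allL N754 (tt N754 F4065) (tt N572 F4066) (tt N1056 D1104) (tt N529 (iv D769)) (tt N1057 D1105) (tt N1050 (iv F5676)) (tt N532 F4067) (tt N1053 (iv F5695)) (tt N754 F4068) (tt N1055 (iv F5706)))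
theorem Q756 : ∀ i, i < 756 → P i := stepQ 755 Q755 (allL N755 (tt N755 F4069) (tt N574 F4070) (tt N755 F4071) (tt N1058 D1106) (tt N755 F4072) (tt N755 F4073) (tt N1054 (iv F5701)) (tt N755 F4074) (tt N530 (iv D770)) (tt N755 F4075))
theorem Q757 : ∀ i, i < 757 → P i := stepQ 756 Q756 (allL N756 (tt N756 F4076) (tt N575 F4077) (tt N1059 D1107) (tt N531 (iv D771)) (tt N1060 D1108) (tt N756 F4078) (tt N1055 (iv F5705)) (tt N756 F4079) (tt N1058 (iv F5719)) (tt N532 F4080))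
theorem Q758 : ∀ i, i < 758 → P i := stepQ 757 Q757 (allL N757 (tt N757 F4081) (tt N1061 D1109) (tt N532 (iv D772)) (tt N1016 (iv F5489)) (tt N1062 D1110) (tt N757 F4082) (tt N1056 (iv F5708)) (tt N757 F4083) (tt N757 F4084) (tt N1059 (iv F5724)))
theorem Q759 : ∀ i, i < 759 → P i := stepQ 758 Q758 (allL N758 (tt N758 F4085) (tt N577 F4086) (tt N1062 (iv F5735)) (tt N539 F4087) (tt N532 (iv D773)) (tt N1063 D1111) (tt N1057 (iv F5713)) (tt N758 F4088) (tt N758 F4089) (tt N1060 (iv F5729)))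
theorem Q760 : ∀ i, i < 760 → P i := stepQ 759 Q759 (allL N759 (tt N759 F4090) (tt N578 F4091) (tt N1019 (iv F5506)) (tt N1064 D1112) (tt N1052 (iv F5688)) (tt N759 F4092) (tt N759 F4093) (tt N535 F4094) (tt N533 (iv D774)) (tt N534 F4095))
theorem Q761 : ∀ i, i < 761 → P i := stepQ 760 Q760 (allL N760 (tt N760 F4096) (tt N579 F4097) (tt N1065 D1113) (tt N534 (iv D775)) (tt N1066 D1114) (tt N760 F4098) (tt N760 F4099) (tt N536 F4100) (tt N545 F4101) (tt N1064 (iv F5750)))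
theorem Q762 : ∀ i, i < 762 → P i := stepQ 761 Q761 (allL N761 (tt N761 F4102) (tt N580 F4103) (tt N1067 D1115) (tt N535 (iv D776)) (tt N1068 D1116) (tt N761 F4104) (tt N537 F4105) (tt N1064 (iv F5748)) (tt N761 F4106) (tt N536 F4107))
theorem Q763 : ∀ i, i < 763 → P i := stepQ 762 Q762 (allL N762 (tt N762 F4108) (tt N1069 D1117) (tt N536 (iv D777)) (tt N1023 (iv F5530)) (tt N1070 D1118) (tt N762 F4109) (tt N538 F4110) (tt N1065 (iv F5754)) (tt N546 F4111) (tt N1067 (iv F5765)))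
theorem Q764 : ∀ i, i < 764 → P i := stepQ 763 Q763 (allL N763 (tt N763 F4112) (tt N582 F4113) (tt N1070 (iv F5776)) (tt N1057 (iv F5712)) (tt N536 (iv D778)) (tt N1071 D1119) (tt N539 F4114) (tt N1066 (iv F5759)) (tt N547 F4115) (tt N1068 (iv F5770)))
theorem Q765 : ∀ i, i < 765 → P i := stepQ 764 Q764 (allL N764 (tt N764 F4116) (tt N1072 D1120) (tt N537 (iv D779)) (tt N1026 (iv F5545)) (tt N1073 D1121) (tt N540 F4117) (tt N1067 (iv F5763)) (tt N764 F4118) (tt N764 F4119) (tt N538 F4120))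
theorem Q766 : ∀ i, i < 766 → P i := stepQ 765 Q765 (allL N765 (tt N765 F4121) (tt N584 F4122) (tt N1073 (iv F5789)) (tt N1060 (iv F5727)) (tt N537 (iv D780)) (tt N1074 D1122) (tt N1068 (iv F5768)) (tt N765 F4123) (tt N765 F4124) (tt N539 F4125))
theorem Q767 : ∀ i, i < 767 → P i := stepQ 766 Q766 (allL N766 (tt N1075 D1123) (tt N538 (iv D781)) (tt N585 F4126) (tt N1028 (iv F5554)) (tt N1076 D1124) (tt N542 F4127) (tt N1069 (iv F5773)) (tt N766 F4128) (tt N548 F4129) (tt N1072 (iv F5787)))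
theorem Q768 : ∀ i, i < 768 → P i := stepQ 767 Q767 (allL N767 (tt N767 F4130) (tt N1076 (iv F5804)) (tt N539 F4131) (tt N1077 D1125) (tt N538 (iv D782)) (tt N1078 D1126) (tt N1070 (iv F5777)) (tt N767 F4132) (tt N549 F4133) (tt N1073 (iv F5792)))
theorem Q769 : ∀ i, i < 769 → P i := stepQ 768 Q768 (allL N768 (tt N768 F4134) (tt N587 F4135) (tt N1078 (iv F5811)) (tt N1063 (iv F5740)) (tt N544 F4136) (tt N539 (iv D783)) (tt N1079 D1127) (tt N768 F4137) (tt N550 F4138) (tt N1074 (iv F5798)))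
theorem Q770 : ∀ i, i < 770 → P i := stepQ 769 Q769 (allL N769 (tt N1080 D1128) (tt N540 (iv D784)) (tt N588 F4139) (tt N1034 (iv F5587)) (tt N1081 D1129) (tt N1072 (iv F5784)) (tt N769 F4140) (tt N769 F4141) (tt N769 F4142) (tt N542 F4143))
theorem Q771 : ∀ i, i < 771 → P i := stepQ 770 Q770 (allL N770 (tt N770 F4144) (tt N1081 (iv F5825)) (tt N541 F4145) (tt N1082 D1130) (tt N540 (iv D785)) (tt N1083 D1131) (tt N770 F4146) (tt N770 F4147) (tt N770 F4148) (tt N543 F4149))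
theorem Q772 : ∀ i, i < 772 → P i := stepQ 771 Q771 (allL N771 (tt N771 F4150) (tt N590 F4151) (tt N1083 (iv F5837)) (tt N771 F4152) (tt N1074 (iv F5795)) (tt N541 (iv D786)) (tt N1084 D1132) (tt N771 F4153) (tt N771 F4154) (tt N544 F4155))
theorem Q773 : ∀ i, i < 773 → P i := stepQ 772 Q772 (allL N772 (tt N542 (iv D787)) (tt N772 F4156) (tt N591 F4157) (tt N1037 (iv F5603)) (tt N1085 D1133) (tt N1075 (iv F5801)) (tt N772 F4158) (tt N772 F4159) (tt N551 F4160) (tt N1080 (iv F5824)))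
theorem Q774 : ∀ i, i < 774 → P i := stepQ 773 Q773 (allL N773 (tt N1085 (iv F5847)) (tt N543 F4161) (tt N592 F4162) (tt N1086 D1134) (tt N542 (iv D788)) (tt N1087 D1135) (tt N773 F4163) (tt N773 F4164) (tt N552 F4165) (tt N1081 (iv F5830)))
theorem Q775 : ∀ i, i < 775 → P i := stepQ 774 Q774 (allL N774 (tt N774 F4166) (tt N1086 (iv F5853)) (tt N774 F4167) (tt N543 (iv D789)) (tt N1039 (iv F5614)) (tt N1088 D1136) (tt N774 F4168) (tt N774 F4169) (tt N1089 D1137) (tt N1082 (iv F5835)))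
theorem Q776 : ∀ i, i < 776 → P i := stepQ 775 Q775 (allL N775 (tt N775 F4170) (tt N1087 (iv F5856)) (tt N544 F4171) (tt N1088 (iv F5862)) (tt N1078 (iv F5812)) (tt N543 (iv D790)) (tt N1090 D1138) (tt N775 F4172) (tt N554 F4173) (tt N1083 (iv F5840)))
theorem Q777 : ∀ i, i < 777 → P i := stepQ 776 Q776 (allL N776 (tt N776 F4174) (tt N595 F4175) (tt N1090 (iv F5870)) (tt N776 F4176) (tt N1079 (iv F5817)) (tt N776 F4177) (tt N544 (iv D791)) (tt N1091 D1139) (tt N555 F4178) (tt N1084 (iv F5846)))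
theorem Q778 : ∀ i, i < 778 → P i := stepQ 777 Q777 (allL N777 (tt N777 F4179) (tt N1092 D1140) (tt N545 (iv D792)) (tt N777 F4180) (tt N1093 D1141) (tt N777 F4181) (tt N777 F4182) (tt N546 F4183) (tt N1065 (iv F5755)) (tt N777 F4184))
theorem Q779 : ∀ i, i < 779 → P i := stepQ 778 Q778 (allL N778 (tt N778 F4185) (tt N597 F4186) (tt N1093 (iv F5886)) (tt N778 F4187) (tt N545 (iv D793)) (tt N1094 D1142) (tt N778 F4188) (tt N547 F4189) (tt N1066 (iv F5760)) (tt N778 F4190))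
theorem Q780 : ∀ i, i < 780 → P i := stepQ 779 Q779 (allL N779 (tt N1095 D1143) (tt N546 (iv D794)) (tt N598 F4191) (tt N779 F4192) (tt N1096 D1144) (tt N779 F4193) (tt N548 F4194) (tt N1092 (iv F5883)) (tt N1069 (iv F5774)) (tt N779 F4195))
theorem Q781 : ∀ i, i < 781 → P i := stepQ 780 Q780 (allL N780 (tt N780 F4196) (tt N1096 (iv F5902)) (tt N547 F4197) (tt N1097 D1145) (tt N546 (iv D795)) (tt N1098 D1146) (tt N549 F4198) (tt N1093 (iv F5888)) (tt N1070 (iv F5778)) (tt N780 F4199))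
theorem Q782 : ∀ i, i < 782 → P i := stepQ 781 Q781 (allL N781 (tt N781 F4200) (tt N600 F4201) (tt N1098 (iv F5912)) (tt N781 F4202) (tt N781 F4203) (tt N547 (iv D796)) (tt N1099 D1147) (tt N1094 (iv F5894)) (tt N1071 (iv F5782)) (tt N781 F4204))
theorem Q783 : ∀ i, i < 783 → P i := stepQ 782 Q782 (allL N782 (tt N548 (iv D797)) (tt N782 F4205) (tt N601 F4206) (tt N782 F4207) (tt N1100 D1148) (tt N551 F4208) (tt N1095 (iv F5900)) (tt N782 F4209) (tt N1075 (iv F5803)) (tt N782 F4210))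
theorem Q784 : ∀ i, i < 784 → P i := stepQ 783 Q783 (allL N783 (tt N1100 (iv F5921)) (tt N549 F4211) (tt N602 F4212) (tt N1101 D1149) (tt N548 (iv D798)) (tt N1102 D1150) (tt N1096 (iv F5904)) (tt N783 F4213) (tt N1076 (iv F5807)) (tt N783 F4214))
theorem Q785 : ∀ i, i < 785 → P i := stepQ 784 Q784 (allL N784 (tt N784 F4215) (tt N1101 (iv F5926)) (tt N784 F4216) (tt N549 (iv D799)) (tt N784 F4217) (tt N1103 D1151) (tt N1097 (iv F5909)) (tt N784 F4218) (tt N1104 D1152) (tt N784 F4219))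
theorem Q786 : ∀ i, i < 786 → P i := stepQ 785 Q785 (allL N785 (tt N785 F4220) (tt N1102 (iv F5930)) (tt N550 F4221) (tt N1103 (iv F5937)) (tt N554 F4222) (tt N549 (iv D800)) (tt N1105 D1153) (tt N785 F4223) (tt N1078 (iv F5814)) (tt N785 F4224))
theorem Q787 : ∀ i, i < 787 → P i := stepQ 786 Q786 (allL N786 (tt N786 F4225) (tt N605 F4226) (tt N1105 (iv F5945)) (tt N786 F4227) (tt N555 F4228) (tt N1099 (iv F5919)) (tt N550 (iv D801)) (tt N1106 D1154) (tt N1079 (iv F5818)) (tt N786 F4229))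
theorem Q788 : ∀ i, i < 788 → P i := stepQ 787 Q787 (allL N787 (tt N552 F4230) (tt N787 F4231) (tt N606 F4232) (tt N1107 D1155) (tt N551 (iv D802)) (tt N1108 D1156) (tt N787 F4233) (tt N787 F4234) (tt N1085 (iv F5852)) (tt N787 F4235))
theorem Q789 : ∀ i, i < 789 → P i := stepQ 788 Q788 (allL N788 (tt N1107 (iv F5954)) (tt N553 F4236) (tt N788 F4237) (tt N552 (iv D803)) (tt N788 F4238) (tt N1109 D1157) (tt N788 F4239) (tt N788 F4240) (tt N1110 D1158) (tt N788 F4241))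
theorem Q790 : ∀ i, i < 790 → P i := stepQ 789 Q789 (allL N789 (tt N1108 (iv F5961)) (tt N554 F4242) (tt N607 F4243) (tt N1109 (iv F5968)) (tt N1102 (iv F5932)) (tt N552 (iv D804)) (tt N1111 D1159) (tt N789 F4244) (tt N1087 (iv F5859)) (tt N789 F4245))
theorem Q791 : ∀ i, i < 791 → P i := stepQ 790 Q790 (allL N790 (tt N790 F4246) (tt N1109 (iv F5966)) (tt N556 F4247) (tt N554 F4248) (tt N1112 D1160) (tt N553 (iv D805)) (tt N1113 D1161) (tt N790 F4249) (tt N1114 D1162) (tt N790 F4250))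
theorem Q792 : ∀ i, i < 792 → P i := stepQ 791 Q791 (allL N791 (tt N791 F4251) (tt N1110 (iv F5971)) (tt N557 F4252) (tt N1089 (iv F5866)) (tt N791 F4253) (tt N1114 (iv F5992)) (tt N791 F4254) (tt N791 F4255) (tt N553 (iv D806)) (tt N1115 D1163))
theorem Q793 : ∀ i, i < 793 → P i := stepQ 792 Q792 (allL N792 (tt N792 F4256) (tt N1111 (iv F5976)) (tt N555 F4257) (tt N1113 (iv F5987)) (tt N1105 (iv F5946)) (tt N792 F4258) (tt N554 (iv D807)) (tt N1116 D1164) (tt N1090 (iv F5872)) (tt N792 F4259))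
theorem Q794 : ∀ i, i < 794 → P i := stepQ 793 Q793 (allL N793 (tt N793 F4260) (tt N609 F4261) (tt N1116 (iv F6001)) (tt N559 F4262) (tt N1106 (iv F5951)) (tt N793 F4263) (tt N793 F4264) (tt N555 (iv D808)) (tt N1091 (iv F5878)) (tt N793 F4265))
theorem Q795 : ∀ i, i < 795 → P i := stepQ 794 Q794 (allL N794 (tt N794 F4266) (tt N794 F4267) (tt N1112 (iv F5981)) (tt N794 F4268) (tt N556 (iv D809)) (tt N794 F4269) (tt N1117 D1165) (tt N794 F4270) (tt N1118 D1166) (tt N794 F4271))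
theorem Q796 : ∀ i, i < 796 → P i := stepQ 795 Q795 (allL N795 (tt N795 F4272) (tt N795 F4273) (tt N1113 (iv F5986)) (tt N558 F4274) (tt N1117 (iv F6008)) (tt N795 F4275) (tt N556 (iv D810)) (tt N1119 D1167) (tt N1120 D1168) (tt N795 F4276))
theorem Q797 : ∀ i, i < 797 → P i := stepQ 796 Q796 (allL N796 (tt N796 F4277) (tt N796 F4278) (tt N1114 (iv F5991)) (tt N796 F4279) (tt N1118 (iv F6012)) (tt N557 F4280) (tt N1120 (iv F6025)) (tt N796 F4281) (tt N556 (iv D811)) (tt N1121 D1169))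
theorem Q798 : ∀ i, i < 798 → P i := stepQ 797 Q797 (allL N797 (tt N797 F4282) (tt N797 F4283) (tt N1115 (iv F5995)) (tt N797 F4284) (tt N797 F4285) (tt N1121 (iv F6029)) (tt N797 F4286) (tt N797 F4287) (tt N797 F4288) (tt N557 (iv D812)))
theorem Q799 : ∀ i, i < 799 → P i := stepQ 798 Q798 (allL N798 (tt N798 F4289) (tt N798 F4290) (tt N559 F4291) (tt N1119 (iv F6017)) (tt N798 F4292) (tt N798 F4293) (tt N798 F4294) (tt N558 (iv D813)) (tt N798 F4295) (tt N798 F4296))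
theorem Q800 : ∀ i, i < 800 → P i := stepQ 799 Q799 (allL N799 (tt N620 F4297) (tt N1042 (iv F5627)) (tt N799 F4298) (tt N1122 D1170) (tt N799 F4299) (tt N799 F4300) (tt N561 F4301) (tt N799 F4302) (tt N560 (iv D814)) (tt N1123 D1171))
theorem Q801 : ∀ i, i < 801 → P i := stepQ 800 Q800 (allL N800 (tt N621 F4303) (tt N1043 (iv F5633)) (tt N800 F4304) (tt N800 F4305) (tt N800 F4306) (tt N800 F4307) (tt N562 F4308) (tt N800 F4309) (tt N1124 D1172) (tt N560 (iv D815)))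
theorem Q802 : ∀ i, i < 802 → P i := stepQ 801 Q801 (allL N801 (tt N622 F4310) (tt N1044 (iv F5640)) (tt N1125 D1173) (tt N561 (iv D816)) (tt N1126 D1174) (tt N566 F4311) (tt N1122 (iv F6034)) (tt N563 F4312) (tt N801 F4313) (tt N1127 D1175))
theorem Q803 : ∀ i, i < 803 → P i := stepQ 802 Q802 (allL N802 (tt N623 F4314) (tt N1045 (iv F5646)) (tt N802 F4315) (tt N1127 (iv F6061)) (tt N802 F4316) (tt N567 F4317) (tt N1123 (iv F6041)) (tt N564 F4318) (tt N1128 D1176) (tt N561 (iv D817)))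
theorem Q804 : ∀ i, i < 804 → P i := stepQ 803 Q803 (allL N803 (tt N624 F4319) (tt N1046 (iv F5651)) (tt N803 F4320) (tt N1129 D1177) (tt N803 F4321) (tt N568 F4322) (tt N1124 (iv F6047)) (tt N565 F4323) (tt N562 (iv D818)) (tt N1128 (iv F6069)))
theorem Q805 : ∀ i, i < 805 → P i := stepQ 804 Q804 (allL N804 (tt N625 F4324) (tt N804 F4325) (tt N563 (iv D819)) (tt N804 F4326) (tt N1130 D1178) (tt N569 F4327) (tt N804 F4328) (tt N1125 (iv F6053)) (tt N804 F4329) (tt N1131 D1179))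
theorem Q806 : ∀ i, i < 806 → P i := stepQ 805 Q805 (allL N805 (tt N626 F4330) (tt N1047 (iv F5656)) (tt N1130 (iv F6076)) (tt N805 F4331) (tt N563 (iv D820)) (tt N805 F4332) (tt N805 F4333) (tt N1126 (iv F6058)) (tt N805 F4334) (tt N1132 D1180))
theorem Q807 : ∀ i, i < 807 → P i := stepQ 806 Q806 (allL N806 (tt N627 F4335) (tt N1048 (iv F5663)) (tt N1131 (iv F6082)) (tt N564 F4336) (tt N1132 (iv F6088)) (tt N570 F4337) (tt N806 F4338) (tt N1127 (iv F6063)) (tt N1133 D1181) (tt N563 (iv D821)))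
theorem Q808 : ∀ i, i < 808 → P i := stepQ 807 Q807 (allL N807 (tt N628 F4339) (tt N1049 (iv F5669)) (tt N807 F4340) (tt N1134 D1182) (tt N807 F4341) (tt N571 F4342) (tt N807 F4343) (tt N1128 (iv F6068)) (tt N564 (iv D822)) (tt N565 F4344))
theorem Q809 : ∀ i, i < 809 → P i := stepQ 808 Q808 (allL N808 (tt N629 F4345) (tt N1050 (iv F5675)) (tt N1135 D1183) (tt N565 (iv D823)) (tt N1136 D1184) (tt N572 F4346) (tt N808 F4347) (tt N1129 (iv F6072)) (tt N808 F4348) (tt N1134 (iv F6098)))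
theorem Q810 : ∀ i, i < 810 → P i := stepQ 809 Q809 (allL N809 (tt N630 F4349) (tt N809 F4350) (tt N566 (iv D824)) (tt N809 F4351) (tt N809 F4352) (tt N1125 (iv F6052)) (tt N809 F4353) (tt N569 F4354) (tt N809 F4355) (tt N1137 D1185))
theorem Q811 : ∀ i, i < 811 → P i := stepQ 810 Q810 (allL N810 (tt N631 F4356) (tt N1051 (iv F5680)) (tt N1137 (iv F6110)) (tt N567 F4357) (tt N810 F4358) (tt N1127 (iv F6062)) (tt N810 F4359) (tt N570 F4360) (tt N1138 D1186) (tt N566 (iv D825)))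
theorem Q812 : ∀ i, i < 812 → P i := stepQ 811 Q811 (allL N811 (tt N632 F4361) (tt N1052 (iv F5687)) (tt N811 F4362) (tt N1139 D1187) (tt N578 F4363) (tt N1128 (iv F6067)) (tt N811 F4364) (tt N571 F4365) (tt N567 (iv D826)) (tt N568 F4366))
theorem Q813 : ∀ i, i < 813 → P i := stepQ 812 Q812 (allL N812 (tt N633 F4367) (tt N1053 (iv F5693)) (tt N1140 D1188) (tt N568 (iv D827)) (tt N1141 D1189) (tt N1129 (iv F6071)) (tt N812 F4368) (tt N572 F4369) (tt N812 F4370) (tt N1139 (iv F6123)))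
theorem Q814 : ∀ i, i < 814 → P i := stepQ 813 Q813 (allL N813 (tt N635 F4371) (tt N813 F4372) (tt N570 F4373) (tt N813 F4374) (tt N813 F4375) (tt N1131 (iv F6084)) (tt N573 F4376) (tt N1137 (iv F6114)) (tt N708 F201613) (tt N569 (iv D828)))
theorem Q815 : ∀ i, i < 815 → P i := stepQ 814 Q814 (allL N814 (tt N636 F4377) (tt N1054 (iv F5698)) (tt N708 (iv F201210)) (tt N1142 D1191) (tt N814 F4378) (tt N1133 (iv F6092)) (tt N574 F4379) (tt N1138 (iv F6118)) (tt N570 (iv D829)) (tt N814 F4380))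
theorem Q816 : ∀ i, i < 816 → P i := stepQ 815 Q815 (allL N815 (tt N637 F4381) (tt N1055 (iv F5704)) (tt N1143 D1192) (tt N571 (iv D830)) (tt N1144 D1193) (tt N1134 (iv F6096)) (tt N575 F4382) (tt N1139 (iv F6122)) (tt N1142 (iv F6142)) (tt N572 F4383))
theorem Q817 : ∀ i, i < 817 → P i := stepQ 816 Q816 (allL N816 (tt N638 F4384) (tt N1145 D1194) (tt N572 (iv D831)) (tt N816 F4385) (tt N1146 D1195) (tt N1135 (iv F6101)) (tt N576 F4386) (tt N1140 (iv F6127)) (tt N816 F4387) (tt N1143 (iv F6147)))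
theorem Q818 : ∀ i, i < 818 → P i := stepQ 817 Q817 (allL N817 (tt N639 F4388) (tt N1057 (iv F5711)) (tt N1146 (iv F6156)) (tt N582 F4389) (tt N572 (iv D832)) (tt N1147 D1196) (tt N577 F4390) (tt N1141 (iv F6132)) (tt N817 F4391) (tt N1144 (iv F6151)))
theorem Q819 : ∀ i, i < 819 → P i := stepQ 818 Q818 (allL N818 (tt N640 F4399) (tt N1058 (iv F5716)) (tt N701 (iv F201206)) (tt N574 (iv D834)) (tt N1148 D1199) (tt N818 F4400) (tt N1142 (iv F6141)) (tt N818 F4401) (tt N575 F4402) (tt N818 F4403))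
theorem Q820 : ∀ i, i < 820 → P i := stepQ 819 Q819 (allL N819 (tt N641 F4404) (tt N1149 D1200) (tt N575 (iv D835)) (tt N819 F4405) (tt N1150 D1201) (tt N819 F4406) (tt N1143 (iv F6146)) (tt N819 F4407) (tt N701 (iv F201207)) (tt N576 F4408))
theorem Q821 : ∀ i, i < 821 → P i := stepQ 820 Q820 (allL N820 (tt N642 F4409) (tt N1060 (iv F5726)) (tt N1150 (iv F6183)) (tt N584 F4410) (tt N575 (iv D836)) (tt N1151 D1202) (tt N1144 (iv F6150)) (tt N820 F4411) (tt N1148 (iv F6176)) (tt N577 F4412))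
theorem Q822 : ∀ i, i < 822 → P i := stepQ 821 Q821 (allL N821 (tt N1152 D1203) (tt N576 (iv D837)) (tt N1061 (iv F5730)) (tt N821 F4413) (tt N1153 D1204) (tt N821 F4414) (tt N1145 (iv F6153)) (tt N821 F4415) (tt N821 F4416) (tt N1149 (iv F6181)))
theorem Q823 : ∀ i, i < 823 → P i := stepQ 822 Q822 (allL N822 (tt N644 F4417) (tt N1153 (iv F6196)) (tt N577 F4418) (tt N1154 D1205) (tt N576 (iv D838)) (tt N1155 D1206) (tt N1146 (iv F6157)) (tt N822 F4419) (tt N822 F4420) (tt N1150 (iv F6185)))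
theorem Q824 : ∀ i, i < 824 → P i := stepQ 823 Q823 (allL N823 (tt N645 F4421) (tt N1063 (iv F5739)) (tt N1155 (iv F6204)) (tt N587 F4422) (tt N823 F4423) (tt N577 (iv D839)) (tt N1156 D1207) (tt N823 F4424) (tt N823 F4425) (tt N1151 (iv F6190)))
theorem Q825 : ∀ i, i < 825 → P i := stepQ 824 Q824 (allL N824 (tt N646 F4426) (tt N1064 (iv F5745)) (tt N1157 D1208) (tt N578 (iv D840)) (tt N1158 D1209) (tt N824 F4427) (tt N824 F4428) (tt N580 F4429) (tt N824 F4430) (tt N579 F4431))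
theorem Q826 : ∀ i, i < 826 → P i := stepQ 825 Q825 (allL N825 (tt N647 F4432) (tt N1159 D1210) (tt N579 (iv D841)) (tt N825 F4433) (tt N1160 D1211) (tt N825 F4434) (tt N825 F4435) (tt N581 F4436) (tt N596 F4437) (tt N1157 (iv F6218)))
theorem Q827 : ∀ i, i < 827 → P i := stepQ 826 Q826 (allL N826 (tt N648 F4438) (tt N1066 (iv F5757)) (tt N1160 (iv F6230)) (tt N1141 (iv F6130)) (tt N579 (iv D842)) (tt N1161 D1212) (tt N826 F4439) (tt N582 F4440) (tt N597 F4441) (tt N1158 (iv F6223)))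
theorem Q828 : ∀ i, i < 828 → P i := stepQ 827 Q827 (allL N827 (tt N649 F4442) (tt N1162 D1213) (tt N580 (iv D843)) (tt N827 F4443) (tt N1163 D1214) (tt N827 F4444) (tt N583 F4445) (tt N1157 (iv F6216)) (tt N827 F4446) (tt N581 F4447))
theorem Q829 : ∀ i, i < 829 → P i := stepQ 828 Q828 (allL N828 (tt N650 F4448) (tt N1068 (iv F5767)) (tt N1163 (iv F6244)) (tt N1144 (iv F6149)) (tt N580 (iv D844)) (tt N1164 D1215) (tt N584 F4449) (tt N1158 (iv F6221)) (tt N828 F4450) (tt N582 F4451))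
theorem Q830 : ∀ i, i < 830 → P i := stepQ 829 Q829 (allL N829 (tt N1165 D1216) (tt N581 (iv D845)) (tt N1069 (iv F5771)) (tt N829 F4452) (tt N1166 D1217) (tt N829 F4453) (tt N585 F4454) (tt N1159 (iv F6227)) (tt N598 F4455) (tt N1162 (iv F6242)))
theorem Q831 : ∀ i, i < 831 → P i := stepQ 830 Q830 (allL N830 (tt N652 F4456) (tt N1166 (iv F6257)) (tt N582 F4457) (tt N1167 D1218) (tt N581 (iv D846)) (tt N1168 D1219) (tt N586 F4458) (tt N1160 (iv F6232)) (tt N599 F4459) (tt N1163 (iv F6247)))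
theorem Q832 : ∀ i, i < 832 → P i := stepQ 831 Q831 (allL N831 (tt N653 F4460) (tt N1071 (iv F5780)) (tt N1168 (iv F6264)) (tt N1147 (iv F6160)) (tt N831 F4461) (tt N582 (iv D847)) (tt N1169 D1220) (tt N1161 (iv F6236)) (tt N600 F4462) (tt N1164 (iv F6251)))
theorem Q833 : ∀ i, i < 833 → P i := stepQ 832 Q832 (allL N832 (tt N1170 D1221) (tt N583 (iv D848)) (tt N1072 (iv F5783)) (tt N832 F4463) (tt N1171 D1222) (tt N588 F4464) (tt N1162 (iv F6240)) (tt N832 F4465) (tt N832 F4466) (tt N585 F4467))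
theorem Q834 : ∀ i, i < 834 → P i := stepQ 833 Q833 (allL N833 (tt N655 F4468) (tt N1171 (iv F6277)) (tt N584 F4469) (tt N1172 D1223) (tt N583 (iv D849)) (tt N1173 D1224) (tt N1163 (iv F6245)) (tt N833 F4470) (tt N833 F4471) (tt N586 F4472))
theorem Q835 : ∀ i, i < 835 → P i := stepQ 834 Q834 (allL N834 (tt N656 F4473) (tt N1074 (iv F5794)) (tt N1173 (iv F6286)) (tt N1151 (iv F6187)) (tt N590 F4474) (tt N584 (iv D850)) (tt N1174 D1225) (tt N834 F4475) (tt N834 F4476) (tt N587 F4477))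
theorem Q836 : ∀ i, i < 836 → P i := stepQ 835 Q835 (allL N835 (tt N585 (iv D851)) (tt N657 F4478) (tt N1075 (iv F5800)) (tt N835 F4479) (tt N1175 D1226) (tt N591 F4480) (tt N1165 (iv F6255)) (tt N835 F4481) (tt N601 F4482) (tt N1170 (iv F6276)))
theorem Q837 : ∀ i, i < 837 → P i := stepQ 836 Q836 (allL N836 (tt N1175 (iv F6295)) (tt N586 F4483) (tt N1076 (iv F5805)) (tt N1176 D1227) (tt N585 (iv D852)) (tt N1177 D1228) (tt N1166 (iv F6258)) (tt N836 F4484) (tt N602 F4485) (tt N1171 (iv F6280)))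
theorem Q838 : ∀ i, i < 838 → P i := stepQ 837 Q837 (allL N837 (tt N659 F4486) (tt N1176 (iv F6299)) (tt N1154 (iv F6200)) (tt N586 (iv D853)) (tt N837 F4487) (tt N1178 D1229) (tt N1167 (iv F6262)) (tt N837 F4488) (tt N1179 D1230) (tt N1172 (iv F6284)))
theorem Q839 : ∀ i, i < 839 → P i := stepQ 838 Q838 (allL N838 (tt N660 F4489) (tt N1177 (iv F6302)) (tt N587 F4490) (tt N1178 (iv F6307)) (tt N594 F4491) (tt N586 (iv D854)) (tt N1180 D1231) (tt N838 F4492) (tt N604 F4493) (tt N1173 (iv F6290)))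
theorem Q840 : ∀ i, i < 840 → P i := stepQ 839 Q839 (allL N839 (tt N661 F4494) (tt N1079 (iv F5816)) (tt N1180 (iv F6314)) (tt N1156 (iv F6209)) (tt N595 F4495) (tt N1169 (iv F6269)) (tt N587 (iv D855)) (tt N1181 D1232) (tt N605 F4496) (tt N1174 (iv F6294)))
theorem Q841 : ∀ i, i < 841 → P i := stepQ 840 Q840 (allL N840 (tt N588 (iv D856)) (tt N662 F4497) (tt N1080 (iv F5820)) (tt N840 F4498) (tt N1182 D1233) (tt N1170 (iv F6273)) (tt N840 F4499) (tt N840 F4500) (tt N840 F4501) (tt N591 F4502))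
theorem Q842 : ∀ i, i < 842 → P i := stepQ 841 Q841 (allL N841 (tt N1182 (iv F6321)) (tt N589 F4503) (tt N1081 (iv F5826)) (tt N1183 D1234) (tt N588 (iv D857)) (tt N1184 D1235) (tt N841 F4504) (tt N841 F4505) (tt N841 F4506) (tt N592 F4507))
theorem Q843 : ∀ i, i < 843 → P i := stepQ 842 Q842 (allL N842 (tt N664 F4508) (tt N1183 (iv F6327)) (tt N842 F4509) (tt N589 (iv D858)) (tt N842 F4510) (tt N1185 D1236) (tt N842 F4511) (tt N842 F4512) (tt N1186 D1237) (tt N593 F4513))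
theorem Q844 : ∀ i, i < 844 → P i := stepQ 843 Q843 (allL N843 (tt N665 F4514) (tt N1184 (iv F6332)) (tt N590 F4515) (tt N1185 (iv F6338)) (tt N1173 (iv F6287)) (tt N589 (iv D859)) (tt N1187 D1238) (tt N843 F4516) (tt N843 F4517) (tt N594 F4518))
theorem Q845 : ∀ i, i < 845 → P i := stepQ 844 Q844 (allL N844 (tt N666 F4519) (tt N1084 (iv F5842)) (tt N1187 (iv F6349)) (tt N844 F4520) (tt N1174 (iv F6292)) (tt N844 F4521) (tt N590 (iv D860)) (tt N1188 D1239) (tt N844 F4522) (tt N595 F4523))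
theorem Q846 : ∀ i, i < 846 → P i := stepQ 845 Q845 (allL N845 (tt N592 F4524) (tt N667 F4525) (tt N1085 (iv F5849)) (tt N1189 D1240) (tt N591 (iv D861)) (tt N1190 D1241) (tt N845 F4526) (tt N845 F4527) (tt N606 F4528) (tt N1182 (iv F6326)))
theorem Q847 : ∀ i, i < 847 → P i := stepQ 846 Q846 (allL N846 (tt N1189 (iv F6359)) (tt N593 F4529) (tt N1191 D1242) (tt N592 (iv D862)) (tt N846 F4530) (tt N1192 D1243) (tt N846 F4531) (tt N846 F4532) (tt N846 F4533) (tt N1183 (iv F6331)))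
theorem Q848 : ∀ i, i < 848 → P i := stepQ 847 Q847 (allL N847 (tt N1190 (iv F6365)) (tt N594 F4534) (tt N1087 (iv F5857)) (tt N1192 (iv F6375)) (tt N1177 (iv F6303)) (tt N592 (iv D863)) (tt N1193 D1244) (tt N847 F4535) (tt N607 F4536) (tt N1184 (iv F6335)))
theorem Q849 : ∀ i, i < 849 → P i := stepQ 848 Q848 (allL N848 (tt N670 F4537) (tt N1192 (iv F6374)) (tt N848 F4538) (tt N594 F4539) (tt N1194 D1245) (tt N593 (iv D864)) (tt N1195 D1246) (tt N848 F4540) (tt N848 F4541) (tt N1185 (iv F6340)))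
theorem Q850 : ∀ i, i < 850 → P i := stepQ 849 Q849 (allL N849 (tt N671 F4542) (tt N1193 (iv F6378)) (tt N595 F4543) (tt N1195 (iv F6388)) (tt N1180 (iv F6315)) (tt N849 F4544) (tt N594 (iv D865)) (tt N1196 D1247) (tt N608 F4545) (tt N1187 (iv F6352)))
theorem Q851 : ∀ i, i < 851 → P i := stepQ 850 Q850 (allL N850 (tt N672 F4546) (tt N1091 (iv F5874)) (tt N1196 (iv F6392)) (tt N850 F4547) (tt N1181 (iv F6318)) (tt N850 F4548) (tt N850 F4549) (tt N595 (iv D866)) (tt N609 F4550) (tt N1188 (iv F6358)))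
theorem Q852 : ∀ i, i < 852 → P i := stepQ 851 Q851 (allL N851 (tt N1197 D1248) (tt N596 (iv D867)) (tt N1092 (iv F5879)) (tt N610 F4551) (tt N1198 D1249) (tt N851 F4552) (tt N851 F4553) (tt N598 F4554) (tt N1159 (iv F6228)) (tt N851 F4555))
theorem Q853 : ∀ i, i < 853 → P i := stepQ 852 Q852 (allL N852 (tt N674 F4556) (tt N1198 (iv F6402)) (tt N597 F4557) (tt N1199 D1250) (tt N596 (iv D868)) (tt N1200 D1251) (tt N852 F4558) (tt N599 F4559) (tt N1160 (iv F6233)) (tt N852 F4560))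
theorem Q854 : ∀ i, i < 854 → P i := stepQ 853 Q853 (allL N853 (tt N675 F4561) (tt N1094 (iv F5891)) (tt N1200 (iv F6413)) (tt N853 F4562) (tt N853 F4563) (tt N597 (iv D869)) (tt N1201 D1252) (tt N600 F4564) (tt N1161 (iv F6237)) (tt N853 F4565))
theorem Q855 : ∀ i, i < 855 → P i := stepQ 854 Q854 (allL N854 (tt N598 (iv D870)) (tt N676 F4566) (tt N1095 (iv F5897)) (tt N613 F4567) (tt N1202 D1253) (tt N854 F4568) (tt N601 F4569) (tt N1197 (iv F6400)) (tt N1165 (iv F6256)) (tt N854 F4570))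
theorem Q856 : ∀ i, i < 856 → P i := stepQ 855 Q855 (allL N855 (tt N1202 (iv F6422)) (tt N599 F4571) (tt N1096 (iv F5903)) (tt N1203 D1254) (tt N598 (iv D871)) (tt N1204 D1255) (tt N602 F4572) (tt N1198 (iv F6404)) (tt N1166 (iv F6259)) (tt N855 F4573))
theorem Q857 : ∀ i, i < 857 → P i := stepQ 856 Q856 (allL N856 (tt N678 F4574) (tt N1203 (iv F6426)) (tt N856 F4575) (tt N599 (iv D872)) (tt N615 F4576) (tt N1205 D1256) (tt N603 F4577) (tt N1199 (iv F6410)) (tt N1206 D1257) (tt N856 F4578))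
theorem Q858 : ∀ i, i < 858 → P i := stepQ 857 Q857 (allL N857 (tt N679 F4579) (tt N1204 (iv F6430)) (tt N600 F4580) (tt N1205 (iv F6435)) (tt N857 F4581) (tt N599 (iv D873)) (tt N1207 D1258) (tt N1200 (iv F6415)) (tt N1168 (iv F6266)) (tt N857 F4582))
theorem Q859 : ∀ i, i < 859 → P i := stepQ 858 Q858 (allL N858 (tt N680 F4583) (tt N1099 (iv F5916)) (tt N1207 (iv F6442)) (tt N858 F4584) (tt N858 F4585) (tt N605 F4586) (tt N600 (iv D874)) (tt N1208 D1259) (tt N1169 (iv F6270)) (tt N858 F4587))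
theorem Q860 : ∀ i, i < 860 → P i := stepQ 859 Q859 (allL N859 (tt N602 F4588) (tt N681 F4589) (tt N1100 (iv F5923)) (tt N1209 D1260) (tt N601 (iv D875)) (tt N1210 D1261) (tt N1202 (iv F6424)) (tt N859 F4590) (tt N1175 (iv F6298)) (tt N859 F4591))
theorem Q861 : ∀ i, i < 861 → P i := stepQ 860 Q860 (allL N860 (tt N1209 (iv F6451)) (tt N603 F4592) (tt N1211 D1262) (tt N602 (iv D876)) (tt N618 F4593) (tt N1212 D1263) (tt N1203 (iv F6428)) (tt N860 F4594) (tt N1213 D1264) (tt N860 F4595))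
theorem Q862 : ∀ i, i < 862 → P i := stepQ 861 Q861 (allL N861 (tt N1210 (iv F6456)) (tt N604 F4596) (tt N1102 (iv F5931)) (tt N1212 (iv F6466)) (tt N607 F4597) (tt N602 (iv D877)) (tt N1214 D1265) (tt N861 F4598) (tt N1177 (iv F6305)) (tt N861 F4599))
theorem Q863 : ∀ i, i < 863 → P i := stepQ 862 Q862 (allL N862 (tt N684 F4600) (tt N1212 (iv F6465)) (tt N862 F4601) (tt N604 F4602) (tt N862 F4603) (tt N603 (iv D878)) (tt N1215 D1266) (tt N862 F4604) (tt N1216 D1267) (tt N862 F4605))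
theorem Q864 : ∀ i, i < 864 → P i := stepQ 863 Q863 (allL N863 (tt N685 F4606) (tt N1213 (iv F6470)) (tt N863 F4607) (tt N1179 (iv F6310)) (tt N619 F4608) (tt N1216 (iv F6484)) (tt N1206 (iv F6440)) (tt N863 F4609) (tt N603 (iv D879)) (tt N1217 D1268))
theorem Q865 : ∀ i, i < 865 → P i := stepQ 864 Q864 (allL N864 (tt N686 F4610) (tt N1214 (iv F6473)) (tt N605 F4611) (tt N1215 (iv F6478)) (tt N608 F4612) (tt N1207 (iv F6444)) (tt N604 (iv D880)) (tt N1218 D1269) (tt N1180 (iv F6316)) (tt N864 F4613))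
theorem Q866 : ∀ i, i < 866 → P i := stepQ 865 Q865 (allL N865 (tt N687 F4614) (tt N1106 (iv F5949)) (tt N1218 (iv F6492)) (tt N865 F4615) (tt N609 F4616) (tt N1208 (iv F6449)) (tt N865 F4617) (tt N605 (iv D881)) (tt N1181 (iv F6320)) (tt N865 F4618))
theorem Q867 : ∀ i, i < 867 → P i := stepQ 866 Q866 (allL N866 (tt N607 F4619) (tt N688 F4620) (tt N1108 (iv F5963)) (tt N866 F4621) (tt N1210 (iv F6458)) (tt N606 (iv D882)) (tt N1219 D1270) (tt N866 F4622) (tt N1190 (iv F6368)) (tt N866 F4623))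
theorem Q868 : ∀ i, i < 868 → P i := stepQ 867 Q867 (allL N867 (tt N1219 (iv F6496)) (tt N608 F4624) (tt N1111 (iv F5977)) (tt N867 F4625) (tt N1214 (iv F6474)) (tt N867 F4626) (tt N607 (iv D883)) (tt N1220 D1271) (tt N1193 (iv F6380)) (tt N867 F4627))
theorem Q869 : ∀ i, i < 869 → P i := stepQ 868 Q868 (allL N868 (tt N690 F4628) (tt N1220 (iv F6501)) (tt N609 F4629) (tt N868 F4630) (tt N1218 (iv F6493)) (tt N868 F4631) (tt N868 F4632) (tt N608 (iv D884)) (tt N1196 (iv F6395)) (tt N868 F4633))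
theorem Q870 : ∀ i, i < 870 → P i := stepQ 869 Q869 (allL N869 (tt N610 (iv D885)) (tt N691 F4634) (tt N869 F4635) (tt N1197 (iv F6397)) (tt N1221 D1272) (tt N869 F4636) (tt N869 F4637) (tt N613 F4638) (tt N869 F4639) (tt N869 F4640))
theorem Q871 : ∀ i, i < 871 → P i := stepQ 870 Q870 (allL N870 (tt N1221 (iv F6506)) (tt N611 F4641) (tt N870 F4642) (tt N1222 D1273) (tt N610 (iv D886)) (tt N1223 D1274) (tt N870 F4643) (tt N614 F4644) (tt N870 F4645) (tt N870 F4646))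
theorem Q872 : ∀ i, i < 872 → P i := stepQ 871 Q871 (allL N871 (tt N693 F4647) (tt N1222 (iv F6513)) (tt N871 F4648) (tt N611 (iv D887)) (tt N1199 (iv F6408)) (tt N1224 D1275) (tt N871 F4649) (tt N615 F4650) (tt N1225 D1276) (tt N871 F4651))
theorem Q873 : ∀ i, i < 873 → P i := stepQ 872 Q872 (allL N872 (tt N694 F4652) (tt N1223 (iv F6517)) (tt N612 F4653) (tt N1224 (iv F6525)) (tt N872 F4654) (tt N611 (iv D888)) (tt N1226 D1277) (tt N616 F4655) (tt N872 F4656) (tt N872 F4657))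
theorem Q874 : ∀ i, i < 874 → P i := stepQ 873 Q873 (allL N873 (tt N695 F4658) (tt N873 F4659) (tt N1226 (iv F6534)) (tt N873 F4660) (tt N873 F4661) (tt N873 F4662) (tt N612 (iv D889)) (tt N873 F4663) (tt N873 F4664) (tt N873 F4665))
theorem Q875 : ∀ i, i < 875 → P i := stepQ 874 Q874 (allL N874 (tt N614 F4666) (tt N696 F4667) (tt N874 F4668) (tt N1227 D1278) (tt N613 (iv D890)) (tt N1228 D1279) (tt N617 F4669) (tt N1221 (iv F6510)) (tt N874 F4670) (tt N874 F4671))
theorem Q876 : ∀ i, i < 876 → P i := stepQ 875 Q875 (allL N875 (tt N1227 (iv F6540)) (tt N615 F4672) (tt N1229 D1280) (tt N614 (iv D891)) (tt N1203 (iv F6427)) (tt N1230 D1281) (tt N618 F4673) (tt N1222 (iv F6515)) (tt N1231 D1282) (tt N875 F4674))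
theorem Q877 : ∀ i, i < 877 → P i := stepQ 876 Q876 (allL N876 (tt N1228 (iv F6544)) (tt N616 F4675) (tt N876 F4676) (tt N1230 (iv F6556)) (tt N876 F4677) (tt N614 (iv D892)) (tt N876 F4678) (tt N1223 (iv F6520)) (tt N876 F4679) (tt N876 F4680))
theorem Q878 : ∀ i, i < 878 → P i := stepQ 877 Q877 (allL N877 (tt N699 F4681) (tt N1230 (iv F6555)) (tt N877 F4682) (tt N616 F4683) (tt N1232 D1283) (tt N615 (iv D893)) (tt N877 F4684) (tt N1224 (iv F6526)) (tt N1233 D1284) (tt N877 F4685))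
theorem Q879 : ∀ i, i < 879 → P i := stepQ 878 Q878 (allL N878 (tt N700 F4686) (tt N1231 (iv F6559)) (tt N878 F4687) (tt N878 F4688) (tt N1206 (iv F6439)) (tt N1233 (iv F6570)) (tt N619 F4689) (tt N1225 (iv F6532)) (tt N615 (iv D894)) (tt N1234 D1285))
theorem Q880 : ∀ i, i < 880 → P i := stepQ 879 Q879 (allL N879 (tt N618 F4690) (tt N701 F4691) (tt N1235 D1286) (tt N617 (iv D895)) (tt N1209 (iv F6453)) (tt N879 F4692) (tt N1227 (iv F6542)) (tt N879 F4693) (tt N1149 F201562) (tt N879 F4694))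
theorem Q881 : ∀ i, i < 881 → P i := stepQ 880 Q880 (allL N880 (tt N1235 (iv F6577)) (tt N880 F4695) (tt N618 (iv D896)) (tt N880 F4696) (tt N1211 (iv F6462)) (tt N880 F4697) (tt N1229 (iv F6553)) (tt N880 F4698) (tt N1236 D1288) (tt N880 F4699))
theorem Q882 : ∀ i, i < 882 → P i := stepQ 881 Q881 (allL N881 (tt N1149 F201552) (tt N619 F4700) (tt N1236 (iv F6588)) (tt N881 F4701) (tt N1213 (iv F6471)) (tt N881 F4702) (tt N1231 (iv F6561)) (tt N881 F4703) (tt N618 (iv D897)) (tt N1152 F201553))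
theorem Q883 : ∀ i, i < 883 → P i := stepQ 882 Q882 (allL N882 (tt N643 F200921) (tt N1152 (iv F201133)) (tt N882 F4705) (tt N882 F4706) (tt N1217 (iv F6488)) (tt N882 F4707) (tt N1234 (iv F6575)) (tt N882 F4708) (tt N882 F4709) (tt N619 (iv D898)))
theorem Q884 : ∀ i, i < 884 → P i := stepQ 883 Q883 (allL N883 (tt N1122 (iv F6032)) (tt N883 F4710) (tt N1237 D1290) (tt N620 (iv D899)) (tt N1238 D1291) (tt N883 F4711) (tt N622 F4712) (tt N883 F4713) (tt N883 F4714) (tt N1239 D1292))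
theorem Q885 : ∀ i, i < 885 → P i := stepQ 884 Q884 (allL N884 (tt N1123 (iv F6037)) (tt N884 F4715) (tt N884 F4716) (tt N1239 (iv F6607)) (tt N884 F4717) (tt N884 F4718) (tt N623 F4719) (tt N884 F4720) (tt N1240 D1293) (tt N620 (iv D900)))
theorem Q886 : ∀ i, i < 886 → P i := stepQ 885 Q885 (allL N885 (tt N1124 (iv F6043)) (tt N885 F4721) (tt N885 F4722) (tt N1241 D1294) (tt N885 F4723) (tt N885 F4724) (tt N624 F4725) (tt N885 F4726) (tt N621 (iv D901)) (tt N1240 (iv F6617)))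
theorem Q887 : ∀ i, i < 887 → P i := stepQ 886 Q886 (allL N886 (tt N1125 (iv F6049)) (tt N1242 D1295) (tt N622 (iv D902)) (tt N886 F4727) (tt N1243 D1296) (tt N630 F4728) (tt N1237 (iv F6598)) (tt N625 F4729) (tt N886 F4730) (tt N1244 D1297))
theorem Q888 : ∀ i, i < 888 → P i := stepQ 887 Q887 (allL N887 (tt N1126 (iv F6055)) (tt N887 F4731) (tt N1243 (iv F6629)) (tt N887 F4732) (tt N622 (iv D903)) (tt N887 F4733) (tt N1238 (iv F6603)) (tt N626 F4734) (tt N887 F4735) (tt N1245 D1298))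
theorem Q889 : ∀ i, i < 889 → P i := stepQ 888 Q888 (allL N888 (tt N1127 (iv F6060)) (tt N888 F4736) (tt N1244 (iv F6633)) (tt N623 F4737) (tt N1245 (iv F6639)) (tt N631 F4738) (tt N1239 (iv F6609)) (tt N627 F4739) (tt N1246 D1299) (tt N622 (iv D904)))
theorem Q890 : ∀ i, i < 890 → P i := stepQ 889 Q889 (allL N889 (tt N1128 (iv F6064)) (tt N889 F4740) (tt N889 F4741) (tt N1247 D1300) (tt N889 F4742) (tt N632 F4743) (tt N1240 (iv F6615)) (tt N628 F4744) (tt N623 (iv D905)) (tt N624 F4745))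
theorem Q891 : ∀ i, i < 891 → P i := stepQ 890 Q890 (allL N890 (tt N1129 (iv F6070)) (tt N890 F4746) (tt N1248 D1301) (tt N624 (iv D906)) (tt N1249 D1302) (tt N633 F4747) (tt N1241 (iv F6620)) (tt N629 F4748) (tt N890 F4749) (tt N1247 (iv F6649)))
theorem Q892 : ∀ i, i < 892 → P i := stepQ 891 Q891 (allL N891 (tt N891 F4750) (tt N625 (iv D907)) (tt N891 F4751) (tt N891 F4752) (tt N1250 D1303) (tt N634 F4753) (tt N891 F4754) (tt N1242 (iv F6627)) (tt N891 F4755) (tt N712 F202476))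
theorem Q893 : ∀ i, i < 893 → P i := stepQ 892 Q892 (allL N892 (tt N1130 (iv F6074)) (tt N1250 (iv F6659)) (tt N626 F4756) (tt N1251 D1305) (tt N625 (iv D908)) (tt N892 F4757) (tt N892 F4758) (tt N1243 (iv F6631)) (tt N892 F4759) (tt N1252 D1306))
theorem Q894 : ∀ i, i < 894 → P i := stepQ 893 Q893 (allL N893 (tt N1131 (iv F6080)) (tt N712 (iv F202083)) (tt N627 F4760) (tt N893 F4761) (tt N1252 (iv F6675)) (tt N635 F4762) (tt N893 F4763) (tt N1244 (iv F6636)) (tt N710 F201674) (tt N625 (iv D909)))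
theorem Q895 : ∀ i, i < 895 → P i := stepQ 894 Q894 (allL N894 (tt N1132 (iv F6086)) (tt N894 F4764) (tt N1252 (iv F6674)) (tt N894 F4765) (tt N627 F4766) (tt N894 F4767) (tt N894 F4768) (tt N1245 (iv F6641)) (tt N1253 D1308) (tt N626 (iv D910)))
theorem Q896 : ∀ i, i < 896 → P i := stepQ 895 Q895 (allL N895 (tt N1133 (iv F6091)) (tt N895 F4769) (tt N710 (iv F201297)) (tt N1254 D1309) (tt N1253 (iv F6683)) (tt N636 F4770) (tt N895 F4771) (tt N1246 (iv F6644)) (tt N627 (iv D911)) (tt N895 F4772))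
theorem Q897 : ∀ i, i < 897 → P i := stepQ 896 Q896 (allL N896 (tt N1134 (iv F6095)) (tt N896 F4773) (tt N1255 D1310) (tt N628 (iv D912)) (tt N1256 D1311) (tt N637 F4774) (tt N896 F4775) (tt N1247 (iv F6648)) (tt N1254 (iv F6690)) (tt N629 F4776))
theorem Q898 : ∀ i, i < 898 → P i := stepQ 897 Q897 (allL N897 (tt N1135 (iv F6099)) (tt N1257 D1312) (tt N629 (iv D913)) (tt N897 F4777) (tt N1258 D1313) (tt N638 F4778) (tt N897 F4779) (tt N1248 (iv F6652)) (tt N897 F4780) (tt N1255 (iv F6695)))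
theorem Q899 : ∀ i, i < 899 → P i := stepQ 898 Q898 (allL N898 (tt N1136 (iv F6104)) (tt N898 F4781) (tt N1258 (iv F6705)) (tt N898 F4782) (tt N629 (iv D914)) (tt N1259 D1314) (tt N898 F4783) (tt N1249 (iv F6656)) (tt N898 F4784) (tt N1256 (iv F6699)))
theorem Q900 : ∀ i, i < 900 → P i := stepQ 899 Q899 (allL N899 (tt N899 F4785) (tt N630 (iv D915)) (tt N899 F4786) (tt N899 F4787) (tt N899 F4788) (tt N1242 (iv F6626)) (tt N899 F4789) (tt N634 F4790) (tt N899 F4791) (tt N706 F201684))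
theorem Q901 : ∀ i, i < 901 → P i := stepQ 900 Q900 (allL N900 (tt N1137 (iv F6108)) (tt N706 (iv F201303)) (tt N631 F4792) (tt N900 F4793) (tt N900 F4794) (tt N1244 (iv F6635)) (tt N900 F4795) (tt N635 F4796) (tt N703 F200925) (tt N630 (iv D916)))
theorem Q902 : ∀ i, i < 902 → P i := stepQ 901 Q901 (allL N901 (tt N1138 (iv F6115)) (tt N901 F4797) (tt N703 (iv F200648)) (tt N1260 D1317) (tt N901 F4798) (tt N1246 (iv F6643)) (tt N901 F4799) (tt N636 F4800) (tt N631 (iv D917)) (tt N901 F4801))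
theorem Q903 : ∀ i, i < 903 → P i := stepQ 902 Q902 (allL N902 (tt N1139 (iv F6120)) (tt N902 F4802) (tt N1261 D1318) (tt N632 (iv D918)) (tt N1262 D1319) (tt N1247 (iv F6647)) (tt N902 F4803) (tt N637 F4804) (tt N1260 (iv F6727)) (tt N633 F4805))
theorem Q904 : ∀ i, i < 904 → P i := stepQ 903 Q903 (allL N903 (tt N1140 (iv F6124)) (tt N1263 D1320) (tt N633 (iv D919)) (tt N903 F4806) (tt N1264 D1321) (tt N1248 (iv F6651)) (tt N903 F4807) (tt N638 F4808) (tt N903 F4809) (tt N1261 (iv F6732)))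
theorem Q905 : ∀ i, i < 905 → P i := stepQ 904 Q904 (allL N904 (tt N1141 (iv F6129)) (tt N904 F4810) (tt N1264 (iv F6743)) (tt N648 F4811) (tt N633 (iv D920)) (tt N1265 D1322) (tt N904 F4812) (tt N639 F4813) (tt N904 F4814) (tt N1262 (iv F6737)))
theorem Q906 : ∀ i, i < 906 → P i := stepQ 905 Q905 (allL N905 (tt N1142 (iv F6140)) (tt N905 F4825) (tt N697 (iv F200572)) (tt N636 (iv D923)) (tt N1266 D1326) (tt N1254 (iv F6688)) (tt N640 F4826) (tt N1260 (iv F6726)) (tt N637 F4827) (tt N905 F4828))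
theorem Q907 : ∀ i, i < 907 → P i := stepQ 906 Q906 (allL N906 (tt N1143 (iv F6144)) (tt N700 (iv F200568)) (tt N637 (iv D924)) (tt N906 F4829) (tt N1267 D1328) (tt N1255 (iv F6693)) (tt N641 F4830) (tt N1261 (iv F6731)) (tt N697 (iv F200573)) (tt N638 F4831))
theorem Q908 : ∀ i, i < 908 → P i := stepQ 907 Q907 (allL N907 (tt N1144 (iv F6148)) (tt N907 F4832) (tt N1267 (iv F6772)) (tt N650 F4833) (tt N637 (iv D925)) (tt N1268 D1329) (tt N642 F4834) (tt N1262 (iv F6736)) (tt N1266 (iv F6766)) (tt N639 F4835))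
theorem Q909 : ∀ i, i < 909 → P i := stepQ 908 Q908 (allL N908 (tt N1234 (iv F200579)) (tt N638 (iv D926)) (tt N908 F4836) (tt N908 F4837) (tt N1269 D1331) (tt N1257 (iv F6702)) (tt N643 F4838) (tt N1263 (iv F6741)) (tt N908 F4839) (tt N700 (iv F200569)))
theorem Q910 : ∀ i, i < 910 → P i := stepQ 909 Q909 (allL N909 (tt N1146 (iv F6155)) (tt N1269 (iv F6782)) (tt N639 F4840) (tt N1270 D1332) (tt N638 (iv D927)) (tt N1271 D1333) (tt N644 F4841) (tt N1264 (iv F6745)) (tt N909 F4842) (tt N1267 (iv F6774)))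
theorem Q911 : ∀ i, i < 911 → P i := stepQ 910 Q910 (allL N910 (tt N1147 (iv F6159)) (tt N910 F4843) (tt N1271 (iv F6789)) (tt N653 F4844) (tt N1259 (iv F6710)) (tt N639 (iv D928)) (tt N1272 D1334) (tt N1265 (iv F6749)) (tt N910 F4845) (tt N1268 (iv F6777)))
theorem Q912 : ∀ i, i < 912 → P i := stepQ 911 Q911 (allL N911 (tt N1148 (iv F6173)) (tt N911 F4861) (tt N682 (iv F200574)) (tt N911 F4862) (tt N640 (iv D932)) (tt N1273 D1340) (tt N1266 (iv F6765)) (tt N911 F4863) (tt N642 F4864) (tt N911 F4865))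
theorem Q913 : ∀ i, i < 913 → P i := stepQ 912 Q912 (allL N912 (tt N1150 (iv F6182)) (tt N685 (iv F200570)) (tt N642 F4871) (tt N1274 D1343) (tt N641 (iv D934)) (tt N1275 D1344) (tt N1267 (iv F6773)) (tt N912 F4872) (tt N682 (iv F200575)) (tt N644 F4873))
theorem Q914 : ∀ i, i < 914 → P i := stepQ 913 Q913 (allL N913 (tt N1151 (iv F6186)) (tt N913 F4874) (tt N1275 (iv F6838)) (tt N656 F4875) (tt N913 F4876) (tt N642 (iv D935)) (tt N1276 D1345) (tt N913 F4877) (tt N1273 (iv F6823)) (tt N645 F4878))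
theorem Q915 : ∀ i, i < 915 → P i := stepQ 914 Q914 (allL N914 (tt N1217 (iv F200576)) (tt N644 F4884) (tt N914 F4885) (tt N1277 D1347) (tt N643 (iv D937)) (tt N1278 D1348) (tt N1269 (iv F6784)) (tt N914 F4886) (tt N914 F4887) (tt N685 (iv F200571)))
theorem Q916 : ∀ i, i < 916 → P i := stepQ 915 Q915 (allL N915 (tt N1154 (iv F6199)) (tt N1277 (iv F6850)) (tt N659 F4888) (tt N644 (iv D938)) (tt N915 F4889) (tt N1279 D1349) (tt N1270 (iv F6788)) (tt N915 F4890) (tt N1280 D1350) (tt N1274 (iv F6837)))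
theorem Q917 : ∀ i, i < 917 → P i := stepQ 916 Q916 (allL N916 (tt N1155 (iv F6203)) (tt N1278 (iv F6853)) (tt N645 F4891) (tt N1279 (iv F6859)) (tt N916 F4892) (tt N644 (iv D939)) (tt N1281 D1351) (tt N916 F4893) (tt N916 F4894) (tt N1275 (iv F6841)))
theorem Q918 : ∀ i, i < 918 → P i := stepQ 917 Q917 (allL N917 (tt N1156 (iv F6208)) (tt N917 F4895) (tt N1281 (iv F6865)) (tt N661 F4896) (tt N917 F4897) (tt N1272 (iv F6793)) (tt N645 (iv D940)) (tt N1282 D1352) (tt N917 F4898) (tt N1276 (iv F6845)))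
theorem Q919 : ∀ i, i < 919 → P i := stepQ 918 Q918 (allL N918 (tt N1157 (iv F6212)) (tt N1283 D1353) (tt N646 (iv D941)) (tt N918 F4899) (tt N1284 D1354) (tt N918 F4900) (tt N918 F4901) (tt N649 F4902) (tt N918 F4903) (tt N647 F4904))
theorem Q920 : ∀ i, i < 920 → P i := stepQ 919 Q919 (allL N919 (tt N1158 (iv F6219)) (tt N919 F4905) (tt N1284 (iv F6880)) (tt N1262 (iv F6734)) (tt N646 (iv D942)) (tt N1285 D1355) (tt N919 F4906) (tt N650 F4907) (tt N919 F4908) (tt N648 F4909))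
theorem Q921 : ∀ i, i < 921 → P i := stepQ 920 Q920 (allL N920 (tt N1286 D1356) (tt N647 (iv D943)) (tt N920 F4910) (tt N920 F4911) (tt N1287 D1357) (tt N920 F4912) (tt N920 F4913) (tt N651 F4914) (tt N673 F4915) (tt N1283 (iv F6879)))
theorem Q922 : ∀ i, i < 922 → P i := stepQ 921 Q921 (allL N921 (tt N1160 (iv F6229)) (tt N1287 (iv F6896)) (tt N648 F4916) (tt N1288 D1358) (tt N647 (iv D944)) (tt N1289 D1359) (tt N921 F4917) (tt N652 F4918) (tt N674 F4919) (tt N1284 (iv F6884)))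
theorem Q923 : ∀ i, i < 923 → P i := stepQ 922 Q922 (allL N922 (tt N1161 (iv F6234)) (tt N922 F4920) (tt N1289 (iv F6904)) (tt N1265 (iv F6748)) (tt N922 F4921) (tt N648 (iv D945)) (tt N1290 D1360) (tt N653 F4922) (tt N675 F4923) (tt N1285 (iv F6889)))
theorem Q924 : ∀ i, i < 924 → P i := stepQ 923 Q923 (allL N923 (tt N1291 D1361) (tt N649 (iv D946)) (tt N923 F4924) (tt N923 F4925) (tt N1292 D1362) (tt N923 F4926) (tt N654 F4927) (tt N1283 (iv F6877)) (tt N923 F4928) (tt N651 F4929))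
theorem Q925 : ∀ i, i < 925 → P i := stepQ 924 Q924 (allL N924 (tt N1163 (iv F6243)) (tt N1292 (iv F6918)) (tt N650 F4930) (tt N1293 D1363) (tt N649 (iv D947)) (tt N1294 D1364) (tt N655 F4931) (tt N1284 (iv F6882)) (tt N924 F4932) (tt N652 F4933))
theorem Q926 : ∀ i, i < 926 → P i := stepQ 925 Q925 (allL N925 (tt N1164 (iv F6248)) (tt N925 F4934) (tt N1294 (iv F6926)) (tt N1268 (iv F6776)) (tt N925 F4935) (tt N650 (iv D948)) (tt N1295 D1365) (tt N1285 (iv F6887)) (tt N925 F4936) (tt N653 F4937))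
theorem Q927 : ∀ i, i < 927 → P i := stepQ 926 Q926 (allL N926 (tt N651 (iv D949)) (tt N1165 (iv F6252)) (tt N926 F4938) (tt N926 F4939) (tt N1296 D1366) (tt N926 F4940) (tt N657 F4941) (tt N1286 (iv F6894)) (tt N676 F4942) (tt N1291 (iv F6917)))
theorem Q928 : ∀ i, i < 928 → P i := stepQ 927 Q927 (allL N927 (tt N1296 (iv F6935)) (tt N652 F4943) (tt N927 F4944) (tt N1297 D1367) (tt N651 (iv D950)) (tt N1298 D1368) (tt N658 F4945) (tt N1287 (iv F6899)) (tt N677 F4946) (tt N1292 (iv F6922)))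
theorem Q929 : ∀ i, i < 929 → P i := stepQ 928 Q928 (allL N928 (tt N1167 (iv F6260)) (tt N1297 (iv F6939)) (tt N1270 (iv F6786)) (tt N652 (iv D951)) (tt N928 F4947) (tt N1299 D1369) (tt N659 F4948) (tt N1288 (iv F6903)) (tt N1300 D1370) (tt N1293 (iv F6925)))
theorem Q930 : ∀ i, i < 930 → P i := stepQ 929 Q929 (allL N929 (tt N1168 (iv F6263)) (tt N1298 (iv F6942)) (tt N653 F4949) (tt N1299 (iv F6946)) (tt N929 F4950) (tt N652 (iv D952)) (tt N1301 D1371) (tt N1289 (iv F6906)) (tt N679 F4951) (tt N1294 (iv F6929)))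
theorem Q931 : ∀ i, i < 931 → P i := stepQ 930 Q930 (allL N930 (tt N1169 (iv F6267)) (tt N930 F4952) (tt N1301 (iv F6950)) (tt N1272 (iv F6792)) (tt N930 F4953) (tt N661 F4954) (tt N653 (iv D953)) (tt N1302 D1372) (tt N680 F4955) (tt N1295 (iv F6934)))
theorem Q932 : ∀ i, i < 932 → P i := stepQ 931 Q931 (allL N931 (tt N654 (iv D954)) (tt N1170 (iv F6271)) (tt N931 F4956) (tt N931 F4957) (tt N1303 D1373) (tt N662 F4958) (tt N1291 (iv F6915)) (tt N931 F4959) (tt N931 F4960) (tt N657 F4961))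
theorem Q933 : ∀ i, i < 933 → P i := stepQ 932 Q932 (allL N932 (tt N1303 (iv F6958)) (tt N655 F4962) (tt N932 F4963) (tt N1304 D1374) (tt N654 (iv D955)) (tt N1305 D1375) (tt N1292 (iv F6920)) (tt N932 F4964) (tt N932 F4965) (tt N658 F4966))
theorem Q934 : ∀ i, i < 934 → P i := stepQ 933 Q933 (allL N933 (tt N1172 (iv F6281)) (tt N1304 (iv F6963)) (tt N1274 (iv F6834)) (tt N655 (iv D956)) (tt N933 F4967) (tt N1306 D1376) (tt N1293 (iv F6924)) (tt N933 F4968) (tt N1307 D1377) (tt N659 F4969))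
theorem Q935 : ∀ i, i < 935 → P i := stepQ 934 Q934 (allL N934 (tt N1173 (iv F6285)) (tt N1305 (iv F6967)) (tt N656 F4970) (tt N1306 (iv F6973)) (tt N665 F4971) (tt N655 (iv D957)) (tt N1308 D1378) (tt N934 F4972) (tt N934 F4973) (tt N660 F4974))
theorem Q936 : ∀ i, i < 936 → P i := stepQ 935 Q935 (allL N935 (tt N1174 (iv F6291)) (tt N935 F4975) (tt N1308 (iv F6979)) (tt N1276 (iv F6843)) (tt N666 F4976) (tt N1295 (iv F6932)) (tt N656 (iv D958)) (tt N1309 D1379) (tt N935 F4977) (tt N661 F4978))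
theorem Q937 : ∀ i, i < 937 → P i := stepQ 936 Q936 (allL N936 (tt N658 F4979) (tt N1175 (iv F6296)) (tt N936 F4980) (tt N1310 D1380) (tt N657 (iv D959)) (tt N1311 D1381) (tt N1296 (iv F6937)) (tt N936 F4981) (tt N681 F4982) (tt N1303 (iv F6962)))
theorem Q938 : ∀ i, i < 938 → P i := stepQ 937 Q937 (allL N937 (tt N1310 (iv F6988)) (tt N659 F4983) (tt N1307 F200379) (tt N658 (iv D960)) (tt N937 F4984) (tt N1312 D1383) (tt N1297 (iv F6941)) (tt N937 F4985) (tt N1274 F200380) (tt N1304 (iv F6966)))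
theorem Q939 : ∀ i, i < 939 → P i := stepQ 938 Q938 (allL N938 (tt N1311 (iv F6991)) (tt N660 F4986) (tt N938 F4987) (tt N1312 (iv F7000)) (tt N669 F4988) (tt N658 (iv D961)) (tt N1313 D1385) (tt N938 F4989) (tt N683 F4990) (tt N1305 (iv F6972)))
theorem Q940 : ∀ i, i < 940 → P i := stepQ 939 Q939 (allL N939 (tt N1178 (iv F6306)) (tt N1312 (iv F6999)) (tt N1279 (iv F6858)) (tt N660 F4991) (tt N1314 D1386) (tt N659 (iv D962)) (tt N1315 D1387) (tt N939 F4992) (tt N1316 D1388) (tt N1306 (iv F6975)))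
theorem Q941 : ∀ i, i < 941 → P i := stepQ 940 Q940 (allL N940 (tt N1179 (iv F6309)) (tt N1274 F200382) (tt N1280 (iv F6861)) (tt N685 F4993) (tt N940 F4994) (tt N1316 (iv F7015)) (tt N1300 (iv F6949)) (tt N940 F4995) (tt N659 (iv D963)) (tt N1277 F200383))
theorem Q942 : ∀ i, i < 942 → P i := stepQ 941 Q941 (allL N941 (tt N1180 (iv F6313)) (tt N1313 (iv F7006)) (tt N661 F4996) (tt N1315 (iv F7013)) (tt N671 F4997) (tt N1301 (iv F6952)) (tt N660 (iv D964)) (tt N1317 D1390) (tt N686 F4998) (tt N1308 (iv F6982)))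
theorem Q943 : ∀ i, i < 943 → P i := stepQ 942 Q942 (allL N942 (tt N1181 (iv F6317)) (tt N942 F4999) (tt N1317 (iv F7020)) (tt N1282 (iv F6869)) (tt N672 F5000) (tt N1302 (iv F6956)) (tt N942 F5001) (tt N661 (iv D965)) (tt N687 F5002) (tt N1309 (iv F6987)))
theorem Q944 : ∀ i, i < 944 → P i := stepQ 943 Q943 (allL N943 (tt N663 F5003) (tt N1182 (iv F6322)) (tt N943 F5004) (tt N1318 D1391) (tt N662 (iv D966)) (tt N1319 D1392) (tt N943 F5005) (tt N943 F5006) (tt N943 F5007) (tt N667 F5008))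
theorem Q945 : ∀ i, i < 945 → P i := stepQ 944 Q944 (allL N944 (tt N1318 (iv F7024)) (tt N664 F5009) (tt N1320 D1393) (tt N663 (iv D967)) (tt N944 F5010) (tt N1321 D1394) (tt N944 F5011) (tt N944 F5012) (tt N1322 D1395) (tt N668 F5013))
theorem Q946 : ∀ i, i < 946 → P i := stepQ 945 Q945 (allL N945 (tt N1319 (iv F7029)) (tt N665 F5014) (tt N945 F5015) (tt N1321 (iv F7041)) (tt N1305 (iv F6969)) (tt N663 (iv D968)) (tt N1323 D1396) (tt N945 F5016) (tt N945 F5017) (tt N669 F5018))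
theorem Q947 : ∀ i, i < 947 → P i := stepQ 946 Q946 (allL N946 (tt N1185 (iv F6336)) (tt N1321 (iv F7040)) (tt N946 F5019) (tt N665 F5020) (tt N1324 D1397) (tt N664 (iv D969)) (tt N1325 D1398) (tt N946 F5021) (tt N1326 D1399) (tt N670 F5022))
theorem Q948 : ∀ i, i < 948 → P i := stepQ 947 Q947 (allL N947 (tt N1186 (iv F6341)) (tt N1322 (iv F7044)) (tt N947 F5023) (tt N947 F5024) (tt N947 F5025) (tt N1326 (iv F7065)) (tt N947 F5026) (tt N947 F5027) (tt N664 (iv D970)) (tt N947 F5028))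
theorem Q949 : ∀ i, i < 949 → P i := stepQ 948 Q948 (allL N948 (tt N1187 (iv F6348)) (tt N1323 (iv F7050)) (tt N666 F5029) (tt N1325 (iv F7060)) (tt N1308 (iv F6980)) (tt N948 F5030) (tt N665 (iv D971)) (tt N1327 D1400) (tt N948 F5031) (tt N671 F5032))
theorem Q950 : ∀ i, i < 950 → P i := stepQ 949 Q949 (allL N949 (tt N1188 (iv F6353)) (tt N949 F5033) (tt N1327 (iv F7068)) (tt N949 F5034) (tt N1309 (iv F6984)) (tt N949 F5035) (tt N949 F5036) (tt N666 (iv D972)) (tt N949 F5037) (tt N672 F5038))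
theorem Q951 : ∀ i, i < 951 → P i := stepQ 950 Q950 (allL N950 (tt N668 F5039) (tt N1189 (iv F6360)) (tt N1328 D1401) (tt N667 (iv D973)) (tt N950 F5040) (tt N1329 D1402) (tt N950 F5041) (tt N950 F5042) (tt N950 F5043) (tt N1318 (iv F7028)))
theorem Q952 : ∀ i, i < 952 → P i := stepQ 951 Q951 (allL N951 (tt N669 F5044) (tt N1190 (iv F6366)) (tt N951 F5045) (tt N1329 (iv F7080)) (tt N1311 (iv F6993)) (tt N667 (iv D974)) (tt N1330 D1403) (tt N951 F5046) (tt N688 F5047) (tt N1319 (iv F7033)))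
theorem Q953 : ∀ i, i < 953 → P i := stepQ 952 Q952 (allL N952 (tt N1328 (iv F7073)) (tt N952 F5048) (tt N668 (iv D975)) (tt N952 F5049) (tt N952 F5050) (tt N1331 D1404) (tt N952 F5051) (tt N952 F5052) (tt N952 F5053) (tt N1320 (iv F7039)))
theorem Q954 : ∀ i, i < 954 → P i := stepQ 953 Q953 (allL N953 (tt N1329 (iv F7079)) (tt N670 F5054) (tt N1331 (iv F7088)) (tt N669 F5055) (tt N1332 D1405) (tt N668 (iv D976)) (tt N1333 D1406) (tt N953 F5056) (tt N953 F5057) (tt N1321 (iv F7043)))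
theorem Q955 : ∀ i, i < 955 → P i := stepQ 954 Q954 (allL N954 (tt N1330 (iv F7083)) (tt N671 F5058) (tt N954 F5059) (tt N1333 (iv F7097)) (tt N1313 (iv F7008)) (tt N954 F5060) (tt N669 (iv D977)) (tt N1334 D1407) (tt N689 F5061) (tt N1323 (iv F7054)))
theorem Q956 : ∀ i, i < 956 → P i := stepQ 955 Q955 (allL N955 (tt N1194 (iv F6381)) (tt N1332 (iv F7092)) (tt N955 F5062) (tt N1314 (iv F7010)) (tt N670 (iv D978)) (tt N955 F5063) (tt N1335 D1408) (tt N955 F5064) (tt N955 F5065) (tt N1324 (iv F7058)))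
theorem Q957 : ∀ i, i < 957 → P i := stepQ 956 Q956 (allL N956 (tt N1195 (iv F6386)) (tt N1333 (iv F7096)) (tt N956 F5066) (tt N671 F5067) (tt N1335 (iv F7106)) (tt N956 F5068) (tt N670 (iv D979)) (tt N1336 D1409) (tt N956 F5069) (tt N1325 (iv F7062)))
theorem Q958 : ∀ i, i < 958 → P i := stepQ 957 Q957 (allL N957 (tt N1196 (iv F6391)) (tt N1334 (iv F7100)) (tt N672 F5070) (tt N1336 (iv F7109)) (tt N1317 (iv F7021)) (tt N957 F5071) (tt N957 F5072) (tt N671 (iv D980)) (tt N690 F5073) (tt N1327 (iv F7072)))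
theorem Q959 : ∀ i, i < 959 → P i := stepQ 958 Q958 (allL N958 (tt N673 (iv D981)) (tt N1197 (iv F6396)) (tt N958 F5074) (tt N691 F5075) (tt N1337 D1410) (tt N958 F5076) (tt N958 F5077) (tt N676 F5078) (tt N1286 (iv F6895)) (tt N958 F5079))
theorem Q960 : ∀ i, i < 960 → P i := stepQ 959 Q959 (allL N959 (tt N1337 (iv F7113)) (tt N674 F5080) (tt N959 F5081) (tt N1338 D1411) (tt N673 (iv D982)) (tt N1339 D1412) (tt N959 F5082) (tt N677 F5083) (tt N1287 (iv F6900)) (tt N959 F5084))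
theorem Q961 : ∀ i, i < 961 → P i := stepQ 960 Q960 (allL N960 (tt N1199 (iv F6406)) (tt N1338 (iv F7118)) (tt N960 F5085) (tt N674 (iv D983)) (tt N693 F5086) (tt N1340 D1413) (tt N960 F5087) (tt N678 F5088) (tt N1341 D1414) (tt N960 F5089))
theorem Q962 : ∀ i, i < 962 → P i := stepQ 961 Q961 (allL N961 (tt N1200 (iv F6412)) (tt N1339 (iv F7123)) (tt N675 F5090) (tt N1340 (iv F7129)) (tt N961 F5091) (tt N674 (iv D984)) (tt N1342 D1415) (tt N679 F5092) (tt N1289 (iv F6907)) (tt N961 F5093))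
theorem Q963 : ∀ i, i < 963 → P i := stepQ 962 Q962 (allL N962 (tt N1201 (iv F6417)) (tt N962 F5094) (tt N1342 (iv F7136)) (tt N962 F5095) (tt N962 F5096) (tt N962 F5097) (tt N675 (iv D985)) (tt N1343 D1416) (tt N1290 (iv F6911)) (tt N962 F5098))
theorem Q964 : ∀ i, i < 964 → P i := stepQ 963 Q963 (allL N963 (tt N677 F5099) (tt N1202 (iv F6423)) (tt N963 F5100) (tt N1344 D1417) (tt N676 (iv D986)) (tt N1345 D1418) (tt N681 F5101) (tt N1337 (iv F7116)) (tt N1296 (iv F6938)) (tt N963 F5102))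
theorem Q965 : ∀ i, i < 965 → P i := stepQ 964 Q964 (allL N964 (tt N1344 (iv F7146)) (tt N678 F5103) (tt N1266 F200335) (tt N677 (iv D987)) (tt N697 F5104) (tt N1346 D1420) (tt N682 F5105) (tt N1338 (iv F7121)) (tt N1267 F200336) (tt N964 F5106))
theorem Q966 : ∀ i, i < 966 → P i := stepQ 965 Q965 (allL N965 (tt N1345 (iv F7150)) (tt N679 F5107) (tt N965 F5108) (tt N1346 (iv F7160)) (tt N965 F5109) (tt N677 (iv D988)) (tt N1347 D1422) (tt N1339 (iv F7126)) (tt N1298 (iv F6945)) (tt N965 F5110))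
theorem Q967 : ∀ i, i < 967 → P i := stepQ 966 Q966 (allL N966 (tt N1205 (iv F6433)) (tt N1346 (iv F7159)) (tt N966 F5111) (tt N679 F5112) (tt N1348 D1423) (tt N678 (iv D989)) (tt N1349 D1424) (tt N1340 (iv F7130)) (tt N1350 D1425) (tt N966 F5113))
theorem Q968 : ∀ i, i < 968 → P i := stepQ 967 Q967 (allL N967 (tt N1206 (iv F6437)) (tt N1267 F200333) (tt N967 F5114) (tt N1300 (iv F6947)) (tt N700 F5115) (tt N1350 (iv F7179)) (tt N685 F5116) (tt N1341 (iv F7135)) (tt N678 (iv D990)) (tt N1269 F200334))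
theorem Q969 : ∀ i, i < 969 → P i := stepQ 968 Q968 (allL N968 (tt N1207 (iv F6441)) (tt N1347 (iv F7165)) (tt N680 F5117) (tt N1349 (iv F7175)) (tt N968 F5118) (tt N686 F5119) (tt N679 (iv D991)) (tt N1351 D1427) (tt N1301 (iv F6953)) (tt N968 F5120))
theorem Q970 : ∀ i, i < 970 → P i := stepQ 969 Q969 (allL N969 (tt N1208 (iv F6446)) (tt N969 F5121) (tt N1351 (iv F7184)) (tt N969 F5122) (tt N969 F5123) (tt N687 F5124) (tt N1343 (iv F7144)) (tt N680 (iv D992)) (tt N1302 (iv F6957)) (tt N969 F5125))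
theorem Q971 : ∀ i, i < 971 → P i := stepQ 970 Q970 (allL N970 (tt N682 F5126) (tt N1209 (iv F6452)) (tt N1148 F200808) (tt N681 (iv D993)) (tt N701 F5127) (tt N1352 D1429) (tt N1344 (iv F7148)) (tt N970 F5128) (tt N1150 F200809) (tt N970 F5129))
theorem Q972 : ∀ i, i < 972 → P i := stepQ 971 Q971 (allL N971 (tt N683 F5130) (tt N1210 (iv F6457)) (tt N971 F5131) (tt N1352 (iv F7194)) (tt N688 F5132) (tt N681 (iv D994)) (tt N1353 D1431) (tt N971 F5133) (tt N1311 (iv F6995)) (tt N971 F5134))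
theorem Q973 : ∀ i, i < 973 → P i := stepQ 972 Q972 (allL N972 (tt N1352 (iv F7193)) (tt N684 F5140) (tt N1273 F200917) (tt N683 F5141) (tt N972 F5142) (tt N682 (iv D996)) (tt N1354 D1434) (tt N972 F5143) (tt N1275 F200918) (tt N972 F5144))
theorem Q974 : ∀ i, i < 974 → P i := stepQ 973 Q973 (allL N973 (tt N1353 (iv F7201)) (tt N686 F5148) (tt N973 F5149) (tt N1354 (iv F7216)) (tt N689 F5150) (tt N1347 (iv F7168)) (tt N683 (iv D998)) (tt N1355 D1437) (tt N1313 (iv F7009)) (tt N973 F5151))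
theorem Q975 : ∀ i, i < 975 → P i := stepQ 974 Q974 (allL N974 (tt N1215 (iv F6476)) (tt N1354 (iv F7215)) (tt N974 F5152) (tt N686 F5153) (tt N974 F5154) (tt N1349 (iv F7176)) (tt N684 (iv D999)) (tt N1356 D1438) (tt N1357 D1439) (tt N974 F5155))
theorem Q976 : ∀ i, i < 976 → P i := stepQ 975 Q975 (allL N975 (tt N1216 (iv F6481)) (tt N1275 F200911) (tt N975 F5156) (tt N1316 (iv F7014)) (tt N975 F5157) (tt N685 F5158) (tt N1357 (iv F7239)) (tt N975 F5159) (tt N684 (iv D1000)) (tt N1278 F200912))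
theorem Q977 : ∀ i, i < 977 → P i := stepQ 976 Q976 (allL N976 (tt N1218 (iv F6491)) (tt N1355 (iv F7227)) (tt N687 F5164) (tt N1356 (iv F7233)) (tt N690 F5165) (tt N1351 (iv F7186)) (tt N976 F5166) (tt N686 (iv D1002)) (tt N1317 (iv F7023)) (tt N976 F5167))
theorem Q978 : ∀ i, i < 978 → P i := stepQ 977 Q977 (allL N977 (tt N689 F5168) (tt N1219 (iv F6497)) (tt N977 F5169) (tt N977 F5170) (tt N1353 (iv F7203)) (tt N977 F5171) (tt N688 (iv D1003)) (tt N1358 D1441) (tt N1330 (iv F7086)) (tt N977 F5172))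
theorem Q979 : ∀ i, i < 979 → P i := stepQ 978 Q978 (allL N978 (tt N1358 (iv F7245)) (tt N690 F5173) (tt N978 F5174) (tt N978 F5175) (tt N1355 (iv F7229)) (tt N978 F5176) (tt N978 F5177) (tt N689 (iv D1004)) (tt N1334 (iv F7104)) (tt N978 F5178))
theorem Q980 : ∀ i, i < 980 → P i := stepQ 979 Q979 (allL N979 (tt N692 F5179) (tt N1221 (iv F6507)) (tt N702 F5180) (tt N1359 D1442) (tt N691 (iv D1005)) (tt N1360 D1443) (tt N979 F5181) (tt N696 F5182) (tt N979 F5183) (tt N979 F5184))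
theorem Q981 : ∀ i, i < 981 → P i := stepQ 980 Q980 (allL N980 (tt N1359 (iv F7251)) (tt N693 F5185) (tt N1260 F200414) (tt N692 (iv D1006)) (tt N1338 (iv F7119)) (tt N1361 D1445) (tt N980 F5186) (tt N697 F5187) (tt N1261 F200415) (tt N980 F5188))
theorem Q982 : ∀ i, i < 982 → P i := stepQ 981 Q981 (allL N981 (tt N1360 (iv F7255)) (tt N694 F5189) (tt N704 F5190) (tt N1361 (iv F7267)) (tt N981 F5191) (tt N692 (iv D1007)) (tt N1362 D1447) (tt N698 F5192) (tt N981 F5193) (tt N981 F5194))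
theorem Q983 : ∀ i, i < 983 → P i := stepQ 982 Q982 (allL N982 (tt N1224 (iv F6523)) (tt N1361 (iv F7266)) (tt N982 F5195) (tt N694 F5196) (tt N1363 D1448) (tt N693 (iv D1008)) (tt N1364 D1449) (tt N699 F5197) (tt N1365 D1450) (tt N982 F5198))
theorem Q984 : ∀ i, i < 984 → P i := stepQ 983 Q983 (allL N983 (tt N1225 (iv F6528)) (tt N1261 F200385) (tt N983 F5199) (tt N983 F5200) (tt N1341 (iv F7133)) (tt N1365 (iv F7292)) (tt N983 F5201) (tt N700 F5202) (tt N693 (iv D1009)) (tt N1263 F200386))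
theorem Q985 : ∀ i, i < 985 → P i := stepQ 984 Q984 (allL N984 (tt N1226 (iv F6533)) (tt N1362 (iv F7274)) (tt N695 F5203) (tt N1364 (iv F7286)) (tt N984 F5204) (tt N984 F5205) (tt N694 (iv D1010)) (tt N984 F5206) (tt N984 F5207) (tt N984 F5208))
theorem Q986 : ∀ i, i < 986 → P i := stepQ 985 Q985 (allL N985 (tt N697 F5209) (tt N1227 (iv F6541)) (tt N1142 F200806) (tt N696 (iv D1011)) (tt N1344 (iv F7147)) (tt N1366 D1453) (tt N701 F5210) (tt N1359 (iv F7253)) (tt N1143 F200807) (tt N985 F5211))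
theorem Q987 : ∀ i, i < 987 → P i := stepQ 986 Q986 (allL N986 (tt N698 F5212) (tt N1228 (iv F6545)) (tt N709 F5213) (tt N1366 (iv F7304)) (tt N986 F5214) (tt N696 (iv D1012)) (tt N986 F5215) (tt N1360 (iv F7258)) (tt N986 F5216) (tt N986 F5217))
theorem Q988 : ∀ i, i < 988 → P i := stepQ 987 Q987 (allL N987 (tt N1366 (iv F7303)) (tt N699 F5222) (tt N1254 F200913) (tt N698 F5223) (tt N1367 D1457) (tt N697 (iv D1014)) (tt N987 F5224) (tt N1361 (iv F7268)) (tt N1255 F200914) (tt N987 F5225))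
theorem Q989 : ∀ i, i < 989 → P i := stepQ 988 Q988 (allL N988 (tt N1232 (iv F6562)) (tt N1367 (iv F7318)) (tt N988 F5229) (tt N988 F5230) (tt N699 (iv D1016)) (tt N1348 (iv F7172)) (tt N988 F5231) (tt N1363 (iv F7283)) (tt N1368 D1460) (tt N988 F5232))
theorem Q990 : ∀ i, i < 990 → P i := stepQ 989 Q989 (allL N989 (tt N1233 (iv F6567)) (tt N1255 F200907) (tt N989 F5233) (tt N989 F5234) (tt N1368 (iv F7331)) (tt N700 F5235) (tt N989 F5236) (tt N1365 (iv F7293)) (tt N699 (iv D1017)) (tt N1257 F200908))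
theorem Q991 : ∀ i, i < 991 → P i := stepQ 990 Q990 (allL N990 (tt N703 F5259) (tt N990 F5260) (tt N1138 F200904) (tt N702 (iv D1023)) (tt N990 F5261) (tt N1369 D1468) (tt N990 F5262) (tt N708 F5263) (tt N1137 (iv F201293)) (tt N990 F5264))
theorem Q992 : ∀ i, i < 992 → P i := stepQ 991 Q991 (allL N991 (tt N704 F5265) (tt N991 F5266) (tt N1360 (iv F7256)) (tt N1369 (iv F7369)) (tt N991 F5267) (tt N702 (iv D1024)) (tt N1370 D1470) (tt N709 F5268) (tt N991 F5269) (tt N991 F5270))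
theorem Q993 : ∀ i, i < 993 → P i := stepQ 992 Q992 (allL N992 (tt N1369 (iv F7367)) (tt N705 F5276) (tt N1246 F201000) (tt N704 F5277) (tt N1371 D1473) (tt N703 (iv D1026)) (tt N1372 D1474) (tt N710 F5278) (tt N1244 (iv F201302)) (tt N992 F5279))
theorem Q994 : ∀ i, i < 994 → P i := stepQ 993 Q993 (allL N993 (tt N1370 (iv F7378)) (tt N707 F5285) (tt N1362 (iv F7275)) (tt N1372 (iv F7400)) (tt N993 F5286) (tt N993 F5287) (tt N704 (iv D1028)) (tt N993 F5288) (tt N993 F5289) (tt N993 F5290))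
theorem Q995 : ∀ i, i < 995 → P i := stepQ 994 Q994 (allL N994 (tt N994 F5291) (tt N1371 (iv F7394)) (tt N994 F5292) (tt N994 F5293) (tt N705 (iv D1029)) (tt N994 F5294) (tt N1373 D1477) (tt N711 F5295) (tt N1374 D1478) (tt N994 F5296))
theorem Q996 : ∀ i, i < 996 → P i := stepQ 995 Q995 (allL N995 (tt N995 F5297) (tt N1372 (iv F7399)) (tt N995 F5298) (tt N707 F5299) (tt N1373 (iv F7417)) (tt N995 F5300) (tt N705 (iv D1030)) (tt N995 F5301) (tt N1375 D1479) (tt N995 F5302))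
theorem Q997 : ∀ i, i < 997 → P i := stepQ 996 Q996 (allL N996 (tt N996 F5303) (tt N1244 F201682) (tt N996 F5304) (tt N996 F5305) (tt N1374 (iv F7422)) (tt N706 F5306) (tt N1375 (iv F7429)) (tt N712 F5307) (tt N705 (iv D1031)) (tt N1242 (iv F202093)))
theorem Q998 : ∀ i, i < 998 → P i := stepQ 997 Q997 (allL N997 (tt N710 F5319) (tt N997 F5320) (tt N1133 F201614) (tt N709 F5321) (tt N1376 D1484) (tt N708 (iv D1034)) (tt N997 F5322) (tt N1369 (iv F7370)) (tt N1131 (iv F202034)) (tt N997 F5323))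
theorem Q999 : ∀ i, i < 999 → P i := stepQ 998 Q998 (allL N998 (tt N1376 (iv F7450)) (tt N711 F5337) (tt N1253 F201680) (tt N998 F5338) (tt N710 (iv D1038)) (tt N998 F5339) (tt N998 F5340) (tt N1371 (iv F7397)) (tt N1252 (iv F202084)) (tt N998 F5341))
theorem Q1000 : ∀ i, i < 1000 → P i := stepQ 999 Q999 (allL N999 (tt N999 F5351) (tt N1252 F202477) (tt N999 F5352) (tt N1377 D1493) (tt N712 F5353) (tt N999 F5354) (tt N999 F5355) (tt N1374 (iv F7424)) (tt N711 (iv D1041)) (tt N1250 (iv F202985)))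
theorem Q1001 : ∀ i, i < 1001 → P i := stepQ 1000 Q1000 (allL N1000 (tt N1000 F5390) (tt N1000 F5391) (tt N1000 F5392) (tt N1000 F5393) (tt N713 (iv D1048)) (tt N1000 F5394) (tt N1000 F5395) (tt N1378 D1500) (tt N1000 F5396) (tt N1379 D1501))
theorem Q1002 : ∀ i, i < 1002 → P i := stepQ 1001 Q1001 (allL N1001 (tt N1001 F5397) (tt N1001 F5398) (tt N1001 F5399) (tt N717 F5400) (tt N1378 (iv F7533)) (tt N714 F5401) (tt N1380 D1502) (tt N713 (iv D1049)) (tt N1001 F5402) (tt N1381 D1503))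
theorem Q1003 : ∀ i, i < 1003 → P i := stepQ 1002 Q1002 (allL N1002 (tt N1002 F5403) (tt N1002 F5404) (tt N1002 F5405) (tt N719 F5406) (tt N1379 (iv F7540)) (tt N715 F5407) (tt N1002 F5408) (tt N1381 (iv F7555)) (tt N1382 D1504) (tt N713 (iv D1050)))
theorem Q1004 : ∀ i, i < 1004 → P i := stepQ 1003 Q1003 (allL N1003 (tt N1003 F5409) (tt N1003 F5410) (tt N1003 F5411) (tt N721 F5412) (tt N1003 F5413) (tt N1381 (iv F7554)) (tt N1003 F5414) (tt N715 F5415) (tt N1383 D1505) (tt N714 (iv D1051)))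
theorem Q1005 : ∀ i, i < 1005 → P i := stepQ 1004 Q1004 (allL N1004 (tt N1004 F5416) (tt N1004 F5417) (tt N1004 F5418) (tt N1384 D1506) (tt N1004 F5419) (tt N1382 (iv F7559)) (tt N716 F5420) (tt N1383 (iv F7567)) (tt N715 (iv D1052)) (tt N1004 F5421))
theorem Q1006 : ∀ i, i < 1006 → P i := stepQ 1005 Q1005 (allL N1005 (tt N1005 F5422) (tt N1005 F5423) (tt N1385 D1507) (tt N716 (iv D1053)) (tt N1386 D1508) (tt N1005 F5424) (tt N1384 (iv F7571)) (tt N1005 F5425) (tt N725 F5426) (tt N1005 F5427))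
theorem Q1007 : ∀ i, i < 1007 → P i := stepQ 1006 Q1006 (allL N1006 (tt N1006 F5428) (tt N1006 F5429) (tt N743 F5430) (tt N1380 (iv F7546)) (tt N1006 F5431) (tt N1006 F5432) (tt N717 (iv D1054)) (tt N1006 F5433) (tt N1387 D1509) (tt N1388 D1510))
theorem Q1008 : ∀ i, i < 1008 → P i := stepQ 1007 Q1007 (allL N1007 (tt N1007 F5434) (tt N1007 F5435) (tt N744 F5436) (tt N1007 F5437) (tt N1007 F5438) (tt N720 F5439) (tt N1387 (iv F7592)) (tt N718 F5440) (tt N717 (iv D1055)) (tt N1389 D1511))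
theorem Q1009 : ∀ i, i < 1009 → P i := stepQ 1008 Q1008 (allL N1008 (tt N1008 F5441) (tt N1008 F5442) (tt N745 F5443) (tt N1381 (iv F7553)) (tt N1008 F5444) (tt N721 F5445) (tt N1388 (iv F7599)) (tt N719 F5446) (tt N1390 D1512) (tt N717 (iv D1056)))
theorem Q1010 : ∀ i, i < 1010 → P i := stepQ 1009 Q1009 (allL N1009 (tt N1009 F5447) (tt N1009 F5448) (tt N747 F5449) (tt N1009 F5450) (tt N1009 F5451) (tt N722 F5452) (tt N1009 F5453) (tt N1389 (iv F7607)) (tt N1391 D1513) (tt N718 (iv D1057)))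
theorem Q1011 : ∀ i, i < 1011 → P i := stepQ 1010 Q1010 (allL N1010 (tt N1010 F5454) (tt N1010 F5455) (tt N748 F5456) (tt N1392 D1514) (tt N1010 F5457) (tt N723 F5458) (tt N1010 F5459) (tt N1390 (iv F7613)) (tt N719 (iv D1058)) (tt N1391 (iv F7620)))
theorem Q1012 : ∀ i, i < 1012 → P i := stepQ 1011 Q1011 (allL N1011 (tt N1011 F5460) (tt N1011 F5461) (tt N750 F5462) (tt N1011 F5463) (tt N727 F5464) (tt N1389 (iv F7606)) (tt N1011 F5465) (tt N722 F5466) (tt N1393 D1515) (tt N720 (iv D1059)))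
theorem Q1013 : ∀ i, i < 1013 → P i := stepQ 1012 Q1012 (allL N1012 (tt N1012 F5467) (tt N1012 F5468) (tt N751 F5469) (tt N1394 D1516) (tt N728 F5470) (tt N1390 (iv F7612)) (tt N1012 F5471) (tt N723 F5472) (tt N721 (iv D1060)) (tt N1393 (iv F7631)))
theorem Q1014 : ∀ i, i < 1014 → P i := stepQ 1013 Q1013 (allL N1013 (tt N1013 F5473) (tt N1013 F5474) (tt N753 F5475) (tt N1395 D1517) (tt N730 F5476) (tt N1391 (iv F7618)) (tt N724 F5477) (tt N1393 (iv F7630)) (tt N722 (iv D1061)) (tt N723 F5478))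
theorem Q1015 : ∀ i, i < 1015 → P i := stepQ 1014 Q1014 (allL N1014 (tt N1014 F5479) (tt N1014 F5480) (tt N1396 D1518) (tt N723 (iv D1062)) (tt N1397 D1519) (tt N1392 (iv F7623)) (tt N725 F5481) (tt N1394 (iv F7635)) (tt N1384 (iv F7572)) (tt N1395 (iv F7640)))
theorem Q1016 : ∀ i, i < 1016 → P i := stepQ 1015 Q1015 (allL N1015 (tt N1015 F5482) (tt N1015 F5483) (tt N1398 D1520) (tt N724 (iv D1063)) (tt N1399 D1521) (tt N1015 F5484) (tt N1395 (iv F7638)) (tt N1015 F5485) (tt N1015 F5486) (tt N725 F5487))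
theorem Q1017 : ∀ i, i < 1017 → P i := stepQ 1016 Q1016 (allL N1016 (tt N1016 F5488) (tt N1400 D1522) (tt N725 (iv D1064)) (tt N757 F5489) (tt N1401 D1523) (tt N1016 F5490) (tt N1396 (iv F7643)) (tt N1016 F5491) (tt N1385 (iv F7578)) (tt N1398 (iv F7653)))
theorem Q1018 : ∀ i, i < 1018 → P i := stepQ 1017 Q1017 (allL N1017 (tt N1017 F5492) (tt N1017 F5493) (tt N1401 (iv F7665)) (tt N735 F5494) (tt N725 (iv D1065)) (tt N1402 D1524) (tt N1397 (iv F7647)) (tt N1017 F5495) (tt N1386 (iv F7584)) (tt N1399 (iv F7659)))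
theorem Q1019 : ∀ i, i < 1019 → P i := stepQ 1018 Q1018 (allL N1018 (tt N1018 F5496) (tt N1018 F5497) (tt N1018 F5498) (tt N727 F5499) (tt N1018 F5500) (tt N1018 F5501) (tt N1018 F5502) (tt N729 F5503) (tt N1403 D1525) (tt N726 (iv D1066)))
theorem Q1020 : ∀ i, i < 1020 → P i := stepQ 1019 Q1019 (allL N1019 (tt N1019 F5504) (tt N1019 F5505) (tt N759 F5506) (tt N1404 D1526) (tt N1393 (iv F7628)) (tt N1019 F5507) (tt N1019 F5508) (tt N730 F5509) (tt N727 (iv D1067)) (tt N728 F5510))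
theorem Q1021 : ∀ i, i < 1021 → P i := stepQ 1020 Q1020 (allL N1020 (tt N1020 F5511) (tt N1020 F5512) (tt N1405 D1527) (tt N728 (iv D1068)) (tt N1406 D1528) (tt N1020 F5513) (tt N1020 F5514) (tt N731 F5515) (tt N1020 F5516) (tt N1404 (iv F7685)))
theorem Q1022 : ∀ i, i < 1022 → P i := stepQ 1021 Q1021 (allL N1021 (tt N1021 F5517) (tt N1021 F5518) (tt N1021 F5519) (tt N1407 D1529) (tt N1021 F5520) (tt N1021 F5521) (tt N732 F5522) (tt N1403 (iv F7678)) (tt N729 (iv D1069)) (tt N1021 F5523))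
theorem Q1023 : ∀ i, i < 1023 → P i := stepQ 1022 Q1022 (allL N1022 (tt N1022 F5524) (tt N1022 F5525) (tt N1408 D1530) (tt N730 (iv D1070)) (tt N1409 D1531) (tt N1022 F5526) (tt N733 F5527) (tt N1404 (iv F7684)) (tt N1407 (iv F7701)) (tt N731 F5528))
theorem Q1024 : ∀ i, i < 1024 → P i := stepQ 1023 Q1023 (allL N1023 (tt N1023 F5529) (tt N1410 D1532) (tt N731 (iv D1071)) (tt N762 F5530) (tt N1411 D1533) (tt N1023 F5531) (tt N734 F5532) (tt N1405 (iv F7690)) (tt N1023 F5533) (tt N1408 (iv F7707)))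
theorem Q1025 : ∀ i, i < 1025 → P i := stepQ 1024 Q1024 (allL N1024 (tt N1024 F5534) (tt N1024 F5535) (tt N1411 (iv F7718)) (tt N1397 (iv F7646)) (tt N731 (iv D1072)) (tt N1412 D1534) (tt N735 F5536) (tt N1406 (iv F7695)) (tt N1024 F5537) (tt N1409 (iv F7711)))
theorem Q1026 : ∀ i, i < 1026 → P i := stepQ 1025 Q1025 (allL N1025 (tt N1025 F5538) (tt N1025 F5539) (tt N1413 D1535) (tt N732 (iv D1073)) (tt N1414 D1536) (tt N737 F5540) (tt N1407 (iv F7700)) (tt N1025 F5541) (tt N733 F5542) (tt N1025 F5543))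
theorem Q1027 : ∀ i, i < 1027 → P i := stepQ 1026 Q1026 (allL N1026 (tt N1026 F5544) (tt N1415 D1537) (tt N733 (iv D1074)) (tt N764 F5545) (tt N1416 D1538) (tt N738 F5546) (tt N1408 (iv F7706)) (tt N1026 F5547) (tt N1413 (iv F7729)) (tt N734 F5548))
theorem Q1028 : ∀ i, i < 1028 → P i := stepQ 1027 Q1027 (allL N1027 (tt N1027 F5549) (tt N1027 F5550) (tt N1416 (iv F7743)) (tt N1399 (iv F7656)) (tt N733 (iv D1075)) (tt N1417 D1539) (tt N1409 (iv F7710)) (tt N1027 F5551) (tt N1414 (iv F7735)) (tt N735 F5552))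
theorem Q1029 : ∀ i, i < 1029 → P i := stepQ 1028 Q1028 (allL N1028 (tt N1418 D1540) (tt N734 (iv D1076)) (tt N1028 F5553) (tt N766 F5554) (tt N1419 D1541) (tt N740 F5555) (tt N1410 (iv F7715)) (tt N1028 F5556) (tt N1028 F5557) (tt N1415 (iv F7741)))
theorem Q1030 : ∀ i, i < 1030 → P i := stepQ 1029 Q1029 (allL N1029 (tt N1029 F5558) (tt N1419 (iv F7757)) (tt N735 F5559) (tt N1420 D1542) (tt N734 (iv D1077)) (tt N1421 D1543) (tt N1411 (iv F7719)) (tt N1029 F5560) (tt N1029 F5561) (tt N1416 (iv F7745)))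
theorem Q1031 : ∀ i, i < 1031 → P i := stepQ 1030 Q1030 (allL N1030 (tt N1030 F5562) (tt N1030 F5563) (tt N1421 (iv F7765)) (tt N1402 (iv F7669)) (tt N742 F5564) (tt N735 (iv D1078)) (tt N1422 D1544) (tt N1030 F5565) (tt N1030 F5566) (tt N1417 (iv F7750)))
theorem Q1032 : ∀ i, i < 1032 → P i := stepQ 1031 Q1031 (allL N1031 (tt N1031 F5567) (tt N1031 F5568) (tt N1423 D1545) (tt N736 (iv D1079)) (tt N1424 D1546) (tt N1031 F5569) (tt N1031 F5570) (tt N1031 F5571) (tt N1031 F5572) (tt N1031 F5573))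
theorem Q1033 : ∀ i, i < 1033 → P i := stepQ 1032 Q1032 (allL N1032 (tt N1032 F5574) (tt N1425 D1547) (tt N737 (iv D1080)) (tt N1032 F5575) (tt N1426 D1548) (tt N1413 (iv F7727)) (tt N1032 F5576) (tt N1032 F5577) (tt N738 F5578) (tt N1032 F5579))
theorem Q1034 : ∀ i, i < 1034 → P i := stepQ 1033 Q1033 (allL N1033 (tt N1033 F5580) (tt N1033 F5581) (tt N1426 (iv F7794)) (tt N1424 (iv F7782)) (tt N737 (iv D1081)) (tt N1427 D1549) (tt N1033 F5582) (tt N1033 F5583) (tt N739 F5584) (tt N1033 F5585))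
theorem Q1035 : ∀ i, i < 1035 → P i := stepQ 1034 Q1034 (allL N1034 (tt N1428 D1550) (tt N738 (iv D1082)) (tt N1034 F5586) (tt N769 F5587) (tt N1429 D1551) (tt N1415 (iv F7739)) (tt N1034 F5588) (tt N1034 F5589) (tt N1425 (iv F7791)) (tt N740 F5590))
theorem Q1036 : ∀ i, i < 1036 → P i := stepQ 1035 Q1035 (allL N1035 (tt N1035 F5591) (tt N1429 (iv F7810)) (tt N739 F5592) (tt N1430 D1552) (tt N738 (iv D1083)) (tt N1431 D1553) (tt N1035 F5593) (tt N1035 F5594) (tt N1426 (iv F7797)) (tt N741 F5595))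
theorem Q1037 : ∀ i, i < 1037 → P i := stepQ 1036 Q1036 (allL N1036 (tt N1036 F5596) (tt N1036 F5597) (tt N1431 (iv F7822)) (tt N1036 F5598) (tt N1417 (iv F7748)) (tt N739 (iv D1084)) (tt N1432 D1554) (tt N1036 F5599) (tt N1427 (iv F7802)) (tt N742 F5600))
theorem Q1038 : ∀ i, i < 1038 → P i := stepQ 1037 Q1037 (allL N1037 (tt N740 (iv D1085)) (tt N1037 F5601) (tt N1037 F5602) (tt N772 F5603) (tt N1433 D1555) (tt N1418 (iv F7754)) (tt N1037 F5604) (tt N1037 F5605) (tt N1037 F5606) (tt N1428 (iv F7809)))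
theorem Q1039 : ∀ i, i < 1039 → P i := stepQ 1038 Q1038 (allL N1038 (tt N1433 (iv F7830)) (tt N741 F5607) (tt N1038 F5608) (tt N1434 D1556) (tt N740 (iv D1086)) (tt N1435 D1557) (tt N1038 F5609) (tt N1038 F5610) (tt N1038 F5611) (tt N1429 (iv F7814)))
theorem Q1040 : ∀ i, i < 1040 → P i := stepQ 1039 Q1039 (allL N1039 (tt N1039 F5612) (tt N1434 (iv F7836)) (tt N1039 F5613) (tt N741 (iv D1087)) (tt N774 F5614) (tt N1436 D1558) (tt N1039 F5615) (tt N1039 F5616) (tt N1437 D1559) (tt N1430 (iv F7820)))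
theorem Q1041 : ∀ i, i < 1041 → P i := stepQ 1040 Q1040 (allL N1040 (tt N1040 F5617) (tt N1435 (iv F7840)) (tt N742 F5618) (tt N1436 (iv F7846)) (tt N1421 (iv F7766)) (tt N741 (iv D1088)) (tt N1438 D1560) (tt N1040 F5619) (tt N1040 F5620) (tt N1431 (iv F7824)))
theorem Q1042 : ∀ i, i < 1042 → P i := stepQ 1041 Q1041 (allL N1041 (tt N1041 F5621) (tt N1041 F5622) (tt N1438 (iv F7855)) (tt N1041 F5623) (tt N1422 (iv F7771)) (tt N1041 F5624) (tt N742 (iv D1089)) (tt N1439 D1561) (tt N1041 F5625) (tt N1432 (iv F7829)))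
theorem Q1043 : ∀ i, i < 1043 → P i := stepQ 1042 Q1042 (allL N1042 (tt N1042 F5626) (tt N799 F5627) (tt N1387 (iv F7588)) (tt N1440 D1562) (tt N1042 F5628) (tt N1042 F5629) (tt N744 F5630) (tt N1042 F5631) (tt N743 (iv D1090)) (tt N1441 D1563))
theorem Q1044 : ∀ i, i < 1044 → P i := stepQ 1043 Q1043 (allL N1043 (tt N1043 F5632) (tt N800 F5633) (tt N1388 (iv F7596)) (tt N1043 F5634) (tt N1043 F5635) (tt N1043 F5636) (tt N745 F5637) (tt N1043 F5638) (tt N1442 D1564) (tt N743 (iv D1091)))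
theorem Q1045 : ∀ i, i < 1045 → P i := stepQ 1044 Q1044 (allL N1044 (tt N1044 F5639) (tt N801 F5640) (tt N1044 F5641) (tt N744 (iv D1092)) (tt N1443 D1565) (tt N749 F5642) (tt N1440 (iv F7868)) (tt N746 F5643) (tt N1044 F5644) (tt N1444 D1566))
theorem Q1046 : ∀ i, i < 1046 → P i := stepQ 1045 Q1045 (allL N1045 (tt N1045 F5645) (tt N802 F5646) (tt N1389 (iv F7603)) (tt N1444 (iv F7893)) (tt N1045 F5647) (tt N750 F5648) (tt N1441 (iv F7875)) (tt N747 F5649) (tt N1445 D1567) (tt N744 (iv D1093)))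
theorem Q1047 : ∀ i, i < 1047 → P i := stepQ 1046 Q1046 (allL N1046 (tt N1046 F5650) (tt N803 F5651) (tt N1390 (iv F7610)) (tt N1446 D1568) (tt N1046 F5652) (tt N751 F5653) (tt N1442 (iv F7881)) (tt N748 F5654) (tt N745 (iv D1094)) (tt N1445 (iv F7901)))
theorem Q1048 : ∀ i, i < 1048 → P i := stepQ 1047 Q1047 (allL N1047 (tt N1047 F5655) (tt N805 F5656) (tt N1047 F5657) (tt N1047 F5658) (tt N746 (iv D1095)) (tt N1047 F5659) (tt N1047 F5660) (tt N1443 (iv F7888)) (tt N1047 F5661) (tt N1447 D1569))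
theorem Q1049 : ∀ i, i < 1049 → P i := stepQ 1048 Q1048 (allL N1048 (tt N1048 F5662) (tt N806 F5663) (tt N1048 F5664) (tt N747 F5665) (tt N1447 (iv F7911)) (tt N752 F5666) (tt N1048 F5667) (tt N1444 (iv F7895)) (tt N1448 D1570) (tt N746 (iv D1096)))
theorem Q1050 : ∀ i, i < 1050 → P i := stepQ 1049 Q1049 (allL N1049 (tt N1049 F5668) (tt N807 F5669) (tt N1391 (iv F7616)) (tt N1449 D1571) (tt N1049 F5670) (tt N753 F5671) (tt N1049 F5672) (tt N1445 (iv F7900)) (tt N747 (iv D1097)) (tt N748 F5673))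
theorem Q1051 : ∀ i, i < 1051 → P i := stepQ 1050 Q1050 (allL N1050 (tt N1050 F5674) (tt N808 F5675) (tt N1450 D1572) (tt N748 (iv D1098)) (tt N1451 D1573) (tt N754 F5676) (tt N1050 F5677) (tt N1446 (iv F7905)) (tt N1050 F5678) (tt N1449 (iv F7924)))
theorem Q1052 : ∀ i, i < 1052 → P i := stepQ 1051 Q1051 (allL N1051 (tt N1051 F5679) (tt N810 F5680) (tt N1051 F5681) (tt N750 F5682) (tt N1051 F5683) (tt N1444 (iv F7894)) (tt N1051 F5684) (tt N752 F5685) (tt N1452 D1574) (tt N749 (iv D1099)))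
theorem Q1053 : ∀ i, i < 1053 → P i := stepQ 1052 Q1052 (allL N1052 (tt N1052 F5686) (tt N811 F5687) (tt N1393 (iv F7627)) (tt N1453 D1575) (tt N759 F5688) (tt N1445 (iv F7899)) (tt N1052 F5689) (tt N753 F5690) (tt N750 (iv D1100)) (tt N751 F5691))
theorem Q1054 : ∀ i, i < 1054 → P i := stepQ 1053 Q1053 (allL N1053 (tt N1053 F5692) (tt N812 F5693) (tt N1454 D1576) (tt N751 (iv D1101)) (tt N1455 D1577) (tt N1446 (iv F7904)) (tt N1053 F5694) (tt N754 F5695) (tt N1053 F5696) (tt N1453 (iv F7945)))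
theorem Q1055 : ∀ i, i < 1055 → P i := stepQ 1054 Q1054 (allL N1054 (tt N1054 F5697) (tt N814 F5698) (tt N1054 F5699) (tt N1456 D1578) (tt N1054 F5700) (tt N1448 (iv F7917)) (tt N755 F5701) (tt N1452 (iv F7939)) (tt N752 (iv D1102)) (tt N1054 F5702))
theorem Q1056 : ∀ i, i < 1056 → P i := stepQ 1055 Q1055 (allL N1055 (tt N1055 F5703) (tt N815 F5704) (tt N1457 D1579) (tt N753 (iv D1103)) (tt N1458 D1580) (tt N1449 (iv F7922)) (tt N756 F5705) (tt N1453 (iv F7944)) (tt N1456 (iv F7959)) (tt N754 F5706))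
theorem Q1057 : ∀ i, i < 1057 → P i := stepQ 1056 Q1056 (allL N1056 (tt N1056 F5707) (tt N1459 D1581) (tt N754 (iv D1104)) (tt N1396 (iv F7642)) (tt N1460 D1582) (tt N1450 (iv F7926)) (tt N757 F5708) (tt N1454 (iv F7948)) (tt N1056 F5709) (tt N1457 (iv F7963)))
theorem Q1058 : ∀ i, i < 1058 → P i := stepQ 1057 Q1057 (allL N1057 (tt N1057 F5710) (tt N817 F5711) (tt N1460 (iv F7973)) (tt N763 F5712) (tt N754 (iv D1105)) (tt N1461 D1583) (tt N758 F5713) (tt N1455 (iv F7954)) (tt N1057 F5714) (tt N1458 (iv F7968)))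
theorem Q1059 : ∀ i, i < 1059 → P i := stepQ 1058 Q1058 (allL N1058 (tt N1058 F5715) (tt N818 F5716) (tt N1462 D1584) (tt N755 (iv D1106)) (tt N1463 D1585) (tt N1058 F5717) (tt N1456 (iv F7958)) (tt N1058 F5718) (tt N756 F5719) (tt N1058 F5720))
theorem Q1060 : ∀ i, i < 1060 → P i := stepQ 1059 Q1059 (allL N1059 (tt N1059 F5721) (tt N1464 D1586) (tt N756 (iv D1107)) (tt N1398 (iv F7649)) (tt N1465 D1587) (tt N1059 F5722) (tt N1457 (iv F7962)) (tt N1059 F5723) (tt N1462 (iv F7984)) (tt N757 F5724))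
theorem Q1061 : ∀ i, i < 1061 → P i := stepQ 1060 Q1060 (allL N1060 (tt N1060 F5725) (tt N820 F5726) (tt N1465 (iv F7997)) (tt N765 F5727) (tt N756 (iv D1108)) (tt N1466 D1588) (tt N1458 (iv F7967)) (tt N1060 F5728) (tt N1463 (iv F7990)) (tt N758 F5729))
theorem Q1062 : ∀ i, i < 1062 → P i := stepQ 1061 Q1061 (allL N1061 (tt N1467 D1589) (tt N757 (iv D1109)) (tt N821 F5730) (tt N1400 (iv F7661)) (tt N1468 D1590) (tt N1061 F5731) (tt N1459 (iv F7970)) (tt N1061 F5732) (tt N1061 F5733) (tt N1464 (iv F7995)))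
theorem Q1063 : ∀ i, i < 1063 → P i := stepQ 1062 Q1062 (allL N1062 (tt N1062 F5734) (tt N1468 (iv F8011)) (tt N758 F5735) (tt N1469 D1591) (tt N757 (iv D1110)) (tt N1470 D1592) (tt N1460 (iv F7974)) (tt N1062 F5736) (tt N1062 F5737) (tt N1465 (iv F7999)))
theorem Q1064 : ∀ i, i < 1064 → P i := stepQ 1063 Q1063 (allL N1063 (tt N1063 F5738) (tt N823 F5739) (tt N1470 (iv F8019)) (tt N768 F5740) (tt N1063 F5741) (tt N758 (iv D1111)) (tt N1471 D1593) (tt N1063 F5742) (tt N1063 F5743) (tt N1466 (iv F8005)))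
theorem Q1065 : ∀ i, i < 1065 → P i := stepQ 1064 Q1064 (allL N1064 (tt N1064 F5744) (tt N824 F5745) (tt N1472 D1594) (tt N759 (iv D1112)) (tt N1473 D1595) (tt N1064 F5746) (tt N1064 F5747) (tt N761 F5748) (tt N1064 F5749) (tt N760 F5750))
theorem Q1066 : ∀ i, i < 1066 → P i := stepQ 1065 Q1065 (allL N1065 (tt N1065 F5751) (tt N1474 D1596) (tt N760 (iv D1113)) (tt N1405 (iv F7687)) (tt N1475 D1597) (tt N1065 F5752) (tt N1065 F5753) (tt N762 F5754) (tt N777 F5755) (tt N1472 (iv F8033)))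
theorem Q1067 : ∀ i, i < 1067 → P i := stepQ 1066 Q1066 (allL N1066 (tt N1066 F5756) (tt N826 F5757) (tt N1475 (iv F8046)) (tt N1455 (iv F7952)) (tt N760 (iv D1114)) (tt N1476 D1598) (tt N1066 F5758) (tt N763 F5759) (tt N778 F5760) (tt N1473 (iv F8039)))
theorem Q1068 : ∀ i, i < 1068 → P i := stepQ 1067 Q1067 (allL N1067 (tt N1067 F5761) (tt N1477 D1599) (tt N761 (iv D1115)) (tt N1408 (iv F7704)) (tt N1478 D1600) (tt N1067 F5762) (tt N764 F5763) (tt N1472 (iv F8031)) (tt N1067 F5764) (tt N762 F5765))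
theorem Q1069 : ∀ i, i < 1069 → P i := stepQ 1068 Q1068 (allL N1068 (tt N1068 F5766) (tt N828 F5767) (tt N1478 (iv F8061)) (tt N1458 (iv F7966)) (tt N761 (iv D1116)) (tt N1479 D1601) (tt N765 F5768) (tt N1473 (iv F8037)) (tt N1068 F5769) (tt N763 F5770))
theorem Q1070 : ∀ i, i < 1070 → P i := stepQ 1069 Q1069 (allL N1069 (tt N1480 D1602) (tt N762 (iv D1117)) (tt N829 F5771) (tt N1410 (iv F7713)) (tt N1481 D1603) (tt N1069 F5772) (tt N766 F5773) (tt N1474 (iv F8043)) (tt N779 F5774) (tt N1477 (iv F8059)))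
theorem Q1071 : ∀ i, i < 1071 → P i := stepQ 1070 Q1070 (allL N1070 (tt N1070 F5775) (tt N1481 (iv F8075)) (tt N763 F5776) (tt N1482 D1604) (tt N762 (iv D1118)) (tt N1483 D1605) (tt N767 F5777) (tt N1475 (iv F8048)) (tt N780 F5778) (tt N1478 (iv F8064)))
theorem Q1072 : ∀ i, i < 1072 → P i := stepQ 1071 Q1071 (allL N1071 (tt N1071 F5779) (tt N831 F5780) (tt N1483 (iv F8082)) (tt N1461 (iv F7978)) (tt N1071 F5781) (tt N763 (iv D1119)) (tt N1484 D1606) (tt N1476 (iv F8053)) (tt N781 F5782) (tt N1479 (iv F8069)))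
theorem Q1073 : ∀ i, i < 1073 → P i := stepQ 1072 Q1072 (allL N1072 (tt N1485 D1607) (tt N764 (iv D1120)) (tt N832 F5783) (tt N1415 (iv F7738)) (tt N1486 D1608) (tt N769 F5784) (tt N1477 (iv F8057)) (tt N1072 F5785) (tt N1072 F5786) (tt N766 F5787))
theorem Q1074 : ∀ i, i < 1074 → P i := stepQ 1073 Q1073 (allL N1073 (tt N1073 F5788) (tt N1486 (iv F8096)) (tt N765 F5789) (tt N1487 D1609) (tt N764 (iv D1121)) (tt N1488 D1610) (tt N1478 (iv F8062)) (tt N1073 F5790) (tt N1073 F5791) (tt N767 F5792))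
theorem Q1075 : ∀ i, i < 1075 → P i := stepQ 1074 Q1074 (allL N1074 (tt N1074 F5793) (tt N834 F5794) (tt N1488 (iv F8105)) (tt N1466 (iv F8002)) (tt N771 F5795) (tt N765 (iv D1122)) (tt N1489 D1611) (tt N1074 F5796) (tt N1074 F5797) (tt N768 F5798))
theorem Q1076 : ∀ i, i < 1076 → P i := stepQ 1075 Q1075 (allL N1075 (tt N766 (iv D1123)) (tt N1075 F5799) (tt N835 F5800) (tt N1418 (iv F7753)) (tt N1490 D1612) (tt N772 F5801) (tt N1480 (iv F8073)) (tt N1075 F5802) (tt N782 F5803) (tt N1485 (iv F8095)))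
theorem Q1077 : ∀ i, i < 1077 → P i := stepQ 1076 Q1076 (allL N1076 (tt N1490 (iv F8115)) (tt N767 F5804) (tt N836 F5805) (tt N1491 D1613) (tt N766 (iv D1124)) (tt N1492 D1614) (tt N1481 (iv F8077)) (tt N1076 F5806) (tt N783 F5807) (tt N1486 (iv F8100)))
theorem Q1078 : ∀ i, i < 1078 → P i := stepQ 1077 Q1077 (allL N1077 (tt N1077 F5808) (tt N1491 (iv F8120)) (tt N1469 (iv F8016)) (tt N767 (iv D1125)) (tt N1420 (iv F7762)) (tt N1493 D1615) (tt N1482 (iv F8080)) (tt N1077 F5809) (tt N1494 D1616) (tt N1487 (iv F8103)))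
theorem Q1079 : ∀ i, i < 1079 → P i := stepQ 1078 Q1078 (allL N1078 (tt N1078 F5810) (tt N1492 (iv F8122)) (tt N768 F5811) (tt N1493 (iv F8128)) (tt N775 F5812) (tt N767 (iv D1126)) (tt N1495 D1617) (tt N1078 F5813) (tt N785 F5814) (tt N1488 (iv F8109)))
theorem Q1080 : ∀ i, i < 1080 → P i := stepQ 1079 Q1079 (allL N1079 (tt N1079 F5815) (tt N839 F5816) (tt N1495 (iv F8134)) (tt N1471 (iv F8025)) (tt N776 F5817) (tt N1484 (iv F8088)) (tt N768 (iv D1127)) (tt N1496 D1618) (tt N786 F5818) (tt N1489 (iv F8114)))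
theorem Q1081 : ∀ i, i < 1081 → P i := stepQ 1080 Q1080 (allL N1080 (tt N769 (iv D1128)) (tt N1080 F5819) (tt N840 F5820) (tt N1428 (iv F7806)) (tt N1497 D1619) (tt N1485 (iv F8092)) (tt N1080 F5821) (tt N1080 F5822) (tt N1080 F5823) (tt N772 F5824))
theorem Q1082 : ∀ i, i < 1082 → P i := stepQ 1081 Q1081 (allL N1081 (tt N1497 (iv F8142)) (tt N770 F5825) (tt N841 F5826) (tt N1498 D1620) (tt N769 (iv D1129)) (tt N1499 D1621) (tt N1081 F5827) (tt N1081 F5828) (tt N1081 F5829) (tt N773 F5830))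
theorem Q1083 : ∀ i, i < 1083 → P i := stepQ 1082 Q1082 (allL N1082 (tt N1082 F5831) (tt N1498 (iv F8149)) (tt N1082 F5832) (tt N770 (iv D1130)) (tt N1430 (iv F7817)) (tt N1500 D1622) (tt N1082 F5833) (tt N1082 F5834) (tt N1501 D1623) (tt N774 F5835))
theorem Q1084 : ∀ i, i < 1084 → P i := stepQ 1083 Q1083 (allL N1083 (tt N1083 F5836) (tt N1499 (iv F8153)) (tt N771 F5837) (tt N1500 (iv F8160)) (tt N1488 (iv F8106)) (tt N770 (iv D1131)) (tt N1502 D1624) (tt N1083 F5838) (tt N1083 F5839) (tt N775 F5840))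
theorem Q1085 : ∀ i, i < 1085 → P i := stepQ 1084 Q1084 (allL N1084 (tt N1084 F5841) (tt N844 F5842) (tt N1502 (iv F8169)) (tt N1084 F5843) (tt N1489 (iv F8112)) (tt N1084 F5844) (tt N771 (iv D1132)) (tt N1503 D1625) (tt N1084 F5845) (tt N776 F5846))
theorem Q1086 : ∀ i, i < 1086 → P i := stepQ 1085 Q1085 (allL N1085 (tt N773 F5847) (tt N1085 F5848) (tt N845 F5849) (tt N1504 D1626) (tt N772 (iv D1133)) (tt N1505 D1627) (tt N1085 F5850) (tt N1085 F5851) (tt N787 F5852) (tt N1497 (iv F8148)))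
theorem Q1087 : ∀ i, i < 1087 → P i := stepQ 1086 Q1086 (allL N1086 (tt N1504 (iv F8180)) (tt N774 F5853) (tt N1506 D1628) (tt N773 (iv D1134)) (tt N1434 (iv F7837)) (tt N1507 D1629) (tt N1086 F5854) (tt N1086 F5855) (tt N1508 D1630) (tt N1498 (iv F8152)))
theorem Q1088 : ∀ i, i < 1088 → P i := stepQ 1087 Q1087 (allL N1087 (tt N1505 (iv F8184)) (tt N775 F5856) (tt N847 F5857) (tt N1507 (iv F8194)) (tt N1492 (iv F8124)) (tt N773 (iv D1135)) (tt N1509 D1631) (tt N1087 F5858) (tt N789 F5859) (tt N1499 (iv F8157)))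
theorem Q1089 : ∀ i, i < 1089 → P i := stepQ 1088 Q1088 (allL N1088 (tt N1088 F5860) (tt N1507 (iv F8193)) (tt N1088 F5861) (tt N775 F5862) (tt N1510 D1632) (tt N774 (iv D1136)) (tt N1511 D1633) (tt N1088 F5863) (tt N1512 D1634) (tt N1500 (iv F8162)))
theorem Q1090 : ∀ i, i < 1090 → P i := stepQ 1089 Q1089 (allL N1089 (tt N1089 F5864) (tt N1508 (iv F8196)) (tt N1089 F5865) (tt N791 F5866) (tt N1437 (iv F7851)) (tt N1512 (iv F8214)) (tt N1089 F5867) (tt N1089 F5868) (tt N774 (iv D1137)) (tt N1513 D1635))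
theorem Q1091 : ∀ i, i < 1091 → P i := stepQ 1090 Q1090 (allL N1090 (tt N1090 F5869) (tt N1509 (iv F8200)) (tt N776 F5870) (tt N1511 (iv F8209)) (tt N1495 (iv F8135)) (tt N1090 F5871) (tt N775 (iv D1138)) (tt N1514 D1636) (tt N792 F5872) (tt N1502 (iv F8172)))
theorem Q1092 : ∀ i, i < 1092 → P i := stepQ 1091 Q1091 (allL N1091 (tt N1091 F5873) (tt N850 F5874) (tt N1514 (iv F8222)) (tt N1091 F5875) (tt N1496 (iv F8139)) (tt N1091 F5876) (tt N1091 F5877) (tt N776 (iv D1139)) (tt N793 F5878) (tt N1503 (iv F8179)))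
theorem Q1093 : ∀ i, i < 1093 → P i := stepQ 1092 Q1092 (allL N1092 (tt N1515 D1637) (tt N777 (iv D1140)) (tt N851 F5879) (tt N1092 F5880) (tt N1516 D1638) (tt N1092 F5881) (tt N1092 F5882) (tt N779 F5883) (tt N1474 (iv F8044)) (tt N1092 F5884))
theorem Q1094 : ∀ i, i < 1094 → P i := stepQ 1093 Q1093 (allL N1093 (tt N1093 F5885) (tt N1516 (iv F8233)) (tt N778 F5886) (tt N1517 D1639) (tt N777 (iv D1141)) (tt N1518 D1640) (tt N1093 F5887) (tt N780 F5888) (tt N1475 (iv F8049)) (tt N1093 F5889))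
theorem Q1095 : ∀ i, i < 1095 → P i := stepQ 1094 Q1094 (allL N1094 (tt N1094 F5890) (tt N853 F5891) (tt N1518 (iv F8245)) (tt N1094 F5892) (tt N1094 F5893) (tt N778 (iv D1142)) (tt N1519 D1641) (tt N781 F5894) (tt N1476 (iv F8054)) (tt N1094 F5895))
theorem Q1096 : ∀ i, i < 1096 → P i := stepQ 1095 Q1095 (allL N1095 (tt N779 (iv D1143)) (tt N1095 F5896) (tt N854 F5897) (tt N1095 F5898) (tt N1520 D1642) (tt N1095 F5899) (tt N782 F5900) (tt N1515 (iv F8231)) (tt N1480 (iv F8074)) (tt N1095 F5901))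
theorem Q1097 : ∀ i, i < 1097 → P i := stepQ 1096 Q1096 (allL N1096 (tt N1520 (iv F8255)) (tt N780 F5902) (tt N855 F5903) (tt N1521 D1643) (tt N779 (iv D1144)) (tt N1522 D1644) (tt N783 F5904) (tt N1516 (iv F8236)) (tt N1481 (iv F8078)) (tt N1096 F5905))
theorem Q1098 : ∀ i, i < 1098 → P i := stepQ 1097 Q1097 (allL N1097 (tt N1097 F5906) (tt N1521 (iv F8260)) (tt N1097 F5907) (tt N780 (iv D1145)) (tt N1097 F5908) (tt N1523 D1645) (tt N784 F5909) (tt N1517 (iv F8242)) (tt N1524 D1646) (tt N1097 F5910))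
theorem Q1099 : ∀ i, i < 1099 → P i := stepQ 1098 Q1098 (allL N1098 (tt N1098 F5911) (tt N1522 (iv F8264)) (tt N781 F5912) (tt N1523 (iv F8270)) (tt N1098 F5913) (tt N780 (iv D1146)) (tt N1525 D1647) (tt N1518 (iv F8247)) (tt N1483 (iv F8084)) (tt N1098 F5914))
theorem Q1100 : ∀ i, i < 1100 → P i := stepQ 1099 Q1099 (allL N1099 (tt N1099 F5915) (tt N858 F5916) (tt N1525 (iv F8277)) (tt N1099 F5917) (tt N1099 F5918) (tt N786 F5919) (tt N781 (iv D1147)) (tt N1526 D1648) (tt N1484 (iv F8089)) (tt N1099 F5920))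
theorem Q1101 : ∀ i, i < 1101 → P i := stepQ 1100 Q1100 (allL N1100 (tt N783 F5921) (tt N1100 F5922) (tt N859 F5923) (tt N1527 D1649) (tt N782 (iv D1148)) (tt N1528 D1650) (tt N1520 (iv F8258)) (tt N1100 F5924) (tt N1490 (iv F8119)) (tt N1100 F5925))
theorem Q1102 : ∀ i, i < 1102 → P i := stepQ 1101 Q1101 (allL N1101 (tt N1527 (iv F8287)) (tt N784 F5926) (tt N1529 D1651) (tt N783 (iv D1149)) (tt N1101 F5927) (tt N1530 D1652) (tt N1521 (iv F8262)) (tt N1101 F5928) (tt N1531 D1653) (tt N1101 F5929))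
theorem Q1103 : ∀ i, i < 1103 → P i := stepQ 1102 Q1102 (allL N1102 (tt N1528 (iv F8292)) (tt N785 F5930) (tt N861 F5931) (tt N1530 (iv F8304)) (tt N789 F5932) (tt N783 (iv D1150)) (tt N1532 D1654) (tt N1102 F5933) (tt N1492 (iv F8126)) (tt N1102 F5934))
theorem Q1104 : ∀ i, i < 1104 → P i := stepQ 1103 Q1103 (allL N1103 (tt N1103 F5935) (tt N1530 (iv F8303)) (tt N1103 F5936) (tt N785 F5937) (tt N1533 D1655) (tt N784 (iv D1151)) (tt N1534 D1656) (tt N1103 F5938) (tt N1535 D1657) (tt N1103 F5939))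
theorem Q1105 : ∀ i, i < 1105 → P i := stepQ 1104 Q1104 (allL N1104 (tt N1104 F5940) (tt N1531 (iv F8307)) (tt N1104 F5941) (tt N1494 (iv F8131)) (tt N1104 F5942) (tt N1535 (iv F8326)) (tt N1524 (iv F8275)) (tt N1104 F5943) (tt N784 (iv D1152)) (tt N1536 D1658))
theorem Q1106 : ∀ i, i < 1106 → P i := stepQ 1105 Q1105 (allL N1105 (tt N1105 F5944) (tt N1532 (iv F8310)) (tt N786 F5945) (tt N1534 (iv F8322)) (tt N792 F5946) (tt N1525 (iv F8279)) (tt N785 (iv D1153)) (tt N1537 D1659) (tt N1495 (iv F8136)) (tt N1105 F5947))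
theorem Q1107 : ∀ i, i < 1107 → P i := stepQ 1106 Q1106 (allL N1106 (tt N1106 F5948) (tt N865 F5949) (tt N1537 (iv F8334)) (tt N1106 F5950) (tt N793 F5951) (tt N1526 (iv F8285)) (tt N1106 F5952) (tt N786 (iv D1154)) (tt N1496 (iv F8141)) (tt N1106 F5953))
theorem Q1108 : ∀ i, i < 1108 → P i := stepQ 1107 Q1107 (allL N1107 (tt N788 F5954) (tt N1107 F5955) (tt N1107 F5956) (tt N787 (iv D1155)) (tt N1107 F5957) (tt N1538 D1660) (tt N1107 F5958) (tt N1107 F5959) (tt N1539 D1661) (tt N1107 F5960))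
theorem Q1109 : ∀ i, i < 1109 → P i := stepQ 1108 Q1108 (allL N1108 (tt N789 F5961) (tt N1108 F5962) (tt N866 F5963) (tt N1538 (iv F8341)) (tt N1528 (iv F8295)) (tt N787 (iv D1156)) (tt N1540 D1662) (tt N1108 F5964) (tt N1505 (iv F8188)) (tt N1108 F5965))
theorem Q1110 : ∀ i, i < 1110 → P i := stepQ 1109 Q1109 (allL N1109 (tt N1538 (iv F8338)) (tt N790 F5966) (tt N1109 F5967) (tt N789 F5968) (tt N1541 D1663) (tt N788 (iv D1157)) (tt N1542 D1664) (tt N1109 F5969) (tt N1543 D1665) (tt N1109 F5970))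
theorem Q1111 : ∀ i, i < 1111 → P i := stepQ 1110 Q1110 (allL N1110 (tt N1539 (iv F8344)) (tt N791 F5971) (tt N1110 F5972) (tt N1508 (iv F8197)) (tt N1110 F5973) (tt N1543 (iv F8367)) (tt N1110 F5974) (tt N1110 F5975) (tt N788 (iv D1158)) (tt N1544 D1666))
theorem Q1112 : ∀ i, i < 1112 → P i := stepQ 1111 Q1111 (allL N1111 (tt N1540 (iv F8350)) (tt N792 F5976) (tt N867 F5977) (tt N1542 (iv F8362)) (tt N1532 (iv F8312)) (tt N1111 F5978) (tt N789 (iv D1159)) (tt N1545 D1667) (tt N1509 (iv F8203)) (tt N1111 F5979))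
theorem Q1113 : ∀ i, i < 1113 → P i := stepQ 1112 Q1112 (allL N1112 (tt N1112 F5980) (tt N1541 (iv F8355)) (tt N794 F5981) (tt N1533 (iv F8316)) (tt N790 (iv D1160)) (tt N1112 F5982) (tt N1546 D1668) (tt N1112 F5983) (tt N1547 D1669) (tt N1112 F5984))
theorem Q1114 : ∀ i, i < 1114 → P i := stepQ 1113 Q1113 (allL N1113 (tt N1113 F5985) (tt N1542 (iv F8360)) (tt N795 F5986) (tt N792 F5987) (tt N1546 (iv F8382)) (tt N1113 F5988) (tt N790 (iv D1161)) (tt N1548 D1670) (tt N1549 D1671) (tt N1113 F5989))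
theorem Q1115 : ∀ i, i < 1115 → P i := stepQ 1114 Q1114 (allL N1114 (tt N1114 F5990) (tt N1543 (iv F8365)) (tt N796 F5991) (tt N1512 (iv F8213)) (tt N1547 (iv F8386)) (tt N791 F5992) (tt N1549 (iv F8398)) (tt N1114 F5993) (tt N790 (iv D1162)) (tt N1550 D1672))
theorem Q1116 : ∀ i, i < 1116 → P i := stepQ 1115 Q1115 (allL N1115 (tt N1115 F5994) (tt N1544 (iv F8369)) (tt N797 F5995) (tt N1513 (iv F8218)) (tt N1115 F5996) (tt N1550 (iv F8401)) (tt N1115 F5997) (tt N1115 F5998) (tt N1115 F5999) (tt N791 (iv D1163)))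
theorem Q1117 : ∀ i, i < 1117 → P i := stepQ 1116 Q1116 (allL N1116 (tt N1116 F6000) (tt N1545 (iv F8375)) (tt N793 F6001) (tt N1548 (iv F8391)) (tt N1537 (iv F8335)) (tt N1116 F6002) (tt N1116 F6003) (tt N792 (iv D1164)) (tt N1514 (iv F8225)) (tt N1116 F6004))
theorem Q1118 : ∀ i, i < 1118 → P i := stepQ 1117 Q1117 (allL N1117 (tt N1117 F6005) (tt N1117 F6006) (tt N1546 (iv F8381)) (tt N1117 F6007) (tt N795 F6008) (tt N1551 D1673) (tt N794 (iv D1165)) (tt N1552 D1674) (tt N1553 D1675) (tt N1117 F6009))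
theorem Q1119 : ∀ i, i < 1119 → P i := stepQ 1118 Q1118 (allL N1118 (tt N1118 F6010) (tt N1118 F6011) (tt N1547 (iv F8385)) (tt N1554 D1676) (tt N796 F6012) (tt N1118 F6013) (tt N1553 (iv F8419)) (tt N1118 F6014) (tt N794 (iv D1166)) (tt N1555 D1677))
theorem Q1120 : ∀ i, i < 1120 → P i := stepQ 1119 Q1119 (allL N1119 (tt N1119 F6015) (tt N1119 F6016) (tt N1548 (iv F8390)) (tt N798 F6017) (tt N1552 (iv F8413)) (tt N1119 F6018) (tt N1119 F6019) (tt N795 (iv D1167)) (tt N1556 D1678) (tt N1119 F6020))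
theorem Q1121 : ∀ i, i < 1121 → P i := stepQ 1120 Q1120 (allL N1120 (tt N1120 F6021) (tt N1120 F6022) (tt N1549 (iv F8396)) (tt N1120 F6023) (tt N1553 (iv F8418)) (tt N1120 F6024) (tt N796 F6025) (tt N1556 (iv F8437)) (tt N795 (iv D1168)) (tt N1557 D1679))
theorem Q1122 : ∀ i, i < 1122 → P i := stepQ 1121 Q1121 (allL N1121 (tt N1121 F6026) (tt N1121 F6027) (tt N1550 (iv F8400)) (tt N1121 F6028) (tt N1555 (iv F8428)) (tt N797 F6029) (tt N1557 (iv F8442)) (tt N1121 F6030) (tt N1121 F6031) (tt N796 (iv D1169)))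
theorem Q1123 : ∀ i, i < 1123 → P i := stepQ 1122 Q1122 (allL N1122 (tt N883 F6032) (tt N1440 (iv F7865)) (tt N1558 D1680) (tt N799 (iv D1170)) (tt N1559 D1681) (tt N1122 F6033) (tt N801 F6034) (tt N1122 F6035) (tt N1122 F6036) (tt N1560 D1682))
theorem Q1124 : ∀ i, i < 1124 → P i := stepQ 1123 Q1123 (allL N1123 (tt N884 F6037) (tt N1441 (iv F7872)) (tt N1123 F6038) (tt N1560 (iv F8457)) (tt N1123 F6039) (tt N1123 F6040) (tt N802 F6041) (tt N1123 F6042) (tt N1561 D1683) (tt N799 (iv D1171)))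
theorem Q1125 : ∀ i, i < 1125 → P i := stepQ 1124 Q1124 (allL N1124 (tt N885 F6043) (tt N1442 (iv F7878)) (tt N1124 F6044) (tt N1562 D1684) (tt N1124 F6045) (tt N1124 F6046) (tt N803 F6047) (tt N1124 F6048) (tt N800 (iv D1172)) (tt N1561 (iv F8467)))
theorem Q1126 : ∀ i, i < 1126 → P i := stepQ 1125 Q1125 (allL N1125 (tt N886 F6049) (tt N1125 F6050) (tt N801 (iv D1173)) (tt N1125 F6051) (tt N1563 D1685) (tt N809 F6052) (tt N1558 (iv F8448)) (tt N804 F6053) (tt N1125 F6054) (tt N1564 D1686))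
theorem Q1127 : ∀ i, i < 1127 → P i := stepQ 1126 Q1126 (allL N1126 (tt N887 F6055) (tt N1443 (iv F7884)) (tt N1563 (iv F8475)) (tt N1126 F6056) (tt N801 (iv D1174)) (tt N1126 F6057) (tt N1559 (iv F8453)) (tt N805 F6058) (tt N1126 F6059) (tt N1565 D1687))
theorem Q1128 : ∀ i, i < 1128 → P i := stepQ 1127 Q1127 (allL N1127 (tt N888 F6060) (tt N1444 (iv F7891)) (tt N1564 (iv F8481)) (tt N802 F6061) (tt N1565 (iv F8487)) (tt N810 F6062) (tt N1560 (iv F8459)) (tt N806 F6063) (tt N1566 D1688) (tt N801 (iv D1175)))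
theorem Q1129 : ∀ i, i < 1129 → P i := stepQ 1128 Q1128 (allL N1128 (tt N889 F6064) (tt N1445 (iv F7897)) (tt N1128 F6065) (tt N1567 D1689) (tt N1128 F6066) (tt N811 F6067) (tt N1561 (iv F8465)) (tt N807 F6068) (tt N802 (iv D1176)) (tt N803 F6069))
theorem Q1130 : ∀ i, i < 1130 → P i := stepQ 1129 Q1129 (allL N1129 (tt N890 F6070) (tt N1446 (iv F7903)) (tt N1568 D1690) (tt N803 (iv D1177)) (tt N1569 D1691) (tt N812 F6071) (tt N1562 (iv F8470)) (tt N808 F6072) (tt N1129 F6073) (tt N1567 (iv F8497)))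
theorem Q1131 : ∀ i, i < 1131 → P i := stepQ 1130 Q1130 (allL N1130 (tt N892 F6074) (tt N1130 F6075) (tt N805 F6076) (tt N1570 D1692) (tt N804 (iv D1178)) (tt N1130 F6077) (tt N1130 F6078) (tt N1563 (iv F8477)) (tt N1130 F6079) (tt N1571 D1693))
theorem Q1132 : ∀ i, i < 1132 → P i := stepQ 1131 Q1131 (allL N1131 (tt N893 F6080) (tt N1131 F6081) (tt N806 F6082) (tt N1131 F6083) (tt N1571 (iv F8516)) (tt N813 F6084) (tt N1131 F6085) (tt N1564 (iv F8484)) (tt N997 F202034) (tt N804 (iv D1179)))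
theorem Q1133 : ∀ i, i < 1133 → P i := stepQ 1132 Q1132 (allL N1132 (tt N894 F6086) (tt N1447 (iv F7908)) (tt N1571 (iv F8515)) (tt N1132 F6087) (tt N806 F6088) (tt N1132 F6089) (tt N1132 F6090) (tt N1565 (iv F8489)) (tt N1572 D1695) (tt N805 (iv D1180)))
theorem Q1134 : ∀ i, i < 1134 → P i := stepQ 1133 Q1133 (allL N1133 (tt N895 F6091) (tt N1448 (iv F7915)) (tt N997 (iv F201614)) (tt N1573 D1696) (tt N1572 (iv F8526)) (tt N814 F6092) (tt N1133 F6093) (tt N1566 (iv F8492)) (tt N806 (iv D1181)) (tt N1133 F6094))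
theorem Q1135 : ∀ i, i < 1135 → P i := stepQ 1134 Q1134 (allL N1134 (tt N896 F6095) (tt N1449 (iv F7921)) (tt N1574 D1697) (tt N807 (iv D1182)) (tt N1575 D1698) (tt N815 F6096) (tt N1134 F6097) (tt N1567 (iv F8496)) (tt N1573 (iv F8533)) (tt N808 F6098))
theorem Q1136 : ∀ i, i < 1136 → P i := stepQ 1135 Q1135 (allL N1135 (tt N897 F6099) (tt N1576 D1699) (tt N808 (iv D1183)) (tt N1135 F6100) (tt N1577 D1700) (tt N816 F6101) (tt N1135 F6102) (tt N1568 (iv F8501)) (tt N1135 F6103) (tt N1574 (iv F8539)))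
theorem Q1137 : ∀ i, i < 1137 → P i := stepQ 1136 Q1136 (allL N1136 (tt N898 F6104) (tt N1451 (iv F7930)) (tt N1577 (iv F8549)) (tt N1136 F6105) (tt N808 (iv D1184)) (tt N1578 D1701) (tt N1136 F6106) (tt N1569 (iv F8505)) (tt N1136 F6107) (tt N1575 (iv F8543)))
theorem Q1138 : ∀ i, i < 1138 → P i := stepQ 1137 Q1137 (allL N1137 (tt N900 F6108) (tt N1137 F6109) (tt N810 F6110) (tt N1137 F6111) (tt N1137 F6112) (tt N1564 (iv F8483)) (tt N1137 F6113) (tt N813 F6114) (tt N990 F201293) (tt N809 (iv D1185)))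
theorem Q1139 : ∀ i, i < 1139 → P i := stepQ 1138 Q1138 (allL N1138 (tt N901 F6115) (tt N1452 (iv F7935)) (tt N990 (iv F200904)) (tt N1579 D1703) (tt N1138 F6116) (tt N1566 (iv F8491)) (tt N1138 F6117) (tt N814 F6118) (tt N810 (iv D1186)) (tt N1138 F6119))
theorem Q1140 : ∀ i, i < 1140 → P i := stepQ 1139 Q1139 (allL N1139 (tt N902 F6120) (tt N1453 (iv F7942)) (tt N1580 D1704) (tt N811 (iv D1187)) (tt N1581 D1705) (tt N1567 (iv F8495)) (tt N1139 F6121) (tt N815 F6122) (tt N1579 (iv F8566)) (tt N812 F6123))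
theorem Q1141 : ∀ i, i < 1141 → P i := stepQ 1140 Q1140 (allL N1140 (tt N903 F6124) (tt N1582 D1706) (tt N812 (iv D1188)) (tt N1140 F6125) (tt N1583 D1707) (tt N1568 (iv F8500)) (tt N1140 F6126) (tt N816 F6127) (tt N1140 F6128) (tt N1580 (iv F8572)))
theorem Q1142 : ∀ i, i < 1142 → P i := stepQ 1141 Q1141 (allL N1141 (tt N904 F6129) (tt N1455 (iv F7951)) (tt N1583 (iv F8583)) (tt N826 F6130) (tt N812 (iv D1189)) (tt N1584 D1708) (tt N1141 F6131) (tt N817 F6132) (tt N1141 F6133) (tt N1581 (iv F8577)))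
theorem Q1143 : ∀ i, i < 1143 → P i := stepQ 1142 Q1142 (allL N1142 (tt N905 F6140) (tt N1456 (iv F7957)) (tt N985 (iv F200806)) (tt N814 (iv D1191)) (tt N1585 D1711) (tt N1573 (iv F8531)) (tt N818 F6141) (tt N1579 (iv F8565)) (tt N815 F6142) (tt N1142 F6143))
theorem Q1144 : ∀ i, i < 1144 → P i := stepQ 1143 Q1143 (allL N1143 (tt N906 F6144) (tt N1586 D1712) (tt N815 (iv D1192)) (tt N1143 F6145) (tt N1587 D1713) (tt N1574 (iv F8537)) (tt N819 F6146) (tt N1580 (iv F8571)) (tt N985 (iv F200807)) (tt N816 F6147))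
theorem Q1145 : ∀ i, i < 1145 → P i := stepQ 1144 Q1144 (allL N1144 (tt N907 F6148) (tt N1458 (iv F7965)) (tt N1587 (iv F8609)) (tt N828 F6149) (tt N815 (iv D1193)) (tt N1588 D1714) (tt N820 F6150) (tt N1581 (iv F8576)) (tt N1585 (iv F8603)) (tt N817 F6151))
theorem Q1146 : ∀ i, i < 1146 → P i := stepQ 1145 Q1145 (allL N1145 (tt N1589 D1715) (tt N816 (iv D1194)) (tt N1459 (iv F7969)) (tt N1145 F6152) (tt N1590 D1716) (tt N1576 (iv F8545)) (tt N821 F6153) (tt N1582 (iv F8580)) (tt N1145 F6154) (tt N1586 (iv F8607)))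
theorem Q1147 : ∀ i, i < 1147 → P i := stepQ 1146 Q1146 (allL N1146 (tt N909 F6155) (tt N1590 (iv F8619)) (tt N817 F6156) (tt N1591 D1717) (tt N816 (iv D1195)) (tt N1592 D1718) (tt N822 F6157) (tt N1583 (iv F8585)) (tt N1146 F6158) (tt N1587 (iv F8611)))
theorem Q1148 : ∀ i, i < 1148 → P i := stepQ 1147 Q1147 (allL N1147 (tt N910 F6159) (tt N1461 (iv F7977)) (tt N1592 (iv F8627)) (tt N831 F6160) (tt N1578 (iv F8554)) (tt N817 (iv D1196)) (tt N1593 D1719) (tt N1584 (iv F8589)) (tt N1147 F6161) (tt N1588 (iv F8614)))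
theorem Q1149 : ∀ i, i < 1149 → P i := stepQ 1148 Q1148 (allL N1148 (tt N911 F6173) (tt N1463 (iv F7987)) (tt N970 (iv F200808)) (tt N1148 F6174) (tt N818 (iv D1199)) (tt N1594 D1724) (tt N1585 (iv F8602)) (tt N1148 F6175) (tt N820 F6176) (tt N1148 F6177))
theorem Q1150 : ∀ i, i < 1150 → P i := stepQ 1149 Q1149 (allL N1149 (tt N881 (iv F201552)) (tt N819 (iv D1200)) (tt N1464 (iv F7992)) (tt N1149 F6178) (tt N1595 D1726) (tt N1149 F6179) (tt N1586 (iv F8606)) (tt N1149 F6180) (tt N879 (iv F201562)) (tt N821 F6181))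
theorem Q1151 : ∀ i, i < 1151 → P i := stepQ 1150 Q1150 (allL N1150 (tt N912 F6182) (tt N1595 (iv F8665)) (tt N820 F6183) (tt N1596 D1727) (tt N819 (iv D1201)) (tt N1597 D1728) (tt N1587 (iv F8610)) (tt N1150 F6184) (tt N970 (iv F200809)) (tt N822 F6185))
theorem Q1152 : ∀ i, i < 1152 → P i := stepQ 1151 Q1151 (allL N1151 (tt N913 F6186) (tt N1466 (iv F8001)) (tt N1597 (iv F8674)) (tt N834 F6187) (tt N1151 F6188) (tt N820 (iv D1202)) (tt N1598 D1729) (tt N1151 F6189) (tt N1594 (iv F8658)) (tt N823 F6190))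
theorem Q1153 : ∀ i, i < 1153 → P i := stepQ 1152 Q1152 (allL N1152 (tt N821 (iv D1203)) (tt N882 F201133) (tt N1467 (iv F8007)) (tt N1152 F6192) (tt N1599 D1730) (tt N1152 F6193) (tt N1589 (iv F8617)) (tt N1152 F6194) (tt N1152 F6195) (tt N881 (iv F201553)))
theorem Q1154 : ∀ i, i < 1154 → P i := stepQ 1153 Q1153 (allL N1153 (tt N1599 (iv F8682)) (tt N822 F6196) (tt N1468 (iv F8012)) (tt N1600 D1731) (tt N821 (iv D1204)) (tt N1601 D1732) (tt N1590 (iv F8620)) (tt N1153 F6197) (tt N1153 F6198) (tt N1595 (iv F8667)))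
theorem Q1155 : ∀ i, i < 1155 → P i := stepQ 1154 Q1154 (allL N1154 (tt N915 F6199) (tt N1600 (iv F8686)) (tt N837 F6200) (tt N822 (iv D1205)) (tt N1154 F6201) (tt N1602 D1733) (tt N1591 (iv F8625)) (tt N1154 F6202) (tt N1603 D1734) (tt N1596 (iv F8672)))
theorem Q1156 : ∀ i, i < 1156 → P i := stepQ 1155 Q1155 (allL N1155 (tt N916 F6203) (tt N1601 (iv F8689)) (tt N823 F6204) (tt N1602 (iv F8695)) (tt N1155 F6205) (tt N822 (iv D1206)) (tt N1604 D1735) (tt N1155 F6206) (tt N1155 F6207) (tt N1597 (iv F8677)))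
theorem Q1157 : ∀ i, i < 1157 → P i := stepQ 1156 Q1156 (allL N1156 (tt N917 F6208) (tt N1471 (iv F8024)) (tt N1604 (iv F8703)) (tt N839 F6209) (tt N1156 F6210) (tt N1593 (iv F8631)) (tt N823 (iv D1207)) (tt N1605 D1736) (tt N1156 F6211) (tt N1598 (iv F8681)))
theorem Q1158 : ∀ i, i < 1158 → P i := stepQ 1157 Q1157 (allL N1157 (tt N918 F6212) (tt N1606 D1737) (tt N824 (iv D1208)) (tt N1157 F6213) (tt N1607 D1738) (tt N1157 F6214) (tt N1157 F6215) (tt N827 F6216) (tt N1157 F6217) (tt N825 F6218))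
theorem Q1159 : ∀ i, i < 1159 → P i := stepQ 1158 Q1158 (allL N1158 (tt N919 F6219) (tt N1473 (iv F8035)) (tt N1607 (iv F8718)) (tt N1581 (iv F8574)) (tt N824 (iv D1209)) (tt N1608 D1739) (tt N1158 F6220) (tt N828 F6221) (tt N1158 F6222) (tt N826 F6223))
theorem Q1160 : ∀ i, i < 1160 → P i := stepQ 1159 Q1159 (allL N1159 (tt N1609 D1740) (tt N825 (iv D1210)) (tt N1474 (iv F8040)) (tt N1159 F6224) (tt N1610 D1741) (tt N1159 F6225) (tt N1159 F6226) (tt N829 F6227) (tt N851 F6228) (tt N1606 (iv F8716)))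
theorem Q1161 : ∀ i, i < 1161 → P i := stepQ 1160 Q1160 (allL N1160 (tt N921 F6229) (tt N1610 (iv F8734)) (tt N826 F6230) (tt N1611 D1742) (tt N825 (iv D1211)) (tt N1612 D1743) (tt N1160 F6231) (tt N830 F6232) (tt N852 F6233) (tt N1607 (iv F8722)))
theorem Q1162 : ∀ i, i < 1162 → P i := stepQ 1161 Q1161 (allL N1161 (tt N922 F6234) (tt N1476 (iv F8051)) (tt N1612 (iv F8743)) (tt N1584 (iv F8588)) (tt N1161 F6235) (tt N826 (iv D1212)) (tt N1613 D1744) (tt N831 F6236) (tt N853 F6237) (tt N1608 (iv F8727)))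
theorem Q1163 : ∀ i, i < 1163 → P i := stepQ 1162 Q1162 (allL N1162 (tt N1614 D1745) (tt N827 (iv D1213)) (tt N1477 (iv F8055)) (tt N1162 F6238) (tt N1615 D1746) (tt N1162 F6239) (tt N832 F6240) (tt N1606 (iv F8714)) (tt N1162 F6241) (tt N829 F6242))
theorem Q1164 : ∀ i, i < 1164 → P i := stepQ 1163 Q1163 (allL N1163 (tt N924 F6243) (tt N1615 (iv F8757)) (tt N828 F6244) (tt N1616 D1747) (tt N827 (iv D1214)) (tt N1617 D1748) (tt N833 F6245) (tt N1607 (iv F8720)) (tt N1163 F6246) (tt N830 F6247))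
theorem Q1165 : ∀ i, i < 1165 → P i := stepQ 1164 Q1164 (allL N1164 (tt N925 F6248) (tt N1479 (iv F8066)) (tt N1617 (iv F8766)) (tt N1588 (iv F8613)) (tt N1164 F6249) (tt N828 (iv D1215)) (tt N1618 D1749) (tt N1608 (iv F8725)) (tt N1164 F6250) (tt N831 F6251))
theorem Q1166 : ∀ i, i < 1166 → P i := stepQ 1165 Q1165 (allL N1165 (tt N829 (iv D1216)) (tt N926 F6252) (tt N1480 (iv F8071)) (tt N1165 F6253) (tt N1619 D1750) (tt N1165 F6254) (tt N835 F6255) (tt N1609 (iv F8732)) (tt N854 F6256) (tt N1614 (iv F8756)))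
theorem Q1167 : ∀ i, i < 1167 → P i := stepQ 1166 Q1166 (allL N1166 (tt N1619 (iv F8775)) (tt N830 F6257) (tt N1481 (iv F8076)) (tt N1620 D1751) (tt N829 (iv D1217)) (tt N1621 D1752) (tt N836 F6258) (tt N1610 (iv F8736)) (tt N855 F6259) (tt N1615 (iv F8760)))
theorem Q1168 : ∀ i, i < 1168 → P i := stepQ 1167 Q1167 (allL N1167 (tt N928 F6260) (tt N1620 (iv F8779)) (tt N1591 (iv F8623)) (tt N830 (iv D1218)) (tt N1167 F6261) (tt N1622 D1753) (tt N837 F6262) (tt N1611 (iv F8741)) (tt N1623 D1754) (tt N1616 (iv F8764)))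
theorem Q1169 : ∀ i, i < 1169 → P i := stepQ 1168 Q1168 (allL N1168 (tt N929 F6263) (tt N1621 (iv F8782)) (tt N831 F6264) (tt N1622 (iv F8786)) (tt N1168 F6265) (tt N830 (iv D1219)) (tt N1624 D1755) (tt N1612 (iv F8745)) (tt N857 F6266) (tt N1617 (iv F8769)))
theorem Q1170 : ∀ i, i < 1170 → P i := stepQ 1169 Q1169 (allL N1169 (tt N930 F6267) (tt N1484 (iv F8086)) (tt N1624 (iv F8792)) (tt N1593 (iv F8630)) (tt N1169 F6268) (tt N839 F6269) (tt N831 (iv D1220)) (tt N1625 D1756) (tt N858 F6270) (tt N1618 (iv F8774)))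
theorem Q1171 : ∀ i, i < 1171 → P i := stepQ 1170 Q1170 (allL N1170 (tt N832 (iv D1221)) (tt N931 F6271) (tt N1485 (iv F8091)) (tt N1170 F6272) (tt N1626 D1757) (tt N840 F6273) (tt N1614 (iv F8754)) (tt N1170 F6274) (tt N1170 F6275) (tt N835 F6276))
theorem Q1172 : ∀ i, i < 1172 → P i := stepQ 1171 Q1171 (allL N1171 (tt N1626 (iv F8800)) (tt N833 F6277) (tt N1486 (iv F8097)) (tt N1627 D1758) (tt N832 (iv D1222)) (tt N1628 D1759) (tt N1615 (iv F8758)) (tt N1171 F6278) (tt N1171 F6279) (tt N836 F6280))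
theorem Q1173 : ∀ i, i < 1173 → P i := stepQ 1172 Q1172 (allL N1172 (tt N933 F6281) (tt N1627 (iv F8805)) (tt N1596 (iv F8669)) (tt N833 (iv D1223)) (tt N1172 F6282) (tt N1629 D1760) (tt N1616 (iv F8763)) (tt N1172 F6283) (tt N1630 D1761) (tt N837 F6284))
theorem Q1174 : ∀ i, i < 1174 → P i := stepQ 1173 Q1173 (allL N1173 (tt N934 F6285) (tt N1628 (iv F8809)) (tt N834 F6286) (tt N1629 (iv F8815)) (tt N843 F6287) (tt N833 (iv D1224)) (tt N1631 D1762) (tt N1173 F6288) (tt N1173 F6289) (tt N838 F6290))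
theorem Q1175 : ∀ i, i < 1175 → P i := stepQ 1174 Q1174 (allL N1174 (tt N935 F6291) (tt N1489 (iv F8111)) (tt N1631 (iv F8823)) (tt N1598 (iv F8679)) (tt N844 F6292) (tt N1618 (iv F8772)) (tt N834 (iv D1225)) (tt N1632 D1763) (tt N1174 F6293) (tt N839 F6294))
theorem Q1176 : ∀ i, i < 1176 → P i := stepQ 1175 Q1175 (allL N1175 (tt N836 F6295) (tt N936 F6296) (tt N1490 (iv F8117)) (tt N1633 D1764) (tt N835 (iv D1226)) (tt N1634 D1765) (tt N1619 (iv F8777)) (tt N1175 F6297) (tt N859 F6298) (tt N1626 (iv F8804)))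
theorem Q1177 : ∀ i, i < 1177 → P i := stepQ 1176 Q1176 (allL N1176 (tt N1633 (iv F8832)) (tt N837 F6299) (tt N1635 D1766) (tt N836 (iv D1227)) (tt N1176 F6300) (tt N1636 D1767) (tt N1620 (iv F8781)) (tt N1176 F6301) (tt N1637 D1768) (tt N1627 (iv F8808)))
theorem Q1178 : ∀ i, i < 1178 → P i := stepQ 1177 Q1177 (allL N1177 (tt N1634 (iv F8836)) (tt N838 F6302) (tt N1492 (iv F8123)) (tt N1636 (iv F8844)) (tt N847 F6303) (tt N836 (iv D1228)) (tt N1638 D1769) (tt N1177 F6304) (tt N861 F6305) (tt N1628 (iv F8813)))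
theorem Q1179 : ∀ i, i < 1179 → P i := stepQ 1178 Q1178 (allL N1178 (tt N939 F6306) (tt N1636 (iv F8843)) (tt N1602 (iv F8694)) (tt N838 F6307) (tt N1639 D1770) (tt N837 (iv D1229)) (tt N1640 D1771) (tt N1178 F6308) (tt N1641 D1772) (tt N1629 (iv F8817)))
theorem Q1180 : ∀ i, i < 1180 → P i := stepQ 1179 Q1179 (allL N1179 (tt N940 F6309) (tt N1637 (iv F8846)) (tt N1603 (iv F8698)) (tt N863 F6310) (tt N1179 F6311) (tt N1641 (iv F8861)) (tt N1623 (iv F8790)) (tt N1179 F6312) (tt N837 (iv D1230)) (tt N1642 D1773))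
theorem Q1181 : ∀ i, i < 1181 → P i := stepQ 1180 Q1180 (allL N1180 (tt N941 F6313) (tt N1638 (iv F8850)) (tt N839 F6314) (tt N1640 (iv F8858)) (tt N849 F6315) (tt N1624 (iv F8794)) (tt N838 (iv D1231)) (tt N1643 D1774) (tt N864 F6316) (tt N1631 (iv F8826)))
theorem Q1182 : ∀ i, i < 1182 → P i := stepQ 1181 Q1181 (allL N1181 (tt N942 F6317) (tt N1496 (iv F8138)) (tt N1643 (iv F8868)) (tt N1605 (iv F8707)) (tt N850 F6318) (tt N1625 (iv F8798)) (tt N1181 F6319) (tt N839 (iv D1232)) (tt N865 F6320) (tt N1632 (iv F8831)))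
theorem Q1183 : ∀ i, i < 1183 → P i := stepQ 1182 Q1182 (allL N1182 (tt N841 F6321) (tt N943 F6322) (tt N1497 (iv F8144)) (tt N1644 D1775) (tt N840 (iv D1233)) (tt N1645 D1776) (tt N1182 F6323) (tt N1182 F6324) (tt N1182 F6325) (tt N845 F6326))
theorem Q1184 : ∀ i, i < 1184 → P i := stepQ 1183 Q1183 (allL N1183 (tt N1644 (iv F8872)) (tt N842 F6327) (tt N1646 D1777) (tt N841 (iv D1234)) (tt N1183 F6328) (tt N1647 D1778) (tt N1183 F6329) (tt N1183 F6330) (tt N1648 D1779) (tt N846 F6331))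
theorem Q1185 : ∀ i, i < 1185 → P i := stepQ 1184 Q1184 (allL N1184 (tt N1645 (iv F8878)) (tt N843 F6332) (tt N1499 (iv F8154)) (tt N1647 (iv F8889)) (tt N1628 (iv F8810)) (tt N841 (iv D1235)) (tt N1649 D1780) (tt N1184 F6333) (tt N1184 F6334) (tt N847 F6335))
theorem Q1186 : ∀ i, i < 1186 → P i := stepQ 1185 Q1185 (allL N1185 (tt N946 F6336) (tt N1647 (iv F8888)) (tt N1185 F6337) (tt N843 F6338) (tt N1650 D1781) (tt N842 (iv D1236)) (tt N1651 D1782) (tt N1185 F6339) (tt N1652 D1783) (tt N848 F6340))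
theorem Q1187 : ∀ i, i < 1187 → P i := stepQ 1186 Q1186 (allL N1186 (tt N947 F6341) (tt N1648 (iv F8892)) (tt N1186 F6342) (tt N1186 F6343) (tt N1186 F6344) (tt N1652 (iv F8915)) (tt N1186 F6345) (tt N1186 F6346) (tt N842 (iv D1237)) (tt N1186 F6347))
theorem Q1188 : ∀ i, i < 1188 → P i := stepQ 1187 Q1187 (allL N1187 (tt N948 F6348) (tt N1649 (iv F8898)) (tt N844 F6349) (tt N1651 (iv F8909)) (tt N1631 (iv F8824)) (tt N1187 F6350) (tt N843 (iv D1238)) (tt N1653 D1784) (tt N1187 F6351) (tt N849 F6352))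
theorem Q1189 : ∀ i, i < 1189 → P i := stepQ 1188 Q1188 (allL N1188 (tt N949 F6353) (tt N1503 (iv F8174)) (tt N1653 (iv F8919)) (tt N1188 F6354) (tt N1632 (iv F8828)) (tt N1188 F6355) (tt N1188 F6356) (tt N844 (iv D1239)) (tt N1188 F6357) (tt N850 F6358))
theorem Q1190 : ∀ i, i < 1190 → P i := stepQ 1189 Q1189 (allL N1189 (tt N846 F6359) (tt N950 F6360) (tt N1654 D1785) (tt N845 (iv D1240)) (tt N1189 F6361) (tt N1655 D1786) (tt N1189 F6362) (tt N1189 F6363) (tt N1189 F6364) (tt N1644 (iv F8877)))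
theorem Q1191 : ∀ i, i < 1191 → P i := stepQ 1190 Q1190 (allL N1190 (tt N847 F6365) (tt N951 F6366) (tt N1505 (iv F8186)) (tt N1655 (iv F8931)) (tt N1634 (iv F8838)) (tt N845 (iv D1241)) (tt N1656 D1787) (tt N1190 F6367) (tt N866 F6368) (tt N1645 (iv F8882)))
theorem Q1192 : ∀ i, i < 1192 → P i := stepQ 1191 Q1191 (allL N1191 (tt N1654 (iv F8924)) (tt N1191 F6369) (tt N846 (iv D1242)) (tt N1506 (iv F8190)) (tt N1191 F6370) (tt N1657 D1788) (tt N1191 F6371) (tt N1191 F6372) (tt N1191 F6373) (tt N1646 (iv F8887)))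
theorem Q1193 : ∀ i, i < 1193 → P i := stepQ 1192 Q1192 (allL N1192 (tt N1655 (iv F8929)) (tt N848 F6374) (tt N1657 (iv F8939)) (tt N847 F6375) (tt N1658 D1789) (tt N846 (iv D1243)) (tt N1659 D1790) (tt N1192 F6376) (tt N1192 F6377) (tt N1647 (iv F8891)))
theorem Q1194 : ∀ i, i < 1194 → P i := stepQ 1193 Q1193 (allL N1193 (tt N1656 (iv F8934)) (tt N849 F6378) (tt N1509 (iv F8201)) (tt N1659 (iv F8947)) (tt N1638 (iv F8851)) (tt N1193 F6379) (tt N847 (iv D1244)) (tt N1660 D1791) (tt N867 F6380) (tt N1649 (iv F8901)))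
theorem Q1195 : ∀ i, i < 1195 → P i := stepQ 1194 Q1194 (allL N1194 (tt N955 F6381) (tt N1658 (iv F8942)) (tt N1194 F6382) (tt N1639 (iv F8854)) (tt N848 (iv D1245)) (tt N1194 F6383) (tt N1661 D1792) (tt N1194 F6384) (tt N1194 F6385) (tt N1650 (iv F8906)))
theorem Q1196 : ∀ i, i < 1196 → P i := stepQ 1195 Q1195 (allL N1195 (tt N956 F6386) (tt N1659 (iv F8946)) (tt N1195 F6387) (tt N849 F6388) (tt N1661 (iv F8956)) (tt N1195 F6389) (tt N848 (iv D1246)) (tt N1662 D1793) (tt N1195 F6390) (tt N1651 (iv F8911)))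
theorem Q1197 : ∀ i, i < 1197 → P i := stepQ 1196 Q1196 (allL N1196 (tt N957 F6391) (tt N1660 (iv F8950)) (tt N850 F6392) (tt N1662 (iv F8960)) (tt N1643 (iv F8869)) (tt N1196 F6393) (tt N1196 F6394) (tt N849 (iv D1247)) (tt N868 F6395) (tt N1653 (iv F8923)))
theorem Q1198 : ∀ i, i < 1198 → P i := stepQ 1197 Q1197 (allL N1197 (tt N851 (iv D1248)) (tt N958 F6396) (tt N1515 (iv F8227)) (tt N869 F6397) (tt N1663 D1794) (tt N1197 F6398) (tt N1197 F6399) (tt N854 F6400) (tt N1609 (iv F8733)) (tt N1197 F6401))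
theorem Q1199 : ∀ i, i < 1199 → P i := stepQ 1198 Q1198 (allL N1198 (tt N1663 (iv F8964)) (tt N852 F6402) (tt N1516 (iv F8234)) (tt N1664 D1795) (tt N851 (iv D1249)) (tt N1665 D1796) (tt N1198 F6403) (tt N855 F6404) (tt N1610 (iv F8737)) (tt N1198 F6405))
theorem Q1200 : ∀ i, i < 1200 → P i := stepQ 1199 Q1199 (allL N1199 (tt N960 F6406) (tt N1664 (iv F8969)) (tt N1199 F6407) (tt N852 (iv D1250)) (tt N871 F6408) (tt N1666 D1797) (tt N1199 F6409) (tt N856 F6410) (tt N1667 D1798) (tt N1199 F6411))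
theorem Q1201 : ∀ i, i < 1201 → P i := stepQ 1200 Q1200 (allL N1200 (tt N961 F6412) (tt N1665 (iv F8974)) (tt N853 F6413) (tt N1666 (iv F8980)) (tt N1200 F6414) (tt N852 (iv D1251)) (tt N1668 D1799) (tt N857 F6415) (tt N1612 (iv F8746)) (tt N1200 F6416))
theorem Q1202 : ∀ i, i < 1202 → P i := stepQ 1201 Q1201 (allL N1201 (tt N962 F6417) (tt N1519 (iv F8250)) (tt N1668 (iv F8989)) (tt N1201 F6418) (tt N1201 F6419) (tt N1201 F6420) (tt N853 (iv D1252)) (tt N1669 D1800) (tt N1613 (iv F8750)) (tt N1201 F6421))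
theorem Q1203 : ∀ i, i < 1203 → P i := stepQ 1202 Q1202 (allL N1202 (tt N855 F6422) (tt N963 F6423) (tt N1520 (iv F8257)) (tt N1670 D1801) (tt N854 (iv D1253)) (tt N1671 D1802) (tt N859 F6424) (tt N1663 (iv F8967)) (tt N1619 (iv F8778)) (tt N1202 F6425))
theorem Q1204 : ∀ i, i < 1204 → P i := stepQ 1203 Q1203 (allL N1203 (tt N1670 (iv F8999)) (tt N856 F6426) (tt N1672 D1803) (tt N855 (iv D1254)) (tt N875 F6427) (tt N1673 D1804) (tt N860 F6428) (tt N1664 (iv F8972)) (tt N1674 D1805) (tt N1203 F6429))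
theorem Q1205 : ∀ i, i < 1205 → P i := stepQ 1204 Q1204 (allL N1204 (tt N1671 (iv F9004)) (tt N857 F6430) (tt N1522 (iv F8265)) (tt N1673 (iv F9013)) (tt N1204 F6431) (tt N855 (iv D1255)) (tt N1675 D1806) (tt N1665 (iv F8976)) (tt N1621 (iv F8784)) (tt N1204 F6432))
theorem Q1206 : ∀ i, i < 1206 → P i := stepQ 1205 Q1205 (allL N1205 (tt N966 F6433) (tt N1673 (iv F9012)) (tt N1205 F6434) (tt N857 F6435) (tt N1676 D1807) (tt N856 (iv D1256)) (tt N1677 D1808) (tt N1666 (iv F8981)) (tt N1678 D1809) (tt N1205 F6436))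
theorem Q1207 : ∀ i, i < 1207 → P i := stepQ 1206 Q1206 (allL N1206 (tt N967 F6437) (tt N1674 (iv F9015)) (tt N1206 F6438) (tt N1623 (iv F8788)) (tt N878 F6439) (tt N1678 (iv F9034)) (tt N863 F6440) (tt N1667 (iv F8987)) (tt N856 (iv D1257)) (tt N1679 D1810))
theorem Q1208 : ∀ i, i < 1208 → P i := stepQ 1207 Q1207 (allL N1207 (tt N968 F6441) (tt N1675 (iv F9018)) (tt N858 F6442) (tt N1677 (iv F9029)) (tt N1207 F6443) (tt N864 F6444) (tt N857 (iv D1258)) (tt N1680 D1811) (tt N1624 (iv F8795)) (tt N1207 F6445))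
theorem Q1209 : ∀ i, i < 1209 → P i := stepQ 1208 Q1208 (allL N1208 (tt N969 F6446) (tt N1526 (iv F8282)) (tt N1680 (iv F9041)) (tt N1208 F6447) (tt N1208 F6448) (tt N865 F6449) (tt N1669 (iv F8997)) (tt N858 (iv D1259)) (tt N1625 (iv F8799)) (tt N1208 F6450))
theorem Q1210 : ∀ i, i < 1210 → P i := stepQ 1209 Q1209 (allL N1209 (tt N860 F6451) (tt N970 F6452) (tt N1681 D1812) (tt N859 (iv D1260)) (tt N879 F6453) (tt N1682 D1813) (tt N1670 (iv F9002)) (tt N1209 F6454) (tt N1595 F201145) (tt N1209 F6455))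
theorem Q1211 : ∀ i, i < 1211 → P i := stepQ 1210 Q1210 (allL N1210 (tt N861 F6456) (tt N971 F6457) (tt N1528 (iv F8294)) (tt N1682 (iv F9051)) (tt N866 F6458) (tt N859 (iv D1261)) (tt N1683 D1815) (tt N1210 F6459) (tt N1634 (iv F8840)) (tt N1210 F6460))
theorem Q1212 : ∀ i, i < 1212 → P i := stepQ 1211 Q1211 (allL N1211 (tt N1681 (iv F9045)) (tt N1211 F6461) (tt N860 (iv D1262)) (tt N1529 (iv F8299)) (tt N880 F6462) (tt N1684 D1816) (tt N1672 (iv F9010)) (tt N1211 F6463) (tt N1685 D1817) (tt N1211 F6464))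
theorem Q1213 : ∀ i, i < 1213 → P i := stepQ 1212 Q1212 (allL N1212 (tt N1682 (iv F9049)) (tt N862 F6465) (tt N1684 (iv F9064)) (tt N861 F6466) (tt N1212 F6467) (tt N860 (iv D1263)) (tt N1686 D1818) (tt N1212 F6468) (tt N1687 D1819) (tt N1212 F6469))
theorem Q1214 : ∀ i, i < 1214 → P i := stepQ 1213 Q1213 (allL N1213 (tt N1595 F201137) (tt N863 F6470) (tt N1685 (iv F9069)) (tt N1637 (iv F8847)) (tt N881 F6471) (tt N1687 (iv F9078)) (tt N1674 (iv F9017)) (tt N1213 F6472) (tt N860 (iv D1264)) (tt N1599 F201138))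
theorem Q1215 : ∀ i, i < 1215 → P i := stepQ 1214 Q1214 (allL N1214 (tt N1683 (iv F9059)) (tt N864 F6473) (tt N1532 (iv F8311)) (tt N1686 (iv F9073)) (tt N867 F6474) (tt N1675 (iv F9020)) (tt N861 (iv D1265)) (tt N1688 D1821) (tt N1638 (iv F8852)) (tt N1214 F6475))
theorem Q1216 : ∀ i, i < 1216 → P i := stepQ 1215 Q1215 (allL N1215 (tt N974 F6476) (tt N1686 (iv F9072)) (tt N1215 F6477) (tt N864 F6478) (tt N1215 F6479) (tt N1677 (iv F9030)) (tt N862 (iv D1266)) (tt N1689 D1822) (tt N1690 D1823) (tt N1215 F6480))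
theorem Q1217 : ∀ i, i < 1217 → P i := stepQ 1216 Q1216 (allL N1216 (tt N975 F6481) (tt N1687 (iv F9076)) (tt N1216 F6482) (tt N1641 (iv F8860)) (tt N1216 F6483) (tt N863 F6484) (tt N1690 (iv F9097)) (tt N1216 F6485) (tt N862 (iv D1267)) (tt N1691 D1824))
theorem Q1218 : ∀ i, i < 1218 → P i := stepQ 1217 Q1217 (allL N1217 (tt N914 F200576) (tt N1599 (iv F200771)) (tt N1217 F6487) (tt N1642 (iv F8864)) (tt N882 F6488) (tt N1691 (iv F9101)) (tt N1679 (iv F9038)) (tt N1217 F6489) (tt N1217 F6490) (tt N863 (iv D1268)))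
theorem Q1219 : ∀ i, i < 1219 → P i := stepQ 1218 Q1218 (allL N1218 (tt N976 F6491) (tt N1688 (iv F9084)) (tt N865 F6492) (tt N1689 (iv F9090)) (tt N868 F6493) (tt N1680 (iv F9043)) (tt N1218 F6494) (tt N864 (iv D1269)) (tt N1643 (iv F8871)) (tt N1218 F6495))
theorem Q1220 : ∀ i, i < 1220 → P i := stepQ 1219 Q1219 (allL N1219 (tt N867 F6496) (tt N977 F6497) (tt N1540 (iv F8352)) (tt N1219 F6498) (tt N1683 (iv F9061)) (tt N1219 F6499) (tt N866 (iv D1270)) (tt N1692 D1825) (tt N1656 (iv F8937)) (tt N1219 F6500))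
theorem Q1221 : ∀ i, i < 1221 → P i := stepQ 1220 Q1220 (allL N1220 (tt N1692 (iv F9104)) (tt N868 F6501) (tt N1545 (iv F8376)) (tt N1220 F6502) (tt N1688 (iv F9085)) (tt N1220 F6503) (tt N1220 F6504) (tt N867 (iv D1271)) (tt N1660 (iv F8953)) (tt N1220 F6505))
theorem Q1222 : ∀ i, i < 1222 → P i := stepQ 1221 Q1221 (allL N1221 (tt N870 F6506) (tt N979 F6507) (tt N1221 F6508) (tt N1693 D1826) (tt N869 (iv D1272)) (tt N1694 D1827) (tt N1221 F6509) (tt N874 F6510) (tt N1221 F6511) (tt N1221 F6512))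
theorem Q1223 : ∀ i, i < 1223 → P i := stepQ 1222 Q1222 (allL N1222 (tt N1693 (iv F9110)) (tt N871 F6513) (tt N1695 D1828) (tt N870 (iv D1273)) (tt N1664 (iv F8970)) (tt N1696 D1829) (tt N1222 F6514) (tt N875 F6515) (tt N1697 D1830) (tt N1222 F6516))
theorem Q1224 : ∀ i, i < 1224 → P i := stepQ 1223 Q1223 (allL N1223 (tt N1694 (iv F9115)) (tt N872 F6517) (tt N1223 F6518) (tt N1696 (iv F9128)) (tt N1223 F6519) (tt N870 (iv D1274)) (tt N1698 D1831) (tt N876 F6520) (tt N1223 F6521) (tt N1223 F6522))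
theorem Q1225 : ∀ i, i < 1225 → P i := stepQ 1224 Q1224 (allL N1224 (tt N982 F6523) (tt N1696 (iv F9127)) (tt N1224 F6524) (tt N872 F6525) (tt N1699 D1832) (tt N871 (iv D1275)) (tt N1700 D1833) (tt N877 F6526) (tt N1701 D1834) (tt N1224 F6527))
theorem Q1226 : ∀ i, i < 1226 → P i := stepQ 1225 Q1225 (allL N1225 (tt N983 F6528) (tt N1697 (iv F9131)) (tt N1225 F6529) (tt N1225 F6530) (tt N1667 (iv F8985)) (tt N1701 (iv F9156)) (tt N1225 F6531) (tt N878 F6532) (tt N871 (iv D1276)) (tt N1702 D1835))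
theorem Q1227 : ∀ i, i < 1227 → P i := stepQ 1226 Q1226 (allL N1226 (tt N984 F6533) (tt N1698 (iv F9135)) (tt N873 F6534) (tt N1700 (iv F9149)) (tt N1226 F6535) (tt N1226 F6536) (tt N872 (iv D1277)) (tt N1226 F6537) (tt N1226 F6538) (tt N1226 F6539))
theorem Q1228 : ∀ i, i < 1228 → P i := stepQ 1227 Q1227 (allL N1227 (tt N875 F6540) (tt N985 F6541) (tt N1703 D1836) (tt N874 (iv D1278)) (tt N1670 (iv F9001)) (tt N1704 D1837) (tt N879 F6542) (tt N1693 (iv F9113)) (tt N1586 F201144) (tt N1227 F6543))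
theorem Q1229 : ∀ i, i < 1229 → P i := stepQ 1228 Q1228 (allL N1228 (tt N876 F6544) (tt N986 F6545) (tt N1228 F6546) (tt N1704 (iv F9170)) (tt N1228 F6547) (tt N874 (iv D1279)) (tt N1228 F6548) (tt N1694 (iv F9119)) (tt N1228 F6549) (tt N1228 F6550))
theorem Q1230 : ∀ i, i < 1230 → P i := stepQ 1229 Q1229 (allL N1229 (tt N1703 (iv F9164)) (tt N1229 F6551) (tt N875 (iv D1280)) (tt N1229 F6552) (tt N1672 (iv F9009)) (tt N1705 D1839) (tt N880 F6553) (tt N1695 (iv F9125)) (tt N1706 D1840) (tt N1229 F6554))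
theorem Q1231 : ∀ i, i < 1231 → P i := stepQ 1230 Q1230 (allL N1230 (tt N1704 (iv F9168)) (tt N877 F6555) (tt N1705 (iv F9178)) (tt N876 F6556) (tt N1707 D1841) (tt N875 (iv D1281)) (tt N1230 F6557) (tt N1696 (iv F9129)) (tt N1708 D1842) (tt N1230 F6558))
theorem Q1232 : ∀ i, i < 1232 → P i := stepQ 1231 Q1231 (allL N1231 (tt N1586 F201134) (tt N878 F6559) (tt N1706 (iv F9183)) (tt N1231 F6560) (tt N1674 (iv F9016)) (tt N1708 (iv F9191)) (tt N881 F6561) (tt N1697 (iv F9134)) (tt N875 (iv D1282)) (tt N1589 F201135))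
theorem Q1233 : ∀ i, i < 1233 → P i := stepQ 1232 Q1232 (allL N1232 (tt N988 F6562) (tt N1707 (iv F9185)) (tt N1232 F6563) (tt N1232 F6564) (tt N877 (iv D1283)) (tt N1676 (iv F9025)) (tt N1232 F6565) (tt N1699 (iv F9145)) (tt N1709 D1844) (tt N1232 F6566))
theorem Q1234 : ∀ i, i < 1234 → P i := stepQ 1233 Q1233 (allL N1233 (tt N989 F6567) (tt N1708 (iv F9189)) (tt N1233 F6568) (tt N1233 F6569) (tt N1709 (iv F9199)) (tt N878 F6570) (tt N1233 F6571) (tt N1701 (iv F9157)) (tt N877 (iv D1284)) (tt N1710 D1845))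
theorem Q1235 : ∀ i, i < 1235 → P i := stepQ 1234 Q1234 (allL N1234 (tt N908 F200579) (tt N1589 (iv F200770)) (tt N1234 F6573) (tt N1234 F6574) (tt N1679 (iv F9037)) (tt N1710 (iv F9204)) (tt N882 F6575) (tt N1702 (iv F9162)) (tt N1234 F6576) (tt N878 (iv D1285)))
theorem Q1236 : ∀ i, i < 1236 → P i := stepQ 1235 Q1235 (allL N1235 (tt N880 F6577) (tt N1462 F201959) (tt N879 (iv D1286)) (tt N1235 F6578) (tt N1681 (iv F9046)) (tt N1235 F6579) (tt N1703 (iv F9166)) (tt N1235 F6580) (tt N1464 F201960) (tt N1235 F6581))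
theorem Q1237 : ∀ i, i < 1237 → P i := stepQ 1236 Q1236 (allL N1236 (tt N1464 F201955) (tt N1236 F6587) (tt N881 F6588) (tt N1711 D1849) (tt N1685 (iv F9070)) (tt N1236 F6589) (tt N1706 (iv F9184)) (tt N1236 F6590) (tt N880 (iv D1288)) (tt N1467 F201956))
theorem Q1238 : ∀ i, i < 1238 → P i := stepQ 1237 Q1237 (allL N1237 (tt N1558 (iv F8444)) (tt N1712 D1851) (tt N883 (iv D1290)) (tt N1237 F6596) (tt N1713 D1852) (tt N1237 F6597) (tt N886 F6598) (tt N1237 F6599) (tt N1237 F6600) (tt N1714 D1853))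
theorem Q1239 : ∀ i, i < 1239 → P i := stepQ 1238 Q1238 (allL N1238 (tt N1559 (iv F8451)) (tt N1238 F6601) (tt N1713 (iv F9240)) (tt N1238 F6602) (tt N883 (iv D1291)) (tt N1715 D1854) (tt N887 F6603) (tt N1238 F6604) (tt N1238 F6605) (tt N1716 D1855))
theorem Q1240 : ∀ i, i < 1240 → P i := stepQ 1239 Q1239 (allL N1239 (tt N1560 (iv F8456)) (tt N1239 F6606) (tt N1714 (iv F9244)) (tt N884 F6607) (tt N1716 (iv F9257)) (tt N1239 F6608) (tt N888 F6609) (tt N1239 F6610) (tt N1717 D1856) (tt N883 (iv D1292)))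
theorem Q1241 : ∀ i, i < 1241 → P i := stepQ 1240 Q1240 (allL N1240 (tt N1561 (iv F8461)) (tt N1240 F6611) (tt N1240 F6612) (tt N1718 D1857) (tt N1240 F6613) (tt N1240 F6614) (tt N889 F6615) (tt N1240 F6616) (tt N884 (iv D1293)) (tt N885 F6617))
theorem Q1242 : ∀ i, i < 1242 → P i := stepQ 1241 Q1241 (allL N1241 (tt N1562 (iv F8468)) (tt N1241 F6618) (tt N1719 D1858) (tt N885 (iv D1294)) (tt N1720 D1859) (tt N1241 F6619) (tt N890 F6620) (tt N1241 F6621) (tt N1241 F6622) (tt N1718 (iv F9269)))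
theorem Q1243 : ∀ i, i < 1243 → P i := stepQ 1242 Q1242 (allL N1242 (tt N1242 F6623) (tt N886 (iv D1295)) (tt N1242 F6624) (tt N1242 F6625) (tt N1721 D1860) (tt N899 F6626) (tt N1712 (iv F9237)) (tt N891 F6627) (tt N1242 F6628) (tt N996 F202093))
theorem Q1244 : ∀ i, i < 1244 → P i := stepQ 1243 Q1243 (allL N1243 (tt N1563 (iv F8473)) (tt N1721 (iv F9281)) (tt N887 F6629) (tt N1722 D1862) (tt N886 (iv D1296)) (tt N1243 F6630) (tt N1713 (iv F9241)) (tt N892 F6631) (tt N1243 F6632) (tt N1723 D1863))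
theorem Q1245 : ∀ i, i < 1245 → P i := stepQ 1244 Q1244 (allL N1244 (tt N1564 (iv F8479)) (tt N996 (iv F201682)) (tt N888 F6633) (tt N1244 F6634) (tt N1723 (iv F9297)) (tt N900 F6635) (tt N1714 (iv F9247)) (tt N893 F6636) (tt N992 F201302) (tt N886 (iv D1297)))
theorem Q1246 : ∀ i, i < 1246 → P i := stepQ 1245 Q1245 (allL N1245 (tt N1565 (iv F8485)) (tt N1245 F6637) (tt N1723 (iv F9296)) (tt N1245 F6638) (tt N888 F6639) (tt N1245 F6640) (tt N1716 (iv F9258)) (tt N894 F6641) (tt N1724 D1865) (tt N887 (iv D1298)))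
theorem Q1247 : ∀ i, i < 1247 → P i := stepQ 1246 Q1246 (allL N1246 (tt N1566 (iv F8490)) (tt N1246 F6642) (tt N992 (iv F201000)) (tt N1725 D1866) (tt N1724 (iv F9305)) (tt N901 F6643) (tt N1717 (iv F9262)) (tt N895 F6644) (tt N888 (iv D1299)) (tt N1246 F6645))
theorem Q1248 : ∀ i, i < 1248 → P i := stepQ 1247 Q1247 (allL N1247 (tt N1567 (iv F8494)) (tt N1247 F6646) (tt N1726 D1867) (tt N889 (iv D1300)) (tt N1727 D1868) (tt N902 F6647) (tt N1718 (iv F9267)) (tt N896 F6648) (tt N1725 (iv F9312)) (tt N890 F6649))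
theorem Q1249 : ∀ i, i < 1249 → P i := stepQ 1248 Q1248 (allL N1248 (tt N1568 (iv F8498)) (tt N1728 D1869) (tt N890 (iv D1301)) (tt N1248 F6650) (tt N1729 D1870) (tt N903 F6651) (tt N1719 (iv F9272)) (tt N897 F6652) (tt N1248 F6653) (tt N1726 (iv F9317)))
theorem Q1250 : ∀ i, i < 1250 → P i := stepQ 1249 Q1249 (allL N1249 (tt N1569 (iv F8503)) (tt N1249 F6654) (tt N1729 (iv F9327)) (tt N1249 F6655) (tt N890 (iv D1302)) (tt N1730 D1871) (tt N1720 (iv F9277)) (tt N898 F6656) (tt N1249 F6657) (tt N1727 (iv F9321)))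
theorem Q1251 : ∀ i, i < 1251 → P i := stepQ 1250 Q1250 (allL N1250 (tt N1250 F6658) (tt N892 F6659) (tt N1250 F6660) (tt N1731 D1872) (tt N891 (iv D1303)) (tt N1250 F6661) (tt N1250 F6662) (tt N1721 (iv F9284)) (tt N1250 F6663) (tt N999 F202985))
theorem Q1252 : ∀ i, i < 1252 → P i := stepQ 1251 Q1251 (allL N1251 (tt N1570 (iv F8507)) (tt N1731 (iv F9336)) (tt N1251 F6670) (tt N892 (iv D1305)) (tt N1251 F6671) (tt N1251 F6672) (tt N1251 F6673) (tt N1722 (iv F9295)) (tt N1732 D1875) (tt N1733 D1876))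
theorem Q1253 : ∀ i, i < 1253 → P i := stepQ 1252 Q1252 (allL N1252 (tt N1571 (iv F8513)) (tt N999 (iv F202477)) (tt N894 F6674) (tt N1733 (iv F9358)) (tt N893 F6675) (tt N1252 F6676) (tt N1252 F6677) (tt N1723 (iv F9299)) (tt N998 F202084) (tt N892 (iv D1306)))
theorem Q1254 : ∀ i, i < 1254 → P i := stepQ 1253 Q1253 (allL N1253 (tt N1572 (iv F8525)) (tt N1253 F6682) (tt N998 (iv F201680)) (tt N1734 D1879) (tt N895 F6683) (tt N1253 F6684) (tt N1253 F6685) (tt N1724 (iv F9307)) (tt N894 (iv D1308)) (tt N1253 F6686))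
theorem Q1255 : ∀ i, i < 1255 → P i := stepQ 1254 Q1254 (allL N1254 (tt N1573 (iv F8530)) (tt N1254 F6687) (tt N987 (iv F200913)) (tt N895 (iv D1309)) (tt N1735 D1881) (tt N905 F6688) (tt N1254 F6689) (tt N1725 (iv F9311)) (tt N896 F6690) (tt N1254 F6691))
theorem Q1256 : ∀ i, i < 1256 → P i := stepQ 1255 Q1255 (allL N1255 (tt N1574 (iv F8535)) (tt N989 (iv F200907)) (tt N896 (iv D1310)) (tt N1255 F6692) (tt N1736 D1883) (tt N906 F6693) (tt N1255 F6694) (tt N1726 (iv F9316)) (tt N987 (iv F200914)) (tt N897 F6695))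
theorem Q1257 : ∀ i, i < 1257 → P i := stepQ 1256 Q1256 (allL N1256 (tt N1575 (iv F8540)) (tt N1256 F6696) (tt N1736 (iv F9389)) (tt N1256 F6697) (tt N896 (iv D1311)) (tt N1737 D1884) (tt N1256 F6698) (tt N1727 (iv F9320)) (tt N1735 (iv F9382)) (tt N898 F6699))
theorem Q1258 : ∀ i, i < 1258 → P i := stepQ 1257 Q1257 (allL N1257 (tt N1710 (iv F200924)) (tt N897 (iv D1312)) (tt N1257 F6700) (tt N1257 F6701) (tt N1738 D1886) (tt N908 F6702) (tt N1257 F6703) (tt N1728 (iv F9325)) (tt N1257 F6704) (tt N989 (iv F200908)))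
theorem Q1259 : ∀ i, i < 1259 → P i := stepQ 1258 Q1258 (allL N1258 (tt N1577 (iv F8548)) (tt N1738 (iv F9401)) (tt N898 F6705) (tt N1739 D1887) (tt N897 (iv D1313)) (tt N1740 D1888) (tt N1258 F6706) (tt N1729 (iv F9328)) (tt N1258 F6707) (tt N1736 (iv F9391)))
theorem Q1260 : ∀ i, i < 1260 → P i := stepQ 1259 Q1259 (allL N1259 (tt N1578 (iv F8552)) (tt N1259 F6708) (tt N1740 (iv F9408)) (tt N1259 F6709) (tt N910 F6710) (tt N898 (iv D1314)) (tt N1741 D1889) (tt N1730 (iv F9333)) (tt N1259 F6711) (tt N1737 (iv F9395)))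
theorem Q1261 : ∀ i, i < 1261 → P i := stepQ 1260 Q1260 (allL N1260 (tt N1579 (iv F8563)) (tt N1260 F6724) (tt N980 (iv F200414)) (tt N901 (iv D1317)) (tt N1742 D1893) (tt N1725 (iv F9310)) (tt N1260 F6725) (tt N905 F6726) (tt N902 F6727) (tt N1260 F6728))
theorem Q1262 : ∀ i, i < 1262 → P i := stepQ 1261 Q1261 (allL N1261 (tt N1580 (iv F8568)) (tt N983 (iv F200385)) (tt N902 (iv D1318)) (tt N1261 F6729) (tt N1743 D1895) (tt N1726 (iv F9315)) (tt N1261 F6730) (tt N906 F6731) (tt N980 (iv F200415)) (tt N903 F6732))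
theorem Q1263 : ∀ i, i < 1263 → P i := stepQ 1262 Q1262 (allL N1262 (tt N1581 (iv F8573)) (tt N1262 F6733) (tt N1743 (iv F9442)) (tt N919 F6734) (tt N902 (iv D1319)) (tt N1744 D1896) (tt N1262 F6735) (tt N907 F6736) (tt N1742 (iv F9435)) (tt N904 F6737))
theorem Q1264 : ∀ i, i < 1264 → P i := stepQ 1263 Q1263 (allL N1263 (tt N1702 (iv F200413)) (tt N903 (iv D1320)) (tt N1263 F6738) (tt N1263 F6739) (tt N1745 D1898) (tt N1728 (iv F9324)) (tt N1263 F6740) (tt N908 F6741) (tt N1263 F6742) (tt N983 (iv F200386)))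
theorem Q1265 : ∀ i, i < 1265 → P i := stepQ 1264 Q1264 (allL N1264 (tt N1583 (iv F8582)) (tt N1745 (iv F9455)) (tt N904 F6743) (tt N1746 D1899) (tt N903 (iv D1321)) (tt N1747 D1900) (tt N1264 F6744) (tt N909 F6745) (tt N1264 F6746) (tt N1743 (iv F9445)))
theorem Q1266 : ∀ i, i < 1266 → P i := stepQ 1265 Q1265 (allL N1265 (tt N1584 (iv F8587)) (tt N1265 F6747) (tt N1747 (iv F9464)) (tt N922 F6748) (tt N1730 (iv F9332)) (tt N904 (iv D1322)) (tt N1748 D1901) (tt N910 F6749) (tt N1265 F6750) (tt N1744 (iv F9449)))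
theorem Q1267 : ∀ i, i < 1267 → P i := stepQ 1266 Q1266 (allL N1266 (tt N1585 (iv F8600)) (tt N1266 F6763) (tt N964 (iv F200335)) (tt N1266 F6764) (tt N905 (iv D1326)) (tt N1749 D1907) (tt N911 F6765) (tt N1742 (iv F9434)) (tt N907 F6766) (tt N1266 F6767))
theorem Q1268 : ∀ i, i < 1268 → P i := stepQ 1267 Q1267 (allL N1267 (tt N1587 (iv F8608)) (tt N967 (iv F200333)) (tt N907 F6772) (tt N1750 D1910) (tt N906 (iv D1328)) (tt N1751 D1911) (tt N912 F6773) (tt N1743 (iv F9444)) (tt N964 (iv F200336)) (tt N909 F6774))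
theorem Q1269 : ∀ i, i < 1269 → P i := stepQ 1268 Q1268 (allL N1268 (tt N1588 (iv F8612)) (tt N1268 F6775) (tt N1751 (iv F9508)) (tt N925 F6776) (tt N1737 (iv F9394)) (tt N907 (iv D1329)) (tt N1752 D1912) (tt N1744 (iv F9448)) (tt N1749 (iv F9494)) (tt N910 F6777))
theorem Q1270 : ∀ i, i < 1270 → P i := stepQ 1269 Q1269 (allL N1269 (tt N1679 (iv F200339)) (tt N909 F6782) (tt N1269 F6783) (tt N1753 D1914) (tt N908 (iv D1331)) (tt N1754 D1915) (tt N914 F6784) (tt N1745 (iv F9458)) (tt N1269 F6785) (tt N967 (iv F200334)))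
theorem Q1271 : ∀ i, i < 1271 → P i := stepQ 1270 Q1270 (allL N1270 (tt N1591 (iv F8622)) (tt N1753 (iv F9518)) (tt N928 F6786) (tt N909 (iv D1332)) (tt N1270 F6787) (tt N1755 D1916) (tt N915 F6788) (tt N1746 (iv F9463)) (tt N1756 D1917) (tt N1750 (iv F9507)))
theorem Q1272 : ∀ i, i < 1272 → P i := stepQ 1271 Q1271 (allL N1271 (tt N1592 (iv F8626)) (tt N1754 (iv F9521)) (tt N910 F6789) (tt N1755 (iv F9525)) (tt N1740 (iv F9409)) (tt N909 (iv D1333)) (tt N1757 D1918) (tt N1747 (iv F9465)) (tt N1271 F6790) (tt N1751 (iv F9509)))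
theorem Q1273 : ∀ i, i < 1273 → P i := stepQ 1272 Q1272 (allL N1272 (tt N1593 (iv F8629)) (tt N1272 F6791) (tt N1757 (iv F9530)) (tt N930 F6792) (tt N1741 (iv F9413)) (tt N917 F6793) (tt N910 (iv D1334)) (tt N1758 D1919) (tt N1272 F6794) (tt N1752 (iv F9513)))
theorem Q1274 : ∀ i, i < 1274 → P i := stepQ 1273 Q1273 (allL N1273 (tt N1594 (iv F8654)) (tt N1273 F6819) (tt N972 (iv F200917)) (tt N1273 F6820) (tt N1273 F6821) (tt N911 (iv D1340)) (tt N1759 D1929) (tt N1273 F6822) (tt N913 F6823) (tt N1273 F6824))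
theorem Q1275 : ∀ i, i < 1275 → P i := stepQ 1274 Q1274 (allL N1274 (tt N1596 (iv F8668)) (tt N940 (iv F200382)) (tt N933 F6834) (tt N912 (iv D1343)) (tt N1274 F6835) (tt N1760 D1933) (tt N1750 (iv F9506)) (tt N1274 F6836) (tt N937 (iv F200380)) (tt N915 F6837))
theorem Q1276 : ∀ i, i < 1276 → P i := stepQ 1275 Q1275 (allL N1275 (tt N1597 (iv F8673)) (tt N975 (iv F200911)) (tt N913 F6838) (tt N1760 (iv F9600)) (tt N1275 F6839) (tt N912 (iv D1344)) (tt N1761 D1935) (tt N1275 F6840) (tt N972 (iv F200918)) (tt N916 F6841))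
theorem Q1277 : ∀ i, i < 1277 → P i := stepQ 1276 Q1276 (allL N1276 (tt N1598 (iv F8678)) (tt N1276 F6842) (tt N1761 (iv F9606)) (tt N935 F6843) (tt N1276 F6844) (tt N1752 (iv F9512)) (tt N913 (iv D1345)) (tt N1762 D1936) (tt N1759 (iv F9584)) (tt N917 F6845))
theorem Q1278 : ∀ i, i < 1278 → P i := stepQ 1277 Q1277 (allL N1277 (tt N1642 (iv F200384)) (tt N915 F6850) (tt N1763 D1939) (tt N914 (iv D1347)) (tt N1277 F6851) (tt N1764 D1940) (tt N1753 (iv F9520)) (tt N1277 F6852) (tt N1765 D1941) (tt N940 (iv F200383)))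
theorem Q1279 : ∀ i, i < 1279 → P i := stepQ 1278 Q1278 (allL N1278 (tt N1691 (iv F200920)) (tt N916 F6853) (tt N1278 F6854) (tt N1764 (iv F9627)) (tt N1278 F6855) (tt N914 (iv D1348)) (tt N1766 D1942) (tt N1278 F6856) (tt N1278 F6857) (tt N975 (iv F200912)))
theorem Q1280 : ∀ i, i < 1280 → P i := stepQ 1279 Q1279 (allL N1279 (tt N1602 (iv F8693)) (tt N1764 (iv F9626)) (tt N939 F6858) (tt N916 F6859) (tt N1767 D1943) (tt N915 (iv D1349)) (tt N1768 D1944) (tt N1279 F6860) (tt N1769 D1945) (tt N1760 (iv F9602)))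
theorem Q1281 : ∀ i, i < 1281 → P i := stepQ 1280 Q1280 (allL N1280 (tt N1603 (iv F8697)) (tt N1765 (iv F9629)) (tt N940 F6861) (tt N1280 F6862) (tt N1280 F6863) (tt N1769 (iv F9645)) (tt N1756 (iv F9529)) (tt N1280 F6864) (tt N915 (iv D1350)) (tt N1763 (iv F200378)))
theorem Q1282 : ∀ i, i < 1282 → P i := stepQ 1281 Q1281 (allL N1281 (tt N1604 (iv F8702)) (tt N1766 (iv F9633)) (tt N917 F6865) (tt N1768 (iv F9642)) (tt N1281 F6866) (tt N1757 (iv F9531)) (tt N916 (iv D1351)) (tt N1770 D1947) (tt N1281 F6867) (tt N1761 (iv F9608)))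
theorem Q1283 : ∀ i, i < 1283 → P i := stepQ 1282 Q1282 (allL N1282 (tt N1605 (iv F8706)) (tt N1282 F6868) (tt N1770 (iv F9651)) (tt N942 F6869) (tt N1282 F6870) (tt N1758 (iv F9535)) (tt N1282 F6871) (tt N917 (iv D1352)) (tt N1282 F6872) (tt N1762 (iv F9613)))
theorem Q1284 : ∀ i, i < 1284 → P i := stepQ 1283 Q1283 (allL N1283 (tt N1771 D1948) (tt N918 (iv D1353)) (tt N1283 F6873) (tt N1283 F6874) (tt N1772 D1949) (tt N1283 F6875) (tt N1283 F6876) (tt N923 F6877) (tt N1283 F6878) (tt N920 F6879))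
theorem Q1285 : ∀ i, i < 1285 → P i := stepQ 1284 Q1284 (allL N1284 (tt N1607 (iv F8717)) (tt N1772 (iv F9662)) (tt N919 F6880) (tt N1773 D1950) (tt N918 (iv D1354)) (tt N1774 D1951) (tt N1284 F6881) (tt N924 F6882) (tt N1284 F6883) (tt N921 F6884))
theorem Q1286 : ∀ i, i < 1286 → P i := stepQ 1285 Q1285 (allL N1285 (tt N1608 (iv F8723)) (tt N1285 F6885) (tt N1774 (iv F9672)) (tt N1744 (iv F9447)) (tt N1285 F6886) (tt N919 (iv D1355)) (tt N1775 D1952) (tt N925 F6887) (tt N1285 F6888) (tt N922 F6889))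
theorem Q1287 : ∀ i, i < 1287 → P i := stepQ 1286 Q1286 (allL N1286 (tt N920 (iv D1356)) (tt N1609 (iv F8728)) (tt N1286 F6890) (tt N1286 F6891) (tt N1776 D1953) (tt N1286 F6892) (tt N1286 F6893) (tt N926 F6894) (tt N958 F6895) (tt N1771 (iv F9661)))
theorem Q1288 : ∀ i, i < 1288 → P i := stepQ 1287 Q1287 (allL N1287 (tt N1776 (iv F9682)) (tt N921 F6896) (tt N1287 F6897) (tt N1777 D1954) (tt N920 (iv D1357)) (tt N1778 D1955) (tt N1287 F6898) (tt N927 F6899) (tt N959 F6900) (tt N1772 (iv F9667)))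
theorem Q1289 : ∀ i, i < 1289 → P i := stepQ 1288 Q1288 (allL N1288 (tt N1611 (iv F8738)) (tt N1777 (iv F9687)) (tt N1746 (iv F9460)) (tt N921 (iv D1358)) (tt N1288 F6901) (tt N1779 D1956) (tt N1288 F6902) (tt N928 F6903) (tt N1780 D1957) (tt N1773 (iv F9671)))
theorem Q1290 : ∀ i, i < 1290 → P i := stepQ 1289 Q1289 (allL N1289 (tt N1612 (iv F8742)) (tt N1778 (iv F9691)) (tt N922 F6904) (tt N1779 (iv F9696)) (tt N1289 F6905) (tt N921 (iv D1359)) (tt N1781 D1958) (tt N929 F6906) (tt N961 F6907) (tt N1774 (iv F9676)))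
theorem Q1291 : ∀ i, i < 1291 → P i := stepQ 1290 Q1290 (allL N1290 (tt N1613 (iv F8747)) (tt N1290 F6908) (tt N1781 (iv F9702)) (tt N1748 (iv F9468)) (tt N1290 F6909) (tt N1290 F6910) (tt N922 (iv D1360)) (tt N1782 D1959) (tt N962 F6911) (tt N1775 (iv F9681)))
theorem Q1292 : ∀ i, i < 1292 → P i := stepQ 1291 Q1291 (allL N1291 (tt N923 (iv D1361)) (tt N1614 (iv F8751)) (tt N1291 F6912) (tt N1291 F6913) (tt N1783 D1960) (tt N1291 F6914) (tt N931 F6915) (tt N1771 (iv F9659)) (tt N1291 F6916) (tt N926 F6917))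
theorem Q1293 : ∀ i, i < 1293 → P i := stepQ 1292 Q1292 (allL N1292 (tt N1783 (iv F9711)) (tt N924 F6918) (tt N1292 F6919) (tt N1784 D1961) (tt N923 (iv D1362)) (tt N1785 D1962) (tt N932 F6920) (tt N1772 (iv F9665)) (tt N1292 F6921) (tt N927 F6922))
theorem Q1294 : ∀ i, i < 1294 → P i := stepQ 1293 Q1293 (allL N1293 (tt N1616 (iv F8761)) (tt N1784 (iv F9716)) (tt N1750 (iv F9504)) (tt N924 (iv D1363)) (tt N1293 F6923) (tt N1786 D1963) (tt N933 F6924) (tt N1773 (iv F9670)) (tt N1787 D1964) (tt N928 F6925))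
theorem Q1295 : ∀ i, i < 1295 → P i := stepQ 1294 Q1294 (allL N1294 (tt N1617 (iv F8765)) (tt N1785 (iv F9720)) (tt N925 F6926) (tt N1786 (iv F9725)) (tt N1294 F6927) (tt N924 (iv D1364)) (tt N1788 D1965) (tt N1774 (iv F9674)) (tt N1294 F6928) (tt N929 F6929))
theorem Q1296 : ∀ i, i < 1296 → P i := stepQ 1295 Q1295 (allL N1295 (tt N1618 (iv F8770)) (tt N1295 F6930) (tt N1788 (iv F9730)) (tt N1752 (iv F9511)) (tt N1295 F6931) (tt N935 F6932) (tt N925 (iv D1365)) (tt N1789 D1966) (tt N1295 F6933) (tt N930 F6934))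
theorem Q1297 : ∀ i, i < 1297 → P i := stepQ 1296 Q1296 (allL N1296 (tt N927 F6935) (tt N1619 (iv F8776)) (tt N1296 F6936) (tt N1790 D1967) (tt N926 (iv D1366)) (tt N1791 D1968) (tt N936 F6937) (tt N1776 (iv F9685)) (tt N963 F6938) (tt N1783 (iv F9715)))
theorem Q1298 : ∀ i, i < 1298 → P i := stepQ 1297 Q1297 (allL N1297 (tt N1790 (iv F9740)) (tt N928 F6939) (tt N1787 F200175) (tt N927 (iv D1367)) (tt N1297 F6940) (tt N1792 D1970) (tt N937 F6941) (tt N1777 (iv F9690)) (tt N1750 F200176) (tt N1784 (iv F9719)))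
theorem Q1299 : ∀ i, i < 1299 → P i := stepQ 1298 Q1298 (allL N1298 (tt N1791 (iv F9743)) (tt N929 F6942) (tt N1298 F6943) (tt N1792 (iv F9751)) (tt N1298 F6944) (tt N927 (iv D1368)) (tt N1793 D1972) (tt N1778 (iv F9694)) (tt N965 F6945) (tt N1785 (iv F9724)))
theorem Q1300 : ∀ i, i < 1300 → P i := stepQ 1299 Q1299 (allL N1299 (tt N1622 (iv F8785)) (tt N1792 (iv F9750)) (tt N1755 (iv F9524)) (tt N929 F6946) (tt N1794 D1973) (tt N928 (iv D1369)) (tt N1795 D1974) (tt N1779 (iv F9697)) (tt N1796 D1975) (tt N1786 (iv F9726)))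
theorem Q1301 : ∀ i, i < 1301 → P i := stepQ 1300 Q1300 (allL N1300 (tt N1623 (iv F8787)) (tt N1750 F200178) (tt N1756 (iv F9526)) (tt N967 F6947) (tt N1300 F6948) (tt N1796 (iv F9766)) (tt N940 F6949) (tt N1780 (iv F9701)) (tt N928 (iv D1370)) (tt N1753 F200179))
theorem Q1302 : ∀ i, i < 1302 → P i := stepQ 1301 Q1301 (allL N1301 (tt N1624 (iv F8791)) (tt N1793 (iv F9756)) (tt N930 F6950) (tt N1795 (iv F9763)) (tt N1301 F6951) (tt N941 F6952) (tt N929 (iv D1371)) (tt N1797 D1977) (tt N968 F6953) (tt N1788 (iv F9734)))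
theorem Q1303 : ∀ i, i < 1303 → P i := stepQ 1302 Q1302 (allL N1302 (tt N1625 (iv F8796)) (tt N1302 F6954) (tt N1797 (iv F9770)) (tt N1758 (iv F9534)) (tt N1302 F6955) (tt N942 F6956) (tt N1782 (iv F9709)) (tt N930 (iv D1372)) (tt N969 F6957) (tt N1789 (iv F9739)))
theorem Q1304 : ∀ i, i < 1304 → P i := stepQ 1303 Q1303 (allL N1303 (tt N932 F6958) (tt N1626 (iv F8801)) (tt N1303 F6959) (tt N1798 D1978) (tt N931 (iv D1373)) (tt N1799 D1979) (tt N1783 (iv F9713)) (tt N1303 F6960) (tt N1303 F6961) (tt N936 F6962))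
theorem Q1305 : ∀ i, i < 1305 → P i := stepQ 1304 Q1304 (allL N1304 (tt N1798 (iv F9774)) (tt N933 F6963) (tt N1765 F200171) (tt N932 (iv D1374)) (tt N1304 F6964) (tt N1800 D1981) (tt N1784 (iv F9718)) (tt N1304 F6965) (tt N1763 F200172) (tt N937 F6966))
theorem Q1306 : ∀ i, i < 1306 → P i := stepQ 1305 Q1305 (allL N1305 (tt N1799 (iv F9778)) (tt N934 F6967) (tt N1305 F6968) (tt N1800 (iv F9789)) (tt N945 F6969) (tt N932 (iv D1375)) (tt N1801 D1983) (tt N1305 F6970) (tt N1305 F6971) (tt N938 F6972))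
theorem Q1307 : ∀ i, i < 1307 → P i := stepQ 1306 Q1306 (allL N1306 (tt N1629 (iv F8814)) (tt N1800 (iv F9788)) (tt N1760 (iv F9599)) (tt N934 F6973) (tt N1802 D1984) (tt N933 (iv D1376)) (tt N1803 D1985) (tt N1306 F6974) (tt N1804 D1986) (tt N939 F6975))
theorem Q1308 : ∀ i, i < 1308 → P i := stepQ 1307 Q1307 (allL N1307 (tt N1630 (iv F8818)) (tt N1763 (iv F200377)) (tt N937 (iv F200379)) (tt N1307 F6976) (tt N1307 F6977) (tt N1804 (iv F9808)) (tt N1787 (iv F9729)) (tt N1307 F6978) (tt N933 (iv D1377)) (tt N1765 F200170))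
theorem Q1309 : ∀ i, i < 1309 → P i := stepQ 1308 Q1308 (allL N1308 (tt N1631 (iv F8822)) (tt N1801 (iv F9796)) (tt N935 F6979) (tt N1803 (iv F9805)) (tt N948 F6980) (tt N1788 (iv F9732)) (tt N934 (iv D1378)) (tt N1805 D1988) (tt N1308 F6981) (tt N941 F6982))
theorem Q1310 : ∀ i, i < 1310 → P i := stepQ 1309 Q1309 (allL N1309 (tt N1632 (iv F8827)) (tt N1309 F6983) (tt N1805 (iv F9814)) (tt N1762 (iv F9610)) (tt N949 F6984) (tt N1789 (iv F9737)) (tt N1309 F6985) (tt N935 (iv D1379)) (tt N1309 F6986) (tt N942 F6987))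
theorem Q1311 : ∀ i, i < 1311 → P i := stepQ 1310 Q1310 (allL N1310 (tt N937 F6988) (tt N1633 (iv F8833)) (tt N1630 F200539) (tt N936 (iv D1380)) (tt N1310 F6989) (tt N1806 D1990) (tt N1790 (iv F9742)) (tt N1310 F6990) (tt N1596 F200540) (tt N1798 (iv F9777)))
theorem Q1312 : ∀ i, i < 1312 → P i := stepQ 1311 Q1311 (allL N1311 (tt N938 F6991) (tt N1634 (iv F8837)) (tt N1311 F6992) (tt N1806 (iv F9824)) (tt N951 F6993) (tt N936 (iv D1381)) (tt N1807 D1992) (tt N1311 F6994) (tt N971 F6995) (tt N1799 (iv F9783)))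
theorem Q1313 : ∀ i, i < 1313 → P i := stepQ 1312 Q1312 (allL N1312 (tt N1806 (iv F9823)) (tt N939 F6999) (tt N1804 F200622) (tt N938 F7000) (tt N1808 D1995) (tt N937 (iv D1383)) (tt N1809 D1996) (tt N1312 F7001) (tt N1760 F200623) (tt N1800 (iv F9791)))
theorem Q1314 : ∀ i, i < 1314 → P i := stepQ 1313 Q1313 (allL N1313 (tt N1807 (iv F9830)) (tt N941 F7006) (tt N1313 F7007) (tt N1809 (iv F9845)) (tt N954 F7008) (tt N1793 (iv F9759)) (tt N938 (iv D1385)) (tt N1810 D1999) (tt N973 F7009) (tt N1801 (iv F9800)))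
theorem Q1315 : ∀ i, i < 1315 → P i := stepQ 1314 Q1314 (allL N1314 (tt N1639 (iv F8853)) (tt N1808 (iv F9840)) (tt N1767 (iv F9637)) (tt N955 F7010) (tt N939 (iv D1386)) (tt N1314 F7011) (tt N1811 D2000) (tt N1314 F7012) (tt N1812 D2001) (tt N1802 (iv F9804)))
theorem Q1316 : ∀ i, i < 1316 → P i := stepQ 1315 Q1315 (allL N1315 (tt N1640 (iv F8857)) (tt N1809 (iv F9844)) (tt N1768 (iv F9641)) (tt N941 F7013) (tt N1811 (iv F9860)) (tt N1795 (iv F9764)) (tt N939 (iv D1387)) (tt N1813 D2002) (tt N1814 D2003) (tt N1803 (iv F9806)))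
theorem Q1317 : ∀ i, i < 1317 → P i := stepQ 1316 Q1316 (allL N1316 (tt N1641 (iv F8859)) (tt N1760 F200625) (tt N1769 (iv F9643)) (tt N975 F7014) (tt N1812 (iv F9862)) (tt N940 F7015) (tt N1814 (iv F9868)) (tt N1316 F7016) (tt N939 (iv D1388)) (tt N1764 F200626))
theorem Q1318 : ∀ i, i < 1318 → P i := stepQ 1317 Q1317 (allL N1317 (tt N1643 (iv F8867)) (tt N1810 (iv F9854)) (tt N942 F7020) (tt N1813 (iv F9865)) (tt N957 F7021) (tt N1797 (iv F9772)) (tt N1317 F7022) (tt N941 (iv D1390)) (tt N976 F7023) (tt N1805 (iv F9818)))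
theorem Q1319 : ∀ i, i < 1319 → P i := stepQ 1318 Q1318 (allL N1318 (tt N944 F7024) (tt N1644 (iv F8873)) (tt N1815 D2005) (tt N943 (iv D1391)) (tt N1318 F7025) (tt N1816 D2006) (tt N1318 F7026) (tt N1318 F7027) (tt N1817 D2007) (tt N950 F7028))
theorem Q1320 : ∀ i, i < 1320 → P i := stepQ 1319 Q1319 (allL N1319 (tt N945 F7029) (tt N1645 (iv F8879)) (tt N1319 F7030) (tt N1816 (iv F9879)) (tt N1799 (iv F9780)) (tt N943 (iv D1392)) (tt N1818 D2008) (tt N1319 F7031) (tt N1319 F7032) (tt N951 F7033))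
theorem Q1321 : ∀ i, i < 1321 → P i := stepQ 1320 Q1320 (allL N1320 (tt N1815 (iv F9872)) (tt N1320 F7034) (tt N944 (iv D1393)) (tt N1320 F7035) (tt N1320 F7036) (tt N1819 D2009) (tt N1320 F7037) (tt N1320 F7038) (tt N1820 D2010) (tt N952 F7039))
theorem Q1322 : ∀ i, i < 1322 → P i := stepQ 1321 Q1321 (allL N1321 (tt N1816 (iv F9878)) (tt N946 F7040) (tt N1819 (iv F9894)) (tt N945 F7041) (tt N1821 D2011) (tt N944 (iv D1394)) (tt N1822 D2012) (tt N1321 F7042) (tt N1823 D2013) (tt N953 F7043))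
theorem Q1323 : ∀ i, i < 1323 → P i := stepQ 1322 Q1322 (allL N1322 (tt N1817 (iv F9882)) (tt N947 F7044) (tt N1820 (iv F9899)) (tt N1322 F7045) (tt N1322 F7046) (tt N1823 (iv F9914)) (tt N1322 F7047) (tt N1322 F7048) (tt N944 (iv D1395)) (tt N1322 F7049))
theorem Q1324 : ∀ i, i < 1324 → P i := stepQ 1323 Q1323 (allL N1323 (tt N1818 (iv F9888)) (tt N948 F7050) (tt N1323 F7051) (tt N1822 (iv F9909)) (tt N1801 (iv F9798)) (tt N1323 F7052) (tt N945 (iv D1396)) (tt N1824 D2014) (tt N1323 F7053) (tt N954 F7054))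
theorem Q1325 : ∀ i, i < 1325 → P i := stepQ 1324 Q1324 (allL N1324 (tt N1650 (iv F8902)) (tt N1821 (iv F9904)) (tt N1324 F7055) (tt N1802 (iv F9801)) (tt N946 (iv D1397)) (tt N1324 F7056) (tt N1825 D2015) (tt N1324 F7057) (tt N1826 D2016) (tt N955 F7058))
theorem Q1326 : ∀ i, i < 1326 → P i := stepQ 1325 Q1325 (allL N1325 (tt N1651 (iv F8907)) (tt N1822 (iv F9908)) (tt N1325 F7059) (tt N948 F7060) (tt N1825 (iv F9924)) (tt N1325 F7061) (tt N946 (iv D1398)) (tt N1827 D2017) (tt N1828 D2018) (tt N956 F7062))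
theorem Q1327 : ∀ i, i < 1327 → P i := stepQ 1326 Q1326 (allL N1326 (tt N1652 (iv F8912)) (tt N1823 (iv F9912)) (tt N1326 F7063) (tt N1326 F7064) (tt N1826 (iv F9927)) (tt N947 F7065) (tt N1828 (iv F9939)) (tt N1326 F7066) (tt N946 (iv D1399)) (tt N1326 F7067))
theorem Q1328 : ∀ i, i < 1328 → P i := stepQ 1327 Q1327 (allL N1327 (tt N1653 (iv F8918)) (tt N1824 (iv F9917)) (tt N949 F7068) (tt N1827 (iv F9932)) (tt N1805 (iv F9815)) (tt N1327 F7069) (tt N1327 F7070) (tt N948 (iv D1400)) (tt N1327 F7071) (tt N957 F7072))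
theorem Q1329 : ∀ i, i < 1329 → P i := stepQ 1328 Q1328 (allL N1328 (tt N952 F7073) (tt N1829 D2019) (tt N950 (iv D1401)) (tt N1328 F7074) (tt N1328 F7075) (tt N1830 D2020) (tt N1328 F7076) (tt N1328 F7077) (tt N1328 F7078) (tt N1815 (iv F9877)))
theorem Q1330 : ∀ i, i < 1330 → P i := stepQ 1329 Q1329 (allL N1329 (tt N953 F7079) (tt N1655 (iv F8930)) (tt N1830 (iv F9948)) (tt N951 F7080) (tt N1831 D2021) (tt N950 (iv D1402)) (tt N1832 D2022) (tt N1329 F7081) (tt N1329 F7082) (tt N1816 (iv F9881)))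
theorem Q1331 : ∀ i, i < 1331 → P i := stepQ 1330 Q1330 (allL N1330 (tt N954 F7083) (tt N1656 (iv F8935)) (tt N1330 F7084) (tt N1832 (iv F9957)) (tt N1807 (iv F9832)) (tt N1330 F7085) (tt N951 (iv D1403)) (tt N1833 D2023) (tt N977 F7086) (tt N1818 (iv F9892)))
theorem Q1332 : ∀ i, i < 1332 → P i := stepQ 1331 Q1331 (allL N1331 (tt N1830 (iv F9947)) (tt N1331 F7087) (tt N953 F7088) (tt N1331 F7089) (tt N1834 D2024) (tt N952 (iv D1404)) (tt N1835 D2025) (tt N1331 F7090) (tt N1331 F7091) (tt N1819 (iv F9897)))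
theorem Q1333 : ∀ i, i < 1333 → P i := stepQ 1332 Q1332 (allL N1332 (tt N1831 (iv F9952)) (tt N955 F7092) (tt N1834 (iv F9966)) (tt N1808 (iv F9841)) (tt N953 (iv D1405)) (tt N1332 F7093) (tt N1836 D2026) (tt N1332 F7094) (tt N1332 F7095) (tt N1821 (iv F9907)))
theorem Q1334 : ∀ i, i < 1334 → P i := stepQ 1333 Q1333 (allL N1333 (tt N1832 (iv F9956)) (tt N956 F7096) (tt N1835 (iv F9971)) (tt N954 F7097) (tt N1836 (iv F9976)) (tt N1333 F7098) (tt N953 (iv D1406)) (tt N1837 D2027) (tt N1333 F7099) (tt N1822 (iv F9911)))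
theorem Q1335 : ∀ i, i < 1335 → P i := stepQ 1334 Q1334 (allL N1334 (tt N1833 (iv F9960)) (tt N957 F7100) (tt N1334 F7101) (tt N1837 (iv F9979)) (tt N1810 (iv F9856)) (tt N1334 F7102) (tt N1334 F7103) (tt N954 (iv D1407)) (tt N978 F7104) (tt N1824 (iv F9922)))
theorem Q1336 : ∀ i, i < 1336 → P i := stepQ 1335 Q1335 (allL N1335 (tt N1661 (iv F8954)) (tt N1836 (iv F9975)) (tt N1335 F7105) (tt N1811 (iv F9859)) (tt N956 F7106) (tt N1838 D2028) (tt N955 (iv D1408)) (tt N1839 D2029) (tt N1335 F7107) (tt N1825 (iv F9925)))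
theorem Q1337 : ∀ i, i < 1337 → P i := stepQ 1336 Q1336 (allL N1336 (tt N1662 (iv F8958)) (tt N1837 (iv F9978)) (tt N1336 F7108) (tt N957 F7109) (tt N1839 (iv F9988)) (tt N1336 F7110) (tt N1336 F7111) (tt N956 (iv D1409)) (tt N1336 F7112) (tt N1827 (iv F9935)))
theorem Q1338 : ∀ i, i < 1338 → P i := stepQ 1337 Q1337 (allL N1337 (tt N959 F7113) (tt N1663 (iv F8965)) (tt N1337 F7114) (tt N1840 D2030) (tt N958 (iv D1410)) (tt N1841 D2031) (tt N1337 F7115) (tt N963 F7116) (tt N1776 (iv F9686)) (tt N1337 F7117))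
theorem Q1339 : ∀ i, i < 1339 → P i := stepQ 1338 Q1338 (allL N1338 (tt N1840 (iv F9991)) (tt N960 F7118) (tt N1742 F200195) (tt N959 (iv D1411)) (tt N980 F7119) (tt N1842 D2033) (tt N1338 F7120) (tt N964 F7121) (tt N1743 F200196) (tt N1338 F7122))
theorem Q1340 : ∀ i, i < 1340 → P i := stepQ 1339 Q1339 (allL N1339 (tt N1841 (iv F9996)) (tt N961 F7123) (tt N1339 F7124) (tt N1842 (iv F10008)) (tt N1339 F7125) (tt N959 (iv D1412)) (tt N1843 D2035) (tt N965 F7126) (tt N1778 (iv F9695)) (tt N1339 F7127))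
theorem Q1341 : ∀ i, i < 1341 → P i := stepQ 1340 Q1340 (allL N1340 (tt N1666 (iv F8978)) (tt N1842 (iv F10007)) (tt N1340 F7128) (tt N961 F7129) (tt N1844 D2036) (tt N960 (iv D1413)) (tt N1845 D2037) (tt N966 F7130) (tt N1846 D2038) (tt N1340 F7131))
theorem Q1342 : ∀ i, i < 1342 → P i := stepQ 1341 Q1341 (allL N1341 (tt N1667 (iv F8983)) (tt N1743 F200180) (tt N1341 F7132) (tt N1780 (iv F9698)) (tt N983 F7133) (tt N1846 (iv F10030)) (tt N1341 F7134) (tt N967 F7135) (tt N960 (iv D1414)) (tt N1745 F200181))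
theorem Q1343 : ∀ i, i < 1343 → P i := stepQ 1342 Q1342 (allL N1342 (tt N1668 (iv F8988)) (tt N1843 (iv F10015)) (tt N962 F7136) (tt N1845 (iv F10026)) (tt N1342 F7137) (tt N1342 F7138) (tt N961 (iv D1415)) (tt N1847 D2040) (tt N1781 (iv F9705)) (tt N1342 F7139))
theorem Q1344 : ∀ i, i < 1344 → P i := stepQ 1343 Q1343 (allL N1343 (tt N1669 (iv F8993)) (tt N1343 F7140) (tt N1847 (iv F10037)) (tt N1343 F7141) (tt N1343 F7142) (tt N1343 F7143) (tt N969 F7144) (tt N962 (iv D1416)) (tt N1782 (iv F9710)) (tt N1343 F7145))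
theorem Q1345 : ∀ i, i < 1345 → P i := stepQ 1344 Q1344 (allL N1344 (tt N964 F7146) (tt N1670 (iv F9000)) (tt N1585 F200497) (tt N963 (iv D1417)) (tt N985 F7147) (tt N1848 D2042) (tt N970 F7148) (tt N1840 (iv F9994)) (tt N1587 F200498) (tt N1344 F7149))
theorem Q1346 : ∀ i, i < 1346 → P i := stepQ 1345 Q1345 (allL N1345 (tt N965 F7150) (tt N1671 (iv F9005)) (tt N1345 F7151) (tt N1848 (iv F10048)) (tt N1345 F7152) (tt N963 (iv D1418)) (tt N1849 D2044) (tt N1841 (iv F9999)) (tt N1791 (iv F9746)) (tt N1345 F7153))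
theorem Q1347 : ∀ i, i < 1347 → P i := stepQ 1346 Q1346 (allL N1346 (tt N1848 (iv F10047)) (tt N966 F7159) (tt N1749 F200550) (tt N965 F7160) (tt N1850 D2047) (tt N964 (iv D1420)) (tt N1851 D2048) (tt N1842 (iv F10009)) (tt N1751 F200551) (tt N1346 F7161))
theorem Q1348 : ∀ i, i < 1348 → P i := stepQ 1347 Q1347 (allL N1347 (tt N1849 (iv F10053)) (tt N968 F7165) (tt N1347 F7166) (tt N1851 (iv F10071)) (tt N1347 F7167) (tt N973 F7168) (tt N965 (iv D1422)) (tt N1852 D2051) (tt N1793 (iv F9760)) (tt N1347 F7169))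
theorem Q1349 : ∀ i, i < 1349 → P i := stepQ 1348 Q1348 (allL N1348 (tt N1676 (iv F9022)) (tt N1850 (iv F10066)) (tt N1348 F7170) (tt N1348 F7171) (tt N966 (iv D1423)) (tt N988 F7172) (tt N1853 D2052) (tt N1844 (iv F10023)) (tt N1854 D2053) (tt N1348 F7173))
theorem Q1350 : ∀ i, i < 1350 → P i := stepQ 1349 Q1349 (allL N1349 (tt N1677 (iv F9027)) (tt N1851 (iv F10070)) (tt N1349 F7174) (tt N968 F7175) (tt N1853 (iv F10087)) (tt N974 F7176) (tt N966 (iv D1424)) (tt N1855 D2054) (tt N1856 D2055) (tt N1349 F7177))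
theorem Q1351 : ∀ i, i < 1351 → P i := stepQ 1350 Q1350 (allL N1350 (tt N1678 (iv F9032)) (tt N1751 F200548) (tt N1350 F7178) (tt N1796 (iv F9765)) (tt N1854 (iv F10091)) (tt N967 F7179) (tt N1856 (iv F10099)) (tt N1846 (iv F10031)) (tt N966 (iv D1425)) (tt N1754 F200549))
theorem Q1352 : ∀ i, i < 1352 → P i := stepQ 1351 Q1351 (allL N1351 (tt N1680 (iv F9040)) (tt N1852 (iv F10080)) (tt N969 F7184) (tt N1855 (iv F10094)) (tt N1351 F7185) (tt N976 F7186) (tt N1847 (iv F10040)) (tt N968 (iv D1427)) (tt N1797 (iv F9773)) (tt N1351 F7187))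
theorem Q1353 : ∀ i, i < 1353 → P i := stepQ 1352 Q1352 (allL N1352 (tt N972 F7193) (tt N1682 (iv F9050)) (tt N1594 F201208) (tt N971 F7194) (tt N1352 F7195) (tt N970 (iv D1429)) (tt N1857 D2060) (tt N1352 F7196) (tt N1597 F201209) (tt N1352 F7197))
theorem Q1354 : ∀ i, i < 1354 → P i := stepQ 1353 Q1353 (allL N1353 (tt N973 F7201) (tt N1683 (iv F9060)) (tt N1353 F7202) (tt N1857 (iv F10119)) (tt N977 F7203) (tt N1849 (iv F10056)) (tt N971 (iv D1431)) (tt N1858 D2063) (tt N1807 (iv F9833)) (tt N1353 F7204))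
theorem Q1355 : ∀ i, i < 1355 → P i := stepQ 1354 Q1354 (allL N1354 (tt N1857 (iv F10118)) (tt N974 F7215) (tt N1759 F201274) (tt N973 F7216) (tt N1354 F7217) (tt N1851 (iv F10072)) (tt N972 (iv D1434)) (tt N1859 D2068) (tt N1761 F201275) (tt N1354 F7218))
theorem Q1356 : ∀ i, i < 1356 → P i := stepQ 1355 Q1355 (allL N1355 (tt N1858 (iv F10130)) (tt N976 F7227) (tt N1355 F7228) (tt N1859 (iv F10154)) (tt N978 F7229) (tt N1852 (iv F10083)) (tt N1355 F7230) (tt N973 (iv D1437)) (tt N1810 (iv F9858)) (tt N1355 F7231))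
theorem Q1357 : ∀ i, i < 1357 → P i := stepQ 1356 Q1356 (allL N1356 (tt N1689 (iv F9088)) (tt N1859 (iv F10153)) (tt N1356 F7232) (tt N976 F7233) (tt N1356 F7234) (tt N1855 (iv F10095)) (tt N1356 F7235) (tt N974 (iv D1438)) (tt N1860 D2071) (tt N1356 F7236))
theorem Q1358 : ∀ i, i < 1358 → P i := stepQ 1357 Q1357 (allL N1357 (tt N1690 (iv F9094)) (tt N1761 F201272) (tt N1357 F7237) (tt N1814 (iv F9867)) (tt N1357 F7238) (tt N1856 (iv F10098)) (tt N975 F7239) (tt N1860 (iv F10169)) (tt N974 (iv D1439)) (tt N1766 F201273))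
theorem Q1359 : ∀ i, i < 1359 → P i := stepQ 1358 Q1358 (allL N1358 (tt N978 F7245) (tt N1692 (iv F9105)) (tt N1358 F7246) (tt N1358 F7247) (tt N1858 (iv F10132)) (tt N1358 F7248) (tt N1358 F7249) (tt N977 (iv D1441)) (tt N1833 (iv F9964)) (tt N1358 F7250))
theorem Q1360 : ∀ i, i < 1360 → P i := stepQ 1359 Q1359 (allL N1359 (tt N980 F7251) (tt N1693 (iv F9111)) (tt N1579 F200564) (tt N979 (iv D1442)) (tt N1840 (iv F9992)) (tt N1861 D2074) (tt N1359 F7252) (tt N985 F7253) (tt N1580 F200565) (tt N1359 F7254))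
theorem Q1361 : ∀ i, i < 1361 → P i := stepQ 1360 Q1360 (allL N1360 (tt N981 F7255) (tt N1694 (iv F9116)) (tt N991 F7256) (tt N1861 (iv F10180)) (tt N1360 F7257) (tt N979 (iv D1443)) (tt N1862 D2076) (tt N986 F7258) (tt N1360 F7259) (tt N1360 F7260))
theorem Q1362 : ∀ i, i < 1362 → P i := stepQ 1361 Q1361 (allL N1361 (tt N1861 (iv F10179)) (tt N982 F7266) (tt N1725 F200646) (tt N981 F7267) (tt N1863 D2079) (tt N980 (iv D1445)) (tt N1864 D2080) (tt N987 F7268) (tt N1726 F200647) (tt N1361 F7269))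
theorem Q1363 : ∀ i, i < 1363 → P i := stepQ 1362 Q1362 (allL N1362 (tt N1862 (iv F10187)) (tt N984 F7274) (tt N993 F7275) (tt N1864 (iv F10208)) (tt N1362 F7276) (tt N1362 F7277) (tt N981 (iv D1447)) (tt N1362 F7278) (tt N1362 F7279) (tt N1362 F7280))
theorem Q1364 : ∀ i, i < 1364 → P i := stepQ 1363 Q1363 (allL N1363 (tt N1699 (iv F9142)) (tt N1863 (iv F10203)) (tt N1363 F7281) (tt N1363 F7282) (tt N982 (iv D1448)) (tt N1844 (iv F10022)) (tt N1865 D2083) (tt N988 F7283) (tt N1866 D2084) (tt N1363 F7284))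
theorem Q1365 : ∀ i, i < 1365 → P i := stepQ 1364 Q1364 (allL N1364 (tt N1700 (iv F9147)) (tt N1864 (iv F10207)) (tt N1364 F7285) (tt N984 F7286) (tt N1865 (iv F10223)) (tt N1364 F7287) (tt N982 (iv D1449)) (tt N1364 F7288) (tt N1867 D2085) (tt N1364 F7289))
theorem Q1366 : ∀ i, i < 1366 → P i := stepQ 1365 Q1365 (allL N1365 (tt N1701 (iv F9153)) (tt N1726 F200628) (tt N1365 F7290) (tt N1365 F7291) (tt N1866 (iv F10227)) (tt N983 F7292) (tt N1867 (iv F10232)) (tt N989 F7293) (tt N982 (iv D1450)) (tt N1728 F200629))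
theorem Q1367 : ∀ i, i < 1367 → P i := stepQ 1366 Q1366 (allL N1366 (tt N987 F7303) (tt N1704 (iv F9169)) (tt N1573 F201204) (tt N986 F7304) (tt N1868 D2090) (tt N985 (iv D1453)) (tt N1366 F7305) (tt N1861 (iv F10181)) (tt N1574 F201205) (tt N1366 F7306))
theorem Q1368 : ∀ i, i < 1368 → P i := stepQ 1367 Q1367 (allL N1367 (tt N1868 (iv F10251)) (tt N988 F7318) (tt N1735 F201282) (tt N1367 F7319) (tt N987 (iv D1457)) (tt N1850 (iv F10068)) (tt N1367 F7320) (tt N1863 (iv F10205)) (tt N1736 F201283) (tt N1367 F7321))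
theorem Q1369 : ∀ i, i < 1369 → P i := stepQ 1368 Q1368 (allL N1368 (tt N1709 (iv F9197)) (tt N1736 F201279) (tt N1368 F7330) (tt N1869 D2099) (tt N989 F7331) (tt N1854 (iv F10092)) (tt N1368 F7332) (tt N1866 (iv F10228)) (tt N988 (iv D1460)) (tt N1738 F201280))
theorem Q1370 : ∀ i, i < 1370 → P i := stepQ 1369 Q1369 (allL N1369 (tt N992 F7367) (tt N1369 F7368) (tt N1566 F201294) (tt N991 F7369) (tt N1870 D2109) (tt N990 (iv D1468)) (tt N1871 D2110) (tt N997 F7370) (tt N1564 (iv F201677)) (tt N1369 F7371))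
theorem Q1371 : ∀ i, i < 1371 → P i := stepQ 1370 Q1370 (allL N1370 (tt N993 F7378) (tt N1370 F7379) (tt N1862 (iv F10188)) (tt N1871 (iv F10340)) (tt N1370 F7380) (tt N1370 F7381) (tt N991 (iv D1470)) (tt N1370 F7382) (tt N1370 F7383) (tt N1370 F7384))
theorem Q1372 : ∀ i, i < 1372 → P i := stepQ 1371 Q1371 (allL N1371 (tt N1870 (iv F10332)) (tt N994 F7394) (tt N1724 F201360) (tt N1371 F7395) (tt N992 (iv D1473)) (tt N1371 F7396) (tt N1872 D2118) (tt N998 F7397) (tt N1723 (iv F201683)) (tt N1371 F7398))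
theorem Q1373 : ∀ i, i < 1373 → P i := stepQ 1372 Q1372 (allL N1372 (tt N1871 (iv F10338)) (tt N995 F7399) (tt N1717 F201359) (tt N993 F7400) (tt N1872 (iv F10382)) (tt N1372 F7401) (tt N992 (iv D1474)) (tt N1372 F7402) (tt N1714 (iv F201681)) (tt N1372 F7403))
theorem Q1374 : ∀ i, i < 1374 → P i := stepQ 1373 Q1373 (allL N1373 (tt N1373 F7414) (tt N1872 (iv F10380)) (tt N1373 F7415) (tt N1373 F7416) (tt N995 F7417) (tt N1873 D2122) (tt N994 (iv D1477)) (tt N1373 F7418) (tt N1874 D2123) (tt N1373 F7419))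
theorem Q1375 : ∀ i, i < 1375 → P i := stepQ 1374 Q1374 (allL N1374 (tt N1374 F7420) (tt N1723 F202092) (tt N1374 F7421) (tt N1875 D2124) (tt N996 F7422) (tt N1374 F7423) (tt N1874 (iv F10409)) (tt N999 F7424) (tt N994 (iv D1478)) (tt N1721 (iv F202485)))
theorem Q1376 : ∀ i, i < 1376 → P i := stepQ 1375 Q1375 (allL N1375 (tt N1375 F7425) (tt N1714 F202090) (tt N1375 F7426) (tt N1375 F7427) (tt N1874 (iv F10408)) (tt N1375 F7428) (tt N996 F7429) (tt N1375 F7430) (tt N995 (iv D1479)) (tt N1712 (iv F202482)))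
theorem Q1377 : ∀ i, i < 1377 → P i := stepQ 1376 Q1376 (allL N1376 (tt N998 F7450) (tt N1376 F7451) (tt N1572 F202035) (tt N1376 F7452) (tt N997 (iv D1484)) (tt N1376 F7453) (tt N1376 F7454) (tt N1870 (iv F10336)) (tt N1571 (iv F202428)) (tt N1376 F7455))
theorem Q1378 : ∀ i, i < 1378 → P i := stepQ 1377 Q1377 (allL N1377 (tt N1377 F7493) (tt N1733 F202986) (tt N1876 D2143) (tt N999 (iv D1493)) (tt N1377 F7494) (tt N1377 F7495) (tt N1377 F7496) (tt N1875 (iv F10414)) (tt N1377 F7497) (tt N1731 (iv F203428)))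
theorem Q1379 : ∀ i, i < 1379 → P i := stepQ 1378 Q1378 (allL N1378 (tt N1378 F7529) (tt N1378 F7530) (tt N1378 F7531) (tt N1378 F7532) (tt N1001 F7533) (tt N1378 F7534) (tt N1877 D2152) (tt N1000 (iv D1500)) (tt N1378 F7535) (tt N1878 D2153))
theorem Q1380 : ∀ i, i < 1380 → P i := stepQ 1379 Q1379 (allL N1379 (tt N1379 F7536) (tt N1379 F7537) (tt N1379 F7538) (tt N1379 F7539) (tt N1002 F7540) (tt N1379 F7541) (tt N1379 F7542) (tt N1878 (iv F10563)) (tt N1879 D2154) (tt N1000 (iv D1501)))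
theorem Q1381 : ∀ i, i < 1381 → P i := stepQ 1380 Q1380 (allL N1380 (tt N1380 F7543) (tt N1380 F7544) (tt N1380 F7545) (tt N1006 F7546) (tt N1877 (iv F10554)) (tt N1380 F7547) (tt N1001 (iv D1502)) (tt N1380 F7548) (tt N1380 F7549) (tt N1880 D2155))
theorem Q1382 : ∀ i, i < 1382 → P i := stepQ 1381 Q1381 (allL N1381 (tt N1381 F7550) (tt N1381 F7551) (tt N1381 F7552) (tt N1008 F7553) (tt N1878 (iv F10561)) (tt N1003 F7554) (tt N1880 (iv F10576)) (tt N1002 F7555) (tt N1881 D2156) (tt N1001 (iv D1503)))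
theorem Q1383 : ∀ i, i < 1383 → P i := stepQ 1382 Q1382 (allL N1382 (tt N1382 F7556) (tt N1382 F7557) (tt N1382 F7558) (tt N1882 D2157) (tt N1879 (iv F10567)) (tt N1004 F7559) (tt N1382 F7560) (tt N1881 (iv F10582)) (tt N1002 (iv D1504)) (tt N1382 F7561))
theorem Q1384 : ∀ i, i < 1384 → P i := stepQ 1383 Q1383 (allL N1383 (tt N1383 F7562) (tt N1383 F7563) (tt N1383 F7564) (tt N1883 D2158) (tt N1383 F7565) (tt N1881 (iv F10581)) (tt N1383 F7566) (tt N1004 F7567) (tt N1003 (iv D1505)) (tt N1383 F7568))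
theorem Q1385 : ∀ i, i < 1385 → P i := stepQ 1384 Q1384 (allL N1384 (tt N1384 F7569) (tt N1384 F7570) (tt N1884 D2159) (tt N1004 (iv D1506)) (tt N1885 D2160) (tt N1882 (iv F10586)) (tt N1005 F7571) (tt N1883 (iv F10593)) (tt N1014 F7572) (tt N1384 F7573))
theorem Q1386 : ∀ i, i < 1386 → P i := stepQ 1385 Q1385 (allL N1385 (tt N1385 F7574) (tt N1886 D2161) (tt N1005 (iv D1507)) (tt N1385 F7575) (tt N1887 D2162) (tt N1385 F7576) (tt N1884 (iv F10598)) (tt N1385 F7577) (tt N1016 F7578) (tt N1385 F7579))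
theorem Q1387 : ∀ i, i < 1387 → P i := stepQ 1386 Q1386 (allL N1386 (tt N1386 F7580) (tt N1386 F7581) (tt N1887 (iv F10614)) (tt N1386 F7582) (tt N1005 (iv D1508)) (tt N1888 D2163) (tt N1885 (iv F10604)) (tt N1386 F7583) (tt N1017 F7584) (tt N1386 F7585))
theorem Q1388 : ∀ i, i < 1388 → P i := stepQ 1387 Q1387 (allL N1387 (tt N1387 F7586) (tt N1387 F7587) (tt N1042 F7588) (tt N1387 F7589) (tt N1387 F7590) (tt N1387 F7591) (tt N1007 F7592) (tt N1387 F7593) (tt N1006 (iv D1509)) (tt N1889 D2164))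
theorem Q1389 : ∀ i, i < 1389 → P i := stepQ 1388 Q1388 (allL N1388 (tt N1388 F7594) (tt N1388 F7595) (tt N1043 F7596) (tt N1880 (iv F10574)) (tt N1388 F7597) (tt N1388 F7598) (tt N1008 F7599) (tt N1388 F7600) (tt N1890 D2165) (tt N1006 (iv D1510)))
theorem Q1390 : ∀ i, i < 1390 → P i := stepQ 1389 Q1389 (allL N1389 (tt N1389 F7601) (tt N1389 F7602) (tt N1045 F7603) (tt N1389 F7604) (tt N1389 F7605) (tt N1011 F7606) (tt N1889 (iv F10631)) (tt N1009 F7607) (tt N1891 D2166) (tt N1007 (iv D1511)))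
theorem Q1391 : ∀ i, i < 1391 → P i := stepQ 1390 Q1390 (allL N1390 (tt N1390 F7608) (tt N1390 F7609) (tt N1046 F7610) (tt N1892 D2167) (tt N1390 F7611) (tt N1012 F7612) (tt N1890 (iv F10638)) (tt N1010 F7613) (tt N1008 (iv D1512)) (tt N1891 (iv F10646)))
theorem Q1392 : ∀ i, i < 1392 → P i := stepQ 1391 Q1391 (allL N1391 (tt N1391 F7614) (tt N1391 F7615) (tt N1049 F7616) (tt N1893 D2168) (tt N1391 F7617) (tt N1013 F7618) (tt N1391 F7619) (tt N1891 (iv F10645)) (tt N1009 (iv D1513)) (tt N1010 F7620))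
theorem Q1393 : ∀ i, i < 1393 → P i := stepQ 1392 Q1392 (allL N1392 (tt N1392 F7621) (tt N1392 F7622) (tt N1894 D2169) (tt N1010 (iv D1514)) (tt N1895 D2170) (tt N1014 F7623) (tt N1392 F7624) (tt N1892 (iv F10650)) (tt N1882 (iv F10588)) (tt N1893 (iv F10656)))
theorem Q1394 : ∀ i, i < 1394 → P i := stepQ 1393 Q1393 (allL N1393 (tt N1393 F7625) (tt N1393 F7626) (tt N1052 F7627) (tt N1896 D2171) (tt N1019 F7628) (tt N1891 (iv F10644)) (tt N1393 F7629) (tt N1013 F7630) (tt N1011 (iv D1515)) (tt N1012 F7631))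
theorem Q1395 : ∀ i, i < 1395 → P i := stepQ 1394 Q1394 (allL N1394 (tt N1394 F7632) (tt N1394 F7633) (tt N1897 D2172) (tt N1012 (iv D1516)) (tt N1898 D2173) (tt N1892 (iv F10649)) (tt N1394 F7634) (tt N1014 F7635) (tt N1883 (iv F10594)) (tt N1896 (iv F10670)))
theorem Q1396 : ∀ i, i < 1396 → P i := stepQ 1395 Q1395 (allL N1395 (tt N1395 F7636) (tt N1395 F7637) (tt N1899 D2174) (tt N1013 (iv D1517)) (tt N1900 D2175) (tt N1893 (iv F10653)) (tt N1015 F7638) (tt N1896 (iv F10668)) (tt N1395 F7639) (tt N1014 F7640))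
theorem Q1397 : ∀ i, i < 1397 → P i := stepQ 1396 Q1396 (allL N1396 (tt N1396 F7641) (tt N1901 D2176) (tt N1014 (iv D1518)) (tt N1056 F7642) (tt N1902 D2177) (tt N1894 (iv F10659)) (tt N1016 F7643) (tt N1897 (iv F10674)) (tt N1884 (iv F10599)) (tt N1899 (iv F10684)))
theorem Q1398 : ∀ i, i < 1398 → P i := stepQ 1397 Q1397 (allL N1397 (tt N1397 F7644) (tt N1397 F7645) (tt N1902 (iv F10695)) (tt N1024 F7646) (tt N1014 (iv D1519)) (tt N1903 D2178) (tt N1017 F7647) (tt N1898 (iv F10679)) (tt N1885 (iv F10605)) (tt N1900 (iv F10690)))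
theorem Q1399 : ∀ i, i < 1399 → P i := stepQ 1398 Q1398 (allL N1398 (tt N1398 F7648) (tt N1904 D2179) (tt N1015 (iv D1520)) (tt N1059 F7649) (tt N1905 D2180) (tt N1398 F7650) (tt N1899 (iv F10682)) (tt N1398 F7651) (tt N1398 F7652) (tt N1016 F7653))
theorem Q1400 : ∀ i, i < 1400 → P i := stepQ 1399 Q1399 (allL N1399 (tt N1399 F7654) (tt N1399 F7655) (tt N1905 (iv F10707)) (tt N1027 F7656) (tt N1015 (iv D1521)) (tt N1906 D2181) (tt N1900 (iv F10688)) (tt N1399 F7657) (tt N1399 F7658) (tt N1017 F7659))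
theorem Q1401 : ∀ i, i < 1401 → P i := stepQ 1400 Q1400 (allL N1400 (tt N1907 D2182) (tt N1016 (iv D1522)) (tt N1400 F7660) (tt N1061 F7661) (tt N1908 D2183) (tt N1400 F7662) (tt N1901 (iv F10693)) (tt N1400 F7663) (tt N1886 (iv F10611)) (tt N1904 (iv F10705)))
theorem Q1402 : ∀ i, i < 1402 → P i := stepQ 1401 Q1401 (allL N1401 (tt N1401 F7664) (tt N1908 (iv F10723)) (tt N1017 F7665) (tt N1909 D2184) (tt N1016 (iv D1523)) (tt N1910 D2185) (tt N1902 (iv F10696)) (tt N1401 F7666) (tt N1887 (iv F10616)) (tt N1905 (iv F10710)))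
theorem Q1403 : ∀ i, i < 1403 → P i := stepQ 1402 Q1402 (allL N1402 (tt N1402 F7667) (tt N1402 F7668) (tt N1910 (iv F10731)) (tt N1030 F7669) (tt N1402 F7670) (tt N1017 (iv D1524)) (tt N1911 D2186) (tt N1402 F7671) (tt N1888 (iv F10623)) (tt N1906 (iv F10717)))
theorem Q1404 : ∀ i, i < 1404 → P i := stepQ 1403 Q1403 (allL N1403 (tt N1403 F7672) (tt N1403 F7673) (tt N1403 F7674) (tt N1912 D2187) (tt N1403 F7675) (tt N1403 F7676) (tt N1403 F7677) (tt N1021 F7678) (tt N1018 (iv D1525)) (tt N1403 F7679))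
theorem Q1405 : ∀ i, i < 1405 → P i := stepQ 1404 Q1404 (allL N1404 (tt N1404 F7680) (tt N1404 F7681) (tt N1913 D2188) (tt N1019 (iv D1526)) (tt N1914 D2189) (tt N1404 F7682) (tt N1404 F7683) (tt N1022 F7684) (tt N1912 (iv F10743)) (tt N1020 F7685))
theorem Q1406 : ∀ i, i < 1406 → P i := stepQ 1405 Q1405 (allL N1405 (tt N1405 F7686) (tt N1915 D2190) (tt N1020 (iv D1527)) (tt N1065 F7687) (tt N1916 D2191) (tt N1405 F7688) (tt N1405 F7689) (tt N1023 F7690) (tt N1405 F7691) (tt N1913 (iv F10750)))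
theorem Q1407 : ∀ i, i < 1407 → P i := stepQ 1406 Q1406 (allL N1406 (tt N1406 F7692) (tt N1406 F7693) (tt N1916 (iv F10763)) (tt N1898 (iv F10677)) (tt N1020 (iv D1528)) (tt N1917 D2192) (tt N1406 F7694) (tt N1024 F7695) (tt N1406 F7696) (tt N1914 (iv F10755)))
theorem Q1408 : ∀ i, i < 1408 → P i := stepQ 1407 Q1407 (allL N1407 (tt N1407 F7697) (tt N1407 F7698) (tt N1918 D2193) (tt N1021 (iv D1529)) (tt N1919 D2194) (tt N1407 F7699) (tt N1025 F7700) (tt N1912 (iv F10742)) (tt N1022 F7701) (tt N1407 F7702))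
theorem Q1409 : ∀ i, i < 1409 → P i := stepQ 1408 Q1408 (allL N1408 (tt N1408 F7703) (tt N1920 D2195) (tt N1022 (iv D1530)) (tt N1067 F7704) (tt N1921 D2196) (tt N1408 F7705) (tt N1026 F7706) (tt N1913 (iv F10749)) (tt N1918 (iv F10776)) (tt N1023 F7707))
theorem Q1410 : ∀ i, i < 1410 → P i := stepQ 1409 Q1409 (allL N1409 (tt N1409 F7708) (tt N1409 F7709) (tt N1921 (iv F10790)) (tt N1900 (iv F10687)) (tt N1022 (iv D1531)) (tt N1922 D2197) (tt N1027 F7710) (tt N1914 (iv F10754)) (tt N1919 (iv F10782)) (tt N1024 F7711))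
theorem Q1411 : ∀ i, i < 1411 → P i := stepQ 1410 Q1410 (allL N1410 (tt N1923 D2198) (tt N1023 (iv D1532)) (tt N1410 F7712) (tt N1069 F7713) (tt N1924 D2199) (tt N1410 F7714) (tt N1028 F7715) (tt N1915 (iv F10760)) (tt N1410 F7716) (tt N1920 (iv F10788)))
theorem Q1412 : ∀ i, i < 1412 → P i := stepQ 1411 Q1411 (allL N1411 (tt N1411 F7717) (tt N1924 (iv F10803)) (tt N1024 F7718) (tt N1925 D2200) (tt N1023 (iv D1533)) (tt N1926 D2201) (tt N1029 F7719) (tt N1916 (iv F10765)) (tt N1411 F7720) (tt N1921 (iv F10792)))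
theorem Q1413 : ∀ i, i < 1413 → P i := stepQ 1412 Q1412 (allL N1412 (tt N1412 F7721) (tt N1412 F7722) (tt N1926 (iv F10811)) (tt N1903 (iv F10699)) (tt N1412 F7723) (tt N1024 (iv D1534)) (tt N1927 D2202) (tt N1917 (iv F10770)) (tt N1412 F7724) (tt N1922 (iv F10796)))
theorem Q1414 : ∀ i, i < 1414 → P i := stepQ 1413 Q1413 (allL N1413 (tt N1413 F7725) (tt N1928 D2203) (tt N1025 (iv D1535)) (tt N1413 F7726) (tt N1929 D2204) (tt N1032 F7727) (tt N1918 (iv F10775)) (tt N1413 F7728) (tt N1026 F7729) (tt N1413 F7730))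
theorem Q1415 : ∀ i, i < 1415 → P i := stepQ 1414 Q1414 (allL N1414 (tt N1414 F7731) (tt N1414 F7732) (tt N1929 (iv F10826)) (tt N1414 F7733) (tt N1025 (iv D1536)) (tt N1930 D2205) (tt N1919 (iv F10781)) (tt N1414 F7734) (tt N1027 F7735) (tt N1414 F7736))
theorem Q1416 : ∀ i, i < 1416 → P i := stepQ 1415 Q1415 (allL N1415 (tt N1931 D2206) (tt N1026 (iv D1537)) (tt N1415 F7737) (tt N1072 F7738) (tt N1932 D2207) (tt N1034 F7739) (tt N1920 (iv F10787)) (tt N1415 F7740) (tt N1928 (iv F10823)) (tt N1028 F7741))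
theorem Q1417 : ∀ i, i < 1417 → P i := stepQ 1416 Q1416 (allL N1416 (tt N1416 F7742) (tt N1932 (iv F10843)) (tt N1027 F7743) (tt N1933 D2208) (tt N1026 (iv D1538)) (tt N1934 D2209) (tt N1921 (iv F10791)) (tt N1416 F7744) (tt N1929 (iv F10828)) (tt N1029 F7745))
theorem Q1418 : ∀ i, i < 1418 → P i := stepQ 1417 Q1417 (allL N1417 (tt N1417 F7746) (tt N1417 F7747) (tt N1934 (iv F10852)) (tt N1906 (iv F10713)) (tt N1036 F7748) (tt N1027 (iv D1539)) (tt N1935 D2210) (tt N1417 F7749) (tt N1930 (iv F10835)) (tt N1030 F7750))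
theorem Q1419 : ∀ i, i < 1419 → P i := stepQ 1418 Q1418 (allL N1418 (tt N1028 (iv D1540)) (tt N1418 F7751) (tt N1418 F7752) (tt N1075 F7753) (tt N1936 D2211) (tt N1037 F7754) (tt N1923 (iv F10801)) (tt N1418 F7755) (tt N1418 F7756) (tt N1931 (iv F10842)))
theorem Q1420 : ∀ i, i < 1420 → P i := stepQ 1419 Q1419 (allL N1419 (tt N1936 (iv F10860)) (tt N1029 F7757) (tt N1419 F7758) (tt N1937 D2212) (tt N1028 (iv D1541)) (tt N1938 D2213) (tt N1924 (iv F10805)) (tt N1419 F7759) (tt N1419 F7760) (tt N1932 (iv F10846)))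
theorem Q1421 : ∀ i, i < 1421 → P i := stepQ 1420 Q1420 (allL N1420 (tt N1420 F7761) (tt N1937 (iv F10865)) (tt N1909 (iv F10727)) (tt N1029 (iv D1542)) (tt N1077 F7762) (tt N1939 D2214) (tt N1925 (iv F10809)) (tt N1420 F7763) (tt N1940 D2215) (tt N1933 (iv F10850)))
theorem Q1422 : ∀ i, i < 1422 → P i := stepQ 1421 Q1421 (allL N1421 (tt N1421 F7764) (tt N1938 (iv F10868)) (tt N1030 F7765) (tt N1939 (iv F10874)) (tt N1040 F7766) (tt N1029 (iv D1543)) (tt N1941 D2216) (tt N1421 F7767) (tt N1421 F7768) (tt N1934 (iv F10855)))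
theorem Q1423 : ∀ i, i < 1423 → P i := stepQ 1422 Q1422 (allL N1422 (tt N1422 F7769) (tt N1422 F7770) (tt N1941 (iv F10881)) (tt N1911 (iv F10736)) (tt N1041 F7771) (tt N1927 (iv F10817)) (tt N1030 (iv D1544)) (tt N1942 D2217) (tt N1422 F7772) (tt N1935 (iv F10859)))
theorem Q1424 : ∀ i, i < 1424 → P i := stepQ 1423 Q1423 (allL N1423 (tt N1423 F7773) (tt N1943 D2218) (tt N1031 (iv D1545)) (tt N1423 F7774) (tt N1944 D2219) (tt N1423 F7775) (tt N1423 F7776) (tt N1423 F7777) (tt N1423 F7778) (tt N1423 F7779))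
theorem Q1425 : ∀ i, i < 1425 → P i := stepQ 1424 Q1424 (allL N1424 (tt N1424 F7780) (tt N1424 F7781) (tt N1944 (iv F10897)) (tt N1033 F7782) (tt N1031 (iv D1546)) (tt N1945 D2220) (tt N1424 F7783) (tt N1424 F7784) (tt N1424 F7785) (tt N1424 F7786))
theorem Q1426 : ∀ i, i < 1426 → P i := stepQ 1425 Q1425 (allL N1425 (tt N1946 D2221) (tt N1032 (iv D1547)) (tt N1425 F7787) (tt N1425 F7788) (tt N1947 D2222) (tt N1928 (iv F10821)) (tt N1425 F7789) (tt N1425 F7790) (tt N1034 F7791) (tt N1425 F7792))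
theorem Q1427 : ∀ i, i < 1427 → P i := stepQ 1426 Q1426 (allL N1426 (tt N1426 F7793) (tt N1947 (iv F10916)) (tt N1033 F7794) (tt N1948 D2223) (tt N1032 (iv D1548)) (tt N1949 D2224) (tt N1426 F7795) (tt N1426 F7796) (tt N1035 F7797) (tt N1426 F7798))
theorem Q1428 : ∀ i, i < 1428 → P i := stepQ 1427 Q1427 (allL N1427 (tt N1427 F7799) (tt N1427 F7800) (tt N1949 (iv F10928)) (tt N1945 (iv F10904)) (tt N1930 (iv F10833)) (tt N1033 (iv D1549)) (tt N1950 D2225) (tt N1427 F7801) (tt N1036 F7802) (tt N1427 F7803))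
theorem Q1429 : ∀ i, i < 1429 → P i := stepQ 1428 Q1428 (allL N1428 (tt N1034 (iv D1550)) (tt N1428 F7804) (tt N1428 F7805) (tt N1080 F7806) (tt N1951 D2226) (tt N1931 (iv F10840)) (tt N1428 F7807) (tt N1428 F7808) (tt N1946 (iv F10914)) (tt N1037 F7809))
theorem Q1430 : ∀ i, i < 1430 → P i := stepQ 1429 Q1429 (allL N1429 (tt N1951 (iv F10937)) (tt N1035 F7810) (tt N1429 F7811) (tt N1952 D2227) (tt N1034 (iv D1551)) (tt N1953 D2228) (tt N1429 F7812) (tt N1429 F7813) (tt N1947 (iv F10920)) (tt N1038 F7814))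
theorem Q1431 : ∀ i, i < 1431 → P i := stepQ 1430 Q1430 (allL N1430 (tt N1430 F7815) (tt N1952 (iv F10943)) (tt N1430 F7816) (tt N1035 (iv D1552)) (tt N1082 F7817) (tt N1954 D2229) (tt N1430 F7818) (tt N1430 F7819) (tt N1955 D2230) (tt N1039 F7820))
theorem Q1432 : ∀ i, i < 1432 → P i := stepQ 1431 Q1431 (allL N1431 (tt N1431 F7821) (tt N1953 (iv F10948)) (tt N1036 F7822) (tt N1954 (iv F10954)) (tt N1934 (iv F10853)) (tt N1035 (iv D1553)) (tt N1956 D2231) (tt N1431 F7823) (tt N1949 (iv F10930)) (tt N1040 F7824))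
theorem Q1433 : ∀ i, i < 1433 → P i := stepQ 1432 Q1432 (allL N1432 (tt N1432 F7825) (tt N1432 F7826) (tt N1956 (iv F10963)) (tt N1432 F7827) (tt N1935 (iv F10858)) (tt N1432 F7828) (tt N1036 (iv D1554)) (tt N1957 D2232) (tt N1950 (iv F10935)) (tt N1041 F7829))
theorem Q1434 : ∀ i, i < 1434 → P i := stepQ 1433 Q1433 (allL N1433 (tt N1038 F7830) (tt N1433 F7831) (tt N1433 F7832) (tt N1958 D2233) (tt N1037 (iv D1555)) (tt N1959 D2234) (tt N1433 F7833) (tt N1433 F7834) (tt N1433 F7835) (tt N1951 (iv F10942)))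
theorem Q1435 : ∀ i, i < 1435 → P i := stepQ 1434 Q1434 (allL N1434 (tt N1958 (iv F10972)) (tt N1039 F7836) (tt N1960 D2235) (tt N1038 (iv D1556)) (tt N1086 F7837) (tt N1961 D2236) (tt N1434 F7838) (tt N1434 F7839) (tt N1962 D2237) (tt N1952 (iv F10947)))
theorem Q1436 : ∀ i, i < 1436 → P i := stepQ 1435 Q1435 (allL N1435 (tt N1959 (iv F10977)) (tt N1040 F7840) (tt N1435 F7841) (tt N1961 (iv F10988)) (tt N1938 (iv F10870)) (tt N1038 (iv D1557)) (tt N1963 D2238) (tt N1435 F7842) (tt N1435 F7843) (tt N1953 (iv F10951)))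
theorem Q1437 : ∀ i, i < 1437 → P i := stepQ 1436 Q1436 (allL N1436 (tt N1436 F7844) (tt N1961 (iv F10987)) (tt N1436 F7845) (tt N1040 F7846) (tt N1964 D2239) (tt N1039 (iv D1558)) (tt N1965 D2240) (tt N1436 F7847) (tt N1966 D2241) (tt N1954 (iv F10956)))
theorem Q1438 : ∀ i, i < 1438 → P i := stepQ 1437 Q1437 (allL N1437 (tt N1437 F7848) (tt N1962 (iv F10990)) (tt N1437 F7849) (tt N1437 F7850) (tt N1089 F7851) (tt N1966 (iv F11010)) (tt N1437 F7852) (tt N1437 F7853) (tt N1039 (iv D1559)) (tt N1967 D2242))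
theorem Q1439 : ∀ i, i < 1439 → P i := stepQ 1438 Q1438 (allL N1438 (tt N1438 F7854) (tt N1963 (iv F10995)) (tt N1041 F7855) (tt N1965 (iv F11005)) (tt N1941 (iv F10882)) (tt N1438 F7856) (tt N1040 (iv D1560)) (tt N1968 D2243) (tt N1438 F7857) (tt N1956 (iv F10965)))
theorem Q1440 : ∀ i, i < 1440 → P i := stepQ 1439 Q1439 (allL N1439 (tt N1439 F7858) (tt N1439 F7859) (tt N1968 (iv F11019)) (tt N1439 F7860) (tt N1942 (iv F10886)) (tt N1439 F7861) (tt N1439 F7862) (tt N1041 (iv D1561)) (tt N1439 F7863) (tt N1957 (iv F10971)))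
theorem Q1441 : ∀ i, i < 1441 → P i := stepQ 1440 Q1440 (allL N1440 (tt N1440 F7864) (tt N1122 F7865) (tt N1440 F7866) (tt N1042 (iv D1562)) (tt N1969 D2244) (tt N1440 F7867) (tt N1044 F7868) (tt N1440 F7869) (tt N1440 F7870) (tt N1970 D2245))
theorem Q1442 : ∀ i, i < 1442 → P i := stepQ 1441 Q1441 (allL N1441 (tt N1441 F7871) (tt N1123 F7872) (tt N1889 (iv F10627)) (tt N1970 (iv F11033)) (tt N1441 F7873) (tt N1441 F7874) (tt N1045 F7875) (tt N1441 F7876) (tt N1971 D2246) (tt N1042 (iv D1563)))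
theorem Q1443 : ∀ i, i < 1443 → P i := stepQ 1442 Q1442 (allL N1442 (tt N1442 F7877) (tt N1124 F7878) (tt N1890 (iv F10635)) (tt N1972 D2247) (tt N1442 F7879) (tt N1442 F7880) (tt N1046 F7881) (tt N1442 F7882) (tt N1043 (iv D1564)) (tt N1971 (iv F11043)))
theorem Q1444 : ∀ i, i < 1444 → P i := stepQ 1443 Q1443 (allL N1443 (tt N1443 F7883) (tt N1126 F7884) (tt N1443 F7885) (tt N1443 F7886) (tt N1044 (iv D1565)) (tt N1443 F7887) (tt N1969 (iv F11027)) (tt N1047 F7888) (tt N1443 F7889) (tt N1973 D2248))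
theorem Q1445 : ∀ i, i < 1445 → P i := stepQ 1444 Q1444 (allL N1444 (tt N1444 F7890) (tt N1127 F7891) (tt N1444 F7892) (tt N1045 F7893) (tt N1973 (iv F11054)) (tt N1051 F7894) (tt N1970 (iv F11035)) (tt N1048 F7895) (tt N1974 D2249) (tt N1044 (iv D1566)))
theorem Q1446 : ∀ i, i < 1446 → P i := stepQ 1445 Q1445 (allL N1445 (tt N1445 F7896) (tt N1128 F7897) (tt N1891 (iv F10642)) (tt N1975 D2250) (tt N1445 F7898) (tt N1052 F7899) (tt N1971 (iv F11041)) (tt N1049 F7900) (tt N1045 (iv D1567)) (tt N1046 F7901))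
theorem Q1447 : ∀ i, i < 1447 → P i := stepQ 1446 Q1446 (allL N1446 (tt N1446 F7902) (tt N1129 F7903) (tt N1976 D2251) (tt N1046 (iv D1568)) (tt N1977 D2252) (tt N1053 F7904) (tt N1972 (iv F11047)) (tt N1050 F7905) (tt N1446 F7906) (tt N1975 (iv F11067)))
theorem Q1448 : ∀ i, i < 1448 → P i := stepQ 1447 Q1447 (allL N1447 (tt N1447 F7907) (tt N1132 F7908) (tt N1447 F7909) (tt N1447 F7910) (tt N1048 F7911) (tt N1447 F7912) (tt N1447 F7913) (tt N1973 (iv F11056)) (tt N1978 D2253) (tt N1047 (iv D1569)))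
theorem Q1449 : ∀ i, i < 1449 → P i := stepQ 1448 Q1448 (allL N1448 (tt N1448 F7914) (tt N1133 F7915) (tt N1448 F7916) (tt N1979 D2254) (tt N1978 (iv F11080)) (tt N1054 F7917) (tt N1448 F7918) (tt N1974 (iv F11061)) (tt N1048 (iv D1570)) (tt N1448 F7919))
theorem Q1450 : ∀ i, i < 1450 → P i := stepQ 1449 Q1449 (allL N1449 (tt N1449 F7920) (tt N1134 F7921) (tt N1980 D2255) (tt N1049 (iv D1571)) (tt N1981 D2256) (tt N1055 F7922) (tt N1449 F7923) (tt N1975 (iv F11066)) (tt N1979 (iv F11088)) (tt N1050 F7924))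
theorem Q1451 : ∀ i, i < 1451 → P i := stepQ 1450 Q1450 (allL N1450 (tt N1450 F7925) (tt N1982 D2257) (tt N1050 (iv D1572)) (tt N1894 (iv F10658)) (tt N1983 D2258) (tt N1056 F7926) (tt N1450 F7927) (tt N1976 (iv F11070)) (tt N1450 F7928) (tt N1980 (iv F11093)))
theorem Q1452 : ∀ i, i < 1452 → P i := stepQ 1451 Q1451 (allL N1451 (tt N1451 F7929) (tt N1136 F7930) (tt N1983 (iv F11104)) (tt N1451 F7931) (tt N1050 (iv D1573)) (tt N1984 D2259) (tt N1451 F7932) (tt N1977 (iv F11075)) (tt N1451 F7933) (tt N1981 (iv F11098)))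
theorem Q1453 : ∀ i, i < 1453 → P i := stepQ 1452 Q1452 (allL N1452 (tt N1452 F7934) (tt N1138 F7935) (tt N1452 F7936) (tt N1985 D2260) (tt N1452 F7937) (tt N1974 (iv F11060)) (tt N1452 F7938) (tt N1054 F7939) (tt N1051 (iv D1574)) (tt N1452 F7940))
theorem Q1454 : ∀ i, i < 1454 → P i := stepQ 1453 Q1453 (allL N1453 (tt N1453 F7941) (tt N1139 F7942) (tt N1986 D2261) (tt N1052 (iv D1575)) (tt N1987 D2262) (tt N1975 (iv F11065)) (tt N1453 F7943) (tt N1055 F7944) (tt N1985 (iv F11116)) (tt N1053 F7945))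
theorem Q1455 : ∀ i, i < 1455 → P i := stepQ 1454 Q1454 (allL N1454 (tt N1454 F7946) (tt N1988 D2263) (tt N1053 (iv D1576)) (tt N1897 (iv F10672)) (tt N1989 D2264) (tt N1976 (iv F11069)) (tt N1454 F7947) (tt N1056 F7948) (tt N1454 F7949) (tt N1986 (iv F11121)))
theorem Q1456 : ∀ i, i < 1456 → P i := stepQ 1455 Q1455 (allL N1455 (tt N1455 F7950) (tt N1141 F7951) (tt N1989 (iv F11133)) (tt N1066 F7952) (tt N1053 (iv D1577)) (tt N1990 D2265) (tt N1455 F7953) (tt N1057 F7954) (tt N1455 F7955) (tt N1987 (iv F11127)))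
theorem Q1457 : ∀ i, i < 1457 → P i := stepQ 1456 Q1456 (allL N1456 (tt N1456 F7956) (tt N1142 F7957) (tt N1991 D2266) (tt N1054 (iv D1578)) (tt N1992 D2267) (tt N1979 (iv F11086)) (tt N1058 F7958) (tt N1985 (iv F11115)) (tt N1055 F7959) (tt N1456 F7960))
theorem Q1458 : ∀ i, i < 1458 → P i := stepQ 1457 Q1457 (allL N1457 (tt N1457 F7961) (tt N1993 D2268) (tt N1055 (iv D1579)) (tt N1899 (iv F10681)) (tt N1994 D2269) (tt N1980 (iv F11091)) (tt N1059 F7962) (tt N1986 (iv F11120)) (tt N1991 (iv F11145)) (tt N1056 F7963))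
theorem Q1459 : ∀ i, i < 1459 → P i := stepQ 1458 Q1458 (allL N1458 (tt N1458 F7964) (tt N1144 F7965) (tt N1994 (iv F11157)) (tt N1068 F7966) (tt N1055 (iv D1580)) (tt N1995 D2270) (tt N1060 F7967) (tt N1987 (iv F11126)) (tt N1992 (iv F11151)) (tt N1057 F7968))
theorem Q1460 : ∀ i, i < 1460 → P i := stepQ 1459 Q1459 (allL N1459 (tt N1996 D2271) (tt N1056 (iv D1581)) (tt N1145 F7969) (tt N1901 (iv F10692)) (tt N1997 D2272) (tt N1982 (iv F11100)) (tt N1061 F7970) (tt N1988 (iv F11130)) (tt N1459 F7971) (tt N1993 (iv F11155)))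
theorem Q1461 : ∀ i, i < 1461 → P i := stepQ 1460 Q1460 (allL N1460 (tt N1460 F7972) (tt N1997 (iv F11168)) (tt N1057 F7973) (tt N1998 D2273) (tt N1056 (iv D1582)) (tt N1999 D2274) (tt N1062 F7974) (tt N1989 (iv F11135)) (tt N1460 F7975) (tt N1994 (iv F11159)))
theorem Q1462 : ∀ i, i < 1462 → P i := stepQ 1461 Q1461 (allL N1461 (tt N1461 F7976) (tt N1147 F7977) (tt N1999 (iv F11176)) (tt N1071 F7978) (tt N1984 (iv F11110)) (tt N1057 (iv D1583)) (tt N2000 D2275) (tt N1990 (iv F11140)) (tt N1461 F7979) (tt N1995 (iv F11163)))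
theorem Q1463 : ∀ i, i < 1463 → P i := stepQ 1462 Q1462 (allL N1462 (tt N1462 F7980) (tt N1235 (iv F201959)) (tt N1058 (iv D1584)) (tt N1462 F7981) (tt N2001 D2277) (tt N1462 F7982) (tt N1991 (iv F11144)) (tt N1462 F7983) (tt N1059 F7984) (tt N1462 F7985))
theorem Q1464 : ∀ i, i < 1464 → P i := stepQ 1463 Q1463 (allL N1463 (tt N1463 F7986) (tt N1148 F7987) (tt N2001 (iv F11190)) (tt N1463 F7988) (tt N1058 (iv D1585)) (tt N2002 D2278) (tt N1992 (iv F11150)) (tt N1463 F7989) (tt N1060 F7990) (tt N1463 F7991))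
theorem Q1465 : ∀ i, i < 1465 → P i := stepQ 1464 Q1464 (allL N1464 (tt N1236 (iv F201955)) (tt N1059 (iv D1586)) (tt N1149 F7992) (tt N1904 (iv F10701)) (tt N2003 D2280) (tt N1464 F7993) (tt N1993 (iv F11154)) (tt N1464 F7994) (tt N1235 (iv F201960)) (tt N1061 F7995))
theorem Q1466 : ∀ i, i < 1466 → P i := stepQ 1465 Q1465 (allL N1465 (tt N1465 F7996) (tt N2003 (iv F11206)) (tt N1060 F7997) (tt N2004 D2281) (tt N1059 (iv D1587)) (tt N2005 D2282) (tt N1994 (iv F11158)) (tt N1465 F7998) (tt N2001 (iv F11192)) (tt N1062 F7999))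
theorem Q1467 : ∀ i, i < 1467 → P i := stepQ 1466 Q1466 (allL N1466 (tt N1466 F8000) (tt N1151 F8001) (tt N2005 (iv F11215)) (tt N1074 F8002) (tt N1466 F8003) (tt N1060 (iv D1588)) (tt N2006 D2283) (tt N1466 F8004) (tt N2002 (iv F11199)) (tt N1063 F8005))
theorem Q1468 : ∀ i, i < 1468 → P i := stepQ 1467 Q1467 (allL N1467 (tt N1061 (iv D1589)) (tt N1467 F8006) (tt N1152 F8007) (tt N1907 (iv F10720)) (tt N2007 D2284) (tt N1467 F8008) (tt N1996 (iv F11166)) (tt N1467 F8009) (tt N1467 F8010) (tt N1236 (iv F201956)))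
theorem Q1469 : ∀ i, i < 1469 → P i := stepQ 1468 Q1468 (allL N1468 (tt N2007 (iv F11224)) (tt N1062 F8011) (tt N1153 F8012) (tt N2008 D2285) (tt N1061 (iv D1590)) (tt N2009 D2286) (tt N1997 (iv F11170)) (tt N1468 F8013) (tt N1468 F8014) (tt N2003 (iv F11209)))
theorem Q1470 : ∀ i, i < 1470 → P i := stepQ 1469 Q1469 (allL N1469 (tt N1469 F8015) (tt N2008 (iv F11229)) (tt N1077 F8016) (tt N1062 (iv D1591)) (tt N1909 (iv F10728)) (tt N2010 D2287) (tt N1998 (iv F11174)) (tt N1469 F8017) (tt N2011 D2288) (tt N2004 (iv F11213)))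
theorem Q1471 : ∀ i, i < 1471 → P i := stepQ 1470 Q1470 (allL N1470 (tt N1470 F8018) (tt N2009 (iv F11231)) (tt N1063 F8019) (tt N2010 (iv F11238)) (tt N1470 F8020) (tt N1062 (iv D1592)) (tt N2012 D2289) (tt N1470 F8021) (tt N1470 F8022) (tt N2005 (iv F11218)))
theorem Q1472 : ∀ i, i < 1472 → P i := stepQ 1471 Q1471 (allL N1471 (tt N1471 F8023) (tt N1156 F8024) (tt N2012 (iv F11245)) (tt N1079 F8025) (tt N1471 F8026) (tt N2000 (iv F11181)) (tt N1063 (iv D1593)) (tt N2013 D2290) (tt N1471 F8027) (tt N2006 (iv F11223)))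
theorem Q1473 : ∀ i, i < 1473 → P i := stepQ 1472 Q1472 (allL N1472 (tt N1472 F8028) (tt N2014 D2291) (tt N1064 (iv D1594)) (tt N1913 (iv F10746)) (tt N2015 D2292) (tt N1472 F8029) (tt N1472 F8030) (tt N1067 F8031) (tt N1472 F8032) (tt N1065 F8033))
theorem Q1474 : ∀ i, i < 1474 → P i := stepQ 1473 Q1473 (allL N1473 (tt N1473 F8034) (tt N1158 F8035) (tt N2015 (iv F11261)) (tt N1987 (iv F11124)) (tt N1064 (iv D1595)) (tt N2016 D2293) (tt N1473 F8036) (tt N1068 F8037) (tt N1473 F8038) (tt N1066 F8039))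
theorem Q1475 : ∀ i, i < 1475 → P i := stepQ 1474 Q1474 (allL N1474 (tt N2017 D2294) (tt N1065 (iv D1596)) (tt N1159 F8040) (tt N1915 (iv F10757)) (tt N2018 D2295) (tt N1474 F8041) (tt N1474 F8042) (tt N1069 F8043) (tt N1092 F8044) (tt N2014 (iv F11259)))
theorem Q1476 : ∀ i, i < 1476 → P i := stepQ 1475 Q1475 (allL N1475 (tt N1475 F8045) (tt N2018 (iv F11278)) (tt N1066 F8046) (tt N2019 D2296) (tt N1065 (iv D1597)) (tt N2020 D2297) (tt N1475 F8047) (tt N1070 F8048) (tt N1093 F8049) (tt N2015 (iv F11265)))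
theorem Q1477 : ∀ i, i < 1477 → P i := stepQ 1476 Q1476 (allL N1476 (tt N1476 F8050) (tt N1161 F8051) (tt N2020 (iv F11287)) (tt N1990 (iv F11139)) (tt N1476 F8052) (tt N1066 (iv D1598)) (tt N2021 D2298) (tt N1071 F8053) (tt N1094 F8054) (tt N2016 (iv F11271)))
theorem Q1478 : ∀ i, i < 1478 → P i := stepQ 1477 Q1477 (allL N1477 (tt N2022 D2299) (tt N1067 (iv D1599)) (tt N1162 F8055) (tt N1920 (iv F10785)) (tt N2023 D2300) (tt N1477 F8056) (tt N1072 F8057) (tt N2014 (iv F11257)) (tt N1477 F8058) (tt N1069 F8059))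
theorem Q1479 : ∀ i, i < 1479 → P i := stepQ 1478 Q1478 (allL N1478 (tt N1478 F8060) (tt N2023 (iv F11302)) (tt N1068 F8061) (tt N2024 D2301) (tt N1067 (iv D1600)) (tt N2025 D2302) (tt N1073 F8062) (tt N2015 (iv F11263)) (tt N1478 F8063) (tt N1070 F8064))
theorem Q1480 : ∀ i, i < 1480 → P i := stepQ 1479 Q1479 (allL N1479 (tt N1479 F8065) (tt N1164 F8066) (tt N2025 (iv F11311)) (tt N1995 (iv F11162)) (tt N1479 F8067) (tt N1068 (iv D1601)) (tt N2026 D2303) (tt N2016 (iv F11269)) (tt N1479 F8068) (tt N1071 F8069))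
theorem Q1481 : ∀ i, i < 1481 → P i := stepQ 1480 Q1480 (allL N1480 (tt N1069 (iv D1602)) (tt N1480 F8070) (tt N1165 F8071) (tt N1923 (iv F10799)) (tt N2027 D2304) (tt N1480 F8072) (tt N1075 F8073) (tt N2017 (iv F11276)) (tt N1095 F8074) (tt N2022 (iv F11301)))
theorem Q1482 : ∀ i, i < 1482 → P i := stepQ 1481 Q1481 (allL N1481 (tt N2027 (iv F11321)) (tt N1070 F8075) (tt N1166 F8076) (tt N2028 D2305) (tt N1069 (iv D1603)) (tt N2029 D2306) (tt N1076 F8077) (tt N2018 (iv F11281)) (tt N1096 F8078) (tt N2023 (iv F11306)))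
theorem Q1483 : ∀ i, i < 1483 → P i := stepQ 1482 Q1482 (allL N1482 (tt N1482 F8079) (tt N2028 (iv F11326)) (tt N1998 (iv F11173)) (tt N1070 (iv D1604)) (tt N1925 (iv F10808)) (tt N2030 D2307) (tt N1077 F8080) (tt N2019 (iv F11285)) (tt N2031 D2308) (tt N2024 (iv F11309)))
theorem Q1484 : ∀ i, i < 1484 → P i := stepQ 1483 Q1483 (allL N1483 (tt N1483 F8081) (tt N2029 (iv F11328)) (tt N1071 F8082) (tt N2030 (iv F11333)) (tt N1483 F8083) (tt N1070 (iv D1605)) (tt N2032 D2309) (tt N2020 (iv F11289)) (tt N1098 F8084) (tt N2025 (iv F11314)))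
theorem Q1485 : ∀ i, i < 1485 → P i := stepQ 1484 Q1484 (allL N1484 (tt N1484 F8085) (tt N1169 F8086) (tt N2032 (iv F11338)) (tt N2000 (iv F11180)) (tt N1484 F8087) (tt N1079 F8088) (tt N1071 (iv D1606)) (tt N2033 D2310) (tt N1099 F8089) (tt N2026 (iv F11320)))
theorem Q1486 : ∀ i, i < 1486 → P i := stepQ 1485 Q1485 (allL N1485 (tt N1072 (iv D1607)) (tt N1485 F8090) (tt N1170 F8091) (tt N1931 (iv F10839)) (tt N2034 D2311) (tt N1080 F8092) (tt N2022 (iv F11299)) (tt N1485 F8093) (tt N1485 F8094) (tt N1075 F8095))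
theorem Q1487 : ∀ i, i < 1487 → P i := stepQ 1486 Q1486 (allL N1486 (tt N2034 (iv F11347)) (tt N1073 F8096) (tt N1171 F8097) (tt N2035 D2312) (tt N1072 (iv D1608)) (tt N2036 D2313) (tt N2023 (iv F11304)) (tt N1486 F8098) (tt N1486 F8099) (tt N1076 F8100))
theorem Q1488 : ∀ i, i < 1488 → P i := stepQ 1487 Q1487 (allL N1487 (tt N1487 F8101) (tt N2035 (iv F11353)) (tt N2004 (iv F11211)) (tt N1073 (iv D1609)) (tt N1933 (iv F10848)) (tt N2037 D2314) (tt N2024 (iv F11308)) (tt N1487 F8102) (tt N2038 D2315) (tt N1077 F8103))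
theorem Q1489 : ∀ i, i < 1489 → P i := stepQ 1488 Q1488 (allL N1488 (tt N1488 F8104) (tt N2036 (iv F11356)) (tt N1074 F8105) (tt N2037 (iv F11363)) (tt N1083 F8106) (tt N1073 (iv D1610)) (tt N2039 D2316) (tt N1488 F8107) (tt N1488 F8108) (tt N1078 F8109))
theorem Q1490 : ∀ i, i < 1490 → P i := stepQ 1489 Q1489 (allL N1489 (tt N1489 F8110) (tt N1174 F8111) (tt N2039 (iv F11370)) (tt N2006 (iv F11221)) (tt N1084 F8112) (tt N2026 (iv F11318)) (tt N1074 (iv D1611)) (tt N2040 D2317) (tt N1489 F8113) (tt N1079 F8114))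
theorem Q1491 : ∀ i, i < 1491 → P i := stepQ 1490 Q1490 (allL N1490 (tt N1076 F8115) (tt N1490 F8116) (tt N1175 F8117) (tt N2041 D2318) (tt N1075 (iv D1612)) (tt N2042 D2319) (tt N2027 (iv F11324)) (tt N1490 F8118) (tt N1100 F8119) (tt N2034 (iv F11352)))
theorem Q1492 : ∀ i, i < 1492 → P i := stepQ 1491 Q1491 (allL N1491 (tt N2041 (iv F11380)) (tt N1077 F8120) (tt N2043 D2320) (tt N1076 (iv D1613)) (tt N1937 (iv F10866)) (tt N2044 D2321) (tt N2028 (iv F11327)) (tt N1491 F8121) (tt N2045 D2322) (tt N2035 (iv F11355)))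
theorem Q1493 : ∀ i, i < 1493 → P i := stepQ 1492 Q1492 (allL N1492 (tt N2042 (iv F11383)) (tt N1078 F8122) (tt N1177 F8123) (tt N2044 (iv F11392)) (tt N1087 F8124) (tt N1076 (iv D1614)) (tt N2046 D2323) (tt N1492 F8125) (tt N1102 F8126) (tt N2036 (iv F11361)))
theorem Q1494 : ∀ i, i < 1494 → P i := stepQ 1493 Q1493 (allL N1493 (tt N1493 F8127) (tt N2044 (iv F11391)) (tt N2010 (iv F11237)) (tt N1078 F8128) (tt N2047 D2324) (tt N1077 (iv D1615)) (tt N2048 D2325) (tt N1493 F8129) (tt N2049 D2326) (tt N2037 (iv F11365)))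
theorem Q1495 : ∀ i, i < 1495 → P i := stepQ 1494 Q1494 (allL N1494 (tt N1494 F8130) (tt N2045 (iv F11394)) (tt N2011 (iv F11241)) (tt N1104 F8131) (tt N1940 (iv F10878)) (tt N2049 (iv F11408)) (tt N2031 (iv F11336)) (tt N1494 F8132) (tt N1077 (iv D1616)) (tt N2050 D2327))
theorem Q1496 : ∀ i, i < 1496 → P i := stepQ 1495 Q1495 (allL N1495 (tt N1495 F8133) (tt N2046 (iv F11397)) (tt N1079 F8134) (tt N2048 (iv F11405)) (tt N1090 F8135) (tt N2032 (iv F11340)) (tt N1078 (iv D1617)) (tt N2051 D2328) (tt N1105 F8136) (tt N2039 (iv F11373)))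
theorem Q1497 : ∀ i, i < 1497 → P i := stepQ 1496 Q1496 (allL N1496 (tt N1496 F8137) (tt N1181 F8138) (tt N2051 (iv F11414)) (tt N2013 (iv F11250)) (tt N1091 F8139) (tt N2033 (iv F11345)) (tt N1496 F8140) (tt N1079 (iv D1618)) (tt N1106 F8141) (tt N2040 (iv F11379)))
theorem Q1498 : ∀ i, i < 1498 → P i := stepQ 1497 Q1497 (allL N1497 (tt N1081 F8142) (tt N1497 F8143) (tt N1182 F8144) (tt N2052 D2329) (tt N1080 (iv D1619)) (tt N2053 D2330) (tt N1497 F8145) (tt N1497 F8146) (tt N1497 F8147) (tt N1085 F8148))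
theorem Q1499 : ∀ i, i < 1499 → P i := stepQ 1498 Q1498 (allL N1498 (tt N2052 (iv F11418)) (tt N1082 F8149) (tt N2054 D2331) (tt N1081 (iv D1620)) (tt N1952 (iv F10944)) (tt N2055 D2332) (tt N1498 F8150) (tt N1498 F8151) (tt N2056 D2333) (tt N1086 F8152))
theorem Q1500 : ∀ i, i < 1500 → P i := stepQ 1499 Q1499 (allL N1499 (tt N2053 (iv F11423)) (tt N1083 F8153) (tt N1184 F8154) (tt N2055 (iv F11435)) (tt N2036 (iv F11358)) (tt N1081 (iv D1621)) (tt N2057 D2334) (tt N1499 F8155) (tt N1499 F8156) (tt N1087 F8157))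
theorem Q1501 : ∀ i, i < 1501 → P i := stepQ 1500 Q1500 (allL N1500 (tt N1500 F8158) (tt N2055 (iv F11434)) (tt N1500 F8159) (tt N1083 F8160) (tt N2058 D2335) (tt N1082 (iv D1622)) (tt N2059 D2336) (tt N1500 F8161) (tt N2060 D2337) (tt N1088 F8162))
theorem Q1502 : ∀ i, i < 1502 → P i := stepQ 1501 Q1501 (allL N1501 (tt N1501 F8163) (tt N2056 (iv F11438)) (tt N1501 F8164) (tt N1501 F8165) (tt N1955 (iv F10959)) (tt N2060 (iv F11459)) (tt N1501 F8166) (tt N1501 F8167) (tt N1082 (iv D1623)) (tt N2061 D2338))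
theorem Q1503 : ∀ i, i < 1503 → P i := stepQ 1502 Q1502 (allL N1502 (tt N1502 F8168) (tt N2057 (iv F11442)) (tt N1084 F8169) (tt N2059 (iv F11453)) (tt N2039 (iv F11371)) (tt N1502 F8170) (tt N1083 (iv D1624)) (tt N2062 D2339) (tt N1502 F8171) (tt N1090 F8172))
theorem Q1504 : ∀ i, i < 1504 → P i := stepQ 1503 Q1503 (allL N1503 (tt N1503 F8173) (tt N1188 F8174) (tt N2062 (iv F11468)) (tt N1503 F8175) (tt N2040 (iv F11376)) (tt N1503 F8176) (tt N1503 F8177) (tt N1084 (iv D1625)) (tt N1503 F8178) (tt N1091 F8179))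
theorem Q1505 : ∀ i, i < 1505 → P i := stepQ 1504 Q1504 (allL N1504 (tt N1086 F8180) (tt N1504 F8181) (tt N2063 D2340) (tt N1085 (iv D1626)) (tt N1958 (iv F10974)) (tt N2064 D2341) (tt N1504 F8182) (tt N1504 F8183) (tt N2065 D2342) (tt N2052 (iv F11422)))
theorem Q1506 : ∀ i, i < 1506 → P i := stepQ 1505 Q1505 (allL N1505 (tt N1087 F8184) (tt N1505 F8185) (tt N1190 F8186) (tt N2064 (iv F11479)) (tt N2042 (iv F11386)) (tt N1085 (iv D1627)) (tt N2066 D2343) (tt N1505 F8187) (tt N1108 F8188) (tt N2053 (iv F11428)))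
theorem Q1507 : ∀ i, i < 1507 → P i := stepQ 1506 Q1506 (allL N1506 (tt N2063 (iv F11473)) (tt N1506 F8189) (tt N1086 (iv D1628)) (tt N1191 F8190) (tt N1960 (iv F10984)) (tt N2067 D2344) (tt N1506 F8191) (tt N1506 F8192) (tt N2068 D2345) (tt N2054 (iv F11433)))
theorem Q1508 : ∀ i, i < 1508 → P i := stepQ 1507 Q1507 (allL N1507 (tt N2064 (iv F11477)) (tt N1088 F8193) (tt N2067 (iv F11492)) (tt N1087 F8194) (tt N2069 D2346) (tt N1086 (iv D1629)) (tt N2070 D2347) (tt N1507 F8195) (tt N2071 D2348) (tt N2055 (iv F11437)))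
theorem Q1509 : ∀ i, i < 1509 → P i := stepQ 1508 Q1508 (allL N1508 (tt N2065 (iv F11481)) (tt N1089 F8196) (tt N2068 (iv F11496)) (tt N1110 F8197) (tt N1962 (iv F10992)) (tt N2071 (iv F11507)) (tt N1508 F8198) (tt N1508 F8199) (tt N1086 (iv D1630)) (tt N2072 D2349))
theorem Q1510 : ∀ i, i < 1510 → P i := stepQ 1509 Q1509 (allL N1509 (tt N2066 (iv F11486)) (tt N1090 F8200) (tt N1193 F8201) (tt N2070 (iv F11503)) (tt N2046 (iv F11399)) (tt N1509 F8202) (tt N1087 (iv D1631)) (tt N2073 D2350) (tt N1111 F8203) (tt N2057 (iv F11446)))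
theorem Q1511 : ∀ i, i < 1511 → P i := stepQ 1510 Q1510 (allL N1510 (tt N1510 F8204) (tt N2069 (iv F11500)) (tt N1510 F8205) (tt N2047 (iv F11402)) (tt N1088 (iv D1632)) (tt N1964 (iv F11001)) (tt N2074 D2351) (tt N1510 F8206) (tt N2075 D2352) (tt N2058 (iv F11450)))
theorem Q1512 : ∀ i, i < 1512 → P i := stepQ 1511 Q1511 (allL N1511 (tt N1511 F8207) (tt N2070 (iv F11502)) (tt N1511 F8208) (tt N1090 F8209) (tt N2074 (iv F11520)) (tt N1511 F8210) (tt N1088 (iv D1633)) (tt N2076 D2353) (tt N2077 D2354) (tt N2059 (iv F11455)))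
theorem Q1513 : ∀ i, i < 1513 → P i := stepQ 1512 Q1512 (allL N1512 (tt N1512 F8211) (tt N2071 (iv F11505)) (tt N1512 F8212) (tt N1114 F8213) (tt N2075 (iv F11523)) (tt N1089 F8214) (tt N2077 (iv F11534)) (tt N1512 F8215) (tt N1088 (iv D1634)) (tt N2078 D2355))
theorem Q1514 : ∀ i, i < 1514 → P i := stepQ 1513 Q1513 (allL N1513 (tt N1513 F8216) (tt N2072 (iv F11509)) (tt N1513 F8217) (tt N1115 F8218) (tt N1967 (iv F11015)) (tt N2078 (iv F11538)) (tt N1513 F8219) (tt N1513 F8220) (tt N2061 (iv F11466)) (tt N1089 (iv D1635)))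
theorem Q1515 : ∀ i, i < 1515 → P i := stepQ 1514 Q1514 (allL N1514 (tt N1514 F8221) (tt N2073 (iv F11513)) (tt N1091 F8222) (tt N2076 (iv F11527)) (tt N2051 (iv F11415)) (tt N1514 F8223) (tt N1514 F8224) (tt N1090 (iv D1636)) (tt N1116 F8225) (tt N2062 (iv F11472)))
theorem Q1516 : ∀ i, i < 1516 → P i := stepQ 1515 Q1515 (allL N1515 (tt N1092 (iv D1637)) (tt N1515 F8226) (tt N1197 F8227) (tt N1515 F8228) (tt N2079 D2356) (tt N1515 F8229) (tt N1515 F8230) (tt N1095 F8231) (tt N2017 (iv F11277)) (tt N1515 F8232))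
theorem Q1517 : ∀ i, i < 1517 → P i := stepQ 1516 Q1516 (allL N1516 (tt N2079 (iv F11540)) (tt N1093 F8233) (tt N1198 F8234) (tt N2080 D2357) (tt N1092 (iv D1638)) (tt N2081 D2358) (tt N1516 F8235) (tt N1096 F8236) (tt N2018 (iv F11282)) (tt N1516 F8237))
theorem Q1518 : ∀ i, i < 1518 → P i := stepQ 1517 Q1517 (allL N1517 (tt N1517 F8238) (tt N2080 (iv F11546)) (tt N1517 F8239) (tt N1093 (iv D1639)) (tt N1517 F8240) (tt N2082 D2359) (tt N1517 F8241) (tt N1097 F8242) (tt N2083 D2360) (tt N1517 F8243))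
theorem Q1519 : ∀ i, i < 1519 → P i := stepQ 1518 Q1518 (allL N1518 (tt N1518 F8244) (tt N2081 (iv F11551)) (tt N1094 F8245) (tt N2082 (iv F11558)) (tt N1518 F8246) (tt N1093 (iv D1640)) (tt N2084 D2361) (tt N1098 F8247) (tt N2020 (iv F11290)) (tt N1518 F8248))
theorem Q1520 : ∀ i, i < 1520 → P i := stepQ 1519 Q1519 (allL N1519 (tt N1519 F8249) (tt N1201 F8250) (tt N2084 (iv F11567)) (tt N1519 F8251) (tt N1519 F8252) (tt N1519 F8253) (tt N1094 (iv D1641)) (tt N2085 D2362) (tt N2021 (iv F11295)) (tt N1519 F8254))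
theorem Q1521 : ∀ i, i < 1521 → P i := stepQ 1520 Q1520 (allL N1520 (tt N1096 F8255) (tt N1520 F8256) (tt N1202 F8257) (tt N2086 D2363) (tt N1095 (iv D1642)) (tt N2087 D2364) (tt N1100 F8258) (tt N2079 (iv F11544)) (tt N2027 (iv F11325)) (tt N1520 F8259))
theorem Q1522 : ∀ i, i < 1522 → P i := stepQ 1521 Q1521 (allL N1521 (tt N2086 (iv F11578)) (tt N1097 F8260) (tt N2088 D2365) (tt N1096 (iv D1643)) (tt N1521 F8261) (tt N2089 D2366) (tt N1101 F8262) (tt N2080 (iv F11549)) (tt N2090 D2367) (tt N1521 F8263))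
theorem Q1523 : ∀ i, i < 1523 → P i := stepQ 1522 Q1522 (allL N1522 (tt N2087 (iv F11583)) (tt N1098 F8264) (tt N1204 F8265) (tt N2089 (iv F11594)) (tt N1522 F8266) (tt N1096 (iv D1644)) (tt N2091 D2368) (tt N2081 (iv F11554)) (tt N2029 (iv F11331)) (tt N1522 F8267))
theorem Q1524 : ∀ i, i < 1524 → P i := stepQ 1523 Q1523 (allL N1523 (tt N1523 F8268) (tt N2089 (iv F11593)) (tt N1523 F8269) (tt N1098 F8270) (tt N2092 D2369) (tt N1097 (iv D1645)) (tt N2093 D2370) (tt N2082 (iv F11559)) (tt N2094 D2371) (tt N1523 F8271))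
theorem Q1525 : ∀ i, i < 1525 → P i := stepQ 1524 Q1524 (allL N1524 (tt N1524 F8272) (tt N2090 (iv F11596)) (tt N1524 F8273) (tt N2031 (iv F11335)) (tt N1524 F8274) (tt N2094 (iv F11616)) (tt N1104 F8275) (tt N2083 (iv F11565)) (tt N1097 (iv D1646)) (tt N2095 D2372))
theorem Q1526 : ∀ i, i < 1526 → P i := stepQ 1525 Q1525 (allL N1525 (tt N1525 F8276) (tt N2091 (iv F11599)) (tt N1099 F8277) (tt N2093 (iv F11611)) (tt N1525 F8278) (tt N1105 F8279) (tt N1098 (iv D1647)) (tt N2096 D2373) (tt N2032 (iv F11341)) (tt N1525 F8280))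
theorem Q1527 : ∀ i, i < 1527 → P i := stepQ 1526 Q1526 (allL N1526 (tt N1526 F8281) (tt N1208 F8282) (tt N2096 (iv F11623)) (tt N1526 F8283) (tt N1526 F8284) (tt N1106 F8285) (tt N2085 (iv F11576)) (tt N1099 (iv D1648)) (tt N2033 (iv F11346)) (tt N1526 F8286))
theorem Q1528 : ∀ i, i < 1528 → P i := stepQ 1527 Q1527 (allL N1527 (tt N1101 F8287) (tt N1527 F8288) (tt N2097 D2374) (tt N1100 (iv D1649)) (tt N1527 F8289) (tt N2098 D2375) (tt N2086 (iv F11581)) (tt N1527 F8290) (tt N2099 D2376) (tt N1527 F8291))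
theorem Q1529 : ∀ i, i < 1529 → P i := stepQ 1528 Q1528 (allL N1528 (tt N1102 F8292) (tt N1528 F8293) (tt N1210 F8294) (tt N2098 (iv F11634)) (tt N1108 F8295) (tt N1100 (iv D1650)) (tt N2100 D2377) (tt N1528 F8296) (tt N2042 (iv F11388)) (tt N1528 F8297))
theorem Q1530 : ∀ i, i < 1530 → P i := stepQ 1529 Q1529 (allL N1529 (tt N2097 (iv F11627)) (tt N1529 F8298) (tt N1101 (iv D1651)) (tt N1211 F8299) (tt N1529 F8300) (tt N2101 D2378) (tt N2088 (iv F11591)) (tt N1529 F8301) (tt N2102 D2379) (tt N1529 F8302))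
theorem Q1531 : ∀ i, i < 1531 → P i := stepQ 1530 Q1530 (allL N1530 (tt N2098 (iv F11632)) (tt N1103 F8303) (tt N2101 (iv F11647)) (tt N1102 F8304) (tt N2103 D2380) (tt N1101 (iv D1652)) (tt N2104 D2381) (tt N1530 F8305) (tt N2105 D2382) (tt N1530 F8306))
theorem Q1532 : ∀ i, i < 1532 → P i := stepQ 1531 Q1531 (allL N1531 (tt N2099 (iv F11637)) (tt N1104 F8307) (tt N2102 (iv F11652)) (tt N2045 (iv F11395)) (tt N1531 F8308) (tt N2105 (iv F11664)) (tt N2090 (iv F11598)) (tt N1531 F8309) (tt N1101 (iv D1653)) (tt N2106 D2383))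
theorem Q1533 : ∀ i, i < 1533 → P i := stepQ 1532 Q1532 (allL N1532 (tt N2100 (iv F11641)) (tt N1105 F8310) (tt N1214 F8311) (tt N2104 (iv F11661)) (tt N1111 F8312) (tt N2091 (iv F11602)) (tt N1102 (iv D1654)) (tt N2107 D2384) (tt N2046 (iv F11400)) (tt N1532 F8313))
theorem Q1534 : ∀ i, i < 1534 → P i := stepQ 1533 Q1533 (allL N1533 (tt N1533 F8314) (tt N2103 (iv F11655)) (tt N1533 F8315) (tt N1112 F8316) (tt N1103 (iv D1655)) (tt N1533 F8317) (tt N2108 D2385) (tt N1533 F8318) (tt N2109 D2386) (tt N1533 F8319))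
theorem Q1535 : ∀ i, i < 1535 → P i := stepQ 1534 Q1534 (allL N1534 (tt N1534 F8320) (tt N2104 (iv F11660)) (tt N1534 F8321) (tt N1105 F8322) (tt N2108 (iv F11678)) (tt N2093 (iv F11612)) (tt N1103 (iv D1656)) (tt N2110 D2387) (tt N2111 D2388) (tt N1534 F8323))
theorem Q1536 : ∀ i, i < 1536 → P i := stepQ 1535 Q1535 (allL N1535 (tt N1535 F8324) (tt N2105 (iv F11663)) (tt N1535 F8325) (tt N2049 (iv F11407)) (tt N2109 (iv F11682)) (tt N1104 F8326) (tt N2111 (iv F11692)) (tt N1535 F8327) (tt N1103 (iv D1657)) (tt N2112 D2389))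
theorem Q1537 : ∀ i, i < 1537 → P i := stepQ 1536 Q1536 (allL N1536 (tt N1536 F8328) (tt N2106 (iv F11666)) (tt N1536 F8329) (tt N2050 (iv F11411)) (tt N1536 F8330) (tt N2112 (iv F11695)) (tt N2095 (iv F11620)) (tt N1536 F8331) (tt N1536 F8332) (tt N1104 (iv D1658)))
theorem Q1538 : ∀ i, i < 1538 → P i := stepQ 1537 Q1537 (allL N1537 (tt N1537 F8333) (tt N2107 (iv F11670)) (tt N1106 F8334) (tt N2110 (iv F11687)) (tt N1116 F8335) (tt N2096 (iv F11625)) (tt N1537 F8336) (tt N1105 (iv D1659)) (tt N2051 (iv F11417)) (tt N1537 F8337))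
theorem Q1539 : ∀ i, i < 1539 → P i := stepQ 1538 Q1538 (allL N1538 (tt N1109 F8338) (tt N1538 F8339) (tt N1538 F8340) (tt N1108 F8341) (tt N2113 D2390) (tt N1107 (iv D1660)) (tt N2114 D2391) (tt N1538 F8342) (tt N2115 D2392) (tt N1538 F8343))
theorem Q1540 : ∀ i, i < 1540 → P i := stepQ 1539 Q1539 (allL N1539 (tt N1110 F8344) (tt N1539 F8345) (tt N1539 F8346) (tt N2065 (iv F11483)) (tt N1539 F8347) (tt N2115 (iv F11713)) (tt N1539 F8348) (tt N1539 F8349) (tt N1107 (iv D1661)) (tt N2116 D2393))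
theorem Q1541 : ∀ i, i < 1541 → P i := stepQ 1540 Q1540 (allL N1540 (tt N1111 F8350) (tt N1540 F8351) (tt N1219 F8352) (tt N2114 (iv F11707)) (tt N2100 (iv F11644)) (tt N1540 F8353) (tt N1108 (iv D1662)) (tt N2117 D2394) (tt N2066 (iv F11490)) (tt N1540 F8354))
theorem Q1542 : ∀ i, i < 1542 → P i := stepQ 1541 Q1541 (allL N1541 (tt N2113 (iv F11698)) (tt N1112 F8355) (tt N1541 F8356) (tt N2103 (iv F11656)) (tt N1109 (iv D1663)) (tt N1541 F8357) (tt N2118 D2395) (tt N1541 F8358) (tt N2119 D2396) (tt N1541 F8359))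
theorem Q1543 : ∀ i, i < 1543 → P i := stepQ 1542 Q1542 (allL N1542 (tt N2114 (iv F11704)) (tt N1113 F8360) (tt N1542 F8361) (tt N1111 F8362) (tt N2118 (iv F11730)) (tt N1542 F8363) (tt N1109 (iv D1664)) (tt N2120 D2397) (tt N2121 D2398) (tt N1542 F8364))
theorem Q1544 : ∀ i, i < 1544 → P i := stepQ 1543 Q1543 (allL N1543 (tt N2115 (iv F11710)) (tt N1114 F8365) (tt N1543 F8366) (tt N2071 (iv F11506)) (tt N2119 (iv F11734)) (tt N1110 F8367) (tt N2121 (iv F11746)) (tt N1543 F8368) (tt N1109 (iv D1665)) (tt N2122 D2399))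
theorem Q1545 : ∀ i, i < 1545 → P i := stepQ 1544 Q1544 (allL N1544 (tt N2116 (iv F11715)) (tt N1115 F8369) (tt N1544 F8370) (tt N2072 (iv F11510)) (tt N1544 F8371) (tt N2122 (iv F11749)) (tt N1544 F8372) (tt N1544 F8373) (tt N1544 F8374) (tt N1110 (iv D1666)))
theorem Q1546 : ∀ i, i < 1546 → P i := stepQ 1545 Q1545 (allL N1545 (tt N2117 (iv F11722)) (tt N1116 F8375) (tt N1220 F8376) (tt N2120 (iv F11739)) (tt N2107 (iv F11672)) (tt N1545 F8377) (tt N1545 F8378) (tt N1111 (iv D1667)) (tt N2073 (iv F11517)) (tt N1545 F8379))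
theorem Q1547 : ∀ i, i < 1547 → P i := stepQ 1546 Q1546 (allL N1546 (tt N1546 F8380) (tt N2118 (iv F11728)) (tt N1117 F8381) (tt N2108 (iv F11677)) (tt N1113 F8382) (tt N2123 D2400) (tt N1112 (iv D1668)) (tt N2124 D2401) (tt N2125 D2402) (tt N1546 F8383))
theorem Q1548 : ∀ i, i < 1548 → P i := stepQ 1547 Q1547 (allL N1547 (tt N1547 F8384) (tt N2119 (iv F11732)) (tt N1118 F8385) (tt N2126 D2403) (tt N1114 F8386) (tt N1547 F8387) (tt N2125 (iv F11765)) (tt N1547 F8388) (tt N1112 (iv D1669)) (tt N2127 D2404))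
theorem Q1549 : ∀ i, i < 1549 → P i := stepQ 1548 Q1548 (allL N1548 (tt N1548 F8389) (tt N2120 (iv F11737)) (tt N1119 F8390) (tt N1116 F8391) (tt N2124 (iv F11759)) (tt N1548 F8392) (tt N1548 F8393) (tt N1113 (iv D1670)) (tt N2128 D2405) (tt N1548 F8394))
theorem Q1550 : ∀ i, i < 1550 → P i := stepQ 1549 Q1549 (allL N1549 (tt N1549 F8395) (tt N2121 (iv F11743)) (tt N1120 F8396) (tt N2077 (iv F11532)) (tt N2125 (iv F11764)) (tt N1549 F8397) (tt N1114 F8398) (tt N2128 (iv F11779)) (tt N1113 (iv D1671)) (tt N2129 D2406))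
theorem Q1551 : ∀ i, i < 1551 → P i := stepQ 1550 Q1550 (allL N1550 (tt N1550 F8399) (tt N2122 (iv F11747)) (tt N1121 F8400) (tt N2078 (iv F11537)) (tt N2127 (iv F11771)) (tt N1115 F8401) (tt N2129 (iv F11783)) (tt N1550 F8402) (tt N1550 F8403) (tt N1114 (iv D1672)))
theorem Q1552 : ∀ i, i < 1552 → P i := stepQ 1551 Q1551 (allL N1551 (tt N1551 F8404) (tt N1551 F8405) (tt N2123 (iv F11753)) (tt N1551 F8406) (tt N1551 F8407) (tt N1117 (iv D1673)) (tt N1551 F8408) (tt N2130 D2407) (tt N2131 D2408) (tt N1551 F8409))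
theorem Q1553 : ∀ i, i < 1553 → P i := stepQ 1552 Q1552 (allL N1552 (tt N1552 F8410) (tt N1552 F8411) (tt N2124 (iv F11758)) (tt N1552 F8412) (tt N1119 F8413) (tt N2130 (iv F11789)) (tt N1552 F8414) (tt N1117 (iv D1674)) (tt N2132 D2409) (tt N1552 F8415))
theorem Q1554 : ∀ i, i < 1554 → P i := stepQ 1553 Q1553 (allL N1553 (tt N1553 F8416) (tt N1553 F8417) (tt N2125 (iv F11763)) (tt N2133 D2410) (tt N1120 F8418) (tt N2131 (iv F11794)) (tt N1118 F8419) (tt N2132 (iv F11800)) (tt N1117 (iv D1675)) (tt N2134 D2411))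
theorem Q1555 : ∀ i, i < 1555 → P i := stepQ 1554 Q1554 (allL N1554 (tt N1554 F8420) (tt N1554 F8421) (tt N2135 D2412) (tt N1118 (iv D1676)) (tt N1554 F8422) (tt N1554 F8423) (tt N2133 (iv F11804)) (tt N1554 F8424) (tt N1554 F8425) (tt N2136 D2413))
theorem Q1556 : ∀ i, i < 1556 → P i := stepQ 1555 Q1555 (allL N1555 (tt N1555 F8426) (tt N1555 F8427) (tt N2127 (iv F11770)) (tt N2136 (iv F11818)) (tt N1121 F8428) (tt N1555 F8429) (tt N2134 (iv F11809)) (tt N1555 F8430) (tt N1555 F8431) (tt N1118 (iv D1677)))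
theorem Q1557 : ∀ i, i < 1557 → P i := stepQ 1556 Q1556 (allL N1556 (tt N1556 F8432) (tt N1556 F8433) (tt N2128 (iv F11776)) (tt N1556 F8434) (tt N2132 (iv F11798)) (tt N1556 F8435) (tt N1556 F8436) (tt N1120 F8437) (tt N1119 (iv D1678)) (tt N2137 D2414))
theorem Q1558 : ∀ i, i < 1558 → P i := stepQ 1557 Q1557 (allL N1557 (tt N1557 F8438) (tt N1557 F8439) (tt N2129 (iv F11781)) (tt N1557 F8440) (tt N2134 (iv F11808)) (tt N1557 F8441) (tt N1121 F8442) (tt N2137 (iv F11827)) (tt N1557 F8443) (tt N1120 (iv D1679)))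
theorem Q1559 : ∀ i, i < 1559 → P i := stepQ 1558 Q1558 (allL N1558 (tt N1237 F8444) (tt N1558 F8445) (tt N1122 (iv D1680)) (tt N1558 F8446) (tt N2138 D2415) (tt N1558 F8447) (tt N1125 F8448) (tt N1558 F8449) (tt N1558 F8450) (tt N2139 D2416))
theorem Q1560 : ∀ i, i < 1560 → P i := stepQ 1559 Q1559 (allL N1559 (tt N1238 F8451) (tt N1969 (iv F11024)) (tt N2138 (iv F11831)) (tt N1559 F8452) (tt N1122 (iv D1681)) (tt N2140 D2417) (tt N1126 F8453) (tt N1559 F8454) (tt N1559 F8455) (tt N2141 D2418))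
theorem Q1561 : ∀ i, i < 1561 → P i := stepQ 1560 Q1560 (allL N1560 (tt N1239 F8456) (tt N1970 (iv F11031)) (tt N2139 (iv F11837)) (tt N1123 F8457) (tt N2141 (iv F11850)) (tt N1560 F8458) (tt N1127 F8459) (tt N1560 F8460) (tt N2142 D2419) (tt N1122 (iv D1682)))
theorem Q1562 : ∀ i, i < 1562 → P i := stepQ 1561 Q1561 (allL N1561 (tt N1240 F8461) (tt N1971 (iv F11038)) (tt N1561 F8462) (tt N2143 D2420) (tt N1561 F8463) (tt N1561 F8464) (tt N1128 F8465) (tt N1561 F8466) (tt N1123 (iv D1683)) (tt N1124 F8467))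
theorem Q1563 : ∀ i, i < 1563 → P i := stepQ 1562 Q1562 (allL N1562 (tt N1241 F8468) (tt N1972 (iv F11045)) (tt N2144 D2421) (tt N1124 (iv D1684)) (tt N2145 D2422) (tt N1562 F8469) (tt N1129 F8470) (tt N1562 F8471) (tt N1562 F8472) (tt N2143 (iv F11862)))
theorem Q1564 : ∀ i, i < 1564 → P i := stepQ 1563 Q1563 (allL N1563 (tt N1243 F8473) (tt N1563 F8474) (tt N1126 F8475) (tt N2146 D2423) (tt N1125 (iv D1685)) (tt N1563 F8476) (tt N2138 (iv F11832)) (tt N1130 F8477) (tt N1563 F8478) (tt N2147 D2424))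
theorem Q1565 : ∀ i, i < 1565 → P i := stepQ 1564 Q1564 (allL N1564 (tt N1244 F8479) (tt N1564 F8480) (tt N1127 F8481) (tt N1564 F8482) (tt N2147 (iv F11883)) (tt N1137 F8483) (tt N2139 (iv F11840)) (tt N1131 F8484) (tt N1369 F201677) (tt N1125 (iv D1686)))
theorem Q1566 : ∀ i, i < 1566 → P i := stepQ 1565 Q1565 (allL N1565 (tt N1245 F8485) (tt N1973 (iv F11051)) (tt N2147 (iv F11882)) (tt N1565 F8486) (tt N1127 F8487) (tt N1565 F8488) (tt N2141 (iv F11851)) (tt N1132 F8489) (tt N2148 D2426) (tt N1126 (iv D1687)))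
theorem Q1567 : ∀ i, i < 1567 → P i := stepQ 1566 Q1566 (allL N1566 (tt N1246 F8490) (tt N1974 (iv F11058)) (tt N1369 (iv F201294)) (tt N2149 D2427) (tt N2148 (iv F11893)) (tt N1138 F8491) (tt N2142 (iv F11855)) (tt N1133 F8492) (tt N1127 (iv D1688)) (tt N1566 F8493))
theorem Q1568 : ∀ i, i < 1568 → P i := stepQ 1567 Q1567 (allL N1567 (tt N1247 F8494) (tt N1975 (iv F11064)) (tt N2150 D2428) (tt N1128 (iv D1689)) (tt N2151 D2429) (tt N1139 F8495) (tt N2143 (iv F11860)) (tt N1134 F8496) (tt N2149 (iv F11900)) (tt N1129 F8497))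
theorem Q1569 : ∀ i, i < 1569 → P i := stepQ 1568 Q1568 (allL N1568 (tt N1248 F8498) (tt N2152 D2430) (tt N1129 (iv D1690)) (tt N1568 F8499) (tt N2153 D2431) (tt N1140 F8500) (tt N2144 (iv F11866)) (tt N1135 F8501) (tt N1568 F8502) (tt N2150 (iv F11906)))
theorem Q1570 : ∀ i, i < 1570 → P i := stepQ 1569 Q1569 (allL N1569 (tt N1249 F8503) (tt N1977 (iv F11073)) (tt N2153 (iv F11916)) (tt N1569 F8504) (tt N1129 (iv D1691)) (tt N2154 D2432) (tt N2145 (iv F11871)) (tt N1136 F8505) (tt N1569 F8506) (tt N2151 (iv F11910)))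
theorem Q1571 : ∀ i, i < 1571 → P i := stepQ 1570 Q1570 (allL N1570 (tt N1251 F8507) (tt N1570 F8508) (tt N1570 F8509) (tt N1130 (iv D1692)) (tt N1570 F8510) (tt N1570 F8511) (tt N1570 F8512) (tt N2146 (iv F11879)) (tt N2155 D2433) (tt N2156 D2434))
theorem Q1572 : ∀ i, i < 1572 → P i := stepQ 1571 Q1571 (allL N1571 (tt N1252 F8513) (tt N1571 F8514) (tt N1132 F8515) (tt N2156 (iv F11934)) (tt N1131 F8516) (tt N1571 F8517) (tt N1571 F8518) (tt N2147 (iv F11885)) (tt N1376 F202428) (tt N1130 (iv D1693)))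
theorem Q1573 : ∀ i, i < 1573 → P i := stepQ 1572 Q1572 (allL N1572 (tt N1253 F8525) (tt N1978 (iv F11078)) (tt N1376 (iv F202035)) (tt N2157 D2437) (tt N1133 F8526) (tt N1572 F8527) (tt N1572 F8528) (tt N2148 (iv F11895)) (tt N1132 (iv D1695)) (tt N1572 F8529))
theorem Q1574 : ∀ i, i < 1574 → P i := stepQ 1573 Q1573 (allL N1573 (tt N1254 F8530) (tt N1979 (iv F11085)) (tt N1366 (iv F201204)) (tt N1133 (iv D1696)) (tt N2158 D2439) (tt N1142 F8531) (tt N1573 F8532) (tt N2149 (iv F11899)) (tt N1134 F8533) (tt N1573 F8534))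
theorem Q1575 : ∀ i, i < 1575 → P i := stepQ 1574 Q1574 (allL N1574 (tt N1255 F8535) (tt N2159 D2440) (tt N1134 (iv D1697)) (tt N1574 F8536) (tt N2160 D2441) (tt N1143 F8537) (tt N1574 F8538) (tt N2150 (iv F11905)) (tt N1366 (iv F201205)) (tt N1135 F8539))
theorem Q1576 : ∀ i, i < 1576 → P i := stepQ 1575 Q1575 (allL N1575 (tt N1256 F8540) (tt N1981 (iv F11095)) (tt N2160 (iv F11970)) (tt N1575 F8541) (tt N1134 (iv D1698)) (tt N2161 D2442) (tt N1575 F8542) (tt N2151 (iv F11909)) (tt N2158 (iv F11963)) (tt N1136 F8543))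
theorem Q1577 : ∀ i, i < 1577 → P i := stepQ 1576 Q1576 (allL N1576 (tt N2162 D2443) (tt N1135 (iv D1699)) (tt N1982 (iv F11099)) (tt N1576 F8544) (tt N2163 D2444) (tt N1145 F8545) (tt N1576 F8546) (tt N2152 (iv F11913)) (tt N1576 F8547) (tt N2159 (iv F11968)))
theorem Q1578 : ∀ i, i < 1578 → P i := stepQ 1577 Q1577 (allL N1577 (tt N1258 F8548) (tt N2163 (iv F11982)) (tt N1136 F8549) (tt N2164 D2445) (tt N1135 (iv D1700)) (tt N2165 D2446) (tt N1577 F8550) (tt N2153 (iv F11917)) (tt N1577 F8551) (tt N2160 (iv F11972)))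
theorem Q1579 : ∀ i, i < 1579 → P i := stepQ 1578 Q1578 (allL N1578 (tt N1259 F8552) (tt N1984 (iv F11108)) (tt N2165 (iv F11990)) (tt N1578 F8553) (tt N1147 F8554) (tt N1136 (iv D1701)) (tt N2166 D2447) (tt N2154 (iv F11922)) (tt N1578 F8555) (tt N2161 (iv F11976)))
theorem Q1580 : ∀ i, i < 1580 → P i := stepQ 1579 Q1579 (allL N1579 (tt N1260 F8563) (tt N1985 (iv F11113)) (tt N1359 (iv F200564)) (tt N1138 (iv D1703)) (tt N2167 D2450) (tt N2149 (iv F11898)) (tt N1579 F8564) (tt N1142 F8565) (tt N1139 F8566) (tt N1579 F8567))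
theorem Q1581 : ∀ i, i < 1581 → P i := stepQ 1580 Q1580 (allL N1580 (tt N1261 F8568) (tt N2168 D2451) (tt N1139 (iv D1704)) (tt N1580 F8569) (tt N2169 D2452) (tt N2150 (iv F11904)) (tt N1580 F8570) (tt N1143 F8571) (tt N1359 (iv F200565)) (tt N1140 F8572))
theorem Q1582 : ∀ i, i < 1582 → P i := stepQ 1581 Q1581 (allL N1581 (tt N1262 F8573) (tt N1987 (iv F11123)) (tt N2169 (iv F12020)) (tt N1158 F8574) (tt N1139 (iv D1705)) (tt N2170 D2453) (tt N1581 F8575) (tt N1144 F8576) (tt N2167 (iv F12013)) (tt N1141 F8577))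
theorem Q1583 : ∀ i, i < 1583 → P i := stepQ 1582 Q1582 (allL N1582 (tt N2171 D2454) (tt N1140 (iv D1706)) (tt N1988 (iv F11128)) (tt N1582 F8578) (tt N2172 D2455) (tt N2152 (iv F11912)) (tt N1582 F8579) (tt N1145 F8580) (tt N1582 F8581) (tt N2168 (iv F12018)))
theorem Q1584 : ∀ i, i < 1584 → P i := stepQ 1583 Q1583 (allL N1583 (tt N1264 F8582) (tt N2172 (iv F12033)) (tt N1141 F8583) (tt N2173 D2456) (tt N1140 (iv D1707)) (tt N2174 D2457) (tt N1583 F8584) (tt N1146 F8585) (tt N1583 F8586) (tt N2169 (iv F12023)))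
theorem Q1585 : ∀ i, i < 1585 → P i := stepQ 1584 Q1584 (allL N1584 (tt N1265 F8587) (tt N1990 (iv F11138)) (tt N2174 (iv F12043)) (tt N1161 F8588) (tt N2154 (iv F11921)) (tt N1141 (iv D1708)) (tt N2175 D2458) (tt N1147 F8589) (tt N1584 F8590) (tt N2170 (iv F12027)))
theorem Q1586 : ∀ i, i < 1586 → P i := stepQ 1585 Q1585 (allL N1585 (tt N1266 F8600) (tt N1992 (iv F11148)) (tt N1344 (iv F200497)) (tt N1585 F8601) (tt N1142 (iv D1711)) (tt N2176 D2463) (tt N1148 F8602) (tt N2167 (iv F12012)) (tt N1144 F8603) (tt N1585 F8604))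
theorem Q1587 : ∀ i, i < 1587 → P i := stepQ 1586 Q1586 (allL N1586 (tt N1231 (iv F201134)) (tt N1143 (iv D1712)) (tt N1993 (iv F11153)) (tt N1586 F8605) (tt N2177 D2465) (tt N2159 (iv F11966)) (tt N1149 F8606) (tt N2168 (iv F12017)) (tt N1227 (iv F201144)) (tt N1145 F8607))
theorem Q1588 : ∀ i, i < 1588 → P i := stepQ 1587 Q1587 (allL N1587 (tt N1267 F8608) (tt N2177 (iv F12077)) (tt N1144 F8609) (tt N2178 D2466) (tt N1143 (iv D1713)) (tt N2179 D2467) (tt N1150 F8610) (tt N2169 (iv F12022)) (tt N1344 (iv F200498)) (tt N1146 F8611))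
theorem Q1589 : ∀ i, i < 1589 → P i := stepQ 1588 Q1588 (allL N1588 (tt N1268 F8612) (tt N1995 (iv F11161)) (tt N2179 (iv F12086)) (tt N1164 F8613) (tt N2161 (iv F11975)) (tt N1144 (iv D1714)) (tt N2180 D2468) (tt N2170 (iv F12026)) (tt N2176 (iv F12071)) (tt N1147 F8614))
theorem Q1590 : ∀ i, i < 1590 → P i := stepQ 1589 Q1589 (allL N1589 (tt N1145 (iv D1715)) (tt N1234 F200770) (tt N1996 (iv F11165)) (tt N1589 F8616) (tt N2181 D2469) (tt N2162 (iv F11979)) (tt N1152 F8617) (tt N2171 (iv F12031)) (tt N1589 F8618) (tt N1231 (iv F201135)))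
theorem Q1591 : ∀ i, i < 1591 → P i := stepQ 1590 Q1590 (allL N1590 (tt N2181 (iv F12092)) (tt N1146 F8619) (tt N1997 (iv F11169)) (tt N2182 D2470) (tt N1145 (iv D1716)) (tt N2183 D2471) (tt N1153 F8620) (tt N2172 (iv F12035)) (tt N1590 F8621) (tt N2177 (iv F12079)))
theorem Q1592 : ∀ i, i < 1592 → P i := stepQ 1591 Q1591 (allL N1591 (tt N1270 F8622) (tt N2182 (iv F12096)) (tt N1167 F8623) (tt N1146 (iv D1717)) (tt N1591 F8624) (tt N2184 D2472) (tt N1154 F8625) (tt N2173 (iv F12041)) (tt N2185 D2473) (tt N2178 (iv F12084)))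
theorem Q1593 : ∀ i, i < 1593 → P i := stepQ 1592 Q1592 (allL N1592 (tt N1271 F8626) (tt N2183 (iv F12099)) (tt N1147 F8627) (tt N2184 (iv F12103)) (tt N2165 (iv F11991)) (tt N1146 (iv D1718)) (tt N2186 D2474) (tt N2174 (iv F12044)) (tt N1592 F8628) (tt N2179 (iv F12087)))
theorem Q1594 : ∀ i, i < 1594 → P i := stepQ 1593 Q1593 (allL N1593 (tt N1272 F8629) (tt N2000 (iv F11179)) (tt N2186 (iv F12110)) (tt N1169 F8630) (tt N2166 (iv F11995)) (tt N1156 F8631) (tt N1147 (iv D1719)) (tt N2187 D2475) (tt N1593 F8632) (tt N2180 (iv F12091)))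
theorem Q1595 : ∀ i, i < 1595 → P i := stepQ 1594 Q1594 (allL N1594 (tt N1273 F8654) (tt N2002 (iv F11195)) (tt N1352 (iv F201208)) (tt N1594 F8655) (tt N1594 F8656) (tt N1148 (iv D1724)) (tt N2188 D2483) (tt N1594 F8657) (tt N1151 F8658) (tt N1594 F8659))
theorem Q1596 : ∀ i, i < 1596 → P i := stepQ 1595 Q1595 (allL N1595 (tt N1213 (iv F201137)) (tt N1150 F8665) (tt N2003 (iv F11207)) (tt N2189 D2485) (tt N1149 (iv D1726)) (tt N2190 D2486) (tt N2177 (iv F12078)) (tt N1595 F8666) (tt N1209 (iv F201145)) (tt N1153 F8667))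
theorem Q1597 : ∀ i, i < 1597 → P i := stepQ 1596 Q1596 (allL N1596 (tt N1274 F8668) (tt N2189 (iv F12163)) (tt N1172 F8669) (tt N1150 (iv D1727)) (tt N1596 F8670) (tt N2191 D2487) (tt N2178 (iv F12083)) (tt N1596 F8671) (tt N1310 (iv F200540)) (tt N1154 F8672))
theorem Q1598 : ∀ i, i < 1598 → P i := stepQ 1597 Q1597 (allL N1597 (tt N1275 F8673) (tt N2190 (iv F12167)) (tt N1151 F8674) (tt N2191 (iv F12173)) (tt N1597 F8675) (tt N1150 (iv D1728)) (tt N2192 D2489) (tt N1597 F8676) (tt N1352 (iv F201209)) (tt N1155 F8677))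
theorem Q1599 : ∀ i, i < 1599 → P i := stepQ 1598 Q1598 (allL N1598 (tt N1276 F8678) (tt N2006 (iv F11220)) (tt N2192 (iv F12181)) (tt N1174 F8679) (tt N1598 F8680) (tt N2180 (iv F12090)) (tt N1151 (iv D1729)) (tt N2193 D2490) (tt N2188 (iv F12157)) (tt N1156 F8681))
theorem Q1600 : ∀ i, i < 1600 → P i := stepQ 1599 Q1599 (allL N1599 (tt N1153 F8682) (tt N1217 F200771) (tt N2007 (iv F11226)) (tt N2194 D2491) (tt N1152 (iv D1730)) (tt N2195 D2492) (tt N2181 (iv F12094)) (tt N1599 F8684) (tt N1599 F8685) (tt N1213 (iv F201138)))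
theorem Q1601 : ∀ i, i < 1601 → P i := stepQ 1600 Q1600 (allL N1600 (tt N2194 (iv F12189)) (tt N1154 F8686) (tt N2196 D2493) (tt N1153 (iv D1731)) (tt N1600 F8687) (tt N2197 D2494) (tt N2182 (iv F12098)) (tt N1600 F8688) (tt N2198 D2495) (tt N2189 (iv F12166)))
theorem Q1602 : ∀ i, i < 1602 → P i := stepQ 1601 Q1601 (allL N1601 (tt N2195 (iv F12193)) (tt N1155 F8689) (tt N2009 (iv F11232)) (tt N2197 (iv F12202)) (tt N1601 F8690) (tt N1153 (iv D1732)) (tt N2199 D2496) (tt N1601 F8691) (tt N1601 F8692) (tt N2190 (iv F12170)))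
theorem Q1603 : ∀ i, i < 1603 → P i := stepQ 1602 Q1602 (allL N1602 (tt N1279 F8693) (tt N2197 (iv F12201)) (tt N1178 F8694) (tt N1155 F8695) (tt N2200 D2497) (tt N1154 (iv D1733)) (tt N2201 D2498) (tt N1602 F8696) (tt N2202 D2499) (tt N2191 (iv F12175)))
theorem Q1604 : ∀ i, i < 1604 → P i := stepQ 1603 Q1603 (allL N1603 (tt N1280 F8697) (tt N2198 (iv F12204)) (tt N1179 F8698) (tt N1603 F8699) (tt N1603 F8700) (tt N2202 (iv F12222)) (tt N2185 (iv F12108)) (tt N1603 F8701) (tt N1154 (iv D1734)) (tt N2203 D2500))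
theorem Q1605 : ∀ i, i < 1605 → P i := stepQ 1604 Q1604 (allL N1604 (tt N1281 F8702) (tt N2199 (iv F12208)) (tt N1156 F8703) (tt N2201 (iv F12218)) (tt N1604 F8704) (tt N2186 (iv F12111)) (tt N1155 (iv D1735)) (tt N2204 D2501) (tt N1604 F8705) (tt N2192 (iv F12183)))
theorem Q1606 : ∀ i, i < 1606 → P i := stepQ 1605 Q1605 (allL N1605 (tt N1282 F8706) (tt N2013 (iv F11249)) (tt N2204 (iv F12230)) (tt N1181 F8707) (tt N1605 F8708) (tt N2187 (iv F12115)) (tt N1605 F8709) (tt N1156 (iv D1736)) (tt N1605 F8710) (tt N2193 (iv F12188)))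
theorem Q1607 : ∀ i, i < 1607 → P i := stepQ 1606 Q1606 (allL N1606 (tt N2205 D2502) (tt N1157 (iv D1737)) (tt N2014 (iv F11254)) (tt N1606 F8711) (tt N2206 D2503) (tt N1606 F8712) (tt N1606 F8713) (tt N1162 F8714) (tt N1606 F8715) (tt N1159 F8716))
theorem Q1608 : ∀ i, i < 1608 → P i := stepQ 1607 Q1607 (allL N1607 (tt N1284 F8717) (tt N2206 (iv F12241)) (tt N1158 F8718) (tt N2207 D2504) (tt N1157 (iv D1738)) (tt N2208 D2505) (tt N1607 F8719) (tt N1163 F8720) (tt N1607 F8721) (tt N1160 F8722))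
theorem Q1609 : ∀ i, i < 1609 → P i := stepQ 1608 Q1608 (allL N1608 (tt N1285 F8723) (tt N2016 (iv F11267)) (tt N2208 (iv F12252)) (tt N2170 (iv F12025)) (tt N1608 F8724) (tt N1158 (iv D1739)) (tt N2209 D2506) (tt N1164 F8725) (tt N1608 F8726) (tt N1161 F8727))
theorem Q1610 : ∀ i, i < 1610 → P i := stepQ 1609 Q1609 (allL N1609 (tt N1159 (iv D1740)) (tt N1286 F8728) (tt N2017 (iv F11273)) (tt N1609 F8729) (tt N2210 D2507) (tt N1609 F8730) (tt N1609 F8731) (tt N1165 F8732) (tt N1197 F8733) (tt N2205 (iv F12240)))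
theorem Q1611 : ∀ i, i < 1611 → P i := stepQ 1610 Q1610 (allL N1610 (tt N2210 (iv F12262)) (tt N1160 F8734) (tt N2018 (iv F11279)) (tt N2211 D2508) (tt N1159 (iv D1741)) (tt N2212 D2509) (tt N1610 F8735) (tt N1166 F8736) (tt N1198 F8737) (tt N2206 (iv F12245)))
theorem Q1612 : ∀ i, i < 1612 → P i := stepQ 1611 Q1611 (allL N1611 (tt N1288 F8738) (tt N2211 (iv F12267)) (tt N2173 (iv F12038)) (tt N1160 (iv D1742)) (tt N1611 F8739) (tt N2213 D2510) (tt N1611 F8740) (tt N1167 F8741) (tt N2214 D2511) (tt N2207 (iv F12250)))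
theorem Q1613 : ∀ i, i < 1613 → P i := stepQ 1612 Q1612 (allL N1612 (tt N1289 F8742) (tt N2212 (iv F12271)) (tt N1161 F8743) (tt N2213 (iv F12276)) (tt N1612 F8744) (tt N1160 (iv D1743)) (tt N2215 D2512) (tt N1168 F8745) (tt N1200 F8746) (tt N2208 (iv F12256)))
theorem Q1614 : ∀ i, i < 1614 → P i := stepQ 1613 Q1613 (allL N1613 (tt N1290 F8747) (tt N2021 (iv F11292)) (tt N2215 (iv F12284)) (tt N2175 (iv F12047)) (tt N1613 F8748) (tt N1613 F8749) (tt N1161 (iv D1744)) (tt N2216 D2513) (tt N1201 F8750) (tt N2209 (iv F12261)))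
theorem Q1615 : ∀ i, i < 1615 → P i := stepQ 1614 Q1614 (allL N1614 (tt N1162 (iv D1745)) (tt N1291 F8751) (tt N2022 (iv F11297)) (tt N1614 F8752) (tt N2217 D2514) (tt N1614 F8753) (tt N1170 F8754) (tt N2205 (iv F12238)) (tt N1614 F8755) (tt N1165 F8756))
theorem Q1616 : ∀ i, i < 1616 → P i := stepQ 1615 Q1615 (allL N1615 (tt N2217 (iv F12293)) (tt N1163 F8757) (tt N2023 (iv F11303)) (tt N2218 D2515) (tt N1162 (iv D1746)) (tt N2219 D2516) (tt N1171 F8758) (tt N2206 (iv F12243)) (tt N1615 F8759) (tt N1166 F8760))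
theorem Q1617 : ∀ i, i < 1617 → P i := stepQ 1616 Q1616 (allL N1616 (tt N1293 F8761) (tt N2218 (iv F12298)) (tt N2178 (iv F12081)) (tt N1163 (iv D1747)) (tt N1616 F8762) (tt N2220 D2517) (tt N1172 F8763) (tt N2207 (iv F12249)) (tt N2221 D2518) (tt N1167 F8764))
theorem Q1618 : ∀ i, i < 1618 → P i := stepQ 1617 Q1617 (allL N1617 (tt N1294 F8765) (tt N2219 (iv F12302)) (tt N1164 F8766) (tt N2220 (iv F12307)) (tt N1617 F8767) (tt N1163 (iv D1748)) (tt N2222 D2519) (tt N2208 (iv F12254)) (tt N1617 F8768) (tt N1168 F8769))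
theorem Q1619 : ∀ i, i < 1619 → P i := stepQ 1618 Q1618 (allL N1618 (tt N1295 F8770) (tt N2026 (iv F11316)) (tt N2222 (iv F12314)) (tt N2180 (iv F12089)) (tt N1618 F8771) (tt N1174 F8772) (tt N1164 (iv D1749)) (tt N2223 D2520) (tt N1618 F8773) (tt N1169 F8774))
theorem Q1620 : ∀ i, i < 1620 → P i := stepQ 1619 Q1619 (allL N1619 (tt N1166 F8775) (tt N1296 F8776) (tt N2027 (iv F11323)) (tt N2224 D2521) (tt N1165 (iv D1750)) (tt N2225 D2522) (tt N1175 F8777) (tt N2210 (iv F12265)) (tt N1202 F8778) (tt N2217 (iv F12297)))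
theorem Q1621 : ∀ i, i < 1621 → P i := stepQ 1620 Q1620 (allL N1620 (tt N2224 (iv F12324)) (tt N1167 F8779) (tt N2226 D2523) (tt N1166 (iv D1751)) (tt N1620 F8780) (tt N2227 D2524) (tt N1176 F8781) (tt N2211 (iv F12270)) (tt N2228 D2525) (tt N2218 (iv F12301)))
theorem Q1622 : ∀ i, i < 1622 → P i := stepQ 1621 Q1621 (allL N1621 (tt N2225 (iv F12328)) (tt N1168 F8782) (tt N2029 (iv F11329)) (tt N2227 (iv F12335)) (tt N1621 F8783) (tt N1166 (iv D1752)) (tt N2229 D2526) (tt N2212 (iv F12273)) (tt N1204 F8784) (tt N2219 (iv F12305)))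
theorem Q1623 : ∀ i, i < 1623 → P i := stepQ 1622 Q1622 (allL N1622 (tt N1299 F8785) (tt N2227 (iv F12334)) (tt N2184 (iv F12102)) (tt N1168 F8786) (tt N2230 D2527) (tt N1167 (iv D1753)) (tt N2231 D2528) (tt N2213 (iv F12277)) (tt N2232 D2529) (tt N2220 (iv F12308)))
theorem Q1624 : ∀ i, i < 1624 → P i := stepQ 1623 Q1623 (allL N1623 (tt N1300 F8787) (tt N2228 (iv F12336)) (tt N2185 (iv F12105)) (tt N1206 F8788) (tt N1623 F8789) (tt N2232 (iv F12352)) (tt N1179 F8790) (tt N2214 (iv F12282)) (tt N1167 (iv D1754)) (tt N2233 D2530))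
theorem Q1625 : ∀ i, i < 1625 → P i := stepQ 1624 Q1624 (allL N1624 (tt N1301 F8791) (tt N2229 (iv F12340)) (tt N1169 F8792) (tt N2231 (iv F12348)) (tt N1624 F8793) (tt N1180 F8794) (tt N1168 (iv D1755)) (tt N2234 D2531) (tt N1207 F8795) (tt N2222 (iv F12318)))
theorem Q1626 : ∀ i, i < 1626 → P i := stepQ 1625 Q1625 (allL N1625 (tt N1302 F8796) (tt N2033 (iv F11343)) (tt N2234 (iv F12358)) (tt N2187 (iv F12114)) (tt N1625 F8797) (tt N1181 F8798) (tt N2216 (iv F12291)) (tt N1169 (iv D1756)) (tt N1208 F8799) (tt N2223 (iv F12323)))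
theorem Q1627 : ∀ i, i < 1627 → P i := stepQ 1626 Q1626 (allL N1626 (tt N1171 F8800) (tt N1303 F8801) (tt N2034 (iv F11349)) (tt N2235 D2532) (tt N1170 (iv D1757)) (tt N2236 D2533) (tt N2217 (iv F12295)) (tt N1626 F8802) (tt N1626 F8803) (tt N1175 F8804))
theorem Q1628 : ∀ i, i < 1628 → P i := stepQ 1627 Q1627 (allL N1627 (tt N2235 (iv F12362)) (tt N1172 F8805) (tt N2237 D2534) (tt N1171 (iv D1758)) (tt N1627 F8806) (tt N2238 D2535) (tt N2218 (iv F12300)) (tt N1627 F8807) (tt N2239 D2536) (tt N1176 F8808))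
theorem Q1629 : ∀ i, i < 1629 → P i := stepQ 1628 Q1628 (allL N1628 (tt N2236 (iv F12367)) (tt N1173 F8809) (tt N2036 (iv F11357)) (tt N2238 (iv F12377)) (tt N1184 F8810) (tt N1171 (iv D1759)) (tt N2240 D2537) (tt N1628 F8811) (tt N1628 F8812) (tt N1177 F8813))
theorem Q1630 : ∀ i, i < 1630 → P i := stepQ 1629 Q1629 (allL N1629 (tt N1306 F8814) (tt N2238 (iv F12376)) (tt N2191 (iv F12172)) (tt N1173 F8815) (tt N2241 D2538) (tt N1172 (iv D1760)) (tt N2242 D2539) (tt N1629 F8816) (tt N2243 D2540) (tt N1178 F8817))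
theorem Q1631 : ∀ i, i < 1631 → P i := stepQ 1630 Q1630 (allL N1630 (tt N1307 F8818) (tt N2239 (iv F12380)) (tt N1310 (iv F200539)) (tt N1630 F8819) (tt N1630 F8820) (tt N2243 (iv F12398)) (tt N2221 (iv F12312)) (tt N1630 F8821) (tt N1172 (iv D1761)) (tt N2244 D2541))
theorem Q1632 : ∀ i, i < 1632 → P i := stepQ 1631 Q1631 (allL N1631 (tt N1308 F8822) (tt N2240 (iv F12384)) (tt N1174 F8823) (tt N2242 (iv F12394)) (tt N1187 F8824) (tt N2222 (iv F12316)) (tt N1173 (iv D1762)) (tt N2245 D2542) (tt N1631 F8825) (tt N1180 F8826))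
theorem Q1633 : ∀ i, i < 1633 → P i := stepQ 1632 Q1632 (allL N1632 (tt N1309 F8827) (tt N2040 (iv F11375)) (tt N2245 (iv F12406)) (tt N2193 (iv F12185)) (tt N1188 F8828) (tt N2223 (iv F12321)) (tt N1632 F8829) (tt N1174 (iv D1763)) (tt N1632 F8830) (tt N1181 F8831))
theorem Q1634 : ∀ i, i < 1634 → P i := stepQ 1633 Q1633 (allL N1633 (tt N1176 F8832) (tt N1310 F8833) (tt N2246 D2543) (tt N1175 (iv D1764)) (tt N1633 F8834) (tt N2247 D2544) (tt N2224 (iv F12327)) (tt N1633 F8835) (tt N2189 F200778) (tt N2235 (iv F12366)))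
theorem Q1635 : ∀ i, i < 1635 → P i := stepQ 1634 Q1634 (allL N1634 (tt N1177 F8836) (tt N1311 F8837) (tt N2042 (iv F11385)) (tt N2247 (iv F12416)) (tt N1190 F8838) (tt N1175 (iv D1765)) (tt N2248 D2546) (tt N1634 F8839) (tt N1210 F8840) (tt N2236 (iv F12372)))
theorem Q1636 : ∀ i, i < 1636 → P i := stepQ 1635 Q1635 (allL N1635 (tt N2246 (iv F12411)) (tt N2196 (iv F12198)) (tt N1176 (iv D1766)) (tt N2043 (iv F11389)) (tt N1635 F8841) (tt N2249 D2547) (tt N2226 (iv F12333)) (tt N1635 F8842) (tt N2250 D2548) (tt N2237 (iv F12375)))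
theorem Q1637 : ∀ i, i < 1637 → P i := stepQ 1636 Q1636 (allL N1636 (tt N2247 (iv F12414)) (tt N1178 F8843) (tt N2249 (iv F12427)) (tt N1177 F8844) (tt N2251 D2549) (tt N1176 (iv D1767)) (tt N2252 D2550) (tt N1636 F8845) (tt N2253 D2551) (tt N2238 (iv F12379)))
theorem Q1638 : ∀ i, i < 1638 → P i := stepQ 1637 Q1637 (allL N1637 (tt N2189 F200775) (tt N1179 F8846) (tt N2250 (iv F12429)) (tt N1213 F8847) (tt N1637 F8848) (tt N2253 (iv F12440)) (tt N2228 (iv F12339)) (tt N1637 F8849) (tt N1176 (iv D1768)) (tt N2194 F200776))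
theorem Q1639 : ∀ i, i < 1639 → P i := stepQ 1638 Q1638 (allL N1638 (tt N2248 (iv F12423)) (tt N1180 F8850) (tt N2046 (iv F11398)) (tt N2252 (iv F12437)) (tt N1193 F8851) (tt N2229 (iv F12342)) (tt N1177 (iv D1769)) (tt N2254 D2553) (tt N1214 F8852) (tt N2240 (iv F12387)))
theorem Q1640 : ∀ i, i < 1640 → P i := stepQ 1639 Q1639 (allL N1639 (tt N1314 F8853) (tt N2251 (iv F12432)) (tt N2200 (iv F12212)) (tt N1194 F8854) (tt N1178 (iv D1770)) (tt N1639 F8855) (tt N2255 D2554) (tt N1639 F8856) (tt N2256 D2555) (tt N2241 (iv F12392)))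
theorem Q1641 : ∀ i, i < 1641 → P i := stepQ 1640 Q1640 (allL N1640 (tt N1315 F8857) (tt N2252 (iv F12436)) (tt N2201 (iv F12217)) (tt N1180 F8858) (tt N2255 (iv F12452)) (tt N2231 (iv F12349)) (tt N1178 (iv D1771)) (tt N2257 D2556) (tt N2258 D2557) (tt N2242 (iv F12395)))
theorem Q1642 : ∀ i, i < 1642 → P i := stepQ 1641 Q1641 (allL N1641 (tt N1316 F8859) (tt N2253 (iv F12438)) (tt N2202 (iv F12220)) (tt N1216 F8860) (tt N2256 (iv F12455)) (tt N1179 F8861) (tt N2258 (iv F12463)) (tt N1641 F8862) (tt N1178 (iv D1772)) (tt N2259 D2558))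
theorem Q1643 : ∀ i, i < 1643 → P i := stepQ 1642 Q1642 (allL N1642 (tt N1277 F200384) (tt N2194 (iv F200485)) (tt N2203 (iv F12225)) (tt N1217 F8864) (tt N1642 F8865) (tt N2259 (iv F12466)) (tt N2233 (iv F12356)) (tt N1642 F8866) (tt N2244 (iv F12404)) (tt N1179 (iv D1773)))
theorem Q1644 : ∀ i, i < 1644 → P i := stepQ 1643 Q1643 (allL N1643 (tt N1317 F8867) (tt N2254 (iv F12446)) (tt N1181 F8868) (tt N2257 (iv F12459)) (tt N1196 F8869) (tt N2234 (iv F12360)) (tt N1643 F8870) (tt N1180 (iv D1774)) (tt N1218 F8871) (tt N2245 (iv F12410)))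
theorem Q1645 : ∀ i, i < 1645 → P i := stepQ 1644 Q1644 (allL N1644 (tt N1183 F8872) (tt N1318 F8873) (tt N2260 D2559) (tt N1182 (iv D1775)) (tt N1644 F8874) (tt N2261 D2560) (tt N1644 F8875) (tt N1644 F8876) (tt N2262 D2561) (tt N1189 F8877))
theorem Q1646 : ∀ i, i < 1646 → P i := stepQ 1645 Q1645 (allL N1645 (tt N1184 F8878) (tt N1319 F8879) (tt N2053 (iv F11425)) (tt N2261 (iv F12475)) (tt N2236 (iv F12369)) (tt N1182 (iv D1776)) (tt N2263 D2562) (tt N1645 F8880) (tt N1645 F8881) (tt N1190 F8882))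
theorem Q1647 : ∀ i, i < 1647 → P i := stepQ 1646 Q1646 (allL N1646 (tt N2260 (iv F12468)) (tt N1646 F8883) (tt N1183 (iv D1777)) (tt N2054 (iv F11430)) (tt N1646 F8884) (tt N2264 D2563) (tt N1646 F8885) (tt N1646 F8886) (tt N2265 D2564) (tt N1191 F8887))
theorem Q1648 : ∀ i, i < 1648 → P i := stepQ 1647 Q1647 (allL N1647 (tt N2261 (iv F12473)) (tt N1185 F8888) (tt N2264 (iv F12491)) (tt N1184 F8889) (tt N2266 D2565) (tt N1183 (iv D1778)) (tt N2267 D2566) (tt N1647 F8890) (tt N2268 D2567) (tt N1192 F8891))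
theorem Q1649 : ∀ i, i < 1649 → P i := stepQ 1648 Q1648 (allL N1648 (tt N2262 (iv F12478)) (tt N1186 F8892) (tt N2265 (iv F12495)) (tt N1648 F8893) (tt N1648 F8894) (tt N2268 (iv F12510)) (tt N1648 F8895) (tt N1648 F8896) (tt N1183 (iv D1779)) (tt N1648 F8897))
theorem Q1650 : ∀ i, i < 1650 → P i := stepQ 1649 Q1649 (allL N1649 (tt N2263 (iv F12485)) (tt N1187 F8898) (tt N2057 (iv F11443)) (tt N2267 (iv F12505)) (tt N2240 (iv F12385)) (tt N1649 F8899) (tt N1184 (iv D1780)) (tt N2269 D2568) (tt N1649 F8900) (tt N1193 F8901))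
theorem Q1651 : ∀ i, i < 1651 → P i := stepQ 1650 Q1650 (allL N1650 (tt N1324 F8902) (tt N2266 (iv F12500)) (tt N1650 F8903) (tt N2241 (iv F12389)) (tt N1185 (iv D1781)) (tt N1650 F8904) (tt N2270 D2569) (tt N1650 F8905) (tt N2271 D2570) (tt N1194 F8906))
theorem Q1652 : ∀ i, i < 1652 → P i := stepQ 1651 Q1651 (allL N1651 (tt N1325 F8907) (tt N2267 (iv F12504)) (tt N1651 F8908) (tt N1187 F8909) (tt N2270 (iv F12520)) (tt N1651 F8910) (tt N1185 (iv D1782)) (tt N2272 D2571) (tt N2273 D2572) (tt N1195 F8911))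
theorem Q1653 : ∀ i, i < 1653 → P i := stepQ 1652 Q1652 (allL N1652 (tt N1326 F8912) (tt N2268 (iv F12508)) (tt N1652 F8913) (tt N1652 F8914) (tt N2271 (iv F12524)) (tt N1186 F8915) (tt N2273 (iv F12538)) (tt N1652 F8916) (tt N1185 (iv D1783)) (tt N1652 F8917))
theorem Q1654 : ∀ i, i < 1654 → P i := stepQ 1653 Q1653 (allL N1653 (tt N1327 F8918) (tt N2269 (iv F12513)) (tt N1188 F8919) (tt N2272 (iv F12530)) (tt N2245 (iv F12407)) (tt N1653 F8920) (tt N1653 F8921) (tt N1187 (iv D1784)) (tt N1653 F8922) (tt N1196 F8923))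
theorem Q1655 : ∀ i, i < 1655 → P i := stepQ 1654 Q1654 (allL N1654 (tt N1191 F8924) (tt N2274 D2573) (tt N1189 (iv D1785)) (tt N2063 (iv F11474)) (tt N1654 F8925) (tt N2275 D2574) (tt N1654 F8926) (tt N1654 F8927) (tt N1654 F8928) (tt N2260 (iv F12472)))
theorem Q1656 : ∀ i, i < 1656 → P i := stepQ 1655 Q1655 (allL N1655 (tt N1192 F8929) (tt N1329 F8930) (tt N2275 (iv F12547)) (tt N1190 F8931) (tt N2276 D2575) (tt N1189 (iv D1786)) (tt N2277 D2576) (tt N1655 F8932) (tt N1655 F8933) (tt N2261 (iv F12477)))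
theorem Q1657 : ∀ i, i < 1657 → P i := stepQ 1656 Q1656 (allL N1656 (tt N1193 F8934) (tt N1330 F8935) (tt N2066 (iv F11488)) (tt N2277 (iv F12557)) (tt N2248 (iv F12425)) (tt N1656 F8936) (tt N1190 (iv D1787)) (tt N2278 D2577) (tt N1219 F8937) (tt N2263 (iv F12489)))
theorem Q1658 : ∀ i, i < 1658 → P i := stepQ 1657 Q1657 (allL N1657 (tt N2275 (iv F12546)) (tt N1657 F8938) (tt N1192 F8939) (tt N2067 (iv F11493)) (tt N2279 D2578) (tt N1191 (iv D1788)) (tt N2280 D2579) (tt N1657 F8940) (tt N1657 F8941) (tt N2264 (iv F12493)))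
theorem Q1659 : ∀ i, i < 1659 → P i := stepQ 1658 Q1658 (allL N1658 (tt N2276 (iv F12550)) (tt N1194 F8942) (tt N2279 (iv F12566)) (tt N2251 (iv F12433)) (tt N1192 (iv D1789)) (tt N1658 F8943) (tt N2281 D2580) (tt N1658 F8944) (tt N1658 F8945) (tt N2266 (iv F12503)))
theorem Q1660 : ∀ i, i < 1660 → P i := stepQ 1659 Q1659 (allL N1659 (tt N2277 (iv F12555)) (tt N1195 F8946) (tt N2280 (iv F12571)) (tt N1193 F8947) (tt N2281 (iv F12575)) (tt N1659 F8948) (tt N1192 (iv D1790)) (tt N2282 D2581) (tt N1659 F8949) (tt N2267 (iv F12507)))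
theorem Q1661 : ∀ i, i < 1661 → P i := stepQ 1660 Q1660 (allL N1660 (tt N2278 (iv F12560)) (tt N1196 F8950) (tt N2073 (iv F11514)) (tt N2282 (iv F12578)) (tt N2254 (iv F12447)) (tt N1660 F8951) (tt N1660 F8952) (tt N1193 (iv D1791)) (tt N1220 F8953) (tt N2269 (iv F12517)))
theorem Q1662 : ∀ i, i < 1662 → P i := stepQ 1661 Q1661 (allL N1661 (tt N1335 F8954) (tt N2281 (iv F12574)) (tt N1661 F8955) (tt N2255 (iv F12451)) (tt N1195 F8956) (tt N2283 D2582) (tt N1194 (iv D1792)) (tt N2284 D2583) (tt N1661 F8957) (tt N2270 (iv F12521)))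
theorem Q1663 : ∀ i, i < 1663 → P i := stepQ 1662 Q1662 (allL N1662 (tt N1336 F8958) (tt N2282 (iv F12577)) (tt N1662 F8959) (tt N1196 F8960) (tt N2284 (iv F12589)) (tt N1662 F8961) (tt N1662 F8962) (tt N1195 (iv D1793)) (tt N1662 F8963) (tt N2272 (iv F12533)))
theorem Q1664 : ∀ i, i < 1664 → P i := stepQ 1663 Q1663 (allL N1663 (tt N1198 F8964) (tt N1337 F8965) (tt N2079 (iv F11542)) (tt N2285 D2584) (tt N1197 (iv D1794)) (tt N2286 D2585) (tt N1663 F8966) (tt N1202 F8967) (tt N2210 (iv F12266)) (tt N1663 F8968))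
theorem Q1665 : ∀ i, i < 1665 → P i := stepQ 1664 Q1664 (allL N1664 (tt N2285 (iv F12592)) (tt N1199 F8969) (tt N2287 D2586) (tt N1198 (iv D1795)) (tt N1222 F8970) (tt N2288 D2587) (tt N1664 F8971) (tt N1203 F8972) (tt N2289 D2588) (tt N1664 F8973))
theorem Q1666 : ∀ i, i < 1666 → P i := stepQ 1665 Q1665 (allL N1665 (tt N2286 (iv F12598)) (tt N1200 F8974) (tt N2081 (iv F11552)) (tt N2288 (iv F12609)) (tt N1665 F8975) (tt N1198 (iv D1796)) (tt N2290 D2589) (tt N1204 F8976) (tt N2212 (iv F12274)) (tt N1665 F8977))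
theorem Q1667 : ∀ i, i < 1667 → P i := stepQ 1666 Q1666 (allL N1666 (tt N1340 F8978) (tt N2288 (iv F12608)) (tt N1666 F8979) (tt N1200 F8980) (tt N2291 D2590) (tt N1199 (iv D1797)) (tt N2292 D2591) (tt N1205 F8981) (tt N2293 D2592) (tt N1666 F8982))
theorem Q1668 : ∀ i, i < 1668 → P i := stepQ 1667 Q1667 (allL N1667 (tt N1341 F8983) (tt N2289 (iv F12612)) (tt N1667 F8984) (tt N2214 (iv F12279)) (tt N1225 F8985) (tt N2293 (iv F12633)) (tt N1667 F8986) (tt N1206 F8987) (tt N1199 (iv D1798)) (tt N2294 D2593))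
theorem Q1669 : ∀ i, i < 1669 → P i := stepQ 1668 Q1668 (allL N1668 (tt N1342 F8988) (tt N2290 (iv F12616)) (tt N1201 F8989) (tt N2292 (iv F12628)) (tt N1668 F8990) (tt N1668 F8991) (tt N1200 (iv D1799)) (tt N2295 D2594) (tt N2215 (iv F12287)) (tt N1668 F8992))
theorem Q1670 : ∀ i, i < 1670 → P i := stepQ 1669 Q1669 (allL N1669 (tt N1343 F8993) (tt N2085 (iv F11572)) (tt N2295 (iv F12642)) (tt N1669 F8994) (tt N1669 F8995) (tt N1669 F8996) (tt N1208 F8997) (tt N1201 (iv D1800)) (tt N2216 (iv F12292)) (tt N1669 F8998))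
theorem Q1671 : ∀ i, i < 1671 → P i := stepQ 1670 Q1670 (allL N1670 (tt N1203 F8999) (tt N1344 F9000) (tt N2296 D2595) (tt N1202 (iv D1801)) (tt N1227 F9001) (tt N2297 D2596) (tt N1209 F9002) (tt N2285 (iv F12596)) (tt N2177 F200777) (tt N1670 F9003))
theorem Q1672 : ∀ i, i < 1672 → P i := stepQ 1671 Q1671 (allL N1671 (tt N1204 F9004) (tt N1345 F9005) (tt N2087 (iv F11585)) (tt N2297 (iv F12653)) (tt N1671 F9006) (tt N1202 (iv D1802)) (tt N2298 D2598) (tt N2286 (iv F12601)) (tt N2225 (iv F12331)) (tt N1671 F9007))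
theorem Q1673 : ∀ i, i < 1673 → P i := stepQ 1672 Q1672 (allL N1672 (tt N2296 (iv F12647)) (tt N1672 F9008) (tt N1203 (iv D1803)) (tt N2088 (iv F11589)) (tt N1229 F9009) (tt N2299 D2599) (tt N1211 F9010) (tt N2287 (iv F12606)) (tt N2300 D2600) (tt N1672 F9011))
theorem Q1674 : ∀ i, i < 1674 → P i := stepQ 1673 Q1673 (allL N1673 (tt N2297 (iv F12651)) (tt N1205 F9012) (tt N2299 (iv F12665)) (tt N1204 F9013) (tt N2301 D2601) (tt N1203 (iv D1804)) (tt N2302 D2602) (tt N2288 (iv F12610)) (tt N2303 D2603) (tt N1673 F9014))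
theorem Q1675 : ∀ i, i < 1675 → P i := stepQ 1674 Q1674 (allL N1674 (tt N2177 F200772) (tt N1206 F9015) (tt N2300 (iv F12668)) (tt N2228 (iv F12337)) (tt N1231 F9016) (tt N2303 (iv F12680)) (tt N1213 F9017) (tt N2289 (iv F12615)) (tt N1203 (iv D1805)) (tt N2181 F200773))
theorem Q1676 : ∀ i, i < 1676 → P i := stepQ 1675 Q1675 (allL N1675 (tt N2298 (iv F12659)) (tt N1207 F9018) (tt N2091 (iv F11600)) (tt N2302 (iv F12676)) (tt N1675 F9019) (tt N1214 F9020) (tt N1204 (iv D1806)) (tt N2304 D2605) (tt N2229 (iv F12343)) (tt N1675 F9021))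
theorem Q1677 : ∀ i, i < 1677 → P i := stepQ 1676 Q1676 (allL N1676 (tt N1348 F9022) (tt N2301 (iv F12671)) (tt N1676 F9023) (tt N1676 F9024) (tt N1205 (iv D1807)) (tt N1232 F9025) (tt N2305 D2606) (tt N2291 (iv F12624)) (tt N2306 D2607) (tt N1676 F9026))
theorem Q1678 : ∀ i, i < 1678 → P i := stepQ 1677 Q1677 (allL N1677 (tt N1349 F9027) (tt N2302 (iv F12675)) (tt N1677 F9028) (tt N1207 F9029) (tt N2305 (iv F12692)) (tt N1215 F9030) (tt N1205 (iv D1808)) (tt N2307 D2608) (tt N2308 D2609) (tt N1677 F9031))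
theorem Q1679 : ∀ i, i < 1679 → P i := stepQ 1678 Q1678 (allL N1678 (tt N1350 F9032) (tt N2303 (iv F12679)) (tt N1678 F9033) (tt N2232 (iv F12351)) (tt N2306 (iv F12697)) (tt N1206 F9034) (tt N2308 (iv F12707)) (tt N2293 (iv F12634)) (tt N1205 (iv D1809)) (tt N2309 D2610))
theorem Q1680 : ∀ i, i < 1680 → P i := stepQ 1679 Q1679 (allL N1679 (tt N1269 F200339) (tt N2181 (iv F200484)) (tt N1679 F9036) (tt N2233 (iv F12354)) (tt N1234 F9037) (tt N2309 (iv F12710)) (tt N1217 F9038) (tt N2294 (iv F12639)) (tt N1679 F9039) (tt N1206 (iv D1810)))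
theorem Q1681 : ∀ i, i < 1681 → P i := stepQ 1680 Q1680 (allL N1680 (tt N1351 F9040) (tt N2304 (iv F12685)) (tt N1208 F9041) (tt N2307 (iv F12701)) (tt N1680 F9042) (tt N1218 F9043) (tt N2295 (iv F12645)) (tt N1207 (iv D1811)) (tt N2234 (iv F12361)) (tt N1680 F9044))
theorem Q1682 : ∀ i, i < 1682 → P i := stepQ 1681 Q1681 (allL N1681 (tt N1211 F9045) (tt N2001 F201516) (tt N1209 (iv D1812)) (tt N2097 (iv F11628)) (tt N1235 F9046) (tt N2310 D2612) (tt N2296 (iv F12649)) (tt N1681 F9047) (tt N2003 F201517) (tt N1681 F9048))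
theorem Q1683 : ∀ i, i < 1683 → P i := stepQ 1682 Q1682 (allL N1682 (tt N1212 F9049) (tt N1352 F9050) (tt N2310 (iv F12718)) (tt N1210 F9051) (tt N1682 F9052) (tt N1209 (iv D1813)) (tt N2311 D2614) (tt N1682 F9053) (tt N2190 F201563) (tt N1682 F9054))
theorem Q1684 : ∀ i, i < 1684 → P i := stepQ 1683 Q1683 (allL N1683 (tt N1214 F9059) (tt N1353 F9060) (tt N2100 (iv F11643)) (tt N2311 (iv F12728)) (tt N1219 F9061) (tt N2298 (iv F12662)) (tt N1210 (iv D1815)) (tt N2312 D2617) (tt N2248 (iv F12426)) (tt N1683 F9062))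
theorem Q1685 : ∀ i, i < 1685 → P i := stepQ 1684 Q1684 (allL N1684 (tt N2310 (iv F12717)) (tt N1684 F9063) (tt N1212 F9064) (tt N2101 (iv F11648)) (tt N1684 F9065) (tt N1211 (iv D1816)) (tt N2313 D2618) (tt N1684 F9066) (tt N2314 D2619) (tt N1684 F9067))
theorem Q1686 : ∀ i, i < 1686 → P i := stepQ 1685 Q1685 (allL N1685 (tt N2003 F201514) (tt N1685 F9068) (tt N1213 F9069) (tt N2315 D2620) (tt N1236 F9070) (tt N2314 (iv F12753)) (tt N2300 (iv F12670)) (tt N1685 F9071) (tt N1211 (iv D1817)) (tt N2007 F201515))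
theorem Q1687 : ∀ i, i < 1687 → P i := stepQ 1686 Q1686 (allL N1686 (tt N2311 (iv F12726)) (tt N1215 F9072) (tt N2313 (iv F12747)) (tt N1214 F9073) (tt N1686 F9074) (tt N2302 (iv F12677)) (tt N1212 (iv D1818)) (tt N2316 D2622) (tt N2317 D2623) (tt N1686 F9075))
theorem Q1688 : ∀ i, i < 1688 → P i := stepQ 1687 Q1687 (allL N1687 (tt N2190 F201554) (tt N1216 F9076) (tt N2314 (iv F12751)) (tt N2253 (iv F12439)) (tt N1687 F9077) (tt N1213 F9078) (tt N2317 (iv F12769)) (tt N1687 F9079) (tt N1212 (iv D1819)) (tt N2195 F201555))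
theorem Q1689 : ∀ i, i < 1689 → P i := stepQ 1688 Q1688 (allL N1688 (tt N2312 (iv F12741)) (tt N1218 F9084) (tt N2107 (iv F11671)) (tt N2316 (iv F12763)) (tt N1220 F9085) (tt N2304 (iv F12687)) (tt N1688 F9086) (tt N1214 (iv D1821)) (tt N2254 (iv F12449)) (tt N1688 F9087))
theorem Q1690 : ∀ i, i < 1690 → P i := stepQ 1689 Q1689 (allL N1689 (tt N1356 F9088) (tt N2316 (iv F12762)) (tt N1689 F9089) (tt N1218 F9090) (tt N1689 F9091) (tt N2307 (iv F12702)) (tt N1689 F9092) (tt N1215 (iv D1822)) (tt N2318 D2625) (tt N1689 F9093))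
theorem Q1691 : ∀ i, i < 1691 → P i := stepQ 1690 Q1690 (allL N1690 (tt N1357 F9094) (tt N2317 (iv F12767)) (tt N1690 F9095) (tt N2258 (iv F12462)) (tt N1690 F9096) (tt N2308 (iv F12706)) (tt N1216 F9097) (tt N2318 (iv F12779)) (tt N1215 (iv D1823)) (tt N2319 D2626))
theorem Q1692 : ∀ i, i < 1692 → P i := stepQ 1691 Q1691 (allL N1691 (tt N1278 F200920) (tt N2195 (iv F201136)) (tt N1691 F9099) (tt N2259 (iv F12465)) (tt N1691 F9100) (tt N1217 F9101) (tt N2319 (iv F12783)) (tt N1691 F9102) (tt N1691 F9103) (tt N1216 (iv D1824)))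
theorem Q1693 : ∀ i, i < 1693 → P i := stepQ 1692 Q1692 (allL N1692 (tt N1220 F9104) (tt N1358 F9105) (tt N2117 (iv F11724)) (tt N1692 F9106) (tt N2312 (iv F12743)) (tt N1692 F9107) (tt N1692 F9108) (tt N1219 (iv D1825)) (tt N2278 (iv F12564)) (tt N1692 F9109))
theorem Q1694 : ∀ i, i < 1694 → P i := stepQ 1693 Q1693 (allL N1693 (tt N1222 F9110) (tt N1359 F9111) (tt N2320 D2627) (tt N1221 (iv D1826)) (tt N2285 (iv F12594)) (tt N2321 D2628) (tt N1693 F9112) (tt N1227 F9113) (tt N2168 F200872) (tt N1693 F9114))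
theorem Q1695 : ∀ i, i < 1695 → P i := stepQ 1694 Q1694 (allL N1694 (tt N1223 F9115) (tt N1360 F9116) (tt N1694 F9117) (tt N2321 (iv F12792)) (tt N1694 F9118) (tt N1221 (iv D1827)) (tt N2322 D2630) (tt N1228 F9119) (tt N1694 F9120) (tt N1694 F9121))
theorem Q1696 : ∀ i, i < 1696 → P i := stepQ 1695 Q1695 (allL N1695 (tt N2320 (iv F12785)) (tt N1695 F9122) (tt N1222 (iv D1828)) (tt N1695 F9123) (tt N2287 (iv F12604)) (tt N2323 D2631) (tt N1695 F9124) (tt N1229 F9125) (tt N2324 D2632) (tt N1695 F9126))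
theorem Q1697 : ∀ i, i < 1697 → P i := stepQ 1696 Q1696 (allL N1696 (tt N2321 (iv F12790)) (tt N1224 F9127) (tt N2323 (iv F12809)) (tt N1223 F9128) (tt N2325 D2633) (tt N1222 (iv D1829)) (tt N2326 D2634) (tt N1230 F9129) (tt N2327 D2635) (tt N1696 F9130))
theorem Q1698 : ∀ i, i < 1698 → P i := stepQ 1697 Q1697 (allL N1697 (tt N2168 F200862) (tt N1225 F9131) (tt N2324 (iv F12814)) (tt N1697 F9132) (tt N2289 (iv F12613)) (tt N2327 (iv F12828)) (tt N1697 F9133) (tt N1231 F9134) (tt N1222 (iv D1830)) (tt N2171 F200863))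
theorem Q1699 : ∀ i, i < 1699 → P i := stepQ 1698 Q1698 (allL N1698 (tt N2322 (iv F12800)) (tt N1226 F9135) (tt N1698 F9136) (tt N2326 (iv F12822)) (tt N1698 F9137) (tt N1698 F9138) (tt N1223 (iv D1831)) (tt N1698 F9139) (tt N1698 F9140) (tt N1698 F9141))
theorem Q1700 : ∀ i, i < 1700 → P i := stepQ 1699 Q1699 (allL N1699 (tt N1363 F9142) (tt N2325 (iv F12817)) (tt N1699 F9143) (tt N1699 F9144) (tt N1224 (iv D1832)) (tt N2291 (iv F12623)) (tt N2328 D2637) (tt N1232 F9145) (tt N2329 D2638) (tt N1699 F9146))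
theorem Q1701 : ∀ i, i < 1701 → P i := stepQ 1700 Q1700 (allL N1700 (tt N1364 F9147) (tt N2326 (iv F12821)) (tt N1700 F9148) (tt N1226 F9149) (tt N2328 (iv F12838)) (tt N1700 F9150) (tt N1224 (iv D1833)) (tt N1700 F9151) (tt N2330 D2639) (tt N1700 F9152))
theorem Q1702 : ∀ i, i < 1702 → P i := stepQ 1701 Q1701 (allL N1701 (tt N1365 F9153) (tt N2327 (iv F12826)) (tt N1701 F9154) (tt N1701 F9155) (tt N2329 (iv F12843)) (tt N1225 F9156) (tt N2330 (iv F12849)) (tt N1233 F9157) (tt N1224 (iv D1834)) (tt N2331 D2640))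
theorem Q1703 : ∀ i, i < 1703 → P i := stepQ 1702 Q1702 (allL N1702 (tt N1263 F200413) (tt N2171 (iv F200544)) (tt N1702 F9159) (tt N1702 F9160) (tt N2294 (iv F12637)) (tt N2331 (iv F12854)) (tt N1702 F9161) (tt N1234 F9162) (tt N1702 F9163) (tt N1225 (iv D1835)))
theorem Q1704 : ∀ i, i < 1704 → P i := stepQ 1703 Q1703 (allL N1703 (tt N1229 F9164) (tt N1991 F201558) (tt N1227 (iv D1836)) (tt N1703 F9165) (tt N2296 (iv F12648)) (tt N2332 D2642) (tt N1235 F9166) (tt N2320 (iv F12788)) (tt N1993 F201559) (tt N1703 F9167))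
theorem Q1705 : ∀ i, i < 1705 → P i := stepQ 1704 Q1704 (allL N1704 (tt N1230 F9168) (tt N1366 F9169) (tt N2332 (iv F12863)) (tt N1228 F9170) (tt N2333 D2644) (tt N1227 (iv D1837)) (tt N1704 F9171) (tt N2321 (iv F12793)) (tt N2159 F201561) (tt N1704 F9172))
theorem Q1706 : ∀ i, i < 1706 → P i := stepQ 1705 Q1705 (allL N1705 (tt N2332 (iv F12862)) (tt N1705 F9177) (tt N1230 F9178) (tt N1705 F9179) (tt N2334 D2647) (tt N1229 (iv D1839)) (tt N1705 F9180) (tt N2323 (iv F12811)) (tt N2335 D2648) (tt N1705 F9181))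
theorem Q1707 : ∀ i, i < 1707 → P i := stepQ 1706 Q1706 (allL N1706 (tt N1993 F201548) (tt N1706 F9182) (tt N1231 F9183) (tt N2336 D2649) (tt N2300 (iv F12669)) (tt N2335 (iv F12891)) (tt N1236 F9184) (tt N2324 (iv F12816)) (tt N1229 (iv D1840)) (tt N1996 F201549))
theorem Q1708 : ∀ i, i < 1708 → P i := stepQ 1707 Q1707 (allL N1707 (tt N2333 (iv F12870)) (tt N1232 F9185) (tt N2334 (iv F12886)) (tt N1707 F9186) (tt N1230 (iv D1841)) (tt N2301 (iv F12673)) (tt N1707 F9187) (tt N2325 (iv F12819)) (tt N2337 D2651) (tt N1707 F9188))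
theorem Q1709 : ∀ i, i < 1709 → P i := stepQ 1708 Q1708 (allL N1708 (tt N2159 F201550) (tt N1233 F9189) (tt N2335 (iv F12890)) (tt N1708 F9190) (tt N2337 (iv F12902)) (tt N1231 F9191) (tt N1708 F9192) (tt N2327 (iv F12829)) (tt N1230 (iv D1842)) (tt N2162 F201551))
theorem Q1710 : ∀ i, i < 1710 → P i := stepQ 1709 Q1709 (allL N1709 (tt N1368 F9197) (tt N2337 (iv F12901)) (tt N1709 F9198) (tt N2338 D2653) (tt N1233 F9199) (tt N2306 (iv F12698)) (tt N1709 F9200) (tt N2329 (iv F12844)) (tt N1232 (iv D1844)) (tt N2339 D2654))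
theorem Q1711 : ∀ i, i < 1711 → P i := stepQ 1710 Q1710 (allL N1710 (tt N1257 F200924) (tt N2162 (iv F201132)) (tt N1710 F9202) (tt N1710 F9203) (tt N2339 (iv F12915)) (tt N1234 F9204) (tt N1710 F9205) (tt N2331 (iv F12855)) (tt N1710 F9206) (tt N1233 (iv D1845)))
theorem Q1712 : ∀ i, i < 1712 → P i := stepQ 1711 Q1711 (allL N1711 (tt N1904 F202374) (tt N1711 F9223) (tt N1711 F9224) (tt N1236 (iv D1849)) (tt N2340 D2658) (tt N1711 F9225) (tt N2336 (iv F12895)) (tt N1711 F9226) (tt N1711 F9227) (tt N1907 F202375))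
theorem Q1713 : ∀ i, i < 1713 → P i := stepQ 1712 Q1712 (allL N1712 (tt N1712 F9233) (tt N1237 (iv D1851)) (tt N1712 F9234) (tt N1712 F9235) (tt N2341 D2660) (tt N1712 F9236) (tt N1242 F9237) (tt N1712 F9238) (tt N1712 F9239) (tt N1375 F202482))
theorem Q1714 : ∀ i, i < 1714 → P i := stepQ 1713 Q1713 (allL N1713 (tt N2138 (iv F11829)) (tt N2341 (iv F12943)) (tt N1238 F9240) (tt N2342 D2662) (tt N1237 (iv D1852)) (tt N2343 D2663) (tt N1243 F9241) (tt N1713 F9242) (tt N1713 F9243) (tt N2344 D2664))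
theorem Q1715 : ∀ i, i < 1715 → P i := stepQ 1714 Q1714 (allL N1714 (tt N2139 (iv F11835)) (tt N1375 (iv F202090)) (tt N1239 F9244) (tt N1714 F9245) (tt N2344 (iv F12965)) (tt N1714 F9246) (tt N1244 F9247) (tt N1714 F9248) (tt N1372 F201681) (tt N1237 (iv D1853)))
theorem Q1716 : ∀ i, i < 1716 → P i := stepQ 1715 Q1715 (allL N1715 (tt N2140 (iv F11842)) (tt N1715 F9249) (tt N2343 (iv F12959)) (tt N1715 F9250) (tt N1715 F9251) (tt N1238 (iv D1854)) (tt N1715 F9252) (tt N1715 F9253) (tt N1715 F9254) (tt N2345 D2666))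
theorem Q1717 : ∀ i, i < 1717 → P i := stepQ 1716 Q1716 (allL N1716 (tt N2141 (iv F11848)) (tt N1716 F9255) (tt N2344 (iv F12964)) (tt N1716 F9256) (tt N1239 F9257) (tt N2345 (iv F12976)) (tt N1245 F9258) (tt N1716 F9259) (tt N2346 D2667) (tt N1238 (iv D1855)))
theorem Q1718 : ∀ i, i < 1718 → P i := stepQ 1717 Q1717 (allL N1717 (tt N2142 (iv F11853)) (tt N1717 F9260) (tt N1372 (iv F201359)) (tt N2347 D2668) (tt N2346 (iv F12980)) (tt N1717 F9261) (tt N1246 F9262) (tt N1717 F9263) (tt N1239 (iv D1856)) (tt N1717 F9264))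
theorem Q1719 : ∀ i, i < 1719 → P i := stepQ 1718 Q1718 (allL N1718 (tt N2143 (iv F11858)) (tt N1718 F9265) (tt N2348 D2669) (tt N1240 (iv D1857)) (tt N2349 D2670) (tt N1718 F9266) (tt N1247 F9267) (tt N1718 F9268) (tt N2347 (iv F12988)) (tt N1241 F9269))
theorem Q1720 : ∀ i, i < 1720 → P i := stepQ 1719 Q1719 (allL N1719 (tt N2144 (iv F11863)) (tt N2350 D2671) (tt N1241 (iv D1858)) (tt N1719 F9270) (tt N2351 D2672) (tt N1719 F9271) (tt N1248 F9272) (tt N1719 F9273) (tt N1719 F9274) (tt N2348 (iv F12994)))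
theorem Q1721 : ∀ i, i < 1721 → P i := stepQ 1720 Q1720 (allL N1720 (tt N2145 (iv F11869)) (tt N1720 F9275) (tt N2351 (iv F13006)) (tt N1720 F9276) (tt N1241 (iv D1859)) (tt N2352 D2673) (tt N1249 F9277) (tt N1720 F9278) (tt N1720 F9279) (tt N2349 (iv F12999)))
theorem Q1722 : ∀ i, i < 1722 → P i := stepQ 1721 Q1721 (allL N1721 (tt N1721 F9280) (tt N1243 F9281) (tt N1721 F9282) (tt N2353 D2674) (tt N1242 (iv D1860)) (tt N1721 F9283) (tt N2341 (iv F12945)) (tt N1250 F9284) (tt N1721 F9285) (tt N1374 F202485))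
theorem Q1723 : ∀ i, i < 1723 → P i := stepQ 1722 Q1722 (allL N1722 (tt N2146 (iv F11874)) (tt N2353 (iv F13016)) (tt N1722 F9292) (tt N1243 (iv D1862)) (tt N1722 F9293) (tt N1722 F9294) (tt N2342 (iv F12957)) (tt N1251 F9295) (tt N2354 D2677) (tt N2355 D2678))
theorem Q1724 : ∀ i, i < 1724 → P i := stepQ 1723 Q1723 (allL N1723 (tt N2147 (iv F11880)) (tt N1374 (iv F202092)) (tt N1245 F9296) (tt N2355 (iv F13038)) (tt N1244 F9297) (tt N1723 F9298) (tt N2344 (iv F12966)) (tt N1252 F9299) (tt N1371 F201683) (tt N1243 (iv D1863)))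
theorem Q1725 : ∀ i, i < 1725 → P i := stepQ 1724 Q1724 (allL N1724 (tt N2148 (iv F11892)) (tt N1724 F9304) (tt N1371 (iv F201360)) (tt N2356 D2681) (tt N1246 F9305) (tt N1724 F9306) (tt N2346 (iv F12981)) (tt N1253 F9307) (tt N1245 (iv D1865)) (tt N1724 F9308))
theorem Q1726 : ∀ i, i < 1726 → P i := stepQ 1725 Q1725 (allL N1725 (tt N2149 (iv F11897)) (tt N1725 F9309) (tt N1361 (iv F200646)) (tt N1246 (iv D1866)) (tt N2357 D2683) (tt N1260 F9310) (tt N2347 (iv F12986)) (tt N1254 F9311) (tt N1247 F9312) (tt N1725 F9313))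
theorem Q1727 : ∀ i, i < 1727 → P i := stepQ 1726 Q1726 (allL N1726 (tt N2150 (iv F11902)) (tt N1365 (iv F200628)) (tt N1247 (iv D1867)) (tt N1726 F9314) (tt N2358 D2685) (tt N1261 F9315) (tt N2348 (iv F12992)) (tt N1255 F9316) (tt N1361 (iv F200647)) (tt N1248 F9317))
theorem Q1728 : ∀ i, i < 1728 → P i := stepQ 1727 Q1727 (allL N1727 (tt N2151 (iv F11907)) (tt N1727 F9318) (tt N2358 (iv F13069)) (tt N1727 F9319) (tt N1247 (iv D1868)) (tt N2359 D2686) (tt N2349 (iv F12997)) (tt N1256 F9320) (tt N2357 (iv F13062)) (tt N1249 F9321))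
theorem Q1729 : ∀ i, i < 1729 → P i := stepQ 1728 Q1728 (allL N1728 (tt N2331 (iv F200645)) (tt N1248 (iv D1869)) (tt N1728 F9322) (tt N1728 F9323) (tt N2360 D2688) (tt N1263 F9324) (tt N2350 (iv F13003)) (tt N1257 F9325) (tt N1728 F9326) (tt N1365 (iv F200629)))
theorem Q1730 : ∀ i, i < 1730 → P i := stepQ 1729 Q1729 (allL N1729 (tt N2153 (iv F11915)) (tt N2360 (iv F13082)) (tt N1249 F9327) (tt N2361 D2689) (tt N1248 (iv D1870)) (tt N2362 D2690) (tt N2351 (iv F13007)) (tt N1258 F9328) (tt N1729 F9329) (tt N2358 (iv F13071)))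
theorem Q1731 : ∀ i, i < 1731 → P i := stepQ 1730 Q1730 (allL N1730 (tt N2154 (iv F11919)) (tt N1730 F9330) (tt N2362 (iv F13089)) (tt N1730 F9331) (tt N1265 F9332) (tt N1249 (iv D1871)) (tt N2363 D2691) (tt N1259 F9333) (tt N1730 F9334) (tt N2359 (iv F13076)))
theorem Q1732 : ∀ i, i < 1732 → P i := stepQ 1731 Q1731 (allL N1731 (tt N1731 F9335) (tt N1251 F9336) (tt N2364 D2692) (tt N1250 (iv D1872)) (tt N1731 F9337) (tt N1731 F9338) (tt N1731 F9339) (tt N2353 (iv F13019)) (tt N2365 D2693) (tt N1377 F203428))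
theorem Q1733 : ∀ i, i < 1733 → P i := stepQ 1732 Q1732 (allL N1732 (tt N2155 (iv F11924)) (tt N2365 (iv F13104)) (tt N1732 F9352) (tt N1732 F9353) (tt N1732 F9354) (tt N1732 F9355) (tt N1732 F9356) (tt N2354 (iv F13036)) (tt N1251 (iv D1875)) (tt N1732 F195327))
theorem Q1734 : ∀ i, i < 1734 → P i := stepQ 1733 Q1733 (allL N1733 (tt N2156 (iv F11931)) (tt N1377 (iv F202986)) (tt N1733 F9357) (tt N1252 F9358) (tt N1733 F9359) (tt N1733 F9360) (tt N1733 F9361) (tt N2355 (iv F13041)) (tt N1733 F195160) (tt N1251 (iv D1876)))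
theorem Q1735 : ∀ i, i < 1735 → P i := stepQ 1734 Q1734 (allL N1734 (tt N2157 (iv F11951)) (tt N1734 F9371) (tt N1734 F194890) (tt N1253 (iv D1879)) (tt N2366 D2703) (tt N1734 F9372) (tt N1734 F9373) (tt N2356 (iv F13053)) (tt N1734 F9374) (tt N1734 F9375))
theorem Q1736 : ∀ i, i < 1736 → P i := stepQ 1735 Q1735 (allL N1735 (tt N2158 (iv F11961)) (tt N1735 F9380) (tt N1367 (iv F201282)) (tt N2366 (iv F13153)) (tt N1254 (iv D1881)) (tt N2367 D2706) (tt N1735 F9381) (tt N2357 (iv F13061)) (tt N1256 F9382) (tt N1735 F9383))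
theorem Q1737 : ∀ i, i < 1737 → P i := stepQ 1736 Q1736 (allL N1736 (tt N2160 (iv F11969)) (tt N1368 (iv F201279)) (tt N1256 F9389) (tt N2368 D2709) (tt N1255 (iv D1883)) (tt N2369 D2710) (tt N1736 F9390) (tt N2358 (iv F13070)) (tt N1367 (iv F201283)) (tt N1258 F9391))
theorem Q1738 : ∀ i, i < 1738 → P i := stepQ 1737 Q1737 (allL N1737 (tt N2161 (iv F11973)) (tt N1737 F9392) (tt N2369 (iv F13183)) (tt N1737 F9393) (tt N1268 F9394) (tt N1256 (iv D1884)) (tt N2370 D2711) (tt N2359 (iv F13075)) (tt N2367 (iv F13168)) (tt N1259 F9395))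
theorem Q1739 : ∀ i, i < 1739 → P i := stepQ 1738 Q1738 (allL N1738 (tt N2339 (iv F201288)) (tt N1258 F9401) (tt N1738 F9402) (tt N2371 D2713) (tt N1257 (iv D1886)) (tt N2372 D2714) (tt N1738 F9403) (tt N2360 (iv F13084)) (tt N1738 F9404) (tt N1368 (iv F201280)))
theorem Q1740 : ∀ i, i < 1740 → P i := stepQ 1739 Q1739 (allL N1739 (tt N2164 (iv F11985)) (tt N2371 (iv F13195)) (tt N1739 F9405) (tt N1258 (iv D1887)) (tt N1739 F9406) (tt N2373 D2715) (tt N1739 F9407) (tt N2361 (iv F13088)) (tt N2374 D2716) (tt N2368 (iv F13182)))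
theorem Q1741 : ∀ i, i < 1741 → P i := stepQ 1740 Q1740 (allL N1740 (tt N2165 (iv F11989)) (tt N2372 (iv F13198)) (tt N1259 F9408) (tt N2373 (iv F13203)) (tt N1271 F9409) (tt N1258 (iv D1888)) (tt N2375 D2717) (tt N2362 (iv F13091)) (tt N1740 F9410) (tt N2369 (iv F13185)))
theorem Q1742 : ∀ i, i < 1742 → P i := stepQ 1741 Q1741 (allL N1741 (tt N2166 (iv F11993)) (tt N1741 F9411) (tt N2375 (iv F13208)) (tt N1741 F9412) (tt N1272 F9413) (tt N1741 F9414) (tt N1259 (iv D1889)) (tt N2376 D2718) (tt N1741 F9415) (tt N2370 (iv F13190)))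
theorem Q1743 : ∀ i, i < 1743 → P i := stepQ 1742 Q1742 (allL N1742 (tt N2167 (iv F12009)) (tt N1742 F9431) (tt N1338 (iv F200195)) (tt N1742 F9432) (tt N1260 (iv D1893)) (tt N2377 D2724) (tt N1742 F9433) (tt N1266 F9434) (tt N1262 F9435) (tt N1742 F9436))
theorem Q1744 : ∀ i, i < 1744 → P i := stepQ 1743 Q1743 (allL N1743 (tt N2169 (iv F12019)) (tt N1341 (iv F200180)) (tt N1262 F9442) (tt N2378 D2727) (tt N1261 (iv D1895)) (tt N2379 D2728) (tt N1743 F9443) (tt N1267 F9444) (tt N1338 (iv F200196)) (tt N1264 F9445))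
theorem Q1745 : ∀ i, i < 1745 → P i := stepQ 1744 Q1744 (allL N1744 (tt N2170 (iv F12024)) (tt N1744 F9446) (tt N2379 (iv F13263)) (tt N1285 F9447) (tt N2359 (iv F13074)) (tt N1262 (iv D1896)) (tt N2380 D2729) (tt N1268 F9448) (tt N2377 (iv F13246)) (tt N1265 F9449))
theorem Q1746 : ∀ i, i < 1746 → P i := stepQ 1745 Q1745 (allL N1745 (tt N2294 (iv F200194)) (tt N1264 F9455) (tt N1745 F9456) (tt N2381 D2731) (tt N1263 (iv D1898)) (tt N2382 D2732) (tt N1745 F9457) (tt N1269 F9458) (tt N1745 F9459) (tt N1341 (iv F200181)))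
theorem Q1747 : ∀ i, i < 1747 → P i := stepQ 1746 Q1746 (allL N1746 (tt N2173 (iv F12037)) (tt N2381 (iv F13275)) (tt N1288 F9460) (tt N1264 (iv D1899)) (tt N1746 F9461) (tt N2383 D2733) (tt N1746 F9462) (tt N1270 F9463) (tt N2384 D2734) (tt N2378 (iv F13262)))
theorem Q1748 : ∀ i, i < 1748 → P i := stepQ 1747 Q1747 (allL N1747 (tt N2174 (iv F12042)) (tt N2382 (iv F13279)) (tt N1265 F9464) (tt N2383 (iv F13284)) (tt N2362 (iv F13090)) (tt N1264 (iv D1900)) (tt N2385 D2735) (tt N1271 F9465) (tt N1747 F9466) (tt N2379 (iv F13265)))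
theorem Q1749 : ∀ i, i < 1749 → P i := stepQ 1748 Q1748 (allL N1748 (tt N2175 (iv F12046)) (tt N1748 F9467) (tt N2385 (iv F13291)) (tt N1290 F9468) (tt N2363 (iv F13095)) (tt N1748 F9469) (tt N1265 (iv D1901)) (tt N2386 D2736) (tt N1748 F9470) (tt N2380 (iv F13269)))
theorem Q1750 : ∀ i, i < 1750 → P i := stepQ 1749 Q1749 (allL N1749 (tt N2176 (iv F12069)) (tt N1749 F9492) (tt N1346 (iv F200550)) (tt N1749 F9493) (tt N2367 (iv F13167)) (tt N1266 (iv D1907)) (tt N2387 D2746) (tt N2377 (iv F13245)) (tt N1268 F9494) (tt N1749 F9495))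
theorem Q1751 : ∀ i, i < 1751 → P i := stepQ 1750 Q1750 (allL N1750 (tt N2178 (iv F12080)) (tt N1300 (iv F200178)) (tt N1293 F9504) (tt N1267 (iv D1910)) (tt N1750 F9505) (tt N2388 D2750) (tt N1274 F9506) (tt N2378 (iv F13261)) (tt N1297 (iv F200176)) (tt N1270 F9507))
theorem Q1752 : ∀ i, i < 1752 → P i := stepQ 1751 Q1751 (allL N1751 (tt N2179 (iv F12085)) (tt N1350 (iv F200548)) (tt N1268 F9508) (tt N2388 (iv F13353)) (tt N2369 (iv F13184)) (tt N1267 (iv D1911)) (tt N2389 D2752) (tt N2379 (iv F13264)) (tt N1346 (iv F200551)) (tt N1271 F9509))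
theorem Q1753 : ∀ i, i < 1753 → P i := stepQ 1752 Q1752 (allL N1752 (tt N2180 (iv F12088)) (tt N1752 F9510) (tt N2389 (iv F13358)) (tt N1295 F9511) (tt N2370 (iv F13188)) (tt N1276 F9512) (tt N1268 (iv D1912)) (tt N2390 D2753) (tt N2387 (iv F13339)) (tt N1272 F9513))
theorem Q1754 : ∀ i, i < 1754 → P i := stepQ 1753 Q1753 (allL N1753 (tt N2233 (iv F200183)) (tt N1270 F9518) (tt N2391 D2756) (tt N1269 (iv D1914)) (tt N1753 F9519) (tt N2392 D2757) (tt N1277 F9520) (tt N2381 (iv F13278)) (tt N2393 D2758) (tt N1300 (iv F200179)))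
theorem Q1755 : ∀ i, i < 1755 → P i := stepQ 1754 Q1754 (allL N1754 (tt N2309 (iv F200563)) (tt N1271 F9521) (tt N1754 F9522) (tt N2392 (iv F13376)) (tt N2372 (iv F13200)) (tt N1269 (iv D1915)) (tt N2394 D2759) (tt N2382 (iv F13281)) (tt N1754 F9523) (tt N1350 (iv F200549)))
theorem Q1756 : ∀ i, i < 1756 → P i := stepQ 1755 Q1755 (allL N1755 (tt N2184 (iv F12101)) (tt N2392 (iv F13375)) (tt N1299 F9524) (tt N1271 F9525) (tt N2395 D2760) (tt N1270 (iv D1916)) (tt N2396 D2761) (tt N2383 (iv F13285)) (tt N2397 D2762) (tt N2388 (iv F13354)))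
theorem Q1757 : ∀ i, i < 1757 → P i := stepQ 1756 Q1756 (allL N1756 (tt N2185 (iv F12104)) (tt N2393 (iv F13377)) (tt N1300 F9526) (tt N1756 F9527) (tt N1756 F9528) (tt N2397 (iv F13392)) (tt N1280 F9529) (tt N2384 (iv F13290)) (tt N1270 (iv D1917)) (tt N2391 (iv F200174)))
theorem Q1758 : ∀ i, i < 1758 → P i := stepQ 1757 Q1757 (allL N1757 (tt N2186 (iv F12109)) (tt N2394 (iv F13381)) (tt N1272 F9530) (tt N2396 (iv F13388)) (tt N2375 (iv F13209)) (tt N1281 F9531) (tt N1271 (iv D1918)) (tt N2398 D2764) (tt N1757 F9532) (tt N2389 (iv F13360)))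
theorem Q1759 : ∀ i, i < 1759 → P i := stepQ 1758 Q1758 (allL N1758 (tt N2187 (iv F12113)) (tt N1758 F9533) (tt N2398 (iv F13397)) (tt N1302 F9534) (tt N2376 (iv F13214)) (tt N1282 F9535) (tt N2386 (iv F13297)) (tt N1272 (iv D1919)) (tt N1758 F9536) (tt N2390 (iv F13364)))
theorem Q1760 : ∀ i, i < 1760 → P i := stepQ 1759 Q1759 (allL N1759 (tt N2188 (iv F12154)) (tt N1759 F9581) (tt N1354 (iv F201274)) (tt N1759 F9582) (tt N1759 F9583) (tt N2387 (iv F13338)) (tt N1273 (iv D1929)) (tt N2399 D2779) (tt N1276 F9584) (tt N1759 F9585))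
theorem Q1761 : ∀ i, i < 1761 → P i := stepQ 1760 Q1760 (allL N1760 (tt N2191 (iv F12171)) (tt N1316 (iv F200625)) (tt N1306 F9599) (tt N1275 F9600) (tt N2400 D2786) (tt N1274 (iv D1933)) (tt N2401 D2787) (tt N1760 F9601) (tt N1312 (iv F200623)) (tt N1279 F9602))
theorem Q1762 : ∀ i, i < 1762 → P i := stepQ 1761 Q1761 (allL N1761 (tt N2192 (iv F12180)) (tt N1357 (iv F201272)) (tt N1276 F9606) (tt N2401 (iv F13502)) (tt N1761 F9607) (tt N2389 (iv F13359)) (tt N1275 (iv D1935)) (tt N2402 D2790) (tt N1354 (iv F201275)) (tt N1281 F9608))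
theorem Q1763 : ∀ i, i < 1763 → P i := stepQ 1762 Q1762 (allL N1762 (tt N2193 (iv F12184)) (tt N1762 F9609) (tt N2402 (iv F13511)) (tt N1309 F9610) (tt N1762 F9611) (tt N2390 (iv F13363)) (tt N1762 F9612) (tt N1276 (iv D1936)) (tt N2399 (iv F13469)) (tt N1282 F9613))
theorem Q1764 : ∀ i, i < 1764 → P i := stepQ 1763 Q1763 (allL N1763 (tt N2203 (iv F200542)) (tt N1307 F200377) (tt N1277 (iv D1939)) (tt N1763 F9623) (tt N1763 F9624) (tt N2403 D2795) (tt N2391 (iv F13374)) (tt N1763 F9625) (tt N1304 (iv F200172)) (tt N1280 F200378))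
theorem Q1765 : ∀ i, i < 1765 → P i := stepQ 1764 Q1764 (allL N1764 (tt N2259 (iv F200627)) (tt N1279 F9626) (tt N2403 (iv F13531)) (tt N1278 F9627) (tt N2404 D2797) (tt N1277 (iv D1940)) (tt N2405 D2798) (tt N1764 F9628) (tt N2406 D2799) (tt N1316 (iv F200626)))
theorem Q1766 : ∀ i, i < 1766 → P i := stepQ 1765 Q1765 (allL N1765 (tt N2244 (iv F200197)) (tt N1280 F9629) (tt N1304 (iv F200171)) (tt N1765 F9630) (tt N1765 F9631) (tt N2406 (iv F13546)) (tt N2393 (iv F13380)) (tt N1765 F9632) (tt N1277 (iv D1941)) (tt N1307 (iv F200170)))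
theorem Q1767 : ∀ i, i < 1767 → P i := stepQ 1766 Q1766 (allL N1766 (tt N2319 (iv F201238)) (tt N1281 F9633) (tt N1766 F9634) (tt N2405 (iv F13543)) (tt N1766 F9635) (tt N2394 (iv F13383)) (tt N1278 (iv D1942)) (tt N2407 D2801) (tt N1766 F9636) (tt N1357 (iv F201273)))
theorem Q1768 : ∀ i, i < 1768 → P i := stepQ 1767 Q1767 (allL N1767 (tt N2200 (iv F12211)) (tt N2404 (iv F13538)) (tt N1314 F9637) (tt N1767 F9638) (tt N1279 (iv D1943)) (tt N1767 F9639) (tt N2408 D2802) (tt N1767 F9640) (tt N2409 D2803) (tt N2400 (iv F13500)))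
theorem Q1769 : ∀ i, i < 1769 → P i := stepQ 1768 Q1768 (allL N1768 (tt N2201 (iv F12216)) (tt N2405 (iv F13542)) (tt N1315 F9641) (tt N1281 F9642) (tt N2408 (iv F13559)) (tt N2396 (iv F13389)) (tt N1279 (iv D1944)) (tt N2410 D2804) (tt N2411 D2805) (tt N2401 (iv F13503)))
theorem Q1770 : ∀ i, i < 1770 → P i := stepQ 1769 Q1769 (allL N1769 (tt N2202 (iv F12219)) (tt N2406 (iv F13544)) (tt N1316 F9643) (tt N1769 F9644) (tt N2409 (iv F13561)) (tt N1280 F9645) (tt N2411 (iv F13569)) (tt N1769 F9646) (tt N1279 (iv D1945)) (tt N2403 (iv F200621)))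
theorem Q1771 : ∀ i, i < 1771 → P i := stepQ 1770 Q1770 (allL N1770 (tt N2204 (iv F12229)) (tt N2407 (iv F13552)) (tt N1282 F9651) (tt N2410 (iv F13565)) (tt N1770 F9652) (tt N2398 (iv F13398)) (tt N1770 F9653) (tt N1281 (iv D1947)) (tt N1770 F9654) (tt N2402 (iv F13514)))
theorem Q1772 : ∀ i, i < 1772 → P i := stepQ 1771 Q1771 (allL N1771 (tt N1283 (iv D1948)) (tt N2205 (iv F12234)) (tt N1771 F9655) (tt N1771 F9656) (tt N2412 D2807) (tt N1771 F9657) (tt N1771 F9658) (tt N1291 F9659) (tt N1771 F9660) (tt N1286 F9661))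
theorem Q1773 : ∀ i, i < 1773 → P i := stepQ 1772 Q1772 (allL N1772 (tt N2412 (iv F13574)) (tt N1284 F9662) (tt N1772 F9663) (tt N2413 D2808) (tt N1283 (iv D1949)) (tt N2414 D2809) (tt N1772 F9664) (tt N1292 F9665) (tt N1772 F9666) (tt N1287 F9667))
theorem Q1774 : ∀ i, i < 1774 → P i := stepQ 1773 Q1773 (allL N1773 (tt N2207 (iv F12246)) (tt N2413 (iv F13580)) (tt N2378 (iv F13258)) (tt N1284 (iv D1950)) (tt N1773 F9668) (tt N2415 D2810) (tt N1773 F9669) (tt N1293 F9670) (tt N2416 D2811) (tt N1288 F9671))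
theorem Q1775 : ∀ i, i < 1775 → P i := stepQ 1774 Q1774 (allL N1774 (tt N2208 (iv F12251)) (tt N2414 (iv F13585)) (tt N1285 F9672) (tt N2415 (iv F13591)) (tt N1774 F9673) (tt N1284 (iv D1951)) (tt N2417 D2812) (tt N1294 F9674) (tt N1774 F9675) (tt N1289 F9676))
theorem Q1776 : ∀ i, i < 1776 → P i := stepQ 1775 Q1775 (allL N1775 (tt N2209 (iv F12257)) (tt N1775 F9677) (tt N2417 (iv F13598)) (tt N2380 (iv F13267)) (tt N1775 F9678) (tt N1775 F9679) (tt N1285 (iv D1952)) (tt N2418 D2813) (tt N1775 F9680) (tt N1290 F9681))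
theorem Q1777 : ∀ i, i < 1777 → P i := stepQ 1776 Q1776 (allL N1776 (tt N1287 F9682) (tt N2210 (iv F12263)) (tt N1776 F9683) (tt N2419 D2814) (tt N1286 (iv D1953)) (tt N2420 D2815) (tt N1776 F9684) (tt N1296 F9685) (tt N1337 F9686) (tt N2412 (iv F13579)))
theorem Q1778 : ∀ i, i < 1778 → P i := stepQ 1777 Q1777 (allL N1777 (tt N2419 (iv F13609)) (tt N1288 F9687) (tt N2416 F200033) (tt N1287 (iv D1954)) (tt N1777 F9688) (tt N2421 D2817) (tt N1777 F9689) (tt N1297 F9690) (tt N2378 F200034) (tt N2413 (iv F13584)))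
theorem Q1779 : ∀ i, i < 1779 → P i := stepQ 1778 Q1778 (allL N1778 (tt N2420 (iv F13613)) (tt N1289 F9691) (tt N1778 F9692) (tt N2421 (iv F13623)) (tt N1778 F9693) (tt N1287 (iv D1955)) (tt N2422 D2819) (tt N1298 F9694) (tt N1339 F9695) (tt N2414 (iv F13590)))
theorem Q1780 : ∀ i, i < 1780 → P i := stepQ 1779 Q1779 (allL N1779 (tt N2213 (iv F12275)) (tt N2421 (iv F13622)) (tt N2383 (iv F13283)) (tt N1289 F9696) (tt N2423 D2820) (tt N1288 (iv D1956)) (tt N2424 D2821) (tt N1299 F9697) (tt N2425 D2822) (tt N2415 (iv F13593)))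
theorem Q1781 : ∀ i, i < 1781 → P i := stepQ 1780 Q1780 (allL N1780 (tt N2214 (iv F12278)) (tt N2378 F200035) (tt N2384 (iv F13286)) (tt N1341 F9698) (tt N1780 F9699) (tt N2425 (iv F13641)) (tt N1780 F9700) (tt N1300 F9701) (tt N1288 (iv D1957)) (tt N2381 F200036))
theorem Q1782 : ∀ i, i < 1782 → P i := stepQ 1781 Q1781 (allL N1781 (tt N2215 (iv F12283)) (tt N2422 (iv F13630)) (tt N1290 F9702) (tt N2424 (iv F13638)) (tt N1781 F9703) (tt N1781 F9704) (tt N1289 (iv D1958)) (tt N2426 D2824) (tt N1342 F9705) (tt N2417 (iv F13602)))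
theorem Q1783 : ∀ i, i < 1783 → P i := stepQ 1782 Q1782 (allL N1782 (tt N2216 (iv F12288)) (tt N1782 F9706) (tt N2426 (iv F13647)) (tt N2386 (iv F13295)) (tt N1782 F9707) (tt N1782 F9708) (tt N1302 F9709) (tt N1290 (iv D1959)) (tt N1343 F9710) (tt N2418 (iv F13608)))
theorem Q1784 : ∀ i, i < 1784 → P i := stepQ 1783 Q1783 (allL N1783 (tt N1292 F9711) (tt N2217 (iv F12294)) (tt N1783 F9712) (tt N2427 D2825) (tt N1291 (iv D1960)) (tt N2428 D2826) (tt N1303 F9713) (tt N2412 (iv F13577)) (tt N1783 F9714) (tt N1296 F9715))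
theorem Q1785 : ∀ i, i < 1785 → P i := stepQ 1784 Q1784 (allL N1784 (tt N2427 (iv F13652)) (tt N1293 F9716) (tt N2393 F200028) (tt N1292 (iv D1961)) (tt N1784 F9717) (tt N2429 D2828) (tt N1304 F9718) (tt N2413 (iv F13583)) (tt N2391 F200029) (tt N1297 F9719))
theorem Q1786 : ∀ i, i < 1786 → P i := stepQ 1785 Q1785 (allL N1785 (tt N2428 (iv F13656)) (tt N1294 F9720) (tt N1785 F9721) (tt N2429 (iv F13666)) (tt N1785 F9722) (tt N1292 (iv D1962)) (tt N2430 D2830) (tt N2414 (iv F13588)) (tt N1785 F9723) (tt N1298 F9724))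
theorem Q1787 : ∀ i, i < 1787 → P i := stepQ 1786 Q1786 (allL N1786 (tt N2220 (iv F12306)) (tt N2429 (iv F13665)) (tt N2388 (iv F13352)) (tt N1294 F9725) (tt N2431 D2831) (tt N1293 (iv D1963)) (tt N2432 D2832) (tt N2415 (iv F13592)) (tt N2433 D2833) (tt N1299 F9726))
theorem Q1788 : ∀ i, i < 1788 → P i := stepQ 1787 Q1787 (allL N1787 (tt N2221 (iv F12309)) (tt N2391 (iv F200173)) (tt N1297 (iv F200175)) (tt N1787 F9727) (tt N1787 F9728) (tt N2433 (iv F13685)) (tt N1307 F9729) (tt N2416 (iv F13597)) (tt N1293 (iv D1964)) (tt N2393 F200027))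
theorem Q1789 : ∀ i, i < 1789 → P i := stepQ 1788 Q1788 (allL N1788 (tt N2222 (iv F12313)) (tt N2430 (iv F13672)) (tt N1295 F9730) (tt N2432 (iv F13681)) (tt N1788 F9731) (tt N1308 F9732) (tt N1294 (iv D1965)) (tt N2434 D2835) (tt N1788 F9733) (tt N1301 F9734))
theorem Q1790 : ∀ i, i < 1790 → P i := stepQ 1789 Q1789 (allL N1789 (tt N2223 (iv F12319)) (tt N1789 F9735) (tt N2434 (iv F13690)) (tt N2390 (iv F13362)) (tt N1789 F9736) (tt N1309 F9737) (tt N2418 (iv F13606)) (tt N1295 (iv D1966)) (tt N1789 F9738) (tt N1302 F9739))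
theorem Q1791 : ∀ i, i < 1791 → P i := stepQ 1790 Q1790 (allL N1790 (tt N1297 F9740) (tt N2224 (iv F12325)) (tt N2221 F200316) (tt N1296 (iv D1967)) (tt N1790 F9741) (tt N2435 D2837) (tt N1310 F9742) (tt N2419 (iv F13612)) (tt N2178 F200317) (tt N2427 (iv F13655)))
theorem Q1792 : ∀ i, i < 1792 → P i := stepQ 1791 Q1791 (allL N1791 (tt N1298 F9743) (tt N2225 (iv F12329)) (tt N1791 F9744) (tt N2435 (iv F13700)) (tt N1791 F9745) (tt N1296 (iv D1968)) (tt N2436 D2839) (tt N2420 (iv F13616)) (tt N1345 F9746) (tt N2428 (iv F13660)))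
theorem Q1793 : ∀ i, i < 1793 → P i := stepQ 1792 Q1792 (allL N1792 (tt N2435 (iv F13699)) (tt N1299 F9750) (tt N2433 F200360) (tt N1298 F9751) (tt N2437 D2842) (tt N1297 (iv D1970)) (tt N2438 D2843) (tt N2421 (iv F13624)) (tt N2388 F200361) (tt N2429 (iv F13667)))
theorem Q1794 : ∀ i, i < 1794 → P i := stepQ 1793 Q1793 (allL N1793 (tt N2436 (iv F13705)) (tt N1301 F9756) (tt N1793 F9757) (tt N2438 (iv F13719)) (tt N1793 F9758) (tt N1313 F9759) (tt N1298 (iv D1972)) (tt N2439 D2846) (tt N1347 F9760) (tt N2430 (iv F13677)))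
theorem Q1795 : ∀ i, i < 1795 → P i := stepQ 1794 Q1794 (allL N1794 (tt N2230 (iv F12344)) (tt N2437 (iv F13715)) (tt N2395 (iv F13385)) (tt N1794 F9761) (tt N1299 (iv D1973)) (tt N1794 F9762) (tt N2440 D2847) (tt N2423 (iv F13637)) (tt N2441 D2848) (tt N2431 (iv F13680)))
theorem Q1796 : ∀ i, i < 1796 → P i := stepQ 1795 Q1795 (allL N1795 (tt N2231 (iv F12347)) (tt N2438 (iv F13718)) (tt N2396 (iv F13387)) (tt N1301 F9763) (tt N2440 (iv F13734)) (tt N1315 F9764) (tt N1299 (iv D1974)) (tt N2442 D2849) (tt N2443 D2850) (tt N2432 (iv F13683)))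
theorem Q1797 : ∀ i, i < 1797 → P i := stepQ 1796 Q1796 (allL N1796 (tt N2232 (iv F12350)) (tt N2388 F200367) (tt N2397 (iv F13390)) (tt N1350 F9765) (tt N2441 (iv F13735)) (tt N1300 F9766) (tt N2443 (iv F13741)) (tt N2425 (iv F13642)) (tt N1299 (iv D1975)) (tt N2392 F200368))
theorem Q1798 : ∀ i, i < 1798 → P i := stepQ 1797 Q1797 (allL N1797 (tt N2234 (iv F12357)) (tt N2439 (iv F13728)) (tt N1302 F9770) (tt N2442 (iv F13737)) (tt N1797 F9771) (tt N1317 F9772) (tt N2426 (iv F13650)) (tt N1301 (iv D1977)) (tt N1351 F9773) (tt N2434 (iv F13694)))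
theorem Q1799 : ∀ i, i < 1799 → P i := stepQ 1798 Q1798 (allL N1798 (tt N1304 F9774) (tt N2235 (iv F12363)) (tt N2244 F200381) (tt N1303 (iv D1978)) (tt N1798 F9775) (tt N2444 D2853) (tt N2427 (iv F13654)) (tt N1798 F9776) (tt N2203 (iv F200543)) (tt N1310 F9777))
theorem Q1800 : ∀ i, i < 1800 → P i := stepQ 1799 Q1799 (allL N1799 (tt N1305 F9778) (tt N2236 (iv F12368)) (tt N1799 F9779) (tt N2444 (iv F13750)) (tt N1319 F9780) (tt N1303 (iv D1979)) (tt N2445 D2855) (tt N1799 F9781) (tt N1799 F9782) (tt N1311 F9783))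
theorem Q1801 : ∀ i, i < 1801 → P i := stepQ 1800 Q1800 (allL N1800 (tt N2444 (iv F13749)) (tt N1306 F9788) (tt N2406 F200375) (tt N1305 F9789) (tt N2446 D2858) (tt N1304 (iv D1981)) (tt N2447 D2859) (tt N1800 F9790) (tt N2403 F200376) (tt N1312 F9791))
theorem Q1802 : ∀ i, i < 1802 → P i := stepQ 1801 Q1801 (allL N1801 (tt N2445 (iv F13757)) (tt N1308 F9796) (tt N1801 F9797) (tt N2447 (iv F13775)) (tt N1323 F9798) (tt N2430 (iv F13675)) (tt N1305 (iv D1983)) (tt N2448 D2862) (tt N1801 F9799) (tt N1313 F9800))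
theorem Q1803 : ∀ i, i < 1803 → P i := stepQ 1802 Q1802 (allL N1802 (tt N2241 (iv F12388)) (tt N2446 (iv F13769)) (tt N2400 (iv F13496)) (tt N1324 F9801) (tt N1306 (iv D1984)) (tt N1802 F9802) (tt N2449 D2863) (tt N1802 F9803) (tt N2450 D2864) (tt N1314 F9804))
theorem Q1804 : ∀ i, i < 1804 → P i := stepQ 1803 Q1803 (allL N1803 (tt N2242 (iv F12393)) (tt N2447 (iv F13774)) (tt N2401 (iv F13501)) (tt N1308 F9805) (tt N2449 (iv F13793)) (tt N2432 (iv F13682)) (tt N1306 (iv D1985)) (tt N2451 D2865) (tt N2452 D2866) (tt N1315 F9806))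
theorem Q1805 : ∀ i, i < 1805 → P i := stepQ 1804 Q1804 (allL N1804 (tt N2243 (iv F12396)) (tt N2403 (iv F200620)) (tt N1312 (iv F200622)) (tt N1804 F9807) (tt N2450 (iv F13795)) (tt N1307 F9808) (tt N2452 (iv F13802)) (tt N1804 F9809) (tt N1306 (iv D1986)) (tt N2406 F200374))
theorem Q1806 : ∀ i, i < 1806 → P i := stepQ 1805 Q1805 (allL N1805 (tt N2245 (iv F12405)) (tt N2448 (iv F13786)) (tt N1309 F9814) (tt N2451 (iv F13798)) (tt N1327 F9815) (tt N2434 (iv F13692)) (tt N1805 F9816) (tt N1308 (iv D1988)) (tt N1805 F9817) (tt N1317 F9818))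
theorem Q1807 : ∀ i, i < 1807 → P i := stepQ 1806 Q1806 (allL N1806 (tt N1312 F9823) (tt N2247 (iv F12415)) (tt N2243 F200864) (tt N1311 F9824) (tt N2453 D2871) (tt N1310 (iv D1990)) (tt N2454 D2872) (tt N1806 F9825) (tt N2191 F200865) (tt N2444 (iv F13752)))
theorem Q1808 : ∀ i, i < 1808 → P i := stepQ 1807 Q1807 (allL N1807 (tt N1313 F9830) (tt N2248 (iv F12424)) (tt N1807 F9831) (tt N2454 (iv F13823)) (tt N1330 F9832) (tt N2436 (iv F13708)) (tt N1311 (iv D1992)) (tt N2455 D2875) (tt N1353 F9833) (tt N2445 (iv F13761)))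
theorem Q1809 : ∀ i, i < 1809 → P i := stepQ 1808 Q1808 (allL N1808 (tt N2453 (iv F13818)) (tt N1314 F9840) (tt N2450 F200963) (tt N1332 F9841) (tt N1312 (iv D1995)) (tt N1808 F9842) (tt N2456 D2881) (tt N1808 F9843) (tt N2400 F200964) (tt N2446 (iv F13773)))
theorem Q1810 : ∀ i, i < 1810 → P i := stepQ 1809 Q1809 (allL N1809 (tt N2454 (iv F13822)) (tt N1315 F9844) (tt N2452 F200934) (tt N1313 F9845) (tt N2456 (iv F13853)) (tt N2438 (iv F13720)) (tt N1312 (iv D1996)) (tt N2457 D2883) (tt N2401 F200935) (tt N2447 (iv F13776)))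
theorem Q1811 : ∀ i, i < 1811 → P i := stepQ 1810 Q1810 (allL N1810 (tt N2455 (iv F13832)) (tt N1317 F9854) (tt N1810 F9855) (tt N2457 (iv F13860)) (tt N1334 F9856) (tt N2439 (iv F13731)) (tt N1810 F9857) (tt N1313 (iv D1999)) (tt N1355 F9858) (tt N2448 (iv F13791)))
theorem Q1812 : ∀ i, i < 1812 → P i := stepQ 1811 Q1811 (allL N1811 (tt N2255 (iv F12450)) (tt N2456 (iv F13851)) (tt N2408 (iv F13557)) (tt N1335 F9859) (tt N1315 F9860) (tt N2458 D2886) (tt N1314 (iv D2000)) (tt N2459 D2887) (tt N2460 D2888) (tt N2449 (iv F13794)))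
theorem Q1813 : ∀ i, i < 1813 → P i := stepQ 1812 Q1812 (allL N1812 (tt N2256 (iv F12453)) (tt N2400 F200966) (tt N2409 (iv F13560)) (tt N1812 F9861) (tt N1316 F9862) (tt N1812 F9863) (tt N2460 (iv F13876)) (tt N1812 F9864) (tt N1314 (iv D2001)) (tt N2404 F200967))
theorem Q1814 : ∀ i, i < 1814 → P i := stepQ 1813 Q1813 (allL N1813 (tt N2257 (iv F12458)) (tt N2457 (iv F13859)) (tt N2410 (iv F13564)) (tt N1317 F9865) (tt N2459 (iv F13872)) (tt N2442 (iv F13738)) (tt N1813 F9866) (tt N1315 (iv D2002)) (tt N2461 D2890) (tt N2451 (iv F13800)))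
theorem Q1815 : ∀ i, i < 1815 → P i := stepQ 1814 Q1814 (allL N1814 (tt N2258 (iv F12461)) (tt N2401 F200939) (tt N2411 (iv F13567)) (tt N1357 F9867) (tt N2460 (iv F13875)) (tt N2443 (iv F13740)) (tt N1316 F9868) (tt N2461 (iv F13883)) (tt N1315 (iv D2003)) (tt N2405 F200940))
theorem Q1816 : ∀ i, i < 1816 → P i := stepQ 1815 Q1815 (allL N1815 (tt N1320 F9872) (tt N2462 D2892) (tt N1318 (iv D2005)) (tt N1815 F9873) (tt N1815 F9874) (tt N2463 D2893) (tt N1815 F9875) (tt N1815 F9876) (tt N2464 D2894) (tt N1328 F9877))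
theorem Q1817 : ∀ i, i < 1817 → P i := stepQ 1816 Q1816 (allL N1816 (tt N1321 F9878) (tt N2261 (iv F12474)) (tt N2463 (iv F13893)) (tt N1319 F9879) (tt N2465 D2895) (tt N1318 (iv D2006)) (tt N2466 D2896) (tt N1816 F9880) (tt N2467 D2897) (tt N1329 F9881))
theorem Q1818 : ∀ i, i < 1818 → P i := stepQ 1817 Q1817 (allL N1817 (tt N1322 F9882) (tt N2262 (iv F12479)) (tt N2464 (iv F13898)) (tt N1817 F9883) (tt N1817 F9884) (tt N2467 (iv F13913)) (tt N1817 F9885) (tt N1817 F9886) (tt N1318 (iv D2007)) (tt N1817 F9887))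
theorem Q1819 : ∀ i, i < 1819 → P i := stepQ 1818 Q1818 (allL N1818 (tt N1323 F9888) (tt N2263 (iv F12486)) (tt N1818 F9889) (tt N2466 (iv F13908)) (tt N2445 (iv F13759)) (tt N1818 F9890) (tt N1319 (iv D2008)) (tt N2468 D2898) (tt N1818 F9891) (tt N1330 F9892))
theorem Q1820 : ∀ i, i < 1820 → P i := stepQ 1819 Q1819 (allL N1819 (tt N2463 (iv F13892)) (tt N1819 F9893) (tt N1321 F9894) (tt N1819 F9895) (tt N2469 D2899) (tt N1320 (iv D2009)) (tt N2470 D2900) (tt N1819 F9896) (tt N2471 D2901) (tt N1331 F9897))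
theorem Q1821 : ∀ i, i < 1821 → P i := stepQ 1820 Q1820 (allL N1820 (tt N2464 (iv F13897)) (tt N1820 F9898) (tt N1322 F9899) (tt N2472 D2902) (tt N1820 F9900) (tt N2471 (iv F13934)) (tt N1820 F9901) (tt N1820 F9902) (tt N1320 (iv D2010)) (tt N1820 F9903))
theorem Q1822 : ∀ i, i < 1822 → P i := stepQ 1821 Q1821 (allL N1821 (tt N2465 (iv F13903)) (tt N1324 F9904) (tt N2469 (iv F13923)) (tt N2446 (iv F13770)) (tt N1321 (iv D2011)) (tt N1821 F9905) (tt N2473 D2903) (tt N1821 F9906) (tt N2474 D2904) (tt N1332 F9907))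
theorem Q1823 : ∀ i, i < 1823 → P i := stepQ 1822 Q1822 (allL N1822 (tt N2466 (iv F13907)) (tt N1325 F9908) (tt N2470 (iv F13928)) (tt N1323 F9909) (tt N2473 (iv F13944)) (tt N1822 F9910) (tt N1321 (iv D2012)) (tt N2475 D2905) (tt N2476 D2906) (tt N1333 F9911))
theorem Q1824 : ∀ i, i < 1824 → P i := stepQ 1823 Q1823 (allL N1823 (tt N2467 (iv F13911)) (tt N1326 F9912) (tt N2471 (iv F13933)) (tt N1823 F9913) (tt N2474 (iv F13947)) (tt N1322 F9914) (tt N2476 (iv F13959)) (tt N1823 F9915) (tt N1321 (iv D2013)) (tt N1823 F9916))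
theorem Q1825 : ∀ i, i < 1825 → P i := stepQ 1824 Q1824 (allL N1824 (tt N2468 (iv F13916)) (tt N1327 F9917) (tt N1824 F9918) (tt N2475 (iv F13952)) (tt N2448 (iv F13788)) (tt N1824 F9919) (tt N1824 F9920) (tt N1323 (iv D2014)) (tt N1824 F9921) (tt N1334 F9922))
theorem Q1826 : ∀ i, i < 1826 → P i := stepQ 1825 Q1825 (allL N1825 (tt N2270 (iv F12518)) (tt N2473 (iv F13943)) (tt N1825 F9923) (tt N2449 (iv F13792)) (tt N1325 F9924) (tt N2477 D2907) (tt N1324 (iv D2015)) (tt N2478 D2908) (tt N2479 D2909) (tt N1335 F9925))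
theorem Q1827 : ∀ i, i < 1827 → P i := stepQ 1826 Q1826 (allL N1826 (tt N2271 (iv F12522)) (tt N2474 (iv F13946)) (tt N1826 F9926) (tt N2480 D2910) (tt N1326 F9927) (tt N1826 F9928) (tt N2479 (iv F13971)) (tt N1826 F9929) (tt N1324 (iv D2016)) (tt N1826 F9930))
theorem Q1828 : ∀ i, i < 1828 → P i := stepQ 1827 Q1827 (allL N1827 (tt N2272 (iv F12528)) (tt N2475 (iv F13951)) (tt N1827 F9931) (tt N1327 F9932) (tt N2478 (iv F13966)) (tt N1827 F9933) (tt N1827 F9934) (tt N1325 (iv D2017)) (tt N2481 D2911) (tt N1336 F9935))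
theorem Q1829 : ∀ i, i < 1829 → P i := stepQ 1828 Q1828 (allL N1828 (tt N2273 (iv F12534)) (tt N2476 (iv F13956)) (tt N1828 F9936) (tt N1828 F9937) (tt N2479 (iv F13970)) (tt N1828 F9938) (tt N1326 F9939) (tt N2481 (iv F13981)) (tt N1325 (iv D2018)) (tt N1828 F9940))
theorem Q1830 : ∀ i, i < 1830 → P i := stepQ 1829 Q1829 (allL N1829 (tt N1829 F9941) (tt N1328 (iv D2019)) (tt N2274 (iv F12541)) (tt N1829 F9942) (tt N1829 F9943) (tt N2482 D2912) (tt N1829 F9944) (tt N1829 F9945) (tt N1829 F9946) (tt N2462 (iv F13891)))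
theorem Q1831 : ∀ i, i < 1831 → P i := stepQ 1830 Q1830 (allL N1830 (tt N1331 F9947) (tt N2482 (iv F13984)) (tt N1329 F9948) (tt N1830 F9949) (tt N2483 D2913) (tt N1328 (iv D2020)) (tt N2484 D2914) (tt N1830 F9950) (tt N1830 F9951) (tt N2463 (iv F13896)))
theorem Q1832 : ∀ i, i < 1832 → P i := stepQ 1831 Q1831 (allL N1831 (tt N1332 F9952) (tt N2276 (iv F12551)) (tt N2483 (iv F13989)) (tt N2453 (iv F13819)) (tt N1329 (iv D2021)) (tt N1831 F9953) (tt N2485 D2915) (tt N1831 F9954) (tt N1831 F9955) (tt N2465 (iv F13906)))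
theorem Q1833 : ∀ i, i < 1833 → P i := stepQ 1832 Q1832 (allL N1832 (tt N1333 F9956) (tt N2277 (iv F12556)) (tt N2484 (iv F13994)) (tt N1330 F9957) (tt N2485 (iv F13999)) (tt N1832 F9958) (tt N1329 (iv D2022)) (tt N2486 D2916) (tt N1832 F9959) (tt N2466 (iv F13910)))
theorem Q1834 : ∀ i, i < 1834 → P i := stepQ 1833 Q1833 (allL N1833 (tt N1334 F9960) (tt N2278 (iv F12561)) (tt N1833 F9961) (tt N2486 (iv F14002)) (tt N2455 (iv F13834)) (tt N1833 F9962) (tt N1833 F9963) (tt N1330 (iv D2023)) (tt N1358 F9964) (tt N2468 (iv F13921)))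
theorem Q1835 : ∀ i, i < 1835 → P i := stepQ 1834 Q1834 (allL N1834 (tt N2483 (iv F13988)) (tt N1834 F9965) (tt N1332 F9966) (tt N2487 D2917) (tt N1331 (iv D2024)) (tt N1834 F9967) (tt N2488 D2918) (tt N1834 F9968) (tt N1834 F9969) (tt N2469 (iv F13926)))
theorem Q1836 : ∀ i, i < 1836 → P i := stepQ 1835 Q1835 (allL N1835 (tt N2484 (iv F13993)) (tt N1835 F9970) (tt N1333 F9971) (tt N1835 F9972) (tt N2488 (iv F14012)) (tt N1835 F9973) (tt N1331 (iv D2025)) (tt N2489 D2919) (tt N1835 F9974) (tt N2470 (iv F13931)))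
theorem Q1837 : ∀ i, i < 1837 → P i := stepQ 1836 Q1836 (allL N1836 (tt N2485 (iv F13998)) (tt N1335 F9975) (tt N2488 (iv F14011)) (tt N2456 (iv F13852)) (tt N1333 F9976) (tt N2490 D2920) (tt N1332 (iv D2026)) (tt N2491 D2921) (tt N1836 F9977) (tt N2473 (iv F13945)))
theorem Q1838 : ∀ i, i < 1838 → P i := stepQ 1837 Q1837 (allL N1837 (tt N2486 (iv F14001)) (tt N1336 F9978) (tt N2489 (iv F14015)) (tt N1334 F9979) (tt N2491 (iv F14025)) (tt N1837 F9980) (tt N1837 F9981) (tt N1333 (iv D2027)) (tt N1837 F9982) (tt N2475 (iv F13955)))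
theorem Q1839 : ∀ i, i < 1839 → P i := stepQ 1838 Q1838 (allL N1838 (tt N2283 (iv F12582)) (tt N2490 (iv F14020)) (tt N1838 F9983) (tt N2458 (iv F13869)) (tt N1838 F9984) (tt N1335 (iv D2028)) (tt N1838 F9985) (tt N2492 D2922) (tt N1838 F9986) (tt N2477 (iv F13964)))
theorem Q1840 : ∀ i, i < 1840 → P i := stepQ 1839 Q1839 (allL N1839 (tt N2284 (iv F12587)) (tt N2491 (iv F14024)) (tt N1839 F9987) (tt N2459 (iv F13871)) (tt N1336 F9988) (tt N2492 (iv F14030)) (tt N1839 F9989) (tt N1335 (iv D2029)) (tt N1839 F9990) (tt N2478 (iv F13968)))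
theorem Q1841 : ∀ i, i < 1841 → P i := stepQ 1840 Q1840 (allL N1840 (tt N1338 F9991) (tt N2285 (iv F12593)) (tt N2167 F200327) (tt N1337 (iv D2030)) (tt N1359 F9992) (tt N2493 D2924) (tt N1840 F9993) (tt N1344 F9994) (tt N2169 F200328) (tt N1840 F9995))
theorem Q1842 : ∀ i, i < 1842 → P i := stepQ 1841 Q1841 (allL N1841 (tt N1339 F9996) (tt N2286 (iv F12599)) (tt N1841 F9997) (tt N2493 (iv F14039)) (tt N1841 F9998) (tt N1337 (iv D2031)) (tt N2494 D2926) (tt N1345 F9999) (tt N2420 (iv F13617)) (tt N1841 F10000))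
theorem Q1843 : ∀ i, i < 1843 → P i := stepQ 1842 Q1842 (allL N1842 (tt N2493 (iv F14038)) (tt N1340 F10007) (tt N2377 F200331) (tt N1339 F10008) (tt N2495 D2929) (tt N1338 (iv D2033)) (tt N2496 D2930) (tt N1346 F10009) (tt N2379 F200332) (tt N1842 F10010))
theorem Q1844 : ∀ i, i < 1844 → P i := stepQ 1843 Q1843 (allL N1843 (tt N2494 (iv F14046)) (tt N1342 F10015) (tt N1843 F10016) (tt N2496 (iv F14067)) (tt N1843 F10017) (tt N1843 F10018) (tt N1339 (iv D2035)) (tt N2497 D2933) (tt N2422 (iv F13634)) (tt N1843 F10019))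
theorem Q1845 : ∀ i, i < 1845 → P i := stepQ 1844 Q1844 (allL N1844 (tt N2291 (iv F12620)) (tt N2495 (iv F14061)) (tt N1844 F10020) (tt N1844 F10021) (tt N1340 (iv D2036)) (tt N1363 F10022) (tt N2498 D2934) (tt N1348 F10023) (tt N2499 D2935) (tt N1844 F10024))
theorem Q1846 : ∀ i, i < 1846 → P i := stepQ 1845 Q1845 (allL N1845 (tt N2292 (iv F12626)) (tt N2496 (iv F14066)) (tt N1845 F10025) (tt N1342 F10026) (tt N2498 (iv F14086)) (tt N1845 F10027) (tt N1340 (iv D2037)) (tt N2500 D2936) (tt N2501 D2937) (tt N1845 F10028))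
theorem Q1847 : ∀ i, i < 1847 → P i := stepQ 1846 Q1846 (allL N1846 (tt N2293 (iv F12631)) (tt N2379 F200329) (tt N1846 F10029) (tt N2425 (iv F13640)) (tt N2499 (iv F14089)) (tt N1341 F10030) (tt N2501 (iv F14099)) (tt N1350 F10031) (tt N1340 (iv D2038)) (tt N2382 F200330))
theorem Q1848 : ∀ i, i < 1848 → P i := stepQ 1847 Q1847 (allL N1847 (tt N2295 (iv F12641)) (tt N2497 (iv F14078)) (tt N1343 F10037) (tt N2500 (iv F14093)) (tt N1847 F10038) (tt N1847 F10039) (tt N1351 F10040) (tt N1342 (iv D2040)) (tt N2426 (iv F13651)) (tt N1847 F10041))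
theorem Q1849 : ∀ i, i < 1849 → P i := stepQ 1848 Q1848 (allL N1848 (tt N1346 F10047) (tt N2297 (iv F12652)) (tt N2176 F200784) (tt N1345 F10048) (tt N2502 D2942) (tt N1344 (iv D2042)) (tt N2503 D2943) (tt N2493 (iv F14040)) (tt N2179 F200785) (tt N1848 F10049))
theorem Q1850 : ∀ i, i < 1850 → P i := stepQ 1849 Q1849 (allL N1849 (tt N1347 F10053) (tt N2298 (iv F12660)) (tt N1849 F10054) (tt N2503 (iv F14122)) (tt N1849 F10055) (tt N1353 F10056) (tt N1345 (iv D2044)) (tt N2504 D2946) (tt N2436 (iv F13709)) (tt N1849 F10057))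
theorem Q1851 : ∀ i, i < 1851 → P i := stepQ 1850 Q1850 (allL N1850 (tt N2502 (iv F14117)) (tt N1348 F10066) (tt N2367 F200892) (tt N1850 F10067) (tt N1346 (iv D2047)) (tt N1367 F10068) (tt N2505 D2952) (tt N2495 (iv F14064)) (tt N2369 F200893) (tt N1850 F10069))
theorem Q1852 : ∀ i, i < 1852 → P i := stepQ 1851 Q1851 (allL N1851 (tt N2503 (iv F14121)) (tt N1349 F10070) (tt N2387 F200882) (tt N1347 F10071) (tt N2505 (iv F14158)) (tt N1354 F10072) (tt N1346 (iv D2048)) (tt N2506 D2954) (tt N2389 F200883) (tt N1851 F10073))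
theorem Q1853 : ∀ i, i < 1853 → P i := stepQ 1852 Q1852 (allL N1852 (tt N2504 (iv F14131)) (tt N1351 F10080) (tt N1852 F10081) (tt N2506 (iv F14165)) (tt N1852 F10082) (tt N1355 F10083) (tt N2497 (iv F14082)) (tt N1347 (iv D2051)) (tt N2439 (iv F13732)) (tt N1852 F10084))
theorem Q1854 : ∀ i, i < 1854 → P i := stepQ 1853 Q1853 (allL N1853 (tt N2305 (iv F12689)) (tt N2505 (iv F14156)) (tt N1853 F10085) (tt N1853 F10086) (tt N1349 F10087) (tt N1853 F10088) (tt N1348 (iv D2052)) (tt N2507 D2957) (tt N2508 D2958) (tt N1853 F10089))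
theorem Q1855 : ∀ i, i < 1855 → P i := stepQ 1854 Q1854 (allL N1854 (tt N2306 (iv F12695)) (tt N2369 F200889) (tt N1854 F10090) (tt N2509 D2959) (tt N1350 F10091) (tt N1368 F10092) (tt N2508 (iv F14182)) (tt N2499 (iv F14091)) (tt N1348 (iv D2053)) (tt N2372 F200890))
theorem Q1856 : ∀ i, i < 1856 → P i := stepQ 1855 Q1855 (allL N1855 (tt N2307 (iv F12699)) (tt N2506 (iv F14164)) (tt N1855 F10093) (tt N1351 F10094) (tt N2507 (iv F14176)) (tt N1356 F10095) (tt N2500 (iv F14095)) (tt N1349 (iv D2054)) (tt N2510 D2961) (tt N1855 F10096))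
theorem Q1857 : ∀ i, i < 1857 → P i := stepQ 1856 Q1856 (allL N1856 (tt N2308 (iv F12704)) (tt N2389 F200880) (tt N1856 F10097) (tt N2443 (iv F13739)) (tt N2508 (iv F14180)) (tt N1357 F10098) (tt N1350 F10099) (tt N2510 (iv F14191)) (tt N1349 (iv D2055)) (tt N2394 F200881))
theorem Q1858 : ∀ i, i < 1858 → P i := stepQ 1857 Q1857 (allL N1857 (tt N1354 F10118) (tt N2311 (iv F12727)) (tt N2188 F201585) (tt N1353 F10119) (tt N1857 F10120) (tt N2503 (iv F14123)) (tt N1352 (iv D2060)) (tt N2511 D2969) (tt N2192 F201586) (tt N1857 F10121))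
theorem Q1859 : ∀ i, i < 1859 → P i := stepQ 1858 Q1858 (allL N1858 (tt N1355 F10130) (tt N2312 (iv F12742)) (tt N1858 F10131) (tt N2511 (iv F14225)) (tt N1358 F10132) (tt N2504 (iv F14134)) (tt N1858 F10133) (tt N1353 (iv D2063)) (tt N2455 (iv F13836)) (tt N1858 F10134))
theorem Q1860 : ∀ i, i < 1860 → P i := stepQ 1859 Q1859 (allL N1859 (tt N2511 (iv F14224)) (tt N1356 F10153) (tt N2399 F200995) (tt N1355 F10154) (tt N1859 F10155) (tt N2506 (iv F14166)) (tt N1859 F10156) (tt N1354 (iv D2068)) (tt N2402 F200996) (tt N1859 F10157))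
theorem Q1861 : ∀ i, i < 1861 → P i := stepQ 1860 Q1860 (allL N1860 (tt N2318 (iv F12775)) (tt N2402 F200957) (tt N1860 F10166) (tt N2461 (iv F13881)) (tt N1860 F10167) (tt N2510 (iv F14190)) (tt N1860 F10168) (tt N1357 F10169) (tt N1356 (iv D2071)) (tt N2407 F200958))
theorem Q1862 : ∀ i, i < 1862 → P i := stepQ 1861 Q1861 (allL N1861 (tt N1361 F10179) (tt N2321 (iv F12791)) (tt N2149 F200902) (tt N1360 F10180) (tt N2512 D2984) (tt N1359 (iv D2074)) (tt N2513 D2985) (tt N1366 F10181) (tt N2150 F200903) (tt N1861 F10182))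
theorem Q1863 : ∀ i, i < 1863 → P i := stepQ 1862 Q1862 (allL N1862 (tt N1362 F10187) (tt N2322 (iv F12801)) (tt N1370 F10188) (tt N2513 (iv F14296)) (tt N1862 F10189) (tt N1862 F10190) (tt N1360 (iv D2076)) (tt N1862 F10191) (tt N1862 F10192) (tt N1862 F10193))
theorem Q1864 : ∀ i, i < 1864 → P i := stepQ 1863 Q1863 (allL N1863 (tt N2512 (iv F14291)) (tt N1363 F10203) (tt N2357 F200905) (tt N1863 F10204) (tt N1361 (iv D2079)) (tt N2495 (iv F14063)) (tt N2514 D2993) (tt N1367 F10205) (tt N2358 F200906) (tt N1863 F10206))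
theorem Q1865 : ∀ i, i < 1865 → P i := stepQ 1864 Q1864 (allL N1864 (tt N2513 (iv F14295)) (tt N1364 F10207) (tt N2347 F200998) (tt N1362 F10208) (tt N2514 (iv F14335)) (tt N1864 F10209) (tt N1361 (iv D2080)) (tt N1864 F10210) (tt N2348 F200999) (tt N1864 F10211))
theorem Q1866 : ∀ i, i < 1866 → P i := stepQ 1865 Q1865 (allL N1865 (tt N2328 (iv F12835)) (tt N2514 (iv F14333)) (tt N1865 F10221) (tt N1865 F10222) (tt N1364 F10223) (tt N2515 D2997) (tt N1363 (iv D2083)) (tt N1865 F10224) (tt N2516 D2998) (tt N1865 F10225))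
theorem Q1867 : ∀ i, i < 1867 → P i := stepQ 1866 Q1866 (allL N1866 (tt N2329 (iv F12841)) (tt N2358 F200895) (tt N1866 F10226) (tt N2517 D2999) (tt N1365 F10227) (tt N2499 (iv F14090)) (tt N2516 (iv F14358)) (tt N1368 F10228) (tt N1363 (iv D2084)) (tt N2360 F200896))
theorem Q1868 : ∀ i, i < 1868 → P i := stepQ 1867 Q1867 (allL N1867 (tt N2330 (iv F12845)) (tt N2348 F200969) (tt N1867 F10229) (tt N1867 F10230) (tt N2516 (iv F14357)) (tt N1867 F10231) (tt N1365 F10232) (tt N1867 F10233) (tt N1364 (iv D2085)) (tt N2350 F200970))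
theorem Q1869 : ∀ i, i < 1869 → P i := stepQ 1868 Q1868 (allL N1868 (tt N1367 F10251) (tt N2333 (iv F12871)) (tt N2158 F201202) (tt N1868 F10252) (tt N1366 (iv D2090)) (tt N2502 (iv F14119)) (tt N1868 F10253) (tt N2512 (iv F14293)) (tt N2160 F201203) (tt N1868 F10254))
theorem Q1870 : ∀ i, i < 1870 → P i := stepQ 1869 Q1869 (allL N1869 (tt N2338 (iv F12909)) (tt N2368 (iv F201281)) (tt N2518 D3018) (tt N1368 (iv D2099)) (tt N1869 F10287) (tt N2509 (iv F14183)) (tt N1869 F10288) (tt N2517 (iv F14361)) (tt N1869 F10289) (tt N2371 (iv F201269)))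
theorem Q1871 : ∀ i, i < 1871 → P i := stepQ 1870 Q1870 (allL N1870 (tt N1371 F10332) (tt N1870 F10333) (tt N2148 F201679) (tt N1870 F10334) (tt N1369 (iv D2109)) (tt N1870 F10335) (tt N2519 D3034) (tt N1376 F10336) (tt N2147 (iv F202088)) (tt N1870 F10337))
theorem Q1872 : ∀ i, i < 1872 → P i := stepQ 1871 Q1871 (allL N1871 (tt N1372 F10338) (tt N1871 F10339) (tt N2142 F201678) (tt N1370 F10340) (tt N2519 (iv F14519)) (tt N1871 F10341) (tt N1369 (iv D2110)) (tt N1871 F10342) (tt N2139 (iv F202087)) (tt N1871 F10343))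
theorem Q1873 : ∀ i, i < 1873 → P i := stepQ 1872 Q1872 (allL N1872 (tt N2519 (iv F14516)) (tt N1373 F10380) (tt N2346 F201710) (tt N1872 F10381) (tt N1372 F10382) (tt N2520 D3046) (tt N1371 (iv D2118)) (tt N1872 F10383) (tt N2344 (iv F202091)) (tt N1872 F10384))
theorem Q1874 : ∀ i, i < 1874 → P i := stepQ 1873 Q1873 (allL N1873 (tt N1873 F10399) (tt N2520 (iv F14578)) (tt N1873 F10400) (tt N1873 F10401) (tt N1873 F10402) (tt N1373 (iv D2122)) (tt N1873 F10403) (tt N1873 F10404) (tt N2521 D3051) (tt N1873 F10405))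
theorem Q1875 : ∀ i, i < 1875 → P i := stepQ 1874 Q1874 (allL N1874 (tt N1874 F10406) (tt N2344 F202481) (tt N1874 F10407) (tt N2522 D3052) (tt N1375 F10408) (tt N2521 (iv F14607)) (tt N1374 F10409) (tt N1874 F10410) (tt N1373 (iv D2123)) (tt N2341 (iv F202994)))
theorem Q1876 : ∀ i, i < 1876 → P i := stepQ 1875 Q1875 (allL N1875 (tt N1875 F10411) (tt N2355 F202484) (tt N2523 D3054) (tt N1374 (iv D2124)) (tt N1875 F10412) (tt N1875 F10413) (tt N2522 (iv F14612)) (tt N1377 F10414) (tt N1875 F10415) (tt N2353 (iv F202995)))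
theorem Q1877 : ∀ i, i < 1877 → P i := stepQ 1876 Q1876 (allL N1876 (tt N1876 F10504) (tt N1876 F199654) (tt N1377 (iv D2143)) (tt N1876 F10505) (tt N1876 F10506) (tt N1876 F10507) (tt N1876 F10508) (tt N2523 (iv F14625)) (tt N1876 F10509) (tt N2364 (iv F203865)))
theorem Q1878 : ∀ i, i < 1878 → P i := stepQ 1877 Q1877 (allL N1877 (tt N1877 F10550) (tt N1877 F10551) (tt N1877 F10552) (tt N1877 F10553) (tt N1380 F10554) (tt N2524 D3090) (tt N1378 (iv D2152)) (tt N1877 F10555) (tt N1877 F10556) (tt N2525 D3091))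
theorem Q1879 : ∀ i, i < 1879 → P i := stepQ 1878 Q1878 (allL N1878 (tt N1878 F10557) (tt N1878 F10558) (tt N1878 F10559) (tt N1878 F10560) (tt N1381 F10561) (tt N1878 F10562) (tt N2525 (iv F14806)) (tt N1379 F10563) (tt N2526 D3092) (tt N1378 (iv D2153)))
theorem Q1880 : ∀ i, i < 1880 → P i := stepQ 1879 Q1879 (allL N1879 (tt N1879 F10564) (tt N1879 F10565) (tt N1879 F10566) (tt N2527 D3093) (tt N1382 F10567) (tt N1879 F10568) (tt N1879 F10569) (tt N2526 (iv F14813)) (tt N1379 (iv D2154)) (tt N1879 F10570))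
theorem Q1881 : ∀ i, i < 1881 → P i := stepQ 1880 Q1880 (allL N1880 (tt N1880 F10571) (tt N1880 F10572) (tt N1880 F10573) (tt N1388 F10574) (tt N2525 (iv F14805)) (tt N1880 F10575) (tt N1381 F10576) (tt N1880 F10577) (tt N2528 D3094) (tt N1380 (iv D2155)))
theorem Q1882 : ∀ i, i < 1882 → P i := stepQ 1881 Q1881 (allL N1881 (tt N1881 F10578) (tt N1881 F10579) (tt N1881 F10580) (tt N2529 D3095) (tt N2526 (iv F14811)) (tt N1383 F10581) (tt N2528 (iv F14825)) (tt N1382 F10582) (tt N1381 (iv D2156)) (tt N1881 F10583))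
theorem Q1883 : ∀ i, i < 1883 → P i := stepQ 1882 Q1882 (allL N1882 (tt N1882 F10584) (tt N1882 F10585) (tt N2530 D3096) (tt N1382 (iv D2157)) (tt N2531 D3097) (tt N1384 F10586) (tt N1882 F10587) (tt N2529 (iv F14831)) (tt N1392 F10588) (tt N1882 F10589))
theorem Q1884 : ∀ i, i < 1884 → P i := stepQ 1883 Q1883 (allL N1883 (tt N1883 F10590) (tt N1883 F10591) (tt N2532 D3098) (tt N1383 (iv D2158)) (tt N2533 D3099) (tt N2529 (iv F14830)) (tt N1883 F10592) (tt N1384 F10593) (tt N1394 F10594) (tt N1883 F10595))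
theorem Q1885 : ∀ i, i < 1885 → P i := stepQ 1884 Q1884 (allL N1884 (tt N1884 F10596) (tt N2534 D3100) (tt N1384 (iv D2159)) (tt N1884 F10597) (tt N2535 D3101) (tt N2530 (iv F14836)) (tt N1385 F10598) (tt N2532 (iv F14848)) (tt N1396 F10599) (tt N1884 F10600))
theorem Q1886 : ∀ i, i < 1886 → P i := stepQ 1885 Q1885 (allL N1885 (tt N1885 F10601) (tt N1885 F10602) (tt N2535 (iv F14864)) (tt N1885 F10603) (tt N1384 (iv D2160)) (tt N2536 D3102) (tt N1386 F10604) (tt N2533 (iv F14855)) (tt N1397 F10605) (tt N1885 F10606))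
theorem Q1887 : ∀ i, i < 1887 → P i := stepQ 1886 Q1886 (allL N1886 (tt N2537 D3103) (tt N1385 (iv D2161)) (tt N1886 F10607) (tt N1886 F10608) (tt N2538 D3104) (tt N1886 F10609) (tt N2534 (iv F14860)) (tt N1886 F10610) (tt N1400 F10611) (tt N1886 F10612))
theorem Q1888 : ∀ i, i < 1888 → P i := stepQ 1887 Q1887 (allL N1887 (tt N1887 F10613) (tt N2538 (iv F14880)) (tt N1386 F10614) (tt N2539 D3105) (tt N1385 (iv D2162)) (tt N2540 D3106) (tt N2535 (iv F14865)) (tt N1887 F10615) (tt N1401 F10616) (tt N1887 F10617))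
theorem Q1889 : ∀ i, i < 1889 → P i := stepQ 1888 Q1888 (allL N1888 (tt N1888 F10618) (tt N1888 F10619) (tt N2540 (iv F14891)) (tt N1888 F10620) (tt N1888 F10621) (tt N1386 (iv D2163)) (tt N2541 D3107) (tt N1888 F10622) (tt N1402 F10623) (tt N1888 F10624))
theorem Q1890 : ∀ i, i < 1890 → P i := stepQ 1889 Q1889 (allL N1889 (tt N1889 F10625) (tt N1889 F10626) (tt N1441 F10627) (tt N1889 F10628) (tt N1889 F10629) (tt N1889 F10630) (tt N1389 F10631) (tt N1889 F10632) (tt N2542 D3108) (tt N1387 (iv D2164)))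
theorem Q1891 : ∀ i, i < 1891 → P i := stepQ 1890 Q1890 (allL N1890 (tt N1890 F10633) (tt N1890 F10634) (tt N1442 F10635) (tt N2543 D3109) (tt N1890 F10636) (tt N1890 F10637) (tt N1390 F10638) (tt N1890 F10639) (tt N1388 (iv D2165)) (tt N2542 (iv F14909)))
theorem Q1892 : ∀ i, i < 1892 → P i := stepQ 1891 Q1891 (allL N1891 (tt N1891 F10640) (tt N1891 F10641) (tt N1445 F10642) (tt N2544 D3110) (tt N1891 F10643) (tt N1393 F10644) (tt N2542 (iv F14907)) (tt N1391 F10645) (tt N1389 (iv D2166)) (tt N1390 F10646))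
theorem Q1893 : ∀ i, i < 1893 → P i := stepQ 1892 Q1892 (allL N1892 (tt N1892 F10647) (tt N1892 F10648) (tt N2545 D3111) (tt N1390 (iv D2167)) (tt N2546 D3112) (tt N1394 F10649) (tt N2543 (iv F14913)) (tt N1392 F10650) (tt N2529 (iv F14832)) (tt N2544 (iv F14920)))
theorem Q1894 : ∀ i, i < 1894 → P i := stepQ 1893 Q1893 (allL N1893 (tt N1893 F10651) (tt N1893 F10652) (tt N2547 D3113) (tt N1391 (iv D2168)) (tt N2548 D3114) (tt N1395 F10653) (tt N1893 F10654) (tt N2544 (iv F14918)) (tt N1893 F10655) (tt N1392 F10656))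
theorem Q1895 : ∀ i, i < 1895 → P i := stepQ 1894 Q1894 (allL N1894 (tt N1894 F10657) (tt N2549 D3115) (tt N1392 (iv D2169)) (tt N1450 F10658) (tt N2550 D3116) (tt N1396 F10659) (tt N1894 F10660) (tt N2545 (iv F14924)) (tt N2530 (iv F14838)) (tt N2547 (iv F14934)))
theorem Q1896 : ∀ i, i < 1896 → P i := stepQ 1895 Q1895 (allL N1895 (tt N1895 F10661) (tt N1895 F10662) (tt N2550 (iv F14946)) (tt N1895 F10663) (tt N1392 (iv D2170)) (tt N2551 D3117) (tt N1895 F10664) (tt N2546 (iv F14928)) (tt N2531 (iv F14843)) (tt N2548 (iv F14940)))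
theorem Q1897 : ∀ i, i < 1897 → P i := stepQ 1896 Q1896 (allL N1896 (tt N1896 F10665) (tt N1896 F10666) (tt N2552 D3118) (tt N1393 (iv D2171)) (tt N2553 D3119) (tt N2544 (iv F14917)) (tt N1896 F10667) (tt N1395 F10668) (tt N1896 F10669) (tt N1394 F10670))
theorem Q1898 : ∀ i, i < 1898 → P i := stepQ 1897 Q1897 (allL N1897 (tt N1897 F10671) (tt N2554 D3120) (tt N1394 (iv D2172)) (tt N1454 F10672) (tt N2555 D3121) (tt N2545 (iv F14923)) (tt N1897 F10673) (tt N1396 F10674) (tt N2532 (iv F14849)) (tt N2552 (iv F14957)))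
theorem Q1899 : ∀ i, i < 1899 → P i := stepQ 1898 Q1898 (allL N1898 (tt N1898 F10675) (tt N1898 F10676) (tt N2555 (iv F14970)) (tt N1406 F10677) (tt N1394 (iv D2173)) (tt N2556 D3122) (tt N1898 F10678) (tt N1397 F10679) (tt N2533 (iv F14856)) (tt N2553 (iv F14964)))
theorem Q1900 : ∀ i, i < 1900 → P i := stepQ 1899 Q1899 (allL N1899 (tt N1899 F10680) (tt N2557 D3123) (tt N1395 (iv D2174)) (tt N1457 F10681) (tt N2558 D3124) (tt N2547 (iv F14931)) (tt N1398 F10682) (tt N2552 (iv F14955)) (tt N1899 F10683) (tt N1396 F10684))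
theorem Q1901 : ∀ i, i < 1901 → P i := stepQ 1900 Q1900 (allL N1900 (tt N1900 F10685) (tt N1900 F10686) (tt N2558 (iv F14983)) (tt N1409 F10687) (tt N1395 (iv D2175)) (tt N2559 D3125) (tt N1399 F10688) (tt N2553 (iv F14962)) (tt N1900 F10689) (tt N1397 F10690))
theorem Q1902 : ∀ i, i < 1902 → P i := stepQ 1901 Q1901 (allL N1901 (tt N2560 D3126) (tt N1396 (iv D2176)) (tt N1901 F10691) (tt N1459 F10692) (tt N2561 D3127) (tt N2549 (iv F14943)) (tt N1400 F10693) (tt N2554 (iv F14968)) (tt N2534 (iv F14861)) (tt N2557 (iv F14981)))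
theorem Q1903 : ∀ i, i < 1903 → P i := stepQ 1902 Q1902 (allL N1902 (tt N1902 F10694) (tt N2561 (iv F14996)) (tt N1397 F10695) (tt N2562 D3128) (tt N1396 (iv D2177)) (tt N2563 D3129) (tt N1401 F10696) (tt N2555 (iv F14972)) (tt N2535 (iv F14866)) (tt N2558 (iv F14986)))
theorem Q1904 : ∀ i, i < 1904 → P i := stepQ 1903 Q1903 (allL N1903 (tt N1903 F10697) (tt N1903 F10698) (tt N2563 (iv F15004)) (tt N1412 F10699) (tt N2551 (iv F14951)) (tt N1397 (iv D2178)) (tt N2564 D3130) (tt N2556 (iv F14976)) (tt N2536 (iv F14871)) (tt N2559 (iv F14991)))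
theorem Q1905 : ∀ i, i < 1905 → P i := stepQ 1904 Q1904 (allL N1904 (tt N1711 (iv F202374)) (tt N1398 (iv D2179)) (tt N1904 F10700) (tt N1464 F10701) (tt N2565 D3132) (tt N1904 F10702) (tt N2557 (iv F14979)) (tt N1904 F10703) (tt N1904 F10704) (tt N1400 F10705))
theorem Q1906 : ∀ i, i < 1906 → P i := stepQ 1905 Q1905 (allL N1905 (tt N1905 F10706) (tt N2565 (iv F15016)) (tt N1399 F10707) (tt N2566 D3133) (tt N1398 (iv D2180)) (tt N2567 D3134) (tt N2558 (iv F14984)) (tt N1905 F10708) (tt N1905 F10709) (tt N1401 F10710))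
theorem Q1907 : ∀ i, i < 1907 → P i := stepQ 1906 Q1906 (allL N1906 (tt N1906 F10711) (tt N1906 F10712) (tt N2567 (iv F15027)) (tt N1417 F10713) (tt N1906 F10714) (tt N1399 (iv D2181)) (tt N2568 D3135) (tt N1906 F10715) (tt N1906 F10716) (tt N1402 F10717))
theorem Q1908 : ∀ i, i < 1908 → P i := stepQ 1907 Q1907 (allL N1907 (tt N1400 (iv D2182)) (tt N1907 F10718) (tt N1907 F10719) (tt N1467 F10720) (tt N2569 D3136) (tt N1907 F10721) (tt N2560 (iv F14995)) (tt N1907 F10722) (tt N2537 (iv F14878)) (tt N1711 (iv F202375)))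
theorem Q1909 : ∀ i, i < 1909 → P i := stepQ 1908 Q1908 (allL N1908 (tt N2569 (iv F15038)) (tt N1401 F10723) (tt N1908 F10724) (tt N2570 D3137) (tt N1400 (iv D2183)) (tt N2571 D3138) (tt N2561 (iv F14998)) (tt N1908 F10725) (tt N2538 (iv F14883)) (tt N2565 (iv F15020)))
theorem Q1910 : ∀ i, i < 1910 → P i := stepQ 1909 Q1909 (allL N1909 (tt N1909 F10726) (tt N2570 (iv F15042)) (tt N1420 F10727) (tt N1401 (iv D2184)) (tt N1469 F10728) (tt N2572 D3139) (tt N2562 (iv F15002)) (tt N1909 F10729) (tt N2573 D3140) (tt N2566 (iv F15025)))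
theorem Q1911 : ∀ i, i < 1911 → P i := stepQ 1910 Q1910 (allL N1910 (tt N1910 F10730) (tt N2571 (iv F15045)) (tt N1402 F10731) (tt N2572 (iv F15051)) (tt N1910 F10732) (tt N1401 (iv D2185)) (tt N2574 D3141) (tt N1910 F10733) (tt N2540 (iv F14894)) (tt N2567 (iv F15031)))
theorem Q1912 : ∀ i, i < 1912 → P i := stepQ 1911 Q1911 (allL N1911 (tt N1911 F10734) (tt N1911 F10735) (tt N2574 (iv F15058)) (tt N1422 F10736) (tt N1911 F10737) (tt N2564 (iv F15008)) (tt N1402 (iv D2186)) (tt N2575 D3142) (tt N2541 (iv F14900)) (tt N2568 (iv F15037)))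
theorem Q1913 : ∀ i, i < 1913 → P i := stepQ 1912 Q1912 (allL N1912 (tt N1912 F10738) (tt N1912 F10739) (tt N2576 D3143) (tt N1403 (iv D2187)) (tt N2577 D3144) (tt N1912 F10740) (tt N1912 F10741) (tt N1407 F10742) (tt N1404 F10743) (tt N1912 F10744))
theorem Q1914 : ∀ i, i < 1914 → P i := stepQ 1913 Q1913 (allL N1913 (tt N1913 F10745) (tt N2578 D3145) (tt N1404 (iv D2188)) (tt N1472 F10746) (tt N2579 D3146) (tt N1913 F10747) (tt N1913 F10748) (tt N1408 F10749) (tt N2576 (iv F15070)) (tt N1405 F10750))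
theorem Q1915 : ∀ i, i < 1915 → P i := stepQ 1914 Q1914 (allL N1914 (tt N1914 F10751) (tt N1914 F10752) (tt N2579 (iv F15086)) (tt N2553 (iv F14960)) (tt N1404 (iv D2189)) (tt N2580 D3147) (tt N1914 F10753) (tt N1409 F10754) (tt N2577 (iv F15077)) (tt N1406 F10755))
theorem Q1916 : ∀ i, i < 1916 → P i := stepQ 1915 Q1915 (allL N1915 (tt N2581 D3148) (tt N1405 (iv D2190)) (tt N1915 F10756) (tt N1474 F10757) (tt N2582 D3149) (tt N1915 F10758) (tt N1915 F10759) (tt N1410 F10760) (tt N1915 F10761) (tt N2578 (iv F15084)))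
theorem Q1917 : ∀ i, i < 1917 → P i := stepQ 1916 Q1916 (allL N1916 (tt N1916 F10762) (tt N2582 (iv F15102)) (tt N1406 F10763) (tt N2583 D3150) (tt N1405 (iv D2191)) (tt N2584 D3151) (tt N1916 F10764) (tt N1411 F10765) (tt N1916 F10766) (tt N2579 (iv F15089)))
theorem Q1918 : ∀ i, i < 1918 → P i := stepQ 1917 Q1917 (allL N1917 (tt N1917 F10767) (tt N1917 F10768) (tt N2584 (iv F15112)) (tt N2556 (iv F14975)) (tt N1917 F10769) (tt N1406 (iv D2192)) (tt N2585 D3152) (tt N1412 F10770) (tt N1917 F10771) (tt N2580 (iv F15094)))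
theorem Q1919 : ∀ i, i < 1919 → P i := stepQ 1918 Q1918 (allL N1918 (tt N1918 F10772) (tt N2586 D3153) (tt N1407 (iv D2193)) (tt N1918 F10773) (tt N2587 D3154) (tt N1918 F10774) (tt N1413 F10775) (tt N2576 (iv F15069)) (tt N1408 F10776) (tt N1918 F10777))
theorem Q1920 : ∀ i, i < 1920 → P i := stepQ 1919 Q1919 (allL N1919 (tt N1919 F10778) (tt N1919 F10779) (tt N2587 (iv F15128)) (tt N1919 F10780) (tt N1407 (iv D2194)) (tt N2588 D3155) (tt N1414 F10781) (tt N2577 (iv F15076)) (tt N1409 F10782) (tt N1919 F10783))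
theorem Q1921 : ∀ i, i < 1921 → P i := stepQ 1920 Q1920 (allL N1920 (tt N2589 D3156) (tt N1408 (iv D2195)) (tt N1920 F10784) (tt N1477 F10785) (tt N2590 D3157) (tt N1920 F10786) (tt N1415 F10787) (tt N2578 (iv F15083)) (tt N2586 (iv F15125)) (tt N1410 F10788))
theorem Q1922 : ∀ i, i < 1922 → P i := stepQ 1921 Q1921 (allL N1921 (tt N1921 F10789) (tt N2590 (iv F15144)) (tt N1409 F10790) (tt N2591 D3158) (tt N1408 (iv D2196)) (tt N2592 D3159) (tt N1416 F10791) (tt N2579 (iv F15088)) (tt N2587 (iv F15130)) (tt N1411 F10792))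
theorem Q1923 : ∀ i, i < 1923 → P i := stepQ 1922 Q1922 (allL N1922 (tt N1922 F10793) (tt N1922 F10794) (tt N2592 (iv F15153)) (tt N2559 (iv F14989)) (tt N1922 F10795) (tt N1409 (iv D2197)) (tt N2593 D3160) (tt N2580 (iv F15093)) (tt N2588 (iv F15136)) (tt N1412 F10796))
theorem Q1924 : ∀ i, i < 1924 → P i := stepQ 1923 Q1923 (allL N1923 (tt N1410 (iv D2198)) (tt N1923 F10797) (tt N1923 F10798) (tt N1480 F10799) (tt N2594 D3161) (tt N1923 F10800) (tt N1418 F10801) (tt N2581 (iv F15100)) (tt N1923 F10802) (tt N2589 (iv F15143)))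
theorem Q1925 : ∀ i, i < 1925 → P i := stepQ 1924 Q1924 (allL N1924 (tt N2594 (iv F15161)) (tt N1411 F10803) (tt N1924 F10804) (tt N2595 D3162) (tt N1410 (iv D2199)) (tt N2596 D3163) (tt N1419 F10805) (tt N2582 (iv F15105)) (tt N1924 F10806) (tt N2590 (iv F15147)))
theorem Q1926 : ∀ i, i < 1926 → P i := stepQ 1925 Q1925 (allL N1925 (tt N1925 F10807) (tt N2595 (iv F15166)) (tt N2562 (iv F15000)) (tt N1411 (iv D2200)) (tt N1482 F10808) (tt N2597 D3164) (tt N1420 F10809) (tt N2583 (iv F15110)) (tt N2598 D3165) (tt N2591 (iv F15151)))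
theorem Q1927 : ∀ i, i < 1927 → P i := stepQ 1926 Q1926 (allL N1926 (tt N1926 F10810) (tt N2596 (iv F15169)) (tt N1412 F10811) (tt N2597 (iv F15174)) (tt N1926 F10812) (tt N1411 (iv D2201)) (tt N2599 D3166) (tt N2584 (iv F15114)) (tt N1926 F10813) (tt N2592 (iv F15155)))
theorem Q1928 : ∀ i, i < 1928 → P i := stepQ 1927 Q1927 (allL N1927 (tt N1927 F10814) (tt N1927 F10815) (tt N2599 (iv F15180)) (tt N2564 (iv F15007)) (tt N1927 F10816) (tt N1422 F10817) (tt N1412 (iv D2202)) (tt N2600 D3167) (tt N1927 F10818) (tt N2593 (iv F15160)))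
theorem Q1929 : ∀ i, i < 1929 → P i := stepQ 1928 Q1928 (allL N1928 (tt N2601 D3168) (tt N1413 (iv D2203)) (tt N1928 F10819) (tt N1928 F10820) (tt N2602 D3169) (tt N1425 F10821) (tt N2586 (iv F15124)) (tt N1928 F10822) (tt N1415 F10823) (tt N1928 F10824))
theorem Q1930 : ∀ i, i < 1930 → P i := stepQ 1929 Q1929 (allL N1929 (tt N1929 F10825) (tt N2602 (iv F15196)) (tt N1414 F10826) (tt N2603 D3170) (tt N1413 (iv D2204)) (tt N2604 D3171) (tt N2587 (iv F15129)) (tt N1929 F10827) (tt N1416 F10828) (tt N1929 F10829))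
theorem Q1931 : ∀ i, i < 1931 → P i := stepQ 1930 Q1930 (allL N1930 (tt N1930 F10830) (tt N1930 F10831) (tt N2604 (iv F15207)) (tt N1930 F10832) (tt N1427 F10833) (tt N1414 (iv D2205)) (tt N2605 D3172) (tt N1930 F10834) (tt N1417 F10835) (tt N1930 F10836))
theorem Q1932 : ∀ i, i < 1932 → P i := stepQ 1931 Q1931 (allL N1931 (tt N1415 (iv D2206)) (tt N1931 F10837) (tt N1931 F10838) (tt N1485 F10839) (tt N2606 D3173) (tt N1428 F10840) (tt N2589 (iv F15142)) (tt N1931 F10841) (tt N2601 (iv F15194)) (tt N1418 F10842))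
theorem Q1933 : ∀ i, i < 1933 → P i := stepQ 1932 Q1932 (allL N1932 (tt N2606 (iv F15218)) (tt N1416 F10843) (tt N1932 F10844) (tt N2607 D3174) (tt N1415 (iv D2207)) (tt N2608 D3175) (tt N2590 (iv F15146)) (tt N1932 F10845) (tt N2602 (iv F15199)) (tt N1419 F10846))
theorem Q1934 : ∀ i, i < 1934 → P i := stepQ 1933 Q1933 (allL N1933 (tt N1933 F10847) (tt N2607 (iv F15223)) (tt N2566 (iv F15022)) (tt N1416 (iv D2208)) (tt N1487 F10848) (tt N2609 D3176) (tt N2591 (iv F15150)) (tt N1933 F10849) (tt N2610 D3177) (tt N1420 F10850))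
theorem Q1935 : ∀ i, i < 1935 → P i := stepQ 1934 Q1934 (allL N1934 (tt N1934 F10851) (tt N2608 (iv F15227)) (tt N1417 F10852) (tt N2609 (iv F15233)) (tt N1431 F10853) (tt N1416 (iv D2209)) (tt N2611 D3178) (tt N1934 F10854) (tt N2604 (iv F15210)) (tt N1421 F10855))
theorem Q1936 : ∀ i, i < 1936 → P i := stepQ 1935 Q1935 (allL N1935 (tt N1935 F10856) (tt N1935 F10857) (tt N2611 (iv F15240)) (tt N2568 (iv F15034)) (tt N1432 F10858) (tt N2593 (iv F15159)) (tt N1417 (iv D2210)) (tt N2612 D3179) (tt N2605 (iv F15216)) (tt N1422 F10859))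
theorem Q1937 : ∀ i, i < 1937 → P i := stepQ 1936 Q1936 (allL N1936 (tt N1419 F10860) (tt N1936 F10861) (tt N1936 F10862) (tt N2613 D3180) (tt N1418 (iv D2211)) (tt N2614 D3181) (tt N2594 (iv F15164)) (tt N1936 F10863) (tt N1936 F10864) (tt N2606 (iv F15222)))
theorem Q1938 : ∀ i, i < 1938 → P i := stepQ 1937 Q1937 (allL N1937 (tt N2613 (iv F15248)) (tt N1420 F10865) (tt N2615 D3182) (tt N1419 (iv D2212)) (tt N1491 F10866) (tt N2616 D3183) (tt N2595 (iv F15168)) (tt N1937 F10867) (tt N2617 D3184) (tt N2607 (iv F15226)))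
theorem Q1939 : ∀ i, i < 1939 → P i := stepQ 1938 Q1938 (allL N1938 (tt N2614 (iv F15252)) (tt N1421 F10868) (tt N1938 F10869) (tt N2616 (iv F15262)) (tt N1435 F10870) (tt N1419 (iv D2213)) (tt N2618 D3185) (tt N1938 F10871) (tt N1938 F10872) (tt N2608 (iv F15231)))
theorem Q1940 : ∀ i, i < 1940 → P i := stepQ 1939 Q1939 (allL N1939 (tt N1939 F10873) (tt N2616 (iv F15261)) (tt N2572 (iv F15050)) (tt N1421 F10874) (tt N2619 D3186) (tt N1420 (iv D2214)) (tt N2620 D3187) (tt N1939 F10875) (tt N2621 D3188) (tt N2609 (iv F15235)))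
theorem Q1941 : ∀ i, i < 1941 → P i := stepQ 1940 Q1940 (allL N1940 (tt N1940 F10876) (tt N2617 (iv F15264)) (tt N2573 (iv F15054)) (tt N1940 F10877) (tt N1494 F10878) (tt N2621 (iv F15280)) (tt N2598 (iv F15178)) (tt N1940 F10879) (tt N1420 (iv D2215)) (tt N2622 D3189))
theorem Q1942 : ∀ i, i < 1942 → P i := stepQ 1941 Q1941 (allL N1941 (tt N1941 F10880) (tt N2618 (iv F15268)) (tt N1422 F10881) (tt N2620 (iv F15277)) (tt N1438 F10882) (tt N2599 (iv F15182)) (tt N1421 (iv D2216)) (tt N2623 D3190) (tt N1941 F10883) (tt N2611 (iv F15242)))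
theorem Q1943 : ∀ i, i < 1943 → P i := stepQ 1942 Q1942 (allL N1942 (tt N1942 F10884) (tt N1942 F10885) (tt N2623 (iv F15287)) (tt N2575 (iv F15062)) (tt N1439 F10886) (tt N2600 (iv F15187)) (tt N1942 F10887) (tt N1422 (iv D2217)) (tt N1942 F10888) (tt N2612 (iv F15247)))
theorem Q1944 : ∀ i, i < 1944 → P i := stepQ 1943 Q1943 (allL N1943 (tt N2624 D3191) (tt N1423 (iv D2218)) (tt N1943 F10889) (tt N1943 F10890) (tt N2625 D3192) (tt N1943 F10891) (tt N1943 F10892) (tt N1943 F10893) (tt N1943 F10894) (tt N1943 F10895))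
theorem Q1945 : ∀ i, i < 1945 → P i := stepQ 1944 Q1944 (allL N1944 (tt N1944 F10896) (tt N2625 (iv F15299)) (tt N1424 F10897) (tt N2626 D3193) (tt N1423 (iv D2219)) (tt N2627 D3194) (tt N1944 F10898) (tt N1944 F10899) (tt N1944 F10900) (tt N1944 F10901))
theorem Q1946 : ∀ i, i < 1946 → P i := stepQ 1945 Q1945 (allL N1945 (tt N1945 F10902) (tt N1945 F10903) (tt N2627 (iv F15312)) (tt N1427 F10904) (tt N1945 F10905) (tt N1424 (iv D2220)) (tt N2628 D3195) (tt N1945 F10906) (tt N1945 F10907) (tt N1945 F10908))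
theorem Q1947 : ∀ i, i < 1947 → P i := stepQ 1946 Q1946 (allL N1946 (tt N1425 (iv D2221)) (tt N1946 F10909) (tt N1946 F10910) (tt N1946 F10911) (tt N2629 D3196) (tt N2601 (iv F15192)) (tt N1946 F10912) (tt N1946 F10913) (tt N1428 F10914) (tt N1946 F10915))
theorem Q1948 : ∀ i, i < 1948 → P i := stepQ 1947 Q1947 (allL N1947 (tt N2629 (iv F15324)) (tt N1426 F10916) (tt N1947 F10917) (tt N2630 D3197) (tt N1425 (iv D2222)) (tt N2631 D3198) (tt N1947 F10918) (tt N1947 F10919) (tt N1429 F10920) (tt N1947 F10921))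
theorem Q1949 : ∀ i, i < 1949 → P i := stepQ 1948 Q1948 (allL N1948 (tt N1948 F10922) (tt N2630 (iv F15331)) (tt N2626 (iv F15306)) (tt N1426 (iv D2223)) (tt N1948 F10923) (tt N2632 D3199) (tt N1948 F10924) (tt N1948 F10925) (tt N2633 D3200) (tt N1948 F10926))
theorem Q1950 : ∀ i, i < 1950 → P i := stepQ 1949 Q1949 (allL N1949 (tt N1949 F10927) (tt N2631 (iv F15336)) (tt N1427 F10928) (tt N2632 (iv F15342)) (tt N2604 (iv F15208)) (tt N1426 (iv D2224)) (tt N2634 D3201) (tt N1949 F10929) (tt N1431 F10930) (tt N1949 F10931))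
theorem Q1951 : ∀ i, i < 1951 → P i := stepQ 1950 Q1950 (allL N1950 (tt N1950 F10932) (tt N1950 F10933) (tt N2634 (iv F15351)) (tt N2628 (iv F15319)) (tt N2605 (iv F15215)) (tt N1950 F10934) (tt N1427 (iv D2225)) (tt N2635 D3202) (tt N1432 F10935) (tt N1950 F10936))
theorem Q1952 : ∀ i, i < 1952 → P i := stepQ 1951 Q1951 (allL N1951 (tt N1429 F10937) (tt N1951 F10938) (tt N1951 F10939) (tt N2636 D3203) (tt N1428 (iv D2226)) (tt N2637 D3204) (tt N1951 F10940) (tt N1951 F10941) (tt N2629 (iv F15329)) (tt N1433 F10942))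
theorem Q1953 : ∀ i, i < 1953 → P i := stepQ 1952 Q1952 (allL N1952 (tt N2636 (iv F15361)) (tt N1430 F10943) (tt N2638 D3205) (tt N1429 (iv D2227)) (tt N1498 F10944) (tt N2639 D3206) (tt N1952 F10945) (tt N1952 F10946) (tt N2640 D3207) (tt N1434 F10947))
theorem Q1954 : ∀ i, i < 1954 → P i := stepQ 1953 Q1953 (allL N1953 (tt N2637 (iv F15367)) (tt N1431 F10948) (tt N1953 F10949) (tt N2639 (iv F15379)) (tt N2608 (iv F15229)) (tt N1429 (iv D2228)) (tt N2641 D3208) (tt N1953 F10950) (tt N2631 (iv F15339)) (tt N1435 F10951))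
theorem Q1955 : ∀ i, i < 1955 → P i := stepQ 1954 Q1954 (allL N1954 (tt N1954 F10952) (tt N2639 (iv F15378)) (tt N1954 F10953) (tt N1431 F10954) (tt N2642 D3209) (tt N1430 (iv D2229)) (tt N2643 D3210) (tt N1954 F10955) (tt N2644 D3211) (tt N1436 F10956))
theorem Q1956 : ∀ i, i < 1956 → P i := stepQ 1955 Q1955 (allL N1955 (tt N1955 F10957) (tt N2640 (iv F15382)) (tt N1955 F10958) (tt N2633 (iv F15346)) (tt N1501 F10959) (tt N2644 (iv F15402)) (tt N1955 F10960) (tt N1955 F10961) (tt N1430 (iv D2230)) (tt N2645 D3212))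
theorem Q1957 : ∀ i, i < 1957 → P i := stepQ 1956 Q1956 (allL N1956 (tt N1956 F10962) (tt N2641 (iv F15386)) (tt N1432 F10963) (tt N2643 (iv F15397)) (tt N2611 (iv F15241)) (tt N1956 F10964) (tt N1431 (iv D2231)) (tt N2646 D3213) (tt N2634 (iv F15353)) (tt N1438 F10965))
theorem Q1958 : ∀ i, i < 1958 → P i := stepQ 1957 Q1957 (allL N1957 (tt N1957 F10966) (tt N1957 F10967) (tt N2646 (iv F15411)) (tt N1957 F10968) (tt N2612 (iv F15245)) (tt N1957 F10969) (tt N1957 F10970) (tt N1432 (iv D2232)) (tt N2635 (iv F15359)) (tt N1439 F10971))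
theorem Q1959 : ∀ i, i < 1959 → P i := stepQ 1958 Q1958 (allL N1958 (tt N1434 F10972) (tt N1958 F10973) (tt N2647 D3214) (tt N1433 (iv D2233)) (tt N1504 F10974) (tt N2648 D3215) (tt N1958 F10975) (tt N1958 F10976) (tt N2649 D3216) (tt N2636 (iv F15366)))
theorem Q1960 : ∀ i, i < 1960 → P i := stepQ 1959 Q1959 (allL N1959 (tt N1435 F10977) (tt N1959 F10978) (tt N1959 F10979) (tt N2648 (iv F15422)) (tt N2614 (iv F15255)) (tt N1433 (iv D2234)) (tt N2650 D3217) (tt N1959 F10980) (tt N1959 F10981) (tt N2637 (iv F15371)))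
theorem Q1961 : ∀ i, i < 1961 → P i := stepQ 1960 Q1960 (allL N1960 (tt N2647 (iv F15415)) (tt N1960 F10982) (tt N1434 (iv D2235)) (tt N1960 F10983) (tt N1506 F10984) (tt N2651 D3218) (tt N1960 F10985) (tt N1960 F10986) (tt N2652 D3219) (tt N2638 (iv F15377)))
theorem Q1962 : ∀ i, i < 1962 → P i := stepQ 1961 Q1961 (allL N1961 (tt N2648 (iv F15420)) (tt N1436 F10987) (tt N2651 (iv F15436)) (tt N1435 F10988) (tt N2653 D3220) (tt N1434 (iv D2236)) (tt N2654 D3221) (tt N1961 F10989) (tt N2655 D3222) (tt N2639 (iv F15381)))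
theorem Q1963 : ∀ i, i < 1963 → P i := stepQ 1962 Q1962 (allL N1962 (tt N2649 (iv F15424)) (tt N1437 F10990) (tt N2652 (iv F15440)) (tt N1962 F10991) (tt N1508 F10992) (tt N2655 (iv F15452)) (tt N1962 F10993) (tt N1962 F10994) (tt N1434 (iv D2237)) (tt N2656 D3223))
theorem Q1964 : ∀ i, i < 1964 → P i := stepQ 1963 Q1963 (allL N1963 (tt N2650 (iv F15430)) (tt N1438 F10995) (tt N1963 F10996) (tt N2654 (iv F15448)) (tt N2618 (iv F15270)) (tt N1963 F10997) (tt N1435 (iv D2238)) (tt N2657 D3224) (tt N1963 F10998) (tt N2641 (iv F15389)))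
theorem Q1965 : ∀ i, i < 1965 → P i := stepQ 1964 Q1964 (allL N1964 (tt N1964 F10999) (tt N2653 (iv F15444)) (tt N1964 F11000) (tt N2619 (iv F15273)) (tt N1436 (iv D2239)) (tt N1510 F11001) (tt N2658 D3225) (tt N1964 F11002) (tt N2659 D3226) (tt N2642 (iv F15394)))
theorem Q1966 : ∀ i, i < 1966 → P i := stepQ 1965 Q1965 (allL N1965 (tt N1965 F11003) (tt N2654 (iv F15447)) (tt N1965 F11004) (tt N1438 F11005) (tt N2658 (iv F15466)) (tt N1965 F11006) (tt N1436 (iv D2240)) (tt N2660 D3227) (tt N2661 D3228) (tt N2643 (iv F15399)))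
theorem Q1967 : ∀ i, i < 1967 → P i := stepQ 1966 Q1966 (allL N1966 (tt N1966 F11007) (tt N2655 (iv F15450)) (tt N1966 F11008) (tt N1966 F11009) (tt N2659 (iv F15469)) (tt N1437 F11010) (tt N2661 (iv F15481)) (tt N1966 F11011) (tt N1436 (iv D2241)) (tt N2662 D3229))
theorem Q1968 : ∀ i, i < 1968 → P i := stepQ 1967 Q1967 (allL N1967 (tt N1967 F11012) (tt N2656 (iv F15454)) (tt N1967 F11013) (tt N1967 F11014) (tt N1513 F11015) (tt N2662 (iv F15485)) (tt N1967 F11016) (tt N1967 F11017) (tt N2645 (iv F15409)) (tt N1437 (iv D2242)))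
theorem Q1969 : ∀ i, i < 1969 → P i := stepQ 1968 Q1968 (allL N1968 (tt N1968 F11018) (tt N2657 (iv F15459)) (tt N1439 F11019) (tt N2660 (iv F15474)) (tt N2623 (iv F15288)) (tt N1968 F11020) (tt N1968 F11021) (tt N1438 (iv D2243)) (tt N1968 F11022) (tt N2646 (iv F15414)))
theorem Q1970 : ∀ i, i < 1970 → P i := stepQ 1969 Q1969 (allL N1969 (tt N1969 F11023) (tt N1559 F11024) (tt N1969 F11025) (tt N1969 F11026) (tt N1440 (iv D2244)) (tt N2663 D3230) (tt N1443 F11027) (tt N1969 F11028) (tt N1969 F11029) (tt N2664 D3231))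
theorem Q1971 : ∀ i, i < 1971 → P i := stepQ 1970 Q1970 (allL N1970 (tt N1970 F11030) (tt N1560 F11031) (tt N1970 F11032) (tt N1441 F11033) (tt N2664 (iv F15499)) (tt N1970 F11034) (tt N1444 F11035) (tt N1970 F11036) (tt N2665 D3232) (tt N1440 (iv D2245)))
theorem Q1972 : ∀ i, i < 1972 → P i := stepQ 1971 Q1971 (allL N1971 (tt N1971 F11037) (tt N1561 F11038) (tt N2542 (iv F14904)) (tt N2666 D3233) (tt N1971 F11039) (tt N1971 F11040) (tt N1445 F11041) (tt N1971 F11042) (tt N1441 (iv D2246)) (tt N1442 F11043))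
theorem Q1973 : ∀ i, i < 1973 → P i := stepQ 1972 Q1972 (allL N1972 (tt N1972 F11044) (tt N1562 F11045) (tt N2667 D3234) (tt N1442 (iv D2247)) (tt N2668 D3235) (tt N1972 F11046) (tt N1446 F11047) (tt N1972 F11048) (tt N1972 F11049) (tt N2666 (iv F15514)))
theorem Q1974 : ∀ i, i < 1974 → P i := stepQ 1973 Q1973 (allL N1973 (tt N1973 F11050) (tt N1565 F11051) (tt N1973 F11052) (tt N1973 F11053) (tt N1444 F11054) (tt N1973 F11055) (tt N2664 (iv F15500)) (tt N1447 F11056) (tt N2669 D3236) (tt N1443 (iv D2248)))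
theorem Q1975 : ∀ i, i < 1975 → P i := stepQ 1974 Q1974 (allL N1974 (tt N1974 F11057) (tt N1566 F11058) (tt N1974 F11059) (tt N2670 D3237) (tt N2669 (iv F15529)) (tt N1452 F11060) (tt N2665 (iv F15506)) (tt N1448 F11061) (tt N1444 (iv D2249)) (tt N1974 F11062))
theorem Q1976 : ∀ i, i < 1976 → P i := stepQ 1975 Q1975 (allL N1975 (tt N1975 F11063) (tt N1567 F11064) (tt N2671 D3238) (tt N1445 (iv D2250)) (tt N2672 D3239) (tt N1453 F11065) (tt N2666 (iv F15512)) (tt N1449 F11066) (tt N2670 (iv F15537)) (tt N1446 F11067))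
theorem Q1977 : ∀ i, i < 1977 → P i := stepQ 1976 Q1976 (allL N1976 (tt N1976 F11068) (tt N2673 D3240) (tt N1446 (iv D2251)) (tt N2545 (iv F14922)) (tt N2674 D3241) (tt N1454 F11069) (tt N2667 (iv F15517)) (tt N1450 F11070) (tt N1976 F11071) (tt N2671 (iv F15542)))
theorem Q1978 : ∀ i, i < 1978 → P i := stepQ 1977 Q1977 (allL N1977 (tt N1977 F11072) (tt N1569 F11073) (tt N2674 (iv F15553)) (tt N1977 F11074) (tt N1446 (iv D2252)) (tt N2675 D3242) (tt N2668 (iv F15523)) (tt N1451 F11075) (tt N1977 F11076) (tt N2672 (iv F15547)))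
theorem Q1979 : ∀ i, i < 1979 → P i := stepQ 1978 Q1978 (allL N1978 (tt N1978 F11077) (tt N1572 F11078) (tt N1978 F11079) (tt N2676 D3243) (tt N1448 F11080) (tt N1978 F11081) (tt N1978 F11082) (tt N2669 (iv F15531)) (tt N1447 (iv D2253)) (tt N1978 F11083))
theorem Q1980 : ∀ i, i < 1980 → P i := stepQ 1979 Q1979 (allL N1979 (tt N1979 F11084) (tt N1573 F11085) (tt N2677 D3244) (tt N1448 (iv D2254)) (tt N2678 D3245) (tt N1456 F11086) (tt N1979 F11087) (tt N2670 (iv F15536)) (tt N1449 F11088) (tt N1979 F11089))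
theorem Q1981 : ∀ i, i < 1981 → P i := stepQ 1980 Q1980 (allL N1980 (tt N1980 F11090) (tt N2679 D3246) (tt N1449 (iv D2255)) (tt N2547 (iv F14930)) (tt N2680 D3247) (tt N1457 F11091) (tt N1980 F11092) (tt N2671 (iv F15541)) (tt N2677 (iv F15572)) (tt N1450 F11093))
theorem Q1982 : ∀ i, i < 1982 → P i := stepQ 1981 Q1981 (allL N1981 (tt N1981 F11094) (tt N1575 F11095) (tt N2680 (iv F15584)) (tt N1981 F11096) (tt N1449 (iv D2256)) (tt N2681 D3248) (tt N1981 F11097) (tt N2672 (iv F15546)) (tt N2678 (iv F15577)) (tt N1451 F11098))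
theorem Q1983 : ∀ i, i < 1983 → P i := stepQ 1982 Q1982 (allL N1982 (tt N2682 D3249) (tt N1450 (iv D2257)) (tt N1576 F11099) (tt N2549 (iv F14942)) (tt N2683 D3250) (tt N1459 F11100) (tt N1982 F11101) (tt N2673 (iv F15550)) (tt N1982 F11102) (tt N2679 (iv F15582)))
theorem Q1984 : ∀ i, i < 1984 → P i := stepQ 1983 Q1983 (allL N1983 (tt N1983 F11103) (tt N2683 (iv F15597)) (tt N1451 F11104) (tt N2684 D3251) (tt N1450 (iv D2258)) (tt N2685 D3252) (tt N1983 F11105) (tt N2674 (iv F15554)) (tt N1983 F11106) (tt N2680 (iv F15586)))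
theorem Q1985 : ∀ i, i < 1985 → P i := stepQ 1984 Q1984 (allL N1984 (tt N1984 F11107) (tt N1578 F11108) (tt N2685 (iv F15605)) (tt N1984 F11109) (tt N1461 F11110) (tt N1451 (iv D2259)) (tt N2686 D3253) (tt N2675 (iv F15560)) (tt N1984 F11111) (tt N2681 (iv F15591)))
theorem Q1986 : ∀ i, i < 1986 → P i := stepQ 1985 Q1985 (allL N1985 (tt N1985 F11112) (tt N1579 F11113) (tt N2687 D3254) (tt N1452 (iv D2260)) (tt N2688 D3255) (tt N2670 (iv F15535)) (tt N1985 F11114) (tt N1456 F11115) (tt N1453 F11116) (tt N1985 F11117))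
theorem Q1987 : ∀ i, i < 1987 → P i := stepQ 1986 Q1986 (allL N1986 (tt N1986 F11118) (tt N2689 D3256) (tt N1453 (iv D2261)) (tt N2552 (iv F14953)) (tt N2690 D3257) (tt N2671 (iv F15540)) (tt N1986 F11119) (tt N1457 F11120) (tt N2687 (iv F15618)) (tt N1454 F11121))
theorem Q1988 : ∀ i, i < 1988 → P i := stepQ 1987 Q1987 (allL N1987 (tt N1987 F11122) (tt N1581 F11123) (tt N2690 (iv F15632)) (tt N1473 F11124) (tt N1453 (iv D2262)) (tt N2691 D3258) (tt N1987 F11125) (tt N1458 F11126) (tt N2688 (iv F15625)) (tt N1455 F11127))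
theorem Q1989 : ∀ i, i < 1989 → P i := stepQ 1988 Q1988 (allL N1988 (tt N2692 D3259) (tt N1454 (iv D2263)) (tt N1582 F11128) (tt N2554 (iv F14966)) (tt N2693 D3260) (tt N2673 (iv F15549)) (tt N1988 F11129) (tt N1459 F11130) (tt N1988 F11131) (tt N2689 (iv F15630)))
theorem Q1990 : ∀ i, i < 1990 → P i := stepQ 1989 Q1989 (allL N1989 (tt N1989 F11132) (tt N2693 (iv F15646)) (tt N1455 F11133) (tt N2694 D3261) (tt N1454 (iv D2264)) (tt N2695 D3262) (tt N1989 F11134) (tt N1460 F11135) (tt N1989 F11136) (tt N2690 (iv F15635)))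
theorem Q1991 : ∀ i, i < 1991 → P i := stepQ 1990 Q1990 (allL N1990 (tt N1990 F11137) (tt N1584 F11138) (tt N2695 (iv F15656)) (tt N1476 F11139) (tt N2675 (iv F15559)) (tt N1455 (iv D2265)) (tt N2696 D3263) (tt N1461 F11140) (tt N1990 F11141) (tt N2691 (iv F15640)))
theorem Q1992 : ∀ i, i < 1992 → P i := stepQ 1991 Q1991 (allL N1991 (tt N1991 F11142) (tt N1703 (iv F201558)) (tt N1456 (iv D2266)) (tt N1991 F11143) (tt N2697 D3265) (tt N2677 (iv F15570)) (tt N1462 F11144) (tt N2687 (iv F15617)) (tt N1457 F11145) (tt N1991 F11146))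
theorem Q1993 : ∀ i, i < 1993 → P i := stepQ 1992 Q1992 (allL N1992 (tt N1992 F11147) (tt N1585 F11148) (tt N2697 (iv F15670)) (tt N1992 F11149) (tt N1456 (iv D2267)) (tt N2698 D3266) (tt N1463 F11150) (tt N2688 (iv F15624)) (tt N1458 F11151) (tt N1992 F11152))
theorem Q1994 : ∀ i, i < 1994 → P i := stepQ 1993 Q1993 (allL N1993 (tt N1706 (iv F201548)) (tt N1457 (iv D2268)) (tt N1586 F11153) (tt N2557 (iv F14978)) (tt N2699 D3268) (tt N2679 (iv F15580)) (tt N1464 F11154) (tt N2689 (iv F15629)) (tt N1703 (iv F201559)) (tt N1459 F11155))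
theorem Q1995 : ∀ i, i < 1995 → P i := stepQ 1994 Q1994 (allL N1994 (tt N1994 F11156) (tt N2699 (iv F15683)) (tt N1458 F11157) (tt N2700 D3269) (tt N1457 (iv D2269)) (tt N2701 D3270) (tt N1465 F11158) (tt N2690 (iv F15634)) (tt N2697 (iv F15672)) (tt N1460 F11159))
theorem Q1996 : ∀ i, i < 1996 → P i := stepQ 1995 Q1995 (allL N1995 (tt N1995 F11160) (tt N1588 F11161) (tt N2701 (iv F15692)) (tt N1479 F11162) (tt N2681 (iv F15590)) (tt N1458 (iv D2270)) (tt N2702 D3271) (tt N2691 (iv F15639)) (tt N2698 (iv F15677)) (tt N1461 F11163))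
theorem Q1997 : ∀ i, i < 1997 → P i := stepQ 1996 Q1996 (allL N1996 (tt N1459 (iv D2271)) (tt N1996 F11164) (tt N1589 F11165) (tt N2560 (iv F14994)) (tt N2703 D3272) (tt N2682 (iv F15594)) (tt N1467 F11166) (tt N2692 (iv F15644)) (tt N1996 F11167) (tt N1706 (iv F201549)))
theorem Q1998 : ∀ i, i < 1998 → P i := stepQ 1997 Q1997 (allL N1997 (tt N2703 (iv F15699)) (tt N1460 F11168) (tt N1590 F11169) (tt N2704 D3273) (tt N1459 (iv D2272)) (tt N2705 D3274) (tt N1468 F11170) (tt N2693 (iv F15649)) (tt N1997 F11171) (tt N2699 (iv F15686)))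
theorem Q1999 : ∀ i, i < 1999 → P i := stepQ 1998 Q1998 (allL N1998 (tt N1998 F11172) (tt N2704 (iv F15704)) (tt N1482 F11173) (tt N1460 (iv D2273)) (tt N2562 (iv F15001)) (tt N2706 D3275) (tt N1469 F11174) (tt N2694 (iv F15654)) (tt N2707 D3276) (tt N2700 (iv F15690)))
theorem Q2000 : ∀ i, i < 2000 → P i := stepQ 1999 Q1999 (allL N1999 (tt N1999 F11175) (tt N2705 (iv F15706)) (tt N1461 F11176) (tt N2706 (iv F15711)) (tt N2685 (iv F15606)) (tt N1460 (iv D2274)) (tt N2708 D3277) (tt N2695 (iv F15657)) (tt N1999 F11177) (tt N2701 (iv F15693)))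
theorem Q2001 : ∀ i, i < 2001 → P i := stepQ 2000 Q2000 (allL N2000 (tt N2000 F11178) (tt N1593 F11179) (tt N2708 (iv F15717)) (tt N1484 F11180) (tt N2686 (iv F15611)) (tt N1471 F11181) (tt N1461 (iv D2275)) (tt N2709 D3278) (tt N2000 F11182) (tt N2702 (iv F15698)))
theorem Q2002 : ∀ i, i < 2002 → P i := stepQ 2001 Q2001 (allL N2001 (tt N2001 F11189) (tt N1681 (iv F201516)) (tt N1463 F11190) (tt N2710 D3281) (tt N1462 (iv D2277)) (tt N2711 D3282) (tt N2697 (iv F15671)) (tt N2001 F11191) (tt N1465 F11192) (tt N2001 F11193))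
theorem Q2003 : ∀ i, i < 2003 → P i := stepQ 2002 Q2002 (allL N2002 (tt N2002 F11194) (tt N1594 F11195) (tt N2711 (iv F15743)) (tt N2002 F11196) (tt N2002 F11197) (tt N1463 (iv D2278)) (tt N2712 D3283) (tt N2002 F11198) (tt N1466 F11199) (tt N2002 F11200))
theorem Q2004 : ∀ i, i < 2004 → P i := stepQ 2003 Q2003 (allL N2003 (tt N1685 (iv F201514)) (tt N1465 F11206) (tt N1595 F11207) (tt N2713 D3285) (tt N1464 (iv D2280)) (tt N2714 D3286) (tt N2699 (iv F15685)) (tt N2003 F11208) (tt N1681 (iv F201517)) (tt N1468 F11209))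
theorem Q2005 : ∀ i, i < 2005 → P i := stepQ 2004 Q2004 (allL N2004 (tt N2004 F11210) (tt N2713 (iv F15759)) (tt N1487 F11211) (tt N1465 (iv D2281)) (tt N2566 (iv F15023)) (tt N2715 D3287) (tt N2700 (iv F15689)) (tt N2004 F11212) (tt N2716 D3288) (tt N1469 F11213))
theorem Q2006 : ∀ i, i < 2006 → P i := stepQ 2005 Q2005 (allL N2005 (tt N2005 F11214) (tt N2714 (iv F15762)) (tt N1466 F11215) (tt N2715 (iv F15769)) (tt N2005 F11216) (tt N1465 (iv D2282)) (tt N2717 D3289) (tt N2005 F11217) (tt N2711 (iv F15746)) (tt N1470 F11218))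
theorem Q2007 : ∀ i, i < 2007 → P i := stepQ 2006 Q2006 (allL N2006 (tt N2006 F11219) (tt N1598 F11220) (tt N2717 (iv F15776)) (tt N1489 F11221) (tt N2006 F11222) (tt N2702 (iv F15697)) (tt N1466 (iv D2283)) (tt N2718 D3290) (tt N2712 (iv F15752)) (tt N1471 F11223))
theorem Q2008 : ∀ i, i < 2008 → P i := stepQ 2007 Q2007 (allL N2007 (tt N1468 F11224) (tt N2007 F11225) (tt N1599 F11226) (tt N2719 D3291) (tt N1467 (iv D2284)) (tt N2720 D3292) (tt N2703 (iv F15702)) (tt N2007 F11227) (tt N2007 F11228) (tt N1685 (iv F201515)))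
theorem Q2009 : ∀ i, i < 2009 → P i := stepQ 2008 Q2008 (allL N2008 (tt N2719 (iv F15785)) (tt N1469 F11229) (tt N2721 D3293) (tt N1468 (iv D2285)) (tt N2570 (iv F15043)) (tt N2722 D3294) (tt N2704 (iv F15705)) (tt N2008 F11230) (tt N2723 D3295) (tt N2713 (iv F15761)))
theorem Q2010 : ∀ i, i < 2010 → P i := stepQ 2009 Q2009 (allL N2009 (tt N2720 (iv F15788)) (tt N1470 F11231) (tt N1601 F11232) (tt N2722 (iv F15798)) (tt N2009 F11233) (tt N1468 (iv D2286)) (tt N2724 D3296) (tt N2009 F11234) (tt N2009 F11235) (tt N2714 (iv F15766)))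
theorem Q2011 : ∀ i, i < 2011 → P i := stepQ 2010 Q2010 (allL N2010 (tt N2010 F11236) (tt N2722 (iv F15797)) (tt N1493 F11237) (tt N1470 F11238) (tt N2725 D3297) (tt N1469 (iv D2287)) (tt N2726 D3298) (tt N2010 F11239) (tt N2727 D3299) (tt N2715 (iv F15771)))
theorem Q2012 : ∀ i, i < 2012 → P i := stepQ 2011 Q2011 (allL N2011 (tt N2011 F11240) (tt N2723 (iv F15800)) (tt N1494 F11241) (tt N2011 F11242) (tt N2573 (iv F15055)) (tt N2727 (iv F15817)) (tt N2707 (iv F15715)) (tt N2011 F11243) (tt N1469 (iv D2288)) (tt N2728 D3300))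
theorem Q2013 : ∀ i, i < 2013 → P i := stepQ 2012 Q2012 (allL N2012 (tt N2012 F11244) (tt N2724 (iv F15803)) (tt N1471 F11245) (tt N2726 (iv F15813)) (tt N2012 F11246) (tt N2708 (iv F15718)) (tt N1470 (iv D2289)) (tt N2729 D3301) (tt N2012 F11247) (tt N2717 (iv F15778)))
theorem Q2014 : ∀ i, i < 2014 → P i := stepQ 2013 Q2013 (allL N2013 (tt N2013 F11248) (tt N1605 F11249) (tt N2729 (iv F15824)) (tt N1496 F11250) (tt N2013 F11251) (tt N2709 (iv F15723)) (tt N2013 F11252) (tt N1471 (iv D2290)) (tt N2013 F11253) (tt N2718 (iv F15784)))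
theorem Q2015 : ∀ i, i < 2015 → P i := stepQ 2014 Q2014 (allL N2014 (tt N2730 D3302) (tt N1472 (iv D2291)) (tt N1606 F11254) (tt N2578 (iv F15080)) (tt N2731 D3303) (tt N2014 F11255) (tt N2014 F11256) (tt N1477 F11257) (tt N2014 F11258) (tt N1474 F11259))
theorem Q2016 : ∀ i, i < 2016 → P i := stepQ 2015 Q2015 (allL N2015 (tt N2015 F11260) (tt N2731 (iv F15835)) (tt N1473 F11261) (tt N2732 D3304) (tt N1472 (iv D2292)) (tt N2733 D3305) (tt N2015 F11262) (tt N1478 F11263) (tt N2015 F11264) (tt N1475 F11265))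
theorem Q2017 : ∀ i, i < 2017 → P i := stepQ 2016 Q2016 (allL N2016 (tt N2016 F11266) (tt N1608 F11267) (tt N2733 (iv F15846)) (tt N2691 (iv F15638)) (tt N2016 F11268) (tt N1473 (iv D2293)) (tt N2734 D3306) (tt N1479 F11269) (tt N2016 F11270) (tt N1476 F11271))
theorem Q2018 : ∀ i, i < 2018 → P i := stepQ 2017 Q2017 (allL N2017 (tt N1474 (iv D2294)) (tt N2017 F11272) (tt N1609 F11273) (tt N2581 (iv F15097)) (tt N2735 D3307) (tt N2017 F11274) (tt N2017 F11275) (tt N1480 F11276) (tt N1515 F11277) (tt N2730 (iv F15834)))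
theorem Q2019 : ∀ i, i < 2019 → P i := stepQ 2018 Q2018 (allL N2018 (tt N2735 (iv F15857)) (tt N1475 F11278) (tt N1610 F11279) (tt N2736 D3308) (tt N1474 (iv D2295)) (tt N2737 D3309) (tt N2018 F11280) (tt N1481 F11281) (tt N1516 F11282) (tt N2731 (iv F15840)))
theorem Q2020 : ∀ i, i < 2020 → P i := stepQ 2019 Q2019 (allL N2019 (tt N2019 F11283) (tt N2736 (iv F15863)) (tt N2694 (iv F15652)) (tt N1475 (iv D2296)) (tt N2583 (iv F15108)) (tt N2738 D3310) (tt N2019 F11284) (tt N1482 F11285) (tt N2739 D3311) (tt N2732 (iv F15844)))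
theorem Q2021 : ∀ i, i < 2021 → P i := stepQ 2020 Q2020 (allL N2020 (tt N2020 F11286) (tt N2737 (iv F15866)) (tt N1476 F11287) (tt N2738 (iv F15872)) (tt N2020 F11288) (tt N1475 (iv D2297)) (tt N2740 D3312) (tt N1483 F11289) (tt N1518 F11290) (tt N2733 (iv F15850)))
theorem Q2022 : ∀ i, i < 2022 → P i := stepQ 2021 Q2021 (allL N2021 (tt N2021 F11291) (tt N1613 F11292) (tt N2740 (iv F15879)) (tt N2696 (iv F15661)) (tt N2021 F11293) (tt N2021 F11294) (tt N1476 (iv D2298)) (tt N2741 D3313) (tt N1519 F11295) (tt N2734 (iv F15856)))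
theorem Q2023 : ∀ i, i < 2023 → P i := stepQ 2022 Q2022 (allL N2022 (tt N1477 (iv D2299)) (tt N2022 F11296) (tt N1614 F11297) (tt N2589 (iv F15140)) (tt N2742 D3314) (tt N2022 F11298) (tt N1485 F11299) (tt N2730 (iv F15832)) (tt N2022 F11300) (tt N1480 F11301))
theorem Q2024 : ∀ i, i < 2024 → P i := stepQ 2023 Q2023 (allL N2023 (tt N2742 (iv F15889)) (tt N1478 F11302) (tt N1615 F11303) (tt N2743 D3315) (tt N1477 (iv D2300)) (tt N2744 D3316) (tt N1486 F11304) (tt N2731 (iv F15838)) (tt N2023 F11305) (tt N1481 F11306))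
theorem Q2025 : ∀ i, i < 2025 → P i := stepQ 2024 Q2024 (allL N2024 (tt N2024 F11307) (tt N2743 (iv F15895)) (tt N2700 (iv F15688)) (tt N1478 (iv D2301)) (tt N2591 (iv F15149)) (tt N2745 D3317) (tt N1487 F11308) (tt N2732 (iv F15843)) (tt N2746 D3318) (tt N1482 F11309))
theorem Q2026 : ∀ i, i < 2026 → P i := stepQ 2025 Q2025 (allL N2025 (tt N2025 F11310) (tt N2744 (iv F15898)) (tt N1479 F11311) (tt N2745 (iv F15904)) (tt N2025 F11312) (tt N1478 (iv D2302)) (tt N2747 D3319) (tt N2733 (iv F15848)) (tt N2025 F11313) (tt N1483 F11314))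
theorem Q2027 : ∀ i, i < 2027 → P i := stepQ 2026 Q2026 (allL N2026 (tt N2026 F11315) (tt N1618 F11316) (tt N2747 (iv F15910)) (tt N2702 (iv F15696)) (tt N2026 F11317) (tt N1489 F11318) (tt N1479 (iv D2303)) (tt N2748 D3320) (tt N2026 F11319) (tt N1484 F11320))
theorem Q2028 : ∀ i, i < 2028 → P i := stepQ 2027 Q2027 (allL N2027 (tt N1481 F11321) (tt N2027 F11322) (tt N1619 F11323) (tt N2749 D3321) (tt N1480 (iv D2304)) (tt N2750 D3322) (tt N1490 F11324) (tt N2735 (iv F15861)) (tt N1520 F11325) (tt N2742 (iv F15894)))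
theorem Q2029 : ∀ i, i < 2029 → P i := stepQ 2028 Q2028 (allL N2028 (tt N2749 (iv F15921)) (tt N1482 F11326) (tt N2751 D3323) (tt N1481 (iv D2305)) (tt N2595 (iv F15167)) (tt N2752 D3324) (tt N1491 F11327) (tt N2736 (iv F15865)) (tt N2753 D3325) (tt N2743 (iv F15897)))
theorem Q2030 : ∀ i, i < 2030 → P i := stepQ 2029 Q2029 (allL N2029 (tt N2750 (iv F15924)) (tt N1483 F11328) (tt N1621 F11329) (tt N2752 (iv F15932)) (tt N2029 F11330) (tt N1481 (iv D2306)) (tt N2754 D3326) (tt N2737 (iv F15869)) (tt N1522 F11331) (tt N2744 (iv F15902)))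
theorem Q2031 : ∀ i, i < 2031 → P i := stepQ 2030 Q2030 (allL N2030 (tt N2030 F11332) (tt N2752 (iv F15931)) (tt N2706 (iv F15710)) (tt N1483 F11333) (tt N2755 D3327) (tt N1482 (iv D2307)) (tt N2756 D3328) (tt N2738 (iv F15873)) (tt N2757 D3329) (tt N2745 (iv F15905)))
theorem Q2032 : ∀ i, i < 2032 → P i := stepQ 2031 Q2031 (allL N2031 (tt N2031 F11334) (tt N2753 (iv F15933)) (tt N2707 (iv F15713)) (tt N1524 F11335) (tt N2598 (iv F15177)) (tt N2757 (iv F15948)) (tt N1494 F11336) (tt N2739 (iv F15877)) (tt N1482 (iv D2308)) (tt N2758 D3330))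
theorem Q2033 : ∀ i, i < 2033 → P i := stepQ 2032 Q2032 (allL N2032 (tt N2032 F11337) (tt N2754 (iv F15936)) (tt N1484 F11338) (tt N2756 (iv F15944)) (tt N2032 F11339) (tt N1495 F11340) (tt N1483 (iv D2309)) (tt N2759 D3331) (tt N1525 F11341) (tt N2747 (iv F15914)))
theorem Q2034 : ∀ i, i < 2034 → P i := stepQ 2033 Q2033 (allL N2033 (tt N2033 F11342) (tt N1625 F11343) (tt N2759 (iv F15953)) (tt N2709 (iv F15722)) (tt N2033 F11344) (tt N1496 F11345) (tt N2741 (iv F15887)) (tt N1484 (iv D2310)) (tt N1526 F11346) (tt N2748 (iv F15920)))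
theorem Q2035 : ∀ i, i < 2035 → P i := stepQ 2034 Q2034 (allL N2034 (tt N1486 F11347) (tt N2034 F11348) (tt N1626 F11349) (tt N2760 D3332) (tt N1485 (iv D2311)) (tt N2761 D3333) (tt N2742 (iv F15892)) (tt N2034 F11350) (tt N2034 F11351) (tt N1490 F11352))
theorem Q2036 : ∀ i, i < 2036 → P i := stepQ 2035 Q2035 (allL N2035 (tt N2760 (iv F15957)) (tt N1487 F11353) (tt N2762 D3334) (tt N1486 (iv D2312)) (tt N2607 (iv F15224)) (tt N2763 D3335) (tt N2743 (iv F15896)) (tt N2035 F11354) (tt N2764 D3336) (tt N1491 F11355))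
theorem Q2037 : ∀ i, i < 2037 → P i := stepQ 2036 Q2036 (allL N2036 (tt N2761 (iv F15961)) (tt N1488 F11356) (tt N1628 F11357) (tt N2763 (iv F15972)) (tt N1499 F11358) (tt N1486 (iv D2313)) (tt N2765 D3337) (tt N2036 F11359) (tt N2036 F11360) (tt N1492 F11361))
theorem Q2038 : ∀ i, i < 2038 → P i := stepQ 2037 Q2037 (allL N2037 (tt N2037 F11362) (tt N2763 (iv F15971)) (tt N2715 (iv F15768)) (tt N1488 F11363) (tt N2766 D3338) (tt N1487 (iv D2314)) (tt N2767 D3339) (tt N2037 F11364) (tt N2768 D3340) (tt N1493 F11365))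
theorem Q2039 : ∀ i, i < 2039 → P i := stepQ 2038 Q2038 (allL N2038 (tt N2038 F11366) (tt N2764 (iv F15975)) (tt N2716 (iv F15773)) (tt N2038 F11367) (tt N2610 (iv F15237)) (tt N2768 (iv F15992)) (tt N2746 (iv F15908)) (tt N2038 F11368) (tt N1487 (iv D2315)) (tt N2769 D3341))
theorem Q2040 : ∀ i, i < 2040 → P i := stepQ 2039 Q2039 (allL N2039 (tt N2039 F11369) (tt N2765 (iv F15978)) (tt N1489 F11370) (tt N2767 (iv F15988)) (tt N1502 F11371) (tt N2747 (iv F15912)) (tt N1488 (iv D2316)) (tt N2770 D3342) (tt N2039 F11372) (tt N1495 F11373))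
theorem Q2041 : ∀ i, i < 2041 → P i := stepQ 2040 Q2040 (allL N2040 (tt N2040 F11374) (tt N1632 F11375) (tt N2770 (iv F15999)) (tt N2718 (iv F15781)) (tt N1503 F11376) (tt N2748 (iv F15918)) (tt N2040 F11377) (tt N1489 (iv D2317)) (tt N2040 F11378) (tt N1496 F11379))
theorem Q2042 : ∀ i, i < 2042 → P i := stepQ 2041 Q2041 (allL N2041 (tt N1491 F11380) (tt N2041 F11381) (tt N2771 D3343) (tt N1490 (iv D2318)) (tt N2613 (iv F15250)) (tt N2772 D3344) (tt N2749 (iv F15923)) (tt N2041 F11382) (tt N2773 D3345) (tt N2760 (iv F15960)))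
theorem Q2043 : ∀ i, i < 2043 → P i := stepQ 2042 Q2042 (allL N2042 (tt N1492 F11383) (tt N2042 F11384) (tt N1634 F11385) (tt N2772 (iv F16009)) (tt N1505 F11386) (tt N1490 (iv D2319)) (tt N2774 D3346) (tt N2042 F11387) (tt N1528 F11388) (tt N2761 (iv F15967)))
theorem Q2044 : ∀ i, i < 2044 → P i := stepQ 2043 Q2043 (allL N2043 (tt N2771 (iv F16004)) (tt N2721 (iv F15794)) (tt N1491 (iv D2320)) (tt N1635 F11389) (tt N2615 (iv F15259)) (tt N2775 D3347) (tt N2751 (iv F15930)) (tt N2043 F11390) (tt N2776 D3348) (tt N2762 (iv F15970)))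
theorem Q2045 : ∀ i, i < 2045 → P i := stepQ 2044 Q2044 (allL N2044 (tt N2772 (iv F16007)) (tt N1493 F11391) (tt N2775 (iv F16020)) (tt N1492 F11392) (tt N2777 D3349) (tt N1491 (iv D2321)) (tt N2778 D3350) (tt N2044 F11393) (tt N2779 D3351) (tt N2763 (iv F15974)))
theorem Q2046 : ∀ i, i < 2046 → P i := stepQ 2045 Q2045 (allL N2045 (tt N2773 (iv F16011)) (tt N1494 F11394) (tt N2776 (iv F16023)) (tt N1531 F11395) (tt N2617 (iv F15266)) (tt N2779 (iv F16032)) (tt N2753 (iv F15935)) (tt N2045 F11396) (tt N1491 (iv D2322)) (tt N2780 D3352))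
theorem Q2047 : ∀ i, i < 2047 → P i := stepQ 2046 Q2046 (allL N2046 (tt N2774 (iv F16015)) (tt N1495 F11397) (tt N1638 F11398) (tt N2778 (iv F16029)) (tt N1509 F11399) (tt N2754 (iv F15939)) (tt N1492 (iv D2323)) (tt N2781 D3353) (tt N1532 F11400) (tt N2765 (iv F15982)))
theorem Q2048 : ∀ i, i < 2048 → P i := stepQ 2047 Q2047 (allL N2047 (tt N2047 F11401) (tt N2777 (iv F16025)) (tt N2725 (iv F15808)) (tt N1510 F11402) (tt N1493 (iv D2324)) (tt N2619 (iv F15274)) (tt N2782 D3354) (tt N2047 F11403) (tt N2783 D3355) (tt N2766 (iv F15986)))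
theorem Q2049 : ∀ i, i < 2049 → P i := stepQ 2048 Q2048 (allL N2048 (tt N2048 F11404) (tt N2778 (iv F16028)) (tt N2726 (iv F15812)) (tt N1495 F11405) (tt N2782 (iv F16044)) (tt N2756 (iv F15945)) (tt N1493 (iv D2325)) (tt N2784 D3356) (tt N2785 D3357) (tt N2767 (iv F15989)))
theorem Q2050 : ∀ i, i < 2050 → P i := stepQ 2049 Q2049 (allL N2049 (tt N2049 F11406) (tt N2779 (iv F16030)) (tt N2727 (iv F15815)) (tt N1535 F11407) (tt N2783 (iv F16046)) (tt N1494 F11408) (tt N2785 (iv F16053)) (tt N2049 F11409) (tt N1493 (iv D2326)) (tt N2786 D3358))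
theorem Q2051 : ∀ i, i < 2051 → P i := stepQ 2050 Q2050 (allL N2050 (tt N2050 F11410) (tt N2780 (iv F16034)) (tt N2728 (iv F15820)) (tt N1536 F11411) (tt N2622 (iv F15284)) (tt N2786 (iv F16056)) (tt N2758 (iv F15951)) (tt N2050 F11412) (tt N2769 (iv F15997)) (tt N1494 (iv D2327)))
theorem Q2052 : ∀ i, i < 2052 → P i := stepQ 2051 Q2051 (allL N2051 (tt N2051 F11413) (tt N2781 (iv F16037)) (tt N1496 F11414) (tt N2784 (iv F16049)) (tt N1514 F11415) (tt N2759 (iv F15955)) (tt N2051 F11416) (tt N1495 (iv D2328)) (tt N1537 F11417) (tt N2770 (iv F16003)))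
theorem Q2053 : ∀ i, i < 2053 → P i := stepQ 2052 Q2052 (allL N2052 (tt N1498 F11418) (tt N2052 F11419) (tt N2640 (iv F203408)) (tt N1497 (iv D2329)) (tt N2636 (iv F15363)) (tt N2787 D3360) (tt N2052 F11420) (tt N2052 F11421) (tt N2638 (iv F203411)) (tt N1504 F11422))
theorem Q2054 : ∀ i, i < 2054 → P i := stepQ 2053 Q2053 (allL N2053 (tt N1499 F11423) (tt N2053 F11424) (tt N1645 F11425) (tt N2787 (iv F16065)) (tt N2761 (iv F15964)) (tt N1497 (iv D2330)) (tt N2788 D3362) (tt N2053 F11426) (tt N2053 F11427) (tt N1505 F11428))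
theorem Q2055 : ∀ i, i < 2055 → P i := stepQ 2054 Q2054 (allL N2054 (tt N2640 (iv F203407)) (tt N2054 F11429) (tt N1498 (iv D2331)) (tt N1646 F11430) (tt N2638 (iv F15374)) (tt N2789 D3363) (tt N2054 F11431) (tt N2054 F11432) (tt N2636 (iv F203405)) (tt N1506 F11433))
theorem Q2056 : ∀ i, i < 2056 → P i := stepQ 2055 Q2055 (allL N2055 (tt N2787 (iv F16063)) (tt N1500 F11434) (tt N2789 (iv F16080)) (tt N1499 F11435) (tt N2790 D3365) (tt N1498 (iv D2332)) (tt N2791 D3366) (tt N2055 F11436) (tt N2792 D3367) (tt N1507 F11437))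
theorem Q2057 : ∀ i, i < 2057 → P i := stepQ 2056 Q2056 (allL N2056 (tt N2638 (iv F203410)) (tt N1501 F11438) (tt N2636 (iv F203404)) (tt N2056 F11439) (tt N2640 (iv F15383)) (tt N2792 (iv F16097)) (tt N2056 F11440) (tt N2056 F11441) (tt N1498 (iv D2333)) (tt N2647 (iv F203416)))
theorem Q2058 : ∀ i, i < 2058 → P i := stepQ 2057 Q2057 (allL N2057 (tt N2788 (iv F16073)) (tt N1502 F11442) (tt N1649 F11443) (tt N2791 (iv F16092)) (tt N2765 (iv F15980)) (tt N2057 F11444) (tt N1499 (iv D2334)) (tt N2793 D3369) (tt N2057 F11445) (tt N1509 F11446))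
theorem Q2059 : ∀ i, i < 2059 → P i := stepQ 2058 Q2058 (allL N2058 (tt N2058 F11447) (tt N2790 (iv F16088)) (tt N2058 F11448) (tt N2766 (iv F15984)) (tt N1500 (iv D2335)) (tt N2642 (iv F15392)) (tt N2794 D3370) (tt N2058 F11449) (tt N2795 D3371) (tt N1510 F11450))
theorem Q2060 : ∀ i, i < 2060 → P i := stepQ 2059 Q2059 (allL N2059 (tt N2059 F11451) (tt N2791 (iv F16091)) (tt N2059 F11452) (tt N1502 F11453) (tt N2794 (iv F16112)) (tt N2059 F11454) (tt N1500 (iv D2336)) (tt N2796 D3372) (tt N2797 D3373) (tt N1511 F11455))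
theorem Q2061 : ∀ i, i < 2061 → P i := stepQ 2060 Q2060 (allL N2060 (tt N2060 F11456) (tt N2792 (iv F16095)) (tt N2060 F11457) (tt N2060 F11458) (tt N2795 (iv F16116)) (tt N1501 F11459) (tt N2797 (iv F16128)) (tt N2060 F11460) (tt N1500 (iv D2337)) (tt N2798 D3374))
theorem Q2062 : ∀ i, i < 2062 → P i := stepQ 2061 Q2061 (allL N2061 (tt N2061 F11461) (tt N2647 (iv F203415)) (tt N2061 F11462) (tt N2061 F11463) (tt N2645 (iv F15406)) (tt N2798 (iv F16132)) (tt N2061 F11464) (tt N2061 F11465) (tt N1513 F11466) (tt N1501 (iv D2338)))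
theorem Q2063 : ∀ i, i < 2063 → P i := stepQ 2062 Q2062 (allL N2062 (tt N2062 F11467) (tt N2793 (iv F16104)) (tt N1503 F11468) (tt N2796 (iv F16120)) (tt N2770 (iv F16000)) (tt N2062 F11469) (tt N2062 F11470) (tt N1502 (iv D2339)) (tt N2062 F11471) (tt N1514 F11472))
theorem Q2064 : ∀ i, i < 2064 → P i := stepQ 2063 Q2063 (allL N2063 (tt N1506 F11473) (tt N2645 F203755) (tt N1504 (iv D2340)) (tt N1654 F11474) (tt N2647 (iv F15417)) (tt N2799 D3376) (tt N2063 F11475) (tt N2063 F11476) (tt N2656 (iv F204025)) (tt N2640 F203756))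
theorem Q2065 : ∀ i, i < 2065 → P i := stepQ 2064 Q2064 (allL N2064 (tt N1507 F11477) (tt N2064 F11478) (tt N2799 (iv F16141)) (tt N1505 F11479) (tt N2800 D3378) (tt N1504 (iv D2341)) (tt N2801 D3379) (tt N2064 F11480) (tt N2802 D3380) (tt N2787 (iv F16067)))
theorem Q2066 : ∀ i, i < 2066 → P i := stepQ 2065 Q2065 (allL N2065 (tt N1508 F11481) (tt N2065 F11482) (tt N2656 (iv F204024)) (tt N1539 F11483) (tt N2649 (iv F15427)) (tt N2802 (iv F16159)) (tt N2065 F11484) (tt N2065 F11485) (tt N1504 (iv D2342)) (tt N2652 (iv F204029)))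
theorem Q2067 : ∀ i, i < 2067 → P i := stepQ 2066 Q2066 (allL N2066 (tt N1509 F11486) (tt N2066 F11487) (tt N1656 F11488) (tt N2801 (iv F16154)) (tt N2774 (iv F16018)) (tt N2066 F11489) (tt N1505 (iv D2343)) (tt N2803 D3382) (tt N1540 F11490) (tt N2788 (iv F16078)))
theorem Q2068 : ∀ i, i < 2068 → P i := stepQ 2067 Q2067 (allL N2067 (tt N2799 (iv F16140)) (tt N2067 F11491) (tt N1507 F11492) (tt N1657 F11493) (tt N2804 D3383) (tt N1506 (iv D2344)) (tt N2805 D3384) (tt N2067 F11494) (tt N2806 D3385) (tt N2789 (iv F16083)))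
theorem Q2069 : ∀ i, i < 2069 → P i := stepQ 2068 Q2068 (allL N2068 (tt N2656 (iv F204023)) (tt N2068 F11495) (tt N1508 F11496) (tt N2068 F11497) (tt N2652 (iv F15441)) (tt N2806 (iv F16182)) (tt N2068 F11498) (tt N2068 F11499) (tt N1506 (iv D2345)) (tt N2649 (iv F204027)))
theorem Q2070 : ∀ i, i < 2070 → P i := stepQ 2069 Q2069 (allL N2069 (tt N2800 (iv F16149)) (tt N1510 F11500) (tt N2804 (iv F16173)) (tt N2777 (iv F16026)) (tt N1507 (iv D2346)) (tt N2653 (iv F15445)) (tt N2807 D3387) (tt N2069 F11501) (tt N2808 D3388) (tt N2790 (iv F16090)))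
theorem Q2071 : ∀ i, i < 2071 → P i := stepQ 2070 Q2070 (allL N2070 (tt N2801 (iv F16152)) (tt N1511 F11502) (tt N2805 (iv F16176)) (tt N1509 F11503) (tt N2807 (iv F16190)) (tt N2070 F11504) (tt N1507 (iv D2347)) (tt N2809 D3389) (tt N2810 D3390) (tt N2791 (iv F16094)))
theorem Q2072 : ∀ i, i < 2072 → P i := stepQ 2071 Q2071 (allL N2071 (tt N2802 (iv F16156)) (tt N1512 F11505) (tt N2806 (iv F16180)) (tt N1543 F11506) (tt N2808 (iv F16192)) (tt N1508 F11507) (tt N2810 (iv F16201)) (tt N2071 F11508) (tt N1507 (iv D2348)) (tt N2811 D3391))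
theorem Q2073 : ∀ i, i < 2073 → P i := stepQ 2072 Q2072 (allL N2072 (tt N2652 (iv F204028)) (tt N1513 F11509) (tt N2649 (iv F204026)) (tt N1544 F11510) (tt N2656 (iv F15456)) (tt N2811 (iv F16204)) (tt N2072 F11511) (tt N2072 F11512) (tt N2647 F203783) (tt N1508 (iv D2349)))
theorem Q2074 : ∀ i, i < 2074 → P i := stepQ 2073 Q2073 (allL N2073 (tt N2803 (iv F16166)) (tt N1514 F11513) (tt N1660 F11514) (tt N2809 (iv F16195)) (tt N2781 (iv F16039)) (tt N2073 F11515) (tt N2073 F11516) (tt N1509 (iv D2350)) (tt N1545 F11517) (tt N2793 (iv F16109)))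
theorem Q2075 : ∀ i, i < 2075 → P i := stepQ 2074 Q2074 (allL N2074 (tt N2074 F11518) (tt N2807 (iv F16189)) (tt N2074 F11519) (tt N2782 (iv F16043)) (tt N1511 F11520) (tt N2812 D3392) (tt N1510 (iv D2351)) (tt N2813 D3393) (tt N2814 D3394) (tt N2794 (iv F16113)))
theorem Q2076 : ∀ i, i < 2076 → P i := stepQ 2075 Q2075 (allL N2075 (tt N2075 F11521) (tt N2808 (iv F16191)) (tt N2075 F11522) (tt N2815 D3395) (tt N1512 F11523) (tt N2659 (iv F15470)) (tt N2814 (iv F16216)) (tt N2075 F11524) (tt N1510 (iv D2352)) (tt N2816 D3396))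
theorem Q2077 : ∀ i, i < 2077 → P i := stepQ 2076 Q2076 (allL N2076 (tt N2076 F11525) (tt N2809 (iv F16194)) (tt N2076 F11526) (tt N1514 F11527) (tt N2813 (iv F16211)) (tt N2076 F11528) (tt N2076 F11529) (tt N1511 (iv D2353)) (tt N2817 D3397) (tt N2796 (iv F16123)))
theorem Q2078 : ∀ i, i < 2078 → P i := stepQ 2077 Q2077 (allL N2077 (tt N2077 F11530) (tt N2810 (iv F16198)) (tt N2077 F11531) (tt N1549 F11532) (tt N2814 (iv F16215)) (tt N2077 F11533) (tt N1512 F11534) (tt N2817 (iv F16229)) (tt N1511 (iv D2354)) (tt N2818 D3398))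
theorem Q2079 : ∀ i, i < 2079 → P i := stepQ 2078 Q2078 (allL N2078 (tt N2078 F11535) (tt N2811 (iv F16202)) (tt N2078 F11536) (tt N1550 F11537) (tt N2816 (iv F16222)) (tt N1513 F11538) (tt N2818 (iv F16234)) (tt N2078 F11539) (tt N2798 (iv F16134)) (tt N1512 (iv D2355)))
theorem Q2080 : ∀ i, i < 2080 → P i := stepQ 2079 Q2079 (allL N2079 (tt N1516 F11540) (tt N2079 F11541) (tt N1663 F11542) (tt N2819 D3399) (tt N1515 (iv D2356)) (tt N2820 D3400) (tt N2079 F11543) (tt N1520 F11544) (tt N2735 (iv F15862)) (tt N2079 F11545))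
theorem Q2081 : ∀ i, i < 2081 → P i := stepQ 2080 Q2080 (allL N2080 (tt N2819 (iv F16235)) (tt N1517 F11546) (tt N2821 D3401) (tt N1516 (iv D2357)) (tt N2080 F11547) (tt N2822 D3402) (tt N2080 F11548) (tt N1521 F11549) (tt N2823 D3403) (tt N2080 F11550))
theorem Q2082 : ∀ i, i < 2082 → P i := stepQ 2081 Q2081 (allL N2081 (tt N2820 (iv F16241)) (tt N1518 F11551) (tt N1665 F11552) (tt N2822 (iv F16254)) (tt N2081 F11553) (tt N1516 (iv D2358)) (tt N2824 D3404) (tt N1522 F11554) (tt N2737 (iv F15870)) (tt N2081 F11555))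
theorem Q2083 : ∀ i, i < 2083 → P i := stepQ 2082 Q2082 (allL N2082 (tt N2082 F11556) (tt N2822 (iv F16253)) (tt N2082 F11557) (tt N1518 F11558) (tt N2825 D3405) (tt N1517 (iv D2359)) (tt N2826 D3406) (tt N1523 F11559) (tt N2827 D3407) (tt N2082 F11560))
theorem Q2084 : ∀ i, i < 2084 → P i := stepQ 2083 Q2083 (allL N2083 (tt N2083 F11561) (tt N2823 (iv F16257)) (tt N2083 F11562) (tt N2739 (iv F15875)) (tt N2083 F11563) (tt N2827 (iv F16279)) (tt N2083 F11564) (tt N1524 F11565) (tt N1517 (iv D2360)) (tt N2828 D3408))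
theorem Q2085 : ∀ i, i < 2085 → P i := stepQ 2084 Q2084 (allL N2084 (tt N2084 F11566) (tt N2824 (iv F16261)) (tt N1519 F11567) (tt N2826 (iv F16274)) (tt N2084 F11568) (tt N2084 F11569) (tt N1518 (iv D2361)) (tt N2829 D3409) (tt N2740 (iv F15882)) (tt N2084 F11570))
theorem Q2086 : ∀ i, i < 2086 → P i := stepQ 2085 Q2085 (allL N2085 (tt N2085 F11571) (tt N1669 F11572) (tt N2829 (iv F16288)) (tt N2085 F11573) (tt N2085 F11574) (tt N2085 F11575) (tt N1526 F11576) (tt N1519 (iv D2362)) (tt N2741 (iv F15888)) (tt N2085 F11577))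
theorem Q2087 : ∀ i, i < 2087 → P i := stepQ 2086 Q2086 (allL N2086 (tt N1521 F11578) (tt N2086 F11579) (tt N2830 D3410) (tt N1520 (iv D2363)) (tt N2086 F11580) (tt N2831 D3411) (tt N1527 F11581) (tt N2819 (iv F16239)) (tt N2832 D3412) (tt N2086 F11582))
theorem Q2088 : ∀ i, i < 2088 → P i := stepQ 2087 Q2087 (allL N2087 (tt N1522 F11583) (tt N2087 F11584) (tt N1671 F11585) (tt N2831 (iv F16300)) (tt N2087 F11586) (tt N1520 (iv D2364)) (tt N2833 D3413) (tt N2820 (iv F16245)) (tt N2750 (iv F15928)) (tt N2087 F11587))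
theorem Q2089 : ∀ i, i < 2089 → P i := stepQ 2088 Q2088 (allL N2088 (tt N2830 (iv F16293)) (tt N2088 F11588) (tt N1521 (iv D2365)) (tt N1672 F11589) (tt N2088 F11590) (tt N2834 D3414) (tt N1529 F11591) (tt N2821 (iv F16251)) (tt N2835 D3415) (tt N2088 F11592))
theorem Q2090 : ∀ i, i < 2090 → P i := stepQ 2089 Q2089 (allL N2089 (tt N2831 (iv F16298)) (tt N1523 F11593) (tt N2834 (iv F16313)) (tt N1522 F11594) (tt N2836 D3416) (tt N1521 (iv D2366)) (tt N2837 D3417) (tt N2822 (iv F16255)) (tt N2838 D3418) (tt N2089 F11595))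
theorem Q2091 : ∀ i, i < 2091 → P i := stepQ 2090 Q2090 (allL N2090 (tt N2832 (iv F16302)) (tt N1524 F11596) (tt N2835 (iv F16317)) (tt N2753 (iv F15934)) (tt N2090 F11597) (tt N2838 (iv F16329)) (tt N1531 F11598) (tt N2823 (iv F16260)) (tt N1521 (iv D2367)) (tt N2839 D3419))
theorem Q2092 : ∀ i, i < 2092 → P i := stepQ 2091 Q2091 (allL N2091 (tt N2833 (iv F16306)) (tt N1525 F11599) (tt N1675 F11600) (tt N2837 (iv F16325)) (tt N2091 F11601) (tt N1532 F11602) (tt N1522 (iv D2368)) (tt N2840 D3420) (tt N2754 (iv F15940)) (tt N2091 F11603))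
theorem Q2093 : ∀ i, i < 2093 → P i := stepQ 2092 Q2092 (allL N2092 (tt N2092 F11604) (tt N2836 (iv F16320)) (tt N2092 F11605) (tt N2092 F11606) (tt N1523 (iv D2369)) (tt N2092 F11607) (tt N2841 D3421) (tt N2825 (iv F16270)) (tt N2842 D3422) (tt N2092 F11608))
theorem Q2094 : ∀ i, i < 2094 → P i := stepQ 2093 Q2093 (allL N2093 (tt N2093 F11609) (tt N2837 (iv F16324)) (tt N2093 F11610) (tt N1525 F11611) (tt N2841 (iv F16342)) (tt N1534 F11612) (tt N1523 (iv D2370)) (tt N2843 D3423) (tt N2844 D3424) (tt N2093 F11613))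
theorem Q2095 : ∀ i, i < 2095 → P i := stepQ 2094 Q2094 (allL N2094 (tt N2094 F11614) (tt N2838 (iv F16328)) (tt N2094 F11615) (tt N2757 (iv F15947)) (tt N2842 (iv F16346)) (tt N1524 F11616) (tt N2844 (iv F16356)) (tt N2827 (iv F16280)) (tt N1523 (iv D2371)) (tt N2845 D3425))
theorem Q2096 : ∀ i, i < 2096 → P i := stepQ 2095 Q2095 (allL N2095 (tt N2095 F11617) (tt N2839 (iv F16330)) (tt N2095 F11618) (tt N2758 (iv F15950)) (tt N2095 F11619) (tt N2845 (iv F16359)) (tt N1536 F11620) (tt N2828 (iv F16285)) (tt N2095 F11621) (tt N1524 (iv D2372)))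
theorem Q2097 : ∀ i, i < 2097 → P i := stepQ 2096 Q2096 (allL N2096 (tt N2096 F11622) (tt N2840 (iv F16334)) (tt N1526 F11623) (tt N2843 (iv F16350)) (tt N2096 F11624) (tt N1537 F11625) (tt N2829 (iv F16291)) (tt N1525 (iv D2373)) (tt N2759 (iv F15956)) (tt N2096 F11626))
theorem Q2098 : ∀ i, i < 2098 → P i := stepQ 2097 Q2097 (allL N2097 (tt N1529 F11627) (tt N2710 F201963) (tt N1527 (iv D2374)) (tt N1681 F11628) (tt N2097 F11629) (tt N2846 D3427) (tt N2830 (iv F16296)) (tt N2097 F11630) (tt N2847 D3428) (tt N2097 F11631))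
theorem Q2099 : ∀ i, i < 2099 → P i := stepQ 2098 Q2098 (allL N2098 (tt N1530 F11632) (tt N2098 F11633) (tt N2846 (iv F16368)) (tt N1528 F11634) (tt N2848 D3429) (tt N1527 (iv D2375)) (tt N2849 D3430) (tt N2098 F11635) (tt N2850 D3431) (tt N2098 F11636))
theorem Q2100 : ∀ i, i < 2100 → P i := stepQ 2099 Q2099 (allL N2099 (tt N1531 F11637) (tt N2099 F11638) (tt N2847 (iv F16373)) (tt N2773 (iv F16013)) (tt N2099 F11639) (tt N2850 (iv F16388)) (tt N2832 (iv F16305)) (tt N2099 F11640) (tt N1527 (iv D2376)) (tt N2851 D3432))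
theorem Q2101 : ∀ i, i < 2101 → P i := stepQ 2100 Q2100 (allL N2100 (tt N1532 F11641) (tt N2100 F11642) (tt N1683 F11643) (tt N2849 (iv F16384)) (tt N1540 F11644) (tt N2833 (iv F16310)) (tt N1528 (iv D2377)) (tt N2852 D3433) (tt N2774 (iv F16019)) (tt N2100 F11645))
theorem Q2102 : ∀ i, i < 2102 → P i := stepQ 2101 Q2101 (allL N2101 (tt N2846 (iv F16367)) (tt N2101 F11646) (tt N1530 F11647) (tt N1684 F11648) (tt N2853 D3434) (tt N1529 (iv D2378)) (tt N2854 D3435) (tt N2101 F11649) (tt N2855 D3436) (tt N2101 F11650))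
theorem Q2103 : ∀ i, i < 2103 → P i := stepQ 2102 Q2102 (allL N2102 (tt N2847 (iv F16372)) (tt N2102 F11651) (tt N1531 F11652) (tt N2856 D3437) (tt N2102 F11653) (tt N2855 (iv F16413)) (tt N2835 (iv F16319)) (tt N2102 F11654) (tt N1529 (iv D2379)) (tt N2857 D3438))
theorem Q2104 : ∀ i, i < 2104 → P i := stepQ 2103 Q2103 (allL N2103 (tt N2848 (iv F16376)) (tt N1533 F11655) (tt N2853 (iv F16402)) (tt N1541 F11656) (tt N1530 (iv D2380)) (tt N2103 F11657) (tt N2858 D3439) (tt N2103 F11658) (tt N2859 D3440) (tt N2103 F11659))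
theorem Q2105 : ∀ i, i < 2105 → P i := stepQ 2104 Q2104 (allL N2104 (tt N2849 (iv F16382)) (tt N1534 F11660) (tt N2854 (iv F16408)) (tt N1532 F11661) (tt N2858 (iv F16425)) (tt N2837 (iv F16326)) (tt N1530 (iv D2381)) (tt N2860 D3441) (tt N2861 D3442) (tt N2104 F11662))
theorem Q2106 : ∀ i, i < 2106 → P i := stepQ 2105 Q2105 (allL N2105 (tt N2850 (iv F16386)) (tt N1535 F11663) (tt N2855 (iv F16412)) (tt N2779 (iv F16031)) (tt N2859 (iv F16428)) (tt N1531 F11664) (tt N2861 (iv F16436)) (tt N2105 F11665) (tt N1530 (iv D2382)) (tt N2862 D3443))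
theorem Q2107 : ∀ i, i < 2107 → P i := stepQ 2106 Q2106 (allL N2106 (tt N2851 (iv F16390)) (tt N1536 F11666) (tt N2857 (iv F16419)) (tt N2780 (iv F16035)) (tt N2106 F11667) (tt N2862 (iv F16438)) (tt N2839 (iv F16332)) (tt N2106 F11668) (tt N2106 F11669) (tt N1531 (iv D2383)))
theorem Q2108 : ∀ i, i < 2108 → P i := stepQ 2107 Q2107 (allL N2107 (tt N2852 (iv F16395)) (tt N1537 F11670) (tt N1688 F11671) (tt N2860 (iv F16432)) (tt N1545 F11672) (tt N2840 (iv F16337)) (tt N2107 F11673) (tt N1532 (iv D2384)) (tt N2781 (iv F16041)) (tt N2107 F11674))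
theorem Q2109 : ∀ i, i < 2109 → P i := stepQ 2108 Q2108 (allL N2108 (tt N2108 F11675) (tt N2858 (iv F16423)) (tt N2108 F11676) (tt N1546 F11677) (tt N1534 F11678) (tt N2863 D3444) (tt N1533 (iv D2385)) (tt N2864 D3445) (tt N2865 D3446) (tt N2108 F11679))
theorem Q2110 : ∀ i, i < 2110 → P i := stepQ 2109 Q2109 (allL N2109 (tt N2109 F11680) (tt N2859 (iv F16427)) (tt N2109 F11681) (tt N2866 D3447) (tt N1535 F11682) (tt N2109 F11683) (tt N2865 (iv F16455)) (tt N2109 F11684) (tt N1533 (iv D2386)) (tt N2867 D3448))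
theorem Q2111 : ∀ i, i < 2111 → P i := stepQ 2110 Q2110 (allL N2110 (tt N2110 F11685) (tt N2860 (iv F16431)) (tt N2110 F11686) (tt N1537 F11687) (tt N2864 (iv F16449)) (tt N2843 (iv F16351)) (tt N2110 F11688) (tt N1534 (iv D2387)) (tt N2868 D3449) (tt N2110 F11689))
theorem Q2112 : ∀ i, i < 2112 → P i := stepQ 2111 Q2111 (allL N2111 (tt N2111 F11690) (tt N2861 (iv F16435)) (tt N2111 F11691) (tt N2785 (iv F16052)) (tt N2865 (iv F16454)) (tt N2844 (iv F16355)) (tt N1535 F11692) (tt N2868 (iv F16469)) (tt N1534 (iv D2388)) (tt N2869 D3450))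
theorem Q2113 : ∀ i, i < 2113 → P i := stepQ 2112 Q2112 (allL N2112 (tt N2112 F11693) (tt N2862 (iv F16437)) (tt N2112 F11694) (tt N2786 (iv F16055)) (tt N2867 (iv F16462)) (tt N1536 F11695) (tt N2869 (iv F16472)) (tt N2112 F11696) (tt N2112 F11697) (tt N1535 (iv D2389)))
theorem Q2114 : ∀ i, i < 2114 → P i := stepQ 2113 Q2113 (allL N2113 (tt N1541 F11698) (tt N2113 F11699) (tt N2113 F11700) (tt N2848 (iv F16378)) (tt N1538 (iv D2390)) (tt N2113 F11701) (tt N2870 D3451) (tt N2113 F11702) (tt N2871 D3452) (tt N2113 F11703))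
theorem Q2115 : ∀ i, i < 2115 → P i := stepQ 2114 Q2114 (allL N2114 (tt N1542 F11704) (tt N2114 F11705) (tt N2114 F11706) (tt N1540 F11707) (tt N2870 (iv F16477)) (tt N2114 F11708) (tt N1538 (iv D2391)) (tt N2872 D3453) (tt N2873 D3454) (tt N2114 F11709))
theorem Q2116 : ∀ i, i < 2116 → P i := stepQ 2115 Q2115 (allL N2115 (tt N1543 F11710) (tt N2115 F11711) (tt N2115 F11712) (tt N2802 (iv F16158)) (tt N2871 (iv F16482)) (tt N1539 F11713) (tt N2873 (iv F16496)) (tt N2115 F11714) (tt N1538 (iv D2392)) (tt N2874 D3455))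
theorem Q2117 : ∀ i, i < 2117 → P i := stepQ 2116 Q2116 (allL N2116 (tt N1544 F11715) (tt N2116 F11716) (tt N2116 F11717) (tt N2652 F204263) (tt N2116 F11718) (tt N2874 (iv F16500)) (tt N2116 F11719) (tt N2116 F11720) (tt N2116 F11721) (tt N1539 (iv D2393)))
theorem Q2118 : ∀ i, i < 2118 → P i := stepQ 2117 Q2117 (allL N2117 (tt N1545 F11722) (tt N2117 F11723) (tt N1692 F11724) (tt N2872 (iv F16488)) (tt N2852 (iv F16398)) (tt N2117 F11725) (tt N2117 F11726) (tt N1540 (iv D2394)) (tt N2803 (iv F16171)) (tt N2117 F11727))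
theorem Q2119 : ∀ i, i < 2119 → P i := stepQ 2118 Q2118 (allL N2118 (tt N2870 (iv F16474)) (tt N1546 F11728) (tt N2118 F11729) (tt N2858 (iv F16424)) (tt N1542 F11730) (tt N2875 D3456) (tt N1541 (iv D2395)) (tt N2876 D3457) (tt N2877 D3458) (tt N2118 F11731))
theorem Q2120 : ∀ i, i < 2120 → P i := stepQ 2119 Q2119 (allL N2119 (tt N2871 (iv F16479)) (tt N1547 F11732) (tt N2119 F11733) (tt N2878 D3459) (tt N1543 F11734) (tt N2119 F11735) (tt N2877 (iv F16516)) (tt N2119 F11736) (tt N1541 (iv D2396)) (tt N2879 D3460))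
theorem Q2121 : ∀ i, i < 2121 → P i := stepQ 2120 Q2120 (allL N2120 (tt N2872 (iv F16485)) (tt N1548 F11737) (tt N2120 F11738) (tt N1545 F11739) (tt N2876 (iv F16510)) (tt N2120 F11740) (tt N2120 F11741) (tt N1542 (iv D2397)) (tt N2880 D3461) (tt N2120 F11742))
theorem Q2122 : ∀ i, i < 2122 → P i := stepQ 2121 Q2121 (allL N2121 (tt N2873 (iv F16492)) (tt N1549 F11743) (tt N2121 F11744) (tt N2810 (iv F16199)) (tt N2877 (iv F16515)) (tt N2121 F11745) (tt N1543 F11746) (tt N2880 (iv F16530)) (tt N1542 (iv D2398)) (tt N2881 D3462))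
theorem Q2123 : ∀ i, i < 2123 → P i := stepQ 2122 Q2122 (allL N2122 (tt N2874 (iv F16497)) (tt N1550 F11747) (tt N2122 F11748) (tt N2811 (iv F16203)) (tt N2879 (iv F16522)) (tt N1544 F11749) (tt N2881 (iv F16534)) (tt N2122 F11750) (tt N2122 F11751) (tt N1543 (iv D2399)))
theorem Q2124 : ∀ i, i < 2124 → P i := stepQ 2123 Q2123 (allL N2123 (tt N2123 F11752) (tt N2875 (iv F16503)) (tt N1551 F11753) (tt N2863 (iv F16443)) (tt N2123 F11754) (tt N1546 (iv D2400)) (tt N2123 F11755) (tt N2882 D3463) (tt N2883 D3464) (tt N2123 F11756))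
theorem Q2125 : ∀ i, i < 2125 → P i := stepQ 2124 Q2124 (allL N2124 (tt N2124 F11757) (tt N2876 (iv F16508)) (tt N1552 F11758) (tt N2864 (iv F16448)) (tt N1548 F11759) (tt N2882 (iv F16539)) (tt N2124 F11760) (tt N1546 (iv D2401)) (tt N2884 D3465) (tt N2124 F11761))
theorem Q2126 : ∀ i, i < 2126 → P i := stepQ 2125 Q2125 (allL N2125 (tt N2125 F11762) (tt N2877 (iv F16513)) (tt N1553 F11763) (tt N2885 D3466) (tt N1549 F11764) (tt N2883 (iv F16544)) (tt N1547 F11765) (tt N2884 (iv F16550)) (tt N1546 (iv D2402)) (tt N2886 D3467))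
theorem Q2127 : ∀ i, i < 2127 → P i := stepQ 2126 Q2126 (allL N2126 (tt N2126 F11766) (tt N2878 (iv F16517)) (tt N2887 D3468) (tt N1547 (iv D2403)) (tt N2815 (iv F16218)) (tt N2126 F11767) (tt N2885 (iv F16552)) (tt N2126 F11768) (tt N2866 (iv F16459)) (tt N2888 D3469))
theorem Q2128 : ∀ i, i < 2128 → P i := stepQ 2127 Q2127 (allL N2127 (tt N2127 F11769) (tt N2879 (iv F16520)) (tt N1555 F11770) (tt N2888 (iv F16563)) (tt N1550 F11771) (tt N2127 F11772) (tt N2886 (iv F16556)) (tt N2127 F11773) (tt N2127 F11774) (tt N1547 (iv D2404)))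
theorem Q2129 : ∀ i, i < 2129 → P i := stepQ 2128 Q2128 (allL N2128 (tt N2128 F11775) (tt N2880 (iv F16526)) (tt N1556 F11776) (tt N2817 (iv F16226)) (tt N2884 (iv F16548)) (tt N2128 F11777) (tt N2128 F11778) (tt N1549 F11779) (tt N1548 (iv D2405)) (tt N2889 D3470))
theorem Q2130 : ∀ i, i < 2130 → P i := stepQ 2129 Q2129 (allL N2129 (tt N2129 F11780) (tt N2881 (iv F16531)) (tt N1557 F11781) (tt N2818 (iv F16232)) (tt N2886 (iv F16555)) (tt N2129 F11782) (tt N1550 F11783) (tt N2889 (iv F16570)) (tt N2129 F11784) (tt N1549 (iv D2406)))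
theorem Q2131 : ∀ i, i < 2131 → P i := stepQ 2130 Q2130 (allL N2130 (tt N2130 F11785) (tt N2130 F11786) (tt N2882 (iv F16537)) (tt N2130 F11787) (tt N2130 F11788) (tt N1552 F11789) (tt N2890 D3471) (tt N1551 (iv D2407)) (tt N2891 D3472) (tt N2130 F11790))
theorem Q2132 : ∀ i, i < 2132 → P i := stepQ 2131 Q2131 (allL N2131 (tt N2131 F11791) (tt N2131 F11792) (tt N2883 (iv F16542)) (tt N2892 D3473) (tt N2131 F11793) (tt N1553 F11794) (tt N2131 F11795) (tt N2891 (iv F16583)) (tt N1551 (iv D2408)) (tt N2893 D3474))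
theorem Q2133 : ∀ i, i < 2133 → P i := stepQ 2132 Q2132 (allL N2132 (tt N2132 F11796) (tt N2132 F11797) (tt N2884 (iv F16547)) (tt N2893 F204810) (tt N1556 F11798) (tt N2891 (iv F16582)) (tt N2132 F11799) (tt N1553 F11800) (tt N1552 (iv D2409)) (tt N2892 (iv F204865)))
theorem Q2134 : ∀ i, i < 2134 → P i := stepQ 2133 Q2133 (allL N2133 (tt N2133 F11801) (tt N2133 F11802) (tt N2894 D3477) (tt N1553 (iv D2410)) (tt N2133 F11803) (tt N2892 (iv F16586)) (tt N1554 F11804) (tt N2893 F204827) (tt N2133 F11805) (tt N2891 (iv F204854)))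
theorem Q2135 : ∀ i, i < 2135 → P i := stepQ 2134 Q2134 (allL N2134 (tt N2134 F11806) (tt N2134 F11807) (tt N2886 (iv F16554)) (tt N2891 (iv F204853)) (tt N1557 F11808) (tt N2893 (iv F16592)) (tt N1555 F11809) (tt N2892 (iv F204864)) (tt N2134 F11810) (tt N1553 (iv D2411)))
theorem Q2136 : ∀ i, i < 2136 → P i := stepQ 2135 Q2135 (allL N2135 (tt N2135 F11811) (tt N2895 D3479) (tt N1554 (iv D2412)) (tt N2887 (iv F16559)) (tt N2135 F11812) (tt N2135 F11813) (tt N2894 (iv F16609)) (tt N2135 F11814) (tt N2135 F11815) (tt N2896 D3480))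
theorem Q2137 : ∀ i, i < 2137 → P i := stepQ 2136 Q2136 (allL N2136 (tt N2136 F11816) (tt N2136 F11817) (tt N2896 (iv F16622)) (tt N1555 F11818) (tt N2136 F11819) (tt N2136 F11820) (tt N2891 F204909) (tt N2136 F11821) (tt N2890 (iv F204930)) (tt N1554 (iv D2413)))
theorem Q2138 : ∀ i, i < 2138 → P i := stepQ 2137 Q2137 (allL N2137 (tt N2137 F11822) (tt N2137 F11823) (tt N2889 (iv F16567)) (tt N2137 F11824) (tt N2892 F204908) (tt N2137 F11825) (tt N2137 F11826) (tt N1557 F11827) (tt N2137 F11828) (tt N1556 (iv D2414)))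
theorem Q2139 : ∀ i, i < 2139 → P i := stepQ 2138 Q2138 (allL N2138 (tt N1713 F11829) (tt N2138 F11830) (tt N1559 F11831) (tt N2897 D3482) (tt N1558 (iv D2415)) (tt N2898 D3483) (tt N1563 F11832) (tt N2138 F11833) (tt N2138 F11834) (tt N2899 D3484))
theorem Q2140 : ∀ i, i < 2140 → P i := stepQ 2139 Q2139 (allL N2139 (tt N1714 F11835) (tt N2139 F11836) (tt N1560 F11837) (tt N2139 F11838) (tt N2899 (iv F16649)) (tt N2139 F11839) (tt N1564 F11840) (tt N2139 F11841) (tt N1871 F202087) (tt N1558 (iv D2416)))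
theorem Q2141 : ∀ i, i < 2141 → P i := stepQ 2140 Q2140 (allL N2140 (tt N1715 F11842) (tt N2663 (iv F15488)) (tt N2898 (iv F16641)) (tt N2140 F11843) (tt N2140 F11844) (tt N1559 (iv D2417)) (tt N2140 F11845) (tt N2140 F11846) (tt N2140 F11847) (tt N2900 D3486))
theorem Q2142 : ∀ i, i < 2142 → P i := stepQ 2141 Q2141 (allL N2141 (tt N1716 F11848) (tt N2664 (iv F15496)) (tt N2899 (iv F16648)) (tt N2141 F11849) (tt N1560 F11850) (tt N2900 (iv F16662)) (tt N1565 F11851) (tt N2141 F11852) (tt N2901 D3487) (tt N1559 (iv D2418)))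
theorem Q2143 : ∀ i, i < 2143 → P i := stepQ 2142 Q2142 (allL N2142 (tt N1717 F11853) (tt N2665 (iv F15503)) (tt N1871 (iv F201678)) (tt N2902 D3488) (tt N2901 (iv F16666)) (tt N2142 F11854) (tt N1566 F11855) (tt N2142 F11856) (tt N1560 (iv D2419)) (tt N2142 F11857))
theorem Q2144 : ∀ i, i < 2144 → P i := stepQ 2143 Q2143 (allL N2143 (tt N1718 F11858) (tt N2666 (iv F15510)) (tt N2903 D3489) (tt N1561 (iv D2420)) (tt N2904 D3490) (tt N2143 F11859) (tt N1567 F11860) (tt N2143 F11861) (tt N2902 (iv F16674)) (tt N1562 F11862))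
theorem Q2145 : ∀ i, i < 2145 → P i := stepQ 2144 Q2144 (allL N2144 (tt N1719 F11863) (tt N2905 D3491) (tt N1562 (iv D2421)) (tt N2144 F11864) (tt N2906 D3492) (tt N2144 F11865) (tt N1568 F11866) (tt N2144 F11867) (tt N2144 F11868) (tt N2903 (iv F16681)))
theorem Q2146 : ∀ i, i < 2146 → P i := stepQ 2145 Q2145 (allL N2145 (tt N1720 F11869) (tt N2668 (iv F15521)) (tt N2906 (iv F16693)) (tt N2145 F11870) (tt N1562 (iv D2422)) (tt N2907 D3493) (tt N1569 F11871) (tt N2145 F11872) (tt N2145 F11873) (tt N2904 (iv F16686)))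
theorem Q2147 : ∀ i, i < 2147 → P i := stepQ 2146 Q2146 (allL N2146 (tt N1722 F11874) (tt N2146 F11875) (tt N2146 F11876) (tt N1563 (iv D2423)) (tt N2146 F11877) (tt N2146 F11878) (tt N2897 (iv F16637)) (tt N1570 F11879) (tt N2908 D3494) (tt N2909 D3495))
theorem Q2148 : ∀ i, i < 2148 → P i := stepQ 2147 Q2147 (allL N2147 (tt N1723 F11880) (tt N2147 F11881) (tt N1565 F11882) (tt N2909 (iv F16712)) (tt N1564 F11883) (tt N2147 F11884) (tt N2899 (iv F16650)) (tt N1571 F11885) (tt N1870 F202088) (tt N1563 (iv D2424)))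
theorem Q2149 : ∀ i, i < 2149 → P i := stepQ 2148 Q2148 (allL N2148 (tt N1724 F11892) (tt N2669 (iv F15527)) (tt N1870 (iv F201679)) (tt N2910 D3498) (tt N1566 F11893) (tt N2148 F11894) (tt N2901 (iv F16667)) (tt N1572 F11895) (tt N1565 (iv D2426)) (tt N2148 F11896))
theorem Q2150 : ∀ i, i < 2150 → P i := stepQ 2149 Q2149 (allL N2149 (tt N1725 F11897) (tt N2670 (iv F15534)) (tt N1861 (iv F200902)) (tt N1566 (iv D2427)) (tt N2911 D3500) (tt N1579 F11898) (tt N2902 (iv F16672)) (tt N1573 F11899) (tt N1567 F11900) (tt N2149 F11901))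
theorem Q2151 : ∀ i, i < 2151 → P i := stepQ 2150 Q2150 (allL N2150 (tt N1726 F11902) (tt N2912 D3501) (tt N1567 (iv D2428)) (tt N2150 F11903) (tt N2913 D3502) (tt N1580 F11904) (tt N2903 (iv F16679)) (tt N1574 F11905) (tt N1861 (iv F200903)) (tt N1568 F11906))
theorem Q2152 : ∀ i, i < 2152 → P i := stepQ 2151 Q2151 (allL N2151 (tt N1727 F11907) (tt N2672 (iv F15544)) (tt N2913 (iv F16748)) (tt N2151 F11908) (tt N1567 (iv D2429)) (tt N2914 D3503) (tt N2904 (iv F16684)) (tt N1575 F11909) (tt N2911 (iv F16741)) (tt N1569 F11910))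
theorem Q2153 : ∀ i, i < 2153 → P i := stepQ 2152 Q2152 (allL N2152 (tt N2915 D3504) (tt N1568 (iv D2430)) (tt N2673 (iv F15548)) (tt N2152 F11911) (tt N2916 D3505) (tt N1582 F11912) (tt N2905 (iv F16689)) (tt N1576 F11913) (tt N2152 F11914) (tt N2912 (iv F16746)))
theorem Q2154 : ∀ i, i < 2154 → P i := stepQ 2153 Q2153 (allL N2153 (tt N1729 F11915) (tt N2916 (iv F16761)) (tt N1569 F11916) (tt N2917 D3506) (tt N1568 (iv D2431)) (tt N2918 D3507) (tt N2906 (iv F16694)) (tt N1577 F11917) (tt N2153 F11918) (tt N2913 (iv F16750)))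
theorem Q2155 : ∀ i, i < 2155 → P i := stepQ 2154 Q2154 (allL N2154 (tt N1730 F11919) (tt N2675 (iv F15557)) (tt N2918 (iv F16769)) (tt N2154 F11920) (tt N1584 F11921) (tt N1569 (iv D2432)) (tt N2919 D3508) (tt N1578 F11922) (tt N2154 F11923) (tt N2914 (iv F16755)))
theorem Q2156 : ∀ i, i < 2156 → P i := stepQ 2155 Q2155 (allL N2155 (tt N1732 F11924) (tt N2155 F11925) (tt N2155 F11926) (tt N2155 F11927) (tt N2155 F11928) (tt N2155 F11929) (tt N2155 F11930) (tt N2908 (iv F16708)) (tt N1570 (iv D2433)) (tt N2155 F195295))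
theorem Q2157 : ∀ i, i < 2157 → P i := stepQ 2156 Q2156 (allL N2156 (tt N1733 F11931) (tt N2156 F11932) (tt N2156 F11933) (tt N1571 F11934) (tt N2156 F11935) (tt N2156 F11936) (tt N2156 F11937) (tt N2909 (iv F16715)) (tt N2156 F195104) (tt N1570 (iv D2434)))
theorem Q2158 : ∀ i, i < 2158 → P i := stepQ 2157 Q2157 (allL N2157 (tt N1734 F11951) (tt N2676 (iv F15563)) (tt N2157 F194800) (tt N1572 (iv D2437)) (tt N2920 D3515) (tt N2157 F11952) (tt N2157 F11953) (tt N2910 (iv F16731)) (tt N2157 F11954) (tt N2157 F11955))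
theorem Q2159 : ∀ i, i < 2159 → P i := stepQ 2158 Q2158 (allL N2158 (tt N1735 F11961) (tt N2678 (iv F15575)) (tt N1868 (iv F201202)) (tt N2920 (iv F16812)) (tt N1573 (iv D2439)) (tt N2921 D3518) (tt N2158 F11962) (tt N2911 (iv F16740)) (tt N1575 F11963) (tt N2158 F11964))
theorem Q2160 : ∀ i, i < 2160 → P i := stepQ 2159 Q2159 (allL N2159 (tt N1708 (iv F201550)) (tt N1574 (iv D2440)) (tt N2679 (iv F15579)) (tt N2159 F11965) (tt N2922 D3520) (tt N1586 F11966) (tt N2159 F11967) (tt N2912 (iv F16745)) (tt N1704 (iv F201561)) (tt N1576 F11968))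
theorem Q2161 : ∀ i, i < 2161 → P i := stepQ 2160 Q2160 (allL N2160 (tt N1736 F11969) (tt N2922 (iv F16834)) (tt N1575 F11970) (tt N2923 D3521) (tt N1574 (iv D2441)) (tt N2924 D3522) (tt N2160 F11971) (tt N2913 (iv F16749)) (tt N1868 (iv F201203)) (tt N1577 F11972))
theorem Q2162 : ∀ i, i < 2162 → P i := stepQ 2161 Q2161 (allL N2161 (tt N1737 F11973) (tt N2681 (iv F15588)) (tt N2924 (iv F16843)) (tt N2161 F11974) (tt N1588 F11975) (tt N1575 (iv D2442)) (tt N2925 D3523) (tt N2914 (iv F16754)) (tt N2921 (iv F16827)) (tt N1578 F11976))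
theorem Q2163 : ∀ i, i < 2163 → P i := stepQ 2162 Q2162 (allL N2162 (tt N1576 (iv D2443)) (tt N1710 F201132) (tt N2682 (iv F15593)) (tt N2162 F11978) (tt N2926 D3524) (tt N1589 F11979) (tt N2162 F11980) (tt N2915 (iv F16759)) (tt N2162 F11981) (tt N1708 (iv F201551)))
theorem Q2164 : ∀ i, i < 2164 → P i := stepQ 2163 Q2163 (allL N2163 (tt N2926 (iv F16851)) (tt N1577 F11982) (tt N2683 (iv F15598)) (tt N2927 D3525) (tt N1576 (iv D2444)) (tt N2928 D3526) (tt N2163 F11983) (tt N2916 (iv F16762)) (tt N2163 F11984) (tt N2922 (iv F16836)))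
theorem Q2165 : ∀ i, i < 2165 → P i := stepQ 2164 Q2164 (allL N2164 (tt N1739 F11985) (tt N2927 (iv F16855)) (tt N2164 F11986) (tt N1577 (iv D2445)) (tt N2164 F11987) (tt N2929 D3527) (tt N2164 F11988) (tt N2917 (iv F16767)) (tt N2930 D3528) (tt N2923 (iv F16841)))
theorem Q2166 : ∀ i, i < 2166 → P i := stepQ 2165 Q2165 (allL N2165 (tt N1740 F11989) (tt N2928 (iv F16858)) (tt N1578 F11990) (tt N2929 (iv F16863)) (tt N1592 F11991) (tt N1577 (iv D2446)) (tt N2931 D3529) (tt N2918 (iv F16771)) (tt N2165 F11992) (tt N2924 (iv F16845)))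
theorem Q2167 : ∀ i, i < 2167 → P i := stepQ 2166 Q2166 (allL N2166 (tt N1741 F11993) (tt N2686 (iv F15609)) (tt N2931 (iv F16870)) (tt N2166 F11994) (tt N1593 F11995) (tt N2166 F11996) (tt N1578 (iv D2447)) (tt N2932 D3530) (tt N2166 F11997) (tt N2925 (iv F16850)))
theorem Q2168 : ∀ i, i < 2168 → P i := stepQ 2167 Q2167 (allL N2167 (tt N1742 F12009) (tt N2688 (iv F15621)) (tt N1840 (iv F200327)) (tt N2167 F12010) (tt N1579 (iv D2450)) (tt N2933 D3535) (tt N2167 F12011) (tt N1585 F12012) (tt N1581 F12013) (tt N2167 F12014))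
theorem Q2169 : ∀ i, i < 2169 → P i := stepQ 2168 Q2168 (allL N2168 (tt N1697 (iv F200862)) (tt N1580 (iv D2451)) (tt N2689 (iv F15627)) (tt N2168 F12015) (tt N2934 D3537) (tt N2912 (iv F16744)) (tt N2168 F12016) (tt N1586 F12017) (tt N1693 (iv F200872)) (tt N1582 F12018))
theorem Q2170 : ∀ i, i < 2170 → P i := stepQ 2169 Q2169 (allL N2169 (tt N1743 F12019) (tt N2934 (iv F16912)) (tt N1581 F12020) (tt N2935 D3538) (tt N1580 (iv D2452)) (tt N2936 D3539) (tt N2169 F12021) (tt N1587 F12022) (tt N1840 (iv F200328)) (tt N1583 F12023))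
theorem Q2171 : ∀ i, i < 2171 → P i := stepQ 2170 Q2170 (allL N2170 (tt N1744 F12024) (tt N2691 (iv F15637)) (tt N2936 (iv F16923)) (tt N1608 F12025) (tt N2914 (iv F16753)) (tt N1581 (iv D2453)) (tt N2937 D3540) (tt N1588 F12026) (tt N2933 (iv F16905)) (tt N1584 F12027))
theorem Q2172 : ∀ i, i < 2172 → P i := stepQ 2171 Q2171 (allL N2171 (tt N1582 (iv D2454)) (tt N1702 F200544) (tt N2692 (iv F15642)) (tt N2171 F12029) (tt N2938 D3541) (tt N2915 (iv F16758)) (tt N2171 F12030) (tt N1589 F12031) (tt N2171 F12032) (tt N1697 (iv F200863)))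
theorem Q2173 : ∀ i, i < 2173 → P i := stepQ 2172 Q2172 (allL N2172 (tt N2938 (iv F16930)) (tt N1583 F12033) (tt N2693 (iv F15647)) (tt N2939 D3542) (tt N1582 (iv D2455)) (tt N2940 D3543) (tt N2172 F12034) (tt N1590 F12035) (tt N2172 F12036) (tt N2934 (iv F16915)))
theorem Q2174 : ∀ i, i < 2174 → P i := stepQ 2173 Q2173 (allL N2173 (tt N1746 F12037) (tt N2939 (iv F16935)) (tt N1611 F12038) (tt N1583 (iv D2456)) (tt N2173 F12039) (tt N2941 D3544) (tt N2173 F12040) (tt N1591 F12041) (tt N2942 D3545) (tt N2935 (iv F16921)))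
theorem Q2175 : ∀ i, i < 2175 → P i := stepQ 2174 Q2174 (allL N2174 (tt N1747 F12042) (tt N2940 (iv F16939)) (tt N1584 F12043) (tt N2941 (iv F16944)) (tt N2918 (iv F16770)) (tt N1583 (iv D2457)) (tt N2943 D3546) (tt N1592 F12044) (tt N2174 F12045) (tt N2936 (iv F16925)))
theorem Q2176 : ∀ i, i < 2176 → P i := stepQ 2175 Q2175 (allL N2175 (tt N1748 F12046) (tt N2696 (iv F15660)) (tt N2943 (iv F16953)) (tt N1613 F12047) (tt N2919 (iv F16775)) (tt N2175 F12048) (tt N1584 (iv D2458)) (tt N2944 D3547) (tt N2175 F12049) (tt N2937 (iv F16929)))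
theorem Q2177 : ∀ i, i < 2177 → P i := stepQ 2176 Q2176 (allL N2176 (tt N1749 F12069) (tt N2698 (iv F15675)) (tt N1848 (iv F200784)) (tt N2176 F12070) (tt N2921 (iv F16826)) (tt N1585 (iv D2463)) (tt N2945 D3555) (tt N2933 (iv F16904)) (tt N1588 F12071) (tt N2176 F12072))
theorem Q2178 : ∀ i, i < 2178 → P i := stepQ 2177 Q2177 (allL N2177 (tt N1674 (iv F200772)) (tt N1587 F12077) (tt N2699 (iv F15684)) (tt N2946 D3557) (tt N1586 (iv D2465)) (tt N2947 D3558) (tt N1595 F12078) (tt N2934 (iv F16914)) (tt N1670 (iv F200777)) (tt N1590 F12079))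
theorem Q2179 : ∀ i, i < 2179 → P i := stepQ 2178 Q2178 (allL N2178 (tt N1750 F12080) (tt N2946 (iv F17001)) (tt N1616 F12081) (tt N1587 (iv D2466)) (tt N2178 F12082) (tt N2948 D3559) (tt N1596 F12083) (tt N2935 (iv F16920)) (tt N1790 (iv F200317)) (tt N1591 F12084))
theorem Q2180 : ∀ i, i < 2180 → P i := stepQ 2179 Q2179 (allL N2179 (tt N1751 F12085) (tt N2947 (iv F17005)) (tt N1588 F12086) (tt N2948 (iv F17009)) (tt N2924 (iv F16844)) (tt N1587 (iv D2467)) (tt N2949 D3561) (tt N2936 (iv F16924)) (tt N1848 (iv F200785)) (tt N1592 F12087))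
theorem Q2181 : ∀ i, i < 2181 → P i := stepQ 2180 Q2180 (allL N2180 (tt N1752 F12088) (tt N2702 (iv F15695)) (tt N2949 (iv F17016)) (tt N1618 F12089) (tt N2925 (iv F16848)) (tt N1598 F12090) (tt N1588 (iv D2468)) (tt N2950 D3562) (tt N2945 (iv F16995)) (tt N1593 F12091))
theorem Q2182 : ∀ i, i < 2182 → P i := stepQ 2181 Q2181 (allL N2181 (tt N1590 F12092) (tt N1679 F200484) (tt N2703 (iv F15701)) (tt N2951 D3563) (tt N1589 (iv D2469)) (tt N2952 D3564) (tt N1599 F12094) (tt N2938 (iv F16933)) (tt N2181 F12095) (tt N1674 (iv F200773)))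
theorem Q2183 : ∀ i, i < 2183 → P i := stepQ 2182 Q2182 (allL N2182 (tt N2951 (iv F17023)) (tt N1591 F12096) (tt N2953 D3565) (tt N1590 (iv D2470)) (tt N2182 F12097) (tt N2954 D3566) (tt N1600 F12098) (tt N2939 (iv F16938)) (tt N2955 D3567) (tt N2946 (iv F17004)))
theorem Q2184 : ∀ i, i < 2184 → P i := stepQ 2183 Q2183 (allL N2183 (tt N2952 (iv F17027)) (tt N1592 F12099) (tt N2705 (iv F15707)) (tt N2954 (iv F17034)) (tt N2928 (iv F16859)) (tt N1590 (iv D2471)) (tt N2956 D3568) (tt N2940 (iv F16940)) (tt N2183 F12100) (tt N2947 (iv F17006)))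
theorem Q2185 : ∀ i, i < 2185 → P i := stepQ 2184 Q2184 (allL N2184 (tt N1755 F12101) (tt N2954 (iv F17033)) (tt N1622 F12102) (tt N1592 F12103) (tt N2957 D3569) (tt N1591 (iv D2472)) (tt N2958 D3570) (tt N2941 (iv F16945)) (tt N2959 D3571) (tt N2948 (iv F17010)))
theorem Q2186 : ∀ i, i < 2186 → P i := stepQ 2185 Q2185 (allL N2185 (tt N1756 F12104) (tt N2955 (iv F17035)) (tt N1623 F12105) (tt N2185 F12106) (tt N2185 F12107) (tt N2959 (iv F17052)) (tt N1603 F12108) (tt N2942 (iv F16951)) (tt N1591 (iv D2473)) (tt N2960 D3572))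
theorem Q2187 : ∀ i, i < 2187 → P i := stepQ 2186 Q2186 (allL N2186 (tt N1757 F12109) (tt N2956 (iv F17039)) (tt N1593 F12110) (tt N2958 (iv F17047)) (tt N2931 (iv F16871)) (tt N1604 F12111) (tt N1592 (iv D2474)) (tt N2961 D3573) (tt N2186 F12112) (tt N2949 (iv F17018)))
theorem Q2188 : ∀ i, i < 2188 → P i := stepQ 2187 Q2187 (allL N2187 (tt N1758 F12113) (tt N2709 (iv F15721)) (tt N2961 (iv F17059)) (tt N1625 F12114) (tt N2932 (iv F16876)) (tt N1605 F12115) (tt N2944 (iv F16959)) (tt N1593 (iv D2475)) (tt N2187 F12116) (tt N2950 (iv F17022)))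
theorem Q2189 : ∀ i, i < 2189 → P i := stepQ 2188 Q2188 (allL N2188 (tt N1759 F12154) (tt N2712 (iv F15749)) (tt N1857 (iv F201585)) (tt N2188 F12155) (tt N2188 F12156) (tt N2945 (iv F16994)) (tt N1594 (iv D2483)) (tt N2962 D3585) (tt N1598 F12157) (tt N2188 F12158))
theorem Q2190 : ∀ i, i < 2190 → P i := stepQ 2189 Q2189 (allL N2189 (tt N1637 (iv F200775)) (tt N1596 F12163) (tt N2963 D3588) (tt N1595 (iv D2485)) (tt N2189 F12164) (tt N2964 D3589) (tt N2946 (iv F17003)) (tt N2189 F12165) (tt N1633 (iv F200778)) (tt N1600 F12166))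
theorem Q2191 : ∀ i, i < 2191 → P i := stepQ 2190 Q2190 (allL N2190 (tt N1687 (iv F201554)) (tt N1597 F12167) (tt N2714 (iv F15763)) (tt N2964 (iv F17139)) (tt N2190 F12168) (tt N1595 (iv D2486)) (tt N2965 D3591) (tt N2190 F12169) (tt N1682 (iv F201563)) (tt N1601 F12170))
theorem Q2192 : ∀ i, i < 2192 → P i := stepQ 2191 Q2191 (allL N2191 (tt N1760 F12171) (tt N2964 (iv F17138)) (tt N1629 F12172) (tt N1597 F12173) (tt N2966 D3592) (tt N1596 (iv D2487)) (tt N2967 D3593) (tt N2191 F12174) (tt N1806 (iv F200865)) (tt N1602 F12175))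
theorem Q2193 : ∀ i, i < 2193 → P i := stepQ 2192 Q2192 (allL N2192 (tt N1761 F12180) (tt N2965 (iv F17145)) (tt N1598 F12181) (tt N2967 (iv F17156)) (tt N2192 F12182) (tt N2949 (iv F17017)) (tt N1597 (iv D2489)) (tt N2968 D3596) (tt N1857 (iv F201586)) (tt N1604 F12183))
theorem Q2194 : ∀ i, i < 2194 → P i := stepQ 2193 Q2193 (allL N2193 (tt N1762 F12184) (tt N2718 (iv F15780)) (tt N2968 (iv F17168)) (tt N1632 F12185) (tt N2193 F12186) (tt N2950 (iv F17021)) (tt N2193 F12187) (tt N1598 (iv D2490)) (tt N2962 (iv F17122)) (tt N1605 F12188))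
theorem Q2195 : ∀ i, i < 2195 → P i := stepQ 2194 Q2194 (allL N2194 (tt N1600 F12189) (tt N1642 F200485) (tt N2969 D3597) (tt N1599 (iv D2491)) (tt N2194 F12191) (tt N2970 D3598) (tt N2951 (iv F17026)) (tt N2194 F12192) (tt N2971 D3599) (tt N1637 (iv F200776)))
theorem Q2196 : ∀ i, i < 2196 → P i := stepQ 2195 Q2195 (allL N2195 (tt N1601 F12193) (tt N1691 F201136) (tt N2720 (iv F15790)) (tt N2970 (iv F17177)) (tt N2195 F12195) (tt N1599 (iv D2492)) (tt N2972 D3600) (tt N2195 F12196) (tt N2195 F12197) (tt N1687 (iv F201555)))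
theorem Q2197 : ∀ i, i < 2197 → P i := stepQ 2196 Q2196 (allL N2196 (tt N2969 (iv F17172)) (tt N1635 F12198) (tt N1600 (iv D2493)) (tt N2721 (iv F15795)) (tt N2196 F12199) (tt N2973 D3601) (tt N2953 (iv F17032)) (tt N2196 F12200) (tt N2974 D3602) (tt N2963 (iv F17137)))
theorem Q2198 : ∀ i, i < 2198 → P i := stepQ 2197 Q2197 (allL N2197 (tt N2970 (iv F17175)) (tt N1602 F12201) (tt N2973 (iv F17189)) (tt N1601 F12202) (tt N2975 D3603) (tt N1600 (iv D2494)) (tt N2976 D3604) (tt N2197 F12203) (tt N2977 D3605) (tt N2964 (iv F17141)))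
theorem Q2199 : ∀ i, i < 2199 → P i := stepQ 2198 Q2198 (allL N2198 (tt N2971 (iv F17179)) (tt N1603 F12204) (tt N2974 (iv F17192)) (tt N2198 F12205) (tt N2198 F12206) (tt N2977 (iv F17203)) (tt N2955 (iv F17038)) (tt N2198 F12207) (tt N1600 (iv D2495)) (tt N2978 D3606))
theorem Q2200 : ∀ i, i < 2200 → P i := stepQ 2199 Q2199 (allL N2199 (tt N2972 (iv F17184)) (tt N1604 F12208) (tt N2724 (iv F15804)) (tt N2976 (iv F17200)) (tt N2199 F12209) (tt N2956 (iv F17040)) (tt N1601 (iv D2496)) (tt N2979 D3607) (tt N2199 F12210) (tt N2965 (iv F17147)))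
theorem Q2201 : ∀ i, i < 2201 → P i := stepQ 2200 Q2200 (allL N2200 (tt N1767 F12211) (tt N2975 (iv F17195)) (tt N1639 F12212) (tt N2200 F12213) (tt N1602 (iv D2497)) (tt N2200 F12214) (tt N2980 D3608) (tt N2200 F12215) (tt N2981 D3609) (tt N2966 (iv F17153)))
theorem Q2202 : ∀ i, i < 2202 → P i := stepQ 2201 Q2201 (allL N2201 (tt N1768 F12216) (tt N2976 (iv F17199)) (tt N1640 F12217) (tt N1604 F12218) (tt N2980 (iv F17216)) (tt N2958 (iv F17048)) (tt N1602 (iv D2498)) (tt N2982 D3610) (tt N2983 D3611) (tt N2967 (iv F17157)))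
theorem Q2203 : ∀ i, i < 2203 → P i := stepQ 2202 Q2202 (allL N2202 (tt N1769 F12219) (tt N2977 (iv F17201)) (tt N1641 F12220) (tt N2202 F12221) (tt N2981 (iv F17219)) (tt N1603 F12222) (tt N2983 (iv F17229)) (tt N2202 F12223) (tt N1602 (iv D2499)) (tt N2984 D3612))
theorem Q2204 : ∀ i, i < 2204 → P i := stepQ 2203 Q2203 (allL N2203 (tt N1763 F200542) (tt N2978 (iv F17205)) (tt N1642 F12225) (tt N2203 F12226) (tt N2203 F12227) (tt N2984 (iv F17233)) (tt N2960 (iv F17057)) (tt N2203 F12228) (tt N1798 F200543) (tt N1603 (iv D2500)))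
theorem Q2205 : ∀ i, i < 2205 → P i := stepQ 2204 Q2204 (allL N2204 (tt N1770 F12229) (tt N2979 (iv F17209)) (tt N1605 F12230) (tt N2982 (iv F17224)) (tt N2204 F12231) (tt N2961 (iv F17060)) (tt N2204 F12232) (tt N1604 (iv D2501)) (tt N2204 F12233) (tt N2968 (iv F17171)))
theorem Q2206 : ∀ i, i < 2206 → P i := stepQ 2205 Q2205 (allL N2205 (tt N1606 (iv D2502)) (tt N1771 F12234) (tt N2730 (iv F15829)) (tt N2205 F12235) (tt N2985 D3613) (tt N2205 F12236) (tt N2205 F12237) (tt N1614 F12238) (tt N2205 F12239) (tt N1609 F12240))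
theorem Q2207 : ∀ i, i < 2207 → P i := stepQ 2206 Q2206 (allL N2206 (tt N2985 (iv F17235)) (tt N1607 F12241) (tt N2731 (iv F15836)) (tt N2986 D3614) (tt N1606 (iv D2503)) (tt N2987 D3615) (tt N2206 F12242) (tt N1615 F12243) (tt N2206 F12244) (tt N1610 F12245))
theorem Q2208 : ∀ i, i < 2208 → P i := stepQ 2207 Q2207 (allL N2207 (tt N1773 F12246) (tt N2986 (iv F17241)) (tt N2935 (iv F16917)) (tt N1607 (iv D2504)) (tt N2207 F12247) (tt N2988 D3616) (tt N2207 F12248) (tt N1616 F12249) (tt N2989 D3617) (tt N1611 F12250))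
theorem Q2209 : ∀ i, i < 2209 → P i := stepQ 2208 Q2208 (allL N2208 (tt N1774 F12251) (tt N2987 (iv F17246)) (tt N1608 F12252) (tt N2988 (iv F17252)) (tt N2208 F12253) (tt N1607 (iv D2505)) (tt N2990 D3618) (tt N1617 F12254) (tt N2208 F12255) (tt N1612 F12256))
theorem Q2210 : ∀ i, i < 2210 → P i := stepQ 2209 Q2209 (allL N2209 (tt N1775 F12257) (tt N2734 (iv F15852)) (tt N2990 (iv F17261)) (tt N2937 (iv F16927)) (tt N2209 F12258) (tt N2209 F12259) (tt N1608 (iv D2506)) (tt N2991 D3619) (tt N2209 F12260) (tt N1613 F12261))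
theorem Q2211 : ∀ i, i < 2211 → P i := stepQ 2210 Q2210 (allL N2210 (tt N1610 F12262) (tt N1776 F12263) (tt N2735 (iv F15859)) (tt N2992 D3620) (tt N1609 (iv D2507)) (tt N2993 D3621) (tt N2210 F12264) (tt N1619 F12265) (tt N1663 F12266) (tt N2985 (iv F17240)))
theorem Q2212 : ∀ i, i < 2212 → P i := stepQ 2211 Q2211 (allL N2211 (tt N2992 (iv F17272)) (tt N1611 F12267) (tt N2994 D3622) (tt N1610 (iv D2508)) (tt N2211 F12268) (tt N2995 D3623) (tt N2211 F12269) (tt N1620 F12270) (tt N2996 D3624) (tt N2986 (iv F17245)))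
theorem Q2213 : ∀ i, i < 2213 → P i := stepQ 2212 Q2212 (allL N2212 (tt N2993 (iv F17277)) (tt N1612 F12271) (tt N2737 (iv F15867)) (tt N2995 (iv F17286)) (tt N2212 F12272) (tt N1610 (iv D2509)) (tt N2997 D3625) (tt N1621 F12273) (tt N1665 F12274) (tt N2987 (iv F17250)))
theorem Q2214 : ∀ i, i < 2214 → P i := stepQ 2213 Q2213 (allL N2213 (tt N1779 F12275) (tt N2995 (iv F17285)) (tt N2941 (iv F16943)) (tt N1612 F12276) (tt N2998 D3626) (tt N1611 (iv D2510)) (tt N2999 D3627) (tt N1622 F12277) (tt N3000 D3628) (tt N2988 (iv F17254)))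
theorem Q2215 : ∀ i, i < 2215 → P i := stepQ 2214 Q2214 (allL N2214 (tt N1780 F12278) (tt N2996 (iv F17288)) (tt N2942 (iv F16947)) (tt N1667 F12279) (tt N2214 F12280) (tt N3000 (iv F17306)) (tt N2214 F12281) (tt N1623 F12282) (tt N1611 (iv D2511)) (tt N3001 D3629))
theorem Q2216 : ∀ i, i < 2216 → P i := stepQ 2215 Q2215 (allL N2215 (tt N1781 F12283) (tt N2997 (iv F17293)) (tt N1613 F12284) (tt N2999 (iv F17302)) (tt N2215 F12285) (tt N2215 F12286) (tt N1612 (iv D2512)) (tt N3002 D3630) (tt N1668 F12287) (tt N2990 (iv F17265)))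
theorem Q2217 : ∀ i, i < 2217 → P i := stepQ 2216 Q2216 (allL N2216 (tt N1782 F12288) (tt N2741 (iv F15884)) (tt N3002 (iv F17314)) (tt N2944 (iv F16957)) (tt N2216 F12289) (tt N2216 F12290) (tt N1625 F12291) (tt N1613 (iv D2513)) (tt N1669 F12292) (tt N2991 (iv F17271)))
theorem Q2218 : ∀ i, i < 2218 → P i := stepQ 2217 Q2217 (allL N2217 (tt N1615 F12293) (tt N1783 F12294) (tt N2742 (iv F15891)) (tt N3003 D3631) (tt N1614 (iv D2514)) (tt N3004 D3632) (tt N1626 F12295) (tt N2985 (iv F17238)) (tt N2217 F12296) (tt N1619 F12297))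
theorem Q2219 : ∀ i, i < 2219 → P i := stepQ 2218 Q2218 (allL N2218 (tt N3003 (iv F17319)) (tt N1616 F12298) (tt N3005 D3633) (tt N1615 (iv D2515)) (tt N2218 F12299) (tt N3006 D3634) (tt N1627 F12300) (tt N2986 (iv F17244)) (tt N3007 D3635) (tt N1620 F12301))
theorem Q2220 : ∀ i, i < 2220 → P i := stepQ 2219 Q2219 (allL N2219 (tt N3004 (iv F17324)) (tt N1617 F12302) (tt N2744 (iv F15899)) (tt N3006 (iv F17333)) (tt N2219 F12303) (tt N1615 (iv D2516)) (tt N3008 D3636) (tt N2987 (iv F17248)) (tt N2219 F12304) (tt N1621 F12305))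
theorem Q2221 : ∀ i, i < 2221 → P i := stepQ 2220 Q2220 (allL N2220 (tt N1786 F12306) (tt N3006 (iv F17332)) (tt N2948 (iv F17008)) (tt N1617 F12307) (tt N3009 D3637) (tt N1616 (iv D2517)) (tt N3010 D3638) (tt N2988 (iv F17253)) (tt N3011 D3639) (tt N1622 F12308))
theorem Q2222 : ∀ i, i < 2222 → P i := stepQ 2221 Q2221 (allL N2221 (tt N1787 F12309) (tt N3007 (iv F17335)) (tt N1790 (iv F200316)) (tt N2221 F12310) (tt N2221 F12311) (tt N3011 (iv F17354)) (tt N1630 F12312) (tt N2989 (iv F17259)) (tt N1616 (iv D2518)) (tt N3012 D3640))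
theorem Q2223 : ∀ i, i < 2223 → P i := stepQ 2222 Q2222 (allL N2222 (tt N1788 F12313) (tt N3008 (iv F17339)) (tt N1618 F12314) (tt N3010 (iv F17349)) (tt N2222 F12315) (tt N1631 F12316) (tt N1617 (iv D2519)) (tt N3013 D3641) (tt N2222 F12317) (tt N1624 F12318))
theorem Q2224 : ∀ i, i < 2224 → P i := stepQ 2223 Q2223 (allL N2223 (tt N1789 F12319) (tt N2748 (iv F15916)) (tt N3013 (iv F17361)) (tt N2950 (iv F17020)) (tt N2223 F12320) (tt N1632 F12321) (tt N2991 (iv F17269)) (tt N1618 (iv D2520)) (tt N2223 F12322) (tt N1625 F12323))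
theorem Q2225 : ∀ i, i < 2225 → P i := stepQ 2224 Q2224 (allL N2224 (tt N1620 F12324) (tt N1790 F12325) (tt N3014 D3642) (tt N1619 (iv D2521)) (tt N2224 F12326) (tt N3015 D3643) (tt N1633 F12327) (tt N2992 (iv F17276)) (tt N2946 F200488) (tt N3003 (iv F17323)))
theorem Q2226 : ∀ i, i < 2226 → P i := stepQ 2225 Q2225 (allL N2225 (tt N1621 F12328) (tt N1791 F12329) (tt N2750 (iv F15926)) (tt N3015 (iv F17371)) (tt N2225 F12330) (tt N1619 (iv D2522)) (tt N3016 D3645) (tt N2993 (iv F17280)) (tt N1671 F12331) (tt N3004 (iv F17328)))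
theorem Q2227 : ∀ i, i < 2227 → P i := stepQ 2226 Q2226 (allL N2226 (tt N3014 (iv F17366)) (tt N2953 (iv F17030)) (tt N1620 (iv D2523)) (tt N2751 (iv F15929)) (tt N2226 F12332) (tt N3017 D3646) (tt N1635 F12333) (tt N2994 (iv F17284)) (tt N3018 D3647) (tt N3005 (iv F17331)))
theorem Q2228 : ∀ i, i < 2228 → P i := stepQ 2227 Q2227 (allL N2227 (tt N3015 (iv F17369)) (tt N1622 F12334) (tt N3017 (iv F17382)) (tt N1621 F12335) (tt N3019 D3648) (tt N1620 (iv D2524)) (tt N3020 D3649) (tt N2995 (iv F17287)) (tt N3021 D3650) (tt N3006 (iv F17334)))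
theorem Q2229 : ∀ i, i < 2229 → P i := stepQ 2228 Q2228 (allL N2228 (tt N2946 F200486) (tt N1623 F12336) (tt N3018 (iv F17383)) (tt N1674 F12337) (tt N2228 F12338) (tt N3021 (iv F17394)) (tt N1637 F12339) (tt N2996 (iv F17292)) (tt N1620 (iv D2525)) (tt N2951 F200487))
theorem Q2230 : ∀ i, i < 2230 → P i := stepQ 2229 Q2229 (allL N2229 (tt N3016 (iv F17377)) (tt N1624 F12340) (tt N2754 (iv F15937)) (tt N3020 (iv F17390)) (tt N2229 F12341) (tt N1638 F12342) (tt N1621 (iv D2526)) (tt N3022 D3652) (tt N1675 F12343) (tt N3008 (iv F17343)))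
theorem Q2231 : ∀ i, i < 2231 → P i := stepQ 2230 Q2230 (allL N2230 (tt N1794 F12344) (tt N3019 (iv F17386)) (tt N2957 (iv F17043)) (tt N2230 F12345) (tt N1622 (iv D2527)) (tt N2230 F12346) (tt N3023 D3653) (tt N2998 (iv F17300)) (tt N3024 D3654) (tt N3009 (iv F17347)))
theorem Q2232 : ∀ i, i < 2232 → P i := stepQ 2231 Q2231 (allL N2231 (tt N1795 F12347) (tt N3020 (iv F17389)) (tt N2958 (iv F17046)) (tt N1624 F12348) (tt N3023 (iv F17405)) (tt N1640 F12349) (tt N1622 (iv D2528)) (tt N3025 D3655) (tt N3026 D3656) (tt N3010 (iv F17351)))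
theorem Q2233 : ∀ i, i < 2233 → P i := stepQ 2232 Q2232 (allL N2232 (tt N1796 F12350) (tt N3021 (iv F17392)) (tt N2959 (iv F17050)) (tt N1678 F12351) (tt N3024 (iv F17407)) (tt N1623 F12352) (tt N3026 (iv F17415)) (tt N3000 (iv F17307)) (tt N1622 (iv D2529)) (tt N3027 D3657))
theorem Q2234 : ∀ i, i < 2234 → P i := stepQ 2233 Q2233 (allL N2233 (tt N1753 F200183) (tt N2951 (iv F200262)) (tt N2960 (iv F17054)) (tt N1679 F12354) (tt N2233 F12355) (tt N3027 (iv F17418)) (tt N1642 F12356) (tt N3001 (iv F17312)) (tt N3012 (iv F17359)) (tt N1623 (iv D2530)))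
theorem Q2235 : ∀ i, i < 2235 → P i := stepQ 2234 Q2234 (allL N2234 (tt N1797 F12357) (tt N3022 (iv F17399)) (tt N1625 F12358) (tt N3025 (iv F17410)) (tt N2234 F12359) (tt N1643 F12360) (tt N3002 (iv F17317)) (tt N1624 (iv D2531)) (tt N1680 F12361) (tt N3013 (iv F17365)))
theorem Q2236 : ∀ i, i < 2236 → P i := stepQ 2235 Q2235 (allL N2235 (tt N1627 F12362) (tt N1798 F12363) (tt N3028 D3658) (tt N1626 (iv D2532)) (tt N2235 F12364) (tt N3029 D3659) (tt N3003 (iv F17322)) (tt N2235 F12365) (tt N2978 F200534) (tt N1633 F12366))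
theorem Q2237 : ∀ i, i < 2237 → P i := stepQ 2236 Q2236 (allL N2236 (tt N1628 F12367) (tt N1799 F12368) (tt N2761 (iv F15963)) (tt N3029 (iv F17425)) (tt N1645 F12369) (tt N1626 (iv D2533)) (tt N3030 D3661) (tt N2236 F12370) (tt N2236 F12371) (tt N1634 F12372))
theorem Q2238 : ∀ i, i < 2238 → P i := stepQ 2237 Q2237 (allL N2237 (tt N3028 (iv F17419)) (tt N2963 (iv F17134)) (tt N1627 (iv D2534)) (tt N2762 (iv F15968)) (tt N2237 F12373) (tt N3031 D3662) (tt N3005 (iv F17330)) (tt N2237 F12374) (tt N3032 D3663) (tt N1635 F12375))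
theorem Q2239 : ∀ i, i < 2239 → P i := stepQ 2238 Q2238 (allL N2238 (tt N3029 (iv F17423)) (tt N1629 F12376) (tt N3031 (iv F17438)) (tt N1628 F12377) (tt N3033 D3664) (tt N1627 (iv D2535)) (tt N3034 D3665) (tt N2238 F12378) (tt N3035 D3666) (tt N1636 F12379))
theorem Q2240 : ∀ i, i < 2240 → P i := stepQ 2239 Q2239 (allL N2239 (tt N2978 F200535) (tt N1630 F12380) (tt N3032 (iv F17441)) (tt N2239 F12381) (tt N2239 F12382) (tt N3035 (iv F17454)) (tt N3007 (iv F17338)) (tt N2239 F12383) (tt N1627 (iv D2536)) (tt N2971 F200536))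
theorem Q2241 : ∀ i, i < 2241 → P i := stepQ 2240 Q2240 (allL N2240 (tt N3030 (iv F17433)) (tt N1631 F12384) (tt N2765 (iv F15979)) (tt N3034 (iv F17450)) (tt N1649 F12385) (tt N3008 (iv F17341)) (tt N1628 (iv D2537)) (tt N3036 D3668) (tt N2240 F12386) (tt N1638 F12387))
theorem Q2242 : ∀ i, i < 2242 → P i := stepQ 2241 Q2241 (allL N2241 (tt N1802 F12388) (tt N3033 (iv F17444)) (tt N2966 (iv F17149)) (tt N1650 F12389) (tt N1629 (iv D2538)) (tt N2241 F12390) (tt N3037 D3669) (tt N2241 F12391) (tt N3038 D3670) (tt N1639 F12392))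
theorem Q2243 : ∀ i, i < 2243 → P i := stepQ 2242 Q2242 (allL N2242 (tt N1803 F12393) (tt N3034 (iv F17449)) (tt N2967 (iv F17155)) (tt N1631 F12394) (tt N3037 (iv F17468)) (tt N3010 (iv F17350)) (tt N1629 (iv D2539)) (tt N3039 D3671) (tt N3040 D3672) (tt N1640 F12395))
theorem Q2244 : ∀ i, i < 2244 → P i := stepQ 2243 Q2243 (allL N2243 (tt N1804 F12396) (tt N3035 (iv F17452)) (tt N1806 (iv F200864)) (tt N2243 F12397) (tt N3038 (iv F17471)) (tt N1630 F12398) (tt N3040 (iv F17480)) (tt N2243 F12399) (tt N1629 (iv D2540)) (tt N3041 D3673))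
theorem Q2245 : ∀ i, i < 2245 → P i := stepQ 2244 Q2244 (allL N2244 (tt N1765 F200197) (tt N2971 (iv F200407)) (tt N1798 (iv F200381)) (tt N2244 F12401) (tt N2244 F12402) (tt N3041 (iv F17483)) (tt N3012 (iv F17358)) (tt N2244 F12403) (tt N1642 F12404) (tt N1630 (iv D2541)))
theorem Q2246 : ∀ i, i < 2246 → P i := stepQ 2245 Q2245 (allL N2245 (tt N1805 F12405) (tt N3036 (iv F17461)) (tt N1632 F12406) (tt N3039 (iv F17475)) (tt N1653 F12407) (tt N3013 (iv F17363)) (tt N2245 F12408) (tt N1631 (iv D2542)) (tt N2245 F12409) (tt N1643 F12410))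
theorem Q2247 : ∀ i, i < 2247 → P i := stepQ 2246 Q2246 (allL N2246 (tt N1635 F12411) (tt N3032 F201106) (tt N1633 (iv D2543)) (tt N2771 (iv F16005)) (tt N2246 F12412) (tt N3042 D3675) (tt N3014 (iv F17368)) (tt N2246 F12413) (tt N2963 F201107) (tt N3028 (iv F17422)))
theorem Q2248 : ∀ i, i < 2248 → P i := stepQ 2247 Q2247 (allL N2247 (tt N1636 F12414) (tt N1806 F12415) (tt N3042 (iv F17490)) (tt N1634 F12416) (tt N3043 D3677) (tt N1633 (iv D2544)) (tt N3044 D3678) (tt N2247 F12417) (tt N2964 F201146) (tt N3029 (iv F17427)))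
theorem Q2249 : ∀ i, i < 2249 → P i := stepQ 2248 Q2248 (allL N2248 (tt N1638 F12423) (tt N1807 F12424) (tt N2774 (iv F16017)) (tt N3044 (iv F17503)) (tt N1656 F12425) (tt N3016 (iv F17380)) (tt N1634 (iv D2546)) (tt N3045 D3681) (tt N1683 F12426) (tt N3030 (iv F17437)))
theorem Q2250 : ∀ i, i < 2250 → P i := stepQ 2249 Q2249 (allL N2249 (tt N3042 (iv F17489)) (tt N2973 (iv F17188)) (tt N1636 F12427) (tt N2775 (iv F16021)) (tt N3046 D3682) (tt N1635 (iv D2547)) (tt N3047 D3683) (tt N2249 F12428) (tt N3048 D3684) (tt N3031 (iv F17440)))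
theorem Q2251 : ∀ i, i < 2251 → P i := stepQ 2250 Q2250 (allL N2250 (tt N2963 F201109) (tt N2974 (iv F17191)) (tt N1637 F12429) (tt N3049 D3685) (tt N2250 F12430) (tt N3048 (iv F17524)) (tt N3018 (iv F17385)) (tt N2250 F12431) (tt N1635 (iv D2548)) (tt N2969 F201110))
theorem Q2252 : ∀ i, i < 2252 → P i := stepQ 2251 Q2251 (allL N2251 (tt N3043 (iv F17496)) (tt N1639 F12432) (tt N3046 (iv F17519)) (tt N1658 F12433) (tt N1636 (iv D2549)) (tt N2251 F12434) (tt N3050 D3687) (tt N2251 F12435) (tt N3051 D3688) (tt N3033 (iv F17448)))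
theorem Q2253 : ∀ i, i < 2253 → P i := stepQ 2252 Q2252 (allL N2252 (tt N3044 (iv F17501)) (tt N1640 F12436) (tt N3047 (iv F17522)) (tt N1638 F12437) (tt N3050 (iv F17533)) (tt N3020 (iv F17391)) (tt N1636 (iv D2550)) (tt N3052 D3689) (tt N3053 D3690) (tt N3034 (iv F17451)))
theorem Q2254 : ∀ i, i < 2254 → P i := stepQ 2253 Q2253 (allL N2253 (tt N2964 F201140) (tt N1641 F12438) (tt N3048 (iv F17523)) (tt N1687 F12439) (tt N3051 (iv F17536)) (tt N1637 F12440) (tt N3053 (iv F17544)) (tt N2253 F12441) (tt N1636 (iv D2551)) (tt N2970 F201141))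
theorem Q2255 : ∀ i, i < 2255 → P i := stepQ 2254 Q2254 (allL N2254 (tt N3045 (iv F17514)) (tt N1643 F12446) (tt N2781 (iv F16038)) (tt N3052 (iv F17540)) (tt N1660 F12447) (tt N3022 (iv F17401)) (tt N2254 F12448) (tt N1638 (iv D2553)) (tt N1688 F12449) (tt N3036 (iv F17465)))
theorem Q2256 : ∀ i, i < 2256 → P i := stepQ 2255 Q2255 (allL N2255 (tt N1811 F12450) (tt N3050 (iv F17531)) (tt N2980 (iv F17214)) (tt N1661 F12451) (tt N1640 F12452) (tt N3054 D3692) (tt N1639 (iv D2554)) (tt N3055 D3693) (tt N3056 D3694) (tt N3037 (iv F17469)))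
theorem Q2257 : ∀ i, i < 2257 → P i := stepQ 2256 Q2256 (allL N2256 (tt N1812 F12453) (tt N3051 (iv F17534)) (tt N2981 (iv F17218)) (tt N2256 F12454) (tt N1641 F12455) (tt N2256 F12456) (tt N3056 (iv F17559)) (tt N2256 F12457) (tt N1639 (iv D2555)) (tt N3057 D3695))
theorem Q2258 : ∀ i, i < 2258 → P i := stepQ 2257 Q2257 (allL N2257 (tt N1813 F12458) (tt N3052 (iv F17539)) (tt N2982 (iv F17223)) (tt N1643 F12459) (tt N3055 (iv F17554)) (tt N3025 (iv F17411)) (tt N2257 F12460) (tt N1640 (iv D2556)) (tt N3058 D3696) (tt N3039 (iv F17477)))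
theorem Q2259 : ∀ i, i < 2259 → P i := stepQ 2258 Q2258 (allL N2258 (tt N1814 F12461) (tt N3053 (iv F17542)) (tt N2983 (iv F17227)) (tt N1690 F12462) (tt N3056 (iv F17558)) (tt N3026 (iv F17414)) (tt N1641 F12463) (tt N3058 (iv F17568)) (tt N1640 (iv D2557)) (tt N3059 D3697))
theorem Q2260 : ∀ i, i < 2260 → P i := stepQ 2259 Q2259 (allL N2259 (tt N1764 F200627) (tt N2970 (iv F200774)) (tt N2984 (iv F17231)) (tt N1691 F12465) (tt N3057 (iv F17562)) (tt N1642 F12466) (tt N3059 (iv F17571)) (tt N2259 F12467) (tt N3041 (iv F17485)) (tt N1641 (iv D2558)))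
theorem Q2261 : ∀ i, i < 2261 → P i := stepQ 2260 Q2260 (allL N2260 (tt N1646 F12468) (tt N2633 (iv F203417)) (tt N1644 (iv D2559)) (tt N2640 (iv F203409)) (tt N2260 F12469) (tt N3060 D3699) (tt N2260 F12470) (tt N2260 F12471) (tt N2630 (iv F203414)) (tt N1654 F12472))
theorem Q2262 : ∀ i, i < 2262 → P i := stepQ 2261 Q2261 (allL N2261 (tt N1647 F12473) (tt N1816 F12474) (tt N3060 (iv F17579)) (tt N1645 F12475) (tt N3061 D3701) (tt N1644 (iv D2560)) (tt N3062 D3702) (tt N2261 F12476) (tt N3063 D3703) (tt N1655 F12477))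
theorem Q2263 : ∀ i, i < 2263 → P i := stepQ 2262 Q2262 (allL N2262 (tt N1648 F12478) (tt N1817 F12479) (tt N2630 (iv F203413)) (tt N2262 F12480) (tt N2262 F12481) (tt N3063 (iv F17601)) (tt N2262 F12482) (tt N2262 F12483) (tt N1644 (iv D2561)) (tt N2262 F12484))
theorem Q2264 : ∀ i, i < 2264 → P i := stepQ 2263 Q2263 (allL N2263 (tt N1649 F12485) (tt N1818 F12486) (tt N2788 (iv F16075)) (tt N3062 (iv F17595)) (tt N3030 (iv F17435)) (tt N2263 F12487) (tt N1645 (iv D2562)) (tt N3064 D3704) (tt N2263 F12488) (tt N1656 F12489))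
theorem Q2265 : ∀ i, i < 2265 → P i := stepQ 2264 Q2264 (allL N2264 (tt N3060 (iv F17578)) (tt N2264 F12490) (tt N1647 F12491) (tt N2789 (iv F16081)) (tt N3065 D3705) (tt N1646 (iv D2563)) (tt N3066 D3706) (tt N2264 F12492) (tt N3067 D3707) (tt N1657 F12493))
theorem Q2266 : ∀ i, i < 2266 → P i := stepQ 2265 Q2265 (allL N2265 (tt N2630 (iv F203412)) (tt N2265 F12494) (tt N1648 F12495) (tt N2629 (iv F203406)) (tt N2265 F12496) (tt N3067 (iv F17621)) (tt N2265 F12497) (tt N2265 F12498) (tt N1646 (iv D2564)) (tt N2265 F12499))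
theorem Q2267 : ∀ i, i < 2267 → P i := stepQ 2266 Q2266 (allL N2266 (tt N3061 (iv F17588)) (tt N1650 F12500) (tt N3065 (iv F17611)) (tt N3033 (iv F17445)) (tt N1647 (iv D2565)) (tt N2266 F12501) (tt N3068 D3709) (tt N2266 F12502) (tt N3069 D3710) (tt N1658 F12503))
theorem Q2268 : ∀ i, i < 2268 → P i := stepQ 2267 Q2267 (allL N2267 (tt N3062 (iv F17593)) (tt N1651 F12504) (tt N3066 (iv F17616)) (tt N1649 F12505) (tt N3068 (iv F17630)) (tt N2267 F12506) (tt N1647 (iv D2566)) (tt N3070 D3711) (tt N3071 D3712) (tt N1659 F12507))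
theorem Q2269 : ∀ i, i < 2269 → P i := stepQ 2268 Q2268 (allL N2268 (tt N3063 (iv F17598)) (tt N1652 F12508) (tt N3067 (iv F17620)) (tt N2268 F12509) (tt N3069 (iv F17633)) (tt N1648 F12510) (tt N3071 (iv F17645)) (tt N2268 F12511) (tt N1647 (iv D2567)) (tt N2268 F12512))
theorem Q2270 : ∀ i, i < 2270 → P i := stepQ 2269 Q2269 (allL N2269 (tt N3064 (iv F17604)) (tt N1653 F12513) (tt N2793 (iv F16105)) (tt N3070 (iv F17638)) (tt N3036 (iv F17462)) (tt N2269 F12514) (tt N2269 F12515) (tt N1649 (iv D2568)) (tt N2269 F12516) (tt N1660 F12517))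
theorem Q2271 : ∀ i, i < 2271 → P i := stepQ 2270 Q2270 (allL N2270 (tt N1825 F12518) (tt N3068 (iv F17629)) (tt N2270 F12519) (tt N3037 (iv F17467)) (tt N1651 F12520) (tt N3072 D3713) (tt N1650 (iv D2569)) (tt N3073 D3714) (tt N3074 D3715) (tt N1661 F12521))
theorem Q2272 : ∀ i, i < 2272 → P i := stepQ 2271 Q2271 (allL N2271 (tt N1826 F12522) (tt N3069 (iv F17632)) (tt N2271 F12523) (tt N3075 D3716) (tt N1652 F12524) (tt N2271 F12525) (tt N3074 (iv F17660)) (tt N2271 F12526) (tt N1650 (iv D2570)) (tt N2271 F12527))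
theorem Q2273 : ∀ i, i < 2273 → P i := stepQ 2272 Q2272 (allL N2272 (tt N1827 F12528) (tt N3070 (iv F17637)) (tt N2272 F12529) (tt N1653 F12530) (tt N3073 (iv F17654)) (tt N2272 F12531) (tt N2272 F12532) (tt N1651 (iv D2571)) (tt N3076 D3717) (tt N1662 F12533))
theorem Q2274 : ∀ i, i < 2274 → P i := stepQ 2273 Q2273 (allL N2273 (tt N1828 F12534) (tt N3071 (iv F17642)) (tt N2273 F12535) (tt N2273 F12536) (tt N3074 (iv F17659)) (tt N2273 F12537) (tt N1652 F12538) (tt N3076 (iv F17672)) (tt N1651 (iv D2572)) (tt N2273 F12539))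
theorem Q2275 : ∀ i, i < 2275 → P i := stepQ 2274 Q2274 (allL N2274 (tt N2274 F12540) (tt N1654 (iv D2573)) (tt N1829 F12541) (tt N2645 F203753) (tt N2274 F12542) (tt N3077 D3718) (tt N2274 F12543) (tt N2274 F12544) (tt N2274 F12545) (tt N2633 F203754))
theorem Q2276 : ∀ i, i < 2276 → P i := stepQ 2275 Q2275 (allL N2275 (tt N1657 F12546) (tt N3077 (iv F17675)) (tt N1655 F12547) (tt N2799 (iv F16142)) (tt N3078 D3719) (tt N1654 (iv D2574)) (tt N3079 D3720) (tt N2275 F12548) (tt N2275 F12549) (tt N3060 (iv F17581)))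
theorem Q2277 : ∀ i, i < 2277 → P i := stepQ 2276 Q2276 (allL N2276 (tt N1658 F12550) (tt N1831 F12551) (tt N3078 (iv F17680)) (tt N3043 (iv F17498)) (tt N1655 (iv D2575)) (tt N2276 F12552) (tt N3080 D3721) (tt N2276 F12553) (tt N2276 F12554) (tt N3061 (iv F17592)))
theorem Q2278 : ∀ i, i < 2278 → P i := stepQ 2277 Q2277 (allL N2277 (tt N1659 F12555) (tt N1832 F12556) (tt N3079 (iv F17685)) (tt N1656 F12557) (tt N3080 (iv F17690)) (tt N2277 F12558) (tt N1655 (iv D2576)) (tt N3081 D3722) (tt N2277 F12559) (tt N3062 (iv F17597)))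
theorem Q2279 : ∀ i, i < 2279 → P i := stepQ 2278 Q2278 (allL N2278 (tt N1660 F12560) (tt N1833 F12561) (tt N2803 (iv F16168)) (tt N3081 (iv F17694)) (tt N3045 (iv F17516)) (tt N2278 F12562) (tt N2278 F12563) (tt N1656 (iv D2577)) (tt N1692 F12564) (tt N3064 (iv F17609)))
theorem Q2280 : ∀ i, i < 2280 → P i := stepQ 2279 Q2279 (allL N2279 (tt N3078 (iv F17679)) (tt N2279 F12565) (tt N1658 F12566) (tt N3082 D3723) (tt N1657 (iv D2578)) (tt N2279 F12567) (tt N3083 D3724) (tt N2279 F12568) (tt N2279 F12569) (tt N3065 (iv F17614)))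
theorem Q2281 : ∀ i, i < 2281 → P i := stepQ 2280 Q2280 (allL N2280 (tt N3079 (iv F17684)) (tt N2280 F12570) (tt N1659 F12571) (tt N2805 (iv F16177)) (tt N3083 (iv F17703)) (tt N2280 F12572) (tt N1657 (iv D2579)) (tt N3084 D3725) (tt N2280 F12573) (tt N3066 (iv F17618)))
theorem Q2282 : ∀ i, i < 2282 → P i := stepQ 2281 Q2281 (allL N2281 (tt N3080 (iv F17688)) (tt N1661 F12574) (tt N3083 (iv F17702)) (tt N3050 (iv F17532)) (tt N1659 F12575) (tt N3085 D3726) (tt N1658 (iv D2580)) (tt N3086 D3727) (tt N2281 F12576) (tt N3068 (iv F17631)))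
theorem Q2283 : ∀ i, i < 2283 → P i := stepQ 2282 Q2282 (allL N2282 (tt N3081 (iv F17692)) (tt N1662 F12577) (tt N3084 (iv F17706)) (tt N1660 F12578) (tt N3086 (iv F17715)) (tt N2282 F12579) (tt N2282 F12580) (tt N1659 (iv D2581)) (tt N2282 F12581) (tt N3070 (iv F17641)))
theorem Q2284 : ∀ i, i < 2284 → P i := stepQ 2283 Q2283 (allL N2283 (tt N1838 F12582) (tt N3085 (iv F17710)) (tt N2283 F12583) (tt N3054 (iv F17550)) (tt N2283 F12584) (tt N1661 (iv D2582)) (tt N2283 F12585) (tt N3087 D3728) (tt N2283 F12586) (tt N3072 (iv F17651)))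
theorem Q2285 : ∀ i, i < 2285 → P i := stepQ 2284 Q2284 (allL N2284 (tt N1839 F12587) (tt N3086 (iv F17714)) (tt N2284 F12588) (tt N3055 (iv F17553)) (tt N1662 F12589) (tt N3087 (iv F17721)) (tt N2284 F12590) (tt N1661 (iv D2583)) (tt N2284 F12591) (tt N3073 (iv F17656)))
theorem Q2286 : ∀ i, i < 2286 → P i := stepQ 2285 Q2285 (allL N2285 (tt N1664 F12592) (tt N1840 F12593) (tt N3088 D3729) (tt N1663 (iv D2584)) (tt N1693 F12594) (tt N3089 D3730) (tt N2285 F12595) (tt N1670 F12596) (tt N2934 F200545) (tt N2285 F12597))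
theorem Q2287 : ∀ i, i < 2287 → P i := stepQ 2286 Q2286 (allL N2286 (tt N1665 F12598) (tt N1841 F12599) (tt N2820 (iv F16243)) (tt N3089 (iv F17730)) (tt N2286 F12600) (tt N1663 (iv D2585)) (tt N3090 D3732) (tt N1671 F12601) (tt N2993 (iv F17281)) (tt N2286 F12602))
theorem Q2288 : ∀ i, i < 2288 → P i := stepQ 2287 Q2287 (allL N2287 (tt N3088 (iv F17723)) (tt N2287 F12603) (tt N1664 (iv D2586)) (tt N2821 (iv F16248)) (tt N1695 F12604) (tt N3091 D3733) (tt N2287 F12605) (tt N1672 F12606) (tt N3092 D3734) (tt N2287 F12607))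
theorem Q2289 : ∀ i, i < 2289 → P i := stepQ 2288 Q2288 (allL N2288 (tt N3089 (iv F17728)) (tt N1666 F12608) (tt N3091 (iv F17744)) (tt N1665 F12609) (tt N3093 D3735) (tt N1664 (iv D2587)) (tt N3094 D3736) (tt N1673 F12610) (tt N3095 D3737) (tt N2288 F12611))
theorem Q2290 : ∀ i, i < 2290 → P i := stepQ 2289 Q2289 (allL N2289 (tt N2934 F200537) (tt N1667 F12612) (tt N3092 (iv F17748)) (tt N2996 (iv F17289)) (tt N1697 F12613) (tt N3095 (iv F17762)) (tt N2289 F12614) (tt N1674 F12615) (tt N1664 (iv D2588)) (tt N2938 F200538))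
theorem Q2291 : ∀ i, i < 2291 → P i := stepQ 2290 Q2290 (allL N2290 (tt N3090 (iv F17738)) (tt N1668 F12616) (tt N2824 (iv F16262)) (tt N3094 (iv F17758)) (tt N2290 F12617) (tt N2290 F12618) (tt N1665 (iv D2589)) (tt N3096 D3739) (tt N2997 (iv F17296)) (tt N2290 F12619))
theorem Q2292 : ∀ i, i < 2292 → P i := stepQ 2291 Q2291 (allL N2291 (tt N1844 F12620) (tt N3093 (iv F17752)) (tt N2291 F12621) (tt N2291 F12622) (tt N1666 (iv D2590)) (tt N1699 F12623) (tt N3097 D3740) (tt N1676 F12624) (tt N3098 D3741) (tt N2291 F12625))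
theorem Q2293 : ∀ i, i < 2293 → P i := stepQ 2292 Q2292 (allL N2292 (tt N1845 F12626) (tt N3094 (iv F17757)) (tt N2292 F12627) (tt N1668 F12628) (tt N3097 (iv F17777)) (tt N2292 F12629) (tt N1666 (iv D2591)) (tt N3099 D3742) (tt N3100 D3743) (tt N2292 F12630))
theorem Q2294 : ∀ i, i < 2294 → P i := stepQ 2293 Q2293 (allL N2293 (tt N1846 F12631) (tt N3095 (iv F17761)) (tt N2293 F12632) (tt N3000 (iv F17305)) (tt N3098 (iv F17781)) (tt N1667 F12633) (tt N3100 (iv F17793)) (tt N1678 F12634) (tt N1666 (iv D2592)) (tt N3101 D3744))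
theorem Q2295 : ∀ i, i < 2295 → P i := stepQ 2294 Q2294 (allL N2294 (tt N1745 F200194) (tt N2938 (iv F200321)) (tt N2294 F12636) (tt N3001 (iv F17309)) (tt N1702 F12637) (tt N3101 (iv F17796)) (tt N2294 F12638) (tt N1679 F12639) (tt N2294 F12640) (tt N1667 (iv D2593)))
theorem Q2296 : ∀ i, i < 2296 → P i := stepQ 2295 Q2295 (allL N2295 (tt N1847 F12641) (tt N3096 (iv F17769)) (tt N1669 F12642) (tt N3099 (iv F17786)) (tt N2295 F12643) (tt N2295 F12644) (tt N1680 F12645) (tt N1668 (iv D2594)) (tt N3002 (iv F17318)) (tt N2295 F12646))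
theorem Q2297 : ∀ i, i < 2297 → P i := stepQ 2296 Q2296 (allL N2296 (tt N1672 F12647) (tt N2697 F201142) (tt N1670 (iv D2595)) (tt N2830 (iv F16294)) (tt N1703 F12648) (tt N3102 D3746) (tt N1681 F12649) (tt N3088 (iv F17726)) (tt N2699 F201143) (tt N2296 F12650))
theorem Q2298 : ∀ i, i < 2298 → P i := stepQ 2297 Q2297 (allL N2297 (tt N1673 F12651) (tt N1848 F12652) (tt N3102 (iv F17805)) (tt N1671 F12653) (tt N3103 D3748) (tt N1670 (iv D2596)) (tt N3104 D3749) (tt N3089 (iv F17731)) (tt N2947 F201103) (tt N2297 F12654))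
theorem Q2299 : ∀ i, i < 2299 → P i := stepQ 2298 Q2298 (allL N2298 (tt N1675 F12659) (tt N1849 F12660) (tt N2833 (iv F16308)) (tt N3104 (iv F17818)) (tt N2298 F12661) (tt N1683 F12662) (tt N1671 (iv D2598)) (tt N3105 D3752) (tt N3016 (iv F17381)) (tt N2298 F12663))
theorem Q2300 : ∀ i, i < 2300 → P i := stepQ 2299 Q2299 (allL N2299 (tt N3102 (iv F17804)) (tt N2299 F12664) (tt N1673 F12665) (tt N2834 (iv F16314)) (tt N3106 D3753) (tt N1672 (iv D2599)) (tt N3107 D3754) (tt N3091 (iv F17745)) (tt N3108 D3755) (tt N2299 F12666))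
theorem Q2301 : ∀ i, i < 2301 → P i := stepQ 2300 Q2300 (allL N2300 (tt N2699 F201130) (tt N2300 F12667) (tt N1674 F12668) (tt N3109 D3756) (tt N1706 F12669) (tt N3108 (iv F17844)) (tt N1685 F12670) (tt N3092 (iv F17751)) (tt N1672 (iv D2600)) (tt N2703 F201131))
theorem Q2302 : ∀ i, i < 2302 → P i := stepQ 2301 Q2301 (allL N2301 (tt N3103 (iv F17811)) (tt N1676 F12671) (tt N3106 (iv F17835)) (tt N2301 F12672) (tt N1673 (iv D2601)) (tt N1707 F12673) (tt N3110 D3758) (tt N3093 (iv F17755)) (tt N3111 D3759) (tt N2301 F12674))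
theorem Q2303 : ∀ i, i < 2303 → P i := stepQ 2302 Q2302 (allL N2302 (tt N3104 (iv F17816)) (tt N1677 F12675) (tt N3107 (iv F17839)) (tt N1675 F12676) (tt N3110 (iv F17854)) (tt N1686 F12677) (tt N1673 (iv D2602)) (tt N3112 D3760) (tt N3113 D3761) (tt N2302 F12678))
theorem Q2304 : ∀ i, i < 2304 → P i := stepQ 2303 Q2303 (allL N2303 (tt N2947 F201098) (tt N1678 F12679) (tt N3108 (iv F17843)) (tt N3021 (iv F17393)) (tt N3111 (iv F17858)) (tt N1674 F12680) (tt N3113 (iv F17866)) (tt N3095 (iv F17763)) (tt N1673 (iv D2603)) (tt N2952 F201099))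
theorem Q2305 : ∀ i, i < 2305 → P i := stepQ 2304 Q2304 (allL N2304 (tt N3105 (iv F17829)) (tt N1680 F12685) (tt N2840 (iv F16335)) (tt N3112 (iv F17861)) (tt N2304 F12686) (tt N1688 F12687) (tt N3096 (iv F17772)) (tt N1675 (iv D2605)) (tt N3022 (iv F17402)) (tt N2304 F12688))
theorem Q2306 : ∀ i, i < 2306 → P i := stepQ 2305 Q2305 (allL N2305 (tt N1853 F12689) (tt N3110 (iv F17852)) (tt N2305 F12690) (tt N2305 F12691) (tt N1677 F12692) (tt N2305 F12693) (tt N1676 (iv D2606)) (tt N3114 D3763) (tt N3115 D3764) (tt N2305 F12694))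
theorem Q2307 : ∀ i, i < 2307 → P i := stepQ 2306 Q2306 (allL N2306 (tt N1854 F12695) (tt N3111 (iv F17857)) (tt N2306 F12696) (tt N3116 D3765) (tt N1678 F12697) (tt N1709 F12698) (tt N3115 (iv F17880)) (tt N3098 (iv F17783)) (tt N1676 (iv D2607)) (tt N3117 D3766))
theorem Q2308 : ∀ i, i < 2308 → P i := stepQ 2307 Q2307 (allL N2307 (tt N1855 F12699) (tt N3112 (iv F17860)) (tt N2307 F12700) (tt N1680 F12701) (tt N3114 (iv F17873)) (tt N1689 F12702) (tt N3099 (iv F17788)) (tt N1677 (iv D2608)) (tt N3118 D3767) (tt N2307 F12703))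
theorem Q2309 : ∀ i, i < 2309 → P i := stepQ 2308 Q2308 (allL N2308 (tt N1856 F12704) (tt N3113 (iv F17864)) (tt N2308 F12705) (tt N3026 (iv F17413)) (tt N3115 (iv F17878)) (tt N1690 F12706) (tt N1678 F12707) (tt N3118 (iv F17892)) (tt N1677 (iv D2609)) (tt N3119 D3768))
theorem Q2310 : ∀ i, i < 2310 → P i := stepQ 2309 Q2309 (allL N2309 (tt N1754 F200563) (tt N2952 (iv F200746)) (tt N2309 F12709) (tt N3027 (iv F17417)) (tt N3117 (iv F17886)) (tt N1679 F12710) (tt N3119 (iv F17896)) (tt N3101 (iv F17797)) (tt N2309 F12711) (tt N1678 (iv D2610)))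
theorem Q2311 : ∀ i, i < 2311 → P i := stepQ 2310 Q2310 (allL N2310 (tt N1684 F12717) (tt N2711 F201961) (tt N1682 F12718) (tt N2846 (iv F16369)) (tt N2310 F12719) (tt N1681 (iv D2612)) (tt N3120 D3771) (tt N2310 F12720) (tt N2714 F201962) (tt N2310 F12721))
theorem Q2312 : ∀ i, i < 2312 → P i := stepQ 2311 Q2311 (allL N2311 (tt N1686 F12726) (tt N1857 F12727) (tt N3120 (iv F17910)) (tt N1683 F12728) (tt N2311 F12729) (tt N3104 (iv F17819)) (tt N1682 (iv D2614)) (tt N3121 D3775) (tt N2965 F201858) (tt N2311 F12730))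
theorem Q2313 : ∀ i, i < 2313 → P i := stepQ 2312 Q2312 (allL N2312 (tt N1688 F12741) (tt N1858 F12742) (tt N2852 (iv F16397)) (tt N3121 (iv F17927)) (tt N1692 F12743) (tt N3105 (iv F17832)) (tt N2312 F12744) (tt N1683 (iv D2617)) (tt N3045 (iv F17518)) (tt N2312 F12745))
theorem Q2314 : ∀ i, i < 2314 → P i := stepQ 2313 Q2313 (allL N2313 (tt N3120 (iv F17909)) (tt N2313 F12746) (tt N1686 F12747) (tt N2854 (iv F16409)) (tt N2313 F12748) (tt N3107 (iv F17840)) (tt N1684 (iv D2618)) (tt N3122 D3778) (tt N3123 D3779) (tt N2313 F12749))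
theorem Q2315 : ∀ i, i < 2315 → P i := stepQ 2314 Q2314 (allL N2314 (tt N2714 F201957) (tt N2314 F12750) (tt N1687 F12751) (tt N3124 D3780) (tt N2314 F12752) (tt N1685 F12753) (tt N3123 (iv F17949)) (tt N2314 F12754) (tt N1684 (iv D2619)) (tt N2720 F201958))
theorem Q2316 : ∀ i, i < 2316 → P i := stepQ 2315 Q2315 (allL N2315 (tt N2713 F201947) (tt N2315 F12755) (tt N3049 (iv F17526)) (tt N1685 (iv D2620)) (tt N3125 D3782) (tt N3124 (iv F17951)) (tt N3109 (iv F17846)) (tt N2315 F12756) (tt N2856 (iv F16417)) (tt N2719 F201948))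
theorem Q2317 : ∀ i, i < 2317 → P i := stepQ 2316 Q2316 (allL N2316 (tt N3121 (iv F17925)) (tt N1689 F12762) (tt N3122 (iv F17942)) (tt N1688 F12763) (tt N2316 F12764) (tt N3112 (iv F17862)) (tt N2316 F12765) (tt N1686 (iv D2622)) (tt N3126 D3784) (tt N2316 F12766))
theorem Q2318 : ∀ i, i < 2318 → P i := stepQ 2317 Q2317 (allL N2317 (tt N2965 F201850) (tt N1690 F12767) (tt N3123 (iv F17947)) (tt N3053 (iv F17543)) (tt N2317 F12768) (tt N3113 (iv F17865)) (tt N1687 F12769) (tt N3126 (iv F17968)) (tt N1686 (iv D2623)) (tt N2972 F201851))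
theorem Q2319 : ∀ i, i < 2319 → P i := stepQ 2318 Q2318 (allL N2318 (tt N1860 F12775) (tt N3126 (iv F17965)) (tt N2318 F12776) (tt N3058 (iv F17566)) (tt N2318 F12777) (tt N3118 (iv F17891)) (tt N2318 F12778) (tt N1690 F12779) (tt N1689 (iv D2625)) (tt N3127 D3786))
theorem Q2320 : ∀ i, i < 2320 → P i := stepQ 2319 Q2319 (allL N2319 (tt N1766 F201238) (tt N2972 (iv F201429)) (tt N2319 F12781) (tt N3059 (iv F17570)) (tt N2319 F12782) (tt N3119 (iv F17895)) (tt N1691 F12783) (tt N3127 (iv F17977)) (tt N2319 F12784) (tt N1690 (iv D2626)))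
theorem Q2321 : ∀ i, i < 2321 → P i := stepQ 2320 Q2320 (allL N2320 (tt N1695 F12785) (tt N2687 F201265) (tt N1693 (iv D2627)) (tt N2320 F12786) (tt N3088 (iv F17724)) (tt N3128 D3788) (tt N2320 F12787) (tt N1703 F12788) (tt N2689 F201266) (tt N2320 F12789))
theorem Q2322 : ∀ i, i < 2322 → P i := stepQ 2321 Q2321 (allL N2321 (tt N1696 F12790) (tt N1861 F12791) (tt N3128 (iv F17986)) (tt N1694 F12792) (tt N3129 D3790) (tt N1693 (iv D2628)) (tt N3130 D3791) (tt N1704 F12793) (tt N2912 F201268) (tt N2321 F12794))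
theorem Q2323 : ∀ i, i < 2323 → P i := stepQ 2322 Q2322 (allL N2322 (tt N1698 F12800) (tt N1862 F12801) (tt N2322 F12802) (tt N3130 (iv F18001)) (tt N2322 F12803) (tt N2322 F12804) (tt N1694 (iv D2630)) (tt N2322 F12805) (tt N2322 F12806) (tt N2322 F12807))
theorem Q2324 : ∀ i, i < 2324 → P i := stepQ 2323 Q2323 (allL N2323 (tt N3128 (iv F17985)) (tt N2323 F12808) (tt N1696 F12809) (tt N2323 F12810) (tt N3131 D3794) (tt N1695 (iv D2631)) (tt N3132 D3795) (tt N1705 F12811) (tt N3133 D3796) (tt N2323 F12812))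
theorem Q2325 : ∀ i, i < 2325 → P i := stepQ 2324 Q2324 (allL N2324 (tt N2689 F201256) (tt N2324 F12813) (tt N1697 F12814) (tt N3134 D3797) (tt N3092 (iv F17749)) (tt N3133 (iv F18028)) (tt N2324 F12815) (tt N1706 F12816) (tt N1695 (iv D2632)) (tt N2692 F201257))
theorem Q2326 : ∀ i, i < 2326 → P i := stepQ 2325 Q2325 (allL N2325 (tt N3129 (iv F17994)) (tt N1699 F12817) (tt N3131 (iv F18017)) (tt N2325 F12818) (tt N1696 (iv D2633)) (tt N3093 (iv F17754)) (tt N3135 D3799) (tt N1707 F12819) (tt N3136 D3800) (tt N2325 F12820))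
theorem Q2327 : ∀ i, i < 2327 → P i := stepQ 2326 Q2326 (allL N2326 (tt N3130 (iv F17999)) (tt N1700 F12821) (tt N3132 (iv F18021)) (tt N1698 F12822) (tt N3135 (iv F18042)) (tt N2326 F12823) (tt N1696 (iv D2634)) (tt N2326 F12824) (tt N3137 D3801) (tt N2326 F12825))
theorem Q2328 : ∀ i, i < 2328 → P i := stepQ 2327 Q2327 (allL N2327 (tt N2912 F201258) (tt N1701 F12826) (tt N3133 (iv F18027)) (tt N2327 F12827) (tt N3136 (iv F18046)) (tt N1697 F12828) (tt N3137 (iv F18051)) (tt N1708 F12829) (tt N1696 (iv D2635)) (tt N2915 F201259))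
theorem Q2329 : ∀ i, i < 2329 → P i := stepQ 2328 Q2328 (allL N2328 (tt N1865 F12835) (tt N3135 (iv F18040)) (tt N2328 F12836) (tt N2328 F12837) (tt N1700 F12838) (tt N3138 D3803) (tt N1699 (iv D2637)) (tt N2328 F12839) (tt N3139 D3804) (tt N2328 F12840))
theorem Q2330 : ∀ i, i < 2330 → P i := stepQ 2329 Q2329 (allL N2329 (tt N1866 F12841) (tt N3136 (iv F18045)) (tt N2329 F12842) (tt N3140 D3805) (tt N1701 F12843) (tt N3098 (iv F17782)) (tt N3139 (iv F18067)) (tt N1709 F12844) (tt N1699 (iv D2638)) (tt N3141 D3806))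
theorem Q2331 : ∀ i, i < 2331 → P i := stepQ 2330 Q2330 (allL N2330 (tt N1867 F12845) (tt N3137 (iv F18048)) (tt N2330 F12846) (tt N2330 F12847) (tt N3139 (iv F18066)) (tt N2330 F12848) (tt N1701 F12849) (tt N2330 F12850) (tt N1700 (iv D2639)) (tt N3142 D3807))
theorem Q2332 : ∀ i, i < 2332 → P i := stepQ 2331 Q2331 (allL N2331 (tt N1728 F200645) (tt N2915 (iv F200869)) (tt N2331 F12852) (tt N2331 F12853) (tt N3141 (iv F18075)) (tt N1702 F12854) (tt N3142 (iv F18082)) (tt N1710 F12855) (tt N2331 F12856) (tt N1701 (iv D2640)))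
theorem Q2333 : ∀ i, i < 2333 → P i := stepQ 2332 Q2332 (allL N2332 (tt N1705 F12862) (tt N2677 F202004) (tt N1704 F12863) (tt N2332 F12864) (tt N3143 D3810) (tt N1703 (iv D2642)) (tt N2332 F12865) (tt N3128 (iv F17988)) (tt N2679 F202005) (tt N2332 F12866))
theorem Q2334 : ∀ i, i < 2334 → P i := stepQ 2333 Q2333 (allL N2333 (tt N1707 F12870) (tt N1868 F12871) (tt N3143 (iv F18096)) (tt N2333 F12872) (tt N1704 (iv D2644)) (tt N3103 (iv F17814)) (tt N2333 F12873) (tt N3129 (iv F17997)) (tt N2922 F201612) (tt N2333 F12874))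
theorem Q2335 : ∀ i, i < 2335 → P i := stepQ 2334 Q2334 (allL N2334 (tt N3143 (iv F18095)) (tt N2334 F12885) (tt N1707 F12886) (tt N3144 D3816) (tt N1705 (iv D2647)) (tt N3106 (iv F17836)) (tt N2334 F12887) (tt N3131 (iv F18018)) (tt N3145 D3817) (tt N2334 F12888))
theorem Q2336 : ∀ i, i < 2336 → P i := stepQ 2335 Q2335 (allL N2335 (tt N2679 F202002) (tt N2335 F12889) (tt N1708 F12890) (tt N3146 D3818) (tt N3145 (iv F18128)) (tt N1706 F12891) (tt N2335 F12892) (tt N3133 (iv F18029)) (tt N1705 (iv D2648)) (tt N2682 F202003))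
theorem Q2337 : ∀ i, i < 2337 → P i := stepQ 2336 Q2336 (allL N2336 (tt N2557 F202000) (tt N2336 F12893) (tt N2336 F12894) (tt N1706 (iv D2649)) (tt N3147 D3820) (tt N3146 (iv F18132)) (tt N1711 F12895) (tt N3134 (iv F18033)) (tt N2336 F12896) (tt N2560 F202001))
theorem Q2338 : ∀ i, i < 2338 → P i := stepQ 2337 Q2337 (allL N2337 (tt N2922 F201606) (tt N1709 F12901) (tt N3145 (iv F18127)) (tt N3148 D3822) (tt N1708 F12902) (tt N3111 (iv F17859)) (tt N2337 F12903) (tt N3136 (iv F18047)) (tt N1707 (iv D2651)) (tt N2926 F201607))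
theorem Q2339 : ∀ i, i < 2339 → P i := stepQ 2338 Q2338 (allL N2338 (tt N1869 F12909) (tt N3148 (iv F18148)) (tt N3149 D3824) (tt N1709 (iv D2653)) (tt N2338 F12910) (tt N3116 (iv F17882)) (tt N2338 F12911) (tt N3140 (iv F18071)) (tt N2338 F12912) (tt N3150 D3825))
theorem Q2340 : ∀ i, i < 2340 → P i := stepQ 2339 Q2339 (allL N2339 (tt N1738 F201288) (tt N2926 F201289) (tt N2339 F12914) (tt N3150 (iv F18162)) (tt N1710 F12915) (tt N3117 (iv F17887)) (tt N2339 F12916) (tt N3141 (iv F18076)) (tt N2339 F12917) (tt N1709 (iv D2654)))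
theorem Q2341 : ∀ i, i < 2341 → P i := stepQ 2340 Q2340 (allL N2340 (tt N2565 F202819) (tt N2340 F12933) (tt N2340 F12934) (tt N3125 (iv F17960)) (tt N1711 (iv D2658)) (tt N3151 D3830) (tt N3147 (iv F18142)) (tt N2340 F12935) (tt N2340 F12936) (tt N2569 F202820))
theorem Q2342 : ∀ i, i < 2342 → P i := stepQ 2341 Q2341 (allL N2341 (tt N2341 F12942) (tt N1713 F12943) (tt N2341 F12944) (tt N3152 D3833) (tt N1712 (iv D2660)) (tt N3153 D3834) (tt N1721 F12945) (tt N2341 F12946) (tt N2341 F12947) (tt N1874 F202994))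
theorem Q2343 : ∀ i, i < 2343 → P i := stepQ 2342 Q2342 (allL N2342 (tt N2897 (iv F16633)) (tt N3152 (iv F18201)) (tt N2342 F12955) (tt N1713 (iv D2662)) (tt N2342 F12956) (tt N3154 D3837) (tt N1722 F12957) (tt N2342 F12958) (tt N3155 D3838) (tt N3156 D3839))
theorem Q2344 : ∀ i, i < 2344 → P i := stepQ 2343 Q2343 (allL N2343 (tt N2898 (iv F16639)) (tt N3153 (iv F18206)) (tt N1715 F12959) (tt N3154 (iv F18226)) (tt N2343 F12960) (tt N1713 (iv D2663)) (tt N2343 F12961) (tt N2343 F12962) (tt N2343 F12963) (tt N3157 D3840))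
theorem Q2345 : ∀ i, i < 2345 → P i := stepQ 2344 Q2344 (allL N2344 (tt N2899 (iv F16646)) (tt N1874 (iv F202481)) (tt N1716 F12964) (tt N3156 (iv F18235)) (tt N1714 F12965) (tt N3157 (iv F18241)) (tt N1723 F12966) (tt N2344 F12967) (tt N1872 F202091) (tt N1713 (iv D2664)))
theorem Q2346 : ∀ i, i < 2346 → P i := stepQ 2345 Q2345 (allL N2345 (tt N2900 (iv F16659)) (tt N2345 F12973) (tt N3157 (iv F18239)) (tt N2345 F12974) (tt N2345 F12975) (tt N1716 F12976) (tt N2345 F12977) (tt N2345 F12978) (tt N3158 D3843) (tt N1715 (iv D2666)))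
theorem Q2347 : ∀ i, i < 2347 → P i := stepQ 2346 Q2346 (allL N2346 (tt N2901 (iv F16665)) (tt N2346 F12979) (tt N1872 (iv F201710)) (tt N3159 D3844) (tt N1717 F12980) (tt N3158 (iv F18256)) (tt N1724 F12981) (tt N2346 F12982) (tt N1716 (iv D2667)) (tt N2346 F12983))
theorem Q2348 : ∀ i, i < 2348 → P i := stepQ 2347 Q2347 (allL N2347 (tt N2902 (iv F16670)) (tt N2347 F12984) (tt N1864 (iv F200998)) (tt N1717 (iv D2668)) (tt N3160 D3846) (tt N2347 F12985) (tt N1725 F12986) (tt N2347 F12987) (tt N1718 F12988) (tt N2347 F12989))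
theorem Q2349 : ∀ i, i < 2349 → P i := stepQ 2348 Q2348 (allL N2348 (tt N2903 (iv F16676)) (tt N1867 (iv F200969)) (tt N1718 (iv D2669)) (tt N2348 F12990) (tt N3161 D3848) (tt N2348 F12991) (tt N1726 F12992) (tt N2348 F12993) (tt N1864 (iv F200999)) (tt N1719 F12994))
theorem Q2350 : ∀ i, i < 2350 → P i := stepQ 2349 Q2349 (allL N2349 (tt N2904 (iv F16682)) (tt N2349 F12995) (tt N3161 (iv F18281)) (tt N2349 F12996) (tt N1718 (iv D2670)) (tt N3162 D3849) (tt N1727 F12997) (tt N2349 F12998) (tt N3160 (iv F18273)) (tt N1720 F12999))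
theorem Q2351 : ∀ i, i < 2351 → P i := stepQ 2350 Q2350 (allL N2350 (tt N3142 (iv F200997)) (tt N1719 (iv D2671)) (tt N2350 F13000) (tt N2350 F13001) (tt N3163 D3851) (tt N2350 F13002) (tt N1728 F13003) (tt N2350 F13004) (tt N2350 F13005) (tt N1867 (iv F200970)))
theorem Q2352 : ∀ i, i < 2352 → P i := stepQ 2351 Q2351 (allL N2351 (tt N2906 (iv F16692)) (tt N3163 (iv F18296)) (tt N1720 F13006) (tt N3164 D3852) (tt N1719 (iv D2672)) (tt N3165 D3853) (tt N1729 F13007) (tt N2351 F13008) (tt N2351 F13009) (tt N3161 (iv F18284)))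
theorem Q2353 : ∀ i, i < 2353 → P i := stepQ 2352 Q2352 (allL N2352 (tt N2907 (iv F16697)) (tt N2352 F13010) (tt N3165 (iv F18305)) (tt N2352 F13011) (tt N2352 F13012) (tt N1720 (iv D2673)) (tt N3166 D3854) (tt N2352 F13013) (tt N2352 F13014) (tt N3162 (iv F18289)))
theorem Q2354 : ∀ i, i < 2354 → P i := stepQ 2353 Q2353 (allL N2353 (tt N2353 F13015) (tt N1722 F13016) (tt N3167 D3855) (tt N1721 (iv D2674)) (tt N2353 F13017) (tt N2353 F13018) (tt N3152 (iv F18203)) (tt N1731 F13019) (tt N3168 D3856) (tt N1875 F202995))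
theorem Q2355 : ∀ i, i < 2355 → P i := stepQ 2354 Q2354 (allL N2354 (tt N2908 (iv F16702)) (tt N3168 (iv F18321)) (tt N2354 F13032) (tt N2354 F13033) (tt N2354 F13034) (tt N2354 F13035) (tt N3155 (iv F18232)) (tt N1732 F13036) (tt N1722 (iv D2677)) (tt N2354 F195383))
theorem Q2356 : ∀ i, i < 2356 → P i := stepQ 2355 Q2355 (allL N2355 (tt N2909 (iv F16709)) (tt N1875 (iv F202484)) (tt N2355 F13037) (tt N1723 F13038) (tt N2355 F13039) (tt N2355 F13040) (tt N3156 (iv F18237)) (tt N1733 F13041) (tt N2355 F195264) (tt N1722 (iv D2678)))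
theorem Q2357 : ∀ i, i < 2357 → P i := stepQ 2356 Q2356 (allL N2356 (tt N2910 (iv F16729)) (tt N2356 F13051) (tt N2356 F195060) (tt N1724 (iv D2681)) (tt N3169 D3866) (tt N2356 F13052) (tt N3159 (iv F18261)) (tt N1734 F13053) (tt N2356 F13054) (tt N2356 F13055))
theorem Q2358 : ∀ i, i < 2358 → P i := stepQ 2357 Q2357 (allL N2357 (tt N2911 (iv F16739)) (tt N2357 F13060) (tt N1863 (iv F200905)) (tt N3169 (iv F18370)) (tt N1725 (iv D2683)) (tt N3170 D3869) (tt N3160 (iv F18271)) (tt N1735 F13061) (tt N1727 F13062) (tt N2357 F13063))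
theorem Q2359 : ∀ i, i < 2359 → P i := stepQ 2358 Q2358 (allL N2358 (tt N2913 (iv F16747)) (tt N1866 (iv F200895)) (tt N1727 F13069) (tt N3171 D3872) (tt N1726 (iv D2685)) (tt N3172 D3873) (tt N3161 (iv F18282)) (tt N1736 F13070) (tt N1863 (iv F200906)) (tt N1729 F13071))
theorem Q2360 : ∀ i, i < 2360 → P i := stepQ 2359 Q2359 (allL N2359 (tt N2914 (iv F16751)) (tt N2359 F13072) (tt N3172 (iv F18401)) (tt N2359 F13073) (tt N1744 F13074) (tt N1727 (iv D2686)) (tt N3173 D3874) (tt N1737 F13075) (tt N3170 (iv F18386)) (tt N1730 F13076))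
theorem Q2361 : ∀ i, i < 2361 → P i := stepQ 2360 Q2360 (allL N2360 (tt N3141 (iv F200922)) (tt N1729 F13082) (tt N2360 F13083) (tt N3174 D3876) (tt N1728 (iv D2688)) (tt N3175 D3877) (tt N3163 (iv F18298)) (tt N1738 F13084) (tt N2360 F13085) (tt N1866 (iv F200896)))
theorem Q2362 : ∀ i, i < 2362 → P i := stepQ 2361 Q2361 (allL N2361 (tt N2917 (iv F16764)) (tt N3174 (iv F18413)) (tt N2361 F13086) (tt N1729 (iv D2689)) (tt N2361 F13087) (tt N3176 D3878) (tt N3164 (iv F18303)) (tt N1739 F13088) (tt N3177 D3879) (tt N3171 (iv F18400)))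
theorem Q2363 : ∀ i, i < 2363 → P i := stepQ 2362 Q2362 (allL N2362 (tt N2918 (iv F16768)) (tt N3175 (iv F18416)) (tt N1730 F13089) (tt N3176 (iv F18422)) (tt N1747 F13090) (tt N1729 (iv D2690)) (tt N3178 D3880) (tt N1740 F13091) (tt N2362 F13092) (tt N3172 (iv F18404)))
theorem Q2364 : ∀ i, i < 2364 → P i := stepQ 2363 Q2363 (allL N2363 (tt N2919 (iv F16773)) (tt N2363 F13093) (tt N3178 (iv F18428)) (tt N2363 F13094) (tt N1748 F13095) (tt N3166 (iv F18312)) (tt N1730 (iv D2691)) (tt N3179 D3881) (tt N2363 F13096) (tt N3173 (iv F18408)))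
theorem Q2365 : ∀ i, i < 2365 → P i := stepQ 2364 Q2364 (allL N2364 (tt N2364 F13097) (tt N2364 F13098) (tt N1731 (iv D2692)) (tt N2364 F13099) (tt N2364 F13100) (tt N2364 F13101) (tt N2364 F13102) (tt N3167 (iv F18319)) (tt N3180 D3882) (tt N1876 F203865))
theorem Q2366 : ∀ i, i < 2366 → P i := stepQ 2365 Q2365 (allL N2365 (tt N2365 F13103) (tt N1732 F13104) (tt N3180 (iv F18438)) (tt N2365 F13105) (tt N2365 F13106) (tt N2365 F13107) (tt N2365 F13108) (tt N3168 (iv F18325)) (tt N1731 (iv D2693)) (tt N2365 F195384))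
theorem Q2367 : ∀ i, i < 2367 → P i := stepQ 2366 Q2366 (allL N2366 (tt N2920 (iv F16811)) (tt N2366 F13152) (tt N2366 F194744) (tt N1735 F13153) (tt N1734 (iv D2703)) (tt N3181 D3898) (tt N2366 F13154) (tt N3169 (iv F18371)) (tt N2366 F13155) (tt N2366 F13156))
theorem Q2368 : ∀ i, i < 2368 → P i := stepQ 2367 Q2367 (allL N2367 (tt N2921 (iv F16825)) (tt N2367 F13166) (tt N1850 (iv F200892)) (tt N3181 (iv F18513)) (tt N1749 F13167) (tt N1735 (iv D2706)) (tt N3182 D3903) (tt N3170 (iv F18385)) (tt N1737 F13168) (tt N2367 F13169))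
theorem Q2369 : ∀ i, i < 2369 → P i := stepQ 2368 Q2368 (allL N2368 (tt N2923 (iv F16837)) (tt N1869 F201281) (tt N2368 F13179) (tt N1736 (iv D2709)) (tt N2368 F13180) (tt N3183 D3907) (tt N2368 F13181) (tt N3171 (iv F18399)) (tt N2368 F194729) (tt N1739 F13182))
theorem Q2370 : ∀ i, i < 2370 → P i := stepQ 2369 Q2369 (allL N2369 (tt N2924 (iv F16842)) (tt N1854 (iv F200889)) (tt N1737 F13183) (tt N3183 (iv F18551)) (tt N1751 F13184) (tt N1736 (iv D2710)) (tt N3184 D3909) (tt N3172 (iv F18403)) (tt N1850 (iv F200893)) (tt N1740 F13185))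
theorem Q2371 : ∀ i, i < 2371 → P i := stepQ 2370 Q2370 (allL N2370 (tt N2925 (iv F16846)) (tt N2370 F13186) (tt N3184 (iv F18556)) (tt N2370 F13187) (tt N1752 F13188) (tt N2370 F13189) (tt N1737 (iv D2711)) (tt N3185 D3910) (tt N3182 (iv F18536)) (tt N1741 F13190))
theorem Q2372 : ∀ i, i < 2372 → P i := stepQ 2371 Q2371 (allL N2371 (tt N3150 (iv F201575)) (tt N1739 F13195) (tt N3186 D3913) (tt N1738 (iv D2713)) (tt N2371 F13196) (tt N3187 D3914) (tt N2371 F13197) (tt N3174 (iv F18415)) (tt N3188 D3915) (tt N1869 F201269))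
theorem Q2373 : ∀ i, i < 2373 → P i := stepQ 2372 Q2372 (allL N2372 (tt N3117 (iv F200898)) (tt N1740 F13198) (tt N2372 F13199) (tt N3187 (iv F18577)) (tt N1754 F13200) (tt N1738 (iv D2714)) (tt N3189 D3916) (tt N3175 (iv F18419)) (tt N2372 F13201) (tt N1854 (iv F200890)))
theorem Q2374 : ∀ i, i < 2374 → P i := stepQ 2373 Q2373 (allL N2373 (tt N2929 (iv F16861)) (tt N3187 (iv F18576)) (tt N2373 F13202) (tt N1740 F13203) (tt N3190 D3917) (tt N1739 (iv D2715)) (tt N3191 D3918) (tt N3176 (iv F18423)) (tt N3192 D3919) (tt N3183 (iv F18552)))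
theorem Q2375 : ∀ i, i < 2375 → P i := stepQ 2374 Q2374 (allL N2374 (tt N2930 (iv F16864)) (tt N3188 (iv F18578)) (tt N2374 F13204) (tt N2374 F13205) (tt N2374 F13206) (tt N3192 (iv F18595)) (tt N2374 F13207) (tt N3177 (iv F18427)) (tt N1739 (iv D2716)) (tt N2374 F195052))
theorem Q2376 : ∀ i, i < 2376 → P i := stepQ 2375 Q2375 (allL N2375 (tt N2931 (iv F16869)) (tt N3189 (iv F18582)) (tt N1741 F13208) (tt N3191 (iv F18591)) (tt N1757 F13209) (tt N2375 F13210) (tt N1740 (iv D2717)) (tt N3193 D3921) (tt N2375 F13211) (tt N3184 (iv F18559)))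
theorem Q2377 : ∀ i, i < 2377 → P i := stepQ 2376 Q2376 (allL N2376 (tt N2932 (iv F16874)) (tt N2376 F13212) (tt N3193 (iv F18600)) (tt N2376 F13213) (tt N1758 F13214) (tt N2376 F13215) (tt N3179 (iv F18434)) (tt N1741 (iv D2718)) (tt N2376 F13216) (tt N3185 (iv F18564)))
theorem Q2378 : ∀ i, i < 2378 → P i := stepQ 2377 Q2377 (allL N2377 (tt N2933 (iv F16902)) (tt N2377 F13243) (tt N1842 (iv F200331)) (tt N2377 F13244) (tt N3170 (iv F18384)) (tt N1742 (iv D2724)) (tt N3194 D3931) (tt N1749 F13245) (tt N1744 F13246) (tt N2377 F13247))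
theorem Q2379 : ∀ i, i < 2379 → P i := stepQ 2378 Q2378 (allL N2378 (tt N2935 (iv F16916)) (tt N1780 (iv F200035)) (tt N1773 F13258) (tt N1743 (iv D2727)) (tt N2378 F13259) (tt N3195 D3935) (tt N2378 F13260) (tt N1750 F13261) (tt N1777 (iv F200034)) (tt N1746 F13262))
theorem Q2380 : ∀ i, i < 2380 → P i := stepQ 2379 Q2379 (allL N2379 (tt N2936 (iv F16922)) (tt N1846 (iv F200329)) (tt N1744 F13263) (tt N3195 (iv F18670)) (tt N3172 (iv F18402)) (tt N1743 (iv D2728)) (tt N3196 D3937) (tt N1751 F13264) (tt N1842 (iv F200332)) (tt N1747 F13265))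
theorem Q2381 : ∀ i, i < 2381 → P i := stepQ 2380 Q2380 (allL N2380 (tt N2937 (iv F16926)) (tt N2380 F13266) (tt N3196 (iv F18677)) (tt N1775 F13267) (tt N3173 (iv F18407)) (tt N2380 F13268) (tt N1744 (iv D2729)) (tt N3197 D3938) (tt N3194 (iv F18653)) (tt N1748 F13269))
theorem Q2382 : ∀ i, i < 2382 → P i := stepQ 2381 Q2381 (allL N2381 (tt N3001 (iv F200055)) (tt N1746 F13275) (tt N3198 D3941) (tt N1745 (iv D2731)) (tt N2381 F13276) (tt N3199 D3942) (tt N2381 F13277) (tt N1753 F13278) (tt N3200 D3943) (tt N1780 (iv F200036)))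
theorem Q2383 : ∀ i, i < 2383 → P i := stepQ 2382 Q2382 (allL N2382 (tt N3101 (iv F200337)) (tt N1747 F13279) (tt N2382 F13280) (tt N3199 (iv F18699)) (tt N3175 (iv F18418)) (tt N1745 (iv D2732)) (tt N3201 D3944) (tt N1754 F13281) (tt N2382 F13282) (tt N1846 (iv F200330)))
theorem Q2384 : ∀ i, i < 2384 → P i := stepQ 2383 Q2383 (allL N2383 (tt N2941 (iv F16942)) (tt N3199 (iv F18698)) (tt N1779 F13283) (tt N1747 F13284) (tt N3202 D3945) (tt N1746 (iv D2733)) (tt N3203 D3946) (tt N1755 F13285) (tt N3204 D3947) (tt N3195 (iv F18672)))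
theorem Q2385 : ∀ i, i < 2385 → P i := stepQ 2384 Q2384 (allL N2384 (tt N2942 (iv F16946)) (tt N3200 (iv F18701)) (tt N1780 F13286) (tt N2384 F13287) (tt N2384 F13288) (tt N3204 (iv F18718)) (tt N2384 F13289) (tt N1756 F13290) (tt N1746 (iv D2734)) (tt N3198 (iv F200032)))
theorem Q2386 : ∀ i, i < 2386 → P i := stepQ 2385 Q2385 (allL N2385 (tt N2943 (iv F16952)) (tt N3201 (iv F18706)) (tt N1748 F13291) (tt N3203 (iv F18714)) (tt N3178 (iv F18429)) (tt N2385 F13292) (tt N1747 (iv D2735)) (tt N3205 D3949) (tt N2385 F13293) (tt N3196 (iv F18679)))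
theorem Q2387 : ∀ i, i < 2387 → P i := stepQ 2386 Q2386 (allL N2386 (tt N2944 (iv F16956)) (tt N2386 F13294) (tt N3205 (iv F18725)) (tt N1782 F13295) (tt N3179 (iv F18433)) (tt N2386 F13296) (tt N1758 F13297) (tt N1748 (iv D2736)) (tt N2386 F13298) (tt N3197 (iv F18684)))
theorem Q2388 : ∀ i, i < 2388 → P i := stepQ 2387 Q2387 (allL N2387 (tt N2945 (iv F16992)) (tt N2387 F13336) (tt N1851 (iv F200882)) (tt N2387 F13337) (tt N3182 (iv F18534)) (tt N1759 F13338) (tt N1749 (iv D2746)) (tt N3206 D3964) (tt N1752 F13339) (tt N2387 F13340))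
theorem Q2389 : ∀ i, i < 2389 → P i := stepQ 2388 Q2388 (allL N2388 (tt N2948 (iv F17007)) (tt N1796 (iv F200367)) (tt N1786 F13352) (tt N1751 F13353) (tt N3207 D3971) (tt N1750 (iv D2750)) (tt N3208 D3972) (tt N3195 (iv F18671)) (tt N1792 (iv F200361)) (tt N1755 F13354))
theorem Q2390 : ∀ i, i < 2390 → P i := stepQ 2389 Q2389 (allL N2389 (tt N2949 (iv F17015)) (tt N1856 (iv F200880)) (tt N1752 F13358) (tt N3208 (iv F18816)) (tt N3184 (iv F18557)) (tt N1761 F13359) (tt N1751 (iv D2752)) (tt N3209 D3975) (tt N1851 (iv F200883)) (tt N1757 F13360))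
theorem Q2391 : ∀ i, i < 2391 → P i := stepQ 2390 Q2390 (allL N2390 (tt N2950 (iv F17019)) (tt N2390 F13361) (tt N3209 (iv F18825)) (tt N1789 F13362) (tt N3185 (iv F18562)) (tt N1762 F13363) (tt N3197 (iv F18683)) (tt N1752 (iv D2753)) (tt N3206 (iv F18788)) (tt N1758 F13364))
theorem Q2392 : ∀ i, i < 2392 → P i := stepQ 2391 Q2391 (allL N2391 (tt N2960 (iv F200319)) (tt N1787 F200173) (tt N1753 (iv D2756)) (tt N2391 F13372) (tt N2391 F13373) (tt N3210 D3980) (tt N1763 F13374) (tt N3198 (iv F18697)) (tt N1784 (iv F200029)) (tt N1756 F200174))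
theorem Q2393 : ∀ i, i < 2393 → P i := stepQ 2392 Q2392 (allL N2392 (tt N3027 (iv F200372)) (tt N1755 F13375) (tt N3210 (iv F18843)) (tt N1754 F13376) (tt N3211 D3982) (tt N1753 (iv D2757)) (tt N3212 D3983) (tt N3199 (iv F18700)) (tt N3213 D3984) (tt N1796 (iv F200368)))
theorem Q2394 : ∀ i, i < 2394 → P i := stepQ 2393 Q2393 (allL N2393 (tt N3012 (iv F200056)) (tt N1756 F13377) (tt N1784 (iv F200028)) (tt N2393 F13378) (tt N2393 F13379) (tt N3213 (iv F18856)) (tt N1765 F13380) (tt N3200 (iv F18705)) (tt N1753 (iv D2758)) (tt N1787 (iv F200027)))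
theorem Q2395 : ∀ i, i < 2395 → P i := stepQ 2394 Q2394 (allL N2394 (tt N3119 (iv F200884)) (tt N1757 F13381) (tt N2394 F13382) (tt N3212 (iv F18852)) (tt N3189 (iv F18584)) (tt N1766 F13383) (tt N1754 (iv D2759)) (tt N3214 D3986) (tt N2394 F13384) (tt N1856 (iv F200881)))
theorem Q2396 : ∀ i, i < 2396 → P i := stepQ 2395 Q2395 (allL N2395 (tt N2957 (iv F17042)) (tt N3211 (iv F18849)) (tt N1794 F13385) (tt N3190 (iv F18588)) (tt N1755 (iv D2760)) (tt N2395 F13386) (tt N3215 D3987) (tt N3202 (iv F18712)) (tt N3216 D3988) (tt N3207 (iv F18814)))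
theorem Q2397 : ∀ i, i < 2397 → P i := stepQ 2396 Q2396 (allL N2396 (tt N2958 (iv F17045)) (tt N3212 (iv F18851)) (tt N1795 F13387) (tt N1757 F13388) (tt N3215 (iv F18866)) (tt N1768 F13389) (tt N1755 (iv D2761)) (tt N3217 D3989) (tt N3218 D3990) (tt N3208 (iv F18818)))
theorem Q2398 : ∀ i, i < 2398 → P i := stepQ 2397 Q2397 (allL N2397 (tt N2959 (iv F17049)) (tt N3213 (iv F18854)) (tt N1796 F13390) (tt N2397 F13391) (tt N3216 (iv F18868)) (tt N1756 F13392) (tt N3218 (iv F18876)) (tt N3204 (iv F18719)) (tt N1755 (iv D2762)) (tt N3210 (iv F200355)))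
theorem Q2399 : ∀ i, i < 2399 → P i := stepQ 2398 Q2398 (allL N2398 (tt N2961 (iv F17058)) (tt N3214 (iv F18861)) (tt N1758 F13397) (tt N3217 (iv F18871)) (tt N3193 (iv F18601)) (tt N1770 F13398) (tt N3205 (iv F18727)) (tt N1757 (iv D2764)) (tt N2398 F13399) (tt N3209 (iv F18827)))
theorem Q2400 : ∀ i, i < 2400 → P i := stepQ 2399 Q2399 (allL N2399 (tt N2962 (iv F17118)) (tt N2399 F13465) (tt N1859 (iv F200995)) (tt N2399 F13466) (tt N2399 F13467) (tt N3206 (iv F18787)) (tt N2399 F13468) (tt N1759 (iv D2779)) (tt N1762 F13469) (tt N2399 F13470))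
theorem Q2401 : ∀ i, i < 2401 → P i := stepQ 2400 Q2400 (allL N2400 (tt N2966 (iv F17148)) (tt N1812 (iv F200966)) (tt N1802 F13496) (tt N2400 F13497) (tt N1760 (iv D2786)) (tt N2400 F13498) (tt N3219 D4026) (tt N2400 F13499) (tt N1808 (iv F200964)) (tt N1767 F13500))
theorem Q2402 : ∀ i, i < 2402 → P i := stepQ 2401 Q2401 (allL N2401 (tt N2967 (iv F17154)) (tt N1814 (iv F200939)) (tt N1803 F13501) (tt N1761 F13502) (tt N3219 (iv F19031)) (tt N3208 (iv F18817)) (tt N1760 (iv D2787)) (tt N3220 D4028) (tt N1809 (iv F200935)) (tt N1768 F13503))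
theorem Q2403 : ∀ i, i < 2403 → P i := stepQ 2402 Q2402 (allL N2402 (tt N2968 (iv F17167)) (tt N1860 (iv F200957)) (tt N1762 F13511) (tt N3220 (iv F19038)) (tt N2402 F13512) (tt N3209 (iv F18826)) (tt N2402 F13513) (tt N1761 (iv D2790)) (tt N1859 (iv F200996)) (tt N1770 F13514))
theorem Q2404 : ∀ i, i < 2404 → P i := stepQ 2403 Q2403 (allL N2403 (tt N2984 (iv F200867)) (tt N1804 F200620) (tt N1764 F13531) (tt N2403 F13532) (tt N3221 D4039) (tt N1763 (iv D2795)) (tt N3222 D4040) (tt N2403 F13533) (tt N1800 (iv F200376)) (tt N1769 F200621))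
theorem Q2405 : ∀ i, i < 2405 → P i := stepQ 2404 Q2404 (allL N2404 (tt N3057 (iv F200968)) (tt N1767 F13538) (tt N3221 (iv F19079)) (tt N2404 F13539) (tt N1764 (iv D2797)) (tt N2404 F13540) (tt N3223 D4044) (tt N2404 F13541) (tt N3224 D4045) (tt N1812 (iv F200967)))
theorem Q2406 : ∀ i, i < 2406 → P i := stepQ 2405 Q2405 (allL N2405 (tt N3059 (iv F200849)) (tt N1768 F13542) (tt N3222 (iv F19083)) (tt N1766 F13543) (tt N3223 (iv F19099)) (tt N3212 (iv F18853)) (tt N1764 (iv D2798)) (tt N3225 D4046) (tt N3226 D4047) (tt N1814 (iv F200940)))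
theorem Q2407 : ∀ i, i < 2407 → P i := stepQ 2406 Q2406 (allL N2406 (tt N3041 (iv F200416)) (tt N1769 F13544) (tt N1800 (iv F200375)) (tt N2406 F13545) (tt N3224 (iv F19101)) (tt N1765 F13546) (tt N3226 (iv F19109)) (tt N2406 F13547) (tt N1764 (iv D2799)) (tt N1804 (iv F200374)))
theorem Q2408 : ∀ i, i < 2408 → P i := stepQ 2407 Q2407 (allL N2407 (tt N3127 F200956) (tt N1770 F13552) (tt N2407 F13553) (tt N3225 (iv F19105)) (tt N2407 F13554) (tt N3214 (iv F18863)) (tt N2407 F13555) (tt N1766 (iv D2801)) (tt N2407 F13556) (tt N1860 (iv F200958)))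
theorem Q2409 : ∀ i, i < 2409 → P i := stepQ 2408 Q2408 (allL N2408 (tt N2980 (iv F17213)) (tt N3223 (iv F19097)) (tt N1811 F13557) (tt N2408 F13558) (tt N1768 F13559) (tt N3227 D4049) (tt N1767 (iv D2802)) (tt N3228 D4050) (tt N3229 D4051) (tt N3219 (iv F19032)))
theorem Q2410 : ∀ i, i < 2410 → P i := stepQ 2409 Q2409 (allL N2409 (tt N2981 (iv F17217)) (tt N3224 (iv F19100)) (tt N1812 F13560) (tt N3230 D4052) (tt N1769 F13561) (tt N2409 F13562) (tt N3229 (iv F19123)) (tt N2409 F13563) (tt N1767 (iv D2803)) (tt N3221 (iv F200962)))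
theorem Q2411 : ∀ i, i < 2411 → P i := stepQ 2410 Q2410 (allL N2410 (tt N2982 (iv F17222)) (tt N3225 (iv F19104)) (tt N1813 F13564) (tt N1770 F13565) (tt N3228 (iv F19119)) (tt N3217 (iv F18872)) (tt N2410 F13566) (tt N1768 (iv D2804)) (tt N3231 D4054) (tt N3220 (iv F19040)))
theorem Q2412 : ∀ i, i < 2412 → P i := stepQ 2411 Q2411 (allL N2411 (tt N2983 (iv F17226)) (tt N3226 (iv F19107)) (tt N1814 F13567) (tt N2411 F13568) (tt N3229 (iv F19122)) (tt N3218 (iv F18875)) (tt N1769 F13569) (tt N3231 (iv F19136)) (tt N1768 (iv D2805)) (tt N3222 (iv F200942)))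
theorem Q2413 : ∀ i, i < 2413 → P i := stepQ 2412 Q2412 (allL N2412 (tt N1772 F13574) (tt N2985 (iv F17236)) (tt N2412 F13575) (tt N3232 D4056) (tt N1771 (iv D2807)) (tt N3233 D4057) (tt N2412 F13576) (tt N1783 F13577) (tt N2412 F13578) (tt N1776 F13579))
theorem Q2414 : ∀ i, i < 2414 → P i := stepQ 2413 Q2413 (allL N2413 (tt N3232 (iv F19140)) (tt N1773 F13580) (tt N3200 F199916) (tt N1772 (iv D2808)) (tt N2413 F13581) (tt N3234 D4059) (tt N2413 F13582) (tt N1784 F13583) (tt N3198 F199917) (tt N1777 F13584))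
theorem Q2415 : ∀ i, i < 2415 → P i := stepQ 2414 Q2414 (allL N2414 (tt N3233 (iv F19145)) (tt N1774 F13585) (tt N2414 F13586) (tt N3234 (iv F19157)) (tt N2414 F13587) (tt N1772 (iv D2809)) (tt N3235 D4061) (tt N1785 F13588) (tt N2414 F13589) (tt N1778 F13590))
theorem Q2416 : ∀ i, i < 2416 → P i := stepQ 2415 Q2415 (allL N2415 (tt N2988 (iv F17251)) (tt N3234 (iv F19156)) (tt N3195 (iv F18669)) (tt N1774 F13591) (tt N3236 D4062) (tt N1773 (iv D2810)) (tt N3237 D4063) (tt N1786 F13592) (tt N3238 D4064) (tt N1779 F13593))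
theorem Q2417 : ∀ i, i < 2417 → P i := stepQ 2416 Q2416 (allL N2416 (tt N2989 (iv F17255)) (tt N3198 (iv F200031)) (tt N1777 (iv F200033)) (tt N2416 F13594) (tt N2416 F13595) (tt N3238 (iv F19179)) (tt N2416 F13596) (tt N1787 F13597) (tt N1773 (iv D2811)) (tt N3200 F199915))
theorem Q2418 : ∀ i, i < 2418 → P i := stepQ 2417 Q2417 (allL N2417 (tt N2990 (iv F17260)) (tt N3235 (iv F19165)) (tt N1775 F13598) (tt N3237 (iv F19175)) (tt N2417 F13599) (tt N2417 F13600) (tt N1774 (iv D2812)) (tt N3239 D4066) (tt N2417 F13601) (tt N1781 F13602))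
theorem Q2419 : ∀ i, i < 2419 → P i := stepQ 2418 Q2418 (allL N2418 (tt N2991 (iv F17266)) (tt N2418 F13603) (tt N3239 (iv F19186)) (tt N3197 (iv F18681)) (tt N2418 F13604) (tt N2418 F13605) (tt N1789 F13606) (tt N1775 (iv D2813)) (tt N2418 F13607) (tt N1782 F13608))
theorem Q2420 : ∀ i, i < 2420 → P i := stepQ 2419 Q2419 (allL N2419 (tt N1777 F13609) (tt N2992 (iv F17273)) (tt N2989 F200132) (tt N1776 (iv D2814)) (tt N2419 F13610) (tt N3240 D4068) (tt N2419 F13611) (tt N1790 F13612) (tt N2935 F200133) (tt N3232 (iv F19144)))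
theorem Q2421 : ∀ i, i < 2421 → P i := stepQ 2420 Q2420 (allL N2420 (tt N1778 F13613) (tt N2993 (iv F17278)) (tt N2420 F13614) (tt N3240 (iv F19198)) (tt N2420 F13615) (tt N1776 (iv D2815)) (tt N3241 D4070) (tt N1791 F13616) (tt N1841 F13617) (tt N3233 (iv F19150)))
theorem Q2422 : ∀ i, i < 2422 → P i := stepQ 2421 Q2421 (allL N2421 (tt N3240 (iv F19197)) (tt N1779 F13622) (tt N3238 F200160) (tt N1778 F13623) (tt N3242 D4073) (tt N1777 (iv D2817)) (tt N3243 D4074) (tt N1792 F13624) (tt N3195 F200161) (tt N3234 (iv F19159)))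
theorem Q2423 : ∀ i, i < 2423 → P i := stepQ 2422 Q2422 (allL N2422 (tt N3241 (iv F19205)) (tt N1781 F13630) (tt N2422 F13631) (tt N3243 (iv F19222)) (tt N2422 F13632) (tt N2422 F13633) (tt N1778 (iv D2819)) (tt N3244 D4077) (tt N1843 F13634) (tt N3235 (iv F19170)))
theorem Q2424 : ∀ i, i < 2424 → P i := stepQ 2423 Q2423 (allL N2423 (tt N2998 (iv F17297)) (tt N3242 (iv F19217)) (tt N3202 (iv F18710)) (tt N2423 F13635) (tt N1779 (iv D2820)) (tt N2423 F13636) (tt N3204 (iv F200022)) (tt N1794 F13637) (tt N3203 (iv F200020)) (tt N3236 (iv F19174)))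
theorem Q2425 : ∀ i, i < 2425 → P i := stepQ 2424 Q2424 (allL N2424 (tt N2999 (iv F17301)) (tt N3243 (iv F19221)) (tt N3203 (iv F18713)) (tt N1781 F13638) (tt N3204 (iv F200021)) (tt N2424 F13639) (tt N1779 (iv D2821)) (tt N3216 (iv F200051)) (tt N3202 (iv F200019)) (tt N3237 (iv F19177)))
theorem Q2426 : ∀ i, i < 2426 → P i := stepQ 2425 Q2425 (allL N2425 (tt N3000 (iv F17304)) (tt N3195 F200162) (tt N3204 (iv F18716)) (tt N1846 F13640) (tt N3203 F200163) (tt N1780 F13641) (tt N3202 F200164) (tt N1796 F13642) (tt N1779 (iv D2822)) (tt N3199 F200165))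
theorem Q2427 : ∀ i, i < 2427 → P i := stepQ 2426 Q2426 (allL N2426 (tt N3002 (iv F17313)) (tt N3244 (iv F19233)) (tt N1782 F13647) (tt N3216 F200193) (tt N2426 F13648) (tt N2426 F13649) (tt N1797 F13650) (tt N1781 (iv D2824)) (tt N1847 F13651) (tt N3239 (iv F19191)))
theorem Q2428 : ∀ i, i < 2428 → P i := stepQ 2427 Q2427 (allL N2427 (tt N1784 F13652) (tt N3003 (iv F17320)) (tt N3012 F200177) (tt N1783 (iv D2825)) (tt N2427 F13653) (tt N3245 D4084) (tt N1798 F13654) (tt N3232 (iv F19143)) (tt N2960 (iv F200320)) (tt N1790 F13655))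
theorem Q2429 : ∀ i, i < 2429 → P i := stepQ 2428 Q2428 (allL N2428 (tt N1785 F13656) (tt N3004 (iv F17325)) (tt N2428 F13657) (tt N3245 (iv F19259)) (tt N2428 F13658) (tt N1783 (iv D2826)) (tt N3246 D4086) (tt N3233 (iv F19148)) (tt N2428 F13659) (tt N1791 F13660))
theorem Q2430 : ∀ i, i < 2430 → P i := stepQ 2429 Q2429 (allL N2429 (tt N3245 (iv F19258)) (tt N1786 F13665) (tt N3213 F200151) (tt N1785 F13666) (tt N3247 D4089) (tt N1784 (iv D2828)) (tt N3248 D4090) (tt N3234 (iv F19158)) (tt N3210 F200152) (tt N1792 F13667))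
theorem Q2431 : ∀ i, i < 2431 → P i := stepQ 2430 Q2430 (allL N2430 (tt N3246 (iv F19265)) (tt N1788 F13672) (tt N2430 F13673) (tt N3248 (iv F19282)) (tt N2430 F13674) (tt N1801 F13675) (tt N1785 (iv D2830)) (tt N3249 D4093) (tt N2430 F13676) (tt N1793 F13677))
theorem Q2432 : ∀ i, i < 2432 → P i := stepQ 2431 Q2431 (allL N2431 (tt N3009 (iv F17344)) (tt N3247 (iv F19277)) (tt N3207 (iv F18812)) (tt N2431 F13678) (tt N1786 (iv D2831)) (tt N2431 F13679) (tt N3250 D4094) (tt N3236 (iv F19173)) (tt N3251 D4095) (tt N1794 F13680))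
theorem Q2433 : ∀ i, i < 2433 → P i := stepQ 2432 Q2432 (allL N2432 (tt N3010 (iv F17348)) (tt N3248 (iv F19281)) (tt N3208 (iv F18815)) (tt N1788 F13681) (tt N3250 (iv F19300)) (tt N1803 F13682) (tt N1786 (iv D2832)) (tt N3252 D4096) (tt N3253 D4097) (tt N1795 F13683))
theorem Q2434 : ∀ i, i < 2434 → P i := stepQ 2433 Q2433 (allL N2433 (tt N3011 (iv F17352)) (tt N3210 F200153) (tt N1792 (iv F200360)) (tt N2433 F13684) (tt N3251 (iv F19302)) (tt N1787 F13685) (tt N3253 (iv F19309)) (tt N3238 (iv F19180)) (tt N1786 (iv D2833)) (tt N3213 F200150))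
theorem Q2435 : ∀ i, i < 2435 → P i := stepQ 2434 Q2434 (allL N2434 (tt N3013 (iv F17360)) (tt N3249 (iv F19293)) (tt N1789 F13690) (tt N3252 (iv F19304)) (tt N2434 F13691) (tt N1805 F13692) (tt N3239 (iv F19189)) (tt N1788 (iv D2835)) (tt N2434 F13693) (tt N1797 F13694))
theorem Q2436 : ∀ i, i < 2436 → P i := stepQ 2435 Q2435 (allL N2435 (tt N1792 F13699) (tt N3015 (iv F17370)) (tt N3011 F200516) (tt N1791 F13700) (tt N3254 D4102) (tt N1790 (iv D2837)) (tt N3255 D4103) (tt N3240 (iv F19199)) (tt N2948 F200517) (tt N3245 (iv F19260)))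
theorem Q2437 : ∀ i, i < 2437 → P i := stepQ 2436 Q2436 (allL N2436 (tt N1793 F13705) (tt N3016 (iv F17378)) (tt N2436 F13706) (tt N3255 (iv F19327)) (tt N2436 F13707) (tt N1807 F13708) (tt N1791 (iv D2839)) (tt N3256 D4106) (tt N1849 F13709) (tt N3246 (iv F19270)))
theorem Q2438 : ∀ i, i < 2438 → P i := stepQ 2437 Q2437 (allL N2437 (tt N3254 (iv F19323)) (tt N1794 F13715) (tt N3251 (iv F200348)) (tt N2437 F13716) (tt N1792 (iv D2842)) (tt N2437 F13717) (tt N3257 D4112) (tt N3242 (iv F19220)) (tt N3207 (iv F200370)) (tt N3247 (iv F19280)))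
theorem Q2439 : ∀ i, i < 2439 → P i := stepQ 2438 Q2438 (allL N2438 (tt N3255 (iv F19326)) (tt N1795 F13718) (tt N3253 F200586) (tt N1793 F13719) (tt N3257 (iv F19356)) (tt N1809 F13720) (tt N1792 (iv D2843)) (tt N3258 D4114) (tt N3208 F200587) (tt N3248 (iv F19284)))
theorem Q2440 : ∀ i, i < 2440 → P i := stepQ 2439 Q2439 (allL N2439 (tt N3256 (iv F19336)) (tt N1797 F13728) (tt N2439 F13729) (tt N3258 (iv F19361)) (tt N2439 F13730) (tt N1810 F13731) (tt N3244 (iv F19237)) (tt N1793 (iv D2846)) (tt N1852 F13732) (tt N3249 (iv F19298)))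
theorem Q2441 : ∀ i, i < 2441 → P i := stepQ 2440 Q2440 (allL N2440 (tt N3023 (iv F17403)) (tt N3257 (iv F19354)) (tt N3215 (iv F18865)) (tt N2440 F13733) (tt N1795 F13734) (tt N3231 (iv F200410)) (tt N1794 (iv D2847)) (tt N3218 (iv F200364)) (tt N3217 (iv F200354)) (tt N3250 (iv F19301)))
theorem Q2442 : ∀ i, i < 2442 → P i := stepQ 2441 Q2441 (allL N2441 (tt N3024 (iv F17406)) (tt N3207 (iv F200369)) (tt N3216 (iv F18867)) (tt N3205 (iv F200326)) (tt N1796 F13735) (tt N2441 F13736) (tt N3217 (iv F200353)) (tt N3203 F200168) (tt N1794 (iv D2848)) (tt N3211 (iv F200345)))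
theorem Q2443 : ∀ i, i < 2443 → P i := stepQ 2442 Q2442 (allL N2442 (tt N3025 (iv F17409)) (tt N3258 (iv F19360)) (tt N3217 (iv F18870)) (tt N1797 F13737) (tt N3218 (iv F200363)) (tt N1813 F13738) (tt N3216 F200190) (tt N1795 (iv D2849)) (tt N3215 (iv F200362)) (tt N3252 (iv F19306)))
theorem Q2444 : ∀ i, i < 2444 → P i := stepQ 2443 Q2443 (allL N2443 (tt N3026 (iv F17412)) (tt N3208 F200592) (tt N3218 (iv F18873)) (tt N1856 F13739) (tt N3217 F200593) (tt N1814 F13740) (tt N1796 F13741) (tt N3215 F200594) (tt N1795 (iv D2850)) (tt N3212 F200595))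
theorem Q2445 : ∀ i, i < 2445 → P i := stepQ 2444 Q2444 (allL N2444 (tt N1800 F13749) (tt N3029 (iv F17424)) (tt N3041 F200624) (tt N1799 F13750) (tt N3259 D4127) (tt N1798 (iv D2853)) (tt N3260 D4128) (tt N2444 F13751) (tt N2984 (iv F200868)) (tt N1806 F13752))
theorem Q2446 : ∀ i, i < 2446 → P i := stepQ 2445 Q2445 (allL N2445 (tt N1801 F13757) (tt N3030 (iv F17434)) (tt N2445 F13758) (tt N3260 (iv F19407)) (tt N1818 F13759) (tt N3246 (iv F19268)) (tt N1799 (iv D2855)) (tt N3261 D4131) (tt N2445 F13760) (tt N1807 F13761))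
theorem Q2447 : ∀ i, i < 2447 → P i := stepQ 2446 Q2446 (allL N2446 (tt N3259 (iv F19401)) (tt N1802 F13769) (tt N3224 F200618) (tt N1821 F13770) (tt N1800 (iv D2858)) (tt N2446 F13771) (tt N3262 D4137) (tt N2446 F13772) (tt N3221 F200619) (tt N1808 F13773))
theorem Q2448 : ∀ i, i < 2448 → P i := stepQ 2447 Q2447 (allL N2447 (tt N3260 (iv F19406)) (tt N1803 F13774) (tt N3226 F200598) (tt N1801 F13775) (tt N3262 (iv F19443)) (tt N3248 (iv F19283)) (tt N1800 (iv D2859)) (tt N3263 D4139) (tt N3222 F200599) (tt N1809 F13776))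
theorem Q2449 : ∀ i, i < 2449 → P i := stepQ 2448 Q2448 (allL N2448 (tt N3261 (iv F19418)) (tt N1805 F13786) (tt N2448 F13787) (tt N3263 (iv F19450)) (tt N1824 F13788) (tt N3249 (iv F19296)) (tt N2448 F13789) (tt N1801 (iv D2862)) (tt N2448 F13790) (tt N1810 F13791))
theorem Q2450 : ∀ i, i < 2450 → P i := stepQ 2449 Q2449 (allL N2449 (tt N3037 (iv F17466)) (tt N3262 (iv F19441)) (tt N3219 (iv F19029)) (tt N1825 F13792) (tt N1803 F13793) (tt N3264 D4142) (tt N1802 (iv D2863)) (tt N3265 D4143) (tt N3266 D4144) (tt N1811 F13794))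
theorem Q2451 : ∀ i, i < 2451 → P i := stepQ 2450 Q2450 (allL N2450 (tt N3038 (iv F17470)) (tt N3221 (iv F200961)) (tt N1808 (iv F200963)) (tt N3267 D4145) (tt N1804 F13795) (tt N2450 F13796) (tt N3266 (iv F19469)) (tt N2450 F13797) (tt N1802 (iv D2864)) (tt N3224 F200617))
theorem Q2452 : ∀ i, i < 2452 → P i := stepQ 2451 Q2451 (allL N2451 (tt N3039 (iv F17474)) (tt N3263 (iv F19449)) (tt N3220 (iv F19037)) (tt N1805 F13798) (tt N3265 (iv F19465)) (tt N3252 (iv F19305)) (tt N2451 F13799) (tt N1803 (iv D2865)) (tt N3268 D4147) (tt N1813 F13800))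
theorem Q2453 : ∀ i, i < 2453 → P i := stepQ 2452 Q2452 (allL N2452 (tt N3040 (iv F17478)) (tt N3222 F200600) (tt N1809 (iv F200934)) (tt N2452 F13801) (tt N3266 (iv F19468)) (tt N3253 (iv F19308)) (tt N1804 F13802) (tt N3268 (iv F19480)) (tt N1803 (iv D2866)) (tt N3226 F200597))
theorem Q2454 : ∀ i, i < 2454 → P i := stepQ 2453 Q2453 (allL N2453 (tt N1808 F13818) (tt N3043 (iv F17497)) (tt N3038 F201260) (tt N1831 F13819) (tt N1806 (iv D2871)) (tt N2453 F13820) (tt N3269 D4156) (tt N2453 F13821) (tt N2966 F201261) (tt N3259 (iv F19405)))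
theorem Q2455 : ∀ i, i < 2455 → P i := stepQ 2454 Q2454 (allL N2454 (tt N1809 F13822) (tt N3044 (iv F17502)) (tt N3040 F201219) (tt N1807 F13823) (tt N3269 (iv F19511)) (tt N3255 (iv F19328)) (tt N1806 (iv D2872)) (tt N3270 D4158) (tt N2967 F201220) (tt N3260 (iv F19408)))
theorem Q2456 : ∀ i, i < 2456 → P i := stepQ 2455 Q2455 (allL N2455 (tt N1810 F13832) (tt N3045 (iv F17515)) (tt N2455 F13833) (tt N3270 (iv F19518)) (tt N1833 F13834) (tt N3256 (iv F19339)) (tt N2455 F13835) (tt N1807 (iv D2875)) (tt N1858 F13836) (tt N3261 (iv F19423)))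
theorem Q2457 : ∀ i, i < 2457 → P i := stepQ 2456 Q2456 (allL N2456 (tt N3269 (iv F19509)) (tt N1811 F13851) (tt N3266 F201309) (tt N1836 F13852) (tt N1809 F13853) (tt N3271 D4170) (tt N1808 (iv D2881)) (tt N3272 D4171) (tt N3219 F201310) (tt N3262 (iv F19444)))
theorem Q2458 : ∀ i, i < 2458 → P i := stepQ 2457 Q2457 (allL N2457 (tt N3270 (iv F19517)) (tt N1813 F13859) (tt N3268 (iv F200931)) (tt N1810 F13860) (tt N3272 (iv F19561)) (tt N3258 (iv F19362)) (tt N2457 F13861) (tt N1809 (iv D2883)) (tt N3220 (iv F200590)) (tt N3263 (iv F19452)))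
theorem Q2459 : ∀ i, i < 2459 → P i := stepQ 2458 Q2458 (allL N2458 (tt N3054 (iv F17549)) (tt N3271 (iv F19556)) (tt N3227 (iv F19114)) (tt N1838 F13869) (tt N3231 F200643) (tt N1811 (iv D2886)) (tt N2458 F13870) (tt N3229 (iv F200955)) (tt N3228 (iv F200941)) (tt N3264 (iv F19463)))
theorem Q2460 : ∀ i, i < 2460 → P i := stepQ 2459 Q2459 (allL N2459 (tt N3055 (iv F17552)) (tt N3272 (iv F19559)) (tt N3228 (iv F19117)) (tt N1839 F13871) (tt N1813 F13872) (tt N3229 (iv F200954)) (tt N2459 F13873) (tt N1811 (iv D2887)) (tt N3227 (iv F200953)) (tt N3265 (iv F19467)))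
theorem Q2461 : ∀ i, i < 2461 → P i := stepQ 2460 Q2460 (allL N2460 (tt N3056 (iv F17556)) (tt N3219 F201315) (tt N3229 (iv F19121)) (tt N2460 F13874) (tt N1814 F13875) (tt N3228 F201316) (tt N1812 F13876) (tt N3227 F201317) (tt N1811 (iv D2888)) (tt N3223 F201318))
theorem Q2462 : ∀ i, i < 2462 → P i := stepQ 2461 Q2461 (allL N2461 (tt N3058 (iv F17565)) (tt N3220 F200609) (tt N3231 (iv F19133)) (tt N1860 F13881) (tt N3227 (iv F200952)) (tt N3215 F200610) (tt N2461 F13882) (tt N1814 F13883) (tt N1813 (iv D2890)) (tt N3225 F200611))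
theorem Q2463 : ∀ i, i < 2463 → P i := stepQ 2462 Q2462 (allL N2462 (tt N2462 F13886) (tt N1815 (iv D2892)) (tt N2633 (iv F203418)) (tt N2462 F13887) (tt N2462 F13888) (tt N3273 D4181) (tt N2462 F13889) (tt N2462 F13890) (tt N2626 (iv F203420)) (tt N1829 F13891))
theorem Q2464 : ∀ i, i < 2464 → P i := stepQ 2463 Q2463 (allL N2463 (tt N1819 F13892) (tt N3273 (iv F19595)) (tt N1816 F13893) (tt N2463 F13894) (tt N3274 D4183) (tt N1815 (iv D2893)) (tt N3275 D4184) (tt N2463 F13895) (tt N3276 D4185) (tt N1830 F13896))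
theorem Q2465 : ∀ i, i < 2465 → P i := stepQ 2464 Q2464 (allL N2464 (tt N1820 F13897) (tt N2626 (iv F203419)) (tt N1817 F13898) (tt N2625 (iv F203430)) (tt N2464 F13899) (tt N3276 (iv F19617)) (tt N2464 F13900) (tt N2464 F13901) (tt N1815 (iv D2894)) (tt N2464 F13902))
theorem Q2466 : ∀ i, i < 2466 → P i := stepQ 2465 Q2465 (allL N2465 (tt N1821 F13903) (tt N3061 (iv F17589)) (tt N3274 (iv F19606)) (tt N3259 (iv F19402)) (tt N1816 (iv D2895)) (tt N2465 F13904) (tt N3277 D4187) (tt N2465 F13905) (tt N3278 D4188) (tt N1831 F13906))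
theorem Q2467 : ∀ i, i < 2467 → P i := stepQ 2466 Q2466 (allL N2466 (tt N1822 F13907) (tt N3062 (iv F17594)) (tt N3275 (iv F19611)) (tt N1818 F13908) (tt N3277 (iv F19627)) (tt N2466 F13909) (tt N1816 (iv D2896)) (tt N3279 D4189) (tt N3280 D4190) (tt N1832 F13910))
theorem Q2468 : ∀ i, i < 2468 → P i := stepQ 2467 Q2467 (allL N2467 (tt N1823 F13911) (tt N3063 (iv F17599)) (tt N3276 (iv F19616)) (tt N2467 F13912) (tt N3278 (iv F19630)) (tt N1817 F13913) (tt N3280 (iv F19642)) (tt N2467 F13914) (tt N1816 (iv D2897)) (tt N2467 F13915))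
theorem Q2469 : ∀ i, i < 2469 → P i := stepQ 2468 Q2468 (allL N2468 (tt N1824 F13916) (tt N3064 (iv F17605)) (tt N2468 F13917) (tt N3279 (iv F19635)) (tt N3261 (iv F19420)) (tt N2468 F13918) (tt N2468 F13919) (tt N1818 (iv D2898)) (tt N2468 F13920) (tt N1833 F13921))
theorem Q2470 : ∀ i, i < 2470 → P i := stepQ 2469 Q2469 (allL N2469 (tt N3274 (iv F19605)) (tt N2469 F13922) (tt N1821 F13923) (tt N3281 D4191) (tt N1819 (iv D2899)) (tt N2469 F13924) (tt N3282 D4192) (tt N2469 F13925) (tt N3283 D4193) (tt N1834 F13926))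
theorem Q2471 : ∀ i, i < 2471 → P i := stepQ 2470 Q2470 (allL N2470 (tt N3275 (iv F19610)) (tt N2470 F13927) (tt N1822 F13928) (tt N2470 F13929) (tt N3282 (iv F19651)) (tt N2470 F13930) (tt N1819 (iv D2900)) (tt N3284 D4194) (tt N3285 D4195) (tt N1835 F13931))
theorem Q2472 : ∀ i, i < 2472 → P i := stepQ 2471 Q2471 (allL N2471 (tt N3276 (iv F19615)) (tt N2471 F13932) (tt N1823 F13933) (tt N3286 D4196) (tt N3283 (iv F19655)) (tt N1820 F13934) (tt N3285 (iv F19668)) (tt N2471 F13935) (tt N1819 (iv D2901)) (tt N2471 F13936))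
theorem Q2473 : ∀ i, i < 2473 → P i := stepQ 2472 Q2472 (allL N2472 (tt N2625 (iv F203429)) (tt N2472 F13937) (tt N2472 F13938) (tt N1820 (iv D2902)) (tt N2624 (iv F203431)) (tt N3286 (iv F19672)) (tt N2472 F13939) (tt N2472 F13940) (tt N2472 F13941) (tt N2472 F13942))
theorem Q2474 : ∀ i, i < 2474 → P i := stepQ 2473 Q2473 (allL N2473 (tt N3277 (iv F19626)) (tt N1825 F13943) (tt N3282 (iv F19650)) (tt N3262 (iv F19442)) (tt N1822 F13944) (tt N3287 D4198) (tt N1821 (iv D2903)) (tt N3288 D4199) (tt N3289 D4200) (tt N1836 F13945))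
theorem Q2475 : ∀ i, i < 2475 → P i := stepQ 2474 Q2474 (allL N2474 (tt N3278 (iv F19629)) (tt N1826 F13946) (tt N3283 (iv F19654)) (tt N3290 D4201) (tt N1823 F13947) (tt N2474 F13948) (tt N3289 (iv F19693)) (tt N2474 F13949) (tt N1821 (iv D2904)) (tt N2474 F13950))
theorem Q2476 : ∀ i, i < 2476 → P i := stepQ 2475 Q2475 (allL N2475 (tt N3279 (iv F19634)) (tt N1827 F13951) (tt N3284 (iv F19660)) (tt N1824 F13952) (tt N3288 (iv F19688)) (tt N2475 F13953) (tt N2475 F13954) (tt N1822 (iv D2905)) (tt N3291 D4202) (tt N1837 F13955))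
theorem Q2477 : ∀ i, i < 2477 → P i := stepQ 2476 Q2476 (allL N2476 (tt N3280 (iv F19639)) (tt N1828 F13956) (tt N3285 (iv F19666)) (tt N2476 F13957) (tt N3289 (iv F19692)) (tt N2476 F13958) (tt N1823 F13959) (tt N3291 (iv F19704)) (tt N1822 (iv D2906)) (tt N2476 F13960))
theorem Q2478 : ∀ i, i < 2478 → P i := stepQ 2477 Q2477 (allL N2477 (tt N3072 (iv F17647)) (tt N3287 (iv F19683)) (tt N2477 F13961) (tt N3264 (iv F19461)) (tt N2477 F13962) (tt N1825 (iv D2907)) (tt N2477 F13963) (tt N3292 D4203) (tt N3293 D4204) (tt N1838 F13964))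
theorem Q2479 : ∀ i, i < 2479 → P i := stepQ 2478 Q2478 (allL N2478 (tt N3073 (iv F17652)) (tt N3288 (iv F19687)) (tt N2478 F13965) (tt N3265 (iv F19464)) (tt N1827 F13966) (tt N3292 (iv F19708)) (tt N2478 F13967) (tt N1825 (iv D2908)) (tt N3294 D4205) (tt N1839 F13968))
theorem Q2480 : ∀ i, i < 2480 → P i := stepQ 2479 Q2479 (allL N2479 (tt N3074 (iv F17657)) (tt N3289 (iv F19691)) (tt N2479 F13969) (tt N3295 D4206) (tt N1828 F13970) (tt N3293 (iv F19712)) (tt N1826 F13971) (tt N3294 (iv F19718)) (tt N1825 (iv D2909)) (tt N2479 F13972))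
theorem Q2481 : ∀ i, i < 2481 → P i := stepQ 2480 Q2480 (allL N2480 (tt N3075 (iv F17662)) (tt N3290 (iv F19695)) (tt N3296 D4207) (tt N1826 (iv D2910)) (tt N2480 F13973) (tt N2480 F13974) (tt N3295 (iv F19721)) (tt N2480 F13975) (tt N3267 (iv F19473)) (tt N2480 F13976))
theorem Q2482 : ∀ i, i < 2482 → P i := stepQ 2481 Q2481 (allL N2481 (tt N3076 (iv F17667)) (tt N3291 (iv F19700)) (tt N2481 F13977) (tt N2481 F13978) (tt N3294 (iv F19716)) (tt N2481 F13979) (tt N2481 F13980) (tt N1828 F13981) (tt N1827 (iv D2911)) (tt N2481 F13982))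
theorem Q2483 : ∀ i, i < 2483 → P i := stepQ 2482 Q2482 (allL N2482 (tt N2482 F13983) (tt N1830 F13984) (tt N3077 (iv F17676)) (tt N2482 F13985) (tt N3297 D4208) (tt N1829 (iv D2912)) (tt N3298 D4209) (tt N2482 F13986) (tt N2482 F13987) (tt N3273 (iv F19598)))
theorem Q2484 : ∀ i, i < 2484 → P i := stepQ 2483 Q2483 (allL N2483 (tt N1834 F13988) (tt N3297 (iv F19729)) (tt N1831 F13989) (tt N3299 D4210) (tt N1830 (iv D2913)) (tt N2483 F13990) (tt N3300 D4211) (tt N2483 F13991) (tt N2483 F13992) (tt N3274 (iv F19609)))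
theorem Q2485 : ∀ i, i < 2485 → P i := stepQ 2484 Q2484 (allL N2484 (tt N1835 F13993) (tt N3298 (iv F19734)) (tt N1832 F13994) (tt N2484 F13995) (tt N3300 (iv F19744)) (tt N2484 F13996) (tt N1830 (iv D2914)) (tt N3301 D4212) (tt N2484 F13997) (tt N3275 (iv F19614)))
theorem Q2486 : ∀ i, i < 2486 → P i := stepQ 2485 Q2485 (allL N2485 (tt N1836 F13998) (tt N3080 (iv F17689)) (tt N3300 (iv F19743)) (tt N3269 (iv F19510)) (tt N1832 F13999) (tt N3302 D4213) (tt N1831 (iv D2915)) (tt N3303 D4214) (tt N2485 F14000) (tt N3277 (iv F19628)))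
theorem Q2487 : ∀ i, i < 2487 → P i := stepQ 2486 Q2486 (allL N2486 (tt N1837 F14001) (tt N3081 (iv F17693)) (tt N3301 (iv F19747)) (tt N1833 F14002) (tt N3303 (iv F19757)) (tt N2486 F14003) (tt N2486 F14004) (tt N1832 (iv D2916)) (tt N2486 F14005) (tt N3279 (iv F19638)))
theorem Q2488 : ∀ i, i < 2488 → P i := stepQ 2487 Q2487 (allL N2487 (tt N3299 (iv F19738)) (tt N2487 F14006) (tt N3267 F201325) (tt N1834 (iv D2917)) (tt N2487 F14007) (tt N2487 F14008) (tt N3304 D4215) (tt N2487 F14009) (tt N3296 (iv F201688)) (tt N3281 (iv F19648)))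
theorem Q2489 : ∀ i, i < 2489 → P i := stepQ 2488 Q2488 (allL N2488 (tt N3300 (iv F19742)) (tt N2488 F14010) (tt N1836 F14011) (tt N3304 (iv F19761)) (tt N1835 F14012) (tt N3305 D4217) (tt N1834 (iv D2918)) (tt N3306 D4218) (tt N2488 F14013) (tt N3282 (iv F19652)))
theorem Q2490 : ∀ i, i < 2490 → P i := stepQ 2489 Q2489 (allL N2489 (tt N3301 (iv F19746)) (tt N2489 F14014) (tt N1837 F14015) (tt N2489 F14016) (tt N3306 (iv F19775)) (tt N2489 F14017) (tt N2489 F14018) (tt N1835 (iv D2919)) (tt N2489 F14019) (tt N3284 (iv F19664)))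
theorem Q2491 : ∀ i, i < 2491 → P i := stepQ 2490 Q2490 (allL N2490 (tt N3302 (iv F19752)) (tt N1838 F14020) (tt N3305 (iv F19769)) (tt N3271 (iv F19557)) (tt N2490 F14021) (tt N1836 (iv D2920)) (tt N2490 F14022) (tt N3307 D4219) (tt N2490 F14023) (tt N3287 (iv F19686)))
theorem Q2492 : ∀ i, i < 2492 → P i := stepQ 2491 Q2491 (allL N2491 (tt N3303 (iv F19756)) (tt N1839 F14024) (tt N3306 (iv F19774)) (tt N3272 (iv F19560)) (tt N1837 F14025) (tt N3307 (iv F19780)) (tt N2491 F14026) (tt N1836 (iv D2921)) (tt N2491 F14027) (tt N3288 (iv F19690)))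
theorem Q2493 : ∀ i, i < 2493 → P i := stepQ 2492 Q2492 (allL N2492 (tt N3087 (iv F17718)) (tt N3307 (iv F19778)) (tt N2492 F14028) (tt N3229 F201323) (tt N2492 F14029) (tt N1839 F14030) (tt N3230 F201324) (tt N1838 (iv D2922)) (tt N2492 F14031) (tt N3292 (iv F19709)))
theorem Q2494 : ∀ i, i < 2494 → P i := stepQ 2493 Q2493 (allL N2493 (tt N1842 F14038) (tt N3089 (iv F17729)) (tt N2933 F200495) (tt N1841 F14039) (tt N3308 D4224) (tt N1840 (iv D2924)) (tt N3309 D4225) (tt N1848 F14040) (tt N2936 F200496) (tt N2493 F14041))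
theorem Q2495 : ∀ i, i < 2495 → P i := stepQ 2494 Q2494 (allL N2494 (tt N1843 F14046) (tt N3090 (iv F17739)) (tt N2494 F14047) (tt N3309 (iv F19809)) (tt N2494 F14048) (tt N2494 F14049) (tt N1841 (iv D2926)) (tt N3310 D4228) (tt N3241 (iv F19209)) (tt N2494 F14050))
theorem Q2496 : ∀ i, i < 2496 → P i := stepQ 2495 Q2495 (allL N2495 (tt N3308 (iv F19803)) (tt N1844 F14061) (tt N3170 F200566) (tt N2495 F14062) (tt N1842 (iv D2929)) (tt N1863 F14063) (tt N3311 D4234) (tt N1850 F14064) (tt N3172 F200567) (tt N2495 F14065))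
theorem Q2497 : ∀ i, i < 2497 → P i := stepQ 2496 Q2496 (allL N2496 (tt N3309 (iv F19808)) (tt N1845 F14066) (tt N3194 F200546) (tt N1843 F14067) (tt N3311 (iv F19852)) (tt N2496 F14068) (tt N1842 (iv D2930)) (tt N3312 D4236) (tt N3196 F200547) (tt N2496 F14069))
theorem Q2498 : ∀ i, i < 2498 → P i := stepQ 2497 Q2497 (allL N2497 (tt N3310 (iv F19820)) (tt N1847 F14078) (tt N2497 F14079) (tt N3312 (iv F19859)) (tt N2497 F14080) (tt N2497 F14081) (tt N1852 F14082) (tt N1843 (iv D2933)) (tt N3244 (iv F19238)) (tt N2497 F14083))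
theorem Q2499 : ∀ i, i < 2499 → P i := stepQ 2498 Q2498 (allL N2498 (tt N3097 (iv F17774)) (tt N3311 (iv F19850)) (tt N2498 F14084) (tt N2498 F14085) (tt N1845 F14086) (tt N3177 (iv F200923)) (tt N1844 (iv D2934)) (tt N3192 (iv F200901)) (tt N3176 F200578) (tt N2498 F14087))
theorem Q2500 : ∀ i, i < 2500 → P i := stepQ 2499 Q2499 (allL N2499 (tt N3098 (iv F17779)) (tt N3172 F200552) (tt N2499 F14088) (tt N3178 F200553) (tt N1846 F14089) (tt N1866 F14090) (tt N3176 F200554) (tt N1854 F14091) (tt N1844 (iv D2935)) (tt N3175 F200555))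
theorem Q2501 : ∀ i, i < 2501 → P i := stepQ 2500 Q2500 (allL N2500 (tt N3099 (iv F17784)) (tt N3312 (iv F19858)) (tt N2500 F14092) (tt N1847 F14093) (tt N3192 (iv F200900)) (tt N2500 F14094) (tt N1855 F14095) (tt N1845 (iv D2936)) (tt N3190 F200612) (tt N2500 F14096))
theorem Q2502 : ∀ i, i < 2502 → P i := stepQ 2501 Q2501 (allL N2501 (tt N3100 (iv F17790)) (tt N3196 (iv F200324)) (tt N2501 F14097) (tt N3202 F200167) (tt N3176 (iv F200338)) (tt N2501 F14098) (tt N1846 F14099) (tt N3190 (iv F200371)) (tt N1845 (iv D2937)) (tt N3201 (iv F200325)))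
theorem Q2503 : ∀ i, i < 2503 → P i := stepQ 2502 Q2502 (allL N2502 (tt N1850 F14117) (tt N3103 (iv F17812)) (tt N2921 F200804) (tt N2502 F14118) (tt N1848 (iv D2942)) (tt N1868 F14119) (tt N3313 D4253) (tt N3308 (iv F19806)) (tt N2924 F200805) (tt N2502 F14120))
theorem Q2504 : ∀ i, i < 2504 → P i := stepQ 2503 Q2503 (allL N2503 (tt N1851 F14121) (tt N3104 (iv F17817)) (tt N2945 F201165) (tt N1849 F14122) (tt N3313 (iv F19929)) (tt N1857 F14123) (tt N1848 (iv D2943)) (tt N3314 D4255) (tt N2949 F201166) (tt N2503 F14124))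
theorem Q2505 : ∀ i, i < 2505 → P i := stepQ 2504 Q2504 (allL N2504 (tt N1852 F14131) (tt N3105 (iv F17830)) (tt N2504 F14132) (tt N3314 (iv F19936)) (tt N2504 F14133) (tt N1858 F14134) (tt N3310 (iv F19824)) (tt N1849 (iv D2946)) (tt N3256 (iv F19340)) (tt N2504 F14135))
theorem Q2506 : ∀ i, i < 2506 → P i := stepQ 2505 Q2505 (allL N2505 (tt N3313 (iv F19927)) (tt N1853 F14156) (tt N3182 F201181) (tt N2505 F14157) (tt N1851 F14158) (tt N2505 F14159) (tt N1850 (iv D2952)) (tt N3315 D4267) (tt N3184 F201182) (tt N2505 F14160))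
theorem Q2507 : ∀ i, i < 2507 → P i := stepQ 2506 Q2506 (allL N2506 (tt N3314 (iv F19935)) (tt N1855 F14164) (tt N3206 F200936) (tt N1852 F14165) (tt N3315 (iv F19984)) (tt N1859 F14166) (tt N3312 (iv F19861)) (tt N1851 (iv D2954)) (tt N3209 F200937) (tt N2506 F14167))
theorem Q2508 : ∀ i, i < 2508 → P i := stepQ 2507 Q2507 (allL N2507 (tt N3114 (iv F17870)) (tt N3315 (iv F19982)) (tt N2507 F14174) (tt N2507 F14175) (tt N1855 F14176) (tt N2507 F14177) (tt N3192 F201276) (tt N1853 (iv D2957)) (tt N3191 F201277) (tt N2507 F14178))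
theorem Q2509 : ∀ i, i < 2509 → P i := stepQ 2508 Q2508 (allL N2508 (tt N3115 (iv F17876)) (tt N3184 F201177) (tt N2508 F14179) (tt N3193 F201178) (tt N1856 F14180) (tt N2508 F14181) (tt N1854 F14182) (tt N3191 F201179) (tt N1853 (iv D2958)) (tt N3189 F201180))
theorem Q2510 : ∀ i, i < 2510 → P i := stepQ 2509 Q2509 (allL N2509 (tt N3116 (iv F17881)) (tt N3183 (iv F200891)) (tt N3179 F200558) (tt N1854 (iv D2959)) (tt N3205 F200559) (tt N1869 F14183) (tt N3193 (iv F200879)) (tt N3178 F200560) (tt N2509 F14184) (tt N3187 (iv F200873)))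
theorem Q2511 : ∀ i, i < 2511 → P i := stepQ 2510 Q2510 (allL N2510 (tt N3118 (iv F17889)) (tt N3209 F200606) (tt N2510 F14189) (tt N3215 F200607) (tt N3191 (iv F200885)) (tt N1860 F14190) (tt N3190 F200608) (tt N1856 F14191) (tt N1855 (iv D2961)) (tt N3214 (iv F200878)))
theorem Q2512 : ∀ i, i < 2512 → P i := stepQ 2511 Q2511 (allL N2511 (tt N1859 F14224) (tt N3121 (iv F17926)) (tt N2962 F201224) (tt N1858 F14225) (tt N2511 F14226) (tt N3314 (iv F19937)) (tt N2511 F14227) (tt N1857 (iv D2969)) (tt N2968 F201225) (tt N2511 F14228))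
theorem Q2513 : ∀ i, i < 2513 → P i := stepQ 2512 Q2512 (allL N2512 (tt N1863 F14291) (tt N3129 (iv F17995)) (tt N2911 F201169) (tt N2512 F14292) (tt N1861 (iv D2984)) (tt N3308 (iv F19805)) (tt N3316 D4307) (tt N1868 F14293) (tt N2913 F201170) (tt N2512 F14294))
theorem Q2514 : ∀ i, i < 2514 → P i := stepQ 2513 Q2513 (allL N2513 (tt N1864 F14295) (tt N3130 (iv F18000)) (tt N2902 F201291) (tt N1862 F14296) (tt N3316 (iv F20153)) (tt N2513 F14297) (tt N1861 (iv D2985)) (tt N2513 F14298) (tt N2903 F201292) (tt N2513 F14299))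
theorem Q2515 : ∀ i, i < 2515 → P i := stepQ 2514 Q2514 (allL N2514 (tt N3316 (iv F20151)) (tt N1865 F14333) (tt N3160 F201295) (tt N2514 F14334) (tt N1864 F14335) (tt N3317 D4319) (tt N1863 (iv D2993)) (tt N2514 F14336) (tt N3161 F201296) (tt N2514 F14337))
theorem Q2516 : ∀ i, i < 2516 → P i := stepQ 2515 Q2515 (allL N2515 (tt N3138 (iv F18058)) (tt N3317 (iv F20208)) (tt N2515 F14351) (tt N2515 F14352) (tt N2515 F14353) (tt N1865 (iv D2997)) (tt N3177 F201300) (tt N2515 F14354) (tt N3164 F201301) (tt N2515 F14355))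
theorem Q2517 : ∀ i, i < 2517 → P i := stepQ 2516 Q2516 (allL N2516 (tt N3139 (iv F18064)) (tt N3161 F201284) (tt N2516 F14356) (tt N3165 F201285) (tt N1867 F14357) (tt N3164 F201286) (tt N1866 F14358) (tt N2516 F14359) (tt N1865 (iv D2998)) (tt N3163 F201287))
theorem Q2518 : ∀ i, i < 2518 → P i := stepQ 2517 Q2517 (allL N2517 (tt N3140 (iv F18069)) (tt N3171 (iv F200894)) (tt N3166 F200556) (tt N1866 (iv D2999)) (tt N2517 F14360) (tt N3178 F200557) (tt N3165 (iv F200897)) (tt N1869 F14361) (tt N2517 F14362) (tt N3174 (iv F200886)))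
theorem Q2519 : ∀ i, i < 2519 → P i := stepQ 2518 Q2518 (allL N2518 (tt N3149 (iv F18156)) (tt N2518 F196948) (tt N1869 (iv D3018)) (tt N2518 F14440) (tt N2518 F14441) (tt N3179 F200561) (tt N2518 F14442) (tt N3166 F200562) (tt N2518 F14443) (tt N3186 (iv F200876)))
theorem Q2520 : ∀ i, i < 2520 → P i := stepQ 2519 Q2519 (allL N2519 (tt N1872 F14516) (tt N2519 F14517) (tt N2901 F202089) (tt N2519 F14518) (tt N1871 F14519) (tt N3318 D4376) (tt N1870 (iv D3034)) (tt N2519 F14520) (tt N2899 (iv F202479)) (tt N2519 F14521))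
theorem Q2521 : ∀ i, i < 2521 → P i := stepQ 2520 Q2520 (allL N2520 (tt N3318 (iv F20463)) (tt N1873 F14578) (tt N3158 F202182) (tt N2520 F14579) (tt N2520 F14580) (tt N1872 (iv D3046)) (tt N2520 F14581) (tt N2520 F14582) (tt N3157 (iv F202483)) (tt N2520 F14583))
theorem Q2522 : ∀ i, i < 2522 → P i := stepQ 2521 Q2521 (allL N2521 (tt N2521 F14604) (tt N3157 F202993) (tt N2521 F14605) (tt N3319 D4399) (tt N2521 F14606) (tt N1874 F14607) (tt N2521 F14608) (tt N2521 F14609) (tt N1873 (iv D3051)) (tt N3153 (iv F203434)))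
theorem Q2523 : ∀ i, i < 2523 → P i := stepQ 2522 Q2522 (allL N2522 (tt N2522 F14610) (tt N3156 F202992) (tt N3320 D4401) (tt N1874 (iv D3052)) (tt N2522 F14611) (tt N3319 (iv F20582)) (tt N1875 F14612) (tt N2522 F14613) (tt N2522 F14614) (tt N3152 (iv F203433)))
theorem Q2524 : ∀ i, i < 2524 → P i := stepQ 2523 Q2523 (allL N2523 (tt N2523 F14621) (tt N2523 F199635) (tt N1875 (iv D3054)) (tt N2523 F14622) (tt N2523 F14623) (tt N2523 F14624) (tt N3320 (iv F20596)) (tt N1876 F14625) (tt N2523 F14626) (tt N3167 (iv F203435)))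
theorem Q2525 : ∀ i, i < 2525 → P i := stepQ 2524 Q2524 (allL N2524 (tt N2524 F14793) (tt N2524 F14794) (tt N2524 F14795) (tt N2524 F14796) (tt N2524 F14797) (tt N1877 (iv D3090)) (tt N2524 F14798) (tt N2524 F14799) (tt N2524 F14800) (tt N3321 D4452))
theorem Q2526 : ∀ i, i < 2526 → P i := stepQ 2525 Q2525 (allL N2525 (tt N2525 F14801) (tt N2525 F14802) (tt N2525 F14803) (tt N2525 F14804) (tt N1880 F14805) (tt N3321 (iv F20836)) (tt N1878 F14806) (tt N2525 F14807) (tt N3322 D4453) (tt N1877 (iv D3091)))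
theorem Q2527 : ∀ i, i < 2527 → P i := stepQ 2526 Q2526 (allL N2526 (tt N2526 F14808) (tt N2526 F14809) (tt N2526 F14810) (tt N3323 D4454) (tt N1881 F14811) (tt N2526 F14812) (tt N3322 (iv F20843)) (tt N1879 F14813) (tt N1878 (iv D3092)) (tt N2526 F14814))
theorem Q2528 : ∀ i, i < 2528 → P i := stepQ 2527 Q2527 (allL N2527 (tt N2527 F14815) (tt N2527 F14816) (tt N3324 D4455) (tt N1879 (iv D3093)) (tt N3325 D4456) (tt N2527 F14817) (tt N2527 F14818) (tt N3323 (iv F20849)) (tt N2527 F14819) (tt N2527 F14820))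
theorem Q2529 : ∀ i, i < 2529 → P i := stepQ 2528 Q2528 (allL N2528 (tt N2528 F14821) (tt N2528 F14822) (tt N2528 F14823) (tt N3326 D4457) (tt N3322 (iv F20842)) (tt N2528 F14824) (tt N1881 F14825) (tt N2528 F14826) (tt N1880 (iv D3094)) (tt N2528 F14827))
theorem Q2530 : ∀ i, i < 2530 → P i := stepQ 2529 Q2529 (allL N2529 (tt N2529 F14828) (tt N2529 F14829) (tt N3327 D4458) (tt N1881 (iv D3095)) (tt N3328 D4459) (tt N1883 F14830) (tt N3326 (iv F20867)) (tt N1882 F14831) (tt N1892 F14832) (tt N2529 F14833))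
theorem Q2531 : ∀ i, i < 2531 → P i := stepQ 2530 Q2530 (allL N2530 (tt N2530 F14834) (tt N3329 D4460) (tt N1882 (iv D3096)) (tt N2530 F14835) (tt N3330 D4461) (tt N1884 F14836) (tt N2530 F14837) (tt N3327 (iv F20874)) (tt N1894 F14838) (tt N2530 F14839))
theorem Q2532 : ∀ i, i < 2532 → P i := stepQ 2531 Q2531 (allL N2531 (tt N2531 F14840) (tt N2531 F14841) (tt N3330 (iv F20889)) (tt N3325 (iv F20860)) (tt N1882 (iv D3097)) (tt N3331 D4462) (tt N2531 F14842) (tt N3328 (iv F20879)) (tt N1895 F14843) (tt N2531 F14844))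
theorem Q2533 : ∀ i, i < 2533 → P i := stepQ 2532 Q2532 (allL N2532 (tt N2532 F14845) (tt N3332 D4463) (tt N1883 (iv D3098)) (tt N2532 F14846) (tt N3333 D4464) (tt N3327 (iv F20873)) (tt N2532 F14847) (tt N1884 F14848) (tt N1897 F14849) (tt N2532 F14850))
theorem Q2534 : ∀ i, i < 2534 → P i := stepQ 2533 Q2533 (allL N2533 (tt N2533 F14851) (tt N2533 F14852) (tt N3333 (iv F20905)) (tt N2533 F14853) (tt N1883 (iv D3099)) (tt N3334 D4465) (tt N2533 F14854) (tt N1885 F14855) (tt N1898 F14856) (tt N2533 F14857))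
theorem Q2535 : ∀ i, i < 2535 → P i := stepQ 2534 Q2534 (allL N2534 (tt N3335 D4466) (tt N1884 (iv D3100)) (tt N2534 F14858) (tt N2534 F14859) (tt N3336 D4467) (tt N3329 (iv F20884)) (tt N1886 F14860) (tt N3332 (iv F20901)) (tt N1901 F14861) (tt N2534 F14862))
theorem Q2536 : ∀ i, i < 2536 → P i := stepQ 2535 Q2535 (allL N2535 (tt N2535 F14863) (tt N3336 (iv F20922)) (tt N1885 F14864) (tt N3337 D4468) (tt N1884 (iv D3101)) (tt N3338 D4469) (tt N1887 F14865) (tt N3333 (iv F20907)) (tt N1902 F14866) (tt N2535 F14867))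
theorem Q2537 : ∀ i, i < 2537 → P i := stepQ 2536 Q2536 (allL N2536 (tt N2536 F14868) (tt N2536 F14869) (tt N3338 (iv F20933)) (tt N2536 F14870) (tt N3331 (iv F20895)) (tt N1885 (iv D3102)) (tt N3339 D4470) (tt N3334 (iv F20913)) (tt N1903 F14871) (tt N2536 F14872))
theorem Q2538 : ∀ i, i < 2538 → P i := stepQ 2537 Q2537 (allL N2537 (tt N1886 (iv D3103)) (tt N2537 F14873) (tt N2537 F14874) (tt N2537 F14875) (tt N3340 D4471) (tt N2537 F14876) (tt N3335 (iv F20919)) (tt N2537 F14877) (tt N1907 F14878) (tt N2537 F14879))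
theorem Q2539 : ∀ i, i < 2539 → P i := stepQ 2538 Q2538 (allL N2538 (tt N3340 (iv F20942)) (tt N1887 F14880) (tt N2538 F14881) (tt N3341 D4472) (tt N1886 (iv D3104)) (tt N3342 D4473) (tt N3336 (iv F20924)) (tt N2538 F14882) (tt N1908 F14883) (tt N2538 F14884))
theorem Q2540 : ∀ i, i < 2540 → P i := stepQ 2539 Q2539 (allL N2539 (tt N2539 F14885) (tt N3341 (iv F20948)) (tt N2539 F14886) (tt N1887 (iv D3105)) (tt N2539 F14887) (tt N3343 D4474) (tt N3337 (iv F20930)) (tt N2539 F14888) (tt N3344 D4475) (tt N2539 F14889))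
theorem Q2541 : ∀ i, i < 2541 → P i := stepQ 2540 Q2540 (allL N2540 (tt N2540 F14890) (tt N3342 (iv F20952)) (tt N1888 F14891) (tt N3343 (iv F20960)) (tt N2540 F14892) (tt N1887 (iv D3106)) (tt N3345 D4476) (tt N2540 F14893) (tt N1910 F14894) (tt N2540 F14895))
theorem Q2542 : ∀ i, i < 2542 → P i := stepQ 2541 Q2541 (allL N2541 (tt N2541 F14896) (tt N2541 F14897) (tt N3345 (iv F20969)) (tt N2541 F14898) (tt N2541 F14899) (tt N3339 (iv F20939)) (tt N1888 (iv D3107)) (tt N3346 D4477) (tt N1911 F14900) (tt N2541 F14901))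
theorem Q2543 : ∀ i, i < 2543 → P i := stepQ 2542 Q2542 (allL N2542 (tt N2542 F14902) (tt N2542 F14903) (tt N1971 F14904) (tt N3347 D4478) (tt N2542 F14905) (tt N2542 F14906) (tt N1891 F14907) (tt N2542 F14908) (tt N1889 (iv D3108)) (tt N1890 F14909))
theorem Q2544 : ∀ i, i < 2544 → P i := stepQ 2543 Q2543 (allL N2543 (tt N2543 F14910) (tt N2543 F14911) (tt N3348 D4479) (tt N1890 (iv D3109)) (tt N3349 D4480) (tt N2543 F14912) (tt N1892 F14913) (tt N2543 F14914) (tt N3326 (iv F20869)) (tt N3347 (iv F20986)))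
theorem Q2545 : ∀ i, i < 2545 → P i := stepQ 2544 Q2544 (allL N2544 (tt N2544 F14915) (tt N2544 F14916) (tt N3350 D4481) (tt N1891 (iv D3110)) (tt N3351 D4482) (tt N1896 F14917) (tt N3347 (iv F20983)) (tt N1893 F14918) (tt N2544 F14919) (tt N1892 F14920))
theorem Q2546 : ∀ i, i < 2546 → P i := stepQ 2545 Q2545 (allL N2545 (tt N2545 F14921) (tt N3352 D4483) (tt N1892 (iv D3111)) (tt N1976 F14922) (tt N3353 D4484) (tt N1897 F14923) (tt N3348 (iv F20990)) (tt N1894 F14924) (tt N3327 (iv F20875)) (tt N3350 (iv F21002)))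
theorem Q2547 : ∀ i, i < 2547 → P i := stepQ 2546 Q2546 (allL N2546 (tt N2546 F14925) (tt N2546 F14926) (tt N3353 (iv F21014)) (tt N2546 F14927) (tt N1892 (iv D3112)) (tt N3354 D4485) (tt N3349 (iv F20995)) (tt N1895 F14928) (tt N3328 (iv F20880)) (tt N3351 (iv F21008)))
theorem Q2548 : ∀ i, i < 2548 → P i := stepQ 2547 Q2547 (allL N2547 (tt N2547 F14929) (tt N3355 D4486) (tt N1893 (iv D3113)) (tt N1980 F14930) (tt N3356 D4487) (tt N1899 F14931) (tt N2547 F14932) (tt N3350 (iv F21000)) (tt N2547 F14933) (tt N1894 F14934))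
theorem Q2549 : ∀ i, i < 2549 → P i := stepQ 2548 Q2548 (allL N2548 (tt N2548 F14935) (tt N2548 F14936) (tt N3356 (iv F21028)) (tt N2548 F14937) (tt N1893 (iv D3114)) (tt N3357 D4488) (tt N2548 F14938) (tt N3351 (iv F21006)) (tt N2548 F14939) (tt N1895 F14940))
theorem Q2550 : ∀ i, i < 2550 → P i := stepQ 2549 Q2549 (allL N2549 (tt N3358 D4489) (tt N1894 (iv D3115)) (tt N2549 F14941) (tt N1982 F14942) (tt N3359 D4490) (tt N1901 F14943) (tt N2549 F14944) (tt N3352 (iv F21012)) (tt N3329 (iv F20886)) (tt N3355 (iv F21026)))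
theorem Q2551 : ∀ i, i < 2551 → P i := stepQ 2550 Q2550 (allL N2550 (tt N2550 F14945) (tt N3359 (iv F21043)) (tt N1895 F14946) (tt N3360 D4491) (tt N1894 (iv D3116)) (tt N3361 D4492) (tt N2550 F14947) (tt N3353 (iv F21015)) (tt N3330 (iv F20891)) (tt N3356 (iv F21031)))
theorem Q2552 : ∀ i, i < 2552 → P i := stepQ 2551 Q2551 (allL N2551 (tt N2551 F14948) (tt N2551 F14949) (tt N3361 (iv F21051)) (tt N2551 F14950) (tt N1903 F14951) (tt N1895 (iv D3117)) (tt N3362 D4493) (tt N3354 (iv F21020)) (tt N3331 (iv F20896)) (tt N3357 (iv F21037)))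
theorem Q2553 : ∀ i, i < 2553 → P i := stepQ 2552 Q2552 (allL N2552 (tt N2552 F14952) (tt N3363 D4494) (tt N1896 (iv D3118)) (tt N1986 F14953) (tt N3364 D4495) (tt N3350 (iv F20999)) (tt N2552 F14954) (tt N1899 F14955) (tt N2552 F14956) (tt N1897 F14957))
theorem Q2554 : ∀ i, i < 2554 → P i := stepQ 2553 Q2553 (allL N2553 (tt N2553 F14958) (tt N2553 F14959) (tt N3364 (iv F21065)) (tt N1914 F14960) (tt N1896 (iv D3119)) (tt N3365 D4496) (tt N2553 F14961) (tt N1900 F14962) (tt N2553 F14963) (tt N1898 F14964))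
theorem Q2555 : ∀ i, i < 2555 → P i := stepQ 2554 Q2554 (allL N2554 (tt N3366 D4497) (tt N1897 (iv D3120)) (tt N2554 F14965) (tt N1988 F14966) (tt N3367 D4498) (tt N3352 (iv F21011)) (tt N2554 F14967) (tt N1901 F14968) (tt N3332 (iv F20902)) (tt N3363 (iv F21063)))
theorem Q2556 : ∀ i, i < 2556 → P i := stepQ 2555 Q2555 (allL N2555 (tt N2555 F14969) (tt N3367 (iv F21081)) (tt N1898 F14970) (tt N3368 D4499) (tt N1897 (iv D3121)) (tt N3369 D4500) (tt N2555 F14971) (tt N1902 F14972) (tt N3333 (iv F20908)) (tt N3364 (iv F21069)))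
theorem Q2557 : ∀ i, i < 2557 → P i := stepQ 2556 Q2556 (allL N2556 (tt N2556 F14973) (tt N2556 F14974) (tt N3369 (iv F21091)) (tt N1917 F14975) (tt N3354 (iv F21019)) (tt N1898 (iv D3122)) (tt N3370 D4501) (tt N1903 F14976) (tt N3334 (iv F20914)) (tt N3365 (iv F21075)))
theorem Q2558 : ∀ i, i < 2558 → P i := stepQ 2557 Q2557 (allL N2557 (tt N2336 (iv F202000)) (tt N1899 (iv D3123)) (tt N2557 F14977) (tt N1993 F14978) (tt N3371 D4503) (tt N3355 (iv F21023)) (tt N1904 F14979) (tt N3363 (iv F21061)) (tt N2557 F14980) (tt N1901 F14981))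
theorem Q2559 : ∀ i, i < 2559 → P i := stepQ 2558 Q2558 (allL N2558 (tt N2558 F14982) (tt N3371 (iv F21103)) (tt N1900 F14983) (tt N3372 D4504) (tt N1899 (iv D3124)) (tt N3373 D4505) (tt N1905 F14984) (tt N3364 (iv F21067)) (tt N2558 F14985) (tt N1902 F14986))
theorem Q2560 : ∀ i, i < 2560 → P i := stepQ 2559 Q2559 (allL N2559 (tt N2559 F14987) (tt N2559 F14988) (tt N3373 (iv F21114)) (tt N1922 F14989) (tt N3357 (iv F21035)) (tt N1900 (iv D3125)) (tt N3374 D4506) (tt N3365 (iv F21073)) (tt N2559 F14990) (tt N1903 F14991))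
theorem Q2561 : ∀ i, i < 2561 → P i := stepQ 2560 Q2560 (allL N2560 (tt N1901 (iv D3126)) (tt N2560 F14992) (tt N2560 F14993) (tt N1996 F14994) (tt N3375 D4507) (tt N3358 (iv F21041)) (tt N1907 F14995) (tt N3366 (iv F21080)) (tt N3335 (iv F20920)) (tt N2336 (iv F202001)))
theorem Q2562 : ∀ i, i < 2562 → P i := stepQ 2561 Q2561 (allL N2561 (tt N3375 (iv F21123)) (tt N1902 F14996) (tt N2561 F14997) (tt N3376 D4508) (tt N1901 (iv D3127)) (tt N3377 D4509) (tt N1908 F14998) (tt N3367 (iv F21084)) (tt N3336 (iv F20925)) (tt N3371 (iv F21107)))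
theorem Q2563 : ∀ i, i < 2563 → P i := stepQ 2562 Q2562 (allL N2562 (tt N2562 F14999) (tt N3376 (iv F21127)) (tt N1925 F15000) (tt N1902 (iv D3128)) (tt N1998 F15001) (tt N3378 D4510) (tt N1909 F15002) (tt N3368 (iv F21089)) (tt N3379 D4511) (tt N3372 (iv F21112)))
theorem Q2564 : ∀ i, i < 2564 → P i := stepQ 2563 Q2563 (allL N2563 (tt N2563 F15003) (tt N3377 (iv F21130)) (tt N1903 F15004) (tt N3378 (iv F21134)) (tt N3361 (iv F21052)) (tt N1902 (iv D3129)) (tt N3380 D4512) (tt N3369 (iv F21092)) (tt N3338 (iv F20934)) (tt N3373 (iv F21116)))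
theorem Q2565 : ∀ i, i < 2565 → P i := stepQ 2564 Q2564 (allL N2564 (tt N2564 F15005) (tt N2564 F15006) (tt N3380 (iv F21140)) (tt N1927 F15007) (tt N3362 (iv F21056)) (tt N1911 F15008) (tt N1903 (iv D3130)) (tt N3381 D4513) (tt N3339 (iv F20940)) (tt N3374 (iv F21122)))
theorem Q2566 : ∀ i, i < 2566 → P i := stepQ 2565 Q2565 (allL N2565 (tt N2340 (iv F202819)) (tt N1905 F15016) (tt N2565 F15017) (tt N3382 D4515) (tt N1904 (iv D3132)) (tt N3383 D4516) (tt N3371 (iv F21105)) (tt N2565 F15018) (tt N2565 F15019) (tt N1908 F15020))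
theorem Q2567 : ∀ i, i < 2567 → P i := stepQ 2566 Q2566 (allL N2566 (tt N2566 F15021) (tt N3382 (iv F21152)) (tt N1933 F15022) (tt N1905 (iv D3133)) (tt N2004 F15023) (tt N3384 D4517) (tt N3372 (iv F21111)) (tt N2566 F15024) (tt N3385 D4518) (tt N1909 F15025))
theorem Q2568 : ∀ i, i < 2568 → P i := stepQ 2567 Q2567 (allL N2567 (tt N2567 F15026) (tt N3383 (iv F21156)) (tt N1906 F15027) (tt N3384 (iv F21164)) (tt N2567 F15028) (tt N1905 (iv D3134)) (tt N3386 D4519) (tt N2567 F15029) (tt N2567 F15030) (tt N1910 F15031))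
theorem Q2569 : ∀ i, i < 2569 → P i := stepQ 2568 Q2568 (allL N2568 (tt N2568 F15032) (tt N2568 F15033) (tt N3386 (iv F21173)) (tt N1935 F15034) (tt N2568 F15035) (tt N3374 (iv F21120)) (tt N1906 (iv D3135)) (tt N3387 D4520) (tt N2568 F15036) (tt N1911 F15037))
theorem Q2570 : ∀ i, i < 2570 → P i := stepQ 2569 Q2569 (allL N2569 (tt N1908 F15038) (tt N2569 F15039) (tt N2569 F15040) (tt N3388 D4521) (tt N1907 (iv D3136)) (tt N3389 D4522) (tt N3375 (iv F21126)) (tt N2569 F15041) (tt N3340 (iv F20946)) (tt N2340 (iv F202820)))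
theorem Q2571 : ∀ i, i < 2571 → P i := stepQ 2570 Q2570 (allL N2570 (tt N3388 (iv F21184)) (tt N1909 F15042) (tt N3390 D4523) (tt N1908 (iv D3137)) (tt N2008 F15043) (tt N3391 D4524) (tt N3376 (iv F21129)) (tt N2570 F15044) (tt N3392 D4525) (tt N3382 (iv F21155)))
theorem Q2572 : ∀ i, i < 2572 → P i := stepQ 2571 Q2571 (allL N2571 (tt N3389 (iv F21188)) (tt N1910 F15045) (tt N2571 F15046) (tt N3391 (iv F21198)) (tt N2571 F15047) (tt N1908 (iv D3138)) (tt N3393 D4526) (tt N2571 F15048) (tt N3342 (iv F20956)) (tt N3383 (iv F21161)))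
theorem Q2573 : ∀ i, i < 2573 → P i := stepQ 2572 Q2572 (allL N2572 (tt N2572 F15049) (tt N3391 (iv F21197)) (tt N1939 F15050) (tt N1910 F15051) (tt N3394 D4527) (tt N1909 (iv D3139)) (tt N3395 D4528) (tt N2572 F15052) (tt N3396 D4529) (tt N3384 (iv F21166)))
theorem Q2574 : ∀ i, i < 2574 → P i := stepQ 2573 Q2573 (allL N2573 (tt N2573 F15053) (tt N3392 (iv F21200)) (tt N1940 F15054) (tt N3344 (iv F20965)) (tt N2011 F15055) (tt N3396 (iv F21216)) (tt N3379 (iv F21138)) (tt N2573 F15056) (tt N1909 (iv D3140)) (tt N3397 D4530))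
theorem Q2575 : ∀ i, i < 2575 → P i := stepQ 2574 Q2574 (allL N2574 (tt N2574 F15057) (tt N3393 (iv F21203)) (tt N1911 F15058) (tt N3395 (iv F21213)) (tt N2574 F15059) (tt N3380 (iv F21141)) (tt N1910 (iv D3141)) (tt N3398 D4531) (tt N3345 (iv F20971)) (tt N3386 (iv F21176)))
theorem Q2576 : ∀ i, i < 2576 → P i := stepQ 2575 Q2575 (allL N2575 (tt N2575 F15060) (tt N2575 F15061) (tt N3398 (iv F21223)) (tt N1942 F15062) (tt N2575 F15063) (tt N3381 (iv F21145)) (tt N2575 F15064) (tt N1911 (iv D3142)) (tt N3346 (iv F20978)) (tt N3387 (iv F21183)))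
theorem Q2577 : ∀ i, i < 2577 → P i := stepQ 2576 Q2576 (allL N2576 (tt N2576 F15065) (tt N3399 D4532) (tt N1912 (iv D3143)) (tt N2576 F15066) (tt N3400 D4533) (tt N2576 F15067) (tt N2576 F15068) (tt N1918 F15069) (tt N1913 F15070) (tt N2576 F15071))
theorem Q2578 : ∀ i, i < 2578 → P i := stepQ 2577 Q2577 (allL N2577 (tt N2577 F15072) (tt N2577 F15073) (tt N3400 (iv F21234)) (tt N2577 F15074) (tt N1912 (iv D3144)) (tt N3401 D4534) (tt N2577 F15075) (tt N1919 F15076) (tt N1914 F15077) (tt N2577 F15078))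
theorem Q2579 : ∀ i, i < 2579 → P i := stepQ 2578 Q2578 (allL N2578 (tt N3402 D4535) (tt N1913 (iv D3145)) (tt N2578 F15079) (tt N2014 F15080) (tt N3403 D4536) (tt N2578 F15081) (tt N2578 F15082) (tt N1920 F15083) (tt N3399 (iv F21231)) (tt N1915 F15084))
theorem Q2580 : ∀ i, i < 2580 → P i := stepQ 2579 Q2579 (allL N2579 (tt N2579 F15085) (tt N3403 (iv F21253)) (tt N1914 F15086) (tt N3404 D4537) (tt N1913 (iv D3146)) (tt N3405 D4538) (tt N2579 F15087) (tt N1921 F15088) (tt N3400 (iv F21237)) (tt N1916 F15089))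
theorem Q2581 : ∀ i, i < 2581 → P i := stepQ 2580 Q2580 (allL N2580 (tt N2580 F15090) (tt N2580 F15091) (tt N3405 (iv F21264)) (tt N3365 (iv F21072)) (tt N2580 F15092) (tt N1914 (iv D3147)) (tt N3406 D4539) (tt N1922 F15093) (tt N3401 (iv F21244)) (tt N1917 F15094))
theorem Q2582 : ∀ i, i < 2582 → P i := stepQ 2581 Q2581 (allL N2581 (tt N1915 (iv D3148)) (tt N2581 F15095) (tt N2581 F15096) (tt N2017 F15097) (tt N3407 D4540) (tt N2581 F15098) (tt N2581 F15099) (tt N1923 F15100) (tt N2581 F15101) (tt N3402 (iv F21252)))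
theorem Q2583 : ∀ i, i < 2583 → P i := stepQ 2582 Q2582 (allL N2582 (tt N3407 (iv F21273)) (tt N1916 F15102) (tt N2582 F15103) (tt N3408 D4541) (tt N1915 (iv D3149)) (tt N3409 D4542) (tt N2582 F15104) (tt N1924 F15105) (tt N2582 F15106) (tt N3403 (iv F21257)))
theorem Q2584 : ∀ i, i < 2584 → P i := stepQ 2583 Q2583 (allL N2583 (tt N2583 F15107) (tt N3408 (iv F21279)) (tt N3368 (iv F21086)) (tt N1916 (iv D3150)) (tt N2019 F15108) (tt N3410 D4543) (tt N2583 F15109) (tt N1925 F15110) (tt N3411 D4544) (tt N3404 (iv F21262)))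
theorem Q2585 : ∀ i, i < 2585 → P i := stepQ 2584 Q2584 (allL N2584 (tt N2584 F15111) (tt N3409 (iv F21283)) (tt N1917 F15112) (tt N3410 (iv F21289)) (tt N2584 F15113) (tt N1916 (iv D3151)) (tt N3412 D4545) (tt N1926 F15114) (tt N2584 F15115) (tt N3405 (iv F21267)))
theorem Q2586 : ∀ i, i < 2586 → P i := stepQ 2585 Q2585 (allL N2585 (tt N2585 F15116) (tt N2585 F15117) (tt N3412 (iv F21297)) (tt N3370 (iv F21095)) (tt N2585 F15118) (tt N2585 F15119) (tt N1917 (iv D3152)) (tt N3413 D4546) (tt N2585 F15120) (tt N3406 (iv F21272)))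
theorem Q2587 : ∀ i, i < 2587 → P i := stepQ 2586 Q2586 (allL N2586 (tt N3414 D4547) (tt N1918 (iv D3153)) (tt N2586 F15121) (tt N2586 F15122) (tt N3415 D4548) (tt N2586 F15123) (tt N1928 F15124) (tt N3399 (iv F21230)) (tt N1920 F15125) (tt N2586 F15126))
theorem Q2588 : ∀ i, i < 2588 → P i := stepQ 2587 Q2587 (allL N2587 (tt N2587 F15127) (tt N3415 (iv F21314)) (tt N1919 F15128) (tt N3416 D4549) (tt N1918 (iv D3154)) (tt N3417 D4550) (tt N1929 F15129) (tt N3400 (iv F21236)) (tt N1921 F15130) (tt N2587 F15131))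
theorem Q2589 : ∀ i, i < 2589 → P i := stepQ 2588 Q2588 (allL N2588 (tt N2588 F15132) (tt N2588 F15133) (tt N3417 (iv F21325)) (tt N2588 F15134) (tt N2588 F15135) (tt N1919 (iv D3155)) (tt N3418 D4551) (tt N3401 (iv F21243)) (tt N1922 F15136) (tt N2588 F15137))
theorem Q2590 : ∀ i, i < 2590 → P i := stepQ 2589 Q2589 (allL N2589 (tt N1920 (iv D3156)) (tt N2589 F15138) (tt N2589 F15139) (tt N2022 F15140) (tt N3419 D4552) (tt N2589 F15141) (tt N1931 F15142) (tt N3402 (iv F21251)) (tt N3414 (iv F21312)) (tt N1923 F15143))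
theorem Q2591 : ∀ i, i < 2591 → P i := stepQ 2590 Q2590 (allL N2590 (tt N3419 (iv F21336)) (tt N1921 F15144) (tt N2590 F15145) (tt N3420 D4553) (tt N1920 (iv D3157)) (tt N3421 D4554) (tt N1932 F15146) (tt N3403 (iv F21256)) (tt N3415 (iv F21317)) (tt N1924 F15147))
theorem Q2592 : ∀ i, i < 2592 → P i := stepQ 2591 Q2591 (allL N2591 (tt N2591 F15148) (tt N3420 (iv F21341)) (tt N3372 (iv F21109)) (tt N1921 (iv D3158)) (tt N2024 F15149) (tt N3422 D4555) (tt N1933 F15150) (tt N3404 (iv F21261)) (tt N3423 D4556) (tt N1925 F15151))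
theorem Q2593 : ∀ i, i < 2593 → P i := stepQ 2592 Q2592 (allL N2592 (tt N2592 F15152) (tt N3421 (iv F21345)) (tt N1922 F15153) (tt N3422 (iv F21350)) (tt N2592 F15154) (tt N1921 (iv D3159)) (tt N3424 D4557) (tt N3405 (iv F21266)) (tt N3417 (iv F21327)) (tt N1926 F15155))
theorem Q2594 : ∀ i, i < 2594 → P i := stepQ 2593 Q2593 (allL N2593 (tt N2593 F15156) (tt N2593 F15157) (tt N3424 (iv F21356)) (tt N3374 (iv F21119)) (tt N2593 F15158) (tt N1935 F15159) (tt N1922 (iv D3160)) (tt N3425 D4558) (tt N3418 (iv F21334)) (tt N1927 F15160))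
theorem Q2595 : ∀ i, i < 2595 → P i := stepQ 2594 Q2594 (allL N2594 (tt N1924 F15161) (tt N2594 F15162) (tt N2594 F15163) (tt N3426 D4559) (tt N1923 (iv D3161)) (tt N3427 D4560) (tt N1936 F15164) (tt N3407 (iv F21277)) (tt N2594 F15165) (tt N3419 (iv F21340)))
theorem Q2596 : ∀ i, i < 2596 → P i := stepQ 2595 Q2595 (allL N2595 (tt N3426 (iv F21365)) (tt N1925 F15166) (tt N3428 D4561) (tt N1924 (iv D3162)) (tt N2028 F15167) (tt N3429 D4562) (tt N1937 F15168) (tt N3408 (iv F21282)) (tt N3430 D4563) (tt N3420 (iv F21344)))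
theorem Q2597 : ∀ i, i < 2597 → P i := stepQ 2596 Q2596 (allL N2596 (tt N3427 (iv F21369)) (tt N1926 F15169) (tt N2596 F15170) (tt N3429 (iv F21378)) (tt N2596 F15171) (tt N1924 (iv D3163)) (tt N3431 D4564) (tt N3409 (iv F21286)) (tt N2596 F15172) (tt N3421 (iv F21348)))
theorem Q2598 : ∀ i, i < 2598 → P i := stepQ 2597 Q2597 (allL N2597 (tt N2597 F15173) (tt N3429 (iv F21377)) (tt N3378 (iv F21133)) (tt N1926 F15174) (tt N3432 D4565) (tt N1925 (iv D3164)) (tt N3433 D4566) (tt N3410 (iv F21290)) (tt N3434 D4567) (tt N3422 (iv F21351)))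
theorem Q2599 : ∀ i, i < 2599 → P i := stepQ 2598 Q2598 (allL N2598 (tt N2598 F15175) (tt N3430 (iv F21379)) (tt N3379 (iv F21136)) (tt N2598 F15176) (tt N2031 F15177) (tt N3434 (iv F21396)) (tt N1940 F15178) (tt N3411 (iv F21295)) (tt N1925 (iv D3165)) (tt N3435 D4568))
theorem Q2600 : ∀ i, i < 2600 → P i := stepQ 2599 Q2599 (allL N2599 (tt N2599 F15179) (tt N3431 (iv F21383)) (tt N1927 F15180) (tt N3433 (iv F21392)) (tt N2599 F15181) (tt N1941 F15182) (tt N1926 (iv D3166)) (tt N3436 D4569) (tt N2599 F15183) (tt N3424 (iv F21359)))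
theorem Q2601 : ∀ i, i < 2601 → P i := stepQ 2600 Q2600 (allL N2600 (tt N2600 F15184) (tt N2600 F15185) (tt N3436 (iv F21402)) (tt N3381 (iv F21144)) (tt N2600 F15186) (tt N1942 F15187) (tt N3413 (iv F21305)) (tt N1927 (iv D3167)) (tt N2600 F15188) (tt N3425 (iv F21364)))
theorem Q2602 : ∀ i, i < 2602 → P i := stepQ 2601 Q2601 (allL N2601 (tt N1928 (iv D3168)) (tt N2601 F15189) (tt N2601 F15190) (tt N2601 F15191) (tt N3437 D4570) (tt N1946 F15192) (tt N3414 (iv F21311)) (tt N2601 F15193) (tt N1931 F15194) (tt N2601 F15195))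
theorem Q2603 : ∀ i, i < 2603 → P i := stepQ 2602 Q2602 (allL N2602 (tt N3437 (iv F21406)) (tt N1929 F15196) (tt N2602 F15197) (tt N3438 D4571) (tt N1928 (iv D3169)) (tt N3439 D4572) (tt N3415 (iv F21316)) (tt N2602 F15198) (tt N1932 F15199) (tt N2602 F15200))
theorem Q2604 : ∀ i, i < 2604 → P i := stepQ 2603 Q2603 (allL N2603 (tt N2603 F15201) (tt N3438 (iv F21412)) (tt N2603 F15202) (tt N1929 (iv D3170)) (tt N2603 F15203) (tt N3440 D4573) (tt N3416 (iv F21322)) (tt N2603 F15204) (tt N3441 D4574) (tt N2603 F15205))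
theorem Q2605 : ∀ i, i < 2605 → P i := stepQ 2604 Q2604 (allL N2604 (tt N2604 F15206) (tt N3439 (iv F21416)) (tt N1930 F15207) (tt N3440 (iv F21424)) (tt N1949 F15208) (tt N1929 (iv D3171)) (tt N3442 D4575) (tt N2604 F15209) (tt N1934 F15210) (tt N2604 F15211))
theorem Q2606 : ∀ i, i < 2606 → P i := stepQ 2605 Q2605 (allL N2605 (tt N2605 F15212) (tt N2605 F15213) (tt N3442 (iv F21433)) (tt N2605 F15214) (tt N1950 F15215) (tt N3418 (iv F21333)) (tt N1930 (iv D3172)) (tt N3443 D4576) (tt N1935 F15216) (tt N2605 F15217))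
theorem Q2607 : ∀ i, i < 2607 → P i := stepQ 2606 Q2606 (allL N2606 (tt N1932 F15218) (tt N2606 F15219) (tt N2606 F15220) (tt N3444 D4577) (tt N1931 (iv D3173)) (tt N3445 D4578) (tt N3419 (iv F21339)) (tt N2606 F15221) (tt N3437 (iv F21410)) (tt N1936 F15222))
theorem Q2608 : ∀ i, i < 2608 → P i := stepQ 2607 Q2607 (allL N2607 (tt N3444 (iv F21444)) (tt N1933 F15223) (tt N3446 D4579) (tt N1932 (iv D3174)) (tt N2035 F15224) (tt N3447 D4580) (tt N3420 (iv F21343)) (tt N2607 F15225) (tt N3448 D4581) (tt N1937 F15226))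
theorem Q2609 : ∀ i, i < 2609 → P i := stepQ 2608 Q2608 (allL N2608 (tt N3445 (iv F21449)) (tt N1934 F15227) (tt N2608 F15228) (tt N3447 (iv F21460)) (tt N1953 F15229) (tt N1932 (iv D3175)) (tt N3449 D4582) (tt N2608 F15230) (tt N3439 (iv F21420)) (tt N1938 F15231))
theorem Q2610 : ∀ i, i < 2610 → P i := stepQ 2609 Q2609 (allL N2609 (tt N2609 F15232) (tt N3447 (iv F21459)) (tt N3384 (iv F21163)) (tt N1934 F15233) (tt N3450 D4583) (tt N1933 (iv D3176)) (tt N3451 D4584) (tt N2609 F15234) (tt N3452 D4585) (tt N1939 F15235))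
theorem Q2611 : ∀ i, i < 2611 → P i := stepQ 2610 Q2610 (allL N2610 (tt N2610 F15236) (tt N3448 (iv F21463)) (tt N3385 (iv F21168)) (tt N3441 (iv F21429)) (tt N2038 F15237) (tt N3452 (iv F21479)) (tt N3423 (iv F21354)) (tt N2610 F15238) (tt N1933 (iv D3177)) (tt N3453 D4586))
theorem Q2612 : ∀ i, i < 2612 → P i := stepQ 2611 Q2611 (allL N2611 (tt N2611 F15239) (tt N3449 (iv F21466)) (tt N1935 F15240) (tt N3451 (iv F21476)) (tt N1956 F15241) (tt N3424 (iv F21358)) (tt N1934 (iv D3178)) (tt N3454 D4587) (tt N3442 (iv F21435)) (tt N1941 F15242))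
theorem Q2613 : ∀ i, i < 2613 → P i := stepQ 2612 Q2612 (allL N2612 (tt N2612 F15243) (tt N2612 F15244) (tt N3454 (iv F21486)) (tt N3387 (iv F21179)) (tt N1957 F15245) (tt N3425 (iv F21363)) (tt N2612 F15246) (tt N1935 (iv D3179)) (tt N3443 (iv F21442)) (tt N1942 F15247))
theorem Q2614 : ∀ i, i < 2614 → P i := stepQ 2613 Q2613 (allL N2613 (tt N1937 F15248) (tt N2613 F15249) (tt N3455 D4588) (tt N1936 (iv D3180)) (tt N2041 F15250) (tt N3456 D4589) (tt N3426 (iv F21368)) (tt N2613 F15251) (tt N3457 D4590) (tt N3444 (iv F21448)))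
theorem Q2615 : ∀ i, i < 2615 → P i := stepQ 2614 Q2614 (allL N2614 (tt N1938 F15252) (tt N2614 F15253) (tt N2614 F15254) (tt N3456 (iv F21496)) (tt N1959 F15255) (tt N1936 (iv D3181)) (tt N3458 D4591) (tt N2614 F15256) (tt N2614 F15257) (tt N3445 (iv F21454)))
theorem Q2616 : ∀ i, i < 2616 → P i := stepQ 2615 Q2615 (allL N2615 (tt N3455 (iv F21490)) (tt N3390 (iv F21193)) (tt N1937 (iv D3182)) (tt N2615 F15258) (tt N2043 F15259) (tt N3459 D4592) (tt N3428 (iv F21376)) (tt N2615 F15260) (tt N3460 D4593) (tt N3446 (iv F21458)))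
theorem Q2617 : ∀ i, i < 2617 → P i := stepQ 2616 Q2616 (allL N2616 (tt N3456 (iv F21494)) (tt N1939 F15261) (tt N3459 (iv F21508)) (tt N1938 F15262) (tt N3461 D4594) (tt N1937 (iv D3183)) (tt N3462 D4595) (tt N2616 F15263) (tt N3463 D4596) (tt N3447 (iv F21462)))
theorem Q2618 : ∀ i, i < 2618 → P i := stepQ 2617 Q2617 (allL N2617 (tt N3457 (iv F21498)) (tt N1940 F15264) (tt N3460 (iv F21511)) (tt N2617 F15265) (tt N2045 F15266) (tt N3463 (iv F21522)) (tt N3430 (iv F21382)) (tt N2617 F15267) (tt N1937 (iv D3184)) (tt N3464 D4597))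
theorem Q2619 : ∀ i, i < 2619 → P i := stepQ 2618 Q2618 (allL N2618 (tt N3458 (iv F21503)) (tt N1941 F15268) (tt N2618 F15269) (tt N3462 (iv F21519)) (tt N1963 F15270) (tt N3431 (iv F21386)) (tt N1938 (iv D3185)) (tt N3465 D4598) (tt N2618 F15271) (tt N3449 (iv F21469)))
theorem Q2620 : ∀ i, i < 2620 → P i := stepQ 2619 Q2619 (allL N2619 (tt N2619 F15272) (tt N3461 (iv F21514)) (tt N3394 (iv F21207)) (tt N1964 F15273) (tt N1939 (iv D3186)) (tt N2047 F15274) (tt N3466 D4599) (tt N2619 F15275) (tt N3467 D4600) (tt N3450 (iv F21474)))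
theorem Q2621 : ∀ i, i < 2621 → P i := stepQ 2620 Q2620 (allL N2620 (tt N2620 F15276) (tt N3462 (iv F21518)) (tt N3395 (iv F21212)) (tt N1941 F15277) (tt N3466 (iv F21535)) (tt N3433 (iv F21393)) (tt N1939 (iv D3187)) (tt N3468 D4601) (tt N3469 D4602) (tt N3451 (iv F21477)))
theorem Q2622 : ∀ i, i < 2622 → P i := stepQ 2621 Q2621 (allL N2621 (tt N2621 F15278) (tt N3463 (iv F21520)) (tt N3396 (iv F21215)) (tt N2621 F15279) (tt N3467 (iv F21537)) (tt N1940 F15280) (tt N3469 (iv F21545)) (tt N2621 F15281) (tt N1939 (iv D3188)) (tt N3470 D4603))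
theorem Q2623 : ∀ i, i < 2623 → P i := stepQ 2622 Q2622 (allL N2622 (tt N2622 F15282) (tt N3464 (iv F21524)) (tt N3397 (iv F21219)) (tt N2622 F15283) (tt N2050 F15284) (tt N3470 (iv F21548)) (tt N3435 (iv F21400)) (tt N2622 F15285) (tt N3453 (iv F21484)) (tt N1940 (iv D3189)))
theorem Q2624 : ∀ i, i < 2624 → P i := stepQ 2623 Q2623 (allL N2623 (tt N2623 F15286) (tt N3465 (iv F21528)) (tt N1942 F15287) (tt N3468 (iv F21541)) (tt N1968 F15288) (tt N3436 (iv F21404)) (tt N2623 F15289) (tt N1941 (iv D3190)) (tt N2623 F15290) (tt N3454 (iv F21489)))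
theorem Q2625 : ∀ i, i < 2625 → P i := stepQ 2624 Q2624 (allL N2624 (tt N1943 (iv D3191)) (tt N2624 F15291) (tt N2624 F15292) (tt N2624 F15293) (tt N2472 F203431) (tt N2624 F15294) (tt N2624 F15295) (tt N2624 F15296) (tt N2624 F15297) (tt N2624 F15298))
theorem Q2626 : ∀ i, i < 2626 → P i := stepQ 2625 Q2625 (allL N2625 (tt N2472 F203429) (tt N1944 F15299) (tt N2625 F15300) (tt N2464 F203430) (tt N1943 (iv D3192)) (tt N3471 D4606) (tt N2625 F15301) (tt N2625 F15302) (tt N2625 F15303) (tt N2625 F15304))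
theorem Q2627 : ∀ i, i < 2627 → P i := stepQ 2626 Q2626 (allL N2626 (tt N2626 F15305) (tt N2464 F203419) (tt N1948 F15306) (tt N1944 (iv D3193)) (tt N2626 F15307) (tt N3472 D4607) (tt N2626 F15308) (tt N2626 F15309) (tt N2462 F203420) (tt N2626 F15310))
theorem Q2628 : ∀ i, i < 2628 → P i := stepQ 2627 Q2627 (allL N2627 (tt N2627 F15311) (tt N3471 (iv F21562)) (tt N1945 F15312) (tt N3472 (iv F21570)) (tt N2627 F15313) (tt N1944 (iv D3194)) (tt N3473 D4609) (tt N2627 F15314) (tt N2627 F15315) (tt N2627 F15316))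
theorem Q2629 : ∀ i, i < 2629 → P i := stepQ 2628 Q2628 (allL N2628 (tt N2628 F15317) (tt N2628 F15318) (tt N3473 (iv F21580)) (tt N1950 F15319) (tt N2628 F15320) (tt N2628 F15321) (tt N1945 (iv D3195)) (tt N3474 D4610) (tt N2628 F15322) (tt N2628 F15323))
theorem Q2630 : ∀ i, i < 2630 → P i := stepQ 2629 Q2629 (allL N2629 (tt N1947 F15324) (tt N2629 F15325) (tt N2629 F15326) (tt N2265 F203406) (tt N1946 (iv D3196)) (tt N3475 D4612) (tt N2629 F15327) (tt N2629 F15328) (tt N1951 F15329) (tt N2629 F15330))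
theorem Q2631 : ∀ i, i < 2631 → P i := stepQ 2630 Q2630 (allL N2630 (tt N2265 F203412) (tt N1948 F15331) (tt N2262 F203413) (tt N1947 (iv D3197)) (tt N2630 F15332) (tt N3476 D4614) (tt N2630 F15333) (tt N2630 F15334) (tt N2260 F203414) (tt N2630 F15335))
theorem Q2632 : ∀ i, i < 2632 → P i := stepQ 2631 Q2631 (allL N2631 (tt N3475 (iv F21599)) (tt N1949 F15336) (tt N2631 F15337) (tt N3476 (iv F21611)) (tt N3439 (iv F21418)) (tt N1947 (iv D3198)) (tt N3477 D4616) (tt N2631 F15338) (tt N1953 F15339) (tt N2631 F15340))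
theorem Q2633 : ∀ i, i < 2633 → P i := stepQ 2632 Q2632 (allL N2632 (tt N2632 F15341) (tt N3476 (iv F21610)) (tt N3472 (iv F21569)) (tt N1949 F15342) (tt N3478 D4617) (tt N1948 (iv D3199)) (tt N3479 D4618) (tt N2632 F15343) (tt N3480 D4619) (tt N2632 F15344))
theorem Q2634 : ∀ i, i < 2634 → P i := stepQ 2633 Q2633 (allL N2633 (tt N2633 F15345) (tt N2260 F203417) (tt N2462 F203418) (tt N1955 F15346) (tt N2633 F15347) (tt N3480 (iv F21634)) (tt N2633 F15348) (tt N2633 F15349) (tt N1948 (iv D3200)) (tt N2274 (iv F203754)))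
theorem Q2635 : ∀ i, i < 2635 → P i := stepQ 2634 Q2634 (allL N2634 (tt N2634 F15350) (tt N3477 (iv F21619)) (tt N1950 F15351) (tt N3479 (iv F21629)) (tt N3442 (iv F21434)) (tt N2634 F15352) (tt N1949 (iv D3201)) (tt N3481 D4621) (tt N1956 F15353) (tt N2634 F15354))
theorem Q2636 : ∀ i, i < 2636 → P i := stepQ 2635 Q2635 (allL N2635 (tt N2635 F15355) (tt N2635 F15356) (tt N3481 (iv F21643)) (tt N3474 (iv F21587)) (tt N3443 (iv F21440)) (tt N2635 F15357) (tt N2635 F15358) (tt N1950 (iv D3202)) (tt N1957 F15359) (tt N2635 F15360))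
theorem Q2637 : ∀ i, i < 2637 → P i := stepQ 2636 Q2636 (allL N2636 (tt N1952 F15361) (tt N2636 F15362) (tt N2056 F203404) (tt N1951 (iv D3203)) (tt N2052 F15363) (tt N3482 D4623) (tt N2636 F15364) (tt N2636 F15365) (tt N2054 F203405) (tt N1958 F15366))
theorem Q2638 : ∀ i, i < 2638 → P i := stepQ 2637 Q2637 (allL N2637 (tt N1953 F15367) (tt N2637 F15368) (tt N2637 F15369) (tt N3482 (iv F21656)) (tt N3445 (iv F21452)) (tt N1951 (iv D3204)) (tt N3483 D4625) (tt N2637 F15370) (tt N3475 (iv F21603)) (tt N1959 F15371))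
theorem Q2639 : ∀ i, i < 2639 → P i := stepQ 2638 Q2638 (allL N2638 (tt N2056 F203410) (tt N2638 F15372) (tt N1952 (iv D3205)) (tt N2638 F15373) (tt N2054 F15374) (tt N3484 D4626) (tt N2638 F15375) (tt N2638 F15376) (tt N2052 F203411) (tt N1960 F15377))
theorem Q2640 : ∀ i, i < 2640 → P i := stepQ 2639 Q2639 (allL N2639 (tt N3482 (iv F21654)) (tt N1954 F15378) (tt N3484 (iv F21670)) (tt N1953 F15379) (tt N3485 D4628) (tt N1952 (iv D3206)) (tt N3486 D4629) (tt N2639 F15380) (tt N3487 D4630) (tt N1961 F15381))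
theorem Q2641 : ∀ i, i < 2641 → P i := stepQ 2640 Q2640 (allL N2640 (tt N2054 F203407) (tt N1955 F15382) (tt N2052 F203408) (tt N2260 F203409) (tt N2056 F15383) (tt N3487 (iv F21688)) (tt N2640 F15384) (tt N2640 F15385) (tt N1952 (iv D3207)) (tt N2063 (iv F203756)))
theorem Q2642 : ∀ i, i < 2642 → P i := stepQ 2641 Q2641 (allL N2641 (tt N3483 (iv F21664)) (tt N1956 F15386) (tt N2641 F15387) (tt N3486 (iv F21684)) (tt N3449 (iv F21468)) (tt N2641 F15388) (tt N1953 (iv D3208)) (tt N3488 D4632) (tt N3477 (iv F21622)) (tt N1963 F15389))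
theorem Q2643 : ∀ i, i < 2643 → P i := stepQ 2642 Q2642 (allL N2642 (tt N2642 F15390) (tt N3485 (iv F21679)) (tt N2642 F15391) (tt N3450 (iv F21471)) (tt N1954 (iv D3209)) (tt N2058 F15392) (tt N3489 D4633) (tt N2642 F15393) (tt N3490 D4634) (tt N1964 F15394))
theorem Q2644 : ∀ i, i < 2644 → P i := stepQ 2643 Q2643 (allL N2643 (tt N2643 F15395) (tt N3486 (iv F21683)) (tt N2643 F15396) (tt N1956 F15397) (tt N3489 (iv F21702)) (tt N2643 F15398) (tt N1954 (iv D3210)) (tt N3491 D4635) (tt N3492 D4636) (tt N1965 F15399))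
theorem Q2645 : ∀ i, i < 2645 → P i := stepQ 2644 Q2644 (allL N2644 (tt N2644 F15400) (tt N3487 (iv F21687)) (tt N2644 F15401) (tt N3480 (iv F21633)) (tt N3490 (iv F21706)) (tt N1955 F15402) (tt N3492 (iv F21718)) (tt N2644 F15403) (tt N1954 (iv D3211)) (tt N3493 D4637))
theorem Q2646 : ∀ i, i < 2646 → P i := stepQ 2645 Q2645 (allL N2645 (tt N2645 F15404) (tt N2063 (iv F203755)) (tt N2645 F15405) (tt N2274 (iv F203753)) (tt N2061 F15406) (tt N3493 (iv F21721)) (tt N2645 F15407) (tt N2645 F15408) (tt N1967 F15409) (tt N1955 (iv D3212)))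
theorem Q2647 : ∀ i, i < 2647 → P i := stepQ 2646 Q2646 (allL N2646 (tt N2646 F15410) (tt N3488 (iv F21695)) (tt N1957 F15411) (tt N3491 (iv F21711)) (tt N3454 (iv F21487)) (tt N2646 F15412) (tt N2646 F15413) (tt N1956 (iv D3213)) (tt N3481 (iv F21646)) (tt N1968 F15414))
theorem Q2648 : ∀ i, i < 2648 → P i := stepQ 2647 Q2647 (allL N2647 (tt N1960 F15415) (tt N2061 F203415) (tt N1958 (iv D3214)) (tt N2647 F15416) (tt N2063 F15417) (tt N3494 D4639) (tt N2647 F15418) (tt N2647 F15419) (tt N2072 (iv F203783)) (tt N2056 F203416))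
theorem Q2649 : ∀ i, i < 2649 → P i := stepQ 2648 Q2648 (allL N2648 (tt N1961 F15420) (tt N2648 F15421) (tt N3494 (iv F21731)) (tt N1959 F15422) (tt N3495 D4641) (tt N1958 (iv D3215)) (tt N3496 D4642) (tt N2648 F15423) (tt N3497 D4643) (tt N3482 (iv F21658)))
theorem Q2650 : ∀ i, i < 2650 → P i := stepQ 2649 Q2649 (allL N2649 (tt N1962 F15424) (tt N2649 F15425) (tt N2072 F204026) (tt N2649 F15426) (tt N2065 F15427) (tt N3497 (iv F21750)) (tt N2649 F15428) (tt N2649 F15429) (tt N1958 (iv D3216)) (tt N2068 F204027))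
theorem Q2651 : ∀ i, i < 2651 → P i := stepQ 2650 Q2650 (allL N2650 (tt N1963 F15430) (tt N2650 F15431) (tt N2650 F15432) (tt N3496 (iv F21745)) (tt N3458 (iv F21506)) (tt N2650 F15433) (tt N1959 (iv D3217)) (tt N3498 D4645) (tt N2650 F15434) (tt N3483 (iv F21668)))
theorem Q2652 : ∀ i, i < 2652 → P i := stepQ 2651 Q2651 (allL N2651 (tt N3494 (iv F21730)) (tt N2651 F15435) (tt N1961 F15436) (tt N2651 F15437) (tt N3499 D4646) (tt N1960 (iv D3218)) (tt N3500 D4647) (tt N2651 F15438) (tt N3501 D4648) (tt N3484 (iv F21673)))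
theorem Q2653 : ∀ i, i < 2653 → P i := stepQ 2652 Q2652 (allL N2652 (tt N2072 F204028) (tt N2652 F15439) (tt N1962 F15440) (tt N2116 (iv F204263)) (tt N2068 F15441) (tt N3501 (iv F21774)) (tt N2652 F15442) (tt N2652 F15443) (tt N1960 (iv D3219)) (tt N2065 F204029))
theorem Q2654 : ∀ i, i < 2654 → P i := stepQ 2653 Q2653 (allL N2653 (tt N3495 (iv F21739)) (tt N1964 F15444) (tt N3499 (iv F21765)) (tt N3461 (iv F21515)) (tt N1961 (iv D3220)) (tt N2069 F15445) (tt N3502 D4651) (tt N2653 F15446) (tt N3503 D4652) (tt N3485 (iv F21682)))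
theorem Q2655 : ∀ i, i < 2655 → P i := stepQ 2654 Q2654 (allL N2654 (tt N3496 (iv F21743)) (tt N1965 F15447) (tt N3500 (iv F21769)) (tt N1963 F15448) (tt N3502 (iv F21788)) (tt N2654 F15449) (tt N1961 (iv D3221)) (tt N3504 D4653) (tt N3505 D4654) (tt N3486 (iv F21686)))
theorem Q2656 : ∀ i, i < 2656 → P i := stepQ 2655 Q2655 (allL N2655 (tt N3497 (iv F21747)) (tt N1966 F15450) (tt N3501 (iv F21773)) (tt N2655 F15451) (tt N3503 (iv F21790)) (tt N1962 F15452) (tt N3505 (iv F21800)) (tt N2655 F15453) (tt N1961 (iv D3222)) (tt N3506 D4655))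
theorem Q2657 : ∀ i, i < 2657 → P i := stepQ 2656 Q2656 (allL N2656 (tt N2068 F204023) (tt N1967 F15454) (tt N2065 F204024) (tt N2656 F15455) (tt N2072 F15456) (tt N3506 (iv F21803)) (tt N2656 F15457) (tt N2656 F15458) (tt N2063 F204025) (tt N1962 (iv D3223)))
theorem Q2658 : ∀ i, i < 2658 → P i := stepQ 2657 Q2657 (allL N2657 (tt N3498 (iv F21758)) (tt N1968 F15459) (tt N2657 F15460) (tt N3504 (iv F21794)) (tt N3465 (iv F21530)) (tt N2657 F15461) (tt N2657 F15462) (tt N1963 (iv D3224)) (tt N2657 F15463) (tt N3488 (iv F21699)))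
theorem Q2659 : ∀ i, i < 2659 → P i := stepQ 2658 Q2658 (allL N2658 (tt N2658 F15464) (tt N3502 (iv F21787)) (tt N2658 F15465) (tt N3466 (iv F21534)) (tt N1965 F15466) (tt N3507 D4656) (tt N1964 (iv D3225)) (tt N3508 D4657) (tt N3509 D4658) (tt N3489 (iv F21703)))
theorem Q2660 : ∀ i, i < 2660 → P i := stepQ 2659 Q2659 (allL N2659 (tt N2659 F15467) (tt N3503 (iv F21789)) (tt N2659 F15468) (tt N3510 D4659) (tt N1966 F15469) (tt N2075 F15470) (tt N3509 (iv F21816)) (tt N2659 F15471) (tt N1964 (iv D3226)) (tt N3511 D4660))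
theorem Q2661 : ∀ i, i < 2661 → P i := stepQ 2660 Q2660 (allL N2660 (tt N2660 F15472) (tt N3504 (iv F21793)) (tt N2660 F15473) (tt N1968 F15474) (tt N3508 (iv F21811)) (tt N2660 F15475) (tt N2660 F15476) (tt N1965 (iv D3227)) (tt N3512 D4661) (tt N3491 (iv F21714)))
theorem Q2662 : ∀ i, i < 2662 → P i := stepQ 2661 Q2661 (allL N2661 (tt N2661 F15477) (tt N3505 (iv F21797)) (tt N2661 F15478) (tt N2661 F15479) (tt N3509 (iv F21815)) (tt N2661 F15480) (tt N1966 F15481) (tt N3512 (iv F21831)) (tt N1965 (iv D3228)) (tt N3513 D4662))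
theorem Q2663 : ∀ i, i < 2663 → P i := stepQ 2662 Q2662 (allL N2662 (tt N2662 F15482) (tt N3506 (iv F21801)) (tt N2662 F15483) (tt N2662 F15484) (tt N3511 (iv F21823)) (tt N1967 F15485) (tt N3513 (iv F21836)) (tt N2662 F15486) (tt N3493 (iv F21723)) (tt N1966 (iv D3229)))
theorem Q2664 : ∀ i, i < 2664 → P i := stepQ 2663 Q2663 (allL N2663 (tt N2663 F15487) (tt N2140 F15488) (tt N2663 F15489) (tt N2663 F15490) (tt N2663 F15491) (tt N1969 (iv D3230)) (tt N2663 F15492) (tt N2663 F15493) (tt N2663 F15494) (tt N3514 D4663))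
theorem Q2665 : ∀ i, i < 2665 → P i := stepQ 2664 Q2664 (allL N2664 (tt N2664 F15495) (tt N2141 F15496) (tt N2664 F15497) (tt N2664 F15498) (tt N1970 F15499) (tt N3514 (iv F21842)) (tt N1973 F15500) (tt N2664 F15501) (tt N3515 D4664) (tt N1969 (iv D3231)))
theorem Q2666 : ∀ i, i < 2666 → P i := stepQ 2665 Q2665 (allL N2665 (tt N2665 F15502) (tt N2142 F15503) (tt N2665 F15504) (tt N3516 D4665) (tt N3515 (iv F21848)) (tt N2665 F15505) (tt N1974 F15506) (tt N2665 F15507) (tt N1970 (iv D3232)) (tt N2665 F15508))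
theorem Q2667 : ∀ i, i < 2667 → P i := stepQ 2666 Q2666 (allL N2666 (tt N2666 F15509) (tt N2143 F15510) (tt N3517 D4666) (tt N1971 (iv D3233)) (tt N3518 D4667) (tt N2666 F15511) (tt N1975 F15512) (tt N2666 F15513) (tt N3516 (iv F21857)) (tt N1972 F15514))
theorem Q2668 : ∀ i, i < 2668 → P i := stepQ 2667 Q2667 (allL N2667 (tt N2667 F15515) (tt N3519 D4668) (tt N1972 (iv D3234)) (tt N3348 (iv F20988)) (tt N3520 D4669) (tt N2667 F15516) (tt N1976 F15517) (tt N2667 F15518) (tt N2667 F15519) (tt N3517 (iv F21863)))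
theorem Q2669 : ∀ i, i < 2669 → P i := stepQ 2668 Q2668 (allL N2668 (tt N2668 F15520) (tt N2145 F15521) (tt N3520 (iv F21876)) (tt N2668 F15522) (tt N1972 (iv D3235)) (tt N3521 D4670) (tt N1977 F15523) (tt N2668 F15524) (tt N2668 F15525) (tt N3518 (iv F21869)))
theorem Q2670 : ∀ i, i < 2670 → P i := stepQ 2669 Q2669 (allL N2669 (tt N2669 F15526) (tt N2148 F15527) (tt N2669 F15528) (tt N3522 D4671) (tt N1974 F15529) (tt N2669 F15530) (tt N3515 (iv F21849)) (tt N1978 F15531) (tt N1973 (iv D3236)) (tt N2669 F15532))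
theorem Q2671 : ∀ i, i < 2671 → P i := stepQ 2670 Q2670 (allL N2670 (tt N2670 F15533) (tt N2149 F15534) (tt N3523 D4672) (tt N1974 (iv D3237)) (tt N3524 D4673) (tt N1985 F15535) (tt N3516 (iv F21855)) (tt N1979 F15536) (tt N1975 F15537) (tt N2670 F15538))
theorem Q2672 : ∀ i, i < 2672 → P i := stepQ 2671 Q2671 (allL N2671 (tt N2671 F15539) (tt N3525 D4674) (tt N1975 (iv D3238)) (tt N3350 (iv F20998)) (tt N3526 D4675) (tt N1986 F15540) (tt N3517 (iv F21861)) (tt N1980 F15541) (tt N3523 (iv F21896)) (tt N1976 F15542))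
theorem Q2673 : ∀ i, i < 2673 → P i := stepQ 2672 Q2672 (allL N2672 (tt N2672 F15543) (tt N2151 F15544) (tt N3526 (iv F21908)) (tt N2672 F15545) (tt N1975 (iv D3239)) (tt N3527 D4676) (tt N3518 (iv F21867)) (tt N1981 F15546) (tt N3524 (iv F21901)) (tt N1977 F15547))
theorem Q2674 : ∀ i, i < 2674 → P i := stepQ 2673 Q2673 (allL N2673 (tt N3528 D4677) (tt N1976 (iv D3240)) (tt N2152 F15548) (tt N3352 (iv F21010)) (tt N3529 D4678) (tt N1988 F15549) (tt N3519 (iv F21872)) (tt N1982 F15550) (tt N2673 F15551) (tt N3525 (iv F21906)))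
theorem Q2675 : ∀ i, i < 2675 → P i := stepQ 2674 Q2674 (allL N2674 (tt N2674 F15552) (tt N3529 (iv F21922)) (tt N1977 F15553) (tt N3530 D4679) (tt N1976 (iv D3241)) (tt N3531 D4680) (tt N3520 (iv F21877)) (tt N1983 F15554) (tt N2674 F15555) (tt N3526 (iv F21910)))
theorem Q2676 : ∀ i, i < 2676 → P i := stepQ 2675 Q2675 (allL N2675 (tt N2675 F15556) (tt N2154 F15557) (tt N3531 (iv F21930)) (tt N2675 F15558) (tt N1990 F15559) (tt N1977 (iv D3242)) (tt N3532 D4681) (tt N1984 F15560) (tt N2675 F15561) (tt N3527 (iv F21916)))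
theorem Q2677 : ∀ i, i < 2677 → P i := stepQ 2676 Q2676 (allL N2676 (tt N2676 F15562) (tt N2157 F15563) (tt N3533 D4682) (tt N1978 (iv D3243)) (tt N3534 D4683) (tt N2676 F15564) (tt N2676 F15565) (tt N3522 (iv F21889)) (tt N2676 F15566) (tt N2676 F15567))
theorem Q2678 : ∀ i, i < 2678 → P i := stepQ 2677 Q2677 (allL N2677 (tt N2677 F15568) (tt N2332 (iv F202004)) (tt N1979 (iv D3244)) (tt N2677 F15569) (tt N3535 D4685) (tt N1991 F15570) (tt N2677 F15571) (tt N3523 (iv F21895)) (tt N1980 F15572) (tt N2677 F15573))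
theorem Q2679 : ∀ i, i < 2679 → P i := stepQ 2678 Q2678 (allL N2678 (tt N2678 F15574) (tt N2158 F15575) (tt N3535 (iv F21958)) (tt N3534 (iv F21947)) (tt N1979 (iv D3245)) (tt N3536 D4686) (tt N2678 F15576) (tt N3524 (iv F21900)) (tt N1981 F15577) (tt N2678 F15578))
theorem Q2680 : ∀ i, i < 2680 → P i := stepQ 2679 Q2679 (allL N2679 (tt N2335 (iv F202002)) (tt N1980 (iv D3246)) (tt N2159 F15579) (tt N3355 (iv F21022)) (tt N3537 D4688) (tt N1993 F15580) (tt N2679 F15581) (tt N3525 (iv F21905)) (tt N2332 (iv F202005)) (tt N1982 F15582))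
theorem Q2681 : ∀ i, i < 2681 → P i := stepQ 2680 Q2680 (allL N2680 (tt N2680 F15583) (tt N3537 (iv F21972)) (tt N1981 F15584) (tt N3538 D4689) (tt N1980 (iv D3247)) (tt N3539 D4690) (tt N2680 F15585) (tt N3526 (iv F21909)) (tt N3535 (iv F21960)) (tt N1983 F15586))
theorem Q2682 : ∀ i, i < 2682 → P i := stepQ 2681 Q2681 (allL N2681 (tt N2681 F15587) (tt N2161 F15588) (tt N3539 (iv F21981)) (tt N2681 F15589) (tt N1995 F15590) (tt N1981 (iv D3248)) (tt N3540 D4691) (tt N3527 (iv F21915)) (tt N3536 (iv F21965)) (tt N1984 F15591))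
theorem Q2683 : ∀ i, i < 2683 → P i := stepQ 2682 Q2682 (allL N2682 (tt N1982 (iv D3249)) (tt N2682 F15592) (tt N2162 F15593) (tt N3358 (iv F21040)) (tt N3541 D4692) (tt N1996 F15594) (tt N2682 F15595) (tt N3528 (iv F21920)) (tt N2682 F15596) (tt N2335 (iv F202003)))
theorem Q2684 : ∀ i, i < 2684 → P i := stepQ 2683 Q2683 (allL N2683 (tt N3541 (iv F21990)) (tt N1983 F15597) (tt N2163 F15598) (tt N3542 D4693) (tt N1982 (iv D3250)) (tt N3543 D4694) (tt N2683 F15599) (tt N3529 (iv F21924)) (tt N2683 F15600) (tt N3537 (iv F21975)))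
theorem Q2685 : ∀ i, i < 2685 → P i := stepQ 2684 Q2684 (allL N2684 (tt N2684 F15601) (tt N3542 (iv F21995)) (tt N2684 F15602) (tt N1983 (iv D3251)) (tt N3360 (iv F21048)) (tt N3544 D4695) (tt N2684 F15603) (tt N3530 (iv F21928)) (tt N3545 D4696) (tt N3538 (iv F21979)))
theorem Q2686 : ∀ i, i < 2686 → P i := stepQ 2685 Q2685 (allL N2685 (tt N2685 F15604) (tt N3543 (iv F21997)) (tt N1984 F15605) (tt N3544 (iv F22003)) (tt N1999 F15606) (tt N1983 (iv D3252)) (tt N3546 D4697) (tt N3531 (iv F21932)) (tt N2685 F15607) (tt N3539 (iv F21983)))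
theorem Q2687 : ∀ i, i < 2687 → P i := stepQ 2686 Q2686 (allL N2686 (tt N2686 F15608) (tt N2166 F15609) (tt N3546 (iv F22009)) (tt N2686 F15610) (tt N2000 F15611) (tt N2686 F15612) (tt N1984 (iv D3253)) (tt N3547 D4698) (tt N2686 F15613) (tt N3540 (iv F21989)))
theorem Q2688 : ∀ i, i < 2688 → P i := stepQ 2687 Q2687 (allL N2687 (tt N2687 F15614) (tt N2320 (iv F201265)) (tt N1985 (iv D3254)) (tt N2687 F15615) (tt N3548 D4700) (tt N3523 (iv F21894)) (tt N2687 F15616) (tt N1991 F15617) (tt N1986 F15618) (tt N2687 F15619))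
theorem Q2689 : ∀ i, i < 2689 → P i := stepQ 2688 Q2688 (allL N2688 (tt N2688 F15620) (tt N2167 F15621) (tt N3548 (iv F22026)) (tt N2688 F15622) (tt N1985 (iv D3255)) (tt N3549 D4701) (tt N2688 F15623) (tt N1992 F15624) (tt N1987 F15625) (tt N2688 F15626))
theorem Q2690 : ∀ i, i < 2690 → P i := stepQ 2689 Q2689 (allL N2689 (tt N2324 (iv F201256)) (tt N1986 (iv D3256)) (tt N2168 F15627) (tt N3363 (iv F21059)) (tt N3550 D4703) (tt N3525 (iv F21904)) (tt N2689 F15628) (tt N1993 F15629) (tt N2320 (iv F201266)) (tt N1988 F15630))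
theorem Q2691 : ∀ i, i < 2691 → P i := stepQ 2690 Q2690 (allL N2690 (tt N2690 F15631) (tt N3550 (iv F22042)) (tt N1987 F15632) (tt N3551 D4704) (tt N1986 (iv D3257)) (tt N3552 D4705) (tt N2690 F15633) (tt N1994 F15634) (tt N3548 (iv F22029)) (tt N1989 F15635))
theorem Q2692 : ∀ i, i < 2692 → P i := stepQ 2691 Q2691 (allL N2691 (tt N2691 F15636) (tt N2170 F15637) (tt N3552 (iv F22053)) (tt N2016 F15638) (tt N3527 (iv F21914)) (tt N1987 (iv D3258)) (tt N3553 D4706) (tt N1995 F15639) (tt N3549 (iv F22035)) (tt N1990 F15640))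
theorem Q2693 : ∀ i, i < 2693 → P i := stepQ 2692 Q2692 (allL N2692 (tt N1988 (iv D3259)) (tt N2692 F15641) (tt N2171 F15642) (tt N3366 (iv F21078)) (tt N3554 D4707) (tt N3528 (iv F21919)) (tt N2692 F15643) (tt N1996 F15644) (tt N2692 F15645) (tt N2324 (iv F201257)))
theorem Q2694 : ∀ i, i < 2694 → P i := stepQ 2693 Q2693 (allL N2693 (tt N3554 (iv F22061)) (tt N1989 F15646) (tt N2172 F15647) (tt N3555 D4708) (tt N1988 (iv D3260)) (tt N3556 D4709) (tt N2693 F15648) (tt N1997 F15649) (tt N2693 F15650) (tt N3550 (iv F22046)))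
theorem Q2695 : ∀ i, i < 2695 → P i := stepQ 2694 Q2694 (allL N2694 (tt N2694 F15651) (tt N3555 (iv F22067)) (tt N2019 F15652) (tt N1989 (iv D3261)) (tt N3368 (iv F21087)) (tt N3557 D4710) (tt N2694 F15653) (tt N1998 F15654) (tt N3558 D4711) (tt N3551 (iv F22051)))
theorem Q2696 : ∀ i, i < 2696 → P i := stepQ 2695 Q2695 (allL N2695 (tt N2695 F15655) (tt N3556 (iv F22070)) (tt N1990 F15656) (tt N3557 (iv F22076)) (tt N3531 (iv F21931)) (tt N1989 (iv D3262)) (tt N3559 D4712) (tt N1999 F15657) (tt N2695 F15658) (tt N3552 (iv F22055)))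
theorem Q2697 : ∀ i, i < 2697 → P i := stepQ 2696 Q2696 (allL N2696 (tt N2696 F15659) (tt N2175 F15660) (tt N3559 (iv F22084)) (tt N2021 F15661) (tt N3532 (iv F21937)) (tt N2696 F15662) (tt N1990 (iv D3263)) (tt N3560 D4713) (tt N2696 F15663) (tt N3553 (iv F22060)))
theorem Q2698 : ∀ i, i < 2698 → P i := stepQ 2697 Q2697 (allL N2697 (tt N2697 F15669) (tt N2296 (iv F201142)) (tt N1992 F15670) (tt N3561 D4716) (tt N1991 (iv D3265)) (tt N3562 D4717) (tt N2001 F15671) (tt N3548 (iv F22028)) (tt N1994 F15672) (tt N2697 F15673))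
theorem Q2699 : ∀ i, i < 2699 → P i := stepQ 2698 Q2698 (allL N2698 (tt N2698 F15674) (tt N2176 F15675) (tt N3562 (iv F22110)) (tt N2698 F15676) (tt N3536 (iv F21964)) (tt N1992 (iv D3266)) (tt N3563 D4718) (tt N3549 (iv F22034)) (tt N1995 F15677) (tt N2698 F15678))
theorem Q2700 : ∀ i, i < 2700 → P i := stepQ 2699 Q2699 (allL N2699 (tt N2300 (iv F201130)) (tt N1994 F15683) (tt N2177 F15684) (tt N3564 D4720) (tt N1993 (iv D3268)) (tt N3565 D4721) (tt N2003 F15685) (tt N3550 (iv F22045)) (tt N2296 (iv F201143)) (tt N1997 F15686))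
theorem Q2701 : ∀ i, i < 2701 → P i := stepQ 2700 Q2700 (allL N2700 (tt N2700 F15687) (tt N3564 (iv F22124)) (tt N2024 F15688) (tt N1994 (iv D3269)) (tt N3372 (iv F21110)) (tt N3566 D4722) (tt N2004 F15689) (tt N3551 (iv F22050)) (tt N3567 D4723) (tt N1998 F15690))
theorem Q2702 : ∀ i, i < 2702 → P i := stepQ 2701 Q2701 (allL N2701 (tt N2701 F15691) (tt N3565 (iv F22127)) (tt N1995 F15692) (tt N3566 (iv F22132)) (tt N3539 (iv F21982)) (tt N1994 (iv D3270)) (tt N3568 D4724) (tt N3552 (iv F22054)) (tt N3562 (iv F22111)) (tt N1999 F15693))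
theorem Q2703 : ∀ i, i < 2703 → P i := stepQ 2702 Q2702 (allL N2702 (tt N2702 F15694) (tt N2180 F15695) (tt N3568 (iv F22138)) (tt N2026 F15696) (tt N3540 (iv F21987)) (tt N2006 F15697) (tt N1995 (iv D3271)) (tt N3569 D4725) (tt N3563 (iv F22117)) (tt N2000 F15698))
theorem Q2704 : ∀ i, i < 2704 → P i := stepQ 2703 Q2703 (allL N2703 (tt N1997 F15699) (tt N2703 F15700) (tt N2181 F15701) (tt N3570 D4726) (tt N1996 (iv D3272)) (tt N3571 D4727) (tt N2007 F15702) (tt N3554 (iv F22065)) (tt N2703 F15703) (tt N2300 (iv F201131)))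
theorem Q2705 : ∀ i, i < 2705 → P i := stepQ 2704 Q2704 (allL N2704 (tt N3570 (iv F22146)) (tt N1998 F15704) (tt N3572 D4728) (tt N1997 (iv D3273)) (tt N3376 (iv F21128)) (tt N3573 D4729) (tt N2008 F15705) (tt N3555 (iv F22069)) (tt N3574 D4730) (tt N3564 (iv F22126)))
theorem Q2706 : ∀ i, i < 2706 → P i := stepQ 2705 Q2705 (allL N2705 (tt N3571 (iv F22149)) (tt N1999 F15706) (tt N2183 F15707) (tt N3573 (iv F22157)) (tt N3543 (iv F21999)) (tt N1997 (iv D3274)) (tt N3575 D4731) (tt N3556 (iv F22072)) (tt N2705 F15708) (tt N3565 (iv F22129)))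
theorem Q2707 : ∀ i, i < 2707 → P i := stepQ 2706 Q2706 (allL N2706 (tt N2706 F15709) (tt N3573 (iv F22156)) (tt N2030 F15710) (tt N1999 F15711) (tt N3576 D4732) (tt N1998 (iv D3275)) (tt N3577 D4733) (tt N3557 (iv F22077)) (tt N3578 D4734) (tt N3566 (iv F22133)))
theorem Q2708 : ∀ i, i < 2708 → P i := stepQ 2707 Q2707 (allL N2707 (tt N2707 F15712) (tt N3574 (iv F22158)) (tt N2031 F15713) (tt N2707 F15714) (tt N3379 (iv F21137)) (tt N3578 (iv F22174)) (tt N2011 F15715) (tt N3558 (iv F22082)) (tt N1998 (iv D3276)) (tt N3579 D4735))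
theorem Q2709 : ∀ i, i < 2709 → P i := stepQ 2708 Q2708 (allL N2708 (tt N2708 F15716) (tt N3575 (iv F22161)) (tt N2000 F15717) (tt N3577 (iv F22169)) (tt N3546 (iv F22010)) (tt N2012 F15718) (tt N1999 (iv D3277)) (tt N3580 D4736) (tt N2708 F15719) (tt N3568 (iv F22140)))
theorem Q2710 : ∀ i, i < 2710 → P i := stepQ 2709 Q2709 (allL N2709 (tt N2709 F15720) (tt N2187 F15721) (tt N3580 (iv F22180)) (tt N2033 F15722) (tt N3547 (iv F22016)) (tt N2013 F15723) (tt N3560 (iv F22091)) (tt N2000 (iv D3278)) (tt N2709 F15724) (tt N3569 (iv F22145)))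
theorem Q2711 : ∀ i, i < 2711 → P i := stepQ 2710 Q2710 (allL N2710 (tt N2710 F15737) (tt N2097 (iv F201963)) (tt N2710 F15738) (tt N2001 (iv D3281)) (tt N2710 F15739) (tt N3581 D4740) (tt N3561 (iv F22107)) (tt N2710 F15740) (tt N3582 D4741) (tt N2710 F15741))
theorem Q2712 : ∀ i, i < 2712 → P i := stepQ 2711 Q2711 (allL N2711 (tt N2711 F15742) (tt N2310 (iv F201961)) (tt N2002 F15743) (tt N3581 (iv F22201)) (tt N2711 F15744) (tt N2001 (iv D3282)) (tt N3583 D4742) (tt N2711 F15745) (tt N2005 F15746) (tt N2711 F15747))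
theorem Q2713 : ∀ i, i < 2713 → P i := stepQ 2712 Q2712 (allL N2712 (tt N2712 F15748) (tt N2188 F15749) (tt N3583 (iv F22210)) (tt N2712 F15750) (tt N2712 F15751) (tt N3563 (iv F22116)) (tt N2002 (iv D3283)) (tt N3584 D4743) (tt N2006 F15752) (tt N2712 F15753))
theorem Q2714 : ∀ i, i < 2714 → P i := stepQ 2713 Q2713 (allL N2713 (tt N2315 (iv F201947)) (tt N2004 F15759) (tt N3585 D4746) (tt N2003 (iv D3285)) (tt N3382 (iv F21153)) (tt N3586 D4747) (tt N3564 (iv F22125)) (tt N2713 F15760) (tt N3587 D4748) (tt N2008 F15761))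
theorem Q2715 : ∀ i, i < 2715 → P i := stepQ 2714 Q2714 (allL N2714 (tt N2314 (iv F201957)) (tt N2005 F15762) (tt N2190 F15763) (tt N3586 (iv F22236)) (tt N2714 F15764) (tt N2003 (iv D3286)) (tt N3588 D4749) (tt N2714 F15765) (tt N2310 (iv F201962)) (tt N2009 F15766))
theorem Q2716 : ∀ i, i < 2716 → P i := stepQ 2715 Q2715 (allL N2715 (tt N2715 F15767) (tt N3586 (iv F22235)) (tt N2037 F15768) (tt N2005 F15769) (tt N3589 D4750) (tt N2004 (iv D3287)) (tt N3590 D4751) (tt N2715 F15770) (tt N3591 D4752) (tt N2010 F15771))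
theorem Q2717 : ∀ i, i < 2717 → P i := stepQ 2716 Q2716 (allL N2716 (tt N2716 F15772) (tt N3587 (iv F22239)) (tt N2038 F15773) (tt N3582 (iv F22206)) (tt N3385 (iv F21170)) (tt N3591 (iv F22256)) (tt N3567 (iv F22136)) (tt N2716 F15774) (tt N2004 (iv D3288)) (tt N3592 D4753))
theorem Q2718 : ∀ i, i < 2718 → P i := stepQ 2717 Q2717 (allL N2717 (tt N2717 F15775) (tt N3588 (iv F22241)) (tt N2006 F15776) (tt N3590 (iv F22252)) (tt N2717 F15777) (tt N3568 (iv F22139)) (tt N2005 (iv D3289)) (tt N3593 D4754) (tt N3583 (iv F22212)) (tt N2012 F15778))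
theorem Q2719 : ∀ i, i < 2719 → P i := stepQ 2718 Q2718 (allL N2718 (tt N2718 F15779) (tt N2193 F15780) (tt N3593 (iv F22263)) (tt N2040 F15781) (tt N2718 F15782) (tt N3569 (iv F22144)) (tt N2718 F15783) (tt N2006 (iv D3290)) (tt N3584 (iv F22219)) (tt N2013 F15784))
theorem Q2720 : ∀ i, i < 2720 → P i := stepQ 2719 Q2719 (allL N2719 (tt N2008 F15785) (tt N2719 F15786) (tt N3594 D4755) (tt N2007 (iv D3291)) (tt N3388 (iv F21186)) (tt N3595 D4756) (tt N3570 (iv F22148)) (tt N2719 F15787) (tt N3596 D4757) (tt N2315 (iv F201948)))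
theorem Q2721 : ∀ i, i < 2721 → P i := stepQ 2720 Q2720 (allL N2720 (tt N2009 F15788) (tt N2720 F15789) (tt N2195 F15790) (tt N3595 (iv F22272)) (tt N2720 F15791) (tt N2007 (iv D3292)) (tt N3597 D4758) (tt N2720 F15792) (tt N2720 F15793) (tt N2314 (iv F201958)))
theorem Q2722 : ∀ i, i < 2722 → P i := stepQ 2721 Q2721 (allL N2721 (tt N3594 (iv F22267)) (tt N2043 F15794) (tt N2008 (iv D3293)) (tt N2196 F15795) (tt N3390 (iv F21195)) (tt N3598 D4759) (tt N3572 (iv F22155)) (tt N2721 F15796) (tt N3599 D4760) (tt N3585 (iv F22234)))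
theorem Q2723 : ∀ i, i < 2723 → P i := stepQ 2722 Q2722 (allL N2722 (tt N3595 (iv F22270)) (tt N2010 F15797) (tt N3598 (iv F22284)) (tt N2009 F15798) (tt N3600 D4761) (tt N2008 (iv D3294)) (tt N3601 D4762) (tt N2722 F15799) (tt N3602 D4763) (tt N3586 (iv F22238)))
theorem Q2724 : ∀ i, i < 2724 → P i := stepQ 2723 Q2723 (allL N2723 (tt N3596 (iv F22274)) (tt N2011 F15800) (tt N3599 (iv F22288)) (tt N2723 F15801) (tt N3392 (iv F21201)) (tt N3602 (iv F22297)) (tt N3574 (iv F22160)) (tt N2723 F15802) (tt N2008 (iv D3295)) (tt N3603 D4764))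
theorem Q2725 : ∀ i, i < 2725 → P i := stepQ 2724 Q2724 (allL N2724 (tt N3597 (iv F22278)) (tt N2012 F15803) (tt N2199 F15804) (tt N3601 (iv F22294)) (tt N2724 F15805) (tt N3575 (iv F22163)) (tt N2009 (iv D3296)) (tt N3604 D4765) (tt N2724 F15806) (tt N3588 (iv F22244)))
theorem Q2726 : ∀ i, i < 2726 → P i := stepQ 2725 Q2725 (allL N2725 (tt N2725 F15807) (tt N3600 (iv F22290)) (tt N2047 F15808) (tt N2725 F15809) (tt N2010 (iv D3297)) (tt N3394 (iv F21209)) (tt N3605 D4766) (tt N2725 F15810) (tt N3606 D4767) (tt N3589 (iv F22249)))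
theorem Q2727 : ∀ i, i < 2727 → P i := stepQ 2726 Q2726 (allL N2726 (tt N2726 F15811) (tt N3601 (iv F22293)) (tt N2048 F15812) (tt N2012 F15813) (tt N3605 (iv F22310)) (tt N3577 (iv F22170)) (tt N2010 (iv D3298)) (tt N3607 D4768) (tt N3608 D4769) (tt N3590 (iv F22253)))
theorem Q2728 : ∀ i, i < 2728 → P i := stepQ 2727 Q2727 (allL N2727 (tt N2727 F15814) (tt N3602 (iv F22295)) (tt N2049 F15815) (tt N2727 F15816) (tt N3606 (iv F22313)) (tt N2011 F15817) (tt N3608 (iv F22322)) (tt N2727 F15818) (tt N2010 (iv D3299)) (tt N3609 D4770))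
theorem Q2729 : ∀ i, i < 2729 → P i := stepQ 2728 Q2728 (allL N2728 (tt N2728 F15819) (tt N3603 (iv F22299)) (tt N2050 F15820) (tt N2728 F15821) (tt N3397 (iv F21220)) (tt N3609 (iv F22326)) (tt N3579 (iv F22178)) (tt N2728 F15822) (tt N3592 (iv F22261)) (tt N2011 (iv D3300)))
theorem Q2730 : ∀ i, i < 2730 → P i := stepQ 2729 Q2729 (allL N2729 (tt N2729 F15823) (tt N3604 (iv F22302)) (tt N2013 F15824) (tt N3607 (iv F22317)) (tt N2729 F15825) (tt N3580 (iv F22181)) (tt N2729 F15826) (tt N2012 (iv D3301)) (tt N2729 F15827) (tt N3593 (iv F22266)))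
theorem Q2731 : ∀ i, i < 2731 → P i := stepQ 2730 Q2730 (allL N2730 (tt N2014 (iv D3302)) (tt N2730 F15828) (tt N2205 F15829) (tt N3402 (iv F21248)) (tt N3610 D4771) (tt N2730 F15830) (tt N2730 F15831) (tt N2022 F15832) (tt N2730 F15833) (tt N2017 F15834))
theorem Q2732 : ∀ i, i < 2732 → P i := stepQ 2731 Q2731 (allL N2731 (tt N3610 (iv F22328)) (tt N2015 F15835) (tt N2206 F15836) (tt N3611 D4772) (tt N2014 (iv D3303)) (tt N3612 D4773) (tt N2731 F15837) (tt N2023 F15838) (tt N2731 F15839) (tt N2018 F15840))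
theorem Q2733 : ∀ i, i < 2733 → P i := stepQ 2732 Q2732 (allL N2732 (tt N2732 F15841) (tt N3611 (iv F22335)) (tt N3551 (iv F22048)) (tt N2015 (iv D3304)) (tt N3404 (iv F21259)) (tt N3613 D4774) (tt N2732 F15842) (tt N2024 F15843) (tt N3614 D4775) (tt N2019 F15844))
theorem Q2734 : ∀ i, i < 2734 → P i := stepQ 2733 Q2733 (allL N2733 (tt N2733 F15845) (tt N3612 (iv F22339)) (tt N2016 F15846) (tt N3613 (iv F22346)) (tt N2733 F15847) (tt N2015 (iv D3305)) (tt N3615 D4776) (tt N2025 F15848) (tt N2733 F15849) (tt N2020 F15850))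
theorem Q2735 : ∀ i, i < 2735 → P i := stepQ 2734 Q2734 (allL N2734 (tt N2734 F15851) (tt N2209 F15852) (tt N3615 (iv F22354)) (tt N3553 (iv F22058)) (tt N2734 F15853) (tt N2734 F15854) (tt N2016 (iv D3306)) (tt N3616 D4777) (tt N2734 F15855) (tt N2021 F15856))
theorem Q2736 : ∀ i, i < 2736 → P i := stepQ 2735 Q2735 (allL N2735 (tt N2018 F15857) (tt N2735 F15858) (tt N2210 F15859) (tt N3617 D4778) (tt N2017 (iv D3307)) (tt N3618 D4779) (tt N2735 F15860) (tt N2027 F15861) (tt N2079 F15862) (tt N3610 (iv F22334)))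
theorem Q2737 : ∀ i, i < 2737 → P i := stepQ 2736 Q2736 (allL N2736 (tt N3617 (iv F22366)) (tt N2019 F15863) (tt N3619 D4780) (tt N2018 (iv D3308)) (tt N3408 (iv F21280)) (tt N3620 D4781) (tt N2736 F15864) (tt N2028 F15865) (tt N3621 D4782) (tt N3611 (iv F22338)))
theorem Q2738 : ∀ i, i < 2738 → P i := stepQ 2737 Q2737 (allL N2737 (tt N3618 (iv F22370)) (tt N2020 F15866) (tt N2212 F15867) (tt N3620 (iv F22380)) (tt N2737 F15868) (tt N2018 (iv D3309)) (tt N3622 D4783) (tt N2029 F15869) (tt N2081 F15870) (tt N3612 (iv F22344)))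
theorem Q2739 : ∀ i, i < 2739 → P i := stepQ 2738 Q2738 (allL N2738 (tt N2738 F15871) (tt N3620 (iv F22379)) (tt N3557 (iv F22075)) (tt N2020 F15872) (tt N3623 D4784) (tt N2019 (iv D3310)) (tt N3624 D4785) (tt N2030 F15873) (tt N3625 D4786) (tt N3613 (iv F22348)))
theorem Q2740 : ∀ i, i < 2740 → P i := stepQ 2739 Q2739 (allL N2739 (tt N2739 F15874) (tt N3621 (iv F22382)) (tt N3558 (iv F22079)) (tt N2083 F15875) (tt N3411 (iv F21293)) (tt N3625 (iv F22399)) (tt N2739 F15876) (tt N2031 F15877) (tt N2019 (iv D3311)) (tt N3626 D4787))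
theorem Q2741 : ∀ i, i < 2741 → P i := stepQ 2740 Q2740 (allL N2740 (tt N2740 F15878) (tt N3622 (iv F22386)) (tt N2021 F15879) (tt N3624 (iv F22395)) (tt N2740 F15880) (tt N2740 F15881) (tt N2020 (iv D3312)) (tt N3627 D4788) (tt N2084 F15882) (tt N3615 (iv F22358)))
theorem Q2742 : ∀ i, i < 2742 → P i := stepQ 2741 Q2741 (allL N2741 (tt N2741 F15883) (tt N2216 F15884) (tt N3627 (iv F22406)) (tt N3560 (iv F22089)) (tt N2741 F15885) (tt N2741 F15886) (tt N2033 F15887) (tt N2021 (iv D3313)) (tt N2085 F15888) (tt N3616 (iv F22365)))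
theorem Q2743 : ∀ i, i < 2743 → P i := stepQ 2742 Q2742 (allL N2742 (tt N2023 F15889) (tt N2742 F15890) (tt N2217 F15891) (tt N3628 D4789) (tt N2022 (iv D3314)) (tt N3629 D4790) (tt N2034 F15892) (tt N3610 (iv F22332)) (tt N2742 F15893) (tt N2027 F15894))
theorem Q2744 : ∀ i, i < 2744 → P i := stepQ 2743 Q2743 (allL N2743 (tt N3628 (iv F22411)) (tt N2024 F15895) (tt N3630 D4791) (tt N2023 (iv D3315)) (tt N3420 (iv F21342)) (tt N3631 D4792) (tt N2035 F15896) (tt N3611 (iv F22337)) (tt N3632 D4793) (tt N2028 F15897))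
theorem Q2745 : ∀ i, i < 2745 → P i := stepQ 2744 Q2744 (allL N2744 (tt N3629 (iv F22415)) (tt N2025 F15898) (tt N2219 F15899) (tt N3631 (iv F22425)) (tt N2744 F15900) (tt N2023 (iv D3316)) (tt N3633 D4794) (tt N3612 (iv F22342)) (tt N2744 F15901) (tt N2029 F15902))
theorem Q2746 : ∀ i, i < 2746 → P i := stepQ 2745 Q2745 (allL N2745 (tt N2745 F15903) (tt N3631 (iv F22424)) (tt N3566 (iv F22131)) (tt N2025 F15904) (tt N3634 D4795) (tt N2024 (iv D3317)) (tt N3635 D4796) (tt N3613 (iv F22347)) (tt N3636 D4797) (tt N2030 F15905))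
theorem Q2747 : ∀ i, i < 2747 → P i := stepQ 2746 Q2746 (allL N2746 (tt N2746 F15906) (tt N3632 (iv F22427)) (tt N3567 (iv F22135)) (tt N2746 F15907) (tt N3423 (iv F21353)) (tt N3636 (iv F22445)) (tt N2038 F15908) (tt N3614 (iv F22352)) (tt N2024 (iv D3318)) (tt N3637 D4798))
theorem Q2748 : ∀ i, i < 2748 → P i := stepQ 2747 Q2747 (allL N2747 (tt N2747 F15909) (tt N3633 (iv F22430)) (tt N2026 F15910) (tt N3635 (iv F22440)) (tt N2747 F15911) (tt N2039 F15912) (tt N2025 (iv D3319)) (tt N3638 D4799) (tt N2747 F15913) (tt N2032 F15914))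
theorem Q2749 : ∀ i, i < 2749 → P i := stepQ 2748 Q2748 (allL N2748 (tt N2748 F15915) (tt N2223 F15916) (tt N3638 (iv F22451)) (tt N3569 (iv F22143)) (tt N2748 F15917) (tt N2040 F15918) (tt N3616 (iv F22363)) (tt N2026 (iv D3320)) (tt N2748 F15919) (tt N2033 F15920))
theorem Q2750 : ∀ i, i < 2750 → P i := stepQ 2749 Q2749 (allL N2749 (tt N2028 F15921) (tt N2749 F15922) (tt N3639 D4800) (tt N2027 (iv D3321)) (tt N3426 (iv F21367)) (tt N3640 D4801) (tt N2041 F15923) (tt N3617 (iv F22369)) (tt N3641 D4802) (tt N3628 (iv F22414)))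
theorem Q2751 : ∀ i, i < 2751 → P i := stepQ 2750 Q2750 (allL N2750 (tt N2029 F15924) (tt N2750 F15925) (tt N2225 F15926) (tt N3640 (iv F22461)) (tt N2750 F15927) (tt N2027 (iv D3322)) (tt N3642 D4803) (tt N3618 (iv F22374)) (tt N2087 F15928) (tt N3629 (iv F22420)))
theorem Q2752 : ∀ i, i < 2752 → P i := stepQ 2751 Q2751 (allL N2751 (tt N3639 (iv F22456)) (tt N3572 (iv F22153)) (tt N2028 (iv D3323)) (tt N2226 F15929) (tt N3428 (iv F21375)) (tt N3643 D4804) (tt N2043 F15930) (tt N3619 (iv F22378)) (tt N3644 D4805) (tt N3630 (iv F22423)))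
theorem Q2753 : ∀ i, i < 2753 → P i := stepQ 2752 Q2752 (allL N2752 (tt N3640 (iv F22459)) (tt N2030 F15931) (tt N3643 (iv F22472)) (tt N2029 F15932) (tt N3645 D4806) (tt N2028 (iv D3324)) (tt N3646 D4807) (tt N3620 (iv F22381)) (tt N3647 D4808) (tt N3631 (iv F22426)))
theorem Q2754 : ∀ i, i < 2754 → P i := stepQ 2753 Q2753 (allL N2753 (tt N3641 (iv F22462)) (tt N2031 F15933) (tt N3644 (iv F22474)) (tt N2090 F15934) (tt N3430 (iv F21381)) (tt N3647 (iv F22483)) (tt N2045 F15935) (tt N3621 (iv F22385)) (tt N2028 (iv D3325)) (tt N3648 D4809))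
theorem Q2755 : ∀ i, i < 2755 → P i := stepQ 2754 Q2754 (allL N2754 (tt N3642 (iv F22466)) (tt N2032 F15936) (tt N2229 F15937) (tt N3646 (iv F22479)) (tt N2754 F15938) (tt N2046 F15939) (tt N2029 (iv D3326)) (tt N3649 D4810) (tt N2091 F15940) (tt N3633 (iv F22435)))
theorem Q2756 : ∀ i, i < 2756 → P i := stepQ 2755 Q2755 (allL N2755 (tt N2755 F15941) (tt N3645 (iv F22476)) (tt N3576 (iv F22166)) (tt N2755 F15942) (tt N2030 (iv D3327)) (tt N3432 (iv F21390)) (tt N3650 D4811) (tt N3623 (iv F22393)) (tt N3651 D4812) (tt N3634 (iv F22438)))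
theorem Q2757 : ∀ i, i < 2757 → P i := stepQ 2756 Q2756 (allL N2756 (tt N2756 F15943) (tt N3646 (iv F22478)) (tt N3577 (iv F22168)) (tt N2032 F15944) (tt N3650 (iv F22494)) (tt N2048 F15945) (tt N2030 (iv D3328)) (tt N3652 D4813) (tt N3653 D4814) (tt N3635 (iv F22442)))
theorem Q2758 : ∀ i, i < 2758 → P i := stepQ 2757 Q2757 (allL N2757 (tt N2757 F15946) (tt N3647 (iv F22481)) (tt N3578 (iv F22172)) (tt N2094 F15947) (tt N3651 (iv F22496)) (tt N2031 F15948) (tt N3653 (iv F22503)) (tt N3625 (iv F22400)) (tt N2030 (iv D3329)) (tt N3654 D4815))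
theorem Q2759 : ∀ i, i < 2759 → P i := stepQ 2758 Q2758 (allL N2758 (tt N2758 F15949) (tt N3648 (iv F22484)) (tt N3579 (iv F22176)) (tt N2095 F15950) (tt N3435 (iv F21399)) (tt N3654 (iv F22506)) (tt N2050 F15951) (tt N3626 (iv F22404)) (tt N3637 (iv F22449)) (tt N2031 (iv D3330)))
theorem Q2760 : ∀ i, i < 2760 → P i := stepQ 2759 Q2759 (allL N2759 (tt N2759 F15952) (tt N3649 (iv F22487)) (tt N2033 F15953) (tt N3652 (iv F22498)) (tt N2759 F15954) (tt N2051 F15955) (tt N3627 (iv F22409)) (tt N2032 (iv D3331)) (tt N2096 F15956) (tt N3638 (iv F22455)))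
theorem Q2761 : ∀ i, i < 2761 → P i := stepQ 2760 Q2760 (allL N2760 (tt N2035 F15957) (tt N2760 F15958) (tt N3655 D4816) (tt N2034 (iv D3332)) (tt N3444 (iv F21446)) (tt N3656 D4817) (tt N3628 (iv F22413)) (tt N2760 F15959) (tt N3657 D4818) (tt N2041 F15960))
theorem Q2762 : ∀ i, i < 2762 → P i := stepQ 2761 Q2761 (allL N2761 (tt N2036 F15961) (tt N2761 F15962) (tt N2236 F15963) (tt N3656 (iv F22513)) (tt N2053 F15964) (tt N2034 (iv D3333)) (tt N3658 D4819) (tt N2761 F15965) (tt N2761 F15966) (tt N2042 F15967))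
theorem Q2763 : ∀ i, i < 2763 → P i := stepQ 2762 Q2762 (allL N2762 (tt N3655 (iv F22507)) (tt N3585 (iv F22231)) (tt N2035 (iv D3334)) (tt N2237 F15968) (tt N3446 (iv F21456)) (tt N3659 D4820) (tt N3630 (iv F22422)) (tt N2762 F15969) (tt N3660 D4821) (tt N2043 F15970))
theorem Q2764 : ∀ i, i < 2764 → P i := stepQ 2763 Q2763 (allL N2763 (tt N3656 (iv F22511)) (tt N2037 F15971) (tt N3659 (iv F22526)) (tt N2036 F15972) (tt N3661 D4822) (tt N2035 (iv D3335)) (tt N3662 D4823) (tt N2763 F15973) (tt N3663 D4824) (tt N2044 F15974))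
theorem Q2765 : ∀ i, i < 2765 → P i := stepQ 2764 Q2764 (allL N2764 (tt N3657 (iv F22516)) (tt N2038 F15975) (tt N3660 (iv F22530)) (tt N2764 F15976) (tt N3448 (iv F21464)) (tt N3663 (iv F22541)) (tt N3632 (iv F22429)) (tt N2764 F15977) (tt N2035 (iv D3336)) (tt N3664 D4825))
theorem Q2766 : ∀ i, i < 2766 → P i := stepQ 2765 Q2765 (allL N2765 (tt N3658 (iv F22520)) (tt N2039 F15978) (tt N2240 F15979) (tt N3662 (iv F22537)) (tt N2057 F15980) (tt N3633 (iv F22433)) (tt N2036 (iv D3337)) (tt N3665 D4826) (tt N2765 F15981) (tt N2046 F15982))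
theorem Q2767 : ∀ i, i < 2767 → P i := stepQ 2766 Q2766 (allL N2766 (tt N2766 F15983) (tt N3661 (iv F22532)) (tt N3589 (iv F22246)) (tt N2058 F15984) (tt N2037 (iv D3338)) (tt N3450 (iv F21472)) (tt N3666 D4827) (tt N2766 F15985) (tt N3667 D4828) (tt N2047 F15986))
theorem Q2768 : ∀ i, i < 2768 → P i := stepQ 2767 Q2767 (allL N2767 (tt N2767 F15987) (tt N3662 (iv F22536)) (tt N3590 (iv F22251)) (tt N2039 F15988) (tt N3666 (iv F22555)) (tt N3635 (iv F22441)) (tt N2037 (iv D3339)) (tt N3668 D4829) (tt N3669 D4830) (tt N2048 F15989))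
theorem Q2769 : ∀ i, i < 2769 → P i := stepQ 2768 Q2768 (allL N2768 (tt N2768 F15990) (tt N3663 (iv F22539)) (tt N3591 (iv F22255)) (tt N2768 F15991) (tt N3667 (iv F22558)) (tt N2038 F15992) (tt N3669 (iv F22566)) (tt N2768 F15993) (tt N2037 (iv D3340)) (tt N3670 D4831))
theorem Q2770 : ∀ i, i < 2770 → P i := stepQ 2769 Q2769 (allL N2769 (tt N2769 F15994) (tt N3664 (iv F22543)) (tt N3592 (iv F22259)) (tt N2769 F15995) (tt N3453 (iv F21482)) (tt N3670 (iv F22569)) (tt N3637 (iv F22448)) (tt N2769 F15996) (tt N2050 F15997) (tt N2038 (iv D3341)))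
theorem Q2771 : ∀ i, i < 2771 → P i := stepQ 2770 Q2770 (allL N2770 (tt N2770 F15998) (tt N3665 (iv F22547)) (tt N2040 F15999) (tt N3668 (iv F22561)) (tt N2062 F16000) (tt N3638 (iv F22453)) (tt N2770 F16001) (tt N2039 (iv D3342)) (tt N2770 F16002) (tt N2051 F16003))
theorem Q2772 : ∀ i, i < 2772 → P i := stepQ 2771 Q2771 (allL N2771 (tt N2043 F16004) (tt N3671 D4832) (tt N2041 (iv D3343)) (tt N2246 F16005) (tt N3455 (iv F21492)) (tt N3672 D4833) (tt N3639 (iv F22458)) (tt N2771 F16006) (tt N3673 D4834) (tt N3655 (iv F22510)))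
theorem Q2773 : ∀ i, i < 2773 → P i := stepQ 2772 Q2772 (allL N2772 (tt N2044 F16007) (tt N2772 F16008) (tt N3672 (iv F22576)) (tt N2042 F16009) (tt N3674 D4835) (tt N2041 (iv D3344)) (tt N3675 D4836) (tt N2772 F16010) (tt N3676 D4837) (tt N3656 (iv F22515)))
theorem Q2774 : ∀ i, i < 2774 → P i := stepQ 2773 Q2773 (allL N2773 (tt N2045 F16011) (tt N2773 F16012) (tt N3673 (iv F22580)) (tt N2099 F16013) (tt N3457 (iv F21501)) (tt N3676 (iv F22592)) (tt N3641 (iv F22465)) (tt N2773 F16014) (tt N2041 (iv D3345)) (tt N3677 D4838))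
theorem Q2775 : ∀ i, i < 2775 → P i := stepQ 2774 Q2774 (allL N2774 (tt N2046 F16015) (tt N2774 F16016) (tt N2248 F16017) (tt N3675 (iv F22588)) (tt N2066 F16018) (tt N3642 (iv F22470)) (tt N2042 (iv D3346)) (tt N3678 D4839) (tt N2100 F16019) (tt N3658 (iv F22525)))
theorem Q2776 : ∀ i, i < 2776 → P i := stepQ 2775 Q2775 (allL N2775 (tt N3672 (iv F22575)) (tt N3598 (iv F22283)) (tt N2044 F16020) (tt N2249 F16021) (tt N3679 D4840) (tt N2043 (iv D3347)) (tt N3680 D4841) (tt N2775 F16022) (tt N3681 D4842) (tt N3659 (iv F22529)))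
theorem Q2777 : ∀ i, i < 2777 → P i := stepQ 2776 Q2776 (allL N2776 (tt N3673 (iv F22579)) (tt N3599 (iv F22287)) (tt N2045 F16023) (tt N3682 D4843) (tt N3460 (iv F21512)) (tt N3681 (iv F22609)) (tt N3644 (iv F22475)) (tt N2776 F16024) (tt N2043 (iv D3348)) (tt N3683 D4844))
theorem Q2778 : ∀ i, i < 2778 → P i := stepQ 2777 Q2777 (allL N2777 (tt N3674 (iv F22582)) (tt N2047 F16025) (tt N3679 (iv F22604)) (tt N2069 F16026) (tt N2044 (iv D3349)) (tt N3461 (iv F21516)) (tt N3684 D4845) (tt N2777 F16027) (tt N3685 D4846) (tt N3661 (iv F22535)))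
theorem Q2779 : ∀ i, i < 2779 → P i := stepQ 2778 Q2778 (allL N2778 (tt N3675 (iv F22586)) (tt N2048 F16028) (tt N3680 (iv F22606)) (tt N2046 F16029) (tt N3684 (iv F22618)) (tt N3646 (iv F22480)) (tt N2044 (iv D3350)) (tt N3686 D4847) (tt N3687 D4848) (tt N3662 (iv F22538)))
theorem Q2780 : ∀ i, i < 2780 → P i := stepQ 2779 Q2779 (allL N2779 (tt N3676 (iv F22589)) (tt N2049 F16030) (tt N3681 (iv F22608)) (tt N2105 F16031) (tt N3685 (iv F22620)) (tt N2045 F16032) (tt N3687 (iv F22627)) (tt N2779 F16033) (tt N2044 (iv D3351)) (tt N3688 D4849))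
theorem Q2781 : ∀ i, i < 2781 → P i := stepQ 2780 Q2780 (allL N2780 (tt N3677 (iv F22594)) (tt N2050 F16034) (tt N3683 (iv F22614)) (tt N2106 F16035) (tt N3464 (iv F21526)) (tt N3688 (iv F22630)) (tt N3648 (iv F22486)) (tt N2780 F16036) (tt N3664 (iv F22546)) (tt N2045 (iv D3352)))
theorem Q2782 : ∀ i, i < 2782 → P i := stepQ 2781 Q2781 (allL N2781 (tt N3678 (iv F22598)) (tt N2051 F16037) (tt N2254 F16038) (tt N3686 (iv F22623)) (tt N2073 F16039) (tt N3649 (iv F22490)) (tt N2781 F16040) (tt N2046 (iv D3353)) (tt N2107 F16041) (tt N3665 (iv F22552)))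
theorem Q2783 : ∀ i, i < 2783 → P i := stepQ 2782 Q2782 (allL N2782 (tt N2782 F16042) (tt N3684 (iv F22616)) (tt N3605 (iv F22308)) (tt N2074 F16043) (tt N2048 F16044) (tt N3689 D4850) (tt N2047 (iv D3354)) (tt N3690 D4851) (tt N3691 D4852) (tt N3666 (iv F22556)))
theorem Q2784 : ∀ i, i < 2784 → P i := stepQ 2783 Q2783 (allL N2783 (tt N2783 F16045) (tt N3685 (iv F22619)) (tt N3606 (iv F22312)) (tt N3692 D4853) (tt N2049 F16046) (tt N3467 (iv F21538)) (tt N3691 (iv F22640)) (tt N2783 F16047) (tt N2047 (iv D3355)) (tt N3693 D4854))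
theorem Q2785 : ∀ i, i < 2785 → P i := stepQ 2784 Q2784 (allL N2784 (tt N2784 F16048) (tt N3686 (iv F22622)) (tt N3607 (iv F22316)) (tt N2051 F16049) (tt N3690 (iv F22636)) (tt N3652 (iv F22499)) (tt N2784 F16050) (tt N2048 (iv D3356)) (tt N3694 D4855) (tt N3668 (iv F22563)))
theorem Q2786 : ∀ i, i < 2786 → P i := stepQ 2785 Q2785 (allL N2785 (tt N2785 F16051) (tt N3687 (iv F22625)) (tt N3608 (iv F22320)) (tt N2111 F16052) (tt N3691 (iv F22639)) (tt N3653 (iv F22502)) (tt N2049 F16053) (tt N3694 (iv F22651)) (tt N2048 (iv D3357)) (tt N3695 D4856))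
theorem Q2787 : ∀ i, i < 2787 → P i := stepQ 2786 Q2786 (allL N2786 (tt N2786 F16054) (tt N3688 (iv F22628)) (tt N3609 (iv F22324)) (tt N2112 F16055) (tt N3693 (iv F22646)) (tt N2050 F16056) (tt N3695 (iv F22654)) (tt N2786 F16057) (tt N3670 (iv F22571)) (tt N2049 (iv D3358)))
theorem Q2788 : ∀ i, i < 2788 → P i := stepQ 2787 Q2787 (allL N2787 (tt N2055 F16063) (tt N2787 F16064) (tt N3487 (iv F202963)) (tt N2053 F16065) (tt N3696 D4860) (tt N2052 (iv D3360)) (tt N3697 D4861) (tt N2787 F16066) (tt N3484 (iv F202966)) (tt N2064 F16067))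
theorem Q2789 : ∀ i, i < 2789 → P i := stepQ 2788 Q2788 (allL N2788 (tt N2057 F16073) (tt N2788 F16074) (tt N2263 F16075) (tt N3697 (iv F22676)) (tt N3658 (iv F22523)) (tt N2788 F16076) (tt N2053 (iv D3362)) (tt N3698 D4864) (tt N2788 F16077) (tt N2066 F16078))
theorem Q2790 : ∀ i, i < 2790 → P i := stepQ 2789 Q2789 (allL N2789 (tt N3487 (iv F202962)) (tt N2789 F16079) (tt N2055 F16080) (tt N2264 F16081) (tt N3699 D4865) (tt N2054 (iv D3363)) (tt N3700 D4866) (tt N2789 F16082) (tt N3482 (iv F202968)) (tt N2067 F16083))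
theorem Q2791 : ∀ i, i < 2791 → P i := stepQ 2790 Q2790 (allL N2790 (tt N3696 (iv F22670)) (tt N2058 F16088) (tt N3699 (iv F22698)) (tt N3661 (iv F22533)) (tt N2055 (iv D3365)) (tt N3485 (iv F21680)) (tt N3701 D4870) (tt N2790 F16089) (tt N3702 D4871) (tt N2069 F16090))
theorem Q2792 : ∀ i, i < 2792 → P i := stepQ 2791 Q2791 (allL N2791 (tt N3697 (iv F22674)) (tt N2059 F16091) (tt N3700 (iv F22702)) (tt N2057 F16092) (tt N3701 (iv F22721)) (tt N2791 F16093) (tt N2055 (iv D3366)) (tt N3703 D4872) (tt N3704 D4873) (tt N2070 F16094))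
theorem Q2793 : ∀ i, i < 2793 → P i := stepQ 2792 Q2792 (allL N2792 (tt N3484 (iv F202965)) (tt N2060 F16095) (tt N3482 (iv F202967)) (tt N2792 F16096) (tt N3702 (iv F22724)) (tt N2056 F16097) (tt N3704 (iv F22734)) (tt N2792 F16098) (tt N2055 (iv D3367)) (tt N3494 (iv F202970)))
theorem Q2794 : ∀ i, i < 2794 → P i := stepQ 2793 Q2793 (allL N2793 (tt N3698 (iv F22690)) (tt N2062 F16104) (tt N2269 F16105) (tt N3703 (iv F22727)) (tt N3665 (iv F22549)) (tt N2793 F16106) (tt N2793 F16107) (tt N2057 (iv D3369)) (tt N2793 F16108) (tt N2073 F16109))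
theorem Q2795 : ∀ i, i < 2795 → P i := stepQ 2794 Q2794 (allL N2794 (tt N2794 F16110) (tt N3701 (iv F22720)) (tt N2794 F16111) (tt N3666 (iv F22554)) (tt N2059 F16112) (tt N3705 D4875) (tt N2058 (iv D3370)) (tt N3706 D4876) (tt N3707 D4877) (tt N2074 F16113))
theorem Q2796 : ∀ i, i < 2796 → P i := stepQ 2795 Q2795 (allL N2795 (tt N2795 F16114) (tt N3702 (iv F22723)) (tt N2795 F16115) (tt N3708 D4878) (tt N2060 F16116) (tt N3490 (iv F21707)) (tt N3707 (iv F22752)) (tt N2795 F16117) (tt N2058 (iv D3371)) (tt N3709 D4879))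
theorem Q2797 : ∀ i, i < 2797 → P i := stepQ 2796 Q2796 (allL N2796 (tt N2796 F16118) (tt N3703 (iv F22726)) (tt N2796 F16119) (tt N2062 F16120) (tt N3706 (iv F22746)) (tt N2796 F16121) (tt N2796 F16122) (tt N2059 (iv D3372)) (tt N3710 D4880) (tt N2076 F16123))
theorem Q2798 : ∀ i, i < 2798 → P i := stepQ 2797 Q2797 (allL N2797 (tt N2797 F16124) (tt N3704 (iv F22731)) (tt N2797 F16125) (tt N2797 F16126) (tt N3707 (iv F22751)) (tt N2797 F16127) (tt N2060 F16128) (tt N3710 (iv F22766)) (tt N2059 (iv D3373)) (tt N3711 D4881))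
theorem Q2799 : ∀ i, i < 2799 → P i := stepQ 2798 Q2798 (allL N2798 (tt N2798 F16129) (tt N3494 (iv F202969)) (tt N2798 F16130) (tt N2798 F16131) (tt N3709 (iv F22758)) (tt N2061 F16132) (tt N3711 (iv F22771)) (tt N2798 F16133) (tt N2078 F16134) (tt N2060 (iv D3374)))
theorem Q2800 : ∀ i, i < 2800 → P i := stepQ 2799 Q2799 (allL N2799 (tt N2067 F16140) (tt N3493 (iv F203751)) (tt N2064 F16141) (tt N2275 F16142) (tt N3712 D4884) (tt N2063 (iv D3376)) (tt N3713 D4885) (tt N2799 F16143) (tt N3506 (iv F203759)) (tt N3487 F203302))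
theorem Q2801 : ∀ i, i < 2801 → P i := stepQ 2800 Q2800 (allL N2800 (tt N2069 F16149) (tt N2800 F16150) (tt N3712 (iv F22785)) (tt N3674 (iv F22584)) (tt N2064 (iv D3378)) (tt N3495 (iv F21741)) (tt N3714 D4888) (tt N2800 F16151) (tt N3715 D4889) (tt N3696 (iv F22673)))
theorem Q2802 : ∀ i, i < 2802 → P i := stepQ 2801 Q2801 (allL N2801 (tt N2070 F16152) (tt N2801 F16153) (tt N3713 (iv F22788)) (tt N2066 F16154) (tt N3714 (iv F22803)) (tt N2801 F16155) (tt N2064 (iv D3379)) (tt N3716 D4890) (tt N3717 D4891) (tt N3697 (iv F22678)))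
theorem Q2803 : ∀ i, i < 2803 → P i := stepQ 2802 Q2802 (allL N2802 (tt N2071 F16156) (tt N2802 F16157) (tt N3506 (iv F203758)) (tt N2115 F16158) (tt N3715 (iv F22806)) (tt N2065 F16159) (tt N3717 (iv F22817)) (tt N2802 F16160) (tt N2064 (iv D3380)) (tt N3501 (iv F203761)))
theorem Q2804 : ∀ i, i < 2804 → P i := stepQ 2803 Q2803 (allL N2803 (tt N2073 F16166) (tt N2803 F16167) (tt N2278 F16168) (tt N3716 (iv F22810)) (tt N3678 (iv F22601)) (tt N2803 F16169) (tt N2803 F16170) (tt N2066 (iv D3382)) (tt N2117 F16171) (tt N3698 (iv F22696)))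
theorem Q2805 : ∀ i, i < 2805 → P i := stepQ 2804 Q2804 (allL N2804 (tt N3712 (iv F22784)) (tt N2804 F16172) (tt N2069 F16173) (tt N3718 D4893) (tt N2067 (iv D3383)) (tt N3499 (iv F21766)) (tt N3719 D4894) (tt N2804 F16174) (tt N3720 D4895) (tt N3699 (iv F22700)))
theorem Q2806 : ∀ i, i < 2806 → P i := stepQ 2805 Q2805 (allL N2805 (tt N3713 (iv F22787)) (tt N2805 F16175) (tt N2070 F16176) (tt N2280 F16177) (tt N3719 (iv F22828)) (tt N2805 F16178) (tt N2067 (iv D3384)) (tt N3721 D4896) (tt N3722 D4897) (tt N3700 (iv F22705)))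
theorem Q2807 : ∀ i, i < 2807 → P i := stepQ 2806 Q2806 (allL N2806 (tt N3506 (iv F203757)) (tt N2806 F16179) (tt N2071 F16180) (tt N2806 F16181) (tt N3720 (iv F22831)) (tt N2068 F16182) (tt N3722 (iv F22842)) (tt N2806 F16183) (tt N2067 (iv D3385)) (tt N3497 (iv F203785)))
theorem Q2808 : ∀ i, i < 2808 → P i := stepQ 2807 Q2807 (allL N2807 (tt N3714 (iv F22801)) (tt N2074 F16189) (tt N3719 (iv F22827)) (tt N3684 (iv F22617)) (tt N2070 F16190) (tt N3723 D4899) (tt N2069 (iv D3387)) (tt N3724 D4900) (tt N3725 D4901) (tt N3701 (iv F22722)))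
theorem Q2809 : ∀ i, i < 2809 → P i := stepQ 2808 Q2808 (allL N2808 (tt N3715 (iv F22804)) (tt N2075 F16191) (tt N3720 (iv F22830)) (tt N3726 D4902) (tt N2071 F16192) (tt N3503 (iv F21791)) (tt N3725 (iv F22855)) (tt N2808 F16193) (tt N2069 (iv D3388)) (tt N3727 D4903))
theorem Q2810 : ∀ i, i < 2810 → P i := stepQ 2809 Q2809 (allL N2809 (tt N3716 (iv F22808)) (tt N2076 F16194) (tt N3721 (iv F22834)) (tt N2073 F16195) (tt N3724 (iv F22851)) (tt N2809 F16196) (tt N2809 F16197) (tt N2070 (iv D3389)) (tt N3728 D4904) (tt N3703 (iv F22730)))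
theorem Q2811 : ∀ i, i < 2811 → P i := stepQ 2810 Q2810 (allL N2810 (tt N3717 (iv F22813)) (tt N2077 F16198) (tt N3722 (iv F22839)) (tt N2121 F16199) (tt N3725 (iv F22854)) (tt N2810 F16200) (tt N2071 F16201) (tt N3728 (iv F22866)) (tt N2070 (iv D3390)) (tt N3729 D4905))
theorem Q2812 : ∀ i, i < 2812 → P i := stepQ 2811 Q2811 (allL N2811 (tt N3501 (iv F203760)) (tt N2078 F16202) (tt N3497 (iv F203784)) (tt N2122 F16203) (tt N3727 (iv F22860)) (tt N2072 F16204) (tt N3729 (iv F22870)) (tt N2811 F16205) (tt N3494 F203338) (tt N2071 (iv D3391)))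
theorem Q2813 : ∀ i, i < 2813 → P i := stepQ 2812 Q2812 (allL N2812 (tt N2812 F16206) (tt N3723 (iv F22848)) (tt N2812 F16207) (tt N3689 (iv F22633)) (tt N2812 F16208) (tt N2074 (iv D3392)) (tt N3507 (iv F21808)) (tt N3730 D4906) (tt N3731 D4907) (tt N3705 (iv F22743)))
theorem Q2814 : ∀ i, i < 2814 → P i := stepQ 2813 Q2813 (allL N2813 (tt N2813 F16209) (tt N3724 (iv F22850)) (tt N2813 F16210) (tt N3690 (iv F22635)) (tt N2076 F16211) (tt N3730 (iv F22874)) (tt N2813 F16212) (tt N2074 (iv D3393)) (tt N3732 D4908) (tt N3706 (iv F22748)))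
theorem Q2815 : ∀ i, i < 2815 → P i := stepQ 2814 Q2814 (allL N2814 (tt N2814 F16213) (tt N3725 (iv F22853)) (tt N2814 F16214) (tt N3733 D4909) (tt N2077 F16215) (tt N3731 (iv F22878)) (tt N2075 F16216) (tt N3732 (iv F22883)) (tt N2074 (iv D3394)) (tt N3734 D4910))
theorem Q2816 : ∀ i, i < 2816 → P i := stepQ 2815 Q2815 (allL N2815 (tt N2815 F16217) (tt N3726 (iv F22856)) (tt N3735 D4911) (tt N2075 (iv D3395)) (tt N2126 F16218) (tt N3510 (iv F21819)) (tt N3733 (iv F22886)) (tt N2815 F16219) (tt N3692 (iv F22644)) (tt N3736 D4912))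
theorem Q2817 : ∀ i, i < 2817 → P i := stepQ 2816 Q2816 (allL N2816 (tt N2816 F16220) (tt N3727 (iv F22859)) (tt N2816 F16221) (tt N3736 (iv F22896)) (tt N2078 F16222) (tt N3511 (iv F21824)) (tt N3734 (iv F22890)) (tt N2816 F16223) (tt N3709 (iv F22760)) (tt N2075 (iv D3396)))
theorem Q2818 : ∀ i, i < 2818 → P i := stepQ 2817 Q2817 (allL N2817 (tt N2817 F16224) (tt N3728 (iv F22862)) (tt N2817 F16225) (tt N2128 F16226) (tt N3732 (iv F22881)) (tt N2817 F16227) (tt N2817 F16228) (tt N2077 F16229) (tt N2076 (iv D3397)) (tt N3737 D4913))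
theorem Q2819 : ∀ i, i < 2819 → P i := stepQ 2818 Q2818 (allL N2818 (tt N2818 F16230) (tt N3729 (iv F22867)) (tt N2818 F16231) (tt N2129 F16232) (tt N3734 (iv F22889)) (tt N2818 F16233) (tt N2078 F16234) (tt N3737 (iv F22904)) (tt N3711 (iv F22772)) (tt N2077 (iv D3398)))
theorem Q2820 : ∀ i, i < 2820 → P i := stepQ 2819 Q2819 (allL N2819 (tt N2080 F16235) (tt N2819 F16236) (tt N3738 D4914) (tt N2079 (iv D3399)) (tt N2819 F16237) (tt N3739 D4915) (tt N2819 F16238) (tt N2086 F16239) (tt N3740 D4916) (tt N2819 F16240))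
theorem Q2821 : ∀ i, i < 2821 → P i := stepQ 2820 Q2820 (allL N2820 (tt N2081 F16241) (tt N2820 F16242) (tt N2286 F16243) (tt N3739 (iv F22913)) (tt N2820 F16244) (tt N2079 (iv D3400)) (tt N3741 D4917) (tt N2087 F16245) (tt N3618 (iv F22375)) (tt N2820 F16246))
theorem Q2822 : ∀ i, i < 2822 → P i := stepQ 2821 Q2821 (allL N2821 (tt N3738 (iv F22905)) (tt N2821 F16247) (tt N2080 (iv D3401)) (tt N2287 F16248) (tt N2821 F16249) (tt N3742 D4918) (tt N2821 F16250) (tt N2088 F16251) (tt N3743 D4919) (tt N2821 F16252))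
theorem Q2823 : ∀ i, i < 2823 → P i := stepQ 2822 Q2822 (allL N2822 (tt N3739 (iv F22911)) (tt N2082 F16253) (tt N3742 (iv F22928)) (tt N2081 F16254) (tt N3744 D4920) (tt N2080 (iv D3402)) (tt N3745 D4921) (tt N2089 F16255) (tt N3746 D4922) (tt N2822 F16256))
theorem Q2824 : ∀ i, i < 2824 → P i := stepQ 2823 Q2823 (allL N2823 (tt N3740 (iv F22916)) (tt N2083 F16257) (tt N3743 (iv F22933)) (tt N3621 (iv F22383)) (tt N2823 F16258) (tt N3746 (iv F22947)) (tt N2823 F16259) (tt N2090 F16260) (tt N2080 (iv D3403)) (tt N3747 D4923))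
theorem Q2825 : ∀ i, i < 2825 → P i := stepQ 2824 Q2824 (allL N2824 (tt N3741 (iv F22921)) (tt N2084 F16261) (tt N2290 F16262) (tt N3745 (iv F22943)) (tt N2824 F16263) (tt N2824 F16264) (tt N2081 (iv D3404)) (tt N3748 D4924) (tt N3622 (iv F22390)) (tt N2824 F16265))
theorem Q2826 : ∀ i, i < 2826 → P i := stepQ 2825 Q2825 (allL N2825 (tt N2825 F16266) (tt N3744 (iv F22937)) (tt N2825 F16267) (tt N2825 F16268) (tt N2082 (iv D3405)) (tt N2825 F16269) (tt N3749 D4925) (tt N2092 F16270) (tt N3750 D4926) (tt N2825 F16271))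
theorem Q2827 : ∀ i, i < 2827 → P i := stepQ 2826 Q2826 (allL N2826 (tt N2826 F16272) (tt N3745 (iv F22942)) (tt N2826 F16273) (tt N2084 F16274) (tt N3749 (iv F22963)) (tt N2826 F16275) (tt N2082 (iv D3406)) (tt N3751 D4927) (tt N3752 D4928) (tt N2826 F16276))
theorem Q2828 : ∀ i, i < 2828 → P i := stepQ 2827 Q2827 (allL N2827 (tt N2827 F16277) (tt N3746 (iv F22946)) (tt N2827 F16278) (tt N3625 (iv F22398)) (tt N3750 (iv F22967)) (tt N2083 F16279) (tt N3752 (iv F22979)) (tt N2094 F16280) (tt N2082 (iv D3407)) (tt N3753 D4929))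
theorem Q2829 : ∀ i, i < 2829 → P i := stepQ 2828 Q2828 (allL N2828 (tt N2828 F16281) (tt N3747 (iv F22949)) (tt N2828 F16282) (tt N3626 (iv F22402)) (tt N2828 F16283) (tt N3753 (iv F22982)) (tt N2828 F16284) (tt N2095 F16285) (tt N2828 F16286) (tt N2083 (iv D3408)))
theorem Q2830 : ∀ i, i < 2830 → P i := stepQ 2829 Q2829 (allL N2829 (tt N2829 F16287) (tt N3748 (iv F22954)) (tt N2085 F16288) (tt N3751 (iv F22972)) (tt N2829 F16289) (tt N2829 F16290) (tt N2096 F16291) (tt N2084 (iv D3409)) (tt N3627 (iv F22410)) (tt N2829 F16292))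
theorem Q2831 : ∀ i, i < 2831 → P i := stepQ 2830 Q2830 (allL N2830 (tt N2088 F16293) (tt N3561 F201560) (tt N2086 (iv D3410)) (tt N2296 F16294) (tt N2830 F16295) (tt N3754 D4931) (tt N2097 F16296) (tt N3738 (iv F22909)) (tt N3755 D4932) (tt N2830 F16297))
theorem Q2832 : ∀ i, i < 2832 → P i := stepQ 2831 Q2831 (allL N2831 (tt N2089 F16298) (tt N2831 F16299) (tt N3754 (iv F22992)) (tt N2087 F16300) (tt N3756 D4933) (tt N2086 (iv D3411)) (tt N3757 D4934) (tt N3739 (iv F22914)) (tt N3758 D4935) (tt N2831 F16301))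
theorem Q2833 : ∀ i, i < 2833 → P i := stepQ 2832 Q2832 (allL N2832 (tt N2090 F16302) (tt N2832 F16303) (tt N3755 (iv F22996)) (tt N3641 (iv F22464)) (tt N2832 F16304) (tt N3758 (iv F23011)) (tt N2099 F16305) (tt N3740 (iv F22920)) (tt N2086 (iv D3412)) (tt N3759 D4936))
theorem Q2834 : ∀ i, i < 2834 → P i := stepQ 2833 Q2833 (allL N2833 (tt N2091 F16306) (tt N2833 F16307) (tt N2298 F16308) (tt N3757 (iv F23006)) (tt N2833 F16309) (tt N2100 F16310) (tt N2087 (iv D3413)) (tt N3760 D4937) (tt N3642 (iv F22471)) (tt N2833 F16311))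
theorem Q2835 : ∀ i, i < 2835 → P i := stepQ 2834 Q2834 (allL N2834 (tt N3754 (iv F22991)) (tt N2834 F16312) (tt N2089 F16313) (tt N2299 F16314) (tt N3761 D4938) (tt N2088 (iv D3414)) (tt N3762 D4939) (tt N3742 (iv F22930)) (tt N3763 D4940) (tt N2834 F16315))
theorem Q2836 : ∀ i, i < 2836 → P i := stepQ 2835 Q2835 (allL N2835 (tt N3755 (iv F22995)) (tt N2835 F16316) (tt N2090 F16317) (tt N3764 D4941) (tt N2835 F16318) (tt N3763 (iv F23034)) (tt N2102 F16319) (tt N3743 (iv F22936)) (tt N2088 (iv D3415)) (tt N3765 D4942))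
theorem Q2837 : ∀ i, i < 2837 → P i := stepQ 2836 Q2836 (allL N2836 (tt N3756 (iv F22999)) (tt N2092 F16320) (tt N3761 (iv F23024)) (tt N2836 F16321) (tt N2089 (iv D3416)) (tt N2836 F16322) (tt N3766 D4943) (tt N3744 (iv F22940)) (tt N3767 D4944) (tt N2836 F16323))
theorem Q2838 : ∀ i, i < 2838 → P i := stepQ 2837 Q2837 (allL N2837 (tt N3757 (iv F23004)) (tt N2093 F16324) (tt N3762 (iv F23028)) (tt N2091 F16325) (tt N3766 (iv F23045)) (tt N2104 F16326) (tt N2089 (iv D3417)) (tt N3768 D4945) (tt N3769 D4946) (tt N2837 F16327))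
theorem Q2839 : ∀ i, i < 2839 → P i := stepQ 2838 Q2838 (allL N2838 (tt N3758 (iv F23009)) (tt N2094 F16328) (tt N3763 (iv F23033)) (tt N3647 (iv F22482)) (tt N3767 (iv F23048)) (tt N2090 F16329) (tt N3769 (iv F23056)) (tt N3746 (iv F22948)) (tt N2089 (iv D3418)) (tt N3770 D4947))
theorem Q2840 : ∀ i, i < 2840 → P i := stepQ 2839 Q2839 (allL N2839 (tt N3759 (iv F23012)) (tt N2095 F16330) (tt N3765 (iv F23039)) (tt N3648 (iv F22485)) (tt N2839 F16331) (tt N3770 (iv F23058)) (tt N2106 F16332) (tt N3747 (iv F22952)) (tt N2839 F16333) (tt N2090 (iv D3419)))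
theorem Q2841 : ∀ i, i < 2841 → P i := stepQ 2840 Q2840 (allL N2840 (tt N3760 (iv F23017)) (tt N2096 F16334) (tt N2304 F16335) (tt N3768 (iv F23051)) (tt N2840 F16336) (tt N2107 F16337) (tt N3748 (iv F22958)) (tt N2091 (iv D3420)) (tt N3649 (iv F22491)) (tt N2840 F16338))
theorem Q2842 : ∀ i, i < 2842 → P i := stepQ 2841 Q2841 (allL N2841 (tt N2841 F16339) (tt N3766 (iv F23043)) (tt N2841 F16340) (tt N2841 F16341) (tt N2093 F16342) (tt N3771 D4948) (tt N2092 (iv D3421)) (tt N3772 D4949) (tt N3773 D4950) (tt N2841 F16343))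
theorem Q2843 : ∀ i, i < 2843 → P i := stepQ 2842 Q2842 (allL N2842 (tt N2842 F16344) (tt N3767 (iv F23047)) (tt N2842 F16345) (tt N3774 D4951) (tt N2094 F16346) (tt N2842 F16347) (tt N3773 (iv F23074)) (tt N3750 (iv F22969)) (tt N2092 (iv D3422)) (tt N3775 D4952))
theorem Q2844 : ∀ i, i < 2844 → P i := stepQ 2843 Q2843 (allL N2843 (tt N2843 F16348) (tt N3768 (iv F23050)) (tt N2843 F16349) (tt N2096 F16350) (tt N3772 (iv F23069)) (tt N2110 F16351) (tt N3751 (iv F22974)) (tt N2093 (iv D3423)) (tt N3776 D4953) (tt N2843 F16352))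
theorem Q2845 : ∀ i, i < 2845 → P i := stepQ 2844 Q2844 (allL N2844 (tt N2844 F16353) (tt N3769 (iv F23054)) (tt N2844 F16354) (tt N3653 (iv F22501)) (tt N3773 (iv F23073)) (tt N2111 F16355) (tt N2094 F16356) (tt N3776 (iv F23086)) (tt N2093 (iv D3424)) (tt N3777 D4954))
theorem Q2846 : ∀ i, i < 2846 → P i := stepQ 2845 Q2845 (allL N2845 (tt N2845 F16357) (tt N3770 (iv F23057)) (tt N2845 F16358) (tt N3654 (iv F22505)) (tt N3775 (iv F23080)) (tt N2095 F16359) (tt N3777 (iv F23090)) (tt N3753 (iv F22983)) (tt N2845 F16360) (tt N2094 (iv D3425)))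
theorem Q2847 : ∀ i, i < 2847 → P i := stepQ 2846 Q2846 (allL N2846 (tt N2101 F16367) (tt N3581 F202376) (tt N2098 F16368) (tt N2310 F16369) (tt N3778 D4957) (tt N2097 (iv D3427)) (tt N3779 D4958) (tt N2846 F16370) (tt N3780 D4959) (tt N2846 F16371))
theorem Q2848 : ∀ i, i < 2848 → P i := stepQ 2847 Q2847 (allL N2847 (tt N2102 F16372) (tt N3582 F202364) (tt N2099 F16373) (tt N3587 F202365) (tt N2847 F16374) (tt N3780 (iv F23115)) (tt N3755 (iv F22998)) (tt N2847 F16375) (tt N2097 (iv D3428)) (tt N3781 D4961))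
theorem Q2849 : ∀ i, i < 2849 → P i := stepQ 2848 Q2848 (allL N2848 (tt N2103 F16376) (tt N2848 F16377) (tt N3778 (iv F23104)) (tt N2113 F16378) (tt N2098 (iv D3429)) (tt N2848 F16379) (tt N3782 D4962) (tt N2848 F16380) (tt N3783 D4963) (tt N2848 F16381))
theorem Q2850 : ∀ i, i < 2850 → P i := stepQ 2849 Q2849 (allL N2849 (tt N2104 F16382) (tt N2849 F16383) (tt N3779 (iv F23110)) (tt N2100 F16384) (tt N3782 (iv F23128)) (tt N3757 (iv F23007)) (tt N2098 (iv D3430)) (tt N3784 D4964) (tt N3785 D4965) (tt N2849 F16385))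
theorem Q2851 : ∀ i, i < 2851 → P i := stepQ 2850 Q2850 (allL N2850 (tt N2105 F16386) (tt N2850 F16387) (tt N3780 (iv F23114)) (tt N3676 (iv F22591)) (tt N3783 (iv F23132)) (tt N2099 F16388) (tt N3785 (iv F23142)) (tt N2850 F16389) (tt N2098 (iv D3431)) (tt N3786 D4966))
theorem Q2852 : ∀ i, i < 2852 → P i := stepQ 2851 Q2851 (allL N2851 (tt N2106 F16390) (tt N2851 F16391) (tt N3781 (iv F23121)) (tt N3677 (iv F22596)) (tt N2851 F16392) (tt N3786 (iv F23145)) (tt N3759 (iv F23015)) (tt N2851 F16393) (tt N2851 F16394) (tt N2099 (iv D3432)))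
theorem Q2853 : ∀ i, i < 2853 → P i := stepQ 2852 Q2852 (allL N2852 (tt N2107 F16395) (tt N2852 F16396) (tt N2312 F16397) (tt N3784 (iv F23137)) (tt N2117 F16398) (tt N3760 (iv F23021)) (tt N2852 F16399) (tt N2100 (iv D3433)) (tt N3678 (iv F22603)) (tt N2852 F16400))
theorem Q2854 : ∀ i, i < 2854 → P i := stepQ 2853 Q2853 (allL N2853 (tt N3778 (iv F23103)) (tt N2853 F16401) (tt N2103 F16402) (tt N2853 F16403) (tt N2101 (iv D3434)) (tt N2853 F16404) (tt N3787 D4967) (tt N2853 F16405) (tt N3788 D4968) (tt N2853 F16406))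
theorem Q2855 : ∀ i, i < 2855 → P i := stepQ 2854 Q2854 (allL N2854 (tt N3779 (iv F23109)) (tt N2854 F16407) (tt N2104 F16408) (tt N2313 F16409) (tt N3787 (iv F23151)) (tt N3762 (iv F23030)) (tt N2101 (iv D3435)) (tt N3789 D4969) (tt N3790 D4970) (tt N2854 F16410))
theorem Q2856 : ∀ i, i < 2856 → P i := stepQ 2855 Q2855 (allL N2855 (tt N3780 (iv F23113)) (tt N2855 F16411) (tt N2105 F16412) (tt N3791 D4971) (tt N3788 (iv F23155)) (tt N2102 F16413) (tt N3790 (iv F23165)) (tt N2855 F16414) (tt N2101 (iv D3436)) (tt N3792 D4972))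
theorem Q2857 : ∀ i, i < 2857 → P i := stepQ 2856 Q2856 (allL N2856 (tt N3587 F202346) (tt N2856 F16415) (tt N3682 (iv F22611)) (tt N2102 (iv D3437)) (tt N3793 D4973) (tt N3791 (iv F23167)) (tt N3764 (iv F23036)) (tt N2856 F16416) (tt N2315 F16417) (tt N3794 D4974))
theorem Q2858 : ∀ i, i < 2858 → P i := stepQ 2857 Q2857 (allL N2857 (tt N3781 (iv F23120)) (tt N2857 F16418) (tt N2106 F16419) (tt N3794 (iv F23180)) (tt N2857 F16420) (tt N3792 (iv F23172)) (tt N3765 (iv F23041)) (tt N2857 F16421) (tt N2857 F16422) (tt N2102 (iv D3438)))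
theorem Q2859 : ∀ i, i < 2859 → P i := stepQ 2858 Q2858 (allL N2858 (tt N3782 (iv F23125)) (tt N2108 F16423) (tt N3787 (iv F23149)) (tt N2118 F16424) (tt N2104 F16425) (tt N3795 D4975) (tt N2103 (iv D3439)) (tt N3796 D4976) (tt N3797 D4977) (tt N2858 F16426))
theorem Q2860 : ∀ i, i < 2860 → P i := stepQ 2859 Q2859 (allL N2859 (tt N3783 (iv F23130)) (tt N2109 F16427) (tt N3788 (iv F23154)) (tt N3798 D4978) (tt N2105 F16428) (tt N2859 F16429) (tt N3797 (iv F23193)) (tt N2859 F16430) (tt N2103 (iv D3440)) (tt N3799 D4979))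
theorem Q2861 : ∀ i, i < 2861 → P i := stepQ 2860 Q2860 (allL N2860 (tt N3784 (iv F23135)) (tt N2110 F16431) (tt N3789 (iv F23159)) (tt N2107 F16432) (tt N3796 (iv F23188)) (tt N3768 (iv F23052)) (tt N2860 F16433) (tt N2104 (iv D3441)) (tt N3800 D4980) (tt N2860 F16434))
theorem Q2862 : ∀ i, i < 2862 → P i := stepQ 2861 Q2861 (allL N2861 (tt N3785 (iv F23140)) (tt N2111 F16435) (tt N3790 (iv F23164)) (tt N3687 (iv F22626)) (tt N3797 (iv F23192)) (tt N3769 (iv F23055)) (tt N2105 F16436) (tt N3800 (iv F23205)) (tt N2104 (iv D3442)) (tt N3801 D4981))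
theorem Q2863 : ∀ i, i < 2863 → P i := stepQ 2862 Q2862 (allL N2862 (tt N3786 (iv F23143)) (tt N2112 F16437) (tt N3792 (iv F23171)) (tt N3688 (iv F22629)) (tt N3799 (iv F23199)) (tt N2106 F16438) (tt N3801 (iv F23207)) (tt N2862 F16439) (tt N2862 F16440) (tt N2105 (iv D3443)))
theorem Q2864 : ∀ i, i < 2864 → P i := stepQ 2863 Q2863 (allL N2863 (tt N2863 F16441) (tt N3795 (iv F23182)) (tt N2863 F16442) (tt N2123 F16443) (tt N3771 (iv F23063)) (tt N2108 (iv D3444)) (tt N2863 F16444) (tt N3802 D4982) (tt N3803 D4983) (tt N2863 F16445))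
theorem Q2865 : ∀ i, i < 2865 → P i := stepQ 2864 Q2864 (allL N2864 (tt N2864 F16446) (tt N3796 (iv F23186)) (tt N2864 F16447) (tt N2124 F16448) (tt N2110 F16449) (tt N3802 (iv F23212)) (tt N2864 F16450) (tt N2108 (iv D3445)) (tt N3804 D4984) (tt N2864 F16451))
theorem Q2866 : ∀ i, i < 2866 → P i := stepQ 2865 Q2865 (allL N2865 (tt N2865 F16452) (tt N3797 (iv F23191)) (tt N2865 F16453) (tt N3805 D4985) (tt N2111 F16454) (tt N3803 (iv F23216)) (tt N2109 F16455) (tt N3804 (iv F23222)) (tt N2108 (iv D3446)) (tt N3806 D4986))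
theorem Q2867 : ∀ i, i < 2867 → P i := stepQ 2866 Q2866 (allL N2866 (tt N2866 F16456) (tt N3798 (iv F23194)) (tt N3807 D4987) (tt N2109 (iv D3447)) (tt N3692 (iv F22642)) (tt N2866 F16457) (tt N3805 (iv F23224)) (tt N2866 F16458) (tt N2126 F16459) (tt N3808 D4988))
theorem Q2868 : ∀ i, i < 2868 → P i := stepQ 2867 Q2867 (allL N2867 (tt N2867 F16460) (tt N3799 (iv F23198)) (tt N2867 F16461) (tt N3808 (iv F23237)) (tt N2112 F16462) (tt N2867 F16463) (tt N3806 (iv F23229)) (tt N2867 F16464) (tt N2867 F16465) (tt N2109 (iv D3448)))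
theorem Q2869 : ∀ i, i < 2869 → P i := stepQ 2868 Q2868 (allL N2868 (tt N2868 F16466) (tt N3800 (iv F23203)) (tt N2868 F16467) (tt N3694 (iv F22649)) (tt N3804 (iv F23220)) (tt N3776 (iv F23085)) (tt N2868 F16468) (tt N2111 F16469) (tt N2110 (iv D3449)) (tt N3809 D4989))
theorem Q2870 : ∀ i, i < 2870 → P i := stepQ 2869 Q2869 (allL N2869 (tt N2869 F16470) (tt N3801 (iv F23206)) (tt N2869 F16471) (tt N3695 (iv F22653)) (tt N3806 (iv F23228)) (tt N3777 (iv F23089)) (tt N2112 F16472) (tt N3809 (iv F23243)) (tt N2869 F16473) (tt N2111 (iv D3450)))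
theorem Q2871 : ∀ i, i < 2871 → P i := stepQ 2870 Q2870 (allL N2870 (tt N2118 F16474) (tt N2870 F16475) (tt N2870 F16476) (tt N3782 (iv F23127)) (tt N2114 F16477) (tt N3810 D4990) (tt N2113 (iv D3451)) (tt N3811 D4991) (tt N3812 D4992) (tt N2870 F16478))
theorem Q2872 : ∀ i, i < 2872 → P i := stepQ 2871 Q2871 (allL N2871 (tt N2119 F16479) (tt N2871 F16480) (tt N2871 F16481) (tt N3813 D4993) (tt N2115 F16482) (tt N2871 F16483) (tt N3812 (iv F23261)) (tt N2871 F16484) (tt N2113 (iv D3452)) (tt N3814 D4994))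
theorem Q2873 : ∀ i, i < 2873 → P i := stepQ 2872 Q2872 (allL N2872 (tt N2120 F16485) (tt N2872 F16486) (tt N2872 F16487) (tt N2117 F16488) (tt N3811 (iv F23254)) (tt N2872 F16489) (tt N2872 F16490) (tt N2114 (iv D3453)) (tt N3815 D4995) (tt N2872 F16491))
theorem Q2874 : ∀ i, i < 2874 → P i := stepQ 2873 Q2873 (allL N2873 (tt N2121 F16492) (tt N2873 F16493) (tt N2873 F16494) (tt N3717 (iv F22815)) (tt N3812 (iv F23260)) (tt N2873 F16495) (tt N2115 F16496) (tt N3815 (iv F23278)) (tt N2114 (iv D3454)) (tt N3816 D4996))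
theorem Q2875 : ∀ i, i < 2875 → P i := stepQ 2874 Q2874 (allL N2874 (tt N2122 F16497) (tt N2874 F16498) (tt N2874 F16499) (tt N3501 F204022) (tt N3814 (iv F23269)) (tt N2116 F16500) (tt N3816 (iv F23283)) (tt N2874 F16501) (tt N2874 F16502) (tt N2115 (iv D3455)))
theorem Q2876 : ∀ i, i < 2876 → P i := stepQ 2875 Q2875 (allL N2875 (tt N3810 (iv F23245)) (tt N2123 F16503) (tt N2875 F16504) (tt N3795 (iv F23183)) (tt N2875 F16505) (tt N2118 (iv D3456)) (tt N2875 F16506) (tt N3817 D4997) (tt N3818 D4998) (tt N2875 F16507))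
theorem Q2877 : ∀ i, i < 2877 → P i := stepQ 2876 Q2876 (allL N2876 (tt N3811 (iv F23251)) (tt N2124 F16508) (tt N2876 F16509) (tt N3796 (iv F23187)) (tt N2120 F16510) (tt N3817 (iv F23288)) (tt N2876 F16511) (tt N2118 (iv D3457)) (tt N3819 D4999) (tt N2876 F16512))
theorem Q2878 : ∀ i, i < 2878 → P i := stepQ 2877 Q2877 (allL N2877 (tt N3812 (iv F23257)) (tt N2125 F16513) (tt N2877 F16514) (tt N3820 D5000) (tt N2121 F16515) (tt N3818 (iv F23293)) (tt N2119 F16516) (tt N3819 (iv F23299)) (tt N2118 (iv D3458)) (tt N3821 D5001))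
theorem Q2879 : ∀ i, i < 2879 → P i := stepQ 2878 Q2878 (allL N2878 (tt N3813 (iv F23262)) (tt N2126 F16517) (tt N3822 D5002) (tt N2119 (iv D3459)) (tt N3726 (iv F22857)) (tt N2878 F16518) (tt N3820 (iv F23301)) (tt N2878 F16519) (tt N3798 (iv F23197)) (tt N3823 D5003))
theorem Q2880 : ∀ i, i < 2880 → P i := stepQ 2879 Q2879 (allL N2879 (tt N3814 (iv F23266)) (tt N2127 F16520) (tt N2879 F16521) (tt N3823 (iv F23311)) (tt N2122 F16522) (tt N2879 F16523) (tt N3821 (iv F23305)) (tt N2879 F16524) (tt N2879 F16525) (tt N2119 (iv D3460)))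
theorem Q2881 : ∀ i, i < 2881 → P i := stepQ 2880 Q2880 (allL N2880 (tt N3815 (iv F23273)) (tt N2128 F16526) (tt N2880 F16527) (tt N3728 (iv F22863)) (tt N3819 (iv F23297)) (tt N2880 F16528) (tt N2880 F16529) (tt N2121 F16530) (tt N2120 (iv D3461)) (tt N3824 D5004))
theorem Q2882 : ∀ i, i < 2882 → P i := stepQ 2881 Q2881 (allL N2881 (tt N3816 (iv F23279)) (tt N2129 F16531) (tt N2881 F16532) (tt N3729 (iv F22868)) (tt N3821 (iv F23304)) (tt N2881 F16533) (tt N2122 F16534) (tt N3824 (iv F23318)) (tt N2881 F16535) (tt N2121 (iv D3462)))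
theorem Q2883 : ∀ i, i < 2883 → P i := stepQ 2882 Q2882 (allL N2882 (tt N2882 F16536) (tt N3817 (iv F23285)) (tt N2130 F16537) (tt N3802 (iv F23211)) (tt N2882 F16538) (tt N2124 F16539) (tt N3825 D5005) (tt N2123 (iv D3463)) (tt N3826 D5006) (tt N2882 F16540))
theorem Q2884 : ∀ i, i < 2884 → P i := stepQ 2883 Q2883 (allL N2883 (tt N2883 F16541) (tt N3818 (iv F23290)) (tt N2131 F16542) (tt N3827 D5007) (tt N2883 F16543) (tt N2125 F16544) (tt N2883 F16545) (tt N3826 (iv F23330)) (tt N2123 (iv D3464)) (tt N3828 D5008))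
theorem Q2885 : ∀ i, i < 2885 → P i := stepQ 2884 Q2884 (allL N2884 (tt N2884 F16546) (tt N3819 (iv F23295)) (tt N2132 F16547) (tt N3829 D5009) (tt N2128 F16548) (tt N3826 (iv F23329)) (tt N2884 F16549) (tt N2125 F16550) (tt N2124 (iv D3465)) (tt N3830 D5010))
theorem Q2886 : ∀ i, i < 2886 → P i := stepQ 2885 Q2885 (allL N2885 (tt N2885 F16551) (tt N3820 (iv F23300)) (tt N3831 D5011) (tt N2125 (iv D3466)) (tt N3733 (iv F22885)) (tt N3827 (iv F23332)) (tt N2126 F16552) (tt N3829 (iv F23342)) (tt N3805 (iv F23225)) (tt N3832 D5012))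
theorem Q2887 : ∀ i, i < 2887 → P i := stepQ 2886 Q2886 (allL N2886 (tt N2886 F16553) (tt N3821 (iv F23302)) (tt N2134 F16554) (tt N3832 (iv F23353)) (tt N2129 F16555) (tt N3828 (iv F23337)) (tt N2127 F16556) (tt N3830 (iv F23347)) (tt N2886 F16557) (tt N2125 (iv D3467)))
theorem Q2888 : ∀ i, i < 2888 → P i := stepQ 2887 Q2887 (allL N2887 (tt N2887 F16558) (tt N3833 D5013) (tt N2126 (iv D3468)) (tt N2135 F16559) (tt N3735 (iv F22893)) (tt N2887 F16560) (tt N3831 (iv F23351)) (tt N2887 F16561) (tt N3807 (iv F23235)) (tt N3834 D5014))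
theorem Q2889 : ∀ i, i < 2889 → P i := stepQ 2888 Q2888 (allL N2888 (tt N2888 F16562) (tt N3823 (iv F23310)) (tt N3834 (iv F23359)) (tt N2127 F16563) (tt N3736 (iv F22897)) (tt N2888 F16564) (tt N3832 (iv F23354)) (tt N2888 F16565) (tt N3835 D5015) (tt N2126 (iv D3469)))
theorem Q2890 : ∀ i, i < 2890 → P i := stepQ 2889 Q2889 (allL N2889 (tt N2889 F16566) (tt N3824 (iv F23314)) (tt N2137 F16567) (tt N3737 (iv F22901)) (tt N3830 (iv F23345)) (tt N2889 F16568) (tt N2889 F16569) (tt N2129 F16570) (tt N2889 F16571) (tt N2128 (iv D3470)))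
theorem Q2891 : ∀ i, i < 2891 → P i := stepQ 2890 Q2890 (allL N2890 (tt N2890 F16572) (tt N2890 F16573) (tt N3825 (iv F23321)) (tt N2890 F16574) (tt N2890 F16575) (tt N2890 F16576) (tt N2130 (iv D3471)) (tt N2890 F16577) (tt N2136 F204930) (tt N2890 F16578))
theorem Q2892 : ∀ i, i < 2892 → P i := stepQ 2891 Q2891 (allL N2891 (tt N2891 F16579) (tt N2891 F16580) (tt N3826 (iv F23327)) (tt N2134 F204853) (tt N2891 F16581) (tt N2132 F16582) (tt N2136 (iv F204909)) (tt N2131 F16583) (tt N2130 (iv D3472)) (tt N2133 F204854))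
theorem Q2893 : ∀ i, i < 2893 → P i := stepQ 2892 Q2892 (allL N2892 (tt N2892 F16584) (tt N2892 F16585) (tt N3830 F204863) (tt N2131 (iv D3473)) (tt N2137 (iv F204908)) (tt N2133 F16586) (tt N2892 F16587) (tt N2134 F204864) (tt N2892 F16588) (tt N2132 F204865))
theorem Q2894 : ∀ i, i < 2894 → P i := stepQ 2893 Q2893 (allL N2893 (tt N2893 F16589) (tt N2893 F16590) (tt N3828 (iv F23335)) (tt N2132 (iv F204810)) (tt N2893 F16591) (tt N2134 F16592) (tt N2893 F16593) (tt N2133 (iv F204827)) (tt N2893 F16594) (tt N2131 (iv D3474)))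
theorem Q2895 : ∀ i, i < 2895 → P i := stepQ 2894 Q2894 (allL N2894 (tt N2894 F16607) (tt N3836 D5024) (tt N2133 (iv D3477)) (tt N3831 (iv F23350)) (tt N2894 F16608) (tt N3830 (iv F204812)) (tt N2135 F16609) (tt N3828 F204746) (tt N2894 F16610) (tt N3826 (iv F204802)))
theorem Q2896 : ∀ i, i < 2896 → P i := stepQ 2895 Q2895 (allL N2895 (tt N3837 D5027) (tt N2135 (iv D3479)) (tt N2895 F16616) (tt N3833 (iv F23355)) (tt N2895 F16617) (tt N2895 F16618) (tt N3836 (iv F23412)) (tt N2895 F16619) (tt N2895 F16620) (tt N3838 D5028))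
theorem Q2897 : ∀ i, i < 2897 → P i := stepQ 2896 Q2896 (allL N2896 (tt N2896 F16621) (tt N3838 (iv F23430)) (tt N2136 F16622) (tt N3834 (iv F23360)) (tt N2896 F16623) (tt N2896 F16624) (tt N3826 F204851) (tt N2896 F16625) (tt N3825 (iv F204910)) (tt N2135 (iv D3480)))
theorem Q2898 : ∀ i, i < 2898 → P i := stepQ 2897 Q2897 (allL N2897 (tt N2342 F16633) (tt N2897 F16634) (tt N2897 F16635) (tt N2138 (iv D3482)) (tt N2897 F16636) (tt N3839 D5030) (tt N2146 F16637) (tt N2897 F16638) (tt N3840 D5031) (tt N3841 D5032))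
theorem Q2899 : ∀ i, i < 2899 → P i := stepQ 2898 Q2898 (allL N2898 (tt N2343 F16639) (tt N2898 F16640) (tt N2140 F16641) (tt N3839 (iv F23444)) (tt N2898 F16642) (tt N2138 (iv D3483)) (tt N2898 F16643) (tt N2898 F16644) (tt N2898 F16645) (tt N3842 D5033))
theorem Q2900 : ∀ i, i < 2900 → P i := stepQ 2899 Q2899 (allL N2899 (tt N2344 F16646) (tt N2899 F16647) (tt N2141 F16648) (tt N3841 (iv F23457)) (tt N2139 F16649) (tt N3842 (iv F23465)) (tt N2147 F16650) (tt N2899 F16651) (tt N2519 F202479) (tt N2138 (iv D3484)))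
theorem Q2901 : ∀ i, i < 2901 → P i := stepQ 2900 Q2900 (allL N2900 (tt N2345 F16659) (tt N3514 (iv F21838)) (tt N3842 (iv F23463)) (tt N2900 F16660) (tt N2900 F16661) (tt N2141 F16662) (tt N2900 F16663) (tt N2900 F16664) (tt N3843 D5036) (tt N2140 (iv D3486)))
theorem Q2902 : ∀ i, i < 2902 → P i := stepQ 2901 Q2901 (allL N2901 (tt N2346 F16665) (tt N3515 (iv F21846)) (tt N2519 (iv F202089)) (tt N3844 D5037) (tt N2142 F16666) (tt N3843 (iv F23484)) (tt N2148 F16667) (tt N2901 F16668) (tt N2141 (iv D3487)) (tt N2901 F16669))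
theorem Q2903 : ∀ i, i < 2903 → P i := stepQ 2902 Q2902 (allL N2902 (tt N2347 F16670) (tt N3516 (iv F21853)) (tt N2513 (iv F201291)) (tt N2142 (iv D3488)) (tt N3845 D5039) (tt N2902 F16671) (tt N2149 F16672) (tt N2902 F16673) (tt N2143 F16674) (tt N2902 F16675))
theorem Q2904 : ∀ i, i < 2904 → P i := stepQ 2903 Q2903 (allL N2903 (tt N2348 F16676) (tt N3846 D5040) (tt N2143 (iv D3489)) (tt N2903 F16677) (tt N3847 D5041) (tt N2903 F16678) (tt N2150 F16679) (tt N2903 F16680) (tt N2513 (iv F201292)) (tt N2144 F16681))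
theorem Q2905 : ∀ i, i < 2905 → P i := stepQ 2904 Q2904 (allL N2904 (tt N2349 F16682) (tt N3518 (iv F21865)) (tt N3847 (iv F23510)) (tt N2904 F16683) (tt N2143 (iv D3490)) (tt N3848 D5042) (tt N2151 F16684) (tt N2904 F16685) (tt N3845 (iv F23502)) (tt N2145 F16686))
theorem Q2906 : ∀ i, i < 2906 → P i := stepQ 2905 Q2905 (allL N2905 (tt N3849 D5043) (tt N2144 (iv D3491)) (tt N3519 (iv F21870)) (tt N2905 F16687) (tt N3850 D5044) (tt N2905 F16688) (tt N2152 F16689) (tt N2905 F16690) (tt N2905 F16691) (tt N3846 (iv F23508)))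
theorem Q2907 : ∀ i, i < 2907 → P i := stepQ 2906 Q2906 (allL N2906 (tt N2351 F16692) (tt N3850 (iv F23525)) (tt N2145 F16693) (tt N3851 D5045) (tt N2144 (iv D3492)) (tt N3852 D5046) (tt N2153 F16694) (tt N2906 F16695) (tt N2906 F16696) (tt N3847 (iv F23513)))
theorem Q2908 : ∀ i, i < 2908 → P i := stepQ 2907 Q2907 (allL N2907 (tt N2352 F16697) (tt N3521 (iv F21881)) (tt N3852 (iv F23535)) (tt N2907 F16698) (tt N2907 F16699) (tt N2145 (iv D3493)) (tt N3853 D5047) (tt N2907 F16700) (tt N2907 F16701) (tt N3848 (iv F23518)))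
theorem Q2909 : ∀ i, i < 2909 → P i := stepQ 2908 Q2908 (allL N2908 (tt N2354 F16702) (tt N2908 F16703) (tt N2908 F16704) (tt N2908 F16705) (tt N2908 F16706) (tt N2908 F16707) (tt N3840 (iv F23452)) (tt N2155 F16708) (tt N2146 (iv D3494)) (tt N2908 F195349))
theorem Q2910 : ∀ i, i < 2910 → P i := stepQ 2909 Q2909 (allL N2909 (tt N2355 F16709) (tt N2909 F16710) (tt N2909 F16711) (tt N2147 F16712) (tt N2909 F16713) (tt N2909 F16714) (tt N3841 (iv F23459)) (tt N2156 F16715) (tt N2909 F195198) (tt N2146 (iv D3495)))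
theorem Q2911 : ∀ i, i < 2911 → P i := stepQ 2910 Q2910 (allL N2910 (tt N2356 F16729) (tt N3522 (iv F21887)) (tt N2910 F194935) (tt N2148 (iv D3498)) (tt N3854 D5054) (tt N2910 F16730) (tt N3844 (iv F23489)) (tt N2157 F16731) (tt N2910 F16732) (tt N2910 F16733))
theorem Q2912 : ∀ i, i < 2912 → P i := stepQ 2911 Q2911 (allL N2911 (tt N2357 F16739) (tt N3524 (iv F21899)) (tt N2512 (iv F201169)) (tt N3854 (iv F23579)) (tt N2149 (iv D3500)) (tt N3855 D5057) (tt N3845 (iv F23500)) (tt N2158 F16740) (tt N2151 F16741) (tt N2911 F16742))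
theorem Q2913 : ∀ i, i < 2913 → P i := stepQ 2912 Q2912 (allL N2912 (tt N2327 (iv F201258)) (tt N2150 (iv D3501)) (tt N3525 (iv F21903)) (tt N2912 F16743) (tt N3856 D5059) (tt N2168 F16744) (tt N3846 (iv F23506)) (tt N2159 F16745) (tt N2321 (iv F201268)) (tt N2152 F16746))
theorem Q2914 : ∀ i, i < 2914 → P i := stepQ 2913 Q2913 (allL N2913 (tt N2358 F16747) (tt N3856 (iv F23602)) (tt N2151 F16748) (tt N3857 D5060) (tt N2150 (iv D3502)) (tt N3858 D5061) (tt N3847 (iv F23511)) (tt N2160 F16749) (tt N2512 (iv F201170)) (tt N2153 F16750))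
theorem Q2915 : ∀ i, i < 2915 → P i := stepQ 2914 Q2914 (allL N2914 (tt N2359 F16751) (tt N3527 (iv F21912)) (tt N3858 (iv F23611)) (tt N2914 F16752) (tt N2170 F16753) (tt N2151 (iv D3503)) (tt N3859 D5062) (tt N2161 F16754) (tt N3855 (iv F23595)) (tt N2154 F16755))
theorem Q2916 : ∀ i, i < 2916 → P i := stepQ 2915 Q2915 (allL N2915 (tt N2152 (iv D3504)) (tt N2331 F200869) (tt N3528 (iv F21918)) (tt N2915 F16757) (tt N3860 D5063) (tt N2171 F16758) (tt N3849 (iv F23522)) (tt N2162 F16759) (tt N2915 F16760) (tt N2327 (iv F201259)))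
theorem Q2917 : ∀ i, i < 2917 → P i := stepQ 2916 Q2916 (allL N2916 (tt N3860 (iv F23619)) (tt N2153 F16761) (tt N3529 (iv F21923)) (tt N3861 D5064) (tt N2152 (iv D3505)) (tt N3862 D5065) (tt N3850 (iv F23526)) (tt N2163 F16762) (tt N2916 F16763) (tt N3856 (iv F23604)))
theorem Q2918 : ∀ i, i < 2918 → P i := stepQ 2917 Q2917 (allL N2917 (tt N2361 F16764) (tt N3861 (iv F23623)) (tt N2917 F16765) (tt N2153 (iv D3506)) (tt N2917 F16766) (tt N3863 D5066) (tt N3851 (iv F23532)) (tt N2164 F16767) (tt N3864 D5067) (tt N3857 (iv F23609)))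
theorem Q2919 : ∀ i, i < 2919 → P i := stepQ 2918 Q2918 (allL N2918 (tt N2362 F16768) (tt N3862 (iv F23626)) (tt N2154 F16769) (tt N3863 (iv F23632)) (tt N2174 F16770) (tt N2153 (iv D3507)) (tt N3865 D5068) (tt N2165 F16771) (tt N2918 F16772) (tt N3858 (iv F23614)))
theorem Q2920 : ∀ i, i < 2920 → P i := stepQ 2919 Q2919 (allL N2919 (tt N2363 F16773) (tt N3532 (iv F21935)) (tt N3865 (iv F23640)) (tt N2919 F16774) (tt N2175 F16775) (tt N3853 (iv F23542)) (tt N2154 (iv D3508)) (tt N3866 D5069) (tt N2919 F16776) (tt N3859 (iv F23618)))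
theorem Q2921 : ∀ i, i < 2921 → P i := stepQ 2920 Q2920 (allL N2920 (tt N2366 F16811) (tt N3534 (iv F21946)) (tt N2920 F194576) (tt N2158 F16812) (tt N2157 (iv D3515)) (tt N3867 D5079) (tt N2920 F16813) (tt N3854 (iv F23580)) (tt N2920 F16814) (tt N2920 F16815))
theorem Q2922 : ∀ i, i < 2922 → P i := stepQ 2921 Q2921 (allL N2921 (tt N2367 F16825) (tt N3536 (iv F21963)) (tt N2502 (iv F200804)) (tt N3867 (iv F23696)) (tt N2176 F16826) (tt N2158 (iv D3518)) (tt N3868 D5084) (tt N3855 (iv F23594)) (tt N2161 F16827) (tt N2921 F16828))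
theorem Q2923 : ∀ i, i < 2923 → P i := stepQ 2922 Q2922 (allL N2922 (tt N2337 (iv F201606)) (tt N2160 F16834) (tt N3537 (iv F21973)) (tt N3869 D5086) (tt N2159 (iv D3520)) (tt N3870 D5087) (tt N2922 F16835) (tt N3856 (iv F23603)) (tt N2333 (iv F201612)) (tt N2163 F16836))
theorem Q2924 : ∀ i, i < 2924 → P i := stepQ 2923 Q2923 (allL N2923 (tt N2368 F16837) (tt N3869 (iv F23726)) (tt N2923 F16838) (tt N2160 (iv D3521)) (tt N2923 F16839) (tt N3871 D5088) (tt N2923 F16840) (tt N3857 (iv F23608)) (tt N2923 F194563) (tt N2164 F16841))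
theorem Q2925 : ∀ i, i < 2925 → P i := stepQ 2924 Q2924 (allL N2924 (tt N2369 F16842) (tt N3870 (iv F23730)) (tt N2161 F16843) (tt N3871 (iv F23735)) (tt N2179 F16844) (tt N2160 (iv D3522)) (tt N3872 D5090) (tt N3858 (iv F23613)) (tt N2502 (iv F200805)) (tt N2165 F16845))
theorem Q2926 : ∀ i, i < 2926 → P i := stepQ 2925 Q2925 (allL N2925 (tt N2370 F16846) (tt N3540 (iv F21985)) (tt N3872 (iv F23742)) (tt N2925 F16847) (tt N2180 F16848) (tt N2925 F16849) (tt N2161 (iv D3523)) (tt N3873 D5091) (tt N3868 (iv F23720)) (tt N2166 F16850))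
theorem Q2927 : ∀ i, i < 2927 → P i := stepQ 2926 Q2926 (allL N2926 (tt N2163 F16851) (tt N2339 (iv F201289)) (tt N3541 (iv F21992)) (tt N3874 D5092) (tt N2162 (iv D3524)) (tt N3875 D5093) (tt N2926 F16853) (tt N3860 (iv F23621)) (tt N2926 F16854) (tt N2337 (iv F201607)))
theorem Q2928 : ∀ i, i < 2928 → P i := stepQ 2927 Q2927 (allL N2927 (tt N3874 (iv F23751)) (tt N2164 F16855) (tt N3876 D5094) (tt N2163 (iv D3525)) (tt N2927 F16856) (tt N3877 D5095) (tt N2927 F16857) (tt N3861 (iv F23625)) (tt N3878 D5096) (tt N3869 (iv F23729)))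
theorem Q2929 : ∀ i, i < 2929 → P i := stepQ 2928 Q2928 (allL N2928 (tt N3875 (iv F23755)) (tt N2165 F16858) (tt N3543 (iv F21998)) (tt N3877 (iv F23763)) (tt N2183 F16859) (tt N2163 (iv D3526)) (tt N3879 D5097) (tt N3862 (iv F23628)) (tt N2928 F16860) (tt N3870 (iv F23732)))
theorem Q2930 : ∀ i, i < 2930 → P i := stepQ 2929 Q2929 (allL N2929 (tt N2373 F16861) (tt N3877 (iv F23762)) (tt N2929 F16862) (tt N2165 F16863) (tt N3880 D5098) (tt N2164 (iv D3527)) (tt N3881 D5099) (tt N3863 (iv F23633)) (tt N3882 D5100) (tt N3871 (iv F23736)))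
theorem Q2931 : ∀ i, i < 2931 → P i := stepQ 2930 Q2930 (allL N2930 (tt N2374 F16864) (tt N3878 (iv F23764)) (tt N2930 F16865) (tt N2930 F16866) (tt N2930 F16867) (tt N3882 (iv F23783)) (tt N2930 F16868) (tt N3864 (iv F23638)) (tt N2164 (iv D3528)) (tt N2930 F194929))
theorem Q2932 : ∀ i, i < 2932 → P i := stepQ 2931 Q2931 (allL N2931 (tt N2375 F16869) (tt N3879 (iv F23768)) (tt N2166 F16870) (tt N3881 (iv F23778)) (tt N2186 F16871) (tt N2931 F16872) (tt N2165 (iv D3529)) (tt N3883 D5102) (tt N2931 F16873) (tt N3872 (iv F23745)))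
theorem Q2933 : ∀ i, i < 2933 → P i := stepQ 2932 Q2932 (allL N2932 (tt N2376 F16874) (tt N3547 (iv F22014)) (tt N3883 (iv F23790)) (tt N2932 F16875) (tt N2187 F16876) (tt N2932 F16877) (tt N3866 (iv F23646)) (tt N2166 (iv D3530)) (tt N2932 F16878) (tt N3873 (iv F23750)))
theorem Q2934 : ∀ i, i < 2934 → P i := stepQ 2933 Q2933 (allL N2933 (tt N2377 F16902) (tt N3549 (iv F22032)) (tt N2493 (iv F200495)) (tt N2933 F16903) (tt N3855 (iv F23593)) (tt N2167 (iv D3535)) (tt N3884 D5110) (tt N2176 F16904) (tt N2170 F16905) (tt N2933 F16906))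
theorem Q2935 : ∀ i, i < 2935 → P i := stepQ 2934 Q2934 (allL N2934 (tt N2289 (iv F200537)) (tt N2169 F16912) (tt N3550 (iv F22043)) (tt N3885 D5112) (tt N2168 (iv D3537)) (tt N3886 D5113) (tt N2934 F16913) (tt N2177 F16914) (tt N2285 (iv F200545)) (tt N2172 F16915))
theorem Q2936 : ∀ i, i < 2936 → P i := stepQ 2935 Q2935 (allL N2935 (tt N2378 F16916) (tt N3885 (iv F23842)) (tt N2207 F16917) (tt N2169 (iv D3538)) (tt N2935 F16918) (tt N3887 D5114) (tt N2935 F16919) (tt N2178 F16920) (tt N2419 (iv F200133)) (tt N2173 F16921))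
theorem Q2937 : ∀ i, i < 2937 → P i := stepQ 2936 Q2936 (allL N2936 (tt N2379 F16922) (tt N3886 (iv F23847)) (tt N2170 F16923) (tt N3887 (iv F23852)) (tt N3858 (iv F23612)) (tt N2169 (iv D3539)) (tt N3888 D5116) (tt N2179 F16924) (tt N2493 (iv F200496)) (tt N2174 F16925))
theorem Q2938 : ∀ i, i < 2938 → P i := stepQ 2937 Q2937 (allL N2937 (tt N2380 F16926) (tt N3553 (iv F22057)) (tt N3888 (iv F23861)) (tt N2209 F16927) (tt N3859 (iv F23617)) (tt N2937 F16928) (tt N2170 (iv D3540)) (tt N3889 D5117) (tt N3884 (iv F23835)) (tt N2175 F16929))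
theorem Q2939 : ∀ i, i < 2939 → P i := stepQ 2938 Q2938 (allL N2938 (tt N2172 F16930) (tt N2294 F200321) (tt N3554 (iv F22063)) (tt N3890 D5118) (tt N2171 (iv D3541)) (tt N3891 D5119) (tt N2938 F16932) (tt N2181 F16933) (tt N2938 F16934) (tt N2289 (iv F200538)))
theorem Q2940 : ∀ i, i < 2940 → P i := stepQ 2939 Q2939 (allL N2939 (tt N3890 (iv F23869)) (tt N2173 F16935) (tt N3892 D5120) (tt N2172 (iv D3542)) (tt N2939 F16936) (tt N3893 D5121) (tt N2939 F16937) (tt N2182 F16938) (tt N3894 D5122) (tt N3885 (iv F23846)))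
theorem Q2941 : ∀ i, i < 2941 → P i := stepQ 2940 Q2940 (allL N2940 (tt N3891 (iv F23874)) (tt N2174 F16939) (tt N3556 (iv F22071)) (tt N3893 (iv F23883)) (tt N3862 (iv F23627)) (tt N2172 (iv D3543)) (tt N3895 D5123) (tt N2183 F16940) (tt N2940 F16941) (tt N3886 (iv F23849)))
theorem Q2942 : ∀ i, i < 2942 → P i := stepQ 2941 Q2941 (allL N2941 (tt N2383 F16942) (tt N3893 (iv F23882)) (tt N2213 F16943) (tt N2174 F16944) (tt N3896 D5124) (tt N2173 (iv D3544)) (tt N3897 D5125) (tt N2184 F16945) (tt N3898 D5126) (tt N3887 (iv F23854)))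
theorem Q2943 : ∀ i, i < 2943 → P i := stepQ 2942 Q2942 (allL N2942 (tt N2384 F16946) (tt N3894 (iv F23885)) (tt N2214 F16947) (tt N2942 F16948) (tt N2942 F16949) (tt N3898 (iv F23904)) (tt N2942 F16950) (tt N2185 F16951) (tt N2173 (iv D3545)) (tt N3899 D5127))
theorem Q2944 : ∀ i, i < 2944 → P i := stepQ 2943 Q2943 (allL N2943 (tt N2385 F16952) (tt N3895 (iv F23890)) (tt N2175 F16953) (tt N3897 (iv F23899)) (tt N3865 (iv F23641)) (tt N2943 F16954) (tt N2174 (iv D3546)) (tt N3900 D5128) (tt N2943 F16955) (tt N3888 (iv F23863)))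
theorem Q2945 : ∀ i, i < 2945 → P i := stepQ 2944 Q2944 (allL N2944 (tt N2386 F16956) (tt N3560 (iv F22088)) (tt N3900 (iv F23913)) (tt N2216 F16957) (tt N3866 (iv F23645)) (tt N2944 F16958) (tt N2187 F16959) (tt N2175 (iv D3547)) (tt N2944 F16960) (tt N3889 (iv F23868)))
theorem Q2946 : ∀ i, i < 2946 → P i := stepQ 2945 Q2945 (allL N2945 (tt N2387 F16992) (tt N3563 (iv F22114)) (tt N2503 (iv F201165)) (tt N2945 F16993) (tt N3868 (iv F23718)) (tt N2188 F16994) (tt N2176 (iv D3555)) (tt N3901 D5140) (tt N2180 F16995) (tt N2945 F16996))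
theorem Q2947 : ∀ i, i < 2947 → P i := stepQ 2946 Q2946 (allL N2946 (tt N2228 (iv F200486)) (tt N2178 F17001) (tt N3902 D5143) (tt N2177 (iv D3557)) (tt N2946 F17002) (tt N3903 D5144) (tt N2189 F17003) (tt N3885 (iv F23845)) (tt N2224 (iv F200488)) (tt N2182 F17004))
theorem Q2948 : ∀ i, i < 2948 → P i := stepQ 2947 Q2947 (allL N2947 (tt N2303 (iv F201098)) (tt N2179 F17005) (tt N3565 (iv F22128)) (tt N3903 (iv F23985)) (tt N3870 (iv F23731)) (tt N2177 (iv D3558)) (tt N3904 D5146) (tt N3886 (iv F23848)) (tt N2297 (iv F201103)) (tt N2183 F17006))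
theorem Q2949 : ∀ i, i < 2949 → P i := stepQ 2948 Q2948 (allL N2948 (tt N2388 F17007) (tt N3903 (iv F23984)) (tt N2220 F17008) (tt N2179 F17009) (tt N3905 D5147) (tt N2178 (iv D3559)) (tt N3906 D5148) (tt N3887 (iv F23853)) (tt N2435 (iv F200517)) (tt N2184 F17010))
theorem Q2950 : ∀ i, i < 2950 → P i := stepQ 2949 Q2949 (allL N2949 (tt N2389 F17015) (tt N3904 (iv F23990)) (tt N2180 F17016) (tt N3906 (iv F23999)) (tt N3872 (iv F23743)) (tt N2192 F17017) (tt N2179 (iv D3561)) (tt N3907 D5151) (tt N2503 (iv F201166)) (tt N2186 F17018))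
theorem Q2951 : ∀ i, i < 2951 → P i := stepQ 2950 Q2950 (allL N2950 (tt N2390 F17019) (tt N3569 (iv F22142)) (tt N3907 (iv F24011)) (tt N2223 F17020) (tt N3873 (iv F23748)) (tt N2193 F17021) (tt N3889 (iv F23867)) (tt N2180 (iv D3562)) (tt N3901 (iv F23970)) (tt N2187 F17022))
theorem Q2952 : ∀ i, i < 2952 → P i := stepQ 2951 Q2951 (allL N2951 (tt N2182 F17023) (tt N2233 F200262) (tt N3908 D5152) (tt N2181 (iv D3563)) (tt N2951 F17025) (tt N3909 D5153) (tt N2194 F17026) (tt N3890 (iv F23873)) (tt N3910 D5154) (tt N2228 (iv F200487)))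
theorem Q2953 : ∀ i, i < 2953 → P i := stepQ 2952 Q2952 (allL N2952 (tt N2183 F17027) (tt N2309 F200746) (tt N3571 (iv F22151)) (tt N3909 (iv F24019)) (tt N3875 (iv F23757)) (tt N2181 (iv D3564)) (tt N3911 D5155) (tt N3891 (iv F23876)) (tt N2952 F17029) (tt N2303 (iv F201099)))
theorem Q2954 : ∀ i, i < 2954 → P i := stepQ 2953 Q2953 (allL N2953 (tt N3908 (iv F24014)) (tt N2226 F17030) (tt N2182 (iv D3565)) (tt N3572 (iv F22154)) (tt N2953 F17031) (tt N3912 D5156) (tt N2196 F17032) (tt N3892 (iv F23881)) (tt N3913 D5157) (tt N3902 (iv F23983)))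
theorem Q2955 : ∀ i, i < 2955 → P i := stepQ 2954 Q2954 (allL N2954 (tt N3909 (iv F24017)) (tt N2184 F17033) (tt N3912 (iv F24030)) (tt N2183 F17034) (tt N3914 D5158) (tt N2182 (iv D3566)) (tt N3915 D5159) (tt N3893 (iv F23884)) (tt N3916 D5160) (tt N3903 (iv F23986)))
theorem Q2956 : ∀ i, i < 2956 → P i := stepQ 2955 Q2955 (allL N2955 (tt N3910 (iv F24020)) (tt N2185 F17035) (tt N3913 (iv F24032)) (tt N2955 F17036) (tt N2955 F17037) (tt N3916 (iv F24042)) (tt N2198 F17038) (tt N3894 (iv F23889)) (tt N2182 (iv D3567)) (tt N3917 D5161))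
theorem Q2957 : ∀ i, i < 2957 → P i := stepQ 2956 Q2956 (allL N2956 (tt N3911 (iv F24025)) (tt N2186 F17039) (tt N3575 (iv F22162)) (tt N3915 (iv F24038)) (tt N3879 (iv F23769)) (tt N2199 F17040) (tt N2183 (iv D3568)) (tt N3918 D5162) (tt N2956 F17041) (tt N3904 (iv F23992)))
theorem Q2958 : ∀ i, i < 2958 → P i := stepQ 2957 Q2957 (allL N2957 (tt N2395 F17042) (tt N3914 (iv F24035)) (tt N2230 F17043) (tt N3880 (iv F23774)) (tt N2184 (iv D3569)) (tt N2957 F17044) (tt N3919 D5163) (tt N3896 (iv F23896)) (tt N3920 D5164) (tt N3905 (iv F23996)))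
theorem Q2959 : ∀ i, i < 2959 → P i := stepQ 2958 Q2958 (allL N2958 (tt N2396 F17045) (tt N3915 (iv F24037)) (tt N2231 F17046) (tt N2186 F17047) (tt N3919 (iv F24052)) (tt N2201 F17048) (tt N2184 (iv D3570)) (tt N3921 D5165) (tt N3922 D5166) (tt N3906 (iv F24001)))
theorem Q2960 : ∀ i, i < 2960 → P i := stepQ 2959 Q2959 (allL N2959 (tt N2397 F17049) (tt N3916 (iv F24040)) (tt N2232 F17050) (tt N2959 F17051) (tt N3920 (iv F24055)) (tt N2185 F17052) (tt N3922 (iv F24065)) (tt N3898 (iv F23905)) (tt N2184 (iv D3571)) (tt N3923 D5167))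
theorem Q2961 : ∀ i, i < 2961 → P i := stepQ 2960 Q2960 (allL N2960 (tt N2391 F200319) (tt N3917 (iv F24043)) (tt N2233 F17054) (tt N2960 F17055) (tt N2960 F17056) (tt N3923 (iv F24069)) (tt N2203 F17057) (tt N3899 (iv F23911)) (tt N2427 F200320) (tt N2185 (iv D3572)))
theorem Q2962 : ∀ i, i < 2962 → P i := stepQ 2961 Q2961 (allL N2961 (tt N2398 F17058) (tt N3918 (iv F24047)) (tt N2187 F17059) (tt N3921 (iv F24059)) (tt N3883 (iv F23791)) (tt N2204 F17060) (tt N3900 (iv F23915)) (tt N2186 (iv D3573)) (tt N2961 F17061) (tt N3907 (iv F24013)))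
theorem Q2963 : ∀ i, i < 2963 → P i := stepQ 2962 Q2962 (allL N2962 (tt N2399 F17118) (tt N3584 (iv F22215)) (tt N2511 (iv F201224)) (tt N2962 F17119) (tt N2962 F17120) (tt N3901 (iv F23969)) (tt N2962 F17121) (tt N2188 (iv D3585)) (tt N2193 F17122) (tt N2962 F17123))
theorem Q2964 : ∀ i, i < 2964 → P i := stepQ 2963 Q2963 (allL N2963 (tt N2250 (iv F201109)) (tt N2237 F17134) (tt N2189 (iv D3588)) (tt N3585 (iv F22232)) (tt N2963 F17135) (tt N3924 D5190) (tt N3902 (iv F23982)) (tt N2963 F17136) (tt N2246 (iv F201107)) (tt N2196 F17137))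
theorem Q2965 : ∀ i, i < 2965 → P i := stepQ 2964 Q2964 (allL N2964 (tt N2253 (iv F201140)) (tt N2191 F17138) (tt N3924 (iv F24175)) (tt N2190 F17139) (tt N3925 D5192) (tt N2189 (iv D3589)) (tt N3926 D5193) (tt N2964 F17140) (tt N2247 (iv F201146)) (tt N2197 F17141))
theorem Q2966 : ∀ i, i < 2966 → P i := stepQ 2965 Q2965 (allL N2965 (tt N2317 (iv F201850)) (tt N2192 F17145) (tt N3588 (iv F22242)) (tt N3926 (iv F24188)) (tt N2965 F17146) (tt N3904 (iv F23991)) (tt N2190 (iv D3591)) (tt N3927 D5196) (tt N2311 (iv F201858)) (tt N2199 F17147))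
theorem Q2967 : ∀ i, i < 2967 → P i := stepQ 2966 Q2966 (allL N2966 (tt N2400 F17148) (tt N3925 (iv F24182)) (tt N2241 F17149) (tt N2966 F17150) (tt N2191 (iv D3592)) (tt N2966 F17151) (tt N3928 D5197) (tt N2966 F17152) (tt N2453 (iv F201261)) (tt N2200 F17153))
theorem Q2968 : ∀ i, i < 2968 → P i := stepQ 2967 Q2967 (allL N2967 (tt N2401 F17154) (tt N3926 (iv F24187)) (tt N2242 F17155) (tt N2192 F17156) (tt N3928 (iv F24204)) (tt N3906 (iv F24000)) (tt N2191 (iv D3593)) (tt N3929 D5199) (tt N2454 (iv F201220)) (tt N2201 F17157))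
theorem Q2969 : ∀ i, i < 2969 → P i := stepQ 2968 Q2968 (allL N2968 (tt N2402 F17167) (tt N3927 (iv F24197)) (tt N2193 F17168) (tt N3929 (iv F24213)) (tt N2968 F17169) (tt N3907 (iv F24012)) (tt N2968 F17170) (tt N2192 (iv D3596)) (tt N2511 (iv F201225)) (tt N2204 F17171))
theorem Q2970 : ∀ i, i < 2970 → P i := stepQ 2969 Q2969 (allL N2969 (tt N2196 F17172) (tt N3930 D5202) (tt N2194 (iv D3597)) (tt N3594 (iv F22268)) (tt N2969 F17173) (tt N3931 D5203) (tt N3908 (iv F24016)) (tt N2969 F17174) (tt N3932 D5204) (tt N2250 (iv F201110)))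
theorem Q2971 : ∀ i, i < 2971 → P i := stepQ 2970 Q2970 (allL N2970 (tt N2197 F17175) (tt N2259 F200774) (tt N3931 (iv F24229)) (tt N2195 F17177) (tt N3933 D5205) (tt N2194 (iv D3598)) (tt N3934 D5206) (tt N2970 F17178) (tt N3935 D5207) (tt N2253 (iv F201141)))
theorem Q2972 : ∀ i, i < 2972 → P i := stepQ 2971 Q2971 (allL N2971 (tt N2198 F17179) (tt N2244 F200407) (tt N3932 (iv F24232)) (tt N2971 F17181) (tt N2971 F17182) (tt N3935 (iv F24246)) (tt N3910 (iv F24024)) (tt N2971 F17183) (tt N2194 (iv D3599)) (tt N2239 (iv F200536)))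
theorem Q2973 : ∀ i, i < 2973 → P i := stepQ 2972 Q2972 (allL N2972 (tt N2199 F17184) (tt N2319 F201429) (tt N3597 (iv F22280)) (tt N3934 (iv F24242)) (tt N2972 F17186) (tt N3911 (iv F24027)) (tt N2195 (iv D3600)) (tt N3936 D5209) (tt N2972 F17187) (tt N2317 (iv F201851)))
theorem Q2974 : ∀ i, i < 2974 → P i := stepQ 2973 Q2973 (allL N2973 (tt N3931 (iv F24228)) (tt N2249 F17188) (tt N2197 F17189) (tt N3598 (iv F22285)) (tt N3937 D5210) (tt N2196 (iv D3601)) (tt N3938 D5211) (tt N2973 F17190) (tt N3939 D5212) (tt N3924 (iv F24177)))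
theorem Q2975 : ∀ i, i < 2975 → P i := stepQ 2974 Q2974 (allL N2974 (tt N3932 (iv F24231)) (tt N2250 F17191) (tt N2198 F17192) (tt N3940 D5213) (tt N2974 F17193) (tt N3939 (iv F24266)) (tt N3913 (iv F24034)) (tt N2974 F17194) (tt N2196 (iv D3602)) (tt N3930 (iv F201122)))
theorem Q2976 : ∀ i, i < 2976 → P i := stepQ 2975 Q2975 (allL N2975 (tt N3933 (iv F24235)) (tt N2200 F17195) (tt N3937 (iv F24259)) (tt N2975 F17196) (tt N2197 (iv D3603)) (tt N2975 F17197) (tt N3941 D5215) (tt N2975 F17198) (tt N3942 D5216) (tt N3925 (iv F24186)))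
theorem Q2977 : ∀ i, i < 2977 → P i := stepQ 2976 Q2976 (allL N2976 (tt N3934 (iv F24240)) (tt N2201 F17199) (tt N3938 (iv F24263)) (tt N2199 F17200) (tt N3941 (iv F24277)) (tt N3915 (iv F24039)) (tt N2197 (iv D3604)) (tt N3943 D5217) (tt N3944 D5218) (tt N3926 (iv F24189)))
theorem Q2978 : ∀ i, i < 2978 → P i := stepQ 2977 Q2977 (allL N2977 (tt N3935 (iv F24243)) (tt N2202 F17201) (tt N3939 (iv F24265)) (tt N2977 F17202) (tt N3942 (iv F24279)) (tt N2198 F17203) (tt N3944 (iv F24287)) (tt N2977 F17204) (tt N2197 (iv D3605)) (tt N3945 D5219))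
theorem Q2979 : ∀ i, i < 2979 → P i := stepQ 2978 Q2978 (allL N2978 (tt N2239 (iv F200535)) (tt N2203 F17205) (tt N3930 (iv F201121)) (tt N2978 F17206) (tt N2978 F17207) (tt N3945 (iv F24290)) (tt N3917 (iv F24046)) (tt N2978 F17208) (tt N2235 (iv F200534)) (tt N2198 (iv D3606)))
theorem Q2980 : ∀ i, i < 2980 → P i := stepQ 2979 Q2979 (allL N2979 (tt N3936 (iv F24253)) (tt N2204 F17209) (tt N3604 (iv F22303)) (tt N3943 (iv F24283)) (tt N2979 F17210) (tt N3918 (iv F24048)) (tt N2979 F17211) (tt N2199 (iv D3607)) (tt N2979 F17212) (tt N3927 (iv F24200)))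
theorem Q2981 : ∀ i, i < 2981 → P i := stepQ 2980 Q2980 (allL N2980 (tt N2408 F17213) (tt N3941 (iv F24275)) (tt N2255 F17214) (tt N2980 F17215) (tt N2201 F17216) (tt N3946 D5220) (tt N2200 (iv D3608)) (tt N3947 D5221) (tt N3948 D5222) (tt N3928 (iv F24205)))
theorem Q2982 : ∀ i, i < 2982 → P i := stepQ 2981 Q2981 (allL N2981 (tt N2409 F17217) (tt N3942 (iv F24278)) (tt N2256 F17218) (tt N3949 D5223) (tt N2202 F17219) (tt N2981 F17220) (tt N3948 (iv F24304)) (tt N2981 F17221) (tt N2200 (iv D3609)) (tt N3950 D5224))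
theorem Q2983 : ∀ i, i < 2983 → P i := stepQ 2982 Q2982 (allL N2982 (tt N2410 F17222) (tt N3943 (iv F24282)) (tt N2257 F17223) (tt N2204 F17224) (tt N3947 (iv F24299)) (tt N3921 (iv F24060)) (tt N2982 F17225) (tt N2201 (iv D3610)) (tt N3951 D5225) (tt N3929 (iv F24215)))
theorem Q2984 : ∀ i, i < 2984 → P i := stepQ 2983 Q2983 (allL N2983 (tt N2411 F17226) (tt N3944 (iv F24285)) (tt N2258 F17227) (tt N2983 F17228) (tt N3948 (iv F24303)) (tt N3922 (iv F24064)) (tt N2202 F17229) (tt N3951 (iv F24320)) (tt N2201 (iv D3611)) (tt N3952 D5226))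
theorem Q2985 : ∀ i, i < 2985 → P i := stepQ 2984 Q2984 (allL N2984 (tt N2403 F200867) (tt N3945 (iv F24288)) (tt N2259 F17231) (tt N2984 F17232) (tt N3950 (iv F24313)) (tt N2203 F17233) (tt N3952 (iv F24324)) (tt N2984 F17234) (tt N2444 F200868) (tt N2202 (iv D3612)))
theorem Q2986 : ∀ i, i < 2986 → P i := stepQ 2985 Q2985 (allL N2985 (tt N2206 F17235) (tt N2412 F17236) (tt N3610 (iv F22330)) (tt N3953 D5227) (tt N2205 (iv D3613)) (tt N3954 D5228) (tt N2985 F17237) (tt N2217 F17238) (tt N2985 F17239) (tt N2210 F17240))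
theorem Q2987 : ∀ i, i < 2987 → P i := stepQ 2986 Q2986 (allL N2986 (tt N3953 (iv F24325)) (tt N2207 F17241) (tt N3955 D5229) (tt N2206 (iv D3614)) (tt N2986 F17242) (tt N3956 D5230) (tt N2986 F17243) (tt N2218 F17244) (tt N3957 D5231) (tt N2211 F17245))
theorem Q2988 : ∀ i, i < 2988 → P i := stepQ 2987 Q2987 (allL N2987 (tt N3954 (iv F24331)) (tt N2208 F17246) (tt N3612 (iv F22340)) (tt N3956 (iv F24342)) (tt N2987 F17247) (tt N2206 (iv D3615)) (tt N3958 D5232) (tt N2219 F17248) (tt N2987 F17249) (tt N2212 F17250))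
theorem Q2989 : ∀ i, i < 2989 → P i := stepQ 2988 Q2988 (allL N2988 (tt N2415 F17251) (tt N3956 (iv F24341)) (tt N3887 (iv F23851)) (tt N2208 F17252) (tt N3959 D5233) (tt N2207 (iv D3616)) (tt N3960 D5234) (tt N2220 F17253) (tt N3961 D5235) (tt N2213 F17254))
theorem Q2990 : ∀ i, i < 2990 → P i := stepQ 2989 Q2989 (allL N2989 (tt N2416 F17255) (tt N3957 (iv F24345)) (tt N2419 (iv F200132)) (tt N2989 F17256) (tt N2989 F17257) (tt N3961 (iv F24366)) (tt N2989 F17258) (tt N2221 F17259) (tt N2207 (iv D3617)) (tt N3962 D5236))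
theorem Q2991 : ∀ i, i < 2991 → P i := stepQ 2990 Q2990 (allL N2990 (tt N2417 F17260) (tt N3958 (iv F24350)) (tt N2209 F17261) (tt N3960 (iv F24361)) (tt N2990 F17262) (tt N2990 F17263) (tt N2208 (iv D3618)) (tt N3963 D5237) (tt N2990 F17264) (tt N2215 F17265))
theorem Q2992 : ∀ i, i < 2992 → P i := stepQ 2991 Q2991 (allL N2991 (tt N2418 F17266) (tt N3616 (iv F22360)) (tt N3963 (iv F24375)) (tt N3889 (iv F23865)) (tt N2991 F17267) (tt N2991 F17268) (tt N2223 F17269) (tt N2209 (iv D3619)) (tt N2991 F17270) (tt N2216 F17271))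
theorem Q2993 : ∀ i, i < 2993 → P i := stepQ 2992 Q2992 (allL N2992 (tt N2211 F17272) (tt N2419 F17273) (tt N3964 D5238) (tt N2210 (iv D3620)) (tt N2992 F17274) (tt N3965 D5239) (tt N2992 F17275) (tt N2224 F17276) (tt N3885 F200311) (tt N3953 (iv F24330)))
theorem Q2994 : ∀ i, i < 2994 → P i := stepQ 2993 Q2993 (allL N2993 (tt N2212 F17277) (tt N2420 F17278) (tt N3618 (iv F22372)) (tt N3965 (iv F24387)) (tt N2993 F17279) (tt N2210 (iv D3621)) (tt N3966 D5241) (tt N2225 F17280) (tt N2286 F17281) (tt N3954 (iv F24336)))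
theorem Q2995 : ∀ i, i < 2995 → P i := stepQ 2994 Q2994 (allL N2994 (tt N3964 (iv F24381)) (tt N3892 (iv F23878)) (tt N2211 (iv D3622)) (tt N3619 (iv F22376)) (tt N2994 F17282) (tt N3967 D5242) (tt N2994 F17283) (tt N2226 F17284) (tt N3968 D5243) (tt N3955 (iv F24340)))
theorem Q2996 : ∀ i, i < 2996 → P i := stepQ 2995 Q2995 (allL N2995 (tt N3965 (iv F24385)) (tt N2213 F17285) (tt N3967 (iv F24400)) (tt N2212 F17286) (tt N3969 D5244) (tt N2211 (iv D3623)) (tt N3970 D5245) (tt N2227 F17287) (tt N3971 D5246) (tt N3956 (iv F24344)))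
theorem Q2997 : ∀ i, i < 2997 → P i := stepQ 2996 Q2996 (allL N2996 (tt N3885 F200314) (tt N2214 F17288) (tt N3968 (iv F24402)) (tt N2289 F17289) (tt N2996 F17290) (tt N3971 (iv F24415)) (tt N2996 F17291) (tt N2228 F17292) (tt N2211 (iv D3624)) (tt N3890 F200315))
theorem Q2998 : ∀ i, i < 2998 → P i := stepQ 2997 Q2997 (allL N2997 (tt N3966 (iv F24395)) (tt N2215 F17293) (tt N3622 (iv F22387)) (tt N3970 (iv F24411)) (tt N2997 F17294) (tt N2997 F17295) (tt N2212 (iv D3625)) (tt N3972 D5248) (tt N2290 F17296) (tt N3958 (iv F24354)))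
theorem Q2999 : ∀ i, i < 2999 → P i := stepQ 2998 Q2998 (allL N2998 (tt N2423 F17297) (tt N3969 (iv F24406)) (tt N3896 (iv F23894)) (tt N2998 F17298) (tt N2213 (iv D3626)) (tt N2998 F17299) (tt N3898 (iv F200138)) (tt N2230 F17300) (tt N3897 (iv F200136)) (tt N3959 (iv F24359)))
theorem Q3000 : ∀ i, i < 3000 → P i := stepQ 2999 Q2999 (allL N2999 (tt N2424 F17301) (tt N3970 (iv F24410)) (tt N3897 (iv F23898)) (tt N2215 F17302) (tt N3898 (iv F200137)) (tt N2999 F17303) (tt N2213 (iv D3627)) (tt N3920 (iv F200185)) (tt N3896 (iv F200135)) (tt N3960 (iv F24363)))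
theorem Q3001 : ∀ i, i < 3001 → P i := stepQ 3000 Q3000 (allL N3000 (tt N2425 F17304) (tt N3971 (iv F24413)) (tt N3898 (iv F23902)) (tt N2293 F17305) (tt N3897 F200304) (tt N2214 F17306) (tt N3896 F200305) (tt N2232 F17307) (tt N2213 (iv D3628)) (tt N3973 D5253))
theorem Q3002 : ∀ i, i < 3002 → P i := stepQ 3001 Q3001 (allL N3001 (tt N2381 F200055) (tt N3890 (iv F200134)) (tt N3899 (iv F23907)) (tt N2294 F17309) (tt N3001 F17310) (tt N3973 (iv F24444)) (tt N3001 F17311) (tt N2233 F17312) (tt N3962 (iv F24373)) (tt N2214 (iv D3629)))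
theorem Q3003 : ∀ i, i < 3003 → P i := stepQ 3002 Q3002 (allL N3002 (tt N2426 F17313) (tt N3972 (iv F24422)) (tt N2216 F17314) (tt N3920 F200406) (tt N3002 F17315) (tt N3002 F17316) (tt N2234 F17317) (tt N2215 (iv D3630)) (tt N2295 F17318) (tt N3963 (iv F24380)))
theorem Q3004 : ∀ i, i < 3004 → P i := stepQ 3003 Q3003 (allL N3003 (tt N2218 F17319) (tt N2427 F17320) (tt N3974 D5254) (tt N2217 (iv D3631)) (tt N3003 F17321) (tt N3975 D5255) (tt N2235 F17322) (tt N3953 (iv F24329)) (tt N3917 F200310) (tt N2224 F17323))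
theorem Q3005 : ∀ i, i < 3005 → P i := stepQ 3004 Q3004 (allL N3004 (tt N2219 F17324) (tt N2428 F17325) (tt N3629 (iv F22417)) (tt N3975 (iv F24452)) (tt N3004 F17326) (tt N2217 (iv D3632)) (tt N3976 D5257) (tt N3954 (iv F24334)) (tt N3004 F17327) (tt N2225 F17328))
theorem Q3006 : ∀ i, i < 3006 → P i := stepQ 3005 Q3005 (allL N3005 (tt N3974 (iv F24446)) (tt N3902 (iv F23980)) (tt N2218 (iv D3633)) (tt N3630 (iv F22421)) (tt N3005 F17329) (tt N3977 D5258) (tt N2237 F17330) (tt N3955 (iv F24339)) (tt N3978 D5259) (tt N2226 F17331))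
theorem Q3007 : ∀ i, i < 3007 → P i := stepQ 3006 Q3006 (allL N3006 (tt N3975 (iv F24450)) (tt N2220 F17332) (tt N3977 (iv F24465)) (tt N2219 F17333) (tt N3979 D5260) (tt N2218 (iv D3634)) (tt N3980 D5261) (tt N3956 (iv F24343)) (tt N3981 D5262) (tt N2227 F17334))
theorem Q3008 : ∀ i, i < 3008 → P i := stepQ 3007 Q3007 (allL N3007 (tt N3917 F200312) (tt N2221 F17335) (tt N3978 (iv F24467)) (tt N3007 F17336) (tt N3007 F17337) (tt N3981 (iv F24480)) (tt N2239 F17338) (tt N3957 (iv F24349)) (tt N2218 (iv D3635)) (tt N3910 F200313))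
theorem Q3009 : ∀ i, i < 3009 → P i := stepQ 3008 Q3008 (allL N3008 (tt N3976 (iv F24459)) (tt N2222 F17339) (tt N3633 (iv F22431)) (tt N3980 (iv F24475)) (tt N3008 F17340) (tt N2240 F17341) (tt N2219 (iv D3636)) (tt N3982 D5264) (tt N3008 F17342) (tt N2229 F17343))
theorem Q3010 : ∀ i, i < 3010 → P i := stepQ 3009 Q3009 (allL N3009 (tt N2431 F17344) (tt N3979 (iv F24470)) (tt N3905 (iv F23994)) (tt N3009 F17345) (tt N2220 (iv D3637)) (tt N3009 F17346) (tt N3983 D5265) (tt N3959 (iv F24358)) (tt N3984 D5266) (tt N2230 F17347))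
theorem Q3011 : ∀ i, i < 3011 → P i := stepQ 3010 Q3010 (allL N3010 (tt N2432 F17348) (tt N3980 (iv F24474)) (tt N3906 (iv F23998)) (tt N2222 F17349) (tt N3983 (iv F24493)) (tt N2242 F17350) (tt N2220 (iv D3638)) (tt N3985 D5267) (tt N3986 D5268) (tt N2231 F17351))
theorem Q3012 : ∀ i, i < 3012 → P i := stepQ 3011 Q3011 (allL N3011 (tt N2433 F17352) (tt N3981 (iv F24478)) (tt N2435 (iv F200516)) (tt N3011 F17353) (tt N3984 (iv F24496)) (tt N2221 F17354) (tt N3986 (iv F24505)) (tt N3961 (iv F24367)) (tt N2220 (iv D3639)) (tt N3987 D5269))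
theorem Q3013 : ∀ i, i < 3013 → P i := stepQ 3012 Q3012 (allL N3012 (tt N2393 F200056) (tt N3910 (iv F200188)) (tt N2427 (iv F200177)) (tt N3012 F17356) (tt N3012 F17357) (tt N3987 (iv F24508)) (tt N2244 F17358) (tt N3962 (iv F24372)) (tt N2233 F17359) (tt N2221 (iv D3640)))
theorem Q3014 : ∀ i, i < 3014 → P i := stepQ 3013 Q3013 (allL N3013 (tt N2434 F17360) (tt N3982 (iv F24486)) (tt N2223 F17361) (tt N3985 (iv F24499)) (tt N3013 F17362) (tt N2245 F17363) (tt N3963 (iv F24378)) (tt N2222 (iv D3641)) (tt N3013 F17364) (tt N2234 F17365))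
theorem Q3015 : ∀ i, i < 3015 → P i := stepQ 3014 Q3014 (allL N3014 (tt N2226 F17366) (tt N3978 F200757) (tt N2224 (iv D3642)) (tt N3639 (iv F22457)) (tt N3014 F17367) (tt N3988 D5271) (tt N2246 F17368) (tt N3964 (iv F24384)) (tt N3902 F200758) (tt N3974 (iv F24449)))
theorem Q3016 : ∀ i, i < 3016 → P i := stepQ 3015 Q3015 (allL N3015 (tt N2227 F17369) (tt N2435 F17370) (tt N3988 (iv F24514)) (tt N2225 F17371) (tt N3989 D5273) (tt N2224 (iv D3643)) (tt N3990 D5274) (tt N3965 (iv F24388)) (tt N3903 F200747) (tt N3975 (iv F24453)))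
theorem Q3017 : ∀ i, i < 3017 → P i := stepQ 3016 Q3016 (allL N3016 (tt N2229 F17377) (tt N2436 F17378) (tt N3642 (iv F22468)) (tt N3990 (iv F24525)) (tt N3016 F17379) (tt N2248 F17380) (tt N2225 (iv D3645)) (tt N3991 D5277) (tt N2298 F17381) (tt N3976 (iv F24464)))
theorem Q3018 : ∀ i, i < 3018 → P i := stepQ 3017 Q3017 (allL N3017 (tt N3988 (iv F24513)) (tt N3912 (iv F24029)) (tt N2227 F17382) (tt N3643 (iv F22473)) (tt N3992 D5278) (tt N2226 (iv D3646)) (tt N3993 D5279) (tt N3967 (iv F24401)) (tt N3994 D5280) (tt N3977 (iv F24466)))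
theorem Q3019 : ∀ i, i < 3019 → P i := stepQ 3018 Q3018 (allL N3018 (tt N3902 F200759) (tt N3913 (iv F24031)) (tt N2228 F17383) (tt N3995 D5281) (tt N3018 F17384) (tt N3994 (iv F24546)) (tt N2250 F17385) (tt N3968 (iv F24405)) (tt N2226 (iv D3647)) (tt N3908 F200760))
theorem Q3020 : ∀ i, i < 3020 → P i := stepQ 3019 Q3019 (allL N3019 (tt N3989 (iv F24519)) (tt N2230 F17386) (tt N3992 (iv F24541)) (tt N3019 F17387) (tt N2227 (iv D3648)) (tt N3019 F17388) (tt N3996 D5283) (tt N3969 (iv F24409)) (tt N3997 D5284) (tt N3979 (iv F24473)))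
theorem Q3021 : ∀ i, i < 3021 → P i := stepQ 3020 Q3020 (allL N3020 (tt N3990 (iv F24523)) (tt N2231 F17389) (tt N3993 (iv F24543)) (tt N2229 F17390) (tt N3996 (iv F24554)) (tt N2252 F17391) (tt N2227 (iv D3649)) (tt N3998 D5285) (tt N3999 D5286) (tt N3980 (iv F24477)))
theorem Q3022 : ∀ i, i < 3022 → P i := stepQ 3021 Q3021 (allL N3021 (tt N3903 F200743) (tt N2232 F17392) (tt N3994 (iv F24545)) (tt N2303 F17393) (tt N3997 (iv F24556)) (tt N2228 F17394) (tt N3999 (iv F24564)) (tt N3971 (iv F24416)) (tt N2227 (iv D3650)) (tt N3909 F200744))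
theorem Q3023 : ∀ i, i < 3023 → P i := stepQ 3022 Q3022 (allL N3022 (tt N3991 (iv F24536)) (tt N2234 F17399) (tt N3649 (iv F22488)) (tt N3998 (iv F24559)) (tt N3022 F17400) (tt N2254 F17401) (tt N3972 (iv F24425)) (tt N2229 (iv D3652)) (tt N2304 F17402) (tt N3982 (iv F24490)))
theorem Q3024 : ∀ i, i < 3024 → P i := stepQ 3023 Q3023 (allL N3023 (tt N2440 F17403) (tt N3996 (iv F24552)) (tt N3919 (iv F24051)) (tt N3023 F17404) (tt N2231 F17405) (tt N3951 (iv F200639)) (tt N2230 (iv D3653)) (tt N3922 (iv F200525)) (tt N3921 (iv F200523)) (tt N3983 (iv F24494)))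
theorem Q3025 : ∀ i, i < 3025 → P i := stepQ 3024 Q3024 (allL N3024 (tt N2441 F17406) (tt N3997 (iv F24555)) (tt N3920 (iv F24054)) (tt N3900 (iv F200494)) (tt N2232 F17407) (tt N3024 F17408) (tt N3921 (iv F200522)) (tt N3897 F200323) (tt N2230 (iv D3654)) (tt N4000 D5292))
theorem Q3026 : ∀ i, i < 3026 → P i := stepQ 3025 Q3025 (allL N3025 (tt N2442 F17409) (tt N3998 (iv F24558)) (tt N3921 (iv F24058)) (tt N2234 F17410) (tt N3922 (iv F200524)) (tt N2257 F17411) (tt N3920 F200404) (tt N2231 (iv D3655)) (tt N3919 (iv F200521)) (tt N3985 (iv F24501)))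
theorem Q3027 : ∀ i, i < 3027 → P i := stepQ 3026 Q3026 (allL N3026 (tt N2443 F17412) (tt N3999 (iv F24561)) (tt N3922 (iv F24062)) (tt N2308 F17413) (tt N3921 F200834) (tt N2258 F17414) (tt N2232 F17415) (tt N3919 F200835) (tt N2231 (iv D3656)) (tt N4001 D5294))
theorem Q3028 : ∀ i, i < 3028 → P i := stepQ 3027 Q3027 (allL N3027 (tt N2392 F200372) (tt N3909 (iv F200466)) (tt N3923 (iv F24067)) (tt N2309 F17417) (tt N4000 (iv F24583)) (tt N2233 F17418) (tt N4001 (iv F24592)) (tt N3973 (iv F24445)) (tt N3987 (iv F24509)) (tt N2232 (iv D3657)))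
theorem Q3029 : ∀ i, i < 3029 → P i := stepQ 3028 Q3028 (allL N3028 (tt N2237 F17419) (tt N3932 F200852) (tt N2235 (iv D3658)) (tt N3655 (iv F22508)) (tt N3028 F17420) (tt N4002 D5296) (tt N3974 (iv F24448)) (tt N3028 F17421) (tt N3930 F200853) (tt N2246 F17422))
theorem Q3030 : ∀ i, i < 3030 → P i := stepQ 3029 Q3029 (allL N3029 (tt N2238 F17423) (tt N2444 F17424) (tt N4002 (iv F24598)) (tt N2236 F17425) (tt N4003 D5298) (tt N2235 (iv D3659)) (tt N4004 D5299) (tt N3029 F17426) (tt N3945 F200857) (tt N2247 F17427))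
theorem Q3031 : ∀ i, i < 3031 → P i := stepQ 3030 Q3030 (allL N3030 (tt N2240 F17433) (tt N2445 F17434) (tt N3658 (iv F22522)) (tt N4004 (iv F24613)) (tt N2263 F17435) (tt N3976 (iv F24462)) (tt N2236 (iv D3661)) (tt N4005 D5302) (tt N3030 F17436) (tt N2248 F17437))
theorem Q3032 : ∀ i, i < 3032 → P i := stepQ 3031 Q3031 (allL N3031 (tt N4002 (iv F24597)) (tt N3924 (iv F24174)) (tt N2238 F17438) (tt N3659 (iv F22527)) (tt N4006 D5303) (tt N2237 (iv D3662)) (tt N4007 D5304) (tt N3031 F17439) (tt N4008 D5305) (tt N2249 F17440))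
theorem Q3033 : ∀ i, i < 3033 → P i := stepQ 3032 Q3032 (allL N3032 (tt N3930 F200854) (tt N2246 (iv F201106)) (tt N2239 F17441) (tt N3671 (iv F201240)) (tt N3032 F17442) (tt N4008 (iv F24639)) (tt N3978 (iv F24469)) (tt N3032 F17443) (tt N2237 (iv D3663)) (tt N3932 F200850))
theorem Q3034 : ∀ i, i < 3034 → P i := stepQ 3033 Q3033 (allL N3033 (tt N4003 (iv F24605)) (tt N2241 F17444) (tt N4006 (iv F24632)) (tt N2266 F17445) (tt N2238 (iv D3664)) (tt N3033 F17446) (tt N4009 D5308) (tt N3033 F17447) (tt N4010 D5309) (tt N2251 F17448))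
theorem Q3035 : ∀ i, i < 3035 → P i := stepQ 3034 Q3034 (allL N3034 (tt N4004 (iv F24611)) (tt N2242 F17449) (tt N4007 (iv F24636)) (tt N2240 F17450) (tt N4009 (iv F24649)) (tt N3980 (iv F24476)) (tt N2238 (iv D3665)) (tt N4011 D5310) (tt N4012 D5311) (tt N2252 F17451))
theorem Q3036 : ∀ i, i < 3036 → P i := stepQ 3035 Q3035 (allL N3035 (tt N3945 F200858) (tt N2243 F17452) (tt N4008 (iv F24638)) (tt N3035 F17453) (tt N4010 (iv F24652)) (tt N2239 F17454) (tt N4012 (iv F24661)) (tt N3035 F17455) (tt N2238 (iv D3666)) (tt N3935 F200859))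
theorem Q3037 : ∀ i, i < 3037 → P i := stepQ 3036 Q3036 (allL N3036 (tt N4005 (iv F24626)) (tt N2245 F17461) (tt N3665 (iv F22548)) (tt N4011 (iv F24656)) (tt N2269 F17462) (tt N3982 (iv F24488)) (tt N3036 F17463) (tt N2240 (iv D3668)) (tt N3036 F17464) (tt N2254 F17465))
theorem Q3038 : ∀ i, i < 3038 → P i := stepQ 3037 Q3037 (allL N3037 (tt N2449 F17466) (tt N4009 (iv F24647)) (tt N3928 (iv F24202)) (tt N2270 F17467) (tt N2242 F17468) (tt N4013 D5313) (tt N2241 (iv D3669)) (tt N4014 D5314) (tt N4015 D5315) (tt N2255 F17469))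
theorem Q3039 : ∀ i, i < 3039 → P i := stepQ 3038 Q3038 (allL N3038 (tt N2450 F17470) (tt N4010 (iv F24651)) (tt N2453 (iv F201260)) (tt N4016 D5316) (tt N2243 F17471) (tt N3038 F17472) (tt N4015 (iv F24678)) (tt N3038 F17473) (tt N2241 (iv D3670)) (tt N4017 D5317))
theorem Q3040 : ∀ i, i < 3040 → P i := stepQ 3039 Q3039 (allL N3039 (tt N2451 F17474) (tt N4011 (iv F24655)) (tt N3929 (iv F24212)) (tt N2245 F17475) (tt N4014 (iv F24673)) (tt N3985 (iv F24500)) (tt N3039 F17476) (tt N2242 (iv D3671)) (tt N4018 D5318) (tt N2257 F17477))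
theorem Q3041 : ∀ i, i < 3041 → P i := stepQ 3040 Q3040 (allL N3040 (tt N2452 F17478) (tt N4012 (iv F24659)) (tt N2454 (iv F201219)) (tt N3040 F17479) (tt N4015 (iv F24677)) (tt N3986 (iv F24504)) (tt N2243 F17480) (tt N4018 (iv F24692)) (tt N2242 (iv D3672)) (tt N4019 D5319))
theorem Q3042 : ∀ i, i < 3042 → P i := stepQ 3041 Q3041 (allL N3041 (tt N2406 F200416) (tt N3935 (iv F200641)) (tt N2444 (iv F200624)) (tt N3041 F17482) (tt N4017 (iv F24685)) (tt N2244 F17483) (tt N4019 (iv F24695)) (tt N3041 F17484) (tt N2259 F17485) (tt N2243 (iv D3673)))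
theorem Q3043 : ∀ i, i < 3043 → P i := stepQ 3042 Q3042 (allL N3042 (tt N2249 F17489) (tt N4008 F201520) (tt N2247 F17490) (tt N3672 (iv F22577)) (tt N4020 D5322) (tt N2246 (iv D3675)) (tt N4021 D5323) (tt N3042 F17491) (tt N3924 F201521) (tt N4002 (iv F24600)))
theorem Q3044 : ∀ i, i < 3044 → P i := stepQ 3043 Q3043 (allL N3043 (tt N2251 F17496) (tt N2453 F17497) (tt N4020 (iv F24705)) (tt N2276 F17498) (tt N2247 (iv D3677)) (tt N3043 F17499) (tt N4022 D5327) (tt N3043 F17500) (tt N3925 F201564) (tt N4003 (iv F24610)))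
theorem Q3045 : ∀ i, i < 3045 → P i := stepQ 3044 Q3044 (allL N3044 (tt N2252 F17501) (tt N2454 F17502) (tt N4021 (iv F24709)) (tt N2248 F17503) (tt N4022 (iv F24724)) (tt N3990 (iv F24526)) (tt N2247 (iv D3678)) (tt N4023 D5329) (tt N3926 F201418) (tt N4004 (iv F24614)))
theorem Q3046 : ∀ i, i < 3046 → P i := stepQ 3045 Q3045 (allL N3045 (tt N2254 F17514) (tt N2455 F17515) (tt N3678 (iv F22600)) (tt N4023 (iv F24733)) (tt N2278 F17516) (tt N3991 (iv F24539)) (tt N3045 F17517) (tt N2248 (iv D3681)) (tt N2312 F17518) (tt N4005 (iv F24631)))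
theorem Q3047 : ∀ i, i < 3047 → P i := stepQ 3046 Q3046 (allL N3046 (tt N4020 (iv F24704)) (tt N3937 (iv F24258)) (tt N2251 F17519) (tt N4024 D5332) (tt N2249 (iv D3682)) (tt N3046 F17520) (tt N4025 D5333) (tt N3046 F17521) (tt N4026 D5334) (tt N4006 (iv F24635)))
theorem Q3048 : ∀ i, i < 3048 → P i := stepQ 3047 Q3047 (allL N3047 (tt N4021 (iv F24708)) (tt N3938 (iv F24262)) (tt N2252 F17522) (tt N3680 (iv F22607)) (tt N4025 (iv F24748)) (tt N3993 (iv F24544)) (tt N2249 (iv D3683)) (tt N4027 D5335) (tt N4028 D5336) (tt N4007 (iv F24637)))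
theorem Q3049 : ∀ i, i < 3049 → P i := stepQ 3048 Q3048 (allL N3048 (tt N3924 F201526) (tt N3939 (iv F24264)) (tt N2253 F17523) (tt N4029 D5337) (tt N4026 (iv F24750)) (tt N2250 F17524) (tt N4028 (iv F24756)) (tt N3048 F17525) (tt N2249 (iv D3684)) (tt N3931 F201527))
theorem Q3050 : ∀ i, i < 3050 → P i := stepQ 3049 Q3049 (allL N3049 (tt N3585 F201512) (tt N3940 (iv F24268)) (tt N2315 F17526) (tt N2250 (iv D3685)) (tt N4030 D5339) (tt N4029 (iv F24758)) (tt N3995 (iv F24548)) (tt N3049 F17527) (tt N3682 (iv F22613)) (tt N3594 F201513))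
theorem Q3051 : ∀ i, i < 3051 → P i := stepQ 3050 Q3050 (allL N3050 (tt N4022 (iv F24721)) (tt N2255 F17531) (tt N4025 (iv F24747)) (tt N2281 F17532) (tt N2252 F17533) (tt N4031 D5341) (tt N2251 (iv D3687)) (tt N4032 D5342) (tt N4033 D5343) (tt N4009 (iv F24650)))
theorem Q3052 : ∀ i, i < 3052 → P i := stepQ 3051 Q3051 (allL N3051 (tt N3925 F201556) (tt N2256 F17534) (tt N4026 (iv F24749)) (tt N3051 F17535) (tt N2253 F17536) (tt N3051 F17537) (tt N4033 (iv F24779)) (tt N3051 F17538) (tt N2251 (iv D3688)) (tt N3933 F201557))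
theorem Q3053 : ∀ i, i < 3053 → P i := stepQ 3052 Q3052 (allL N3052 (tt N4023 (iv F24731)) (tt N2257 F17539) (tt N4027 (iv F24753)) (tt N2254 F17540) (tt N4032 (iv F24774)) (tt N3998 (iv F24560)) (tt N3052 F17541) (tt N2252 (iv D3689)) (tt N4034 D5345) (tt N4011 (iv F24658)))
theorem Q3054 : ∀ i, i < 3054 → P i := stepQ 3053 Q3053 (allL N3053 (tt N3926 F201432) (tt N2258 F17542) (tt N4028 (iv F24755)) (tt N2317 F17543) (tt N4033 (iv F24778)) (tt N3999 (iv F24563)) (tt N2253 F17544) (tt N4034 (iv F24788)) (tt N2252 (iv D3690)) (tt N3934 F201433))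
theorem Q3055 : ∀ i, i < 3055 → P i := stepQ 3054 Q3054 (allL N3054 (tt N2458 F17549) (tt N4031 (iv F24769)) (tt N3946 (iv F24293)) (tt N2283 F17550) (tt N3951 F200985) (tt N2255 (iv D3692)) (tt N3054 F17551) (tt N3948 (iv F201236)) (tt N3947 (iv F201218)) (tt N4013 (iv F24670)))
theorem Q3056 : ∀ i, i < 3056 → P i := stepQ 3055 Q3055 (allL N3055 (tt N2459 F17552) (tt N4032 (iv F24772)) (tt N3947 (iv F24297)) (tt N2284 F17553) (tt N2257 F17554) (tt N3948 (iv F201235)) (tt N3055 F17555) (tt N2255 (iv D3693)) (tt N3946 (iv F201234)) (tt N4014 (iv F24675)))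
theorem Q3057 : ∀ i, i < 3057 → P i := stepQ 3056 Q3056 (allL N3056 (tt N2460 F17556) (tt N4033 (iv F24776)) (tt N3948 (iv F24302)) (tt N3056 F17557) (tt N2258 F17558) (tt N3947 F201628) (tt N2256 F17559) (tt N3946 F201629) (tt N2255 (iv D3694)) (tt N4035 D5350))
theorem Q3058 : ∀ i, i < 3058 → P i := stepQ 3057 Q3057 (allL N3057 (tt N2404 F200968) (tt N3933 (iv F201139)) (tt N3950 (iv F24312)) (tt N3057 F17561) (tt N2259 F17562) (tt N3057 F17563) (tt N4035 (iv F24807)) (tt N3057 F17564) (tt N4017 (iv F24688)) (tt N2256 (iv D3695)))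
theorem Q3059 : ∀ i, i < 3059 → P i := stepQ 3058 Q3058 (allL N3058 (tt N2461 F17565) (tt N4034 (iv F24785)) (tt N3951 (iv F24317)) (tt N2318 F17566) (tt N3946 (iv F201233)) (tt N3919 F200847) (tt N3058 F17567) (tt N2258 F17568) (tt N2257 (iv D3696)) (tt N4036 D5351))
theorem Q3060 : ∀ i, i < 3060 → P i := stepQ 3059 Q3059 (allL N3059 (tt N2405 F200849) (tt N3934 (iv F201033)) (tt N3952 (iv F24322)) (tt N2319 F17570) (tt N4035 (iv F24806)) (tt N4001 (iv F24591)) (tt N2259 F17571) (tt N4036 (iv F24811)) (tt N4019 (iv F24696)) (tt N2258 (iv D3697)))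
theorem Q3061 : ∀ i, i < 3061 → P i := stepQ 3060 Q3060 (allL N3060 (tt N2264 F17578) (tt N3480 (iv F202971)) (tt N2261 F17579) (tt N3487 (iv F202964)) (tt N4037 D5354) (tt N2260 (iv D3699)) (tt N4038 D5355) (tt N3060 F17580) (tt N3476 (iv F202975)) (tt N2275 F17581))
theorem Q3062 : ∀ i, i < 3062 → P i := stepQ 3061 Q3061 (allL N3061 (tt N2266 F17588) (tt N2465 F17589) (tt N4037 (iv F24825)) (tt N4003 (iv F24607)) (tt N2261 (iv D3701)) (tt N3061 F17590) (tt N4039 D5358) (tt N3061 F17591) (tt N4040 D5359) (tt N2276 F17592))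
theorem Q3063 : ∀ i, i < 3063 → P i := stepQ 3062 Q3062 (allL N3062 (tt N2267 F17593) (tt N2466 F17594) (tt N4038 (iv F24830)) (tt N2263 F17595) (tt N4039 (iv F24845)) (tt N3062 F17596) (tt N2261 (iv D3702)) (tt N4041 D5360) (tt N4042 D5361) (tt N2277 F17597))
theorem Q3064 : ∀ i, i < 3064 → P i := stepQ 3063 Q3063 (allL N3063 (tt N2268 F17598) (tt N2467 F17599) (tt N3476 (iv F202974)) (tt N3063 F17600) (tt N4040 (iv F24849)) (tt N2262 F17601) (tt N4042 (iv F24863)) (tt N3063 F17602) (tt N2261 (iv D3703)) (tt N3063 F17603))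
theorem Q3065 : ∀ i, i < 3065 → P i := stepQ 3064 Q3064 (allL N3064 (tt N2269 F17604) (tt N2468 F17605) (tt N3698 (iv F22692)) (tt N4041 (iv F24855)) (tt N4005 (iv F24628)) (tt N3064 F17606) (tt N3064 F17607) (tt N2263 (iv D3704)) (tt N3064 F17608) (tt N2278 F17609))
theorem Q3066 : ∀ i, i < 3066 → P i := stepQ 3065 Q3065 (allL N3065 (tt N4037 (iv F24824)) (tt N3065 F17610) (tt N2266 F17611) (tt N4043 D5362) (tt N2264 (iv D3705)) (tt N3065 F17612) (tt N4044 D5363) (tt N3065 F17613) (tt N4045 D5364) (tt N2279 F17614))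
theorem Q3067 : ∀ i, i < 3067 → P i := stepQ 3066 Q3066 (allL N3066 (tt N4038 (iv F24829)) (tt N3066 F17615) (tt N2267 F17616) (tt N3700 (iv F22703)) (tt N4044 (iv F24871)) (tt N3066 F17617) (tt N2264 (iv D3706)) (tt N4046 D5365) (tt N4047 D5366) (tt N2280 F17618))
theorem Q3068 : ∀ i, i < 3068 → P i := stepQ 3067 Q3067 (allL N3067 (tt N3476 (iv F202973)) (tt N3067 F17619) (tt N2268 F17620) (tt N3475 (iv F202976)) (tt N4045 (iv F24875)) (tt N2265 F17621) (tt N4047 (iv F24887)) (tt N3067 F17622) (tt N2264 (iv D3707)) (tt N3067 F17623))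
theorem Q3069 : ∀ i, i < 3069 → P i := stepQ 3068 Q3068 (allL N3068 (tt N4039 (iv F24843)) (tt N2270 F17629) (tt N4044 (iv F24870)) (tt N4009 (iv F24648)) (tt N2267 F17630) (tt N4048 D5369) (tt N2266 (iv D3709)) (tt N4049 D5370) (tt N4050 D5371) (tt N2281 F17631))
theorem Q3070 : ∀ i, i < 3070 → P i := stepQ 3069 Q3069 (allL N3069 (tt N4040 (iv F24847)) (tt N2271 F17632) (tt N4045 (iv F24874)) (tt N4051 D5372) (tt N2268 F17633) (tt N3069 F17634) (tt N4050 (iv F24910)) (tt N3069 F17635) (tt N2266 (iv D3710)) (tt N3069 F17636))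
theorem Q3071 : ∀ i, i < 3071 → P i := stepQ 3070 Q3070 (allL N3070 (tt N4041 (iv F24853)) (tt N2272 F17637) (tt N4046 (iv F24880)) (tt N2269 F17638) (tt N4049 (iv F24905)) (tt N3070 F17639) (tt N3070 F17640) (tt N2267 (iv D3711)) (tt N4052 D5373) (tt N2282 F17641))
theorem Q3072 : ∀ i, i < 3072 → P i := stepQ 3071 Q3071 (allL N3071 (tt N4042 (iv F24859)) (tt N2273 F17642) (tt N4047 (iv F24885)) (tt N3071 F17643) (tt N4050 (iv F24909)) (tt N3071 F17644) (tt N2268 F17645) (tt N4052 (iv F24921)) (tt N2267 (iv D3712)) (tt N3071 F17646))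
theorem Q3073 : ∀ i, i < 3073 → P i := stepQ 3072 Q3072 (allL N3072 (tt N2477 F17647) (tt N4048 (iv F24900)) (tt N3072 F17648) (tt N4013 (iv F24668)) (tt N3072 F17649) (tt N2270 (iv D3713)) (tt N3072 F17650) (tt N4053 D5374) (tt N4054 D5375) (tt N2283 F17651))
theorem Q3074 : ∀ i, i < 3074 → P i := stepQ 3073 Q3073 (allL N3073 (tt N2478 F17652) (tt N4049 (iv F24904)) (tt N3073 F17653) (tt N4014 (iv F24672)) (tt N2272 F17654) (tt N4053 (iv F24926)) (tt N3073 F17655) (tt N2270 (iv D3714)) (tt N4055 D5376) (tt N2284 F17656))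
theorem Q3075 : ∀ i, i < 3075 → P i := stepQ 3074 Q3074 (allL N3074 (tt N2479 F17657) (tt N4050 (iv F24908)) (tt N3074 F17658) (tt N4056 D5377) (tt N2273 F17659) (tt N4054 (iv F24931)) (tt N2271 F17660) (tt N4055 (iv F24938)) (tt N2270 (iv D3715)) (tt N3074 F17661))
theorem Q3076 : ∀ i, i < 3076 → P i := stepQ 3075 Q3075 (allL N3075 (tt N2480 F17662) (tt N4051 (iv F24912)) (tt N4057 D5378) (tt N2271 (iv D3716)) (tt N3075 F17663) (tt N3075 F17664) (tt N4056 (iv F24942)) (tt N3075 F17665) (tt N4016 (iv F24683)) (tt N3075 F17666))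
theorem Q3077 : ∀ i, i < 3077 → P i := stepQ 3076 Q3076 (allL N3076 (tt N2481 F17667) (tt N4052 (iv F24917)) (tt N3076 F17668) (tt N3076 F17669) (tt N4055 (iv F24936)) (tt N3076 F17670) (tt N3076 F17671) (tt N2273 F17672) (tt N2272 (iv D3717)) (tt N3076 F17673))
theorem Q3078 : ∀ i, i < 3078 → P i := stepQ 3077 Q3077 (allL N3077 (tt N3077 F17674) (tt N2275 F17675) (tt N2482 F17676) (tt N3493 (iv F203752)) (tt N4058 D5379) (tt N2274 (iv D3718)) (tt N4059 D5380) (tt N3077 F17677) (tt N3077 F17678) (tt N3480 F203301))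
theorem Q3079 : ∀ i, i < 3079 → P i := stepQ 3078 Q3078 (allL N3078 (tt N2279 F17679) (tt N4058 (iv F24951)) (tt N2276 F17680) (tt N4060 D5381) (tt N2275 (iv D3719)) (tt N3078 F17681) (tt N4061 D5382) (tt N3078 F17682) (tt N3078 F17683) (tt N4037 (iv F24828)))
theorem Q3080 : ∀ i, i < 3080 → P i := stepQ 3079 Q3079 (allL N3079 (tt N2280 F17684) (tt N4059 (iv F24957)) (tt N2277 F17685) (tt N3713 (iv F22789)) (tt N4061 (iv F24966)) (tt N3079 F17686) (tt N2275 (iv D3720)) (tt N4062 D5383) (tt N3079 F17687) (tt N4038 (iv F24832)))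
theorem Q3081 : ∀ i, i < 3081 → P i := stepQ 3080 Q3080 (allL N3080 (tt N2281 F17688) (tt N2485 F17689) (tt N4061 (iv F24965)) (tt N4022 (iv F24723)) (tt N2277 F17690) (tt N4063 D5384) (tt N2276 (iv D3721)) (tt N4064 D5385) (tt N3080 F17691) (tt N4039 (iv F24846)))
theorem Q3082 : ∀ i, i < 3082 → P i := stepQ 3081 Q3081 (allL N3081 (tt N2282 F17692) (tt N2486 F17693) (tt N4062 (iv F24969)) (tt N2278 F17694) (tt N4064 (iv F24980)) (tt N3081 F17695) (tt N3081 F17696) (tt N2277 (iv D3722)) (tt N3081 F17697) (tt N4041 (iv F24858)))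
theorem Q3083 : ∀ i, i < 3083 → P i := stepQ 3082 Q3082 (allL N3082 (tt N4060 (iv F24961)) (tt N3082 F17698) (tt N4024 (iv F24744)) (tt N2279 (iv D3723)) (tt N3718 (iv F22824)) (tt N3082 F17699) (tt N4065 D5386) (tt N3082 F17700) (tt N4066 D5387) (tt N4043 (iv F24868)))
theorem Q3084 : ∀ i, i < 3084 → P i := stepQ 3083 Q3083 (allL N3083 (tt N4061 (iv F24964)) (tt N3083 F17701) (tt N2281 F17702) (tt N4065 (iv F24984)) (tt N2280 F17703) (tt N4067 D5388) (tt N2279 (iv D3724)) (tt N4068 D5389) (tt N3083 F17704) (tt N4044 (iv F24872)))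
theorem Q3085 : ∀ i, i < 3085 → P i := stepQ 3084 Q3084 (allL N3084 (tt N4062 (iv F24968)) (tt N3084 F17705) (tt N2282 F17706) (tt N3721 (iv F22835)) (tt N4068 (iv F24996)) (tt N3084 F17707) (tt N3084 F17708) (tt N2280 (iv D3725)) (tt N3084 F17709) (tt N4046 (iv F24883)))
theorem Q3086 : ∀ i, i < 3086 → P i := stepQ 3085 Q3085 (allL N3085 (tt N4063 (iv F24973)) (tt N2283 F17710) (tt N4067 (iv F24990)) (tt N4031 (iv F24770)) (tt N3085 F17711) (tt N2281 (iv D3726)) (tt N3085 F17712) (tt N4069 D5390) (tt N3085 F17713) (tt N4048 (iv F24903)))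
theorem Q3087 : ∀ i, i < 3087 → P i := stepQ 3086 Q3086 (allL N3086 (tt N4064 (iv F24978)) (tt N2284 F17714) (tt N4068 (iv F24995)) (tt N4032 (iv F24773)) (tt N2282 F17715) (tt N4069 (iv F25001)) (tt N3086 F17716) (tt N2281 (iv D3727)) (tt N3086 F17717) (tt N4049 (iv F24907)))
theorem Q3088 : ∀ i, i < 3088 → P i := stepQ 3087 Q3087 (allL N3087 (tt N2492 F17718) (tt N4069 (iv F24999)) (tt N3087 F17719) (tt N3948 F201637) (tt N3087 F17720) (tt N2284 F17721) (tt N3949 F201638) (tt N2283 (iv D3728)) (tt N3087 F17722) (tt N4053 (iv F24927)))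
theorem Q3089 : ∀ i, i < 3089 → P i := stepQ 3088 Q3088 (allL N3088 (tt N2287 F17723) (tt N3548 F200870) (tt N2285 (iv D3729)) (tt N3738 (iv F22906)) (tt N2320 F17724) (tt N4070 D5393) (tt N3088 F17725) (tt N2296 F17726) (tt N3550 F200871) (tt N3088 F17727))
theorem Q3090 : ∀ i, i < 3090 → P i := stepQ 3089 Q3089 (allL N3089 (tt N2288 F17728) (tt N2493 F17729) (tt N4070 (iv F25016)) (tt N2286 F17730) (tt N4071 D5395) (tt N2285 (iv D3730)) (tt N4072 D5396) (tt N2297 F17731) (tt N3886 F200769) (tt N3089 F17732))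
theorem Q3091 : ∀ i, i < 3091 → P i := stepQ 3090 Q3090 (allL N3090 (tt N2290 F17738) (tt N2494 F17739) (tt N3741 (iv F22923)) (tt N4072 (iv F25032)) (tt N3090 F17740) (tt N3090 F17741) (tt N2286 (iv D3732)) (tt N4073 D5399) (tt N3966 (iv F24399)) (tt N3090 F17742))
theorem Q3092 : ∀ i, i < 3092 → P i := stepQ 3091 Q3091 (allL N3091 (tt N4070 (iv F25015)) (tt N3091 F17743) (tt N2288 F17744) (tt N3742 (iv F22929)) (tt N4074 D5400) (tt N2287 (iv D3733)) (tt N4075 D5401) (tt N2299 F17745) (tt N4076 D5402) (tt N3091 F17746))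
theorem Q3093 : ∀ i, i < 3093 → P i := stepQ 3092 Q3092 (allL N3092 (tt N3550 F200860) (tt N3092 F17747) (tt N2289 F17748) (tt N4077 D5403) (tt N2324 F17749) (tt N4076 (iv F25062)) (tt N3092 F17750) (tt N2300 F17751) (tt N2287 (iv D3734)) (tt N3554 F200861))
theorem Q3094 : ∀ i, i < 3094 → P i := stepQ 3093 Q3093 (allL N3093 (tt N4071 (iv F25024)) (tt N2291 F17752) (tt N4074 (iv F25052)) (tt N3093 F17753) (tt N2288 (iv D3735)) (tt N2325 F17754) (tt N4078 D5405) (tt N2301 F17755) (tt N4079 D5406) (tt N3093 F17756))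
theorem Q3095 : ∀ i, i < 3095 → P i := stepQ 3094 Q3094 (allL N3094 (tt N4072 (iv F25030)) (tt N2292 F17757) (tt N4075 (iv F25057)) (tt N2290 F17758) (tt N4078 (iv F25075)) (tt N3094 F17759) (tt N2288 (iv D3736)) (tt N4080 D5407) (tt N4081 D5408) (tt N3094 F17760))
theorem Q3096 : ∀ i, i < 3096 → P i := stepQ 3095 Q3095 (allL N3095 (tt N3886 F200739) (tt N2293 F17761) (tt N4076 (iv F25061)) (tt N3971 (iv F24414)) (tt N4079 (iv F25078)) (tt N2289 F17762) (tt N4081 (iv F25088)) (tt N2303 F17763) (tt N2288 (iv D3737)) (tt N3891 F200740))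
theorem Q3097 : ∀ i, i < 3097 → P i := stepQ 3096 Q3096 (allL N3096 (tt N4073 (iv F25045)) (tt N2295 F17769) (tt N3748 (iv F22955)) (tt N4080 (iv F25082)) (tt N3096 F17770) (tt N3096 F17771) (tt N2304 F17772) (tt N2290 (iv D3739)) (tt N3972 (iv F24426)) (tt N3096 F17773))
theorem Q3098 : ∀ i, i < 3098 → P i := stepQ 3097 Q3097 (allL N3097 (tt N2498 F17774) (tt N4078 (iv F25073)) (tt N3097 F17775) (tt N3097 F17776) (tt N2292 F17777) (tt N3864 (iv F201167)) (tt N2291 (iv D3740)) (tt N3882 (iv F200803)) (tt N3863 F200788) (tt N3097 F17778))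
theorem Q3099 : ∀ i, i < 3099 → P i := stepQ 3098 Q3098 (allL N3098 (tt N2499 F17779) (tt N4079 (iv F25077)) (tt N3098 F17780) (tt N3865 F200786) (tt N2293 F17781) (tt N2329 F17782) (tt N3863 F200787) (tt N2306 F17783) (tt N2291 (iv D3741)) (tt N4082 D5414))
theorem Q3100 : ∀ i, i < 3100 → P i := stepQ 3099 Q3099 (allL N3099 (tt N2500 F17784) (tt N4080 (iv F25081)) (tt N3099 F17785) (tt N2295 F17786) (tt N3882 F200845) (tt N3099 F17787) (tt N2307 F17788) (tt N2292 (iv D3742)) (tt N3880 F200846) (tt N3099 F17789))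
theorem Q3101 : ∀ i, i < 3101 → P i := stepQ 3100 Q3100 (allL N3100 (tt N2501 F17790) (tt N4081 (iv F25086)) (tt N3100 F17791) (tt N3896 F200322) (tt N3863 (iv F200493)) (tt N3100 F17792) (tt N2293 F17793) (tt N3880 (iv F200520)) (tt N2292 (iv D3743)) (tt N4083 D5416))
theorem Q3102 : ∀ i, i < 3102 → P i := stepQ 3101 Q3101 (allL N3101 (tt N2382 F200337) (tt N3891 (iv F200482)) (tt N3101 F17795) (tt N3973 (iv F24443)) (tt N4082 (iv F25115)) (tt N2294 F17796) (tt N4083 (iv F25127)) (tt N2309 F17797) (tt N3101 F17798) (tt N2293 (iv D3744)))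
theorem Q3103 : ∀ i, i < 3103 → P i := stepQ 3102 Q3102 (allL N3102 (tt N2299 F17804) (tt N3562 F201504) (tt N2297 F17805) (tt N3754 (iv F22993)) (tt N4084 D5419) (tt N2296 (iv D3746)) (tt N4085 D5420) (tt N4070 (iv F25017)) (tt N3565 F201505) (tt N3102 F17806))
theorem Q3104 : ∀ i, i < 3104 → P i := stepQ 3103 Q3103 (allL N3103 (tt N2301 F17811) (tt N2502 F17812) (tt N4084 (iv F25139)) (tt N3103 F17813) (tt N2297 (iv D3748)) (tt N2333 F17814) (tt N4086 D5424) (tt N4071 (iv F25028)) (tt N3870 F201201) (tt N3103 F17815))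
theorem Q3105 : ∀ i, i < 3105 → P i := stepQ 3104 Q3104 (allL N3104 (tt N2302 F17816) (tt N2503 F17817) (tt N4085 (iv F25143)) (tt N2298 F17818) (tt N4086 (iv F25159)) (tt N2311 F17819) (tt N2297 (iv D3749)) (tt N4087 D5426) (tt N3904 F201489) (tt N3104 F17820))
theorem Q3106 : ∀ i, i < 3106 → P i := stepQ 3105 Q3105 (allL N3105 (tt N2304 F17829) (tt N2504 F17830) (tt N3760 (iv F23019)) (tt N4087 (iv F25168)) (tt N3105 F17831) (tt N2312 F17832) (tt N4073 (iv F25049)) (tt N2298 (iv D3752)) (tt N3991 (iv F24540)) (tt N3105 F17833))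
theorem Q3107 : ∀ i, i < 3107 → P i := stepQ 3106 Q3106 (allL N3106 (tt N4084 (iv F25138)) (tt N3106 F17834) (tt N2301 F17835) (tt N4088 D5429) (tt N2299 (iv D3753)) (tt N2334 F17836) (tt N4089 D5430) (tt N4074 (iv F25054)) (tt N4090 D5431) (tt N3106 F17837))
theorem Q3108 : ∀ i, i < 3108 → P i := stepQ 3107 Q3107 (allL N3107 (tt N4085 (iv F25142)) (tt N3107 F17838) (tt N2302 F17839) (tt N3762 (iv F23029)) (tt N4089 (iv F25185)) (tt N2313 F17840) (tt N2299 (iv D3754)) (tt N4091 D5432) (tt N4092 D5433) (tt N3107 F17841))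
theorem Q3109 : ∀ i, i < 3109 → P i := stepQ 3108 Q3108 (allL N3108 (tt N3565 F201497) (tt N3108 F17842) (tt N2303 F17843) (tt N4093 D5434) (tt N4090 (iv F25190)) (tt N2300 F17844) (tt N4092 (iv F25199)) (tt N4076 (iv F25063)) (tt N2299 (iv D3755)) (tt N3571 F201498))
theorem Q3110 : ∀ i, i < 3110 → P i := stepQ 3109 Q3109 (allL N3109 (tt N3564 F201528) (tt N3109 F17845) (tt N3995 (iv F24547)) (tt N2300 (iv D3756)) (tt N4094 D5436) (tt N4093 (iv F25201)) (tt N2315 F17846) (tt N4077 (iv F25066)) (tt N3764 (iv F23037)) (tt N3570 F201529))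
theorem Q3111 : ∀ i, i < 3111 → P i := stepQ 3110 Q3110 (allL N3110 (tt N4086 (iv F25156)) (tt N2305 F17852) (tt N4089 (iv F25184)) (tt N3110 F17853) (tt N2302 F17854) (tt N3110 F17855) (tt N2301 (iv D3758)) (tt N4095 D5438) (tt N4096 D5439) (tt N3110 F17856))
theorem Q3112 : ∀ i, i < 3112 → P i := stepQ 3111 Q3111 (allL N3111 (tt N3870 F201196) (tt N2306 F17857) (tt N4090 (iv F25189)) (tt N4097 D5440) (tt N2303 F17858) (tt N2337 F17859) (tt N4096 (iv F25220)) (tt N4079 (iv F25080)) (tt N2301 (iv D3759)) (tt N3875 F201197))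
theorem Q3113 : ∀ i, i < 3113 → P i := stepQ 3112 Q3112 (allL N3112 (tt N4087 (iv F25166)) (tt N2307 F17860) (tt N4091 (iv F25193)) (tt N2304 F17861) (tt N4095 (iv F25214)) (tt N2316 F17862) (tt N4080 (iv F25084)) (tt N2302 (iv D3760)) (tt N4098 D5442) (tt N3112 F17863))
theorem Q3114 : ∀ i, i < 3114 → P i := stepQ 3113 Q3113 (allL N3113 (tt N3904 F201430) (tt N2308 F17864) (tt N4092 (iv F25197)) (tt N3999 (iv F24562)) (tt N4096 (iv F25218)) (tt N2317 F17865) (tt N2303 F17866) (tt N4098 (iv F25230)) (tt N2302 (iv D3761)) (tt N3911 F201431))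
theorem Q3115 : ∀ i, i < 3115 → P i := stepQ 3114 Q3114 (allL N3114 (tt N2507 F17870) (tt N4095 (iv F25212)) (tt N3114 F17871) (tt N3114 F17872) (tt N2307 F17873) (tt N3114 F17874) (tt N3882 F201175) (tt N2305 (iv D3763)) (tt N3881 F201176) (tt N3114 F17875))
theorem Q3116 : ∀ i, i < 3116 → P i := stepQ 3115 Q3115 (allL N3115 (tt N2508 F17876) (tt N4096 (iv F25217)) (tt N3115 F17877) (tt N3883 F201173) (tt N2308 F17878) (tt N3115 F17879) (tt N2306 F17880) (tt N3881 F201174) (tt N2305 (iv D3764)) (tt N4099 D5446))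
theorem Q3117 : ∀ i, i < 3117 → P i := stepQ 3116 Q3116 (allL N3116 (tt N2509 F17881) (tt N4097 (iv F25221)) (tt N3866 F200793) (tt N2306 (iv D3765)) (tt N3900 F200794) (tt N2338 F17882) (tt N3883 (iv F200800)) (tt N3865 F200795) (tt N3116 F17883) (tt N4100 D5448))
theorem Q3118 : ∀ i, i < 3118 → P i := stepQ 3117 Q3117 (allL N3117 (tt N2372 F200898) (tt N3875 F200899) (tt N3117 F17885) (tt N4100 (iv F25255)) (tt N2309 F17886) (tt N2339 F17887) (tt N4099 (iv F25248)) (tt N4082 (iv F25117)) (tt N3117 F17888) (tt N2306 (iv D3766)))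
theorem Q3119 : ∀ i, i < 3119 → P i := stepQ 3118 Q3118 (allL N3118 (tt N2510 F17889) (tt N4098 (iv F25228)) (tt N3118 F17890) (tt N3919 F200842) (tt N3881 F200843) (tt N2318 F17891) (tt N3880 F200844) (tt N2308 F17892) (tt N2307 (iv D3767)) (tt N4101 D5449))
theorem Q3120 : ∀ i, i < 3120 → P i := stepQ 3119 Q3119 (allL N3119 (tt N2394 F200884) (tt N3911 (iv F201032)) (tt N3119 F17894) (tt N4001 (iv F24590)) (tt N4099 (iv F25246)) (tt N2319 F17895) (tt N2309 F17896) (tt N4101 (iv F25260)) (tt N3119 F17897) (tt N2308 (iv D3768)))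
theorem Q3121 : ∀ i, i < 3121 → P i := stepQ 3120 Q3120 (allL N3120 (tt N2313 F17909) (tt N3583 F202269) (tt N2311 F17910) (tt N3779 (iv F23111)) (tt N3120 F17911) (tt N4085 (iv F25144)) (tt N2310 (iv D3771)) (tt N4102 D5454) (tt N3588 F202270) (tt N3120 F17912))
theorem Q3122 : ∀ i, i < 3122 → P i := stepQ 3121 Q3121 (allL N3121 (tt N2316 F17925) (tt N2511 F17926) (tt N4102 (iv F25283)) (tt N2312 F17927) (tt N3121 F17928) (tt N4087 (iv F25169)) (tt N3121 F17929) (tt N2311 (iv D3775)) (tt N3927 F201441) (tt N3121 F17930))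
theorem Q3123 : ∀ i, i < 3123 → P i := stepQ 3122 Q3122 (allL N3122 (tt N4102 (iv F25282)) (tt N3122 F17941) (tt N2316 F17942) (tt N3789 (iv F23160)) (tt N3122 F17943) (tt N4091 (iv F25194)) (tt N3122 F17944) (tt N2313 (iv D3778)) (tt N4103 D5462) (tt N3122 F17945))
theorem Q3124 : ∀ i, i < 3124 → P i := stepQ 3123 Q3123 (allL N3123 (tt N3588 F202267) (tt N3123 F17946) (tt N2317 F17947) (tt N4104 D5463) (tt N3123 F17948) (tt N4092 (iv F25198)) (tt N2314 F17949) (tt N4103 (iv F25320)) (tt N2313 (iv D3779)) (tt N3597 F202268))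
theorem Q3125 : ∀ i, i < 3125 → P i := stepQ 3124 Q3124 (allL N3124 (tt N3586 F202362) (tt N3124 F17950) (tt N4029 (iv F24757)) (tt N2314 (iv D3780)) (tt N4105 D5465) (tt N2315 F17951) (tt N4104 (iv F25322)) (tt N3124 F17952) (tt N3791 (iv F23169)) (tt N3595 F202363))
theorem Q3126 : ∀ i, i < 3126 → P i := stepQ 3125 Q3125 (allL N3125 (tt N3382 F202360) (tt N3125 F17959) (tt N4030 (iv F24763)) (tt N2340 F17960) (tt N2315 (iv D3782)) (tt N4106 D5467) (tt N4094 (iv F25208)) (tt N3125 F17961) (tt N3793 (iv F23178)) (tt N3388 F202361))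
theorem Q3127 : ∀ i, i < 3127 → P i := stepQ 3126 Q3126 (allL N3126 (tt N3927 F201437) (tt N2318 F17965) (tt N4103 (iv F25317)) (tt N4034 (iv F24786)) (tt N3126 F17966) (tt N4098 (iv F25229)) (tt N3126 F17967) (tt N2317 F17968) (tt N2316 (iv D3784)) (tt N3936 F201438))
theorem Q3128 : ∀ i, i < 3128 → P i := stepQ 3127 Q3127 (allL N3127 (tt N2407 (iv F200956)) (tt N3936 (iv F201073)) (tt N3127 F17974) (tt N4036 (iv F24809)) (tt N3127 F17975) (tt N4101 (iv F25259)) (tt N3127 F17976) (tt N2319 F17977) (tt N3127 F17978) (tt N2318 (iv D3786)))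
theorem Q3129 : ∀ i, i < 3129 → P i := stepQ 3128 Q3128 (allL N3128 (tt N2323 F17985) (tt N3523 F201668) (tt N2321 F17986) (tt N3128 F17987) (tt N4107 D5473) (tt N2320 (iv D3788)) (tt N4108 D5474) (tt N2332 F17988) (tt N3525 F201669) (tt N3128 F17989))
theorem Q3130 : ∀ i, i < 3130 → P i := stepQ 3129 Q3129 (allL N3129 (tt N2325 F17994) (tt N2512 F17995) (tt N4107 (iv F25362)) (tt N3129 F17996) (tt N2321 (iv D3790)) (tt N4071 (iv F25027)) (tt N4109 D5478) (tt N2333 F17997) (tt N3856 F201547) (tt N3129 F17998))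
theorem Q3131 : ∀ i, i < 3131 → P i := stepQ 3130 Q3130 (allL N3130 (tt N2326 F17999) (tt N2513 F18000) (tt N4108 (iv F25366)) (tt N2322 F18001) (tt N4109 (iv F25388)) (tt N3130 F18002) (tt N2321 (iv D3791)) (tt N3130 F18003) (tt N3846 F201670) (tt N3130 F18004))
theorem Q3132 : ∀ i, i < 3132 → P i := stepQ 3131 Q3131 (allL N3131 (tt N4107 (iv F25361)) (tt N3131 F18016) (tt N2325 F18017) (tt N4110 D5482) (tt N2323 (iv D3794)) (tt N4074 (iv F25053)) (tt N4111 D5483) (tt N2334 F18018) (tt N4112 D5484) (tt N3131 F18019))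
theorem Q3133 : ∀ i, i < 3133 → P i := stepQ 3132 Q3132 (allL N3132 (tt N4108 (iv F25365)) (tt N3132 F18020) (tt N2326 F18021) (tt N3132 F18022) (tt N4111 (iv F25414)) (tt N3132 F18023) (tt N2323 (iv D3795)) (tt N3132 F18024) (tt N4113 D5485) (tt N3132 F18025))
theorem Q3134 : ∀ i, i < 3134 → P i := stepQ 3133 Q3133 (allL N3133 (tt N3525 F201662) (tt N3133 F18026) (tt N2327 F18027) (tt N4114 D5486) (tt N4112 (iv F25419)) (tt N2324 F18028) (tt N4113 (iv F25424)) (tt N2335 F18029) (tt N2323 (iv D3796)) (tt N3528 F201663))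
theorem Q3135 : ∀ i, i < 3135 → P i := stepQ 3134 Q3134 (allL N3134 (tt N3363 F201660) (tt N3134 F18030) (tt N3134 F18031) (tt N2324 (iv D3797)) (tt N4115 D5488) (tt N4114 (iv F25428)) (tt N3134 F18032) (tt N2336 F18033) (tt N3134 F18034) (tt N3366 F201661))
theorem Q3136 : ∀ i, i < 3136 → P i := stepQ 3135 Q3135 (allL N3135 (tt N4109 (iv F25385)) (tt N2328 F18040) (tt N4111 (iv F25413)) (tt N3135 F18041) (tt N2326 F18042) (tt N4116 D5490) (tt N2325 (iv D3799)) (tt N3135 F18043) (tt N4117 D5491) (tt N3135 F18044))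
theorem Q3137 : ∀ i, i < 3137 → P i := stepQ 3136 Q3136 (allL N3136 (tt N3856 F201501) (tt N2329 F18045) (tt N4112 (iv F25418)) (tt N4118 D5492) (tt N2327 F18046) (tt N4079 (iv F25079)) (tt N4117 (iv F25453)) (tt N2337 F18047) (tt N2325 (iv D3800)) (tt N3860 F201502))
theorem Q3138 : ∀ i, i < 3138 → P i := stepQ 3137 Q3137 (allL N3137 (tt N3846 F201664) (tt N2330 F18048) (tt N4113 (iv F25422)) (tt N3137 F18049) (tt N4117 (iv F25452)) (tt N3137 F18050) (tt N2327 F18051) (tt N3137 F18052) (tt N2326 (iv D3801)) (tt N3849 F201665))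
theorem Q3139 : ∀ i, i < 3139 → P i := stepQ 3138 Q3138 (allL N3138 (tt N2515 F18058) (tt N4116 (iv F25446)) (tt N3138 F18059) (tt N3138 F18060) (tt N3138 F18061) (tt N2328 (iv D3803)) (tt N3864 F201589) (tt N3138 F18062) (tt N3851 F201590) (tt N3138 F18063))
theorem Q3140 : ∀ i, i < 3140 → P i := stepQ 3139 Q3139 (allL N3139 (tt N2516 F18064) (tt N4117 (iv F25451)) (tt N3139 F18065) (tt N3852 F201587) (tt N2330 F18066) (tt N3851 F201588) (tt N2329 F18067) (tt N3139 F18068) (tt N2328 (iv D3804)) (tt N4119 D5497))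
theorem Q3141 : ∀ i, i < 3141 → P i := stepQ 3140 Q3140 (allL N3140 (tt N2517 F18069) (tt N4118 (iv F25455)) (tt N3853 F200791) (tt N2329 (iv D3805)) (tt N3140 F18070) (tt N3865 F200792) (tt N3852 (iv F201168)) (tt N2338 F18071) (tt N3140 F18072) (tt N4120 D5499))
theorem Q3142 : ∀ i, i < 3142 → P i := stepQ 3141 Q3141 (allL N3141 (tt N2360 F200922) (tt N3860 (iv F201126)) (tt N3141 F18074) (tt N4120 (iv F25491)) (tt N2331 F18075) (tt N4082 (iv F25116)) (tt N4119 (iv F25482)) (tt N2339 F18076) (tt N3141 F18077) (tt N2329 (iv D3806)))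
theorem Q3143 : ∀ i, i < 3143 → P i := stepQ 3142 Q3142 (allL N3142 (tt N2350 F200997) (tt N3849 (iv F201264)) (tt N3142 F18079) (tt N3142 F18080) (tt N4119 (iv F25481)) (tt N3142 F18081) (tt N2331 F18082) (tt N3142 F18083) (tt N3142 F18084) (tt N2330 (iv D3807)))
theorem Q3144 : ∀ i, i < 3144 → P i := stepQ 3143 Q3143 (allL N3143 (tt N2334 F18095) (tt N3535 F202015) (tt N2333 F18096) (tt N4121 D5504) (tt N2332 (iv D3810)) (tt N4084 (iv F25140)) (tt N3143 F18097) (tt N4107 (iv F25363)) (tt N3537 F202016) (tt N3143 F18098))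
theorem Q3145 : ∀ i, i < 3145 → P i := stepQ 3144 Q3144 (allL N3144 (tt N4121 (iv F25513)) (tt N3144 F18121) (tt N3144 F18122) (tt N2334 (iv D3816)) (tt N3144 F18123) (tt N4088 (iv F25181)) (tt N3144 F18124) (tt N4110 (iv F25410)) (tt N4122 D5512) (tt N3144 F18125))
theorem Q3146 : ∀ i, i < 3146 → P i := stepQ 3145 Q3145 (allL N3145 (tt N3537 F202012) (tt N3145 F18126) (tt N2337 F18127) (tt N4123 D5513) (tt N2335 F18128) (tt N4090 (iv F25191)) (tt N3145 F18129) (tt N4112 (iv F25420)) (tt N2334 (iv D3817)) (tt N3541 F202013))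
theorem Q3147 : ∀ i, i < 3147 → P i := stepQ 3146 Q3146 (allL N3146 (tt N3355 F202403) (tt N3146 F18130) (tt N3146 F18131) (tt N2335 (iv D3818)) (tt N4124 D5515) (tt N2336 F18132) (tt N3146 F18133) (tt N4114 (iv F25429)) (tt N3146 F18134) (tt N3358 F202404))
theorem Q3148 : ∀ i, i < 3148 → P i := stepQ 3147 Q3147 (allL N3147 (tt N3371 F202383) (tt N3147 F18140) (tt N3147 F18141) (tt N4094 (iv F25207)) (tt N2336 (iv D3820)) (tt N4125 D5517) (tt N2340 F18142) (tt N4115 (iv F25439)) (tt N3147 F18143) (tt N3375 F202384))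
theorem Q3149 : ∀ i, i < 3149 → P i := stepQ 3148 Q3148 (allL N3148 (tt N3869 (iv F201611)) (tt N2338 F18148) (tt N4126 D5520) (tt N2337 (iv D3822)) (tt N3148 F18149) (tt N4097 (iv F25222)) (tt N3148 F18150) (tt N4118 (iv F25457)) (tt N3148 F18151) (tt N3874 (iv F201601)))
theorem Q3150 : ∀ i, i < 3150 → P i := stepQ 3149 Q3149 (allL N3149 (tt N2518 F18156) (tt N4127 D5522) (tt N2338 (iv D3824)) (tt N3149 F18157) (tt N3149 F18158) (tt N3866 F200798) (tt N3149 F18159) (tt N3853 F200799) (tt N3149 F18160) (tt N4128 D5523))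
theorem Q3151 : ∀ i, i < 3151 → P i := stepQ 3150 Q3150 (allL N3150 (tt N2371 F201575) (tt N3874 (iv F201600)) (tt N4128 (iv F25594)) (tt N2339 F18162) (tt N3150 F18163) (tt N4100 (iv F25256)) (tt N3150 F18164) (tt N4120 (iv F25493)) (tt N4129 D5524) (tt N2338 (iv D3825)))
theorem Q3152 : ∀ i, i < 3152 → P i := stepQ 3151 Q3151 (allL N3151 (tt N3383 F203260) (tt N3151 F18185) (tt N3151 F18186) (tt N4106 (iv F25336)) (tt N3151 F18187) (tt N2340 (iv D3830)) (tt N4130 D5531) (tt N3151 F18188) (tt N3151 F18189) (tt N3389 F203261))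
theorem Q3153 : ∀ i, i < 3153 → P i := stepQ 3152 Q3152 (allL N3152 (tt N3152 F18200) (tt N2342 F18201) (tt N4131 D5534) (tt N2341 (iv D3833)) (tt N3152 F18202) (tt N4132 D5535) (tt N2353 F18203) (tt N3152 F18204) (tt N4133 D5536) (tt N2522 F203433))
theorem Q3154 : ∀ i, i < 3154 → P i := stepQ 3153 Q3153 (allL N3153 (tt N3153 F18205) (tt N2343 F18206) (tt N3153 F18207) (tt N4132 (iv F25655)) (tt N3153 F18208) (tt N2341 (iv D3834)) (tt N3153 F18209) (tt N3153 F18210) (tt N3153 F18211) (tt N2521 F203434))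
theorem Q3155 : ∀ i, i < 3155 → P i := stepQ 3154 Q3154 (allL N3154 (tt N3839 (iv F23441)) (tt N4132 (iv F25654)) (tt N3154 F18225) (tt N2343 F18226) (tt N4134 D5541) (tt N2342 (iv D3837)) (tt N3154 F18227) (tt N3154 F18228) (tt N4135 D5542) (tt N4136 D5543))
theorem Q3156 : ∀ i, i < 3156 → P i := stepQ 3155 Q3155 (allL N3155 (tt N3840 (iv F23447)) (tt N4133 (iv F25659)) (tt N3155 F18229) (tt N3155 F18230) (tt N3155 F18231) (tt N4135 (iv F25698)) (tt N2354 F18232) (tt N3155 F18233) (tt N2342 (iv D3838)) (tt N3155 F195417))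
theorem Q3157 : ∀ i, i < 3157 → P i := stepQ 3156 Q3156 (allL N3156 (tt N3841 (iv F23454)) (tt N2522 (iv F202992)) (tt N3156 F18234) (tt N2344 F18235) (tt N3156 F18236) (tt N4136 (iv F25703)) (tt N2355 F18237) (tt N3156 F18238) (tt N3156 F195325) (tt N2342 (iv D3839)))
theorem Q3158 : ∀ i, i < 3158 → P i := stepQ 3157 Q3157 (allL N3157 (tt N3842 (iv F23461)) (tt N2521 (iv F202993)) (tt N2345 F18239) (tt N4136 (iv F25702)) (tt N3157 F18240) (tt N2344 F18241) (tt N3157 F18242) (tt N3157 F18243) (tt N2520 F202483) (tt N2343 (iv D3840)))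
theorem Q3159 : ∀ i, i < 3159 → P i := stepQ 3158 Q3158 (allL N3158 (tt N3843 (iv F23482)) (tt N3158 F18254) (tt N2520 (iv F202182)) (tt N4137 D5550) (tt N3158 F18255) (tt N2346 F18256) (tt N3158 F18257) (tt N3158 F18258) (tt N2345 (iv D3843)) (tt N3158 F18259))
theorem Q3160 : ∀ i, i < 3160 → P i := stepQ 3159 Q3159 (allL N3159 (tt N3844 (iv F23488)) (tt N3159 F18260) (tt N3159 F195163) (tt N2346 (iv D3844)) (tt N4138 D5552) (tt N4137 (iv F25735)) (tt N2356 F18261) (tt N3159 F18262) (tt N3159 F18263) (tt N3159 F18264))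
theorem Q3161 : ∀ i, i < 3161 → P i := stepQ 3160 Q3160 (allL N3160 (tt N3845 (iv F23499)) (tt N3160 F18270) (tt N2514 (iv F201295)) (tt N4138 (iv F25745)) (tt N2347 (iv D3846)) (tt N4139 D5555) (tt N2357 F18271) (tt N3160 F18272) (tt N2349 F18273) (tt N3160 F18274))
theorem Q3162 : ∀ i, i < 3162 → P i := stepQ 3161 Q3161 (allL N3161 (tt N3847 (iv F23509)) (tt N2516 (iv F201284)) (tt N2349 F18281) (tt N4140 D5558) (tt N2348 (iv D3848)) (tt N4141 D5559) (tt N2358 F18282) (tt N3161 F18283) (tt N2514 (iv F201296)) (tt N2351 F18284))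
theorem Q3163 : ∀ i, i < 3163 → P i := stepQ 3162 Q3162 (allL N3162 (tt N3848 (iv F23514)) (tt N3162 F18285) (tt N4141 (iv F25782)) (tt N3162 F18286) (tt N3162 F18287) (tt N2349 (iv D3849)) (tt N4142 D5560) (tt N3162 F18288) (tt N4139 (iv F25764)) (tt N2352 F18289))
theorem Q3164 : ∀ i, i < 3164 → P i := stepQ 3163 Q3163 (allL N3163 (tt N4119 (iv F201299)) (tt N2351 F18296) (tt N3163 F18297) (tt N4141 F195491) (tt N2350 (iv D3851)) (tt N4140 (iv F195510)) (tt N2360 F18298) (tt N3163 F18299) (tt N3163 F18300) (tt N2516 (iv F201287)))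
theorem Q3165 : ∀ i, i < 3165 → P i := stepQ 3164 Q3164 (allL N3164 (tt N3851 (iv F23529)) (tt N4141 F195487) (tt N3164 F18301) (tt N2351 (iv D3852)) (tt N3164 F18302) (tt N2516 (iv F201286)) (tt N2361 F18303) (tt N3164 F18304) (tt N2515 (iv F201301)) (tt N4140 (iv F25781)))
theorem Q3166 : ∀ i, i < 3166 → P i := stepQ 3165 Q3165 (allL N3165 (tt N3852 (iv F23534)) (tt N4140 (iv F195509)) (tt N2352 F18305) (tt N2516 (iv F201285)) (tt N3165 F18306) (tt N2351 (iv D3853)) (tt N2517 F200897) (tt N3165 F18307) (tt N3165 F18308) (tt N4141 (iv F25785)))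
theorem Q3167 : ∀ i, i < 3167 → P i := stepQ 3166 Q3166 (allL N3166 (tt N3853 (iv F23539)) (tt N3166 F18309) (tt N2517 (iv F200556)) (tt N3166 F18310) (tt N3166 F18311) (tt N2363 F18312) (tt N2352 (iv D3854)) (tt N2518 (iv F200562)) (tt N3166 F18313) (tt N4142 (iv F25790)))
theorem Q3168 : ∀ i, i < 3168 → P i := stepQ 3167 Q3167 (allL N3167 (tt N3167 F18314) (tt N3167 F18315) (tt N2353 (iv D3855)) (tt N3167 F18316) (tt N3167 F18317) (tt N3167 F18318) (tt N4131 (iv F25651)) (tt N2364 F18319) (tt N4143 D5568) (tt N2523 F203435))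
theorem Q3169 : ∀ i, i < 3169 → P i := stepQ 3168 Q3168 (allL N3168 (tt N3168 F18320) (tt N2354 F18321) (tt N4143 (iv F25825)) (tt N3168 F18322) (tt N3168 F18323) (tt N3168 F18324) (tt N4133 (iv F25662)) (tt N2365 F18325) (tt N2353 (iv D3856)) (tt N3168 F195415))
theorem Q3170 : ∀ i, i < 3170 → P i := stepQ 3169 Q3169 (allL N3169 (tt N3854 (iv F23578)) (tt N3169 F18369) (tt N3169 F194889) (tt N2357 F18370) (tt N2356 (iv D3866)) (tt N4144 D5584) (tt N4138 (iv F25746)) (tt N2366 F18371) (tt N3169 F18372) (tt N3169 F18373))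
theorem Q3171 : ∀ i, i < 3171 → P i := stepQ 3170 Q3170 (allL N3170 (tt N3855 (iv F23592)) (tt N3170 F18383) (tt N2495 (iv F200566)) (tt N4144 (iv F25901)) (tt N2377 F18384) (tt N2357 (iv D3869)) (tt N4145 D5589) (tt N2367 F18385) (tt N2359 F18386) (tt N3170 F18387))
theorem Q3172 : ∀ i, i < 3172 → P i := stepQ 3171 Q3171 (allL N3171 (tt N3857 (iv F23605)) (tt N2517 F200894) (tt N3171 F18397) (tt N2358 (iv D3872)) (tt N3171 F18398) (tt N4146 D5593) (tt N4140 (iv F25779)) (tt N2368 F18399) (tt N3171 F194878) (tt N2361 F18400))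
theorem Q3173 : ∀ i, i < 3173 → P i := stepQ 3172 Q3172 (allL N3172 (tt N3858 (iv F23610)) (tt N2499 (iv F200552)) (tt N2359 F18401) (tt N4146 (iv F25941)) (tt N2379 F18402) (tt N2358 (iv D3873)) (tt N4147 D5595) (tt N2369 F18403) (tt N2495 (iv F200567)) (tt N2362 F18404))
theorem Q3174 : ∀ i, i < 3174 → P i := stepQ 3173 Q3173 (allL N3173 (tt N3859 (iv F23615)) (tt N3173 F18405) (tt N4147 (iv F25947)) (tt N3173 F18406) (tt N2380 F18407) (tt N4142 (iv F25789)) (tt N2359 (iv D3874)) (tt N4148 D5596) (tt N4145 (iv F25925)) (tt N2363 F18408))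
theorem Q3175 : ∀ i, i < 3175 → P i := stepQ 3174 Q3174 (allL N3174 (tt N4120 (iv F201160)) (tt N2361 F18413) (tt N4142 F195489) (tt N2360 (iv D3876)) (tt N3174 F18414) (tt N4147 (iv F195513)) (tt N4141 F195490) (tt N2371 F18415) (tt N4149 D5601) (tt N2517 F200886))
theorem Q3176 : ∀ i, i < 3176 → P i := stepQ 3175 Q3175 (allL N3175 (tt N4082 (iv F200577)) (tt N2362 F18416) (tt N3175 F18417) (tt N4147 F195551) (tt N2382 F18418) (tt N2360 (iv D3877)) (tt N4146 (iv F195601)) (tt N2372 F18419) (tt N3175 F18420) (tt N2499 (iv F200555)))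
theorem Q3177 : ∀ i, i < 3177 → P i := stepQ 3176 Q3176 (allL N3176 (tt N3863 (iv F23630)) (tt N4147 F195544) (tt N3176 F18421) (tt N2362 F18422) (tt N2501 F200338) (tt N2361 (iv D3878)) (tt N2499 (iv F200554)) (tt N2373 F18423) (tt N2498 (iv F200578)) (tt N4146 (iv F25943)))
theorem Q3178 : ∀ i, i < 3178 → P i := stepQ 3177 Q3177 (allL N3177 (tt N3864 (iv F23634)) (tt N4149 (iv F25970)) (tt N3177 F18424) (tt N3177 F18425) (tt N3177 F18426) (tt N2498 F200923) (tt N2515 (iv F201300)) (tt N2374 F18427) (tt N2361 (iv D3879)) (tt N3177 F195156))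
theorem Q3179 : ∀ i, i < 3179 → P i := stepQ 3178 Q3178 (allL N3178 (tt N3865 (iv F23639)) (tt N4146 (iv F195600)) (tt N2363 F18428) (tt N2499 (iv F200553)) (tt N2385 F18429) (tt N2517 (iv F200557)) (tt N2362 (iv D3880)) (tt N2509 (iv F200560)) (tt N3178 F18430) (tt N4147 (iv F25949)))
theorem Q3180 : ∀ i, i < 3180 → P i := stepQ 3179 Q3179 (allL N3179 (tt N3866 (iv F23643)) (tt N3179 F18431) (tt N2509 (iv F200558)) (tt N3179 F18432) (tt N2386 F18433) (tt N2518 (iv F200561)) (tt N2376 F18434) (tt N2363 (iv D3881)) (tt N3179 F18435) (tt N4148 (iv F25954)))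
theorem Q3181 : ∀ i, i < 3181 → P i := stepQ 3180 Q3180 (allL N3180 (tt N3180 F18436) (tt N3180 F18437) (tt N2365 F18438) (tt N4150 D5608) (tt N3180 F18439) (tt N3180 F18440) (tt N3180 F18441) (tt N4143 (iv F25828)) (tt N2364 (iv D3882)) (tt N3180 F195418))
theorem Q3182 : ∀ i, i < 3182 → P i := stepQ 3181 Q3181 (allL N3181 (tt N3867 (iv F23695)) (tt N3181 F18512) (tt N3181 F194534) (tt N2367 F18513) (tt N3181 F18514) (tt N2366 (iv D3898)) (tt N4151 D5633) (tt N4144 (iv F25903)) (tt N3181 F18515) (tt N3181 F18516))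
theorem Q3183 : ∀ i, i < 3183 → P i := stepQ 3182 Q3182 (allL N3182 (tt N3868 (iv F23717)) (tt N3182 F18533) (tt N2505 (iv F201181)) (tt N4151 (iv F26110)) (tt N2387 F18534) (tt N3182 F18535) (tt N2367 (iv D3903)) (tt N4152 D5640) (tt N2370 F18536) (tt N3182 F18537))
theorem Q3184 : ∀ i, i < 3184 → P i := stepQ 3183 Q3183 (allL N3183 (tt N3871 (iv F23733)) (tt N2509 F200891) (tt N3183 F18550) (tt N2369 F18551) (tt N4153 D5647) (tt N2368 (iv D3907)) (tt N4154 D5648) (tt N4146 (iv F25942)) (tt N3183 F194522) (tt N2373 F18552))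
theorem Q3185 : ∀ i, i < 3185 → P i := stepQ 3184 Q3184 (allL N3184 (tt N3872 (iv F23741)) (tt N2508 (iv F201177)) (tt N2370 F18556) (tt N4154 (iv F26171)) (tt N2389 F18557) (tt N3184 F18558) (tt N2369 (iv D3909)) (tt N4155 D5651) (tt N2505 (iv F201182)) (tt N2375 F18559))
theorem Q3186 : ∀ i, i < 3186 → P i := stepQ 3185 Q3185 (allL N3185 (tt N3873 (iv F23746)) (tt N3185 F18560) (tt N4155 (iv F26180)) (tt N3185 F18561) (tt N2390 F18562) (tt N3185 F18563) (tt N4148 (iv F25953)) (tt N2370 (iv D3910)) (tt N4152 (iv F26140)) (tt N2376 F18564))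
theorem Q3187 : ∀ i, i < 3187 → P i := stepQ 3186 Q3186 (allL N3186 (tt N4128 (iv F201157)) (tt N3186 F18572) (tt N2371 (iv D3913)) (tt N3186 F18573) (tt N3186 F18574) (tt N4148 (iv F195515)) (tt N3186 F18575) (tt N4142 F195493) (tt N4156 D5657) (tt N2518 F200876))
theorem Q3188 : ∀ i, i < 3188 → P i := stepQ 3187 Q3187 (allL N3187 (tt N4100 (iv F201150)) (tt N2373 F18576) (tt N4148 F195549) (tt N2372 F18577) (tt N4157 D5658) (tt N2371 (iv D3914)) (tt N4155 (iv F195606)) (tt N4147 F195550) (tt N4158 D5660) (tt N2509 F200873))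
theorem Q3189 : ∀ i, i < 3189 → P i := stepQ 3188 Q3188 (allL N3188 (tt N4129 (iv F202018)) (tt N2374 F18578) (tt N4156 (iv F26203)) (tt N3188 F18579) (tt N3188 F18580) (tt N4158 (iv F26214)) (tt N3188 F18581) (tt N4149 (iv F25973)) (tt N2371 (iv D3915)) (tt N3188 F195146))
theorem Q3190 : ∀ i, i < 3190 → P i := stepQ 3189 Q3189 (allL N3189 (tt N4099 (iv F201188)) (tt N2375 F18582) (tt N3189 F18583) (tt N4155 F195674) (tt N2394 F18584) (tt N3189 F18585) (tt N2372 (iv D3916)) (tt N4154 (iv F195780)) (tt N3189 F18586) (tt N2508 (iv F201180)))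
theorem Q3191 : ∀ i, i < 3191 → P i := stepQ 3190 Q3190 (allL N3190 (tt N3880 (iv F23772)) (tt N4157 (iv F26206)) (tt N3190 F18587) (tt N2395 F18588) (tt N2373 (iv D3917)) (tt N3190 F18589) (tt N2510 (iv F200608)) (tt N2501 F200371) (tt N2500 (iv F200612)) (tt N4153 (iv F26169)))
theorem Q3192 : ∀ i, i < 3192 → P i := stepQ 3191 Q3191 (allL N3191 (tt N3881 (iv F23776)) (tt N4155 F195665) (tt N3191 F18590) (tt N2375 F18591) (tt N2510 F200885) (tt N3191 F18592) (tt N2373 (iv D3918)) (tt N2508 (iv F201179)) (tt N2507 (iv F201277)) (tt N4154 (iv F26173)))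
theorem Q3193 : ∀ i, i < 3193 → P i := stepQ 3192 Q3192 (allL N3192 (tt N3882 (iv F23780)) (tt N4158 (iv F26212)) (tt N3192 F18593) (tt N3192 F18594) (tt N2500 F200900) (tt N2374 F18595) (tt N2507 (iv F201276)) (tt N2498 F200901) (tt N2373 (iv D3919)) (tt N3192 F194880))
theorem Q3194 : ∀ i, i < 3194 → P i := stepQ 3193 Q3193 (allL N3193 (tt N3883 (iv F23789)) (tt N4154 (iv F195779)) (tt N2376 F18600) (tt N2508 (iv F201178)) (tt N2398 F18601) (tt N3193 F18602) (tt N2509 F200879) (tt N2375 (iv D3921)) (tt N3193 F18603) (tt N4155 (iv F26183)))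
theorem Q3195 : ∀ i, i < 3195 → P i := stepQ 3194 Q3194 (allL N3194 (tt N3884 (iv F23832)) (tt N3194 F18650) (tt N2496 (iv F200546)) (tt N3194 F18651) (tt N4145 (iv F25924)) (tt N3194 F18652) (tt N2377 (iv D3931)) (tt N4159 D5682) (tt N2380 F18653) (tt N3194 F18654))
theorem Q3196 : ∀ i, i < 3196 → P i := stepQ 3195 Q3195 (allL N3195 (tt N3887 (iv F23850)) (tt N2425 (iv F200162)) (tt N2415 F18669) (tt N2379 F18670) (tt N4160 D5689) (tt N2378 (iv D3935)) (tt N4161 D5690) (tt N2388 F18671) (tt N2421 (iv F200161)) (tt N2383 F18672))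
theorem Q3197 : ∀ i, i < 3197 → P i := stepQ 3196 Q3196 (allL N3196 (tt N3888 (iv F23860)) (tt N2501 F200324) (tt N2380 F18677) (tt N4161 (iv F26346)) (tt N4147 (iv F25948)) (tt N3196 F18678) (tt N2379 (iv D3937)) (tt N4157 (iv F195605)) (tt N2496 (iv F200547)) (tt N2385 F18679))
theorem Q3198 : ∀ i, i < 3198 → P i := stepQ 3197 Q3197 (allL N3197 (tt N3889 (iv F23864)) (tt N3197 F18680) (tt N4157 (iv F195604)) (tt N2418 F18681) (tt N4148 (iv F25952)) (tt N3197 F18682) (tt N2390 F18683) (tt N2380 (iv D3938)) (tt N4159 (iv F26312)) (tt N2386 F18684))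
theorem Q3199 : ∀ i, i < 3199 → P i := stepQ 3198 Q3198 (allL N3198 (tt N3899 (iv F200139)) (tt N2416 F200031) (tt N2381 (iv D3941)) (tt N3198 F18694) (tt N3198 F18695) (tt N4162 D5698) (tt N3198 F18696) (tt N2391 F18697) (tt N2413 (iv F199917)) (tt N2384 F200032))
theorem Q3200 : ∀ i, i < 3200 → P i := stepQ 3199 Q3199 (allL N3199 (tt N3973 (iv F200182)) (tt N2383 F18698) (tt N4162 (iv F26379)) (tt N2382 F18699) (tt N4161 F195673) (tt N2381 (iv D3942)) (tt N4160 (iv F195778)) (tt N2392 F18700) (tt N4163 D5702) (tt N2425 (iv F200165)))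
theorem Q3201 : ∀ i, i < 3201 → P i := stepQ 3200 Q3200 (allL N3200 (tt N3962 (iv F199921)) (tt N2384 F18701) (tt N2413 (iv F199916)) (tt N3200 F18702) (tt N3200 F18703) (tt N4163 (iv F26395)) (tt N3200 F18704) (tt N2393 F18705) (tt N2381 (iv D3943)) (tt N2416 (iv F199915)))
theorem Q3202 : ∀ i, i < 3202 → P i := stepQ 3201 Q3201 (allL N3201 (tt N4083 (iv F200526)) (tt N2385 F18706) (tt N3201 F18707) (tt N4160 (iv F195777)) (tt N4146 F195663) (tt N3201 F18708) (tt N2382 (iv D3944)) (tt N4153 (iv F195775)) (tt N3201 F18709) (tt N2501 F200325))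
theorem Q3203 : ∀ i, i < 3203 → P i := stepQ 3202 Q3202 (allL N3202 (tt N3896 (iv F23893)) (tt N4161 F195662) (tt N2423 F18710) (tt N2501 (iv F200167)) (tt N2383 (iv D3945)) (tt N3202 F18711) (tt N2425 (iv F200164)) (tt N2395 F18712) (tt N2424 F200019) (tt N4160 (iv F26344)))
theorem Q3204 : ∀ i, i < 3204 → P i := stepQ 3203 Q3203 (allL N3203 (tt N3897 (iv F23897)) (tt N4160 (iv F195776)) (tt N2424 F18713) (tt N2385 F18714) (tt N2425 (iv F200163)) (tt N3203 F18715) (tt N2383 (iv D3946)) (tt N2441 (iv F200168)) (tt N2423 F200020) (tt N4161 (iv F26348)))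
theorem Q3205 : ∀ i, i < 3205 → P i := stepQ 3204 Q3204 (allL N3204 (tt N3898 (iv F23901)) (tt N4163 (iv F26393)) (tt N2425 F18716) (tt N3204 F18717) (tt N2424 F200021) (tt N2384 F18718) (tt N2423 F200022) (tt N2397 F18719) (tt N2383 (iv D3947)) (tt N4162 (iv F200159)))
theorem Q3206 : ∀ i, i < 3206 → P i := stepQ 3205 Q3205 (allL N3205 (tt N3900 (iv F23912)) (tt N4153 (iv F195774)) (tt N2386 F18725) (tt N2441 F200326) (tt N2509 (iv F200559)) (tt N3205 F18726) (tt N2398 F18727) (tt N2385 (iv D3949)) (tt N3205 F18728) (tt N4157 F195672))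
theorem Q3207 : ∀ i, i < 3207 → P i := stepQ 3206 Q3206 (allL N3206 (tt N3901 (iv F23967)) (tt N3206 F18785) (tt N2506 (iv F200936)) (tt N3206 F18786) (tt N4152 (iv F26138)) (tt N2399 F18787) (tt N4159 (iv F26311)) (tt N2387 (iv D3964)) (tt N2390 F18788) (tt N3206 F18789))
theorem Q3208 : ∀ i, i < 3208 → P i := stepQ 3207 Q3207 (allL N3207 (tt N3905 (iv F23993)) (tt N2441 F200369) (tt N2431 F18812) (tt N4153 (iv F26167)) (tt N2388 (iv D3971)) (tt N3207 F18813) (tt N4164 D5744) (tt N4160 (iv F26343)) (tt N2437 F200370) (tt N2395 F18814))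
theorem Q3209 : ∀ i, i < 3209 → P i := stepQ 3208 Q3208 (allL N3208 (tt N3906 (iv F23997)) (tt N2443 (iv F200592)) (tt N2432 F18815) (tt N2389 F18816) (tt N4164 (iv F26557)) (tt N2401 F18817) (tt N2388 (iv D3972)) (tt N4165 D5746) (tt N2438 (iv F200587)) (tt N2396 F18818))
theorem Q3210 : ∀ i, i < 3210 → P i := stepQ 3209 Q3209 (allL N3209 (tt N3907 (iv F24010)) (tt N2510 (iv F200606)) (tt N2390 F18825) (tt N4165 (iv F26563)) (tt N4155 (iv F26181)) (tt N2402 F18826) (tt N4157 F195670) (tt N2389 (iv D3975)) (tt N2506 (iv F200937)) (tt N2398 F18827))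
theorem Q3211 : ∀ i, i < 3211 → P i := stepQ 3210 Q3210 (allL N3210 (tt N3923 (iv F200512)) (tt N2433 (iv F200153)) (tt N2392 F18843) (tt N3210 F18844) (tt N4166 D5757) (tt N2391 (iv D3980)) (tt N4167 D5758) (tt N4162 (iv F26381)) (tt N2429 (iv F200152)) (tt N2397 F200355))
theorem Q3212 : ∀ i, i < 3212 → P i := stepQ 3211 Q3211 (allL N3211 (tt N4000 (iv F200509)) (tt N2395 F18849) (tt N4166 (iv F26600)) (tt N4157 (iv F26207)) (tt N2392 (iv D3982)) (tt N3211 F18850) (tt N4165 (iv F195786)) (tt N4161 F195671) (tt N4168 D5763) (tt N2441 F200345))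
theorem Q3213 : ∀ i, i < 3213 → P i := stepQ 3212 Q3212 (allL N3212 (tt N4001 (iv F200613)) (tt N2396 F18851) (tt N4167 (iv F26603)) (tt N2394 F18852) (tt N4165 F195924) (tt N2405 F18853) (tt N2392 (iv D3983)) (tt N4164 (iv F196101)) (tt N4169 D5765) (tt N2443 (iv F200595)))
theorem Q3214 : ∀ i, i < 3214 → P i := stepQ 3213 Q3213 (allL N3213 (tt N3987 (iv F200192)) (tt N2397 F18854) (tt N2429 (iv F200151)) (tt N3213 F18855) (tt N4168 (iv F26620)) (tt N2393 F18856) (tt N4169 (iv F26628)) (tt N4163 (iv F26396)) (tt N2392 (iv D3984)) (tt N2433 (iv F200150)))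
theorem Q3215 : ∀ i, i < 3215 → P i := stepQ 3214 Q3214 (allL N3214 (tt N4101 F200877) (tt N2398 F18861) (tt N3214 F18862) (tt N4164 (iv F196100)) (tt N4154 F195908) (tt N2407 F18863) (tt N4153 F195909) (tt N2394 (iv D3986)) (tt N3214 F18864) (tt N2510 F200878))
theorem Q3216 : ∀ i, i < 3216 → P i := stepQ 3215 Q3215 (allL N3215 (tt N3919 (iv F24050)) (tt N4165 F195907) (tt N2440 F18865) (tt N2510 (iv F200607)) (tt N2396 F18866) (tt N2461 (iv F200610)) (tt N2395 (iv D3987)) (tt N2443 (iv F200594)) (tt N2442 F200362) (tt N4164 (iv F26558)))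
theorem Q3217 : ∀ i, i < 3217 → P i := stepQ 3216 Q3216 (allL N3216 (tt N3920 (iv F24053)) (tt N4168 (iv F26619)) (tt N2441 F18867) (tt N2426 (iv F200193)) (tt N2397 F18868) (tt N3216 F18869) (tt N2442 (iv F200190)) (tt N2424 F200051) (tt N2395 (iv D3988)) (tt N4166 (iv F200147)))
theorem Q3218 : ∀ i, i < 3218 → P i := stepQ 3217 Q3217 (allL N3217 (tt N3921 (iv F24057)) (tt N4164 (iv F196099)) (tt N2442 F18870) (tt N2398 F18871) (tt N2443 (iv F200593)) (tt N2410 F18872) (tt N2441 F200353) (tt N2396 (iv D3989)) (tt N2440 F200354) (tt N4165 (iv F26565)))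
theorem Q3219 : ∀ i, i < 3219 → P i := stepQ 3218 Q3218 (allL N3218 (tt N3922 (iv F24061)) (tt N4169 (iv F26625)) (tt N2443 F18873) (tt N3218 F18874) (tt N2442 F200363) (tt N2411 F18875) (tt N2397 F18876) (tt N2440 F200364) (tt N2396 (iv D3990)) (tt N4167 (iv F200596)))
theorem Q3220 : ∀ i, i < 3220 → P i := stepQ 3219 Q3219 (allL N3219 (tt N3928 (iv F24201)) (tt N2460 (iv F201315)) (tt N2449 F19029) (tt N3219 F19030) (tt N2401 F19031) (tt N4170 D5826) (tt N2400 (iv D4026)) (tt N4171 D5827) (tt N2456 (iv F201310)) (tt N2408 F19032))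
theorem Q3221 : ∀ i, i < 3221 → P i := stepQ 3220 Q3220 (allL N3220 (tt N3929 (iv F24211)) (tt N2461 (iv F200609)) (tt N2451 F19037) (tt N2402 F19038) (tt N4171 (iv F26881)) (tt N4165 (iv F26564)) (tt N3220 F19039) (tt N2401 (iv D4028)) (tt N2457 F200590) (tt N2410 F19040))
theorem Q3222 : ∀ i, i < 3222 → P i := stepQ 3221 Q3221 (allL N3221 (tt N3950 (iv F201262)) (tt N2450 F200961) (tt N2404 F19079) (tt N4172 D5845) (tt N2403 (iv D4039)) (tt N3221 F19080) (tt N4173 D5846) (tt N3221 F19081) (tt N2446 (iv F200619)) (tt N2409 F200962))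
theorem Q3223 : ∀ i, i < 3223 → P i := stepQ 3222 Q3222 (allL N3222 (tt N3952 (iv F201226)) (tt N2452 (iv F200600)) (tt N2405 F19083) (tt N3222 F19084) (tt N4173 (iv F26952)) (tt N4167 (iv F26605)) (tt N2403 (iv D4040)) (tt N4174 D5848) (tt N2447 (iv F200599)) (tt N2411 F200942))
theorem Q3224 : ∀ i, i < 3224 → P i := stepQ 3223 Q3223 (allL N3223 (tt N4035 (iv F201214)) (tt N2408 F19097) (tt N4173 (iv F26951)) (tt N3223 F19098) (tt N2405 F19099) (tt N4171 F196347) (tt N2404 (iv D4044)) (tt N4170 (iv F196602)) (tt N4175 D5856) (tt N2460 (iv F201318)))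
theorem Q3225 : ∀ i, i < 3225 → P i := stepQ 3224 Q3224 (allL N3224 (tt N4017 (iv F200649)) (tt N2409 F19100) (tt N2446 (iv F200618)) (tt N4176 D5857) (tt N2406 F19101) (tt N3224 F19102) (tt N4175 (iv F26992)) (tt N3224 F19103) (tt N2404 (iv D4045)) (tt N2450 (iv F200617)))
theorem Q3226 : ∀ i, i < 3226 → P i := stepQ 3225 Q3225 (allL N3225 (tt N4036 F200604) (tt N2410 F19104) (tt N4174 (iv F26959)) (tt N2407 F19105) (tt N4170 (iv F196601)) (tt N4164 F196323) (tt N3225 F19106) (tt N2405 (iv D4046)) (tt N4177 D5859) (tt N2461 (iv F200611)))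
theorem Q3227 : ∀ i, i < 3227 → P i := stepQ 3226 Q3226 (allL N3226 (tt N4019 (iv F200644)) (tt N2411 F19107) (tt N2447 (iv F200598)) (tt N3226 F19108) (tt N4175 (iv F26991)) (tt N4169 (iv F26627)) (tt N2406 F19109) (tt N4177 (iv F27005)) (tt N2405 (iv D4047)) (tt N2452 (iv F200597)))
theorem Q3228 : ∀ i, i < 3228 → P i := stepQ 3227 Q3227 (allL N3227 (tt N3946 (iv F24292)) (tt N4171 F196322) (tt N2458 F19114) (tt N3227 F19115) (tt N2461 F200952) (tt N2408 (iv D4049)) (tt N3227 F19116) (tt N2460 (iv F201317)) (tt N2459 F200953) (tt N4170 (iv F26878)))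
theorem Q3229 : ∀ i, i < 3229 → P i := stepQ 3228 Q3228 (allL N3228 (tt N3947 (iv F24296)) (tt N4170 (iv F196600)) (tt N2459 F19117) (tt N3228 F19118) (tt N2410 F19119) (tt N2460 (iv F201316)) (tt N3228 F19120) (tt N2408 (iv D4050)) (tt N2458 F200941) (tt N4171 (iv F26883)))
theorem Q3230 : ∀ i, i < 3230 → P i := stepQ 3229 Q3229 (allL N3229 (tt N3948 (iv F24301)) (tt N4175 (iv F26990)) (tt N2460 F19121) (tt N2492 (iv F201323)) (tt N2411 F19122) (tt N2459 F200954) (tt N2409 F19123) (tt N2458 F200955) (tt N2408 (iv D4051)) (tt N4173 (iv F201311)))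
theorem Q3231 : ∀ i, i < 3231 → P i := stepQ 3230 Q3230 (allL N3230 (tt N3949 (iv F24305)) (tt N4176 (iv F26993)) (tt N3230 F19124) (tt N2409 (iv D4052)) (tt N3230 F19125) (tt N3230 F19126) (tt N2492 (iv F201324)) (tt N3230 F19127) (tt N3230 F19128) (tt N4172 (iv F201327)))
theorem Q3232 : ∀ i, i < 3232 → P i := stepQ 3231 Q3231 (allL N3231 (tt N3951 (iv F24316)) (tt N4177 (iv F27002)) (tt N2461 F19133) (tt N3231 F19134) (tt N2458 (iv F200643)) (tt N2440 F200410) (tt N3231 F19135) (tt N2411 F19136) (tt N2410 (iv D4054)) (tt N4174 (iv F200603)))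
theorem Q3233 : ∀ i, i < 3233 → P i := stepQ 3232 Q3232 (allL N3232 (tt N2413 F19140) (tt N3953 (iv F24326)) (tt N3962 F200030) (tt N2412 (iv D4056)) (tt N3232 F19141) (tt N4178 D5869) (tt N3232 F19142) (tt N2427 F19143) (tt N3899 (iv F200140)) (tt N2419 F19144))
theorem Q3234 : ∀ i, i < 3234 → P i := stepQ 3233 Q3233 (allL N3233 (tt N2414 F19145) (tt N3954 (iv F24332)) (tt N3233 F19146) (tt N4178 (iv F27042)) (tt N3233 F19147) (tt N2412 (iv D4057)) (tt N4179 D5871) (tt N2428 F19148) (tt N3233 F19149) (tt N2420 F19150))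
theorem Q3235 : ∀ i, i < 3235 → P i := stepQ 3234 Q3234 (allL N3234 (tt N4178 (iv F27041)) (tt N2415 F19156) (tt N4163 F200015) (tt N2414 F19157) (tt N4180 D5874) (tt N2413 (iv D4059)) (tt N4181 D5875) (tt N2429 F19158) (tt N4162 F200016) (tt N2421 F19159))
theorem Q3236 : ∀ i, i < 3236 → P i := stepQ 3235 Q3235 (allL N3235 (tt N4179 (iv F27050)) (tt N2417 F19165) (tt N3235 F19166) (tt N4181 (iv F27070)) (tt N3235 F19167) (tt N3235 F19168) (tt N2414 (iv D4061)) (tt N4182 D5878) (tt N3235 F19169) (tt N2422 F19170))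
theorem Q3237 : ∀ i, i < 3237 → P i := stepQ 3236 Q3236 (allL N3236 (tt N3959 (iv F24355)) (tt N4180 (iv F27064)) (tt N4160 (iv F26341)) (tt N3236 F19171) (tt N2415 (iv D4062)) (tt N3236 F19172) (tt N4162 F195913) (tt N2431 F19173) (tt N4181 (iv F200144)) (tt N2423 F19174))
theorem Q3238 : ∀ i, i < 3238 → P i := stepQ 3237 Q3237 (allL N3237 (tt N3960 (iv F24360)) (tt N4181 (iv F27069)) (tt N4161 (iv F26345)) (tt N2417 F19175) (tt N4162 (iv F195790)) (tt N3237 F19176) (tt N2415 (iv D4063)) (tt N4166 (iv F195788)) (tt N4180 (iv F200149)) (tt N2424 F19177))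
theorem Q3239 : ∀ i, i < 3239 → P i := stepQ 3238 Q3238 (allL N3238 (tt N3961 (iv F24364)) (tt N4162 (iv F200158)) (tt N2421 (iv F200160)) (tt N3238 F19178) (tt N4181 (iv F200143)) (tt N2416 F19179) (tt N4180 (iv F200148)) (tt N2433 F19180) (tt N2415 (iv D4064)) (tt N4163 F200014))
theorem Q3240 : ∀ i, i < 3240 → P i := stepQ 3239 Q3239 (allL N3239 (tt N3963 (iv F24374)) (tt N4182 (iv F27083)) (tt N2418 F19186) (tt N4166 (iv F195787)) (tt N3239 F19187) (tt N3239 F19188) (tt N2434 F19189) (tt N2417 (iv D4066)) (tt N3239 F19190) (tt N2426 F19191))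
theorem Q3241 : ∀ i, i < 3241 → P i := stepQ 3240 Q3240 (allL N3240 (tt N2421 F19197) (tt N3965 (iv F24386)) (tt N3961 F200302) (tt N2420 F19198) (tt N4183 D5887) (tt N2419 (iv D4068)) (tt N4184 D5888) (tt N2435 F19199) (tt N3887 F200303) (tt N4178 (iv F27044)))
theorem Q3242 : ∀ i, i < 3242 → P i := stepQ 3241 Q3241 (allL N3241 (tt N2422 F19205) (tt N3966 (iv F24396)) (tt N3241 F19206) (tt N4184 (iv F27125)) (tt N3241 F19207) (tt N3241 F19208) (tt N2420 (iv D4070)) (tt N4185 D5891) (tt N2494 F19209) (tt N4179 (iv F27055)))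
theorem Q3243 : ∀ i, i < 3243 → P i := stepQ 3242 Q3242 (allL N3242 (tt N4183 (iv F27120)) (tt N2423 F19217) (tt N4181 F195912) (tt N3242 F19218) (tt N2421 (iv D4073)) (tt N3242 F19219) (tt N4163 F200050) (tt N2437 F19220) (tt N4160 (iv F200166)) (tt N4180 (iv F27068)))
theorem Q3244 : ∀ i, i < 3244 → P i := stepQ 3243 Q3243 (allL N3243 (tt N4184 (iv F27124)) (tt N2424 F19221) (tt N4180 (iv F196104)) (tt N2422 F19222) (tt N4163 F200053) (tt N3243 F19223) (tt N2421 (iv D4074)) (tt N4168 (iv F200189)) (tt N4161 (iv F200146)) (tt N4181 (iv F27072)))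
theorem Q3245 : ∀ i, i < 3245 → P i := stepQ 3244 Q3244 (allL N3244 (tt N4185 (iv F27136)) (tt N2426 F19233) (tt N3244 F19234) (tt N4168 F200409) (tt N3244 F19235) (tt N3244 F19236) (tt N2439 F19237) (tt N2422 (iv D4077)) (tt N2497 F19238) (tt N4182 (iv F27089)))
theorem Q3246 : ∀ i, i < 3246 → P i := stepQ 3245 Q3245 (allL N3245 (tt N2429 F19258) (tt N3975 (iv F24451)) (tt N3987 F200365) (tt N2428 F19259) (tt N4186 D5912) (tt N2427 (iv D4084)) (tt N4187 D5913) (tt N4178 (iv F27043)) (tt N3923 F200366) (tt N2435 F19260))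
theorem Q3247 : ∀ i, i < 3247 → P i := stepQ 3246 Q3246 (allL N3246 (tt N2430 F19265) (tt N3976 (iv F24460)) (tt N3246 F19266) (tt N4187 (iv F27217)) (tt N3246 F19267) (tt N2445 F19268) (tt N2428 (iv D4086)) (tt N4188 D5916) (tt N3246 F19269) (tt N2436 F19270))
theorem Q3248 : ∀ i, i < 3248 → P i := stepQ 3247 Q3247 (allL N3247 (tt N4186 (iv F27212)) (tt N2431 F19277) (tt N4168 F200341) (tt N3247 F19278) (tt N2429 (iv D4089)) (tt N3247 F19279) (tt N4189 D5922) (tt N4180 (iv F27067)) (tt N4166 F200342) (tt N2437 F19280))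
theorem Q3249 : ∀ i, i < 3249 → P i := stepQ 3248 Q3248 (allL N3248 (tt N4187 (iv F27216)) (tt N2432 F19281) (tt N4169 F200357) (tt N2430 F19282) (tt N4189 (iv F27252)) (tt N2447 F19283) (tt N2429 (iv D4090)) (tt N4190 D5924) (tt N4167 F200358) (tt N2438 F19284))
theorem Q3250 : ∀ i, i < 3250 → P i := stepQ 3249 Q3249 (allL N3249 (tt N4188 (iv F27228)) (tt N2434 F19293) (tt N3249 F19294) (tt N4190 (iv F27258)) (tt N3249 F19295) (tt N2448 F19296) (tt N4182 (iv F27087)) (tt N2430 (iv D4093)) (tt N3249 F19297) (tt N2439 F19298))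
theorem Q3251 : ∀ i, i < 3251 → P i := stepQ 3250 Q3250 (allL N3250 (tt N3983 (iv F24491)) (tt N4189 (iv F27250)) (tt N4164 (iv F26556)) (tt N3250 F19299) (tt N2432 F19300) (tt N4174 (iv F196598)) (tt N2431 (iv D4094)) (tt N4167 F196326) (tt N4190 (iv F200582)) (tt N2440 F19301))
theorem Q3252 : ∀ i, i < 3252 → P i := stepQ 3251 Q3251 (allL N3251 (tt N3984 (iv F24495)) (tt N4166 F200347) (tt N2437 F200348) (tt N4182 F200349) (tt N2433 F19302) (tt N3251 F19303) (tt N4190 (iv F200581)) (tt N4181 F200350) (tt N2431 (iv D4095)) (tt N4168 F200346))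
theorem Q3253 : ∀ i, i < 3253 → P i := stepQ 3252 Q3252 (allL N3252 (tt N3985 (iv F24498)) (tt N4190 (iv F27257)) (tt N4165 (iv F26562)) (tt N2434 F19304) (tt N4167 (iv F196117)) (tt N2451 F19305) (tt N4166 F195923) (tt N2432 (iv D4096)) (tt N4189 (iv F200585)) (tt N2442 F19306))
theorem Q3254 : ∀ i, i < 3254 → P i := stepQ 3253 Q3253 (allL N3253 (tt N3986 (iv F24502)) (tt N4167 F200359) (tt N2438 (iv F200586)) (tt N3253 F19307) (tt N4190 (iv F200580)) (tt N2452 F19308) (tt N2433 F19309) (tt N4189 (iv F200584)) (tt N2432 (iv D4097)) (tt N4169 F200356))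
theorem Q3255 : ∀ i, i < 3255 → P i := stepQ 3254 Q3254 (allL N3254 (tt N2437 F19323) (tt N3989 (iv F24520)) (tt N3984 (iv F200504)) (tt N3254 F19324) (tt N2435 (iv D4102)) (tt N3254 F19325) (tt N4191 D5941) (tt N4183 (iv F27123)) (tt N3905 (iv F200518)) (tt N4186 (iv F27215)))
theorem Q3256 : ∀ i, i < 3256 → P i := stepQ 3255 Q3255 (allL N3255 (tt N2438 F19326) (tt N3990 (iv F24524)) (tt N3986 F200823) (tt N2436 F19327) (tt N4191 (iv F27316)) (tt N2454 F19328) (tt N2435 (iv D4103)) (tt N4192 D5943) (tt N3906 F200824) (tt N4187 (iv F27219)))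
theorem Q3257 : ∀ i, i < 3257 → P i := stepQ 3256 Q3256 (allL N3256 (tt N2439 F19336) (tt N3991 (iv F24537)) (tt N3256 F19337) (tt N4192 (iv F27321)) (tt N3256 F19338) (tt N2455 F19339) (tt N4185 (iv F27140)) (tt N2436 (iv D4106)) (tt N2504 F19340) (tt N4188 (iv F27233)))
theorem Q3258 : ∀ i, i < 3258 → P i := stepQ 3257 Q3257 (allL N3257 (tt N4191 (iv F27314)) (tt N2440 F19354) (tt N4190 F196325) (tt N3257 F19355) (tt N2438 F19356) (tt N4177 (iv F200605)) (tt N2437 (iv D4112)) (tt N4169 F200411) (tt N4164 (iv F200591)) (tt N4189 (iv F27253)))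
theorem Q3259 : ∀ i, i < 3259 → P i := stepQ 3258 Q3258 (allL N3258 (tt N4192 (iv F27320)) (tt N2442 F19360) (tt N4189 (iv F196605)) (tt N2439 F19361) (tt N4169 F200343) (tt N2457 F19362) (tt N4168 F200344) (tt N2438 (iv D4114)) (tt N4165 (iv F200352)) (tt N4190 (iv F27260)))
theorem Q3260 : ∀ i, i < 3260 → P i := stepQ 3259 Q3259 (allL N3259 (tt N2446 F19401) (tt N4003 (iv F24606)) (tt N4017 F200965) (tt N2465 F19402) (tt N2444 (iv D4127)) (tt N3259 F19403) (tt N4193 D5977) (tt N3259 F19404) (tt N3950 (iv F201263)) (tt N2453 F19405))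
theorem Q3261 : ∀ i, i < 3261 → P i := stepQ 3260 Q3260 (allL N3260 (tt N2447 F19406) (tt N4004 (iv F24612)) (tt N4019 F200950) (tt N2445 F19407) (tt N4193 (iv F27434)) (tt N4187 (iv F27218)) (tt N2444 (iv D4128)) (tt N4194 D5979) (tt N3952 F200951) (tt N2454 F19408))
theorem Q3262 : ∀ i, i < 3262 → P i := stepQ 3261 Q3261 (allL N3261 (tt N2448 F19418) (tt N4005 (iv F24627)) (tt N3261 F19419) (tt N4194 (iv F27441)) (tt N2468 F19420) (tt N4188 (iv F27231)) (tt N3261 F19421) (tt N2445 (iv D4131)) (tt N3261 F19422) (tt N2455 F19423))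
theorem Q3263 : ∀ i, i < 3263 → P i := stepQ 3262 Q3262 (allL N3262 (tt N4193 (iv F27432)) (tt N2449 F19441) (tt N4175 F200945) (tt N2473 F19442) (tt N2447 F19443) (tt N4195 D5991) (tt N2446 (iv D4137)) (tt N4196 D5992) (tt N4173 F200946) (tt N2456 F19444))
theorem Q3264 : ∀ i, i < 3264 → P i := stepQ 3263 Q3263 (allL N3263 (tt N4194 (iv F27440)) (tt N2451 F19449) (tt N4177 F200927) (tt N2448 F19450) (tt N4196 (iv F27491)) (tt N4190 (iv F27259)) (tt N3263 F19451) (tt N2447 (iv D4139)) (tt N4174 F200928) (tt N2457 F19452))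
theorem Q3265 : ∀ i, i < 3265 → P i := stepQ 3264 Q3264 (allL N3264 (tt N4013 (iv F24667)) (tt N4195 (iv F27485)) (tt N4170 (iv F26875)) (tt N2477 F19461) (tt N4174 F196978) (tt N2449 (iv D4142)) (tt N3264 F19462) (tt N4173 F196979) (tt N4196 (iv F201308)) (tt N2458 F19463))
theorem Q3266 : ∀ i, i < 3266 → P i := stepQ 3265 Q3265 (allL N3265 (tt N4014 (iv F24671)) (tt N4196 (iv F27489)) (tt N4171 (iv F26879)) (tt N2478 F19464) (tt N2451 F19465) (tt N4173 (iv F196626)) (tt N3265 F19466) (tt N2449 (iv D4143)) (tt N4195 (iv F201306)) (tt N2459 F19467))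
theorem Q3267 : ∀ i, i < 3267 → P i := stepQ 3266 Q3266 (allL N3266 (tt N4015 (iv F24676)) (tt N4173 F200944) (tt N2456 (iv F201309)) (tt N4197 D6001) (tt N2452 F19468) (tt N4196 (iv F201307)) (tt N2450 F19469) (tt N4195 (iv F201305)) (tt N2449 (iv D4144)) (tt N4175 F200943))
theorem Q3268 : ∀ i, i < 3268 → P i := stepQ 3267 Q3267 (allL N3267 (tt N4016 (iv F24679)) (tt N4172 (iv F201326)) (tt N2487 (iv F201325)) (tt N2450 (iv D4145)) (tt N3267 F19470) (tt N3267 F19471) (tt N4197 (iv F27524)) (tt N3267 F19472) (tt N2480 F19473) (tt N4176 F200960))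
theorem Q3269 : ∀ i, i < 3269 → P i := stepQ 3268 Q3268 (allL N3268 (tt N4018 (iv F24689)) (tt N4174 F200930) (tt N2457 F200931) (tt N3268 F19478) (tt N4195 (iv F201304)) (tt N4189 F200932) (tt N3268 F19479) (tt N2452 F19480) (tt N2451 (iv D4147)) (tt N4177 F200926))
theorem Q3270 : ∀ i, i < 3270 → P i := stepQ 3269 Q3269 (allL N3269 (tt N2456 F19509) (tt N4022 (iv F24722)) (tt N4015 F201630) (tt N2485 F19510) (tt N2454 F19511) (tt N4198 D6020) (tt N2453 (iv D4156)) (tt N4199 D6021) (tt N3928 F201631) (tt N4193 (iv F27435)))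
theorem Q3271 : ∀ i, i < 3271 → P i := stepQ 3270 Q3270 (allL N3270 (tt N2457 F19517) (tt N4023 (iv F24732)) (tt N4018 (iv F201213)) (tt N2455 F19518) (tt N4199 (iv F27599)) (tt N4192 (iv F27322)) (tt N3270 F19519) (tt N2454 (iv D4158)) (tt N3929 F200821) (tt N4194 (iv F27443)))
theorem Q3272 : ∀ i, i < 3272 → P i := stepQ 3271 Q3271 (allL N3271 (tt N4198 (iv F27594)) (tt N2458 F19556) (tt N4196 F196975) (tt N2490 F19557) (tt N4177 F200947) (tt N2456 (iv D4170)) (tt N3271 F19558) (tt N4175 F200948) (tt N4170 F200949) (tt N4195 (iv F27488)))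
theorem Q3273 : ∀ i, i < 3273 → P i := stepQ 3272 Q3272 (allL N3272 (tt N4199 (iv F27597)) (tt N2459 F19559) (tt N4195 (iv F197335)) (tt N2491 F19560) (tt N2457 F19561) (tt N4175 F200933) (tt N3272 F19562) (tt N2456 (iv D4171)) (tt N4171 (iv F200938)) (tt N4196 (iv F27493)))
theorem Q3274 : ∀ i, i < 3274 → P i := stepQ 3273 Q3273 (allL N3273 (tt N3273 F19594) (tt N2463 F19595) (tt N3480 (iv F202972)) (tt N3273 F19596) (tt N4200 D6050) (tt N2462 (iv D4181)) (tt N4201 D6051) (tt N3273 F19597) (tt N3472 (iv F202989)) (tt N2482 F19598))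
theorem Q3275 : ∀ i, i < 3275 → P i := stepQ 3274 Q3274 (allL N3274 (tt N2469 F19605) (tt N4200 (iv F27699)) (tt N2465 F19606) (tt N4202 D6054) (tt N2463 (iv D4183)) (tt N3274 F19607) (tt N4203 D6055) (tt N3274 F19608) (tt N4204 D6056) (tt N2483 F19609))
theorem Q3276 : ∀ i, i < 3276 → P i := stepQ 3275 Q3275 (allL N3275 (tt N2470 F19610) (tt N4201 (iv F27704)) (tt N2466 F19611) (tt N3275 F19612) (tt N4203 (iv F27726)) (tt N3275 F19613) (tt N2463 (iv D4184)) (tt N4205 D6057) (tt N4206 D6058) (tt N2484 F19614))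
theorem Q3277 : ∀ i, i < 3277 → P i := stepQ 3276 Q3276 (allL N3276 (tt N2471 F19615) (tt N3472 (iv F202988)) (tt N2467 F19616) (tt N3471 (iv F202991)) (tt N4204 (iv F27730)) (tt N2464 F19617) (tt N4206 (iv F27743)) (tt N3276 F19618) (tt N2463 (iv D4185)) (tt N3276 F19619))
theorem Q3278 : ∀ i, i < 3278 → P i := stepQ 3277 Q3277 (allL N3277 (tt N2473 F19626) (tt N4039 (iv F24844)) (tt N4203 (iv F27725)) (tt N4193 (iv F27433)) (tt N2466 F19627) (tt N4207 D6061) (tt N2465 (iv D4187)) (tt N4208 D6062) (tt N4209 D6063) (tt N2485 F19628))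
theorem Q3279 : ∀ i, i < 3279 → P i := stepQ 3278 Q3278 (allL N3278 (tt N2474 F19629) (tt N4040 (iv F24848)) (tt N4204 (iv F27729)) (tt N4210 D6064) (tt N2467 F19630) (tt N3278 F19631) (tt N4209 (iv F27768)) (tt N3278 F19632) (tt N2465 (iv D4188)) (tt N3278 F19633))
theorem Q3280 : ∀ i, i < 3280 → P i := stepQ 3279 Q3279 (allL N3279 (tt N2475 F19634) (tt N4041 (iv F24854)) (tt N4205 (iv F27735)) (tt N2468 F19635) (tt N4208 (iv F27763)) (tt N3279 F19636) (tt N3279 F19637) (tt N2466 (iv D4189)) (tt N4211 D6065) (tt N2486 F19638))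
theorem Q3281 : ∀ i, i < 3281 → P i := stepQ 3280 Q3280 (allL N3280 (tt N2476 F19639) (tt N4042 (iv F24860)) (tt N4206 (iv F27741)) (tt N3280 F19640) (tt N4209 (iv F27767)) (tt N3280 F19641) (tt N2467 F19642) (tt N4211 (iv F27779)) (tt N2466 (iv D4190)) (tt N3280 F19643))
theorem Q3282 : ∀ i, i < 3282 → P i := stepQ 3281 Q3281 (allL N3281 (tt N4202 (iv F27719)) (tt N3281 F19644) (tt N4176 F201002) (tt N2469 (iv D4191)) (tt N3281 F19645) (tt N3281 F19646) (tt N4212 D6066) (tt N3281 F19647) (tt N3281 F194053) (tt N2487 F19648))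
theorem Q3283 : ∀ i, i < 3283 → P i := stepQ 3282 Q3282 (allL N3282 (tt N4203 (iv F27724)) (tt N3282 F19649) (tt N2473 F19650) (tt N4212 (iv F27782)) (tt N2470 F19651) (tt N4213 D6068) (tt N2469 (iv D4192)) (tt N4214 D6069) (tt N4215 D6070) (tt N2488 F19652))
theorem Q3284 : ∀ i, i < 3284 → P i := stepQ 3283 Q3283 (allL N3283 (tt N4204 (iv F27728)) (tt N3283 F19653) (tt N2474 F19654) (tt N3283 F193658) (tt N2471 F19655) (tt N3283 F19656) (tt N4215 (iv F27802)) (tt N3283 F19657) (tt N2469 (iv D4193)) (tt N3283 F19658))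
theorem Q3285 : ∀ i, i < 3285 → P i := stepQ 3284 Q3284 (allL N3284 (tt N4205 (iv F27734)) (tt N3284 F19659) (tt N2475 F19660) (tt N3284 F19661) (tt N4214 (iv F27796)) (tt N3284 F19662) (tt N3284 F19663) (tt N2470 (iv D4194)) (tt N4216 D6072) (tt N2489 F19664))
theorem Q3286 : ∀ i, i < 3286 → P i := stepQ 3285 Q3285 (allL N3285 (tt N4206 (iv F27740)) (tt N3285 F19665) (tt N2476 F19666) (tt N4217 D6073) (tt N4215 (iv F27801)) (tt N3285 F19667) (tt N2471 F19668) (tt N4216 (iv F27812)) (tt N2470 (iv D4195)) (tt N3285 F19669))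
theorem Q3287 : ∀ i, i < 3287 → P i := stepQ 3286 Q3286 (allL N3286 (tt N3471 (iv F202990)) (tt N3286 F19670) (tt N3286 F19671) (tt N2471 (iv D4196)) (tt N3286 F194064) (tt N2472 F19672) (tt N4217 (iv F27817)) (tt N3286 F19673) (tt N3286 F19674) (tt N3286 F19675))
theorem Q3288 : ∀ i, i < 3288 → P i := stepQ 3287 Q3287 (allL N3287 (tt N4207 (iv F27758)) (tt N2477 F19683) (tt N4213 (iv F27790)) (tt N4195 (iv F27486)) (tt N3287 F19684) (tt N2473 (iv D4198)) (tt N3287 F19685) (tt N4197 F201686) (tt N4218 D6077) (tt N2490 F19686))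
theorem Q3289 : ∀ i, i < 3289 → P i := stepQ 3288 Q3288 (allL N3288 (tt N4208 (iv F27762)) (tt N2478 F19687) (tt N4214 (iv F27795)) (tt N4196 (iv F27490)) (tt N2475 F19688) (tt N4197 F201685) (tt N3288 F19689) (tt N2473 (iv D4199)) (tt N4219 D6078) (tt N2491 F19690))
theorem Q3290 : ∀ i, i < 3290 → P i := stepQ 3289 Q3289 (allL N3289 (tt N4209 (iv F27766)) (tt N2479 F19691) (tt N4215 (iv F27800)) (tt N4220 D6079) (tt N2476 F19692) (tt N4218 (iv F27837)) (tt N2474 F19693) (tt N4219 (iv F27843)) (tt N2473 (iv D4200)) (tt N3289 F19694))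
theorem Q3291 : ∀ i, i < 3291 → P i := stepQ 3290 Q3290 (allL N3290 (tt N4210 (iv F27770)) (tt N2480 F19695) (tt N3290 F193348) (tt N2474 (iv D4201)) (tt N3290 F19696) (tt N3290 F19697) (tt N4220 (iv F27847)) (tt N3290 F19698) (tt N4172 F201361) (tt N3290 F19699))
theorem Q3292 : ∀ i, i < 3292 → P i := stepQ 3291 Q3291 (allL N3291 (tt N4211 (iv F27775)) (tt N2481 F19700) (tt N4216 (iv F27809)) (tt N3291 F19701) (tt N4219 (iv F27841)) (tt N3291 F19702) (tt N3291 F19703) (tt N2476 F19704) (tt N2475 (iv D4202)) (tt N3291 F19705))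
theorem Q3293 : ∀ i, i < 3293 → P i := stepQ 3292 Q3292 (allL N3292 (tt N4053 (iv F24923)) (tt N4197 (iv F201319)) (tt N3292 F19706) (tt N4173 F197009) (tt N3292 F19707) (tt N2478 F19708) (tt N4172 (iv F197374)) (tt N2477 (iv D4203)) (tt N4220 (iv F201709)) (tt N2492 F19709))
theorem Q3294 : ∀ i, i < 3294 → P i := stepQ 3293 Q3293 (allL N3293 (tt N4054 (iv F24928)) (tt N4218 (iv F27835)) (tt N3293 F19710) (tt N4219 (iv F202094)) (tt N3293 F19711) (tt N2479 F19712) (tt N3293 F19713) (tt N4220 (iv F201708)) (tt N2477 (iv D4204)) (tt N3293 F19714))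
theorem Q3295 : ∀ i, i < 3295 → P i := stepQ 3294 Q3294 (allL N3294 (tt N4055 (iv F24934)) (tt N4219 (iv F27840)) (tt N3294 F19715) (tt N4218 (iv F202096)) (tt N2481 F19716) (tt N4220 (iv F201707)) (tt N3294 F19717) (tt N2479 F19718) (tt N2478 (iv D4205)) (tt N3294 F19719))
theorem Q3296 : ∀ i, i < 3296 → P i := stepQ 3295 Q3295 (allL N3295 (tt N4056 (iv F24940)) (tt N4220 (iv F27845)) (tt N4221 D6085) (tt N2479 (iv D4206)) (tt N3295 F19720) (tt N4219 (iv F202095)) (tt N2480 F19721) (tt N4218 (iv F202097)) (tt N4197 (iv F27525)) (tt N3295 F19722))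
theorem Q3297 : ∀ i, i < 3297 → P i := stepQ 3296 Q3296 (allL N3296 (tt N4057 (iv F24944)) (tt N3296 F193140) (tt N2480 (iv D4207)) (tt N3296 F19723) (tt N3296 F19724) (tt N3296 F19725) (tt N4221 (iv F27872)) (tt N3296 F19726) (tt N2487 F201688) (tt N3296 F19727))
theorem Q3298 : ∀ i, i < 3298 → P i := stepQ 3297 Q3297 (allL N3297 (tt N3297 F19728) (tt N2483 F19729) (tt N4058 (iv F24952)) (tt N4222 D6087) (tt N2482 (iv D4208)) (tt N3297 F19730) (tt N4223 D6088) (tt N3297 F19731) (tt N3297 F19732) (tt N4200 (iv F27702)))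
theorem Q3299 : ∀ i, i < 3299 → P i := stepQ 3298 Q3298 (allL N3298 (tt N3298 F19733) (tt N2484 F19734) (tt N4059 (iv F24958)) (tt N3298 F19735) (tt N4223 (iv F27886)) (tt N3298 F19736) (tt N2482 (iv D4209)) (tt N4224 D6089) (tt N3298 F19737) (tt N4201 (iv F27707)))
theorem Q3300 : ∀ i, i < 3300 → P i := stepQ 3299 Q3299 (allL N3299 (tt N2487 F19738) (tt N4222 (iv F27880)) (tt N4016 F201666) (tt N2483 (iv D4210)) (tt N3299 F19739) (tt N3299 F19740) (tt N4225 D6090) (tt N3299 F19741) (tt N4057 (iv F202080)) (tt N4202 (iv F27723)))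
theorem Q3301 : ∀ i, i < 3301 → P i := stepQ 3300 Q3300 (allL N3300 (tt N2488 F19742) (tt N4223 (iv F27885)) (tt N2485 F19743) (tt N4225 (iv F27895)) (tt N2484 F19744) (tt N4226 D6092) (tt N2483 (iv D4211)) (tt N4227 D6093) (tt N3300 F19745) (tt N4203 (iv F27727)))
theorem Q3302 : ∀ i, i < 3302 → P i := stepQ 3301 Q3301 (allL N3301 (tt N2489 F19746) (tt N4224 (iv F27889)) (tt N2486 F19747) (tt N3301 F19748) (tt N4227 (iv F27909)) (tt N3301 F19749) (tt N3301 F19750) (tt N2484 (iv D4212)) (tt N3301 F19751) (tt N4205 (iv F27739)))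
theorem Q3303 : ∀ i, i < 3303 → P i := stepQ 3302 Q3302 (allL N3302 (tt N2490 F19752) (tt N4063 (iv F24974)) (tt N4226 (iv F27903)) (tt N4198 (iv F27595)) (tt N3302 F19753) (tt N2485 (iv D4213)) (tt N3302 F19754) (tt N4228 D6094) (tt N3302 F19755) (tt N4207 (iv F27761)))
theorem Q3304 : ∀ i, i < 3304 → P i := stepQ 3303 Q3303 (allL N3303 (tt N2491 F19756) (tt N4064 (iv F24979)) (tt N4227 (iv F27908)) (tt N4199 (iv F27598)) (tt N2486 F19757) (tt N4228 (iv F27914)) (tt N3303 F19758) (tt N2485 (iv D4214)) (tt N3303 F19759) (tt N4208 (iv F27765)))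
theorem Q3305 : ∀ i, i < 3305 → P i := stepQ 3304 Q3304 (allL N3304 (tt N4225 (iv F27894)) (tt N3304 F19760) (tt N4197 F201687) (tt N2488 F19761) (tt N3304 F19762) (tt N4214 F197832) (tt N2487 (iv D4215)) (tt N4213 (iv F198162)) (tt N4221 (iv F202098)) (tt N4212 (iv F27784)))
theorem Q3306 : ∀ i, i < 3306 → P i := stepQ 3305 Q3305 (allL N3305 (tt N4226 (iv F27902)) (tt N3305 F19768) (tt N2490 F19769) (tt N4214 F197788) (tt N3305 F19770) (tt N2488 (iv D4217)) (tt N3305 F19771) (tt N4212 (iv F198094)) (tt N3305 F19772) (tt N4213 (iv F27793)))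
theorem Q3307 : ∀ i, i < 3307 → P i := stepQ 3306 Q3306 (allL N3306 (tt N4227 (iv F27907)) (tt N3306 F19773) (tt N2491 F19774) (tt N4213 (iv F198161)) (tt N2489 F19775) (tt N4212 (iv F198093)) (tt N3306 F19776) (tt N2488 (iv D4218)) (tt N3306 F19777) (tt N4214 (iv F27798)))
theorem Q3308 : ∀ i, i < 3308 → P i := stepQ 3307 Q3307 (allL N3307 (tt N4228 (iv F27912)) (tt N2492 F19778) (tt N4212 (iv F198092)) (tt N4175 F200993) (tt N3307 F19779) (tt N2491 F19780) (tt N4176 F200994) (tt N2490 (iv D4219)) (tt N3307 F19781) (tt N4197 (iv F201320)))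
theorem Q3309 : ∀ i, i < 3309 → P i := stepQ 3308 Q3308 (allL N3308 (tt N2495 F19803) (tt N4071 (iv F25025)) (tt N3855 F200796) (tt N3308 F19804) (tt N2493 (iv D4224)) (tt N2512 F19805) (tt N4229 D6108) (tt N2502 F19806) (tt N3858 F200797) (tt N3308 F19807))
theorem Q3310 : ∀ i, i < 3310 → P i := stepQ 3309 Q3309 (allL N3309 (tt N2496 F19808) (tt N4072 (iv F25031)) (tt N3884 F200782) (tt N2494 F19809) (tt N4229 (iv F27978)) (tt N3309 F19810) (tt N2493 (iv D4225)) (tt N4230 D6110) (tt N3888 F200783) (tt N3309 F19811))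
theorem Q3311 : ∀ i, i < 3311 → P i := stepQ 3310 Q3310 (allL N3310 (tt N2497 F19820) (tt N4073 (iv F25046)) (tt N3310 F19821) (tt N4230 (iv F27985)) (tt N3310 F19822) (tt N3310 F19823) (tt N2504 F19824) (tt N2494 (iv D4228)) (tt N4185 (iv F27141)) (tt N3310 F19825))
theorem Q3312 : ∀ i, i < 3312 → P i := stepQ 3311 Q3311 (allL N3311 (tt N4229 (iv F27976)) (tt N2498 F19850) (tt N4145 F200887) (tt N3311 F19851) (tt N2496 F19852) (tt N4149 (iv F201278)) (tt N2495 (iv D4234)) (tt N4158 (iv F201271)) (tt N4147 F200888) (tt N3311 F19853))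
theorem Q3313 : ∀ i, i < 3313 → P i := stepQ 3312 Q3312 (allL N3312 (tt N4230 (iv F27984)) (tt N2500 F19858) (tt N4159 F200874) (tt N2497 F19859) (tt N4158 (iv F201270)) (tt N3312 F19860) (tt N2506 F19861) (tt N2496 (iv D4236)) (tt N4157 F200875) (tt N3312 F19862))
theorem Q3314 : ∀ i, i < 3314 → P i := stepQ 3313 Q3313 (allL N3313 (tt N2505 F19927) (tt N4086 (iv F25157)) (tt N3868 F200801) (tt N3313 F19928) (tt N2503 F19929) (tt N3313 F19930) (tt N2502 (iv D4253)) (tt N4231 D6151) (tt N3872 F200802) (tt N3313 F19931))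
theorem Q3315 : ∀ i, i < 3315 → P i := stepQ 3314 Q3314 (allL N3314 (tt N2506 F19935) (tt N4087 (iv F25167)) (tt N3901 (iv F201149)) (tt N2504 F19936) (tt N4231 (iv F28161)) (tt N2511 F19937) (tt N4230 (iv F27987)) (tt N2503 (iv D4255)) (tt N3907 F200822) (tt N3314 F19938))
theorem Q3316 : ∀ i, i < 3316 → P i := stepQ 3315 Q3315 (allL N3315 (tt N4231 (iv F28159)) (tt N2507 F19982) (tt N4152 F201312) (tt N3315 F19983) (tt N2506 F19984) (tt N3315 F19985) (tt N4158 F201313) (tt N2505 (iv D4267)) (tt N4155 F201314) (tt N3315 F19986))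
theorem Q3317 : ∀ i, i < 3317 → P i := stepQ 3316 Q3316 (allL N3316 (tt N2514 F20151) (tt N4109 (iv F25386)) (tt N3845 F201592) (tt N3316 F20152) (tt N2513 F20153) (tt N4232 D6223) (tt N2512 (iv D4307)) (tt N3316 F20154) (tt N3847 F201593) (tt N3316 F20155))
theorem Q3318 : ∀ i, i < 3318 → P i := stepQ 3317 Q3317 (allL N3317 (tt N4232 (iv F28460)) (tt N2515 F20208) (tt N4139 F201671) (tt N3317 F20209) (tt N3317 F20210) (tt N2514 (iv D4319)) (tt N4149 F201672) (tt N3317 F20211) (tt N4141 F201673) (tt N3317 F20212))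
theorem Q3319 : ∀ i, i < 3319 → P i := stepQ 3318 Q3318 (allL N3318 (tt N2520 F20463) (tt N3318 F20464) (tt N3843 F202480) (tt N3318 F20465) (tt N3318 F20466) (tt N2519 (iv D4376)) (tt N3318 F20467) (tt N3318 F20468) (tt N3842 (iv F202987)) (tt N3318 F20469))
theorem Q3320 : ∀ i, i < 3320 → P i := stepQ 3319 Q3319 (allL N3319 (tt N3319 F20581) (tt N4136 F203432) (tt N4233 D6351) (tt N2521 (iv D4399)) (tt N4234 D6352) (tt N2522 F20582) (tt N3319 F20583) (tt N3319 F20584) (tt N3319 F20585) (tt N4132 (iv F203868)))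
theorem Q3321 : ∀ i, i < 3321 → P i := stepQ 3320 Q3320 (allL N3320 (tt N3320 F20593) (tt N3320 F199660) (tt N2522 (iv D4401)) (tt N3320 F20594) (tt N3320 F20595) (tt N4233 (iv F29049)) (tt N2523 F20596) (tt N3320 F20597) (tt N3320 F20598) (tt N4131 (iv F203866)))
theorem Q3322 : ∀ i, i < 3322 → P i := stepQ 3321 Q3321 (allL N3321 (tt N3321 F20831) (tt N3321 F20832) (tt N3321 F20833) (tt N3321 F20834) (tt N3321 F20835) (tt N2525 F20836) (tt N3321 F20837) (tt N3321 F20838) (tt N4235 D6423) (tt N2524 (iv D4452)))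
theorem Q3323 : ∀ i, i < 3323 → P i := stepQ 3322 Q3322 (allL N3322 (tt N3322 F20839) (tt N3322 F20840) (tt N3322 F20841) (tt N4236 D6424) (tt N2528 F20842) (tt N4235 (iv F29382)) (tt N2526 F20843) (tt N3322 F20844) (tt N2525 (iv D4453)) (tt N3322 F20845))
theorem Q3324 : ∀ i, i < 3324 → P i := stepQ 3323 Q3323 (allL N3323 (tt N3323 F20846) (tt N3323 F20847) (tt N4237 D6425) (tt N2526 (iv D4454)) (tt N4238 D6426) (tt N3323 F20848) (tt N4236 (iv F29388)) (tt N2527 F20849) (tt N3323 F20850) (tt N3323 F20851))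
theorem Q3325 : ∀ i, i < 3325 → P i := stepQ 3324 Q3324 (allL N3324 (tt N3324 F20852) (tt N4239 D6427) (tt N2527 (iv D4455)) (tt N3324 F20853) (tt N4240 D6428) (tt N3324 F20854) (tt N3324 F20855) (tt N4237 (iv F29395)) (tt N3324 F20856) (tt N3324 F20857))
theorem Q3326 : ∀ i, i < 3326 → P i := stepQ 3325 Q3325 (allL N3325 (tt N3325 F20858) (tt N3325 F20859) (tt N4240 (iv F29411)) (tt N2531 F20860) (tt N2527 (iv D4456)) (tt N4241 D6429) (tt N3325 F20861) (tt N4238 (iv F29401)) (tt N3325 F20862) (tt N3325 F20863))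
theorem Q3327 : ∀ i, i < 3327 → P i := stepQ 3326 Q3326 (allL N3326 (tt N3326 F20864) (tt N3326 F20865) (tt N4242 D6430) (tt N2528 (iv D4457)) (tt N4243 D6431) (tt N3326 F20866) (tt N2529 F20867) (tt N3326 F20868) (tt N2543 F20869) (tt N3326 F20870))
theorem Q3328 : ∀ i, i < 3328 → P i := stepQ 3327 Q3327 (allL N3327 (tt N3327 F20871) (tt N4244 D6432) (tt N2529 (iv D4458)) (tt N3327 F20872) (tt N4245 D6433) (tt N2532 F20873) (tt N4242 (iv F29424)) (tt N2530 F20874) (tt N2545 F20875) (tt N3327 F20876))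
theorem Q3329 : ∀ i, i < 3329 → P i := stepQ 3328 Q3328 (allL N3328 (tt N3328 F20877) (tt N3328 F20878) (tt N4245 (iv F29441)) (tt N4238 (iv F29400)) (tt N2529 (iv D4459)) (tt N4246 D6434) (tt N4243 (iv F29430)) (tt N2531 F20879) (tt N2546 F20880) (tt N3328 F20881))
theorem Q3330 : ∀ i, i < 3330 → P i := stepQ 3329 Q3329 (allL N3329 (tt N4247 D6435) (tt N2530 (iv D4460)) (tt N3329 F20882) (tt N3329 F20883) (tt N4248 D6436) (tt N2534 F20884) (tt N3329 F20885) (tt N4244 (iv F29437)) (tt N2549 F20886) (tt N3329 F20887))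
theorem Q3331 : ∀ i, i < 3331 → P i := stepQ 3330 Q3330 (allL N3330 (tt N3330 F20888) (tt N4248 (iv F29458)) (tt N2531 F20889) (tt N4249 D6437) (tt N2530 (iv D4461)) (tt N4250 D6438) (tt N3330 F20890) (tt N4245 (iv F29442)) (tt N2550 F20891) (tt N3330 F20892))
theorem Q3332 : ∀ i, i < 3332 → P i := stepQ 3331 Q3331 (allL N3331 (tt N3331 F20893) (tt N3331 F20894) (tt N4250 (iv F29468)) (tt N4241 (iv F29417)) (tt N2536 F20895) (tt N2531 (iv D4462)) (tt N4251 D6439) (tt N4246 (iv F29448)) (tt N2551 F20896) (tt N3331 F20897))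
theorem Q3333 : ∀ i, i < 3333 → P i := stepQ 3332 Q3332 (allL N3332 (tt N4252 D6440) (tt N2532 (iv D4463)) (tt N3332 F20898) (tt N3332 F20899) (tt N4253 D6441) (tt N4244 (iv F29436)) (tt N3332 F20900) (tt N2534 F20901) (tt N2554 F20902) (tt N3332 F20903))
theorem Q3334 : ∀ i, i < 3334 → P i := stepQ 3333 Q3333 (allL N3333 (tt N3333 F20904) (tt N4253 (iv F29485)) (tt N2533 F20905) (tt N4254 D6442) (tt N2532 (iv D4464)) (tt N4255 D6443) (tt N3333 F20906) (tt N2535 F20907) (tt N2555 F20908) (tt N3333 F20909))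
theorem Q3335 : ∀ i, i < 3335 → P i := stepQ 3334 Q3334 (allL N3334 (tt N3334 F20910) (tt N3334 F20911) (tt N4255 (iv F29498)) (tt N3334 F20912) (tt N4246 (iv F29447)) (tt N2533 (iv D4465)) (tt N4256 D6444) (tt N2536 F20913) (tt N2556 F20914) (tt N3334 F20915))
theorem Q3336 : ∀ i, i < 3336 → P i := stepQ 3335 Q3335 (allL N3335 (tt N2534 (iv D4466)) (tt N3335 F20916) (tt N3335 F20917) (tt N3335 F20918) (tt N4257 D6445) (tt N4247 (iv F29454)) (tt N2537 F20919) (tt N4252 (iv F29482)) (tt N2560 F20920) (tt N3335 F20921))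
theorem Q3337 : ∀ i, i < 3337 → P i := stepQ 3336 Q3336 (allL N3336 (tt N4257 (iv F29508)) (tt N2535 F20922) (tt N3336 F20923) (tt N4258 D6446) (tt N2534 (iv D4467)) (tt N4259 D6447) (tt N2538 F20924) (tt N4253 (iv F29488)) (tt N2561 F20925) (tt N3336 F20926))
theorem Q3338 : ∀ i, i < 3338 → P i := stepQ 3337 Q3337 (allL N3337 (tt N3337 F20927) (tt N4258 (iv F29514)) (tt N3337 F20928) (tt N2535 (iv D4468)) (tt N3337 F20929) (tt N4260 D6448) (tt N2539 F20930) (tt N4254 (iv F29495)) (tt N4261 D6449) (tt N3337 F20931))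
theorem Q3339 : ∀ i, i < 3339 → P i := stepQ 3338 Q3338 (allL N3338 (tt N3338 F20932) (tt N4259 (iv F29518)) (tt N2536 F20933) (tt N4260 (iv F29524)) (tt N4250 (iv F29469)) (tt N2535 (iv D4469)) (tt N4262 D6450) (tt N4255 (iv F29499)) (tt N2563 F20934) (tt N3338 F20935))
theorem Q3340 : ∀ i, i < 3340 → P i := stepQ 3339 Q3339 (allL N3339 (tt N3339 F20936) (tt N3339 F20937) (tt N4262 (iv F29532)) (tt N3339 F20938) (tt N4251 (iv F29474)) (tt N2541 F20939) (tt N2536 (iv D4470)) (tt N4263 D6451) (tt N2564 F20940) (tt N3339 F20941))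
theorem Q3341 : ∀ i, i < 3341 → P i := stepQ 3340 Q3340 (allL N3340 (tt N2538 F20942) (tt N3340 F20943) (tt N3340 F20944) (tt N4264 D6452) (tt N2537 (iv D4471)) (tt N4265 D6453) (tt N4257 (iv F29511)) (tt N3340 F20945) (tt N2569 F20946) (tt N3340 F20947))
theorem Q3342 : ∀ i, i < 3342 → P i := stepQ 3341 Q3341 (allL N3341 (tt N4264 (iv F29542)) (tt N2539 F20948) (tt N4266 D6454) (tt N2538 (iv D4472)) (tt N3341 F20949) (tt N4267 D6455) (tt N4258 (iv F29516)) (tt N3341 F20950) (tt N4268 D6456) (tt N3341 F20951))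
theorem Q3343 : ∀ i, i < 3343 → P i := stepQ 3342 Q3342 (allL N3342 (tt N4265 (iv F29547)) (tt N2540 F20952) (tt N3342 F20953) (tt N4267 (iv F29560)) (tt N3342 F20954) (tt N2538 (iv D4473)) (tt N4269 D6457) (tt N3342 F20955) (tt N2571 F20956) (tt N3342 F20957))
theorem Q3344 : ∀ i, i < 3344 → P i := stepQ 3343 Q3343 (allL N3343 (tt N3343 F20958) (tt N4267 (iv F29559)) (tt N3343 F20959) (tt N2540 F20960) (tt N4270 D6458) (tt N2539 (iv D4474)) (tt N4271 D6459) (tt N3343 F20961) (tt N4272 D6460) (tt N3343 F20962))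
theorem Q3345 : ∀ i, i < 3345 → P i := stepQ 3344 Q3344 (allL N3344 (tt N3344 F20963) (tt N4268 (iv F29563)) (tt N3344 F20964) (tt N2573 F20965) (tt N3344 F20966) (tt N4272 (iv F29585)) (tt N4261 (iv F29530)) (tt N3344 F20967) (tt N2539 (iv D4475)) (tt N4273 D6461))
theorem Q3346 : ∀ i, i < 3346 → P i := stepQ 3345 Q3345 (allL N3345 (tt N3345 F20968) (tt N4269 (iv F29567)) (tt N2541 F20969) (tt N4271 (iv F29580)) (tt N3345 F20970) (tt N4262 (iv F29533)) (tt N2540 (iv D4476)) (tt N4274 D6462) (tt N2574 F20971) (tt N3345 F20972))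
theorem Q3347 : ∀ i, i < 3347 → P i := stepQ 3346 Q3346 (allL N3346 (tt N3346 F20973) (tt N3346 F20974) (tt N4274 (iv F29594)) (tt N3346 F20975) (tt N3346 F20976) (tt N4263 (iv F29539)) (tt N3346 F20977) (tt N2541 (iv D4477)) (tt N2575 F20978) (tt N3346 F20979))
theorem Q3348 : ∀ i, i < 3348 → P i := stepQ 3347 Q3347 (allL N3347 (tt N3347 F20980) (tt N3347 F20981) (tt N4275 D6463) (tt N2542 (iv D4478)) (tt N4276 D6464) (tt N3347 F20982) (tt N2544 F20983) (tt N3347 F20984) (tt N3347 F20985) (tt N2543 F20986))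
theorem Q3349 : ∀ i, i < 3349 → P i := stepQ 3348 Q3348 (allL N3348 (tt N3348 F20987) (tt N4277 D6465) (tt N2543 (iv D4479)) (tt N2667 F20988) (tt N4278 D6466) (tt N3348 F20989) (tt N2545 F20990) (tt N3348 F20991) (tt N4242 (iv F29426)) (tt N4275 (iv F29605)))
theorem Q3350 : ∀ i, i < 3350 → P i := stepQ 3349 Q3349 (allL N3349 (tt N3349 F20992) (tt N3349 F20993) (tt N4278 (iv F29619)) (tt N3349 F20994) (tt N2543 (iv D4480)) (tt N4279 D6467) (tt N2546 F20995) (tt N3349 F20996) (tt N4243 (iv F29432)) (tt N4276 (iv F29612)))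
theorem Q3351 : ∀ i, i < 3351 → P i := stepQ 3350 Q3350 (allL N3350 (tt N3350 F20997) (tt N4280 D6468) (tt N2544 (iv D4481)) (tt N2671 F20998) (tt N4281 D6469) (tt N2552 F20999) (tt N4275 (iv F29602)) (tt N2547 F21000) (tt N3350 F21001) (tt N2545 F21002))
theorem Q3352 : ∀ i, i < 3352 → P i := stepQ 3351 Q3351 (allL N3351 (tt N3351 F21003) (tt N3351 F21004) (tt N4281 (iv F29634)) (tt N3351 F21005) (tt N2544 (iv D4482)) (tt N4282 D6470) (tt N4276 (iv F29609)) (tt N2548 F21006) (tt N3351 F21007) (tt N2546 F21008))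
theorem Q3353 : ∀ i, i < 3353 → P i := stepQ 3352 Q3352 (allL N3352 (tt N4283 D6471) (tt N2545 (iv D4483)) (tt N3352 F21009) (tt N2673 F21010) (tt N4284 D6472) (tt N2554 F21011) (tt N4277 (iv F29616)) (tt N2549 F21012) (tt N4244 (iv F29438)) (tt N4280 (iv F29632)))
theorem Q3354 : ∀ i, i < 3354 → P i := stepQ 3353 Q3353 (allL N3353 (tt N3353 F21013) (tt N4284 (iv F29650)) (tt N2546 F21014) (tt N4285 D6473) (tt N2545 (iv D4484)) (tt N4286 D6474) (tt N4278 (iv F29620)) (tt N2550 F21015) (tt N4245 (iv F29443)) (tt N4281 (iv F29637)))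
theorem Q3355 : ∀ i, i < 3355 → P i := stepQ 3354 Q3354 (allL N3354 (tt N3354 F21016) (tt N3354 F21017) (tt N4286 (iv F29658)) (tt N3354 F21018) (tt N2556 F21019) (tt N2546 (iv D4485)) (tt N4287 D6475) (tt N2551 F21020) (tt N4246 (iv F29449)) (tt N4282 (iv F29644)))
theorem Q3356 : ∀ i, i < 3356 → P i := stepQ 3355 Q3355 (allL N3355 (tt N3146 (iv F202403)) (tt N2547 (iv D4486)) (tt N3355 F21021) (tt N2679 F21022) (tt N4288 D6477) (tt N2557 F21023) (tt N3355 F21024) (tt N4280 (iv F29630)) (tt N3355 F21025) (tt N2549 F21026))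
theorem Q3357 : ∀ i, i < 3357 → P i := stepQ 3356 Q3356 (allL N3356 (tt N3356 F21027) (tt N4288 (iv F29672)) (tt N2548 F21028) (tt N4289 D6478) (tt N2547 (iv D4487)) (tt N4290 D6479) (tt N3356 F21029) (tt N4281 (iv F29635)) (tt N3356 F21030) (tt N2550 F21031))
theorem Q3358 : ∀ i, i < 3358 → P i := stepQ 3357 Q3357 (allL N3357 (tt N3357 F21032) (tt N3357 F21033) (tt N4290 (iv F29683)) (tt N3357 F21034) (tt N2559 F21035) (tt N2548 (iv D4488)) (tt N4291 D6480) (tt N4282 (iv F29642)) (tt N3357 F21036) (tt N2551 F21037))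
theorem Q3359 : ∀ i, i < 3359 → P i := stepQ 3358 Q3358 (allL N3358 (tt N2549 (iv D4489)) (tt N3358 F21038) (tt N3358 F21039) (tt N2682 F21040) (tt N4292 D6481) (tt N2560 F21041) (tt N3358 F21042) (tt N4283 (iv F29649)) (tt N4247 (iv F29456)) (tt N3146 (iv F202404)))
theorem Q3360 : ∀ i, i < 3360 → P i := stepQ 3359 Q3359 (allL N3359 (tt N4292 (iv F29694)) (tt N2550 F21043) (tt N3359 F21044) (tt N4293 D6482) (tt N2549 (iv D4490)) (tt N4294 D6483) (tt N3359 F21045) (tt N4284 (iv F29652)) (tt N4248 (iv F29461)) (tt N4288 (iv F29676)))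
theorem Q3361 : ∀ i, i < 3361 → P i := stepQ 3360 Q3360 (allL N3360 (tt N3360 F21046) (tt N4293 (iv F29698)) (tt N3360 F21047) (tt N2550 (iv D4491)) (tt N2684 F21048) (tt N4295 D6484) (tt N3360 F21049) (tt N4285 (iv F29656)) (tt N4296 D6485) (tt N4289 (iv F29681)))
theorem Q3362 : ∀ i, i < 3362 → P i := stepQ 3361 Q3361 (allL N3361 (tt N3361 F21050) (tt N4294 (iv F29701)) (tt N2551 F21051) (tt N4295 (iv F29706)) (tt N2563 F21052) (tt N2550 (iv D4492)) (tt N4297 D6486) (tt N4286 (iv F29660)) (tt N4250 (iv F29470)) (tt N4290 (iv F29686)))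
theorem Q3363 : ∀ i, i < 3363 → P i := stepQ 3362 Q3362 (allL N3362 (tt N3362 F21053) (tt N3362 F21054) (tt N4297 (iv F29712)) (tt N3362 F21055) (tt N2564 F21056) (tt N3362 F21057) (tt N2551 (iv D4493)) (tt N4298 D6487) (tt N4251 (iv F29476)) (tt N4291 (iv F29693)))
theorem Q3364 : ∀ i, i < 3364 → P i := stepQ 3363 Q3363 (allL N3363 (tt N3134 (iv F201660)) (tt N2552 (iv D4494)) (tt N3363 F21058) (tt N2689 F21059) (tt N4299 D6489) (tt N4280 (iv F29629)) (tt N3363 F21060) (tt N2557 F21061) (tt N3363 F21062) (tt N2554 F21063))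
theorem Q3365 : ∀ i, i < 3365 → P i := stepQ 3364 Q3364 (allL N3364 (tt N3364 F21064) (tt N4299 (iv F29727)) (tt N2553 F21065) (tt N4300 D6490) (tt N2552 (iv D4495)) (tt N4301 D6491) (tt N3364 F21066) (tt N2558 F21067) (tt N3364 F21068) (tt N2555 F21069))
theorem Q3366 : ∀ i, i < 3366 → P i := stepQ 3365 Q3365 (allL N3365 (tt N3365 F21070) (tt N3365 F21071) (tt N4301 (iv F29740)) (tt N2580 F21072) (tt N4282 (iv F29641)) (tt N2553 (iv D4496)) (tt N4302 D6492) (tt N2559 F21073) (tt N3365 F21074) (tt N2556 F21075))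
theorem Q3367 : ∀ i, i < 3367 → P i := stepQ 3366 Q3366 (allL N3366 (tt N2554 (iv D4497)) (tt N3366 F21076) (tt N3366 F21077) (tt N2692 F21078) (tt N4303 D6493) (tt N4283 (iv F29648)) (tt N3366 F21079) (tt N2560 F21080) (tt N4252 (iv F29483)) (tt N3134 (iv F201661)))
theorem Q3368 : ∀ i, i < 3368 → P i := stepQ 3367 Q3367 (allL N3367 (tt N4303 (iv F29750)) (tt N2555 F21081) (tt N3367 F21082) (tt N4304 D6494) (tt N2554 (iv D4498)) (tt N4305 D6495) (tt N3367 F21083) (tt N2561 F21084) (tt N4253 (iv F29489)) (tt N4299 (iv F29732)))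
theorem Q3369 : ∀ i, i < 3369 → P i := stepQ 3368 Q3368 (allL N3368 (tt N3368 F21085) (tt N4304 (iv F29755)) (tt N2583 F21086) (tt N2555 (iv D4499)) (tt N2694 F21087) (tt N4306 D6496) (tt N3368 F21088) (tt N2562 F21089) (tt N4307 D6497) (tt N4300 (iv F29738)))
theorem Q3370 : ∀ i, i < 3370 → P i := stepQ 3369 Q3369 (allL N3369 (tt N3369 F21090) (tt N4305 (iv F29759)) (tt N2556 F21091) (tt N4306 (iv F29764)) (tt N4286 (iv F29659)) (tt N2555 (iv D4500)) (tt N4308 D6498) (tt N2563 F21092) (tt N4255 (iv F29500)) (tt N4301 (iv F29743)))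
theorem Q3371 : ∀ i, i < 3371 → P i := stepQ 3370 Q3370 (allL N3370 (tt N3370 F21093) (tt N3370 F21094) (tt N4308 (iv F29772)) (tt N2585 F21095) (tt N4287 (iv F29664)) (tt N3370 F21096) (tt N2556 (iv D4501)) (tt N4309 D6499) (tt N4256 (iv F29506)) (tt N4302 (iv F29749)))
theorem Q3372 : ∀ i, i < 3372 → P i := stepQ 3371 Q3371 (allL N3371 (tt N3147 (iv F202383)) (tt N2558 F21103) (tt N3371 F21104) (tt N4310 D6501) (tt N2557 (iv D4503)) (tt N4311 D6502) (tt N2565 F21105) (tt N4299 (iv F29730)) (tt N3371 F21106) (tt N2561 F21107))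
theorem Q3373 : ∀ i, i < 3373 → P i := stepQ 3372 Q3372 (allL N3372 (tt N3372 F21108) (tt N4310 (iv F29785)) (tt N2591 F21109) (tt N2558 (iv D4504)) (tt N2700 F21110) (tt N4312 D6503) (tt N2566 F21111) (tt N4300 (iv F29737)) (tt N4313 D6504) (tt N2562 F21112))
theorem Q3374 : ∀ i, i < 3374 → P i := stepQ 3373 Q3373 (allL N3373 (tt N3373 F21113) (tt N4311 (iv F29789)) (tt N2559 F21114) (tt N4312 (iv F29795)) (tt N4290 (iv F29684)) (tt N2558 (iv D4505)) (tt N4314 D6505) (tt N4301 (iv F29741)) (tt N3373 F21115) (tt N2563 F21116))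
theorem Q3375 : ∀ i, i < 3375 → P i := stepQ 3374 Q3374 (allL N3374 (tt N3374 F21117) (tt N3374 F21118) (tt N4314 (iv F29803)) (tt N2593 F21119) (tt N4291 (iv F29690)) (tt N2568 F21120) (tt N2559 (iv D4506)) (tt N4315 D6506) (tt N3374 F21121) (tt N2564 F21122))
theorem Q3376 : ∀ i, i < 3376 → P i := stepQ 3375 Q3375 (allL N3375 (tt N2561 F21123) (tt N3375 F21124) (tt N3375 F21125) (tt N4316 D6507) (tt N2560 (iv D4507)) (tt N4317 D6508) (tt N2569 F21126) (tt N4303 (iv F29754)) (tt N4257 (iv F29512)) (tt N3147 (iv F202384)))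
theorem Q3377 : ∀ i, i < 3377 → P i := stepQ 3376 Q3376 (allL N3376 (tt N4316 (iv F29813)) (tt N2562 F21127) (tt N4318 D6509) (tt N2561 (iv D4508)) (tt N2704 F21128) (tt N4319 D6510) (tt N2570 F21129) (tt N4304 (iv F29758)) (tt N4320 D6511) (tt N4310 (iv F29788)))
theorem Q3378 : ∀ i, i < 3378 → P i := stepQ 3377 Q3377 (allL N3377 (tt N4317 (iv F29817)) (tt N2563 F21130) (tt N3377 F21131) (tt N4319 (iv F29825)) (tt N4294 (iv F29703)) (tt N2561 (iv D4509)) (tt N4321 D6512) (tt N4305 (iv F29761)) (tt N4259 (iv F29520)) (tt N4311 (iv F29792)))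
theorem Q3379 : ∀ i, i < 3379 → P i := stepQ 3378 Q3378 (allL N3378 (tt N3378 F21132) (tt N4319 (iv F29824)) (tt N2597 F21133) (tt N2563 F21134) (tt N4322 D6513) (tt N2562 (iv D4510)) (tt N4323 D6514) (tt N4306 (iv F29765)) (tt N4324 D6515) (tt N4312 (iv F29796)))
theorem Q3380 : ∀ i, i < 3380 → P i := stepQ 3379 Q3379 (allL N3379 (tt N3379 F21135) (tt N4320 (iv F29826)) (tt N2598 F21136) (tt N4261 (iv F29528)) (tt N2707 F21137) (tt N4324 (iv F29841)) (tt N2573 F21138) (tt N4307 (iv F29770)) (tt N2562 (iv D4511)) (tt N4325 D6516))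
theorem Q3381 : ∀ i, i < 3381 → P i := stepQ 3380 Q3380 (allL N3380 (tt N3380 F21139) (tt N4321 (iv F29829)) (tt N2564 F21140) (tt N4323 (iv F29837)) (tt N4297 (iv F29713)) (tt N2574 F21141) (tt N2563 (iv D4512)) (tt N4326 D6517) (tt N4262 (iv F29534)) (tt N4314 (iv F29806)))
theorem Q3382 : ∀ i, i < 3382 → P i := stepQ 3381 Q3381 (allL N3381 (tt N3381 F21142) (tt N3381 F21143) (tt N4326 (iv F29847)) (tt N2600 F21144) (tt N4298 (iv F29718)) (tt N2575 F21145) (tt N4309 (iv F29778)) (tt N2564 (iv D4513)) (tt N4263 (iv F29540)) (tt N4315 (iv F29812)))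
theorem Q3383 : ∀ i, i < 3383 → P i := stepQ 3382 Q3382 (allL N3382 (tt N3125 (iv F202360)) (tt N2566 F21152) (tt N4327 D6520) (tt N2565 (iv D4515)) (tt N2713 F21153) (tt N4328 D6521) (tt N4310 (iv F29787)) (tt N3382 F21154) (tt N4329 D6522) (tt N2570 F21155))
theorem Q3384 : ∀ i, i < 3384 → P i := stepQ 3383 Q3383 (allL N3383 (tt N3151 (iv F203260)) (tt N2567 F21156) (tt N3383 F21157) (tt N4328 (iv F29867)) (tt N3383 F21158) (tt N2565 (iv D4516)) (tt N4330 D6523) (tt N3383 F21159) (tt N3383 F21160) (tt N2571 F21161))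
theorem Q3385 : ∀ i, i < 3385 → P i := stepQ 3384 Q3384 (allL N3384 (tt N3384 F21162) (tt N4328 (iv F29866)) (tt N2609 F21163) (tt N2567 F21164) (tt N4331 D6524) (tt N2566 (iv D4517)) (tt N4332 D6525) (tt N3384 F21165) (tt N4333 D6526) (tt N2572 F21166))
theorem Q3386 : ∀ i, i < 3386 → P i := stepQ 3385 Q3385 (allL N3385 (tt N3385 F21167) (tt N4329 (iv F29870)) (tt N2610 F21168) (tt N3385 F21169) (tt N2716 F21170) (tt N4333 (iv F29892)) (tt N4313 (iv F29801)) (tt N3385 F21171) (tt N2566 (iv D4518)) (tt N4334 D6527))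
theorem Q3387 : ∀ i, i < 3387 → P i := stepQ 3386 Q3386 (allL N3386 (tt N3386 F21172) (tt N4330 (iv F29874)) (tt N2568 F21173) (tt N4332 (iv F29887)) (tt N3386 F21174) (tt N4314 (iv F29804)) (tt N2567 (iv D4519)) (tt N4335 D6528) (tt N3386 F21175) (tt N2574 F21176))
theorem Q3388 : ∀ i, i < 3388 → P i := stepQ 3387 Q3387 (allL N3387 (tt N3387 F21177) (tt N3387 F21178) (tt N4335 (iv F29901)) (tt N2612 F21179) (tt N3387 F21180) (tt N4315 (iv F29810)) (tt N3387 F21181) (tt N2568 (iv D4520)) (tt N3387 F21182) (tt N2575 F21183))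
theorem Q3389 : ∀ i, i < 3389 → P i := stepQ 3388 Q3388 (allL N3388 (tt N2570 F21184) (tt N3388 F21185) (tt N4336 D6529) (tt N2569 (iv D4521)) (tt N2719 F21186) (tt N4337 D6530) (tt N4316 (iv F29816)) (tt N3388 F21187) (tt N4338 D6531) (tt N3125 (iv F202361)))
theorem Q3390 : ∀ i, i < 3390 → P i := stepQ 3389 Q3389 (allL N3389 (tt N2571 F21188) (tt N3389 F21189) (tt N3389 F21190) (tt N4337 (iv F29912)) (tt N3389 F21191) (tt N2569 (iv D4522)) (tt N4339 D6532) (tt N3389 F21192) (tt N4265 (iv F29552)) (tt N3151 (iv F203261)))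
theorem Q3391 : ∀ i, i < 3391 → P i := stepQ 3390 Q3390 (allL N3390 (tt N4336 (iv F29906)) (tt N2615 F21193) (tt N2570 (iv D4523)) (tt N3390 F21194) (tt N2721 F21195) (tt N4340 D6533) (tt N4318 (iv F29823)) (tt N3390 F21196) (tt N4341 D6534) (tt N4327 (iv F29865)))
theorem Q3392 : ∀ i, i < 3392 → P i := stepQ 3391 Q3391 (allL N3391 (tt N4337 (iv F29910)) (tt N2572 F21197) (tt N4340 (iv F29923)) (tt N2571 F21198) (tt N4342 D6535) (tt N2570 (iv D4524)) (tt N4343 D6536) (tt N3391 F21199) (tt N4344 D6537) (tt N4328 (iv F29869)))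
theorem Q3393 : ∀ i, i < 3393 → P i := stepQ 3392 Q3392 (allL N3392 (tt N4338 (iv F29914)) (tt N2573 F21200) (tt N4341 (iv F29927)) (tt N4268 (iv F29564)) (tt N2723 F21201) (tt N4344 (iv F29937)) (tt N4320 (iv F29828)) (tt N3392 F21202) (tt N2570 (iv D4525)) (tt N4345 D6538))
theorem Q3394 : ∀ i, i < 3394 → P i := stepQ 3393 Q3393 (allL N3393 (tt N4339 (iv F29918)) (tt N2574 F21203) (tt N3393 F21204) (tt N4343 (iv F29935)) (tt N3393 F21205) (tt N4321 (iv F29831)) (tt N2571 (iv D4526)) (tt N4346 D6539) (tt N4269 (iv F29570)) (tt N4330 (iv F29878)))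
theorem Q3395 : ∀ i, i < 3395 → P i := stepQ 3394 Q3394 (allL N3394 (tt N3394 F21206) (tt N4342 (iv F29930)) (tt N2619 F21207) (tt N3394 F21208) (tt N2572 (iv D4527)) (tt N2725 F21209) (tt N4347 D6540) (tt N3394 F21210) (tt N4348 D6541) (tt N4331 (iv F29884)))
theorem Q3396 : ∀ i, i < 3396 → P i := stepQ 3395 Q3395 (allL N3395 (tt N3395 F21211) (tt N4343 (iv F29934)) (tt N2620 F21212) (tt N2574 F21213) (tt N4347 (iv F29949)) (tt N4323 (iv F29838)) (tt N2572 (iv D4528)) (tt N4349 D6542) (tt N4350 D6543) (tt N4332 (iv F29888)))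
theorem Q3397 : ∀ i, i < 3397 → P i := stepQ 3396 Q3396 (allL N3396 (tt N3396 F21214) (tt N4344 (iv F29936)) (tt N2621 F21215) (tt N4272 (iv F29584)) (tt N4348 (iv F29952)) (tt N2573 F21216) (tt N4350 (iv F29961)) (tt N3396 F21217) (tt N2572 (iv D4529)) (tt N4351 D6544))
theorem Q3398 : ∀ i, i < 3398 → P i := stepQ 3397 Q3397 (allL N3397 (tt N3397 F21218) (tt N4345 (iv F29939)) (tt N2622 F21219) (tt N4273 (iv F29589)) (tt N2728 F21220) (tt N4351 (iv F29964)) (tt N4325 (iv F29845)) (tt N3397 F21221) (tt N4334 (iv F29899)) (tt N2573 (iv D4530)))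
theorem Q3399 : ∀ i, i < 3399 → P i := stepQ 3398 Q3398 (allL N3398 (tt N3398 F21222) (tt N4346 (iv F29942)) (tt N2575 F21223) (tt N4349 (iv F29957)) (tt N3398 F21224) (tt N4326 (iv F29848)) (tt N3398 F21225) (tt N2574 (iv D4531)) (tt N4274 (iv F29597)) (tt N4335 (iv F29905)))
theorem Q3400 : ∀ i, i < 3400 → P i := stepQ 3399 Q3399 (allL N3399 (tt N4352 D6545) (tt N2576 (iv D4532)) (tt N3399 F21226) (tt N3399 F21227) (tt N4353 D6546) (tt N3399 F21228) (tt N3399 F21229) (tt N2586 F21230) (tt N2578 F21231) (tt N3399 F21232))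
theorem Q3401 : ∀ i, i < 3401 → P i := stepQ 3400 Q3400 (allL N3400 (tt N3400 F21233) (tt N4353 (iv F29974)) (tt N2577 F21234) (tt N4354 D6547) (tt N2576 (iv D4533)) (tt N4355 D6548) (tt N3400 F21235) (tt N2587 F21236) (tt N2579 F21237) (tt N3400 F21238))
theorem Q3402 : ∀ i, i < 3402 → P i := stepQ 3401 Q3401 (allL N3401 (tt N3401 F21239) (tt N3401 F21240) (tt N4355 (iv F29987)) (tt N3401 F21241) (tt N3401 F21242) (tt N2577 (iv D4534)) (tt N4356 D6549) (tt N2588 F21243) (tt N2580 F21244) (tt N3401 F21245))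
theorem Q3403 : ∀ i, i < 3403 → P i := stepQ 3402 Q3402 (allL N3402 (tt N2578 (iv D4535)) (tt N3402 F21246) (tt N3402 F21247) (tt N2730 F21248) (tt N4357 D6550) (tt N3402 F21249) (tt N3402 F21250) (tt N2589 F21251) (tt N4352 (iv F29972)) (tt N2581 F21252))
theorem Q3404 : ∀ i, i < 3404 → P i := stepQ 3403 Q3403 (allL N3403 (tt N4357 (iv F29999)) (tt N2579 F21253) (tt N3403 F21254) (tt N4358 D6551) (tt N2578 (iv D4536)) (tt N4359 D6552) (tt N3403 F21255) (tt N2590 F21256) (tt N4353 (iv F29978)) (tt N2582 F21257))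
theorem Q3405 : ∀ i, i < 3405 → P i := stepQ 3404 Q3404 (allL N3404 (tt N3404 F21258) (tt N4358 (iv F30005)) (tt N4300 (iv F29734)) (tt N2579 (iv D4537)) (tt N2732 F21259) (tt N4360 D6553) (tt N3404 F21260) (tt N2591 F21261) (tt N4361 D6554) (tt N2583 F21262))
theorem Q3406 : ∀ i, i < 3406 → P i := stepQ 3405 Q3405 (allL N3405 (tt N3405 F21263) (tt N4359 (iv F30010)) (tt N2580 F21264) (tt N4360 (iv F30016)) (tt N3405 F21265) (tt N2579 (iv D4538)) (tt N4362 D6555) (tt N2592 F21266) (tt N4355 (iv F29990)) (tt N2584 F21267))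
theorem Q3407 : ∀ i, i < 3407 → P i := stepQ 3406 Q3406 (allL N3406 (tt N3406 F21268) (tt N3406 F21269) (tt N4362 (iv F30024)) (tt N4302 (iv F29746)) (tt N3406 F21270) (tt N3406 F21271) (tt N2580 (iv D4539)) (tt N4363 D6556) (tt N4356 (iv F29997)) (tt N2585 F21272))
theorem Q3408 : ∀ i, i < 3408 → P i := stepQ 3407 Q3407 (allL N3407 (tt N2582 F21273) (tt N3407 F21274) (tt N3407 F21275) (tt N4364 D6557) (tt N2581 (iv D4540)) (tt N4365 D6558) (tt N3407 F21276) (tt N2594 F21277) (tt N3407 F21278) (tt N4357 (iv F30004)))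
theorem Q3409 : ∀ i, i < 3409 → P i := stepQ 3408 Q3408 (allL N3408 (tt N4364 (iv F30034)) (tt N2583 F21279) (tt N4366 D6559) (tt N2582 (iv D4541)) (tt N2736 F21280) (tt N4367 D6560) (tt N3408 F21281) (tt N2595 F21282) (tt N4368 D6561) (tt N4358 (iv F30009)))
theorem Q3410 : ∀ i, i < 3410 → P i := stepQ 3409 Q3409 (allL N3409 (tt N4365 (iv F30039)) (tt N2584 F21283) (tt N3409 F21284) (tt N4367 (iv F30050)) (tt N3409 F21285) (tt N2582 (iv D4542)) (tt N4369 D6562) (tt N2596 F21286) (tt N3409 F21287) (tt N4359 (iv F30014)))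
theorem Q3411 : ∀ i, i < 3411 → P i := stepQ 3410 Q3410 (allL N3410 (tt N3410 F21288) (tt N4367 (iv F30049)) (tt N4306 (iv F29763)) (tt N2584 F21289) (tt N4370 D6563) (tt N2583 (iv D4543)) (tt N4371 D6564) (tt N2597 F21290) (tt N4372 D6565) (tt N4360 (iv F30018)))
theorem Q3412 : ∀ i, i < 3412 → P i := stepQ 3411 Q3411 (allL N3411 (tt N3411 F21291) (tt N4368 (iv F30052)) (tt N4307 (iv F29767)) (tt N3411 F21292) (tt N2739 F21293) (tt N4372 (iv F30071)) (tt N3411 F21294) (tt N2598 F21295) (tt N2583 (iv D4544)) (tt N4373 D6566))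
theorem Q3413 : ∀ i, i < 3413 → P i := stepQ 3412 Q3412 (allL N3412 (tt N3412 F21296) (tt N4369 (iv F30057)) (tt N2585 F21297) (tt N4371 (iv F30067)) (tt N3412 F21298) (tt N3412 F21299) (tt N2584 (iv D4545)) (tt N4374 D6567) (tt N3412 F21300) (tt N4362 (iv F30027)))
theorem Q3414 : ∀ i, i < 3414 → P i := stepQ 3413 Q3413 (allL N3413 (tt N3413 F21301) (tt N3413 F21302) (tt N4374 (iv F30079)) (tt N4309 (iv F29776)) (tt N3413 F21303) (tt N3413 F21304) (tt N2600 F21305) (tt N2585 (iv D4546)) (tt N3413 F21306) (tt N4363 (iv F30033)))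
theorem Q3415 : ∀ i, i < 3415 → P i := stepQ 3414 Q3414 (allL N3414 (tt N2586 (iv D4547)) (tt N3414 F21307) (tt N3414 F21308) (tt N3414 F21309) (tt N4375 D6568) (tt N3414 F21310) (tt N2601 F21311) (tt N4352 (iv F29971)) (tt N2589 F21312) (tt N3414 F21313))
theorem Q3416 : ∀ i, i < 3416 → P i := stepQ 3415 Q3415 (allL N3415 (tt N4375 (iv F30084)) (tt N2587 F21314) (tt N3415 F21315) (tt N4376 D6569) (tt N2586 (iv D4548)) (tt N4377 D6570) (tt N2602 F21316) (tt N4353 (iv F29977)) (tt N2590 F21317) (tt N3415 F21318))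
theorem Q3417 : ∀ i, i < 3417 → P i := stepQ 3416 Q3416 (allL N3416 (tt N3416 F21319) (tt N4376 (iv F30090)) (tt N3416 F21320) (tt N2587 (iv D4549)) (tt N3416 F21321) (tt N4378 D6571) (tt N2603 F21322) (tt N4354 (iv F29984)) (tt N4379 D6572) (tt N3416 F21323))
theorem Q3418 : ∀ i, i < 3418 → P i := stepQ 3417 Q3417 (allL N3417 (tt N3417 F21324) (tt N4377 (iv F30094)) (tt N2588 F21325) (tt N4378 (iv F30101)) (tt N3417 F21326) (tt N2587 (iv D4550)) (tt N4380 D6573) (tt N4355 (iv F29989)) (tt N2592 F21327) (tt N3417 F21328))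
theorem Q3419 : ∀ i, i < 3419 → P i := stepQ 3418 Q3418 (allL N3418 (tt N3418 F21329) (tt N3418 F21330) (tt N4380 (iv F30109)) (tt N3418 F21331) (tt N3418 F21332) (tt N2605 F21333) (tt N2588 (iv D4551)) (tt N4381 D6574) (tt N2593 F21334) (tt N3418 F21335))
theorem Q3420 : ∀ i, i < 3420 → P i := stepQ 3419 Q3419 (allL N3419 (tt N2590 F21336) (tt N3419 F21337) (tt N3419 F21338) (tt N4382 D6575) (tt N2589 (iv D4552)) (tt N4383 D6576) (tt N2606 F21339) (tt N4357 (iv F30003)) (tt N4375 (iv F30088)) (tt N2594 F21340))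
theorem Q3421 : ∀ i, i < 3421 → P i := stepQ 3420 Q3420 (allL N3420 (tt N4382 (iv F30121)) (tt N2591 F21341) (tt N4384 D6577) (tt N2590 (iv D4553)) (tt N2743 F21342) (tt N4385 D6578) (tt N2607 F21343) (tt N4358 (iv F30008)) (tt N4386 D6579) (tt N2595 F21344))
theorem Q3422 : ∀ i, i < 3422 → P i := stepQ 3421 Q3421 (allL N3421 (tt N4383 (iv F30126)) (tt N2592 F21345) (tt N3421 F21346) (tt N4385 (iv F30136)) (tt N3421 F21347) (tt N2590 (iv D4554)) (tt N4387 D6580) (tt N4359 (iv F30013)) (tt N4377 (iv F30097)) (tt N2596 F21348))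
theorem Q3423 : ∀ i, i < 3423 → P i := stepQ 3422 Q3422 (allL N3422 (tt N3422 F21349) (tt N4385 (iv F30135)) (tt N4312 (iv F29794)) (tt N2592 F21350) (tt N4388 D6581) (tt N2591 (iv D4555)) (tt N4389 D6582) (tt N4360 (iv F30017)) (tt N4390 D6583) (tt N2597 F21351))
theorem Q3424 : ∀ i, i < 3424 → P i := stepQ 3423 Q3423 (allL N3423 (tt N3423 F21352) (tt N4386 (iv F30138)) (tt N4313 (iv F29798)) (tt N4379 (iv F30105)) (tt N2746 F21353) (tt N4390 (iv F30155)) (tt N2610 F21354) (tt N4361 (iv F30022)) (tt N2591 (iv D4556)) (tt N4391 D6584))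
theorem Q3425 : ∀ i, i < 3425 → P i := stepQ 3424 Q3424 (allL N3424 (tt N3424 F21355) (tt N4387 (iv F30141)) (tt N2593 F21356) (tt N4389 (iv F30151)) (tt N3424 F21357) (tt N2611 F21358) (tt N2592 (iv D4557)) (tt N4392 D6585) (tt N4380 (iv F30112)) (tt N2599 F21359))
theorem Q3426 : ∀ i, i < 3426 → P i := stepQ 3425 Q3425 (allL N3425 (tt N3425 F21360) (tt N3425 F21361) (tt N4392 (iv F30161)) (tt N4315 (iv F29809)) (tt N3425 F21362) (tt N2612 F21363) (tt N4363 (iv F30032)) (tt N2593 (iv D4558)) (tt N4381 (iv F30119)) (tt N2600 F21364))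
theorem Q3427 : ∀ i, i < 3427 → P i := stepQ 3426 Q3426 (allL N3426 (tt N2595 F21365) (tt N3426 F21366) (tt N4393 D6586) (tt N2594 (iv D4559)) (tt N2749 F21367) (tt N4394 D6587) (tt N2613 F21368) (tt N4364 (iv F30038)) (tt N4395 D6588) (tt N4382 (iv F30125)))
theorem Q3428 : ∀ i, i < 3428 → P i := stepQ 3427 Q3427 (allL N3427 (tt N2596 F21369) (tt N3427 F21370) (tt N3427 F21371) (tt N4394 (iv F30171)) (tt N3427 F21372) (tt N2594 (iv D4560)) (tt N4396 D6589) (tt N4365 (iv F30043)) (tt N3427 F21373) (tt N4383 (iv F30130)))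
theorem Q3429 : ∀ i, i < 3429 → P i := stepQ 3428 Q3428 (allL N3428 (tt N4393 (iv F30165)) (tt N4318 (iv F29820)) (tt N2595 (iv D4561)) (tt N3428 F21374) (tt N2751 F21375) (tt N4397 D6590) (tt N2615 F21376) (tt N4366 (iv F30048)) (tt N4398 D6591) (tt N4384 (iv F30134)))
theorem Q3430 : ∀ i, i < 3430 → P i := stepQ 3429 Q3429 (allL N3429 (tt N4394 (iv F30169)) (tt N2597 F21377) (tt N4397 (iv F30183)) (tt N2596 F21378) (tt N4399 D6592) (tt N2595 (iv D4562)) (tt N4400 D6593) (tt N4367 (iv F30051)) (tt N4401 D6594) (tt N4385 (iv F30137)))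
theorem Q3431 : ∀ i, i < 3431 → P i := stepQ 3430 Q3430 (allL N3430 (tt N4395 (iv F30172)) (tt N2598 F21379) (tt N4398 (iv F30185)) (tt N3430 F21380) (tt N2753 F21381) (tt N4401 (iv F30196)) (tt N2617 F21382) (tt N4368 (iv F30056)) (tt N2595 (iv D4563)) (tt N4402 D6595))
theorem Q3432 : ∀ i, i < 3432 → P i := stepQ 3431 Q3431 (allL N3431 (tt N4396 (iv F30177)) (tt N2599 F21383) (tt N3431 F21384) (tt N4400 (iv F30192)) (tt N3431 F21385) (tt N2618 F21386) (tt N2596 (iv D4564)) (tt N4403 D6596) (tt N3431 F21387) (tt N4387 (iv F30145)))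
theorem Q3433 : ∀ i, i < 3433 → P i := stepQ 3432 Q3432 (allL N3432 (tt N3432 F21388) (tt N4399 (iv F30188)) (tt N4322 (iv F29833)) (tt N3432 F21389) (tt N2597 (iv D4565)) (tt N2755 F21390) (tt N4404 D6597) (tt N4370 (iv F30065)) (tt N4405 D6598) (tt N4388 (iv F30149)))
theorem Q3434 : ∀ i, i < 3434 → P i := stepQ 3433 Q3433 (allL N3433 (tt N3433 F21391) (tt N4400 (iv F30191)) (tt N4323 (iv F29836)) (tt N2599 F21392) (tt N4404 (iv F30208)) (tt N2620 F21393) (tt N2597 (iv D4566)) (tt N4406 D6599) (tt N4407 D6600) (tt N4389 (iv F30153)))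
theorem Q3435 : ∀ i, i < 3435 → P i := stepQ 3434 Q3434 (allL N3434 (tt N3434 F21394) (tt N4401 (iv F30194)) (tt N4324 (iv F29840)) (tt N3434 F21395) (tt N4405 (iv F30210)) (tt N2598 F21396) (tt N4407 (iv F30218)) (tt N4372 (iv F30072)) (tt N2597 (iv D4567)) (tt N4408 D6601))
theorem Q3436 : ∀ i, i < 3436 → P i := stepQ 3435 Q3435 (allL N3435 (tt N3435 F21397) (tt N4402 (iv F30197)) (tt N4325 (iv F29843)) (tt N3435 F21398) (tt N2758 F21399) (tt N4408 (iv F30221)) (tt N2622 F21400) (tt N4373 (iv F30077)) (tt N4391 (iv F30159)) (tt N2598 (iv D4568)))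
theorem Q3437 : ∀ i, i < 3437 → P i := stepQ 3436 Q3436 (allL N3436 (tt N3436 F21401) (tt N4403 (iv F30201)) (tt N2600 F21402) (tt N4406 (iv F30213)) (tt N3436 F21403) (tt N2623 F21404) (tt N4374 (iv F30082)) (tt N2599 (iv D4569)) (tt N3436 F21405) (tt N4392 (iv F30164)))
theorem Q3438 : ∀ i, i < 3438 → P i := stepQ 3437 Q3437 (allL N3437 (tt N2602 F21406) (tt N3437 F21407) (tt N3437 F21408) (tt N4409 D6602) (tt N2601 (iv D4570)) (tt N4410 D6603) (tt N4375 (iv F30087)) (tt N3437 F21409) (tt N2606 F21410) (tt N3437 F21411))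
theorem Q3439 : ∀ i, i < 3439 → P i := stepQ 3438 Q3438 (allL N3438 (tt N4409 (iv F30222)) (tt N2603 F21412) (tt N4411 D6604) (tt N2602 (iv D4571)) (tt N3438 F21413) (tt N4412 D6605) (tt N4376 (iv F30092)) (tt N3438 F21414) (tt N4413 D6606) (tt N3438 F21415))
theorem Q3440 : ∀ i, i < 3440 → P i := stepQ 3439 Q3439 (allL N3439 (tt N4410 (iv F30227)) (tt N2604 F21416) (tt N3439 F21417) (tt N4412 (iv F30240)) (tt N2631 F21418) (tt N2602 (iv D4572)) (tt N4414 D6607) (tt N3439 F21419) (tt N2608 F21420) (tt N3439 F21421))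
theorem Q3441 : ∀ i, i < 3441 → P i := stepQ 3440 Q3440 (allL N3440 (tt N3440 F21422) (tt N4412 (iv F30239)) (tt N3440 F21423) (tt N2604 F21424) (tt N4415 D6608) (tt N2603 (iv D4573)) (tt N4416 D6609) (tt N3440 F21425) (tt N4417 D6610) (tt N3440 F21426))
theorem Q3442 : ∀ i, i < 3442 → P i := stepQ 3441 Q3441 (allL N3441 (tt N3441 F21427) (tt N4413 (iv F30243)) (tt N3441 F21428) (tt N2610 F21429) (tt N3441 F21430) (tt N4417 (iv F30265)) (tt N4379 (iv F30107)) (tt N3441 F21431) (tt N2603 (iv D4574)) (tt N4418 D6611))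
theorem Q3443 : ∀ i, i < 3443 → P i := stepQ 3442 Q3442 (allL N3442 (tt N3442 F21432) (tt N4414 (iv F30247)) (tt N2605 F21433) (tt N4416 (iv F30260)) (tt N2634 F21434) (tt N4380 (iv F30111)) (tt N2604 (iv D4575)) (tt N4419 D6612) (tt N2611 F21435) (tt N3442 F21436))
theorem Q3444 : ∀ i, i < 3444 → P i := stepQ 3443 Q3443 (allL N3443 (tt N3443 F21437) (tt N3443 F21438) (tt N4419 (iv F30274)) (tt N3443 F21439) (tt N2635 F21440) (tt N4381 (iv F30118)) (tt N3443 F21441) (tt N2605 (iv D4576)) (tt N2612 F21442) (tt N3443 F21443))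
theorem Q3445 : ∀ i, i < 3445 → P i := stepQ 3444 Q3444 (allL N3444 (tt N2607 F21444) (tt N3444 F21445) (tt N4420 D6613) (tt N2606 (iv D4577)) (tt N2760 F21446) (tt N4421 D6614) (tt N4382 (iv F30124)) (tt N3444 F21447) (tt N4422 D6615) (tt N2613 F21448))
theorem Q3446 : ∀ i, i < 3446 → P i := stepQ 3445 Q3445 (allL N3445 (tt N2608 F21449) (tt N3445 F21450) (tt N3445 F21451) (tt N4421 (iv F30286)) (tt N2637 F21452) (tt N2606 (iv D4578)) (tt N4423 D6616) (tt N3445 F21453) (tt N4410 (iv F30232)) (tt N2614 F21454))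
theorem Q3447 : ∀ i, i < 3447 → P i := stepQ 3446 Q3446 (allL N3446 (tt N4420 (iv F30279)) (tt N4327 (iv F29861)) (tt N2607 (iv D4579)) (tt N3446 F21455) (tt N2762 F21456) (tt N4424 D6617) (tt N4384 (iv F30133)) (tt N3446 F21457) (tt N4425 D6618) (tt N2615 F21458))
theorem Q3448 : ∀ i, i < 3448 → P i := stepQ 3447 Q3447 (allL N3447 (tt N4421 (iv F30284)) (tt N2609 F21459) (tt N4424 (iv F30298)) (tt N2608 F21460) (tt N4426 D6619) (tt N2607 (iv D4580)) (tt N4427 D6620) (tt N3447 F21461) (tt N4428 D6621) (tt N2616 F21462))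
theorem Q3449 : ∀ i, i < 3449 → P i := stepQ 3448 Q3448 (allL N3448 (tt N4422 (iv F30289)) (tt N2610 F21463) (tt N4425 (iv F30302)) (tt N4413 (iv F30244)) (tt N2764 F21464) (tt N4428 (iv F30314)) (tt N4386 (iv F30140)) (tt N3448 F21465) (tt N2607 (iv D4581)) (tt N4429 D6622))
theorem Q3450 : ∀ i, i < 3450 → P i := stepQ 3449 Q3449 (allL N3449 (tt N4423 (iv F30293)) (tt N2611 F21466) (tt N3449 F21467) (tt N4427 (iv F30311)) (tt N2641 F21468) (tt N4387 (iv F30144)) (tt N2608 (iv D4582)) (tt N4430 D6623) (tt N4414 (iv F30250)) (tt N2618 F21469))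
theorem Q3451 : ∀ i, i < 3451 → P i := stepQ 3450 Q3450 (allL N3450 (tt N3450 F21470) (tt N4426 (iv F30305)) (tt N4331 (iv F29880)) (tt N2642 F21471) (tt N2609 (iv D4583)) (tt N2766 F21472) (tt N4431 D6624) (tt N3450 F21473) (tt N4432 D6625) (tt N2619 F21474))
theorem Q3452 : ∀ i, i < 3452 → P i := stepQ 3451 Q3451 (allL N3451 (tt N3451 F21475) (tt N4427 (iv F30310)) (tt N4332 (iv F29886)) (tt N2611 F21476) (tt N4431 (iv F30327)) (tt N4389 (iv F30152)) (tt N2609 (iv D4584)) (tt N4433 D6626) (tt N4434 D6627) (tt N2620 F21477))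
theorem Q3453 : ∀ i, i < 3453 → P i := stepQ 3452 Q3452 (allL N3452 (tt N3452 F21478) (tt N4428 (iv F30313)) (tt N4333 (iv F29890)) (tt N4417 (iv F30264)) (tt N4432 (iv F30330)) (tt N2610 F21479) (tt N4434 (iv F30338)) (tt N3452 F21480) (tt N2609 (iv D4585)) (tt N4435 D6628))
theorem Q3454 : ∀ i, i < 3454 → P i := stepQ 3453 Q3453 (allL N3453 (tt N3453 F21481) (tt N4429 (iv F30316)) (tt N4334 (iv F29895)) (tt N4418 (iv F30269)) (tt N2769 F21482) (tt N4435 (iv F30340)) (tt N4391 (iv F30158)) (tt N3453 F21483) (tt N2622 F21484) (tt N2610 (iv D4586)))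
theorem Q3455 : ∀ i, i < 3455 → P i := stepQ 3454 Q3454 (allL N3454 (tt N3454 F21485) (tt N4430 (iv F30320)) (tt N2612 F21486) (tt N4433 (iv F30334)) (tt N2646 F21487) (tt N4392 (iv F30163)) (tt N3454 F21488) (tt N2611 (iv D4587)) (tt N4419 (iv F30277)) (tt N2623 F21489))
theorem Q3456 : ∀ i, i < 3456 → P i := stepQ 3455 Q3455 (allL N3455 (tt N2615 F21490) (tt N4436 D6629) (tt N2613 (iv D4588)) (tt N3455 F21491) (tt N2771 F21492) (tt N4437 D6630) (tt N4393 (iv F30168)) (tt N3455 F21493) (tt N4438 D6631) (tt N4420 (iv F30283)))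
theorem Q3457 : ∀ i, i < 3457 → P i := stepQ 3456 Q3456 (allL N3456 (tt N2616 F21494) (tt N3456 F21495) (tt N4437 (iv F30348)) (tt N2614 F21496) (tt N4439 D6632) (tt N2613 (iv D4589)) (tt N4440 D6633) (tt N3456 F21497) (tt N4441 D6634) (tt N4421 (iv F30288)))
theorem Q3458 : ∀ i, i < 3458 → P i := stepQ 3457 Q3457 (allL N3457 (tt N2617 F21498) (tt N3457 F21499) (tt N4438 (iv F30352)) (tt N3457 F21500) (tt N2773 F21501) (tt N4441 (iv F30366)) (tt N4395 (iv F30176)) (tt N3457 F21502) (tt N2613 (iv D4590)) (tt N4442 D6635))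
theorem Q3459 : ∀ i, i < 3459 → P i := stepQ 3458 Q3458 (allL N3458 (tt N2618 F21503) (tt N3458 F21504) (tt N3458 F21505) (tt N4440 (iv F30362)) (tt N2650 F21506) (tt N4396 (iv F30181)) (tt N2614 (iv D4591)) (tt N4443 D6636) (tt N3458 F21507) (tt N4423 (iv F30297)))
theorem Q3460 : ∀ i, i < 3460 → P i := stepQ 3459 Q3459 (allL N3459 (tt N4437 (iv F30347)) (tt N4340 (iv F29922)) (tt N2616 F21508) (tt N3459 F21509) (tt N4444 D6637) (tt N2615 (iv D4592)) (tt N4445 D6638) (tt N3459 F21510) (tt N4446 D6639) (tt N4424 (iv F30301)))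
theorem Q3461 : ∀ i, i < 3461 → P i := stepQ 3460 Q3460 (allL N3460 (tt N4438 (iv F30351)) (tt N4341 (iv F29926)) (tt N2617 F21511) (tt N4447 D6640) (tt N2776 F21512) (tt N4446 (iv F30385)) (tt N4398 (iv F30187)) (tt N3460 F21513) (tt N2615 (iv D4593)) (tt N4448 D6641))
theorem Q3462 : ∀ i, i < 3462 → P i := stepQ 3461 Q3461 (allL N3461 (tt N4439 (iv F30355)) (tt N2619 F21514) (tt N4444 (iv F30379)) (tt N2653 F21515) (tt N2616 (iv D4594)) (tt N2777 F21516) (tt N4449 D6642) (tt N3461 F21517) (tt N4450 D6643) (tt N4426 (iv F30309)))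
theorem Q3463 : ∀ i, i < 3463 → P i := stepQ 3462 Q3462 (allL N3462 (tt N4440 (iv F30360)) (tt N2620 F21518) (tt N4445 (iv F30382)) (tt N2618 F21519) (tt N4449 (iv F30395)) (tt N4400 (iv F30193)) (tt N2616 (iv D4595)) (tt N4451 D6644) (tt N4452 D6645) (tt N4427 (iv F30312)))
theorem Q3464 : ∀ i, i < 3464 → P i := stepQ 3463 Q3463 (allL N3463 (tt N4441 (iv F30363)) (tt N2621 F21520) (tt N4446 (iv F30384)) (tt N3463 F21521) (tt N4450 (iv F30397)) (tt N2617 F21522) (tt N4452 (iv F30405)) (tt N3463 F21523) (tt N2616 (iv D4596)) (tt N4453 D6646))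
theorem Q3465 : ∀ i, i < 3465 → P i := stepQ 3464 Q3464 (allL N3464 (tt N4442 (iv F30368)) (tt N2622 F21524) (tt N4448 (iv F30390)) (tt N3464 F21525) (tt N2780 F21526) (tt N4453 (iv F30408)) (tt N4402 (iv F30200)) (tt N3464 F21527) (tt N4429 (iv F30319)) (tt N2617 (iv D4597)))
theorem Q3466 : ∀ i, i < 3466 → P i := stepQ 3465 Q3465 (allL N3465 (tt N4443 (iv F30373)) (tt N2623 F21528) (tt N3465 F21529) (tt N4451 (iv F30401)) (tt N2657 F21530) (tt N4403 (iv F30204)) (tt N3465 F21531) (tt N2618 (iv D4598)) (tt N3465 F21532) (tt N4430 (iv F30324)))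
theorem Q3467 : ∀ i, i < 3467 → P i := stepQ 3466 Q3466 (allL N3466 (tt N3466 F21533) (tt N4449 (iv F30393)) (tt N4347 (iv F29947)) (tt N2658 F21534) (tt N2620 F21535) (tt N4454 D6647) (tt N2619 (iv D4599)) (tt N4455 D6648) (tt N4456 D6649) (tt N4431 (iv F30328)))
theorem Q3468 : ∀ i, i < 3468 → P i := stepQ 3467 Q3467 (allL N3467 (tt N3467 F21536) (tt N4450 (iv F30396)) (tt N4348 (iv F29951)) (tt N4457 D6650) (tt N2621 F21537) (tt N2783 F21538) (tt N4456 (iv F30419)) (tt N3467 F21539) (tt N2619 (iv D4600)) (tt N4458 D6651))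
theorem Q3469 : ∀ i, i < 3469 → P i := stepQ 3468 Q3468 (allL N3468 (tt N3468 F21540) (tt N4451 (iv F30400)) (tt N4349 (iv F29956)) (tt N2623 F21541) (tt N4455 (iv F30415)) (tt N4406 (iv F30214)) (tt N3468 F21542) (tt N2620 (iv D4601)) (tt N4459 D6652) (tt N4433 (iv F30336)))
theorem Q3470 : ∀ i, i < 3470 → P i := stepQ 3469 Q3469 (allL N3469 (tt N3469 F21543) (tt N4452 (iv F30403)) (tt N4350 (iv F29960)) (tt N3469 F21544) (tt N4456 (iv F30418)) (tt N4407 (iv F30217)) (tt N2621 F21545) (tt N4459 (iv F30432)) (tt N2620 (iv D4602)) (tt N4460 D6653))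
theorem Q3471 : ∀ i, i < 3471 → P i := stepQ 3470 Q3470 (allL N3470 (tt N3470 F21546) (tt N4453 (iv F30406)) (tt N4351 (iv F29963)) (tt N3470 F21547) (tt N4458 (iv F30426)) (tt N2622 F21548) (tt N4460 (iv F30435)) (tt N3470 F21549) (tt N4435 (iv F30342)) (tt N2621 (iv D4603)))
theorem Q3472 : ∀ i, i < 3472 → P i := stepQ 3471 Q3471 (allL N3471 (tt N3286 F202990) (tt N2627 F21562) (tt N3471 F21563) (tt N3276 F202991) (tt N3471 F21564) (tt N2625 (iv D4606)) (tt N4461 D6659) (tt N3471 F21565) (tt N3471 F21566) (tt N3471 F21567))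
theorem Q3473 : ∀ i, i < 3473 → P i := stepQ 3472 Q3472 (allL N3472 (tt N3472 F21568) (tt N3276 F202988) (tt N2632 F21569) (tt N2627 F21570) (tt N4462 D6660) (tt N2626 (iv D4607)) (tt N4463 D6661) (tt N3472 F21571) (tt N3273 F202989) (tt N3472 F21572))
theorem Q3474 : ∀ i, i < 3474 → P i := stepQ 3473 Q3473 (allL N3473 (tt N3473 F21579) (tt N4461 (iv F30464)) (tt N2628 F21580) (tt N4463 (iv F30478)) (tt N3473 F21581) (tt N3473 F21582) (tt N2627 (iv D4609)) (tt N4464 D6664) (tt N3473 F21583) (tt N3473 F21584))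
theorem Q3475 : ∀ i, i < 3475 → P i := stepQ 3474 Q3474 (allL N3474 (tt N3474 F21585) (tt N3474 F21586) (tt N4464 (iv F30494)) (tt N2635 F21587) (tt N3474 F21588) (tt N3474 F21589) (tt N3474 F21590) (tt N2628 (iv D4610)) (tt N3474 F21591) (tt N3474 F21592))
theorem Q3476 : ∀ i, i < 3476 → P i := stepQ 3475 Q3475 (allL N3475 (tt N2631 F21599) (tt N3475 F21600) (tt N3475 F21601) (tt N3067 F202976) (tt N4410 (iv F30230)) (tt N2629 (iv D4612)) (tt N4465 D6668) (tt N3475 F21602) (tt N2637 F21603) (tt N3475 F21604))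
theorem Q3477 : ∀ i, i < 3477 → P i := stepQ 3476 Q3476 (allL N3476 (tt N3067 F202973) (tt N2632 F21610) (tt N3063 F202974) (tt N2631 F21611) (tt N4466 D6671) (tt N2630 (iv D4614)) (tt N4467 D6672) (tt N3476 F21612) (tt N3060 F202975) (tt N3476 F21613))
theorem Q3478 : ∀ i, i < 3478 → P i := stepQ 3477 Q3477 (allL N3477 (tt N4465 (iv F30517)) (tt N2634 F21619) (tt N3477 F21620) (tt N4467 (iv F30536)) (tt N4414 (iv F30249)) (tt N3477 F21621) (tt N2631 (iv D4616)) (tt N4468 D6675) (tt N2641 F21622) (tt N3477 F21623))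
theorem Q3479 : ∀ i, i < 3479 → P i := stepQ 3478 Q3478 (allL N3478 (tt N3478 F21624) (tt N4466 (iv F30531)) (tt N4462 (iv F30471)) (tt N4415 (iv F30254)) (tt N2632 (iv D4617)) (tt N3478 F21625) (tt N4469 D6676) (tt N3478 F21626) (tt N4470 D6677) (tt N3478 F21627))
theorem Q3480 : ∀ i, i < 3480 → P i := stepQ 3479 Q3479 (allL N3479 (tt N3479 F21628) (tt N4467 (iv F30535)) (tt N4463 (iv F30477)) (tt N2634 F21629) (tt N4469 (iv F30556)) (tt N3479 F21630) (tt N2632 (iv D4618)) (tt N4471 D6678) (tt N4472 D6679) (tt N3479 F21631))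
theorem Q3481 : ∀ i, i < 3481 → P i := stepQ 3480 Q3480 (allL N3480 (tt N3480 F21632) (tt N3060 F202971) (tt N3273 F202972) (tt N2644 F21633) (tt N4470 (iv F30559)) (tt N2633 F21634) (tt N4472 (iv F30570)) (tt N3480 F21635) (tt N2632 (iv D4619)) (tt N3077 (iv F203301)))
theorem Q3482 : ∀ i, i < 3482 → P i := stepQ 3481 Q3481 (allL N3481 (tt N3481 F21642) (tt N4468 (iv F30549)) (tt N2635 F21643) (tt N4471 (iv F30563)) (tt N4419 (iv F30275)) (tt N3481 F21644) (tt N3481 F21645) (tt N2634 (iv D4621)) (tt N2646 F21646) (tt N3481 F21647))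
theorem Q3483 : ∀ i, i < 3483 → P i := stepQ 3482 Q3482 (allL N3482 (tt N2639 F21654) (tt N3482 F21655) (tt N2792 F202967) (tt N2637 F21656) (tt N4473 D6684) (tt N2636 (iv D4623)) (tt N4474 D6685) (tt N3482 F21657) (tt N2789 F202968) (tt N2648 F21658))
theorem Q3484 : ∀ i, i < 3484 → P i := stepQ 3483 Q3483 (allL N3483 (tt N2641 F21664) (tt N3483 F21665) (tt N3483 F21666) (tt N4474 (iv F30600)) (tt N4423 (iv F30296)) (tt N3483 F21667) (tt N2637 (iv D4625)) (tt N4475 D6688) (tt N4465 (iv F30521)) (tt N2650 F21668))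
theorem Q3485 : ∀ i, i < 3485 → P i := stepQ 3484 Q3484 (allL N3484 (tt N2792 F202965) (tt N3484 F21669) (tt N2639 F21670) (tt N3484 F21671) (tt N4476 D6689) (tt N2638 (iv D4626)) (tt N4477 D6690) (tt N3484 F21672) (tt N2787 F202966) (tt N2651 F21673))
theorem Q3486 : ∀ i, i < 3486 → P i := stepQ 3485 Q3485 (allL N3485 (tt N4473 (iv F30593)) (tt N2642 F21679) (tt N4476 (iv F30620)) (tt N4426 (iv F30306)) (tt N2639 (iv D4628)) (tt N2790 F21680) (tt N4478 D6694) (tt N3485 F21681) (tt N4479 D6695) (tt N2653 F21682))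
theorem Q3487 : ∀ i, i < 3487 → P i := stepQ 3486 Q3486 (allL N3486 (tt N4474 (iv F30598)) (tt N2643 F21683) (tt N4477 (iv F30625)) (tt N2641 F21684) (tt N4478 (iv F30644)) (tt N3486 F21685) (tt N2639 (iv D4629)) (tt N4480 D6696) (tt N4481 D6697) (tt N2654 F21686))
theorem Q3488 : ∀ i, i < 3488 → P i := stepQ 3487 Q3487 (allL N3487 (tt N2789 F202962) (tt N2644 F21687) (tt N2787 F202963) (tt N3060 F202964) (tt N4479 (iv F30647)) (tt N2640 F21688) (tt N4481 (iv F30657)) (tt N3487 F21689) (tt N2639 (iv D4630)) (tt N2799 (iv F203302)))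
theorem Q3489 : ∀ i, i < 3489 → P i := stepQ 3488 Q3488 (allL N3488 (tt N4475 (iv F30613)) (tt N2646 F21695) (tt N3488 F21696) (tt N4480 (iv F30651)) (tt N4430 (iv F30322)) (tt N3488 F21697) (tt N3488 F21698) (tt N2641 (iv D4632)) (tt N4468 (iv F30553)) (tt N2657 F21699))
theorem Q3490 : ∀ i, i < 3490 → P i := stepQ 3489 Q3489 (allL N3489 (tt N3489 F21700) (tt N4478 (iv F30643)) (tt N3489 F21701) (tt N4431 (iv F30326)) (tt N2643 F21702) (tt N4482 D6699) (tt N2642 (iv D4633)) (tt N4483 D6700) (tt N4484 D6701) (tt N2658 F21703))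
theorem Q3491 : ∀ i, i < 3491 → P i := stepQ 3490 Q3490 (allL N3490 (tt N3490 F21704) (tt N4479 (iv F30646)) (tt N3490 F21705) (tt N4485 D6702) (tt N2644 F21706) (tt N2795 F21707) (tt N4484 (iv F30675)) (tt N3490 F21708) (tt N2642 (iv D4634)) (tt N4486 D6703))
theorem Q3492 : ∀ i, i < 3492 → P i := stepQ 3491 Q3491 (allL N3491 (tt N3491 F21709) (tt N4480 (iv F30650)) (tt N3491 F21710) (tt N2646 F21711) (tt N4483 (iv F30669)) (tt N3491 F21712) (tt N3491 F21713) (tt N2643 (iv D4635)) (tt N4487 D6704) (tt N2660 F21714))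
theorem Q3493 : ∀ i, i < 3493 → P i := stepQ 3492 Q3492 (allL N3492 (tt N3492 F21715) (tt N4481 (iv F30655)) (tt N3492 F21716) (tt N4472 (iv F30568)) (tt N4484 (iv F30674)) (tt N3492 F21717) (tt N2644 F21718) (tt N4487 (iv F30689)) (tt N2643 (iv D4636)) (tt N4488 D6705))
theorem Q3494 : ∀ i, i < 3494 → P i := stepQ 3493 Q3493 (allL N3493 (tt N3493 F21719) (tt N2799 F203751) (tt N3493 F21720) (tt N3077 F203752) (tt N4486 (iv F30681)) (tt N2645 F21721) (tt N4488 (iv F30693)) (tt N3493 F21722) (tt N2662 F21723) (tt N2644 (iv D4637)))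
theorem Q3495 : ∀ i, i < 3495 → P i := stepQ 3494 Q3494 (allL N3494 (tt N2651 F21730) (tt N2798 F202969) (tt N2648 F21731) (tt N3494 F21732) (tt N4489 D6708) (tt N2647 (iv D4639)) (tt N4490 D6709) (tt N3494 F21733) (tt N2811 (iv F203338)) (tt N2792 F202970))
theorem Q3496 : ∀ i, i < 3496 → P i := stepQ 3495 Q3495 (allL N3495 (tt N2653 F21739) (tt N3495 F21740) (tt N4489 (iv F30707)) (tt N4439 (iv F30357)) (tt N2648 (iv D4641)) (tt N2800 F21741) (tt N4491 D6713) (tt N3495 F21742) (tt N4492 D6714) (tt N4473 (iv F30597)))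
theorem Q3497 : ∀ i, i < 3497 → P i := stepQ 3496 Q3496 (allL N3496 (tt N2654 F21743) (tt N3496 F21744) (tt N4490 (iv F30711)) (tt N2650 F21745) (tt N4491 (iv F30731)) (tt N3496 F21746) (tt N2648 (iv D4642)) (tt N4493 D6715) (tt N4494 D6716) (tt N4474 (iv F30602)))
theorem Q3498 : ∀ i, i < 3498 → P i := stepQ 3497 Q3497 (allL N3497 (tt N2655 F21747) (tt N3497 F21748) (tt N2811 F203784) (tt N3497 F21749) (tt N4492 (iv F30734)) (tt N2649 F21750) (tt N4494 (iv F30746)) (tt N3497 F21751) (tt N2648 (iv D4643)) (tt N2806 F203785))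
theorem Q3499 : ∀ i, i < 3499 → P i := stepQ 3498 Q3498 (allL N3498 (tt N2657 F21758) (tt N3498 F21759) (tt N3498 F21760) (tt N4493 (iv F30739)) (tt N4443 (iv F30376)) (tt N3498 F21761) (tt N3498 F21762) (tt N2650 (iv D4645)) (tt N3498 F21763) (tt N4475 (iv F30618)))
theorem Q3500 : ∀ i, i < 3500 → P i := stepQ 3499 Q3499 (allL N3499 (tt N4489 (iv F30706)) (tt N3499 F21764) (tt N2653 F21765) (tt N4495 D6718) (tt N2651 (iv D4646)) (tt N2804 F21766) (tt N4496 D6719) (tt N3499 F21767) (tt N4497 D6720) (tt N4476 (iv F30623)))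
theorem Q3501 : ∀ i, i < 3501 → P i := stepQ 3500 Q3500 (allL N3500 (tt N4490 (iv F30710)) (tt N3500 F21768) (tt N2654 F21769) (tt N3500 F21770) (tt N4496 (iv F30758)) (tt N3500 F21771) (tt N2651 (iv D4647)) (tt N4498 D6721) (tt N4499 D6722) (tt N4477 (iv F30628)))
theorem Q3502 : ∀ i, i < 3502 → P i := stepQ 3501 Q3501 (allL N3501 (tt N2811 F203760) (tt N3501 F21772) (tt N2655 F21773) (tt N2874 (iv F204022)) (tt N4497 (iv F30761)) (tt N2652 F21774) (tt N4499 (iv F30772)) (tt N3501 F21775) (tt N2651 (iv D4648)) (tt N2802 F203761))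
theorem Q3503 : ∀ i, i < 3503 → P i := stepQ 3502 Q3502 (allL N3502 (tt N4491 (iv F30729)) (tt N2658 F21787) (tt N4496 (iv F30757)) (tt N4449 (iv F30394)) (tt N2654 F21788) (tt N4500 D6726) (tt N2653 (iv D4651)) (tt N4501 D6727) (tt N4502 D6728) (tt N4478 (iv F30645)))
theorem Q3504 : ∀ i, i < 3504 → P i := stepQ 3503 Q3503 (allL N3503 (tt N4492 (iv F30732)) (tt N2659 F21789) (tt N4497 (iv F30760)) (tt N4503 D6729) (tt N2655 F21790) (tt N2808 F21791) (tt N4502 (iv F30796)) (tt N3503 F21792) (tt N2653 (iv D4652)) (tt N4504 D6730))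
theorem Q3505 : ∀ i, i < 3505 → P i := stepQ 3504 Q3504 (allL N3504 (tt N4493 (iv F30737)) (tt N2660 F21793) (tt N4498 (iv F30765)) (tt N2657 F21794) (tt N4501 (iv F30792)) (tt N3504 F21795) (tt N3504 F21796) (tt N2654 (iv D4653)) (tt N4505 D6731) (tt N4480 (iv F30654)))
theorem Q3506 : ∀ i, i < 3506 → P i := stepQ 3505 Q3505 (allL N3505 (tt N4494 (iv F30742)) (tt N2661 F21797) (tt N4499 (iv F30770)) (tt N3505 F21798) (tt N4502 (iv F30795)) (tt N3505 F21799) (tt N2655 F21800) (tt N4505 (iv F30809)) (tt N2654 (iv D4654)) (tt N4506 D6732))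
theorem Q3507 : ∀ i, i < 3507 → P i := stepQ 3506 Q3506 (allL N3506 (tt N2806 F203757) (tt N2662 F21801) (tt N2802 F203758) (tt N3506 F21802) (tt N4504 (iv F30802)) (tt N2656 F21803) (tt N4506 (iv F30813)) (tt N3506 F21804) (tt N2799 F203759) (tt N2655 (iv D4655)))
theorem Q3508 : ∀ i, i < 3508 → P i := stepQ 3507 Q3507 (allL N3507 (tt N3507 F21805) (tt N4500 (iv F30788)) (tt N3507 F21806) (tt N4454 (iv F30411)) (tt N3507 F21807) (tt N2658 (iv D4656)) (tt N2812 F21808) (tt N4507 D6733) (tt N4508 D6734) (tt N4482 (iv F30666)))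
theorem Q3509 : ∀ i, i < 3509 → P i := stepQ 3508 Q3508 (allL N3508 (tt N3508 F21809) (tt N4501 (iv F30791)) (tt N3508 F21810) (tt N4455 (iv F30414)) (tt N2660 F21811) (tt N4507 (iv F30817)) (tt N3508 F21812) (tt N2658 (iv D4657)) (tt N4509 D6735) (tt N4483 (iv F30671)))
theorem Q3510 : ∀ i, i < 3510 → P i := stepQ 3509 Q3509 (allL N3509 (tt N3509 F21813) (tt N4502 (iv F30794)) (tt N3509 F21814) (tt N4510 D6736) (tt N2661 F21815) (tt N4508 (iv F30821)) (tt N2659 F21816) (tt N4509 (iv F30827)) (tt N2658 (iv D4658)) (tt N4511 D6737))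
theorem Q3511 : ∀ i, i < 3511 → P i := stepQ 3510 Q3510 (allL N3510 (tt N3510 F21817) (tt N4503 (iv F30797)) (tt N4512 D6738) (tt N2659 (iv D4659)) (tt N3510 F21818) (tt N2815 F21819) (tt N4510 (iv F30830)) (tt N3510 F21820) (tt N4457 (iv F30424)) (tt N4513 D6739))
theorem Q3512 : ∀ i, i < 3512 → P i := stepQ 3511 Q3511 (allL N3511 (tt N3511 F21821) (tt N4504 (iv F30801)) (tt N3511 F21822) (tt N4513 (iv F30841)) (tt N2662 F21823) (tt N2816 F21824) (tt N4511 (iv F30834)) (tt N3511 F21825) (tt N4486 (iv F30684)) (tt N2659 (iv D4660)))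
theorem Q3513 : ∀ i, i < 3513 → P i := stepQ 3512 Q3512 (allL N3512 (tt N3512 F21826) (tt N4505 (iv F30805)) (tt N3512 F21827) (tt N3512 F21828) (tt N4509 (iv F30825)) (tt N3512 F21829) (tt N3512 F21830) (tt N2661 F21831) (tt N2660 (iv D4661)) (tt N4514 D6740))
theorem Q3514 : ∀ i, i < 3514 → P i := stepQ 3513 Q3513 (allL N3513 (tt N3513 F21832) (tt N4506 (iv F30810)) (tt N3513 F21833) (tt N3513 F21834) (tt N4511 (iv F30833)) (tt N3513 F21835) (tt N2662 F21836) (tt N4514 (iv F30850)) (tt N4488 (iv F30694)) (tt N2661 (iv D4662)))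
theorem Q3515 : ∀ i, i < 3515 → P i := stepQ 3514 Q3514 (allL N3514 (tt N3514 F21837) (tt N2900 F21838) (tt N3514 F21839) (tt N3514 F21840) (tt N3514 F21841) (tt N2664 F21842) (tt N3514 F21843) (tt N3514 F21844) (tt N4515 D6741) (tt N2663 (iv D4663)))
theorem Q3516 : ∀ i, i < 3516 → P i := stepQ 3515 Q3515 (allL N3515 (tt N3515 F21845) (tt N2901 F21846) (tt N3515 F21847) (tt N4516 D6742) (tt N2665 F21848) (tt N4515 (iv F30855)) (tt N2669 F21849) (tt N3515 F21850) (tt N2664 (iv D4664)) (tt N3515 F21851))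
theorem Q3517 : ∀ i, i < 3517 → P i := stepQ 3516 Q3516 (allL N3516 (tt N3516 F21852) (tt N2902 F21853) (tt N4517 D6743) (tt N2665 (iv D4665)) (tt N4518 D6744) (tt N3516 F21854) (tt N2670 F21855) (tt N3516 F21856) (tt N2666 F21857) (tt N3516 F21858))
theorem Q3518 : ∀ i, i < 3518 → P i := stepQ 3517 Q3517 (allL N3517 (tt N3517 F21859) (tt N4519 D6745) (tt N2666 (iv D4666)) (tt N4275 (iv F29600)) (tt N4520 D6746) (tt N3517 F21860) (tt N2671 F21861) (tt N3517 F21862) (tt N4517 (iv F30870)) (tt N2667 F21863))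
theorem Q3519 : ∀ i, i < 3519 → P i := stepQ 3518 Q3518 (allL N3518 (tt N3518 F21864) (tt N2904 F21865) (tt N4520 (iv F30884)) (tt N3518 F21866) (tt N2666 (iv D4667)) (tt N4521 D6747) (tt N2672 F21867) (tt N3518 F21868) (tt N4518 (iv F30876)) (tt N2668 F21869))
theorem Q3520 : ∀ i, i < 3520 → P i := stepQ 3519 Q3519 (allL N3519 (tt N4522 D6748) (tt N2667 (iv D4668)) (tt N2905 F21870) (tt N4277 (iv F29614)) (tt N4523 D6749) (tt N3519 F21871) (tt N2673 F21872) (tt N3519 F21873) (tt N3519 F21874) (tt N4519 (iv F30882)))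
theorem Q3521 : ∀ i, i < 3521 → P i := stepQ 3520 Q3520 (allL N3520 (tt N3520 F21875) (tt N4523 (iv F30900)) (tt N2668 F21876) (tt N4524 D6750) (tt N2667 (iv D4669)) (tt N4525 D6751) (tt N2674 F21877) (tt N3520 F21878) (tt N3520 F21879) (tt N4520 (iv F30887)))
theorem Q3522 : ∀ i, i < 3522 → P i := stepQ 3521 Q3521 (allL N3521 (tt N3521 F21880) (tt N2907 F21881) (tt N4525 (iv F30910)) (tt N3521 F21882) (tt N3521 F21883) (tt N2668 (iv D4670)) (tt N4526 D6752) (tt N3521 F21884) (tt N3521 F21885) (tt N4521 (iv F30893)))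
theorem Q3523 : ∀ i, i < 3523 → P i := stepQ 3522 Q3522 (allL N3522 (tt N3522 F21886) (tt N2910 F21887) (tt N4527 D6753) (tt N2669 (iv D4671)) (tt N4528 D6754) (tt N3522 F21888) (tt N4516 (iv F30861)) (tt N2676 F21889) (tt N3522 F21890) (tt N3522 F21891))
theorem Q3524 : ∀ i, i < 3524 → P i := stepQ 3523 Q3523 (allL N3523 (tt N3523 F21892) (tt N3128 (iv F201668)) (tt N2670 (iv D4672)) (tt N3523 F21893) (tt N4529 D6756) (tt N2687 F21894) (tt N4517 (iv F30868)) (tt N2677 F21895) (tt N2671 F21896) (tt N3523 F21897))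
theorem Q3525 : ∀ i, i < 3525 → P i := stepQ 3524 Q3524 (allL N3524 (tt N3524 F21898) (tt N2911 F21899) (tt N4529 (iv F30939)) (tt N4528 (iv F30928)) (tt N2670 (iv D4673)) (tt N4530 D6757) (tt N4518 (iv F30874)) (tt N2678 F21900) (tt N2672 F21901) (tt N3524 F21902))
theorem Q3526 : ∀ i, i < 3526 → P i := stepQ 3525 Q3525 (allL N3525 (tt N3133 (iv F201662)) (tt N2671 (iv D4674)) (tt N2912 F21903) (tt N4280 (iv F29628)) (tt N4531 D6759) (tt N2689 F21904) (tt N4519 (iv F30880)) (tt N2679 F21905) (tt N3128 (iv F201669)) (tt N2673 F21906))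
theorem Q3527 : ∀ i, i < 3527 → P i := stepQ 3526 Q3526 (allL N3526 (tt N3526 F21907) (tt N4531 (iv F30954)) (tt N2672 F21908) (tt N4532 D6760) (tt N2671 (iv D4675)) (tt N4533 D6761) (tt N4520 (iv F30885)) (tt N2680 F21909) (tt N4529 (iv F30941)) (tt N2674 F21910))
theorem Q3528 : ∀ i, i < 3528 → P i := stepQ 3527 Q3527 (allL N3527 (tt N3527 F21911) (tt N2914 F21912) (tt N4533 (iv F30963)) (tt N3527 F21913) (tt N2691 F21914) (tt N2672 (iv D4676)) (tt N4534 D6762) (tt N2681 F21915) (tt N4530 (iv F30947)) (tt N2675 F21916))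
theorem Q3529 : ∀ i, i < 3529 → P i := stepQ 3528 Q3528 (allL N3528 (tt N2673 (iv D4677)) (tt N3528 F21917) (tt N2915 F21918) (tt N4283 (iv F29647)) (tt N4535 D6763) (tt N2692 F21919) (tt N4522 (iv F30897)) (tt N2682 F21920) (tt N3528 F21921) (tt N3133 (iv F201663)))
theorem Q3530 : ∀ i, i < 3530 → P i := stepQ 3529 Q3529 (allL N3529 (tt N4535 (iv F30972)) (tt N2674 F21922) (tt N2916 F21923) (tt N4536 D6764) (tt N2673 (iv D4678)) (tt N4537 D6765) (tt N4523 (iv F30902)) (tt N2683 F21924) (tt N3529 F21925) (tt N4531 (iv F30957)))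
theorem Q3531 : ∀ i, i < 3531 → P i := stepQ 3530 Q3530 (allL N3530 (tt N3530 F21926) (tt N4536 (iv F30977)) (tt N3530 F21927) (tt N2674 (iv D4679)) (tt N4285 (iv F29655)) (tt N4538 D6766) (tt N4524 (iv F30907)) (tt N2684 F21928) (tt N4539 D6767) (tt N4532 (iv F30961)))
theorem Q3532 : ∀ i, i < 3532 → P i := stepQ 3531 Q3531 (allL N3531 (tt N3531 F21929) (tt N4537 (iv F30979)) (tt N2675 F21930) (tt N4538 (iv F30986)) (tt N2695 F21931) (tt N2674 (iv D4680)) (tt N4540 D6768) (tt N2685 F21932) (tt N3531 F21933) (tt N4533 (iv F30966)))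
theorem Q3533 : ∀ i, i < 3533 → P i := stepQ 3532 Q3532 (allL N3532 (tt N3532 F21934) (tt N2919 F21935) (tt N4540 (iv F30993)) (tt N3532 F21936) (tt N2696 F21937) (tt N4526 (iv F30918)) (tt N2675 (iv D4681)) (tt N4541 D6769) (tt N3532 F21938) (tt N4534 (iv F30971)))
theorem Q3534 : ∀ i, i < 3534 → P i := stepQ 3533 Q3533 (allL N3533 (tt N3533 F21939) (tt N3533 F195112) (tt N2676 (iv D4682)) (tt N3533 F21940) (tt N4542 D6771) (tt N3533 F21941) (tt N3533 F21942) (tt N4527 (iv F30923)) (tt N3533 F21943) (tt N3533 F21944))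
theorem Q3535 : ∀ i, i < 3535 → P i := stepQ 3534 Q3534 (allL N3534 (tt N3534 F21945) (tt N2920 F21946) (tt N4542 (iv F31009)) (tt N2678 F21947) (tt N2676 (iv D4683)) (tt N4543 D6772) (tt N3534 F21948) (tt N4528 (iv F30929)) (tt N3534 F21949) (tt N3534 F21950))
theorem Q3536 : ∀ i, i < 3536 → P i := stepQ 3535 Q3535 (allL N3535 (tt N3535 F21957) (tt N3143 (iv F202015)) (tt N2678 F21958) (tt N4544 D6775) (tt N2677 (iv D4685)) (tt N4545 D6776) (tt N3535 F21959) (tt N4529 (iv F30940)) (tt N2680 F21960) (tt N3535 F21961))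
theorem Q3537 : ∀ i, i < 3537 → P i := stepQ 3536 Q3536 (allL N3536 (tt N3536 F21962) (tt N2921 F21963) (tt N4545 (iv F31036)) (tt N4543 (iv F31015)) (tt N2698 F21964) (tt N2678 (iv D4686)) (tt N4546 D6777) (tt N4530 (iv F30946)) (tt N2681 F21965) (tt N3536 F21966))
theorem Q3538 : ∀ i, i < 3538 → P i := stepQ 3537 Q3537 (allL N3537 (tt N3145 (iv F202012)) (tt N2680 F21972) (tt N2922 F21973) (tt N4547 D6779) (tt N2679 (iv D4688)) (tt N4548 D6780) (tt N3537 F21974) (tt N4531 (iv F30956)) (tt N3143 (iv F202016)) (tt N2683 F21975))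
theorem Q3539 : ∀ i, i < 3539 → P i := stepQ 3538 Q3538 (allL N3538 (tt N3538 F21976) (tt N4547 (iv F31051)) (tt N3538 F21977) (tt N2680 (iv D4689)) (tt N4289 (iv F29679)) (tt N4549 D6781) (tt N3538 F21978) (tt N4532 (iv F30960)) (tt N4550 D6782) (tt N2684 F21979))
theorem Q3540 : ∀ i, i < 3540 → P i := stepQ 3539 Q3539 (allL N3539 (tt N3539 F21980) (tt N4548 (iv F31054)) (tt N2681 F21981) (tt N4549 (iv F31060)) (tt N2701 F21982) (tt N2680 (iv D4690)) (tt N4551 D6783) (tt N4533 (iv F30965)) (tt N4545 (iv F31038)) (tt N2685 F21983))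
theorem Q3541 : ∀ i, i < 3541 → P i := stepQ 3540 Q3540 (allL N3540 (tt N3540 F21984) (tt N2925 F21985) (tt N4551 (iv F31066)) (tt N3540 F21986) (tt N2702 F21987) (tt N3540 F21988) (tt N2681 (iv D4691)) (tt N4552 D6784) (tt N4546 (iv F31044)) (tt N2686 F21989))
theorem Q3542 : ∀ i, i < 3542 → P i := stepQ 3541 Q3541 (allL N3541 (tt N2683 F21990) (tt N3541 F21991) (tt N2926 F21992) (tt N4553 D6785) (tt N2682 (iv D4692)) (tt N4554 D6786) (tt N3541 F21993) (tt N4535 (iv F30975)) (tt N3541 F21994) (tt N3145 (iv F202013)))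
theorem Q3543 : ∀ i, i < 3543 → P i := stepQ 3542 Q3542 (allL N3542 (tt N4553 (iv F31076)) (tt N2684 F21995) (tt N4555 D6787) (tt N2683 (iv D4693)) (tt N4293 (iv F29699)) (tt N4556 D6788) (tt N3542 F21996) (tt N4536 (iv F30978)) (tt N4557 D6789) (tt N4547 (iv F31053)))
theorem Q3544 : ∀ i, i < 3544 → P i := stepQ 3543 Q3543 (allL N3543 (tt N4554 (iv F31079)) (tt N2685 F21997) (tt N2928 F21998) (tt N4556 (iv F31088)) (tt N2705 F21999) (tt N2683 (iv D4694)) (tt N4558 D6790) (tt N4537 (iv F30982)) (tt N3543 F22000) (tt N4548 (iv F31057)))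
theorem Q3545 : ∀ i, i < 3545 → P i := stepQ 3544 Q3544 (allL N3544 (tt N3544 F22001) (tt N4556 (iv F31087)) (tt N3544 F22002) (tt N2685 F22003) (tt N4559 D6791) (tt N2684 (iv D4695)) (tt N4560 D6792) (tt N4538 (iv F30987)) (tt N4561 D6793) (tt N4549 (iv F31061)))
theorem Q3546 : ∀ i, i < 3546 → P i := stepQ 3545 Q3545 (allL N3545 (tt N3545 F22004) (tt N4557 (iv F31089)) (tt N3545 F22005) (tt N3545 F22006) (tt N4296 (iv F29709)) (tt N4561 (iv F31107)) (tt N3545 F22007) (tt N4539 (iv F30991)) (tt N2684 (iv D4696)) (tt N4562 D6794))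
theorem Q3547 : ∀ i, i < 3547 → P i := stepQ 3546 Q3546 (allL N3546 (tt N3546 F22008) (tt N4558 (iv F31092)) (tt N2686 F22009) (tt N4560 (iv F31102)) (tt N2708 F22010) (tt N3546 F22011) (tt N2685 (iv D4697)) (tt N4563 D6795) (tt N3546 F22012) (tt N4551 (iv F31069)))
theorem Q3548 : ∀ i, i < 3548 → P i := stepQ 3547 Q3547 (allL N3547 (tt N3547 F22013) (tt N2932 F22014) (tt N4563 (iv F31113)) (tt N3547 F22015) (tt N2709 F22016) (tt N3547 F22017) (tt N4541 (iv F31000)) (tt N2686 (iv D4698)) (tt N3547 F22018) (tt N4552 (iv F31075)))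
theorem Q3549 : ∀ i, i < 3549 → P i := stepQ 3548 Q3548 (allL N3548 (tt N3548 F22025) (tt N3088 (iv F200870)) (tt N2688 F22026) (tt N4564 D6798) (tt N2687 (iv D4700)) (tt N4565 D6799) (tt N3548 F22027) (tt N2697 F22028) (tt N2690 F22029) (tt N3548 F22030))
theorem Q3550 : ∀ i, i < 3550 → P i := stepQ 3549 Q3549 (allL N3549 (tt N3549 F22031) (tt N2933 F22032) (tt N4565 (iv F31137)) (tt N3549 F22033) (tt N4530 (iv F30945)) (tt N2688 (iv D4701)) (tt N4566 D6800) (tt N2698 F22034) (tt N2691 F22035) (tt N3549 F22036))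
theorem Q3551 : ∀ i, i < 3551 → P i := stepQ 3550 Q3550 (allL N3550 (tt N3092 (iv F200860)) (tt N2690 F22042) (tt N2934 F22043) (tt N4567 D6802) (tt N2689 (iv D4703)) (tt N4568 D6803) (tt N3550 F22044) (tt N2699 F22045) (tt N3088 (iv F200871)) (tt N2693 F22046))
theorem Q3552 : ∀ i, i < 3552 → P i := stepQ 3551 Q3551 (allL N3551 (tt N3551 F22047) (tt N4567 (iv F31153)) (tt N2732 F22048) (tt N2690 (iv D4704)) (tt N4300 (iv F29735)) (tt N4569 D6804) (tt N3551 F22049) (tt N2700 F22050) (tt N4570 D6805) (tt N2694 F22051))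
theorem Q3553 : ∀ i, i < 3553 → P i := stepQ 3552 Q3552 (allL N3552 (tt N3552 F22052) (tt N4568 (iv F31157)) (tt N2691 F22053) (tt N4569 (iv F31163)) (tt N4533 (iv F30964)) (tt N2690 (iv D4705)) (tt N4571 D6806) (tt N2701 F22054) (tt N4565 (iv F31139)) (tt N2695 F22055))
theorem Q3554 : ∀ i, i < 3554 → P i := stepQ 3553 Q3553 (allL N3553 (tt N3553 F22056) (tt N2937 F22057) (tt N4571 (iv F31171)) (tt N2734 F22058) (tt N4534 (iv F30970)) (tt N3553 F22059) (tt N2691 (iv D4706)) (tt N4572 D6807) (tt N4566 (iv F31145)) (tt N2696 F22060))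
theorem Q3555 : ∀ i, i < 3555 → P i := stepQ 3554 Q3554 (allL N3554 (tt N2693 F22061) (tt N3554 F22062) (tt N2938 F22063) (tt N4573 D6808) (tt N2692 (iv D4707)) (tt N4574 D6809) (tt N3554 F22064) (tt N2703 F22065) (tt N3554 F22066) (tt N3092 (iv F200861)))
theorem Q3556 : ∀ i, i < 3556 → P i := stepQ 3555 Q3555 (allL N3555 (tt N4573 (iv F31180)) (tt N2694 F22067) (tt N4575 D6810) (tt N2693 (iv D4708)) (tt N4304 (iv F29756)) (tt N4576 D6811) (tt N3555 F22068) (tt N2704 F22069) (tt N4577 D6812) (tt N4567 (iv F31156)))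
theorem Q3557 : ∀ i, i < 3557 → P i := stepQ 3556 Q3556 (allL N3556 (tt N4574 (iv F31184)) (tt N2695 F22070) (tt N2940 F22071) (tt N4576 (iv F31194)) (tt N4537 (iv F30981)) (tt N2693 (iv D4709)) (tt N4578 D6813) (tt N2705 F22072) (tt N3556 F22073) (tt N4568 (iv F31160)))
theorem Q3558 : ∀ i, i < 3558 → P i := stepQ 3557 Q3557 (allL N3557 (tt N3557 F22074) (tt N4576 (iv F31193)) (tt N2738 F22075) (tt N2695 F22076) (tt N4579 D6814) (tt N2694 (iv D4710)) (tt N4580 D6815) (tt N2706 F22077) (tt N4581 D6816) (tt N4569 (iv F31165)))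
theorem Q3559 : ∀ i, i < 3559 → P i := stepQ 3558 Q3558 (allL N3558 (tt N3558 F22078) (tt N4577 (iv F31196)) (tt N2739 F22079) (tt N3558 F22080) (tt N4307 (iv F29768)) (tt N4581 (iv F31214)) (tt N3558 F22081) (tt N2707 F22082) (tt N2694 (iv D4711)) (tt N4582 D6817))
theorem Q3560 : ∀ i, i < 3560 → P i := stepQ 3559 Q3559 (allL N3559 (tt N3559 F22083) (tt N4578 (iv F31200)) (tt N2696 F22084) (tt N4580 (iv F31209)) (tt N4540 (iv F30994)) (tt N3559 F22085) (tt N2695 (iv D4712)) (tt N4583 D6818) (tt N3559 F22086) (tt N4571 (iv F31173)))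
theorem Q3561 : ∀ i, i < 3561 → P i := stepQ 3560 Q3560 (allL N3560 (tt N3560 F22087) (tt N2944 F22088) (tt N4583 (iv F31222)) (tt N2741 F22089) (tt N4541 (iv F30999)) (tt N3560 F22090) (tt N2709 F22091) (tt N2696 (iv D4713)) (tt N3560 F22092) (tt N4572 (iv F31179)))
theorem Q3562 : ∀ i, i < 3562 → P i := stepQ 3561 Q3561 (allL N3561 (tt N3561 F22104) (tt N2830 (iv F201560)) (tt N3561 F22105) (tt N2697 (iv D4716)) (tt N3561 F22106) (tt N4584 D6822) (tt N2710 F22107) (tt N4564 (iv F31134)) (tt N4585 D6823) (tt N3561 F22108))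
theorem Q3563 : ∀ i, i < 3563 → P i := stepQ 3562 Q3562 (allL N3562 (tt N3562 F22109) (tt N3102 (iv F201504)) (tt N2698 F22110) (tt N4584 (iv F31242)) (tt N4545 (iv F31037)) (tt N2697 (iv D4717)) (tt N4586 D6824) (tt N4565 (iv F31138)) (tt N2701 F22111) (tt N3562 F22112))
theorem Q3564 : ∀ i, i < 3564 → P i := stepQ 3563 Q3563 (allL N3563 (tt N3563 F22113) (tt N2945 F22114) (tt N4586 (iv F31250)) (tt N3563 F22115) (tt N4546 (iv F31042)) (tt N2712 F22116) (tt N2698 (iv D4718)) (tt N4587 D6825) (tt N2702 F22117) (tt N3563 F22118))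
theorem Q3565 : ∀ i, i < 3565 → P i := stepQ 3564 Q3564 (allL N3564 (tt N3109 (iv F201528)) (tt N2700 F22124) (tt N4588 D6828) (tt N2699 (iv D4720)) (tt N4310 (iv F29786)) (tt N4589 D6829) (tt N2713 F22125) (tt N4567 (iv F31155)) (tt N4590 D6830) (tt N2704 F22126))
theorem Q3566 : ∀ i, i < 3566 → P i := stepQ 3565 Q3565 (allL N3565 (tt N3108 (iv F201497)) (tt N2701 F22127) (tt N2947 F22128) (tt N4589 (iv F31273)) (tt N4548 (iv F31056)) (tt N2699 (iv D4721)) (tt N4591 D6831) (tt N4568 (iv F31159)) (tt N3102 (iv F201505)) (tt N2705 F22129))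
theorem Q3567 : ∀ i, i < 3567 → P i := stepQ 3566 Q3566 (allL N3566 (tt N3566 F22130) (tt N4589 (iv F31272)) (tt N2745 F22131) (tt N2701 F22132) (tt N4592 D6832) (tt N2700 (iv D4722)) (tt N4593 D6833) (tt N4569 (iv F31164)) (tt N4594 D6834) (tt N2706 F22133))
theorem Q3568 : ∀ i, i < 3568 → P i := stepQ 3567 Q3567 (allL N3567 (tt N3567 F22134) (tt N4590 (iv F31275)) (tt N2746 F22135) (tt N4585 (iv F31246)) (tt N4313 (iv F29800)) (tt N4594 (iv F31291)) (tt N2716 F22136) (tt N4570 (iv F31169)) (tt N2700 (iv D4723)) (tt N4595 D6835))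
theorem Q3569 : ∀ i, i < 3569 → P i := stepQ 3568 Q3568 (allL N3568 (tt N3568 F22137) (tt N4591 (iv F31277)) (tt N2702 F22138) (tt N4593 (iv F31286)) (tt N4551 (iv F31067)) (tt N2717 F22139) (tt N2701 (iv D4724)) (tt N4596 D6836) (tt N4586 (iv F31252)) (tt N2708 F22140))
theorem Q3570 : ∀ i, i < 3570 → P i := stepQ 3569 Q3569 (allL N3569 (tt N3569 F22141) (tt N2950 F22142) (tt N4596 (iv F31297)) (tt N2748 F22143) (tt N4552 (iv F31073)) (tt N2718 F22144) (tt N4572 (iv F31178)) (tt N2702 (iv D4725)) (tt N4587 (iv F31258)) (tt N2709 F22145))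
theorem Q3571 : ∀ i, i < 3571 → P i := stepQ 3570 Q3570 (allL N3570 (tt N2704 F22146) (tt N3570 F22147) (tt N4597 D6837) (tt N2703 (iv D4726)) (tt N4316 (iv F29815)) (tt N4598 D6838) (tt N2719 F22148) (tt N4573 (iv F31183)) (tt N4599 D6839) (tt N3109 (iv F201529)))
theorem Q3572 : ∀ i, i < 3572 → P i := stepQ 3571 Q3571 (allL N3571 (tt N2705 F22149) (tt N3571 F22150) (tt N2952 F22151) (tt N4598 (iv F31305)) (tt N4554 (iv F31082)) (tt N2703 (iv D4727)) (tt N4600 D6840) (tt N4574 (iv F31187)) (tt N3571 F22152) (tt N3108 (iv F201498)))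
theorem Q3573 : ∀ i, i < 3573 → P i := stepQ 3572 Q3572 (allL N3572 (tt N4597 (iv F31300)) (tt N2751 F22153) (tt N2704 (iv D4728)) (tt N2953 F22154) (tt N4318 (iv F29822)) (tt N4601 D6841) (tt N2721 F22155) (tt N4575 (iv F31192)) (tt N4602 D6842) (tt N4588 (iv F31271)))
theorem Q3574 : ∀ i, i < 3574 → P i := stepQ 3573 Q3573 (allL N3573 (tt N4598 (iv F31303)) (tt N2706 F22156) (tt N4601 (iv F31316)) (tt N2705 F22157) (tt N4603 D6843) (tt N2704 (iv D4729)) (tt N4604 D6844) (tt N4576 (iv F31195)) (tt N4605 D6845) (tt N4589 (iv F31274)))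
theorem Q3575 : ∀ i, i < 3575 → P i := stepQ 3574 Q3574 (allL N3574 (tt N4599 (iv F31306)) (tt N2707 F22158) (tt N4602 (iv F31319)) (tt N3574 F22159) (tt N4320 (iv F29827)) (tt N4605 (iv F31327)) (tt N2723 F22160) (tt N4577 (iv F31199)) (tt N2704 (iv D4730)) (tt N4606 D6846))
theorem Q3576 : ∀ i, i < 3576 → P i := stepQ 3575 Q3575 (allL N3575 (tt N4600 (iv F31310)) (tt N2708 F22161) (tt N2956 F22162) (tt N4604 (iv F31323)) (tt N4558 (iv F31094)) (tt N2724 F22163) (tt N2705 (iv D4731)) (tt N4607 D6847) (tt N3575 F22164) (tt N4591 (iv F31280)))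
theorem Q3577 : ∀ i, i < 3577 → P i := stepQ 3576 Q3576 (allL N3576 (tt N3576 F22165) (tt N4603 (iv F31321)) (tt N2755 F22166) (tt N4559 (iv F31099)) (tt N2706 (iv D4732)) (tt N4322 (iv F29834)) (tt N4608 D6848) (tt N4579 (iv F31206)) (tt N4609 D6849) (tt N4592 (iv F31283)))
theorem Q3578 : ∀ i, i < 3578 → P i := stepQ 3577 Q3577 (allL N3577 (tt N3577 F22167) (tt N4604 (iv F31322)) (tt N2756 F22168) (tt N2708 F22169) (tt N4608 (iv F31337)) (tt N2726 F22170) (tt N2706 (iv D4733)) (tt N4610 D6850) (tt N4611 D6851) (tt N4593 (iv F31288)))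
theorem Q3579 : ∀ i, i < 3579 → P i := stepQ 3578 Q3578 (allL N3578 (tt N3578 F22171) (tt N4605 (iv F31325)) (tt N2757 F22172) (tt N3578 F22173) (tt N4609 (iv F31340)) (tt N2707 F22174) (tt N4611 (iv F31349)) (tt N4581 (iv F31215)) (tt N2706 (iv D4734)) (tt N4612 D6852))
theorem Q3580 : ∀ i, i < 3580 → P i := stepQ 3579 Q3579 (allL N3579 (tt N3579 F22175) (tt N4606 (iv F31328)) (tt N2758 F22176) (tt N3579 F22177) (tt N4325 (iv F29844)) (tt N4612 (iv F31353)) (tt N2728 F22178) (tt N4582 (iv F31220)) (tt N4595 (iv F31295)) (tt N2707 (iv D4735)))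
theorem Q3581 : ∀ i, i < 3581 → P i := stepQ 3580 Q3580 (allL N3580 (tt N3580 F22179) (tt N4607 (iv F31331)) (tt N2709 F22180) (tt N4610 (iv F31343)) (tt N4563 (iv F31114)) (tt N2729 F22181) (tt N4583 (iv F31224)) (tt N2708 (iv D4736)) (tt N3580 F22182) (tt N4596 (iv F31299)))
theorem Q3582 : ∀ i, i < 3582 → P i := stepQ 3581 Q3581 (allL N3581 (tt N3581 F22199) (tt N2846 (iv F202376)) (tt N3581 F22200) (tt N2711 F22201) (tt N4613 D6859) (tt N2710 (iv D4740)) (tt N4614 D6860) (tt N3581 F22202) (tt N4615 D6861) (tt N3581 F22203))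
theorem Q3583 : ∀ i, i < 3583 → P i := stepQ 3582 Q3582 (allL N3582 (tt N3582 F22204) (tt N2847 (iv F202364)) (tt N3582 F22205) (tt N2716 F22206) (tt N3582 F22207) (tt N4615 (iv F31397)) (tt N4585 (iv F31248)) (tt N3582 F22208) (tt N2710 (iv D4741)) (tt N4616 D6862))
theorem Q3584 : ∀ i, i < 3584 → P i := stepQ 3583 Q3583 (allL N3583 (tt N3583 F22209) (tt N3120 (iv F202269)) (tt N2712 F22210) (tt N4614 (iv F31392)) (tt N3583 F22211) (tt N4586 (iv F31251)) (tt N2711 (iv D4742)) (tt N4617 D6863) (tt N2717 F22212) (tt N3583 F22213))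
theorem Q3585 : ∀ i, i < 3585 → P i := stepQ 3584 Q3584 (allL N3584 (tt N3584 F22214) (tt N2962 F22215) (tt N4617 (iv F31406)) (tt N3584 F22216) (tt N3584 F22217) (tt N4587 (iv F31257)) (tt N3584 F22218) (tt N2712 (iv D4743)) (tt N2718 F22219) (tt N3584 F22220))
theorem Q3586 : ∀ i, i < 3586 → P i := stepQ 3585 Q3585 (allL N3585 (tt N3049 (iv F201512)) (tt N2762 F22231) (tt N2713 (iv D4746)) (tt N2963 F22232) (tt N4327 (iv F29863)) (tt N4618 D6868) (tt N4588 (iv F31270)) (tt N3585 F22233) (tt N4619 D6869) (tt N2721 F22234))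
theorem Q3587 : ∀ i, i < 3587 → P i := stepQ 3586 Q3586 (allL N3586 (tt N3124 (iv F202362)) (tt N2715 F22235) (tt N4618 (iv F31429)) (tt N2714 F22236) (tt N4620 D6870) (tt N2713 (iv D4747)) (tt N4621 D6871) (tt N3586 F22237) (tt N4622 D6872) (tt N2722 F22238))
theorem Q3588 : ∀ i, i < 3588 → P i := stepQ 3587 Q3587 (allL N3587 (tt N2856 (iv F202346)) (tt N2716 F22239) (tt N4619 (iv F31434)) (tt N2847 (iv F202365)) (tt N4329 (iv F29872)) (tt N4622 (iv F31444)) (tt N4590 (iv F31276)) (tt N3587 F22240) (tt N2713 (iv D4748)) (tt N4623 D6873))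
theorem Q3589 : ∀ i, i < 3589 → P i := stepQ 3588 Q3588 (allL N3588 (tt N3123 (iv F202267)) (tt N2717 F22241) (tt N2965 F22242) (tt N4621 (iv F31441)) (tt N3588 F22243) (tt N4591 (iv F31279)) (tt N2714 (iv D4749)) (tt N4624 D6874) (tt N3120 (iv F202270)) (tt N2724 F22244))
theorem Q3590 : ∀ i, i < 3590 → P i := stepQ 3589 Q3589 (allL N3589 (tt N3589 F22245) (tt N4620 (iv F31436)) (tt N2766 F22246) (tt N3589 F22247) (tt N2715 (iv D4750)) (tt N4331 (iv F29882)) (tt N4625 D6875) (tt N3589 F22248) (tt N4626 D6876) (tt N2725 F22249))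
theorem Q3591 : ∀ i, i < 3591 → P i := stepQ 3590 Q3590 (allL N3590 (tt N3590 F22250) (tt N4621 (iv F31440)) (tt N2767 F22251) (tt N2717 F22252) (tt N4625 (iv F31457)) (tt N4593 (iv F31287)) (tt N2715 (iv D4751)) (tt N4627 D6877) (tt N4628 D6878) (tt N2726 F22253))
theorem Q3592 : ∀ i, i < 3592 → P i := stepQ 3591 Q3591 (allL N3591 (tt N3591 F22254) (tt N4622 (iv F31443)) (tt N2768 F22255) (tt N4615 (iv F31396)) (tt N4626 (iv F31461)) (tt N2716 F22256) (tt N4628 (iv F31470)) (tt N3591 F22257) (tt N2715 (iv D4752)) (tt N4629 D6879))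
theorem Q3593 : ∀ i, i < 3593 → P i := stepQ 3592 Q3592 (allL N3592 (tt N3592 F22258) (tt N4623 (iv F31446)) (tt N2769 F22259) (tt N4616 (iv F31401)) (tt N4334 (iv F29897)) (tt N4629 (iv F31473)) (tt N4595 (iv F31294)) (tt N3592 F22260) (tt N2728 F22261) (tt N2716 (iv D4753)))
theorem Q3594 : ∀ i, i < 3594 → P i := stepQ 3593 Q3593 (allL N3593 (tt N3593 F22262) (tt N4624 (iv F31449)) (tt N2718 F22263) (tt N4627 (iv F31465)) (tt N3593 F22264) (tt N4596 (iv F31298)) (tt N3593 F22265) (tt N2717 (iv D4754)) (tt N4617 (iv F31409)) (tt N2729 F22266))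
theorem Q3595 : ∀ i, i < 3595 → P i := stepQ 3594 Q3594 (allL N3594 (tt N2721 F22267) (tt N4630 D6880) (tt N2719 (iv D4755)) (tt N2969 F22268) (tt N4336 (iv F29908)) (tt N4631 D6881) (tt N4597 (iv F31302)) (tt N3594 F22269) (tt N4632 D6882) (tt N3049 (iv F201513)))
theorem Q3596 : ∀ i, i < 3596 → P i := stepQ 3595 Q3595 (allL N3595 (tt N2722 F22270) (tt N3595 F22271) (tt N4631 (iv F31481)) (tt N2720 F22272) (tt N4633 D6883) (tt N2719 (iv D4756)) (tt N4634 D6884) (tt N3595 F22273) (tt N4635 D6885) (tt N3124 (iv F202363)))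
theorem Q3597 : ∀ i, i < 3597 → P i := stepQ 3596 Q3596 (allL N3596 (tt N2723 F22274) (tt N3596 F22275) (tt N4632 (iv F31485)) (tt N3596 F22276) (tt N4338 (iv F29916)) (tt N4635 (iv F31497)) (tt N4599 (iv F31309)) (tt N3596 F22277) (tt N2719 (iv D4757)) (tt N4636 D6886))
theorem Q3598 : ∀ i, i < 3598 → P i := stepQ 3597 Q3597 (allL N3597 (tt N2724 F22278) (tt N3597 F22279) (tt N2972 F22280) (tt N4634 (iv F31493)) (tt N3597 F22281) (tt N4600 (iv F31313)) (tt N2720 (iv D4758)) (tt N4637 D6887) (tt N3597 F22282) (tt N3123 (iv F202268)))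
theorem Q3599 : ∀ i, i < 3599 → P i := stepQ 3598 Q3598 (allL N3598 (tt N4631 (iv F31480)) (tt N2775 F22283) (tt N2722 F22284) (tt N2973 F22285) (tt N4638 D6888) (tt N2721 (iv D4759)) (tt N4639 D6889) (tt N3598 F22286) (tt N4640 D6890) (tt N4618 (iv F31432)))
theorem Q3600 : ∀ i, i < 3600 → P i := stepQ 3599 Q3599 (allL N3599 (tt N4632 (iv F31484)) (tt N2776 F22287) (tt N2723 F22288) (tt N4641 D6891) (tt N4341 (iv F29928)) (tt N4640 (iv F31517)) (tt N4602 (iv F31320)) (tt N3599 F22289) (tt N2721 (iv D4760)) (tt N4642 D6892))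
theorem Q3601 : ∀ i, i < 3601 → P i := stepQ 3600 Q3600 (allL N3600 (tt N4633 (iv F31487)) (tt N2725 F22290) (tt N4638 (iv F31510)) (tt N3600 F22291) (tt N2722 (iv D4761)) (tt N4342 (iv F29932)) (tt N4643 D6893) (tt N3600 F22292) (tt N4644 D6894) (tt N4620 (iv F31439)))
theorem Q3602 : ∀ i, i < 3602 → P i := stepQ 3601 Q3601 (allL N3601 (tt N4634 (iv F31491)) (tt N2726 F22293) (tt N4639 (iv F31513)) (tt N2724 F22294) (tt N4643 (iv F31528)) (tt N4604 (iv F31324)) (tt N2722 (iv D4762)) (tt N4645 D6895) (tt N4646 D6896) (tt N4621 (iv F31442)))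
theorem Q3603 : ∀ i, i < 3603 → P i := stepQ 3602 Q3602 (allL N3602 (tt N4635 (iv F31494)) (tt N2727 F22295) (tt N4640 (iv F31516)) (tt N3602 F22296) (tt N4644 (iv F31530)) (tt N2723 F22297) (tt N4646 (iv F31537)) (tt N3602 F22298) (tt N2722 (iv D4763)) (tt N4647 D6897))
theorem Q3604 : ∀ i, i < 3604 → P i := stepQ 3603 Q3603 (allL N3603 (tt N4636 (iv F31499)) (tt N2728 F22299) (tt N4642 (iv F31524)) (tt N3603 F22300) (tt N4345 (iv F29940)) (tt N4647 (iv F31540)) (tt N4606 (iv F31330)) (tt N3603 F22301) (tt N4623 (iv F31448)) (tt N2723 (iv D4764)))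
theorem Q3605 : ∀ i, i < 3605 → P i := stepQ 3604 Q3604 (allL N3604 (tt N4637 (iv F31503)) (tt N2729 F22302) (tt N2979 F22303) (tt N4645 (iv F31533)) (tt N3604 F22304) (tt N4607 (iv F31333)) (tt N3604 F22305) (tt N2724 (iv D4765)) (tt N3604 F22306) (tt N4624 (iv F31453)))
theorem Q3606 : ∀ i, i < 3606 → P i := stepQ 3605 Q3605 (allL N3605 (tt N3605 F22307) (tt N4643 (iv F31526)) (tt N2782 F22308) (tt N3605 F22309) (tt N2726 F22310) (tt N4648 D6898) (tt N2725 (iv D4766)) (tt N4649 D6899) (tt N4650 D6900) (tt N4625 (iv F31458)))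
theorem Q3607 : ∀ i, i < 3607 → P i := stepQ 3606 Q3606 (allL N3606 (tt N3606 F22311) (tt N4644 (iv F31529)) (tt N2783 F22312) (tt N4651 D6901) (tt N2727 F22313) (tt N4348 (iv F29953)) (tt N4650 (iv F31553)) (tt N3606 F22314) (tt N2725 (iv D4767)) (tt N4652 D6902))
theorem Q3608 : ∀ i, i < 3608 → P i := stepQ 3607 Q3607 (allL N3607 (tt N3607 F22315) (tt N4645 (iv F31532)) (tt N2784 F22316) (tt N2729 F22317) (tt N4649 (iv F31548)) (tt N4610 (iv F31344)) (tt N3607 F22318) (tt N2726 (iv D4768)) (tt N4653 D6903) (tt N4627 (iv F31467)))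
theorem Q3609 : ∀ i, i < 3609 → P i := stepQ 3608 Q3608 (allL N3608 (tt N3608 F22319) (tt N4646 (iv F31535)) (tt N2785 F22320) (tt N3608 F22321) (tt N4650 (iv F31552)) (tt N4611 (iv F31348)) (tt N2727 F22322) (tt N4653 (iv F31566)) (tt N2726 (iv D4769)) (tt N4654 D6904))
theorem Q3610 : ∀ i, i < 3610 → P i := stepQ 3609 Q3609 (allL N3609 (tt N3609 F22323) (tt N4647 (iv F31538)) (tt N2786 F22324) (tt N3609 F22325) (tt N4652 (iv F31560)) (tt N2728 F22326) (tt N4654 (iv F31570)) (tt N3609 F22327) (tt N4629 (iv F31475)) (tt N2727 (iv D4770)))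
theorem Q3611 : ∀ i, i < 3611 → P i := stepQ 3610 Q3610 (allL N3610 (tt N2731 F22328) (tt N3610 F22329) (tt N2985 F22330) (tt N4655 D6905) (tt N2730 (iv D4771)) (tt N4656 D6906) (tt N3610 F22331) (tt N2742 F22332) (tt N3610 F22333) (tt N2735 F22334))
theorem Q3612 : ∀ i, i < 3612 → P i := stepQ 3611 Q3611 (allL N3611 (tt N4655 (iv F31571)) (tt N2732 F22335) (tt N4657 D6907) (tt N2731 (iv D4772)) (tt N4358 (iv F30006)) (tt N4658 D6908) (tt N3611 F22336) (tt N2743 F22337) (tt N4659 D6909) (tt N2736 F22338))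
theorem Q3613 : ∀ i, i < 3613 → P i := stepQ 3612 Q3612 (allL N3612 (tt N4656 (iv F31576)) (tt N2733 F22339) (tt N2987 F22340) (tt N4658 (iv F31588)) (tt N3612 F22341) (tt N2731 (iv D4773)) (tt N4660 D6910) (tt N2744 F22342) (tt N3612 F22343) (tt N2737 F22344))
theorem Q3614 : ∀ i, i < 3614 → P i := stepQ 3613 Q3613 (allL N3613 (tt N3613 F22345) (tt N4658 (iv F31587)) (tt N4569 (iv F31162)) (tt N2733 F22346) (tt N4661 D6911) (tt N2732 (iv D4774)) (tt N4662 D6912) (tt N2745 F22347) (tt N4663 D6913) (tt N2738 F22348))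
theorem Q3615 : ∀ i, i < 3615 → P i := stepQ 3614 Q3614 (allL N3614 (tt N3614 F22349) (tt N4659 (iv F31591)) (tt N4570 (iv F31167)) (tt N3614 F22350) (tt N4361 (iv F30020)) (tt N4663 (iv F31611)) (tt N3614 F22351) (tt N2746 F22352) (tt N2732 (iv D4775)) (tt N4664 D6914))
theorem Q3616 : ∀ i, i < 3616 → P i := stepQ 3615 Q3615 (allL N3615 (tt N3615 F22353) (tt N4660 (iv F31595)) (tt N2734 F22354) (tt N4662 (iv F31606)) (tt N3615 F22355) (tt N3615 F22356) (tt N2733 (iv D4776)) (tt N4665 D6915) (tt N3615 F22357) (tt N2740 F22358))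
theorem Q3617 : ∀ i, i < 3617 → P i := stepQ 3616 Q3616 (allL N3616 (tt N3616 F22359) (tt N2991 F22360) (tt N4665 (iv F31619)) (tt N4572 (iv F31176)) (tt N3616 F22361) (tt N3616 F22362) (tt N2748 F22363) (tt N2734 (iv D4777)) (tt N3616 F22364) (tt N2741 F22365))
theorem Q3618 : ∀ i, i < 3618 → P i := stepQ 3617 Q3617 (allL N3617 (tt N2736 F22366) (tt N3617 F22367) (tt N4666 D6916) (tt N2735 (iv D4778)) (tt N4364 (iv F30036)) (tt N4667 D6917) (tt N3617 F22368) (tt N2749 F22369) (tt N4668 D6918) (tt N4655 (iv F31575)))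
theorem Q3619 : ∀ i, i < 3619 → P i := stepQ 3618 Q3618 (allL N3618 (tt N2737 F22370) (tt N3618 F22371) (tt N2993 F22372) (tt N4667 (iv F31631)) (tt N3618 F22373) (tt N2735 (iv D4779)) (tt N4669 D6919) (tt N2750 F22374) (tt N2820 F22375) (tt N4656 (iv F31582)))
theorem Q3620 : ∀ i, i < 3620 → P i := stepQ 3619 Q3619 (allL N3619 (tt N4666 (iv F31625)) (tt N4575 (iv F31189)) (tt N2736 (iv D4780)) (tt N2994 F22376) (tt N4366 (iv F30046)) (tt N4670 D6920) (tt N3619 F22377) (tt N2751 F22378) (tt N4671 D6921) (tt N4657 (iv F31586)))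
theorem Q3621 : ∀ i, i < 3621 → P i := stepQ 3620 Q3620 (allL N3620 (tt N4667 (iv F31629)) (tt N2738 F22379) (tt N4670 (iv F31644)) (tt N2737 F22380) (tt N4672 D6922) (tt N2736 (iv D4781)) (tt N4673 D6923) (tt N2752 F22381) (tt N4674 D6924) (tt N4658 (iv F31590)))
theorem Q3622 : ∀ i, i < 3622 → P i := stepQ 3621 Q3621 (allL N3621 (tt N4668 (iv F31633)) (tt N2739 F22382) (tt N4671 (iv F31647)) (tt N2823 F22383) (tt N4368 (iv F30054)) (tt N4674 (iv F31658)) (tt N3621 F22384) (tt N2753 F22385) (tt N2736 (iv D4782)) (tt N4675 D6925))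
theorem Q3623 : ∀ i, i < 3623 → P i := stepQ 3622 Q3622 (allL N3622 (tt N4669 (iv F31638)) (tt N2740 F22386) (tt N2997 F22387) (tt N4673 (iv F31654)) (tt N3622 F22388) (tt N3622 F22389) (tt N2737 (iv D4783)) (tt N4676 D6926) (tt N2824 F22390) (tt N4660 (iv F31600)))
theorem Q3624 : ∀ i, i < 3624 → P i := stepQ 3623 Q3623 (allL N3623 (tt N3623 F22391) (tt N4672 (iv F31650)) (tt N4579 (iv F31205)) (tt N3623 F22392) (tt N2738 (iv D4784)) (tt N4370 (iv F30064)) (tt N4677 D6927) (tt N2755 F22393) (tt N4678 D6928) (tt N4661 (iv F31604)))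
theorem Q3625 : ∀ i, i < 3625 → P i := stepQ 3624 Q3624 (allL N3624 (tt N3624 F22394) (tt N4673 (iv F31653)) (tt N4580 (iv F31208)) (tt N2740 F22395) (tt N4677 (iv F31672)) (tt N3624 F22396) (tt N2738 (iv D4785)) (tt N4679 D6929) (tt N4680 D6930) (tt N4662 (iv F31608)))
theorem Q3626 : ∀ i, i < 3626 → P i := stepQ 3625 Q3625 (allL N3625 (tt N3625 F22397) (tt N4674 (iv F31656)) (tt N4581 (iv F31212)) (tt N2827 F22398) (tt N4678 (iv F31674)) (tt N2739 F22399) (tt N4680 (iv F31683)) (tt N2757 F22400) (tt N2738 (iv D4786)) (tt N4681 D6931))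
theorem Q3627 : ∀ i, i < 3627 → P i := stepQ 3626 Q3626 (allL N3626 (tt N3626 F22401) (tt N4675 (iv F31660)) (tt N4582 (iv F31217)) (tt N2828 F22402) (tt N4373 (iv F30075)) (tt N4681 (iv F31686)) (tt N3626 F22403) (tt N2758 F22404) (tt N4664 (iv F31617)) (tt N2739 (iv D4787)))
theorem Q3628 : ∀ i, i < 3628 → P i := stepQ 3627 Q3627 (allL N3627 (tt N3627 F22405) (tt N4676 (iv F31664)) (tt N2741 F22406) (tt N4679 (iv F31677)) (tt N3627 F22407) (tt N3627 F22408) (tt N2759 F22409) (tt N2740 (iv D4788)) (tt N2829 F22410) (tt N4665 (iv F31624)))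
theorem Q3629 : ∀ i, i < 3629 → P i := stepQ 3628 Q3628 (allL N3628 (tt N2743 F22411) (tt N3628 F22412) (tt N4682 D6932) (tt N2742 (iv D4789)) (tt N4382 (iv F30123)) (tt N4683 D6933) (tt N2760 F22413) (tt N4655 (iv F31574)) (tt N4684 D6934) (tt N2749 F22414))
theorem Q3630 : ∀ i, i < 3630 → P i := stepQ 3629 Q3629 (allL N3629 (tt N2744 F22415) (tt N3629 F22416) (tt N3004 F22417) (tt N4683 (iv F31694)) (tt N3629 F22418) (tt N2742 (iv D4790)) (tt N4685 D6935) (tt N4656 (iv F31580)) (tt N3629 F22419) (tt N2750 F22420))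
theorem Q3631 : ∀ i, i < 3631 → P i := stepQ 3630 Q3630 (allL N3630 (tt N4682 (iv F31688)) (tt N4588 (iv F31268)) (tt N2743 (iv D4791)) (tt N3005 F22421) (tt N4384 (iv F30132)) (tt N4686 D6936) (tt N2762 F22422) (tt N4657 (iv F31585)) (tt N4687 D6937) (tt N2751 F22423))
theorem Q3632 : ∀ i, i < 3632 → P i := stepQ 3631 Q3631 (allL N3631 (tt N4683 (iv F31692)) (tt N2745 F22424) (tt N4686 (iv F31707)) (tt N2744 F22425) (tt N4688 D6938) (tt N2743 (iv D4792)) (tt N4689 D6939) (tt N4658 (iv F31589)) (tt N4690 D6940) (tt N2752 F22426))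
theorem Q3633 : ∀ i, i < 3633 → P i := stepQ 3632 Q3632 (allL N3632 (tt N4684 (iv F31696)) (tt N2746 F22427) (tt N4687 (iv F31710)) (tt N3632 F22428) (tt N4386 (iv F30139)) (tt N4690 (iv F31721)) (tt N2764 F22429) (tt N4659 (iv F31594)) (tt N2743 (iv D4793)) (tt N4691 D6941))
theorem Q3634 : ∀ i, i < 3634 → P i := stepQ 3633 Q3633 (allL N3633 (tt N4685 (iv F31700)) (tt N2747 F22430) (tt N3008 F22431) (tt N4689 (iv F31716)) (tt N3633 F22432) (tt N2765 F22433) (tt N2744 (iv D4794)) (tt N4692 D6942) (tt N3633 F22434) (tt N2754 F22435))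
theorem Q3635 : ∀ i, i < 3635 → P i := stepQ 3634 Q3634 (allL N3634 (tt N3634 F22436) (tt N4688 (iv F31712)) (tt N4592 (iv F31282)) (tt N3634 F22437) (tt N2745 (iv D4795)) (tt N4388 (iv F30148)) (tt N4693 D6943) (tt N4661 (iv F31603)) (tt N4694 D6944) (tt N2755 F22438))
theorem Q3636 : ∀ i, i < 3636 → P i := stepQ 3635 Q3635 (allL N3635 (tt N3635 F22439) (tt N4689 (iv F31715)) (tt N4593 (iv F31285)) (tt N2747 F22440) (tt N4693 (iv F31734)) (tt N2767 F22441) (tt N2745 (iv D4796)) (tt N4695 D6945) (tt N4696 D6946) (tt N2756 F22442))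
theorem Q3637 : ∀ i, i < 3637 → P i := stepQ 3636 Q3636 (allL N3636 (tt N3636 F22443) (tt N4690 (iv F31719)) (tt N4594 (iv F31290)) (tt N3636 F22444) (tt N4694 (iv F31737)) (tt N2746 F22445) (tt N4696 (iv F31745)) (tt N4663 (iv F31612)) (tt N2745 (iv D4797)) (tt N4697 D6947))
theorem Q3638 : ∀ i, i < 3638 → P i := stepQ 3637 Q3637 (allL N3637 (tt N3637 F22446) (tt N4691 (iv F31722)) (tt N4595 (iv F31293)) (tt N3637 F22447) (tt N4391 (iv F30157)) (tt N4697 (iv F31748)) (tt N2769 F22448) (tt N4664 (iv F31616)) (tt N2758 F22449) (tt N2746 (iv D4798)))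
theorem Q3639 : ∀ i, i < 3639 → P i := stepQ 3638 Q3638 (allL N3638 (tt N3638 F22450) (tt N4692 (iv F31726)) (tt N2748 F22451) (tt N4695 (iv F31739)) (tt N3638 F22452) (tt N2770 F22453) (tt N4665 (iv F31622)) (tt N2747 (iv D4799)) (tt N3638 F22454) (tt N2759 F22455))
theorem Q3640 : ∀ i, i < 3640 → P i := stepQ 3639 Q3639 (allL N3639 (tt N2751 F22456) (tt N4698 D6948) (tt N2749 (iv D4800)) (tt N3014 F22457) (tt N4393 (iv F30167)) (tt N4699 D6949) (tt N2771 F22458) (tt N4666 (iv F31628)) (tt N4700 D6950) (tt N4682 (iv F31691)))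
theorem Q3641 : ∀ i, i < 3641 → P i := stepQ 3640 Q3640 (allL N3640 (tt N2752 F22459) (tt N3640 F22460) (tt N4699 (iv F31754)) (tt N2750 F22461) (tt N4701 D6951) (tt N2749 (iv D4801)) (tt N4702 D6952) (tt N4667 (iv F31632)) (tt N4703 D6953) (tt N4683 (iv F31695)))
theorem Q3642 : ∀ i, i < 3642 → P i := stepQ 3641 Q3641 (allL N3641 (tt N2753 F22462) (tt N3641 F22463) (tt N4700 (iv F31757)) (tt N2832 F22464) (tt N4395 (iv F30175)) (tt N4703 (iv F31769)) (tt N2773 F22465) (tt N4668 (iv F31637)) (tt N2749 (iv D4802)) (tt N4704 D6954))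
theorem Q3643 : ∀ i, i < 3643 → P i := stepQ 3642 Q3642 (allL N3642 (tt N2754 F22466) (tt N3642 F22467) (tt N3016 F22468) (tt N4702 (iv F31764)) (tt N3642 F22469) (tt N2774 F22470) (tt N2750 (iv D4803)) (tt N4705 D6955) (tt N2833 F22471) (tt N4685 (iv F31706)))
theorem Q3644 : ∀ i, i < 3644 → P i := stepQ 3643 Q3643 (allL N3643 (tt N4699 (iv F31753)) (tt N4601 (iv F31315)) (tt N2752 F22472) (tt N3017 F22473) (tt N4706 D6956) (tt N2751 (iv D4804)) (tt N4707 D6957) (tt N4670 (iv F31646)) (tt N4708 D6958) (tt N4686 (iv F31709)))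
theorem Q3645 : ∀ i, i < 3645 → P i := stepQ 3644 Q3644 (allL N3644 (tt N4700 (iv F31756)) (tt N4602 (iv F31318)) (tt N2753 F22474) (tt N4709 D6959) (tt N4398 (iv F30186)) (tt N4708 (iv F31785)) (tt N2776 F22475) (tt N4671 (iv F31649)) (tt N2751 (iv D4805)) (tt N4710 D6960))
theorem Q3646 : ∀ i, i < 3646 → P i := stepQ 3645 Q3645 (allL N3645 (tt N4701 (iv F31759)) (tt N2755 F22476) (tt N4706 (iv F31780)) (tt N3645 F22477) (tt N2752 (iv D4806)) (tt N4399 (iv F30190)) (tt N4711 D6961) (tt N4672 (iv F31652)) (tt N4712 D6962) (tt N4688 (iv F31714)))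
theorem Q3647 : ∀ i, i < 3647 → P i := stepQ 3646 Q3646 (allL N3646 (tt N4702 (iv F31762)) (tt N2756 F22478) (tt N4707 (iv F31781)) (tt N2754 F22479) (tt N4711 (iv F31793)) (tt N2778 F22480) (tt N2752 (iv D4807)) (tt N4713 D6963) (tt N4714 D6964) (tt N4689 (iv F31718)))
theorem Q3648 : ∀ i, i < 3648 → P i := stepQ 3647 Q3647 (allL N3647 (tt N4703 (iv F31766)) (tt N2757 F22481) (tt N4708 (iv F31784)) (tt N2838 F22482) (tt N4712 (iv F31795)) (tt N2753 F22483) (tt N4714 (iv F31802)) (tt N4674 (iv F31659)) (tt N2752 (iv D4808)) (tt N4715 D6965))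
theorem Q3649 : ∀ i, i < 3649 → P i := stepQ 3648 Q3648 (allL N3648 (tt N4704 (iv F31770)) (tt N2758 F22484) (tt N4710 (iv F31789)) (tt N2839 F22485) (tt N4402 (iv F30199)) (tt N4715 (iv F31805)) (tt N2780 F22486) (tt N4675 (iv F31663)) (tt N4691 (iv F31725)) (tt N2753 (iv D4809)))
theorem Q3650 : ∀ i, i < 3650 → P i := stepQ 3649 Q3649 (allL N3649 (tt N4705 (iv F31774)) (tt N2759 F22487) (tt N3022 F22488) (tt N4713 (iv F31797)) (tt N3649 F22489) (tt N2781 F22490) (tt N4676 (iv F31668)) (tt N2754 (iv D4810)) (tt N2840 F22491) (tt N4692 (iv F31731)))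
theorem Q3651 : ∀ i, i < 3651 → P i := stepQ 3650 Q3650 (allL N3650 (tt N3650 F22492) (tt N4711 (iv F31791)) (tt N4608 (iv F31336)) (tt N3650 F22493) (tt N2756 F22494) (tt N4716 D6966) (tt N2755 (iv D4811)) (tt N4717 D6967) (tt N4718 D6968) (tt N4693 (iv F31735)))
theorem Q3652 : ∀ i, i < 3652 → P i := stepQ 3651 Q3651 (allL N3651 (tt N3651 F22495) (tt N4712 (iv F31794)) (tt N4609 (iv F31339)) (tt N4719 D6969) (tt N2757 F22496) (tt N4405 (iv F30211)) (tt N4718 (iv F31814)) (tt N4678 (iv F31675)) (tt N2755 (iv D4812)) (tt N4720 D6970))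
theorem Q3653 : ∀ i, i < 3653 → P i := stepQ 3652 Q3652 (allL N3652 (tt N3652 F22497) (tt N4713 (iv F31796)) (tt N4610 (iv F31342)) (tt N2759 F22498) (tt N4717 (iv F31811)) (tt N2784 F22499) (tt N4679 (iv F31679)) (tt N2756 (iv D4813)) (tt N4721 D6971) (tt N4695 (iv F31741)))
theorem Q3654 : ∀ i, i < 3654 → P i := stepQ 3653 Q3653 (allL N3653 (tt N3653 F22500) (tt N4714 (iv F31799)) (tt N4611 (iv F31346)) (tt N2844 F22501) (tt N4718 (iv F31813)) (tt N2785 F22502) (tt N2757 F22503) (tt N4721 (iv F31823)) (tt N2756 (iv D4814)) (tt N4722 D6972))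
theorem Q3655 : ∀ i, i < 3655 → P i := stepQ 3654 Q3654 (allL N3654 (tt N3654 F22504) (tt N4715 (iv F31803)) (tt N4612 (iv F31351)) (tt N2845 F22505) (tt N4720 (iv F31819)) (tt N2758 F22506) (tt N4722 (iv F31827)) (tt N4681 (iv F31687)) (tt N4697 (iv F31749)) (tt N2757 (iv D4815)))
theorem Q3656 : ∀ i, i < 3656 → P i := stepQ 3655 Q3655 (allL N3655 (tt N2762 F22507) (tt N4723 D6973) (tt N2760 (iv D4816)) (tt N3028 F22508) (tt N4420 (iv F30281)) (tt N4724 D6974) (tt N4682 (iv F31690)) (tt N3655 F22509) (tt N4725 D6975) (tt N2771 F22510))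
theorem Q3657 : ∀ i, i < 3657 → P i := stepQ 3656 Q3656 (allL N3656 (tt N2763 F22511) (tt N3656 F22512) (tt N4724 (iv F31833)) (tt N2761 F22513) (tt N4726 D6976) (tt N2760 (iv D4817)) (tt N4727 D6977) (tt N3656 F22514) (tt N4728 D6978) (tt N2772 F22515))
theorem Q3658 : ∀ i, i < 3658 → P i := stepQ 3657 Q3657 (allL N3657 (tt N2764 F22516) (tt N3657 F22517) (tt N4725 (iv F31838)) (tt N3657 F22518) (tt N4422 (iv F30291)) (tt N4728 (iv F31852)) (tt N4684 (iv F31699)) (tt N3657 F22519) (tt N2760 (iv D4818)) (tt N4729 D6979))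
theorem Q3659 : ∀ i, i < 3659 → P i := stepQ 3658 Q3658 (allL N3658 (tt N2765 F22520) (tt N3658 F22521) (tt N3030 F22522) (tt N4727 (iv F31847)) (tt N2788 F22523) (tt N4685 (iv F31704)) (tt N2761 (iv D4819)) (tt N4730 D6980) (tt N3658 F22524) (tt N2774 F22525))
theorem Q3660 : ∀ i, i < 3660 → P i := stepQ 3659 Q3659 (allL N3659 (tt N4724 (iv F31832)) (tt N4618 (iv F31428)) (tt N2763 F22526) (tt N3031 F22527) (tt N4731 D6981) (tt N2762 (iv D4820)) (tt N4732 D6982) (tt N3659 F22528) (tt N4733 D6983) (tt N2775 F22529))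
theorem Q3661 : ∀ i, i < 3661 → P i := stepQ 3660 Q3660 (allL N3660 (tt N4725 (iv F31837)) (tt N4619 (iv F31433)) (tt N2764 F22530) (tt N4734 D6984) (tt N4425 (iv F30303)) (tt N4733 (iv F31873)) (tt N4687 (iv F31711)) (tt N3660 F22531) (tt N2762 (iv D4821)) (tt N4735 D6985))
theorem Q3662 : ∀ i, i < 3662 → P i := stepQ 3661 Q3661 (allL N3661 (tt N4726 (iv F31840)) (tt N2766 F22532) (tt N4731 (iv F31866)) (tt N2790 F22533) (tt N2763 (iv D4822)) (tt N4426 (iv F30307)) (tt N4736 D6986) (tt N3661 F22534) (tt N4737 D6987) (tt N2777 F22535))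
theorem Q3663 : ∀ i, i < 3663 → P i := stepQ 3662 Q3662 (allL N3662 (tt N4727 (iv F31845)) (tt N2767 F22536) (tt N4732 (iv F31869)) (tt N2765 F22537) (tt N4736 (iv F31883)) (tt N4689 (iv F31717)) (tt N2763 (iv D4823)) (tt N4738 D6988) (tt N4739 D6989) (tt N2778 F22538))
theorem Q3664 : ∀ i, i < 3664 → P i := stepQ 3663 Q3663 (allL N3663 (tt N4728 (iv F31849)) (tt N2768 F22539) (tt N4733 (iv F31872)) (tt N3663 F22540) (tt N4737 (iv F31886)) (tt N2764 F22541) (tt N4739 (iv F31894)) (tt N3663 F22542) (tt N2763 (iv D4824)) (tt N4740 D6990))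
theorem Q3665 : ∀ i, i < 3665 → P i := stepQ 3664 Q3664 (allL N3664 (tt N4729 (iv F31854)) (tt N2769 F22543) (tt N4735 (iv F31878)) (tt N3664 F22544) (tt N4429 (iv F30317)) (tt N4740 (iv F31897)) (tt N4691 (iv F31724)) (tt N3664 F22545) (tt N2780 F22546) (tt N2764 (iv D4825)))
theorem Q3666 : ∀ i, i < 3666 → P i := stepQ 3665 Q3665 (allL N3665 (tt N4730 (iv F31859)) (tt N2770 F22547) (tt N3036 F22548) (tt N4738 (iv F31889)) (tt N2793 F22549) (tt N4692 (iv F31729)) (tt N3665 F22550) (tt N2765 (iv D4826)) (tt N3665 F22551) (tt N2781 F22552))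
theorem Q3667 : ∀ i, i < 3667 → P i := stepQ 3666 Q3666 (allL N3666 (tt N3666 F22553) (tt N4736 (iv F31881)) (tt N4625 (iv F31455)) (tt N2794 F22554) (tt N2767 F22555) (tt N4741 D6991) (tt N2766 (iv D4827)) (tt N4742 D6992) (tt N4743 D6993) (tt N2782 F22556))
theorem Q3668 : ∀ i, i < 3668 → P i := stepQ 3667 Q3667 (allL N3667 (tt N3667 F22557) (tt N4737 (iv F31885)) (tt N4626 (iv F31460)) (tt N4744 D6994) (tt N2768 F22558) (tt N4432 (iv F30331)) (tt N4743 (iv F31910)) (tt N3667 F22559) (tt N2766 (iv D4828)) (tt N4745 D6995))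
theorem Q3669 : ∀ i, i < 3669 → P i := stepQ 3668 Q3668 (allL N3668 (tt N3668 F22560) (tt N4738 (iv F31888)) (tt N4627 (iv F31464)) (tt N2770 F22561) (tt N4742 (iv F31905)) (tt N4695 (iv F31740)) (tt N3668 F22562) (tt N2767 (iv D4829)) (tt N4746 D6996) (tt N2784 F22563))
theorem Q3670 : ∀ i, i < 3670 → P i := stepQ 3669 Q3669 (allL N3669 (tt N3669 F22564) (tt N4739 (iv F31892)) (tt N4628 (iv F31469)) (tt N3669 F22565) (tt N4743 (iv F31909)) (tt N4696 (iv F31744)) (tt N2768 F22566) (tt N4746 (iv F31922)) (tt N2767 (iv D4830)) (tt N4747 D6997))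
theorem Q3671 : ∀ i, i < 3671 → P i := stepQ 3670 Q3670 (allL N3670 (tt N3670 F22567) (tt N4740 (iv F31895)) (tt N4629 (iv F31472)) (tt N3670 F22568) (tt N4745 (iv F31916)) (tt N2769 F22569) (tt N4747 (iv F31925)) (tt N3670 F22570) (tt N2786 F22571) (tt N2768 (iv D4831)))
theorem Q3672 : ∀ i, i < 3672 → P i := stepQ 3671 Q3671 (allL N3671 (tt N4630 (iv F31476)) (tt N2771 (iv D4832)) (tt N3671 F22572) (tt N3032 F201240) (tt N4436 (iv F30345)) (tt N4748 D6998) (tt N4698 (iv F31752)) (tt N3671 F22574) (tt N4734 (iv F201643)) (tt N4723 (iv F31831)))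
theorem Q3673 : ∀ i, i < 3673 → P i := stepQ 3672 Q3672 (allL N3672 (tt N2775 F22575) (tt N4748 (iv F31927)) (tt N2772 F22576) (tt N3042 F22577) (tt N4749 D7000) (tt N2771 (iv D4833)) (tt N4750 D7001) (tt N3672 F22578) (tt N4751 D7002) (tt N4724 (iv F31836)))
theorem Q3674 : ∀ i, i < 3674 → P i := stepQ 3673 Q3673 (allL N3673 (tt N2776 F22579) (tt N4734 F201933) (tt N2773 F22580) (tt N4619 F201934) (tt N4438 (iv F30353)) (tt N4751 (iv F31942)) (tt N4700 (iv F31758)) (tt N3673 F22581) (tt N2771 (iv D4834)) (tt N4752 D7004))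
theorem Q3675 : ∀ i, i < 3675 → P i := stepQ 3674 Q3674 (allL N3674 (tt N2777 F22582) (tt N3674 F22583) (tt N4749 (iv F31935)) (tt N2800 F22584) (tt N2772 (iv D4835)) (tt N4439 (iv F30358)) (tt N4753 D7005) (tt N3674 F22585) (tt N4754 D7006) (tt N4726 (iv F31844)))
theorem Q3676 : ∀ i, i < 3676 → P i := stepQ 3675 Q3675 (allL N3675 (tt N2778 F22586) (tt N3675 F22587) (tt N4750 (iv F31938)) (tt N2774 F22588) (tt N4753 (iv F31954)) (tt N4702 (iv F31765)) (tt N2772 (iv D4836)) (tt N4755 D7007) (tt N4756 D7008) (tt N4727 (iv F31848)))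
theorem Q3677 : ∀ i, i < 3677 → P i := stepQ 3676 Q3676 (allL N3676 (tt N2779 F22589) (tt N3676 F22590) (tt N4751 (iv F31941)) (tt N2850 F22591) (tt N4754 (iv F31957)) (tt N2773 F22592) (tt N4756 (iv F31966)) (tt N3676 F22593) (tt N2772 (iv D4837)) (tt N4757 D7009))
theorem Q3678 : ∀ i, i < 3678 → P i := stepQ 3677 Q3677 (allL N3677 (tt N2780 F22594) (tt N3677 F22595) (tt N4752 (iv F31949)) (tt N2851 F22596) (tt N4442 (iv F30371)) (tt N4757 (iv F31970)) (tt N4704 (iv F31773)) (tt N3677 F22597) (tt N4729 (iv F31858)) (tt N2773 (iv D4838)))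
theorem Q3679 : ∀ i, i < 3679 → P i := stepQ 3678 Q3678 (allL N3678 (tt N2781 F22598) (tt N3678 F22599) (tt N3045 F22600) (tt N4755 (iv F31961)) (tt N2803 F22601) (tt N4705 (iv F31778)) (tt N3678 F22602) (tt N2774 (iv D4839)) (tt N2852 F22603) (tt N4730 (iv F31865)))
theorem Q3680 : ∀ i, i < 3680 → P i := stepQ 3679 Q3679 (allL N3679 (tt N4749 (iv F31934)) (tt N4638 (iv F31509)) (tt N2777 F22604) (tt N4758 D7010) (tt N2775 (iv D4840)) (tt N4444 (iv F30380)) (tt N4759 D7011) (tt N3679 F22605) (tt N4760 D7012) (tt N4731 (iv F31868)))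
theorem Q3681 : ∀ i, i < 3681 → P i := stepQ 3680 Q3680 (allL N3680 (tt N4750 (iv F31937)) (tt N4639 (iv F31512)) (tt N2778 F22606) (tt N3047 F22607) (tt N4759 (iv F31976)) (tt N4707 (iv F31783)) (tt N2775 (iv D4841)) (tt N4761 D7013) (tt N4762 D7014) (tt N4732 (iv F31871)))
theorem Q3682 : ∀ i, i < 3682 → P i := stepQ 3681 Q3681 (allL N3681 (tt N4751 (iv F31940)) (tt N4640 (iv F31515)) (tt N2779 F22608) (tt N4763 D7015) (tt N4760 (iv F31978)) (tt N2776 F22609) (tt N4762 (iv F31984)) (tt N3681 F22610) (tt N2775 (iv D4842)) (tt N4764 D7016))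
theorem Q3683 : ∀ i, i < 3683 → P i := stepQ 3682 Q3682 (allL N3682 (tt N4619 F201937) (tt N4641 (iv F31519)) (tt N2856 F22611) (tt N2776 (iv D4843)) (tt N4765 D7017) (tt N4763 (iv F31986)) (tt N4709 (iv F31787)) (tt N3682 F22612) (tt N3049 F22613) (tt N4766 D7018))
theorem Q3684 : ∀ i, i < 3684 → P i := stepQ 3683 Q3683 (allL N3683 (tt N4752 (iv F31948)) (tt N4642 (iv F31523)) (tt N2780 F22614) (tt N4766 (iv F31996)) (tt N4448 (iv F30391)) (tt N4764 (iv F31990)) (tt N4710 (iv F31790)) (tt N3683 F22615) (tt N4735 (iv F31880)) (tt N2776 (iv D4844)))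
theorem Q3685 : ∀ i, i < 3685 → P i := stepQ 3684 Q3684 (allL N3684 (tt N4753 (iv F31951)) (tt N2782 F22616) (tt N4759 (iv F31975)) (tt N2807 F22617) (tt N2778 F22618) (tt N4767 D7019) (tt N2777 (iv D4845)) (tt N4768 D7020) (tt N4769 D7021) (tt N4736 (iv F31884)))
theorem Q3686 : ∀ i, i < 3686 → P i := stepQ 3685 Q3685 (allL N3685 (tt N4754 (iv F31955)) (tt N2783 F22619) (tt N4760 (iv F31977)) (tt N4770 D7022) (tt N2779 F22620) (tt N4450 (iv F30398)) (tt N4769 (iv F32006)) (tt N3685 F22621) (tt N2777 (iv D4846)) (tt N4771 D7023))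
theorem Q3687 : ∀ i, i < 3687 → P i := stepQ 3686 Q3686 (allL N3686 (tt N4755 (iv F31959)) (tt N2784 F22622) (tt N4761 (iv F31980)) (tt N2781 F22623) (tt N4768 (iv F32002)) (tt N4713 (iv F31798)) (tt N3686 F22624) (tt N2778 (iv D4847)) (tt N4772 D7024) (tt N4738 (iv F31891)))
theorem Q3688 : ∀ i, i < 3688 → P i := stepQ 3687 Q3687 (allL N3687 (tt N4756 (iv F31963)) (tt N2785 F22625) (tt N4762 (iv F31983)) (tt N2861 F22626) (tt N4769 (iv F32005)) (tt N4714 (iv F31801)) (tt N2779 F22627) (tt N4772 (iv F32017)) (tt N2778 (iv D4848)) (tt N4773 D7025))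
theorem Q3689 : ∀ i, i < 3689 → P i := stepQ 3688 Q3688 (allL N3688 (tt N4757 (iv F31967)) (tt N2786 F22628) (tt N4764 (iv F31989)) (tt N2862 F22629) (tt N4771 (iv F32012)) (tt N2780 F22630) (tt N4773 (iv F32020)) (tt N3688 F22631) (tt N4740 (iv F31899)) (tt N2779 (iv D4849)))
theorem Q3690 : ∀ i, i < 3690 → P i := stepQ 3689 Q3689 (allL N3689 (tt N3689 F22632) (tt N4767 (iv F31998)) (tt N4648 (iv F31543)) (tt N2812 F22633) (tt N4716 (iv F31808)) (tt N2782 (iv D4850)) (tt N4454 (iv F30412)) (tt N4774 D7026) (tt N4775 D7027) (tt N4741 (iv F31902)))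
theorem Q3691 : ∀ i, i < 3691 → P i := stepQ 3690 Q3690 (allL N3690 (tt N3690 F22634) (tt N4768 (iv F32000)) (tt N4649 (iv F31546)) (tt N2813 F22635) (tt N2784 F22636) (tt N4774 (iv F32023)) (tt N3690 F22637) (tt N2782 (iv D4851)) (tt N4776 D7028) (tt N4742 (iv F31907)))
theorem Q3692 : ∀ i, i < 3692 → P i := stepQ 3691 Q3691 (allL N3691 (tt N3691 F22638) (tt N4769 (iv F32004)) (tt N4650 (iv F31551)) (tt N4777 D7029) (tt N2785 F22639) (tt N4775 (iv F32025)) (tt N2783 F22640) (tt N4776 (iv F32029)) (tt N2782 (iv D4852)) (tt N4778 D7030))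
theorem Q3693 : ∀ i, i < 3693 → P i := stepQ 3692 Q3692 (allL N3692 (tt N3692 F22641) (tt N4770 (iv F32007)) (tt N4779 D7031) (tt N2783 (iv D4853)) (tt N2866 F22642) (tt N4457 (iv F30422)) (tt N4777 (iv F32032)) (tt N3692 F22643) (tt N2815 F22644) (tt N4780 D7032))
theorem Q3694 : ∀ i, i < 3694 → P i := stepQ 3693 Q3693 (allL N3693 (tt N3693 F22645) (tt N4771 (iv F32011)) (tt N4652 (iv F31559)) (tt N4780 (iv F32042)) (tt N2786 F22646) (tt N4458 (iv F30427)) (tt N4778 (iv F32036)) (tt N3693 F22647) (tt N4745 (iv F31918)) (tt N2783 (iv D4854)))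
theorem Q3695 : ∀ i, i < 3695 → P i := stepQ 3694 Q3694 (allL N3694 (tt N3694 F22648) (tt N4772 (iv F32014)) (tt N4653 (iv F31563)) (tt N2868 F22649) (tt N4776 (iv F32027)) (tt N4721 (iv F31822)) (tt N3694 F22650) (tt N2785 F22651) (tt N2784 (iv D4855)) (tt N4781 D7033))
theorem Q3696 : ∀ i, i < 3696 → P i := stepQ 3695 Q3695 (allL N3695 (tt N3695 F22652) (tt N4773 (iv F32018)) (tt N4654 (iv F31568)) (tt N2869 F22653) (tt N4778 (iv F32035)) (tt N4722 (iv F31826)) (tt N2786 F22654) (tt N4781 (iv F32048)) (tt N4747 (iv F31926)) (tt N2785 (iv D4856)))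
theorem Q3697 : ∀ i, i < 3697 → P i := stepQ 3696 Q3696 (allL N3696 (tt N2790 F22670) (tt N3696 F22671) (tt N4479 (iv F203359)) (tt N4726 (iv F31842)) (tt N2787 (iv D4860)) (tt N4473 (iv F30595)) (tt N4782 D7041) (tt N3696 F22672) (tt N4476 (iv F203361)) (tt N2800 F22673))
theorem Q3698 : ∀ i, i < 3698 → P i := stepQ 3697 Q3697 (allL N3697 (tt N2791 F22674) (tt N3697 F22675) (tt N4481 (iv F203324)) (tt N2788 F22676) (tt N4782 (iv F32085)) (tt N3697 F22677) (tt N2787 (iv D4861)) (tt N4783 D7043) (tt N4477 (iv F203327)) (tt N2801 F22678))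
theorem Q3699 : ∀ i, i < 3699 → P i := stepQ 3698 Q3698 (allL N3698 (tt N2793 F22690) (tt N3698 F22691) (tt N3064 F22692) (tt N4783 (iv F32093)) (tt N4730 (iv F31862)) (tt N3698 F22693) (tt N3698 F22694) (tt N2788 (iv D4864)) (tt N3698 F22695) (tt N2803 F22696))
theorem Q3700 : ∀ i, i < 3700 → P i := stepQ 3699 Q3699 (allL N3699 (tt N4479 (iv F203358)) (tt N3699 F22697) (tt N2790 F22698) (tt N4784 D7046) (tt N2789 (iv D4865)) (tt N4476 (iv F30621)) (tt N4785 D7047) (tt N3699 F22699) (tt N4473 (iv F203355)) (tt N2804 F22700))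
theorem Q3701 : ∀ i, i < 3701 → P i := stepQ 3700 Q3700 (allL N3700 (tt N4481 (iv F203323)) (tt N3700 F22701) (tt N2791 F22702) (tt N3066 F22703) (tt N4785 (iv F32114)) (tt N3700 F22704) (tt N2789 (iv D4866)) (tt N4786 D7049) (tt N4474 (iv F203334)) (tt N2805 F22705))
theorem Q3702 : ∀ i, i < 3702 → P i := stepQ 3701 Q3701 (allL N3701 (tt N4782 (iv F32083)) (tt N2794 F22720) (tt N4785 (iv F32113)) (tt N4736 (iv F31882)) (tt N2791 F22721) (tt N4787 D7055) (tt N2790 (iv D4870)) (tt N4788 D7056) (tt N4789 D7057) (tt N2807 F22722))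
theorem Q3703 : ∀ i, i < 3703 → P i := stepQ 3702 Q3702 (allL N3702 (tt N4476 (iv F203360)) (tt N2795 F22723) (tt N4473 (iv F203354)) (tt N4790 D7058) (tt N2792 F22724) (tt N4479 (iv F30648)) (tt N4789 (iv F32160)) (tt N3702 F22725) (tt N2790 (iv D4871)) (tt N4489 (iv F203380)))
theorem Q3704 : ∀ i, i < 3704 → P i := stepQ 3703 Q3703 (allL N3703 (tt N4783 (iv F32091)) (tt N2796 F22726) (tt N4786 (iv F32121)) (tt N2793 F22727) (tt N4788 (iv F32155)) (tt N3703 F22728) (tt N3703 F22729) (tt N2791 (iv D4872)) (tt N4791 D7060) (tt N2809 F22730))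
theorem Q3705 : ∀ i, i < 3705 → P i := stepQ 3704 Q3704 (allL N3704 (tt N4477 (iv F203326)) (tt N2797 F22731) (tt N4474 (iv F203333)) (tt N3704 F22732) (tt N4789 (iv F32159)) (tt N3704 F22733) (tt N2792 F22734) (tt N4791 (iv F32172)) (tt N2791 (iv D4873)) (tt N4490 (iv F203336)))
theorem Q3706 : ∀ i, i < 3706 → P i := stepQ 3705 Q3705 (allL N3705 (tt N3705 F22740) (tt N4787 (iv F32151)) (tt N3705 F22741) (tt N4741 (iv F31901)) (tt N3705 F22742) (tt N2794 (iv D4875)) (tt N4482 (iv F30665)) (tt N4792 D7062) (tt N4793 D7063) (tt N2812 F22743))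
theorem Q3707 : ∀ i, i < 3707 → P i := stepQ 3706 Q3706 (allL N3706 (tt N3706 F22744) (tt N4788 (iv F32154)) (tt N3706 F22745) (tt N4742 (iv F31904)) (tt N2796 F22746) (tt N4792 (iv F32181)) (tt N3706 F22747) (tt N2794 (iv D4876)) (tt N4794 D7064) (tt N2813 F22748))
theorem Q3708 : ∀ i, i < 3708 → P i := stepQ 3707 Q3707 (allL N3707 (tt N3707 F22749) (tt N4789 (iv F32158)) (tt N3707 F22750) (tt N4795 D7065) (tt N2797 F22751) (tt N4793 (iv F32186)) (tt N2795 F22752) (tt N4794 (iv F32191)) (tt N2794 (iv D4877)) (tt N4796 D7066))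
theorem Q3709 : ∀ i, i < 3709 → P i := stepQ 3708 Q3708 (allL N3708 (tt N3708 F22753) (tt N4790 (iv F32161)) (tt N4797 D7067) (tt N2795 (iv D4878)) (tt N3708 F22754) (tt N4485 (iv F30677)) (tt N4795 (iv F32194)) (tt N3708 F22755) (tt N4744 (iv F31914)) (tt N4798 D7068))
theorem Q3710 : ∀ i, i < 3710 → P i := stepQ 3709 Q3709 (allL N3709 (tt N3709 F22756) (tt N4489 (iv F203379)) (tt N3709 F22757) (tt N4798 (iv F32205)) (tt N2798 F22758) (tt N4486 (iv F30682)) (tt N4796 (iv F32198)) (tt N3709 F22759) (tt N2816 F22760) (tt N2795 (iv D4879)))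
theorem Q3711 : ∀ i, i < 3711 → P i := stepQ 3710 Q3710 (allL N3710 (tt N3710 F22761) (tt N4791 (iv F32168)) (tt N3710 F22762) (tt N3710 F22763) (tt N4794 (iv F32189)) (tt N3710 F22764) (tt N3710 F22765) (tt N2797 F22766) (tt N2796 (iv D4880)) (tt N4799 D7069))
theorem Q3712 : ∀ i, i < 3712 → P i := stepQ 3711 Q3711 (allL N3711 (tt N3711 F22767) (tt N4490 (iv F203335)) (tt N3711 F22768) (tt N3711 F22769) (tt N4796 (iv F32197)) (tt N3711 F22770) (tt N2798 F22771) (tt N4799 (iv F32213)) (tt N2818 F22772) (tt N2797 (iv D4881)))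
theorem Q3713 : ∀ i, i < 3713 → P i := stepQ 3712 Q3712 (allL N3712 (tt N2804 F22784) (tt N4486 F203639) (tt N2800 F22785) (tt N4800 D7074) (tt N2799 (iv D4884)) (tt N4489 (iv F30708)) (tt N4801 D7075) (tt N3712 F22786) (tt N4504 (iv F203975)) (tt N4479 F203640))
theorem Q3714 : ∀ i, i < 3714 → P i := stepQ 3713 Q3713 (allL N3713 (tt N2805 F22787) (tt N4488 (iv F203902)) (tt N2801 F22788) (tt N3079 F22789) (tt N4801 (iv F32241)) (tt N3713 F22790) (tt N2799 (iv D4885)) (tt N4802 D7077) (tt N4506 (iv F203912)) (tt N4481 F203552))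
theorem Q3715 : ∀ i, i < 3715 → P i := stepQ 3714 Q3714 (allL N3714 (tt N2807 F22801) (tt N3714 F22802) (tt N4801 (iv F32240)) (tt N4753 (iv F31953)) (tt N2801 F22803) (tt N4803 D7080) (tt N2800 (iv D4888)) (tt N4804 D7081) (tt N4805 D7082) (tt N4782 (iv F32086)))
theorem Q3716 : ∀ i, i < 3716 → P i := stepQ 3715 Q3715 (allL N3715 (tt N2808 F22804) (tt N3715 F22805) (tt N4504 (iv F203974)) (tt N4806 D7083) (tt N2802 F22806) (tt N4492 (iv F30735)) (tt N4805 (iv F32271)) (tt N3715 F22807) (tt N2800 (iv D4889)) (tt N4497 (iv F203977)))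
theorem Q3717 : ∀ i, i < 3717 → P i := stepQ 3716 Q3716 (allL N3716 (tt N2809 F22808) (tt N3716 F22809) (tt N4802 (iv F32247)) (tt N2803 F22810) (tt N4804 (iv F32266)) (tt N3716 F22811) (tt N3716 F22812) (tt N2801 (iv D4890)) (tt N4807 D7085) (tt N4783 (iv F32096)))
theorem Q3718 : ∀ i, i < 3718 → P i := stepQ 3717 Q3717 (allL N3717 (tt N2810 F22813) (tt N3717 F22814) (tt N4506 (iv F203911)) (tt N2873 F22815) (tt N4805 (iv F32270)) (tt N3717 F22816) (tt N2802 F22817) (tt N4807 (iv F32285)) (tt N2801 (iv D4891)) (tt N4499 (iv F203917)))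
theorem Q3719 : ∀ i, i < 3719 → P i := stepQ 3718 Q3718 (allL N3718 (tt N4800 (iv F32236)) (tt N3718 F22823) (tt N4758 (iv F31972)) (tt N2804 (iv D4893)) (tt N3082 F22824) (tt N4495 (iv F30754)) (tt N4808 D7087) (tt N3718 F22825) (tt N4809 D7088) (tt N4784 (iv F32111)))
theorem Q3720 : ∀ i, i < 3720 → P i := stepQ 3719 Q3719 (allL N3719 (tt N4801 (iv F32239)) (tt N3719 F22826) (tt N2807 F22827) (tt N4808 (iv F32292)) (tt N2805 F22828) (tt N4810 D7089) (tt N2804 (iv D4894)) (tt N4811 D7090) (tt N4812 D7091) (tt N4785 (iv F32115)))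
theorem Q3721 : ∀ i, i < 3721 → P i := stepQ 3720 Q3720 (allL N3720 (tt N4504 (iv F203973)) (tt N3720 F22829) (tt N2808 F22830) (tt N4813 D7092) (tt N2806 F22831) (tt N4497 (iv F30762)) (tt N4812 (iv F32307)) (tt N3720 F22832) (tt N2804 (iv D4895)) (tt N4492 (iv F203972)))
theorem Q3722 : ∀ i, i < 3722 → P i := stepQ 3721 Q3721 (allL N3721 (tt N4802 (iv F32246)) (tt N3721 F22833) (tt N2809 F22834) (tt N3084 F22835) (tt N4811 (iv F32302)) (tt N3721 F22836) (tt N3721 F22837) (tt N2805 (iv D4896)) (tt N4814 D7094) (tt N4786 (iv F32125)))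
theorem Q3723 : ∀ i, i < 3723 → P i := stepQ 3722 Q3722 (allL N3722 (tt N4506 (iv F203910)) (tt N3722 F22838) (tt N2810 F22839) (tt N3722 F22840) (tt N4812 (iv F32306)) (tt N3722 F22841) (tt N2806 F22842) (tt N4814 (iv F32320)) (tt N2805 (iv D4897)) (tt N4494 (iv F204031)))
theorem Q3724 : ∀ i, i < 3724 → P i := stepQ 3723 Q3723 (allL N3723 (tt N4803 (iv F32261)) (tt N2812 F22848) (tt N4810 (iv F32298)) (tt N4767 (iv F31999)) (tt N3723 F22849) (tt N2807 (iv D4899)) (tt N4500 (iv F30790)) (tt N4815 D7096) (tt N4816 D7097) (tt N4787 (iv F32153)))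
theorem Q3725 : ∀ i, i < 3725 → P i := stepQ 3724 Q3724 (allL N3724 (tt N4804 (iv F32264)) (tt N2813 F22850) (tt N4811 (iv F32301)) (tt N4768 (iv F32001)) (tt N2809 F22851) (tt N4815 (iv F32328)) (tt N3724 F22852) (tt N2807 (iv D4900)) (tt N4817 D7098) (tt N4788 (iv F32157)))
theorem Q3726 : ∀ i, i < 3726 → P i := stepQ 3725 Q3725 (allL N3725 (tt N4805 (iv F32268)) (tt N2814 F22853) (tt N4812 (iv F32305)) (tt N4818 D7099) (tt N2810 F22854) (tt N4816 (iv F32331)) (tt N2808 F22855) (tt N4817 (iv F32335)) (tt N2807 (iv D4901)) (tt N4819 D7100))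
theorem Q3727 : ∀ i, i < 3727 → P i := stepQ 3726 Q3726 (allL N3726 (tt N4806 (iv F32272)) (tt N2815 F22856) (tt N4820 D7101) (tt N2808 (iv D4902)) (tt N2878 F22857) (tt N4503 (iv F30799)) (tt N4818 (iv F32338)) (tt N3726 F22858) (tt N4770 (iv F32010)) (tt N4821 D7102))
theorem Q3728 : ∀ i, i < 3728 → P i := stepQ 3727 Q3727 (allL N3727 (tt N4497 (iv F203976)) (tt N2816 F22859) (tt N4492 (iv F203971)) (tt N4821 (iv F32345)) (tt N2811 F22860) (tt N4504 (iv F30803)) (tt N4819 (iv F32341)) (tt N3727 F22861) (tt N4489 F203641) (tt N2808 (iv D4903)))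
theorem Q3729 : ∀ i, i < 3729 → P i := stepQ 3728 Q3728 (allL N3728 (tt N4807 (iv F32280)) (tt N2817 F22862) (tt N4814 (iv F32316)) (tt N2880 F22863) (tt N4817 (iv F32333)) (tt N3728 F22864) (tt N3728 F22865) (tt N2810 F22866) (tt N2809 (iv D4904)) (tt N4822 D7103))
theorem Q3730 : ∀ i, i < 3730 → P i := stepQ 3729 Q3729 (allL N3729 (tt N4499 (iv F203916)) (tt N2818 F22867) (tt N4494 (iv F204030)) (tt N2881 F22868) (tt N4819 (iv F32340)) (tt N3729 F22869) (tt N2811 F22870) (tt N4822 (iv F32352)) (tt N4490 F203762) (tt N2810 (iv D4905)))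
theorem Q3731 : ∀ i, i < 3731 → P i := stepQ 3730 Q3730 (allL N3730 (tt N3730 F22871) (tt N4815 (iv F32326)) (tt N3730 F22872) (tt N4774 (iv F32022)) (tt N3730 F22873) (tt N2813 F22874) (tt N4823 D7104) (tt N2812 (iv D4906)) (tt N4824 D7105) (tt N4792 (iv F32182)))
theorem Q3732 : ∀ i, i < 3732 → P i := stepQ 3731 Q3731 (allL N3731 (tt N3731 F22875) (tt N4816 (iv F32329)) (tt N3731 F22876) (tt N4825 D7106) (tt N3731 F22877) (tt N2814 F22878) (tt N4508 (iv F30822)) (tt N4824 (iv F32361)) (tt N2812 (iv D4907)) (tt N4826 D7107))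
theorem Q3733 : ∀ i, i < 3733 → P i := stepQ 3732 Q3732 (allL N3732 (tt N3732 F22879) (tt N4817 (iv F32332)) (tt N3732 F22880) (tt N4827 D7108) (tt N2817 F22881) (tt N4824 (iv F32360)) (tt N3732 F22882) (tt N2814 F22883) (tt N2813 (iv D4908)) (tt N4828 D7109))
theorem Q3734 : ∀ i, i < 3734 → P i := stepQ 3733 Q3733 (allL N3733 (tt N3733 F22884) (tt N4818 (iv F32336)) (tt N4829 D7110) (tt N2814 (iv D4909)) (tt N2885 F22885) (tt N4825 (iv F32363)) (tt N2815 F22886) (tt N4827 (iv F32371)) (tt N4777 (iv F32033)) (tt N4830 D7111))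
theorem Q3735 : ∀ i, i < 3735 → P i := stepQ 3734 Q3734 (allL N3734 (tt N3734 F22887) (tt N4819 (iv F32339)) (tt N3734 F22888) (tt N4830 (iv F32382)) (tt N2818 F22889) (tt N4826 (iv F32367)) (tt N2816 F22890) (tt N4828 (iv F32376)) (tt N4796 (iv F32199)) (tt N2814 (iv D4910)))
theorem Q3736 : ∀ i, i < 3736 → P i := stepQ 3735 Q3735 (allL N3735 (tt N3735 F22891) (tt N4831 D7112) (tt N2815 (iv D4911)) (tt N3735 F22892) (tt N2887 F22893) (tt N4512 (iv F30838)) (tt N4829 (iv F32380)) (tt N3735 F22894) (tt N4779 (iv F32040)) (tt N4832 D7113))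
theorem Q3737 : ∀ i, i < 3737 → P i := stepQ 3736 Q3736 (allL N3736 (tt N3736 F22895) (tt N4821 (iv F32344)) (tt N4832 (iv F32389)) (tt N2816 F22896) (tt N2888 F22897) (tt N4513 (iv F30843)) (tt N4830 (iv F32384)) (tt N3736 F22898) (tt N4833 D7114) (tt N2815 (iv D4912)))
theorem Q3738 : ∀ i, i < 3738 → P i := stepQ 3737 Q3737 (allL N3737 (tt N3737 F22899) (tt N4822 (iv F32348)) (tt N3737 F22900) (tt N2889 F22901) (tt N4828 (iv F32374)) (tt N3737 F22902) (tt N3737 F22903) (tt N2818 F22904) (tt N4799 (iv F32214)) (tt N2817 (iv D4913)))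
theorem Q3739 : ∀ i, i < 3739 → P i := stepQ 3738 Q3738 (allL N3738 (tt N2821 F22905) (tt N4564 F201267) (tt N2819 (iv D4914)) (tt N3088 F22906) (tt N3738 F22907) (tt N4834 D7116) (tt N3738 F22908) (tt N2830 F22909) (tt N4835 D7117) (tt N3738 F22910))
theorem Q3740 : ∀ i, i < 3740 → P i := stepQ 3739 Q3739 (allL N3739 (tt N2822 F22911) (tt N3739 F22912) (tt N4834 (iv F32404)) (tt N2820 F22913) (tt N4836 D7118) (tt N2819 (iv D4915)) (tt N4837 D7119) (tt N2831 F22914) (tt N4838 D7120) (tt N3739 F22915))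
theorem Q3741 : ∀ i, i < 3741 → P i := stepQ 3740 Q3740 (allL N3740 (tt N2823 F22916) (tt N3740 F22917) (tt N4835 (iv F32409)) (tt N4668 (iv F31635)) (tt N3740 F22918) (tt N4838 (iv F32426)) (tt N3740 F22919) (tt N2832 F22920) (tt N2819 (iv D4916)) (tt N4839 D7121))
theorem Q3742 : ∀ i, i < 3742 → P i := stepQ 3741 Q3741 (allL N3741 (tt N2824 F22921) (tt N3741 F22922) (tt N3090 F22923) (tt N4837 (iv F32421)) (tt N3741 F22924) (tt N3741 F22925) (tt N2820 (iv D4917)) (tt N4840 D7122) (tt N4669 (iv F31643)) (tt N3741 F22926))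
theorem Q3743 : ∀ i, i < 3743 → P i := stepQ 3742 Q3742 (allL N3742 (tt N4834 (iv F32403)) (tt N3742 F22927) (tt N2822 F22928) (tt N3091 F22929) (tt N4841 D7123) (tt N2821 (iv D4918)) (tt N4842 D7124) (tt N2834 F22930) (tt N4843 D7125) (tt N3742 F22931))
theorem Q3744 : ∀ i, i < 3744 → P i := stepQ 3743 Q3743 (allL N3743 (tt N4835 (iv F32408)) (tt N3743 F22932) (tt N2823 F22933) (tt N4844 D7126) (tt N3743 F22934) (tt N4843 (iv F32453)) (tt N3743 F22935) (tt N2835 F22936) (tt N2821 (iv D4919)) (tt N4845 D7127))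
theorem Q3745 : ∀ i, i < 3745 → P i := stepQ 3744 Q3744 (allL N3744 (tt N4836 (iv F32413)) (tt N2825 F22937) (tt N4841 (iv F32442)) (tt N3744 F22938) (tt N2822 (iv D4920)) (tt N3744 F22939) (tt N4846 D7128) (tt N2836 F22940) (tt N4847 D7129) (tt N3744 F22941))
theorem Q3746 : ∀ i, i < 3746 → P i := stepQ 3745 Q3745 (allL N3745 (tt N4837 (iv F32419)) (tt N2826 F22942) (tt N4842 (iv F32447)) (tt N2824 F22943) (tt N4846 (iv F32467)) (tt N3745 F22944) (tt N2822 (iv D4921)) (tt N4848 D7130) (tt N4849 D7131) (tt N3745 F22945))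
theorem Q3747 : ∀ i, i < 3747 → P i := stepQ 3746 Q3746 (allL N3746 (tt N4838 (iv F32424)) (tt N2827 F22946) (tt N4843 (iv F32452)) (tt N4674 (iv F31657)) (tt N4847 (iv F32470)) (tt N2823 F22947) (tt N4849 (iv F32480)) (tt N2838 F22948) (tt N2822 (iv D4922)) (tt N4850 D7132))
theorem Q3748 : ∀ i, i < 3748 → P i := stepQ 3747 Q3747 (allL N3747 (tt N4839 (iv F32428)) (tt N2828 F22949) (tt N4845 (iv F32460)) (tt N4675 (iv F31661)) (tt N3747 F22950) (tt N4850 (iv F32482)) (tt N3747 F22951) (tt N2839 F22952) (tt N3747 F22953) (tt N2823 (iv D4923)))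
theorem Q3749 : ∀ i, i < 3749 → P i := stepQ 3748 Q3748 (allL N3748 (tt N4840 (iv F32434)) (tt N2829 F22954) (tt N3096 F22955) (tt N4848 (iv F32474)) (tt N3748 F22956) (tt N3748 F22957) (tt N2840 F22958) (tt N2824 (iv D4924)) (tt N4676 (iv F31669)) (tt N3748 F22959))
theorem Q3750 : ∀ i, i < 3750 → P i := stepQ 3749 Q3749 (allL N3749 (tt N3749 F22960) (tt N4846 (iv F32465)) (tt N3749 F22961) (tt N3749 F22962) (tt N2826 F22963) (tt N4851 D7133) (tt N2825 (iv D4925)) (tt N4852 D7134) (tt N4853 D7135) (tt N3749 F22964))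
theorem Q3751 : ∀ i, i < 3751 → P i := stepQ 3750 Q3750 (allL N3750 (tt N3750 F22965) (tt N4847 (iv F32469)) (tt N3750 F22966) (tt N4854 D7136) (tt N2827 F22967) (tt N3750 F22968) (tt N4853 (iv F32500)) (tt N2842 F22969) (tt N2825 (iv D4926)) (tt N4855 D7137))
theorem Q3752 : ∀ i, i < 3752 → P i := stepQ 3751 Q3751 (allL N3751 (tt N3751 F22970) (tt N4848 (iv F32473)) (tt N3751 F22971) (tt N2829 F22972) (tt N4852 (iv F32494)) (tt N3751 F22973) (tt N2843 F22974) (tt N2826 (iv D4927)) (tt N4856 D7138) (tt N3751 F22975))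
theorem Q3753 : ∀ i, i < 3753 → P i := stepQ 3752 Q3752 (allL N3752 (tt N3752 F22976) (tt N4849 (iv F32478)) (tt N3752 F22977) (tt N4680 (iv F31681)) (tt N4853 (iv F32499)) (tt N3752 F22978) (tt N2827 F22979) (tt N4856 (iv F32515)) (tt N2826 (iv D4928)) (tt N4857 D7139))
theorem Q3754 : ∀ i, i < 3754 → P i := stepQ 3753 Q3753 (allL N3753 (tt N3753 F22980) (tt N4850 (iv F32481)) (tt N3753 F22981) (tt N4681 (iv F31685)) (tt N4855 (iv F32507)) (tt N2828 F22982) (tt N4857 (iv F32519)) (tt N2845 F22983) (tt N3753 F22984) (tt N2827 (iv D4929)))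
theorem Q3755 : ∀ i, i < 3755 → P i := stepQ 3754 Q3754 (allL N3754 (tt N2834 F22991) (tt N4584 F201932) (tt N2831 F22992) (tt N3102 F22993) (tt N4858 D7142) (tt N2830 (iv D4931)) (tt N4859 D7143) (tt N4834 (iv F32406)) (tt N4860 D7144) (tt N3754 F22994))
theorem Q3756 : ∀ i, i < 3756 → P i := stepQ 3755 Q3755 (allL N3755 (tt N2835 F22995) (tt N4585 F201987) (tt N2832 F22996) (tt N4590 F201988) (tt N3755 F22997) (tt N4860 (iv F32542)) (tt N2847 F22998) (tt N4835 (iv F32412)) (tt N2830 (iv D4932)) (tt N4861 D7146))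
theorem Q3757 : ∀ i, i < 3757 → P i := stepQ 3756 Q3756 (allL N3756 (tt N2836 F22999) (tt N3756 F23000) (tt N4858 (iv F32532)) (tt N3756 F23001) (tt N2831 (iv D4933)) (tt N3756 F23002) (tt N4862 D7147) (tt N4836 (iv F32417)) (tt N4863 D7148) (tt N3756 F23003))
theorem Q3758 : ∀ i, i < 3758 → P i := stepQ 3757 Q3757 (allL N3757 (tt N2837 F23004) (tt N3757 F23005) (tt N4859 (iv F32536)) (tt N2833 F23006) (tt N4862 (iv F32554)) (tt N2849 F23007) (tt N2831 (iv D4934)) (tt N4864 D7149) (tt N4865 D7150) (tt N3757 F23008))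
theorem Q3759 : ∀ i, i < 3759 → P i := stepQ 3758 Q3758 (allL N3758 (tt N2838 F23009) (tt N3758 F23010) (tt N4860 (iv F32541)) (tt N4703 (iv F31768)) (tt N4863 (iv F32558)) (tt N2832 F23011) (tt N4865 (iv F32568)) (tt N4838 (iv F32427)) (tt N2831 (iv D4935)) (tt N4866 D7151))
theorem Q3760 : ∀ i, i < 3760 → P i := stepQ 3759 Q3759 (allL N3759 (tt N2839 F23012) (tt N3759 F23013) (tt N4861 (iv F32547)) (tt N4704 (iv F31772)) (tt N3759 F23014) (tt N4866 (iv F32571)) (tt N2851 F23015) (tt N4839 (iv F32432)) (tt N3759 F23016) (tt N2832 (iv D4936)))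
theorem Q3761 : ∀ i, i < 3761 → P i := stepQ 3760 Q3760 (allL N3760 (tt N2840 F23017) (tt N3760 F23018) (tt N3105 F23019) (tt N4864 (iv F32562)) (tt N3760 F23020) (tt N2852 F23021) (tt N4840 (iv F32439)) (tt N2833 (iv D4937)) (tt N4705 (iv F31779)) (tt N3760 F23022))
theorem Q3762 : ∀ i, i < 3762 → P i := stepQ 3761 Q3761 (allL N3761 (tt N4858 (iv F32531)) (tt N3761 F23023) (tt N2836 F23024) (tt N4867 D7152) (tt N2834 (iv D4938)) (tt N3761 F23025) (tt N4868 D7153) (tt N4841 (iv F32444)) (tt N4869 D7154) (tt N3761 F23026))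
theorem Q3763 : ∀ i, i < 3763 → P i := stepQ 3762 Q3762 (allL N3762 (tt N4859 (iv F32535)) (tt N3762 F23027) (tt N2837 F23028) (tt N3107 F23029) (tt N4868 (iv F32580)) (tt N2854 F23030) (tt N2834 (iv D4939)) (tt N4870 D7155) (tt N4871 D7156) (tt N3762 F23031))
theorem Q3764 : ∀ i, i < 3764 → P i := stepQ 3763 Q3763 (allL N3763 (tt N4860 (iv F32540)) (tt N3763 F23032) (tt N2838 F23033) (tt N4872 D7157) (tt N4869 (iv F32584)) (tt N2835 F23034) (tt N4871 (iv F32594)) (tt N4843 (iv F32454)) (tt N2834 (iv D4940)) (tt N4873 D7158))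
theorem Q3765 : ∀ i, i < 3765 → P i := stepQ 3764 Q3764 (allL N3764 (tt N4590 F201938) (tt N3764 F23035) (tt N4709 (iv F31786)) (tt N2835 (iv D4941)) (tt N4874 D7159) (tt N4872 (iv F32596)) (tt N2856 F23036) (tt N4844 (iv F32457)) (tt N3109 F23037) (tt N4875 D7160))
theorem Q3766 : ∀ i, i < 3766 → P i := stepQ 3765 Q3765 (allL N3765 (tt N4861 (iv F32546)) (tt N3765 F23038) (tt N2839 F23039) (tt N4875 (iv F32607)) (tt N3765 F23040) (tt N4873 (iv F32600)) (tt N2857 F23041) (tt N4845 (iv F32463)) (tt N3765 F23042) (tt N2835 (iv D4942)))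
theorem Q3767 : ∀ i, i < 3767 → P i := stepQ 3766 Q3766 (allL N3766 (tt N4862 (iv F32551)) (tt N2841 F23043) (tt N4868 (iv F32579)) (tt N3766 F23044) (tt N2837 F23045) (tt N4876 D7161) (tt N2836 (iv D4943)) (tt N4877 D7162) (tt N4878 D7163) (tt N3766 F23046))
theorem Q3768 : ∀ i, i < 3768 → P i := stepQ 3767 Q3767 (allL N3767 (tt N4863 (iv F32556)) (tt N2842 F23047) (tt N4869 (iv F32583)) (tt N4879 D7164) (tt N2838 F23048) (tt N3767 F23049) (tt N4878 (iv F32620)) (tt N4847 (iv F32472)) (tt N2836 (iv D4944)) (tt N4880 D7165))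
theorem Q3769 : ∀ i, i < 3769 → P i := stepQ 3768 Q3768 (allL N3768 (tt N4864 (iv F32560)) (tt N2843 F23050) (tt N4870 (iv F32587)) (tt N2840 F23051) (tt N4877 (iv F32616)) (tt N2860 F23052) (tt N4848 (iv F32476)) (tt N2837 (iv D4945)) (tt N4881 D7166) (tt N3768 F23053))
theorem Q3770 : ∀ i, i < 3770 → P i := stepQ 3769 Q3769 (allL N3769 (tt N4865 (iv F32565)) (tt N2844 F23054) (tt N4871 (iv F32592)) (tt N4714 (iv F31800)) (tt N4878 (iv F32619)) (tt N2861 F23055) (tt N2838 F23056) (tt N4881 (iv F32630)) (tt N2837 (iv D4946)) (tt N4882 D7167))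
theorem Q3771 : ∀ i, i < 3771 → P i := stepQ 3770 Q3770 (allL N3770 (tt N4866 (iv F32569)) (tt N2845 F23057) (tt N4873 (iv F32599)) (tt N4715 (iv F31804)) (tt N4880 (iv F32625)) (tt N2839 F23058) (tt N4882 (iv F32633)) (tt N4850 (iv F32483)) (tt N3770 F23059) (tt N2838 (iv D4947)))
theorem Q3772 : ∀ i, i < 3772 → P i := stepQ 3771 Q3771 (allL N3771 (tt N3771 F23060) (tt N4876 (iv F32609)) (tt N3771 F23061) (tt N3771 F23062) (tt N2863 F23063) (tt N2841 (iv D4948)) (tt N3771 F23064) (tt N4883 D7168) (tt N4884 D7169) (tt N3771 F23065))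
theorem Q3773 : ∀ i, i < 3773 → P i := stepQ 3772 Q3772 (allL N3772 (tt N3772 F23066) (tt N4877 (iv F32614)) (tt N3772 F23067) (tt N3772 F23068) (tt N2843 F23069) (tt N4883 (iv F32639)) (tt N4852 (iv F32495)) (tt N2841 (iv D4949)) (tt N4885 D7170) (tt N3772 F23070))
theorem Q3774 : ∀ i, i < 3774 → P i := stepQ 3773 Q3773 (allL N3773 (tt N3773 F23071) (tt N4878 (iv F32618)) (tt N3773 F23072) (tt N4886 D7171) (tt N2844 F23073) (tt N4884 (iv F32644)) (tt N2842 F23074) (tt N4885 (iv F32649)) (tt N2841 (iv D4950)) (tt N4887 D7172))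
theorem Q3775 : ∀ i, i < 3775 → P i := stepQ 3774 Q3774 (allL N3774 (tt N3774 F23075) (tt N4879 (iv F32621)) (tt N4888 D7173) (tt N2842 (iv D4951)) (tt N4719 (iv F31816)) (tt N3774 F23076) (tt N4886 (iv F32651)) (tt N4854 (iv F32503)) (tt N3774 F23077) (tt N4889 D7174))
theorem Q3776 : ∀ i, i < 3776 → P i := stepQ 3775 Q3775 (allL N3775 (tt N3775 F23078) (tt N4880 (iv F32624)) (tt N3775 F23079) (tt N4889 (iv F32663)) (tt N2845 F23080) (tt N3775 F23081) (tt N4887 (iv F32656)) (tt N4855 (iv F32509)) (tt N3775 F23082) (tt N2842 (iv D4952)))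
theorem Q3777 : ∀ i, i < 3777 → P i := stepQ 3776 Q3776 (allL N3776 (tt N3776 F23083) (tt N4881 (iv F32628)) (tt N3776 F23084) (tt N4721 (iv F31821)) (tt N4885 (iv F32648)) (tt N2868 F23085) (tt N4856 (iv F32514)) (tt N2844 F23086) (tt N2843 (iv D4953)) (tt N4890 D7175))
theorem Q3778 : ∀ i, i < 3778 → P i := stepQ 3777 Q3777 (allL N3777 (tt N3777 F23087) (tt N4882 (iv F32631)) (tt N3777 F23088) (tt N4722 (iv F31825)) (tt N4887 (iv F32655)) (tt N2869 F23089) (tt N2845 F23090) (tt N4890 (iv F32668)) (tt N3777 F23091) (tt N2844 (iv D4954)))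
theorem Q3779 : ∀ i, i < 3779 → P i := stepQ 3778 Q3778 (allL N3778 (tt N2853 F23103) (tt N4613 F202843) (tt N2848 F23104) (tt N3778 F23105) (tt N2846 (iv D4957)) (tt N3778 F23106) (tt N4891 D7181) (tt N3778 F23107) (tt N4892 D7182) (tt N3778 F23108))
theorem Q3780 : ∀ i, i < 3780 → P i := stepQ 3779 Q3779 (allL N3779 (tt N2854 F23109) (tt N4614 F202708) (tt N2849 F23110) (tt N3120 F23111) (tt N4891 (iv F32700)) (tt N4859 (iv F32538)) (tt N2846 (iv D4958)) (tt N4893 D7183) (tt N4894 D7184) (tt N3779 F23112))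
theorem Q3781 : ∀ i, i < 3781 → P i := stepQ 3780 Q3780 (allL N3780 (tt N2855 F23113) (tt N4615 F202825) (tt N2850 F23114) (tt N4622 F202826) (tt N4892 (iv F32704)) (tt N2847 F23115) (tt N4894 (iv F32714)) (tt N3780 F23116) (tt N2846 (iv D4959)) (tt N4895 D7186))
theorem Q3782 : ∀ i, i < 3782 → P i := stepQ 3781 Q3781 (allL N3781 (tt N2857 F23120) (tt N4616 F202827) (tt N2851 F23121) (tt N4623 F202828) (tt N3781 F23122) (tt N4895 (iv F32721)) (tt N4861 (iv F32549)) (tt N3781 F23123) (tt N3781 F23124) (tt N2847 (iv D4961)))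
theorem Q3783 : ∀ i, i < 3783 → P i := stepQ 3782 Q3782 (allL N3782 (tt N2858 F23125) (tt N3782 F23126) (tt N4891 (iv F32698)) (tt N2870 F23127) (tt N2849 F23128) (tt N4896 D7189) (tt N2848 (iv D4962)) (tt N4897 D7190) (tt N4898 D7191) (tt N3782 F23129))
theorem Q3784 : ∀ i, i < 3784 → P i := stepQ 3783 Q3783 (allL N3783 (tt N2859 F23130) (tt N3783 F23131) (tt N4892 (iv F32703)) (tt N4899 D7192) (tt N2850 F23132) (tt N3783 F23133) (tt N4898 (iv F32745)) (tt N3783 F23134) (tt N2848 (iv D4963)) (tt N4900 D7193))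
theorem Q3785 : ∀ i, i < 3785 → P i := stepQ 3784 Q3784 (allL N3784 (tt N2860 F23135) (tt N3784 F23136) (tt N4893 (iv F32708)) (tt N2852 F23137) (tt N4897 (iv F32739)) (tt N4864 (iv F32563)) (tt N3784 F23138) (tt N2849 (iv D4964)) (tt N4901 D7194) (tt N3784 F23139))
theorem Q3786 : ∀ i, i < 3786 → P i := stepQ 3785 Q3785 (allL N3785 (tt N2861 F23140) (tt N3785 F23141) (tt N4894 (iv F32713)) (tt N4756 (iv F31965)) (tt N4898 (iv F32744)) (tt N4865 (iv F32567)) (tt N2850 F23142) (tt N4901 (iv F32760)) (tt N2849 (iv D4965)) (tt N4902 D7195))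
theorem Q3787 : ∀ i, i < 3787 → P i := stepQ 3786 Q3786 (allL N3786 (tt N2862 F23143) (tt N3786 F23144) (tt N4895 (iv F32720)) (tt N4757 (iv F31969)) (tt N4900 (iv F32753)) (tt N2851 F23145) (tt N4902 (iv F32763)) (tt N3786 F23146) (tt N3786 F23147) (tt N2850 (iv D4966)))
theorem Q3788 : ∀ i, i < 3788 → P i := stepQ 3787 Q3787 (allL N3787 (tt N4891 (iv F32697)) (tt N3787 F23148) (tt N2858 F23149) (tt N3787 F23150) (tt N2854 F23151) (tt N4903 D7196) (tt N2853 (iv D4967)) (tt N4904 D7197) (tt N4905 D7198) (tt N3787 F23152))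
theorem Q3789 : ∀ i, i < 3789 → P i := stepQ 3788 Q3788 (allL N3788 (tt N4892 (iv F32702)) (tt N3788 F23153) (tt N2859 F23154) (tt N4906 D7199) (tt N2855 F23155) (tt N3788 F23156) (tt N4905 (iv F32779)) (tt N3788 F23157) (tt N2853 (iv D4968)) (tt N4907 D7200))
theorem Q3790 : ∀ i, i < 3790 → P i := stepQ 3789 Q3789 (allL N3789 (tt N4893 (iv F32707)) (tt N3789 F23158) (tt N2860 F23159) (tt N3122 F23160) (tt N4904 (iv F32773)) (tt N4870 (iv F32589)) (tt N3789 F23161) (tt N2854 (iv D4969)) (tt N4908 D7201) (tt N3789 F23162))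
theorem Q3791 : ∀ i, i < 3791 → P i := stepQ 3790 Q3790 (allL N3790 (tt N4894 (iv F32712)) (tt N3790 F23163) (tt N2861 F23164) (tt N4909 D7202) (tt N4905 (iv F32778)) (tt N4871 (iv F32593)) (tt N2855 F23165) (tt N4908 (iv F32793)) (tt N2854 (iv D4970)) (tt N4910 D7203))
theorem Q3792 : ∀ i, i < 3792 → P i := stepQ 3791 Q3791 (allL N3791 (tt N4622 F202798) (tt N3791 F23166) (tt N4763 (iv F31985)) (tt N2855 (iv D4971)) (tt N4911 D7204) (tt N2856 F23167) (tt N4909 (iv F32795)) (tt N3791 F23168) (tt N3124 F23169) (tt N4912 D7205))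
theorem Q3793 : ∀ i, i < 3793 → P i := stepQ 3792 Q3792 (allL N3792 (tt N4895 (iv F32719)) (tt N3792 F23170) (tt N2862 F23171) (tt N4912 (iv F32805)) (tt N4907 (iv F32786)) (tt N2857 F23172) (tt N4910 (iv F32799)) (tt N3792 F23173) (tt N3792 F23174) (tt N2855 (iv D4972)))
theorem Q3794 : ∀ i, i < 3794 → P i := stepQ 3793 Q3793 (allL N3793 (tt N4329 F202802) (tt N3793 F23175) (tt N4765 (iv F31992)) (tt N3793 F23176) (tt N2856 (iv D4973)) (tt N4913 D7206) (tt N4874 (iv F32604)) (tt N3793 F23177) (tt N3125 F23178) (tt N4914 D7207))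
theorem Q3795 : ∀ i, i < 3795 → P i := stepQ 3794 Q3794 (allL N3794 (tt N4623 F202803) (tt N3794 F23179) (tt N4766 (iv F31995)) (tt N2857 F23180) (tt N4914 (iv F32814)) (tt N4912 (iv F32806)) (tt N4875 (iv F32608)) (tt N3794 F23181) (tt N4636 F202804) (tt N2856 (iv D4974)))
theorem Q3796 : ∀ i, i < 3796 → P i := stepQ 3795 Q3795 (allL N3795 (tt N4896 (iv F32731)) (tt N2863 F23182) (tt N4903 (iv F32766)) (tt N2875 F23183) (tt N4876 (iv F32611)) (tt N2858 (iv D4975)) (tt N3795 F23184) (tt N4915 D7209) (tt N4916 D7210) (tt N3795 F23185))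
theorem Q3797 : ∀ i, i < 3797 → P i := stepQ 3796 Q3796 (allL N3796 (tt N4897 (iv F32736)) (tt N2864 F23186) (tt N4904 (iv F32771)) (tt N2876 F23187) (tt N2860 F23188) (tt N4915 (iv F32822)) (tt N3796 F23189) (tt N2858 (iv D4976)) (tt N4917 D7211) (tt N3796 F23190))
theorem Q3798 : ∀ i, i < 3798 → P i := stepQ 3797 Q3797 (allL N3797 (tt N4898 (iv F32742)) (tt N2865 F23191) (tt N4905 (iv F32777)) (tt N4918 D7212) (tt N2861 F23192) (tt N4916 (iv F32825)) (tt N2859 F23193) (tt N4917 (iv F32830)) (tt N2858 (iv D4977)) (tt N4919 D7213))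
theorem Q3799 : ∀ i, i < 3799 → P i := stepQ 3798 Q3798 (allL N3798 (tt N4899 (iv F32746)) (tt N2866 F23194) (tt N4920 D7214) (tt N2859 (iv D4978)) (tt N4770 (iv F32008)) (tt N3798 F23195) (tt N4918 (iv F32832)) (tt N3798 F23196) (tt N2878 F23197) (tt N4921 D7215))
theorem Q3800 : ∀ i, i < 3800 → P i := stepQ 3799 Q3799 (allL N3799 (tt N4900 (iv F32751)) (tt N2867 F23198) (tt N4907 (iv F32785)) (tt N4921 (iv F32842)) (tt N2862 F23199) (tt N3799 F23200) (tt N4919 (iv F32836)) (tt N3799 F23201) (tt N3799 F23202) (tt N2859 (iv D4979)))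
theorem Q3801 : ∀ i, i < 3801 → P i := stepQ 3800 Q3800 (allL N3800 (tt N4901 (iv F32757)) (tt N2868 F23203) (tt N4908 (iv F32791)) (tt N4772 (iv F32015)) (tt N4917 (iv F32828)) (tt N4881 (iv F32629)) (tt N3800 F23204) (tt N2861 F23205) (tt N2860 (iv D4980)) (tt N4922 D7216))
theorem Q3802 : ∀ i, i < 3802 → P i := stepQ 3801 Q3801 (allL N3801 (tt N4902 (iv F32761)) (tt N2869 F23206) (tt N4910 (iv F32798)) (tt N4773 (iv F32019)) (tt N4919 (iv F32835)) (tt N4882 (iv F32632)) (tt N2862 F23207) (tt N4922 (iv F32847)) (tt N3801 F23208) (tt N2861 (iv D4981)))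
theorem Q3803 : ∀ i, i < 3803 → P i := stepQ 3802 Q3802 (allL N3802 (tt N3802 F23209) (tt N4915 (iv F32820)) (tt N3802 F23210) (tt N2882 F23211) (tt N4883 (iv F32638)) (tt N2864 F23212) (tt N4923 D7217) (tt N2863 (iv D4982)) (tt N4924 D7218) (tt N3802 F23213))
theorem Q3804 : ∀ i, i < 3804 → P i := stepQ 3803 Q3803 (allL N3803 (tt N3803 F23214) (tt N4916 (iv F32824)) (tt N3803 F23215) (tt N4925 D7219) (tt N4884 (iv F32643)) (tt N2865 F23216) (tt N3803 F23217) (tt N4924 (iv F32858)) (tt N2863 (iv D4983)) (tt N4926 D7220))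
theorem Q3805 : ∀ i, i < 3805 → P i := stepQ 3804 Q3804 (allL N3804 (tt N3804 F23218) (tt N4917 (iv F32827)) (tt N3804 F23219) (tt N4927 D7221) (tt N2868 F23220) (tt N4924 (iv F32857)) (tt N3804 F23221) (tt N2865 F23222) (tt N2864 (iv D4984)) (tt N4928 D7222))
theorem Q3806 : ∀ i, i < 3806 → P i := stepQ 3805 Q3805 (allL N3805 (tt N3805 F23223) (tt N4918 (iv F32831)) (tt N4929 D7223) (tt N2865 (iv D4985)) (tt N4777 (iv F32031)) (tt N4925 (iv F32860)) (tt N2866 F23224) (tt N4927 (iv F32870)) (tt N2885 F23225) (tt N4930 D7224))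
theorem Q3807 : ∀ i, i < 3807 → P i := stepQ 3806 Q3806 (allL N3806 (tt N3806 F23226) (tt N4919 (iv F32834)) (tt N3806 F23227) (tt N4930 (iv F32883)) (tt N2869 F23228) (tt N4926 (iv F32865)) (tt N2867 F23229) (tt N4928 (iv F32876)) (tt N3806 F23230) (tt N2865 (iv D4986)))
theorem Q3808 : ∀ i, i < 3808 → P i := stepQ 3807 Q3807 (allL N3807 (tt N3807 F23231) (tt N4931 D7225) (tt N2866 (iv D4987)) (tt N3807 F23232) (tt N4779 (iv F32038)) (tt N3807 F23233) (tt N4929 (iv F32880)) (tt N3807 F23234) (tt N2887 F23235) (tt N4932 D7226))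
theorem Q3809 : ∀ i, i < 3809 → P i := stepQ 3808 Q3808 (allL N3808 (tt N3808 F23236) (tt N4921 (iv F32841)) (tt N4932 (iv F32890)) (tt N2867 F23237) (tt N4780 (iv F32043)) (tt N3808 F23238) (tt N4930 (iv F32884)) (tt N3808 F23239) (tt N4933 D7227) (tt N2866 (iv D4988)))
theorem Q3810 : ∀ i, i < 3810 → P i := stepQ 3809 Q3809 (allL N3809 (tt N3809 F23240) (tt N4922 (iv F32845)) (tt N3809 F23241) (tt N4781 (iv F32046)) (tt N4928 (iv F32874)) (tt N4890 (iv F32667)) (tt N3809 F23242) (tt N2869 F23243) (tt N3809 F23244) (tt N2868 (iv D4989)))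
theorem Q3811 : ∀ i, i < 3811 → P i := stepQ 3810 Q3810 (allL N3810 (tt N2875 F23245) (tt N3810 F23246) (tt N3810 F23247) (tt N4896 (iv F32733)) (tt N3810 F23248) (tt N2870 (iv D4990)) (tt N3810 F23249) (tt N4934 D7228) (tt N4935 D7229) (tt N3810 F23250))
theorem Q3812 : ∀ i, i < 3812 → P i := stepQ 3811 Q3811 (allL N3811 (tt N2876 F23251) (tt N3811 F23252) (tt N3811 F23253) (tt N4897 (iv F32738)) (tt N2872 F23254) (tt N4934 (iv F32903)) (tt N3811 F23255) (tt N2870 (iv D4991)) (tt N4936 D7230) (tt N3811 F23256))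
theorem Q3813 : ∀ i, i < 3813 → P i := stepQ 3812 Q3812 (allL N3812 (tt N2877 F23257) (tt N3812 F23258) (tt N3812 F23259) (tt N4937 D7231) (tt N2873 F23260) (tt N4935 (iv F32909)) (tt N2871 F23261) (tt N4936 (iv F32916)) (tt N2870 (iv D4992)) (tt N4938 D7232))
theorem Q3814 : ∀ i, i < 3814 → P i := stepQ 3813 Q3813 (allL N3813 (tt N2878 F23262) (tt N3813 F23263) (tt N4939 D7233) (tt N2871 (iv D4993)) (tt N4806 (iv F32274)) (tt N3813 F23264) (tt N4937 (iv F32919)) (tt N3813 F23265) (tt N4899 (iv F32750)) (tt N4940 D7234))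
theorem Q3815 : ∀ i, i < 3815 → P i := stepQ 3814 Q3814 (allL N3814 (tt N2879 F23266) (tt N3814 F23267) (tt N3814 F23268) (tt N4940 (iv F32932)) (tt N2874 F23269) (tt N3814 F23270) (tt N4938 (iv F32924)) (tt N3814 F23271) (tt N3814 F23272) (tt N2871 (iv D4994)))
theorem Q3816 : ∀ i, i < 3816 → P i := stepQ 3815 Q3815 (allL N3815 (tt N2880 F23273) (tt N3815 F23274) (tt N3815 F23275) (tt N4807 (iv F32282)) (tt N4936 (iv F32914)) (tt N3815 F23276) (tt N3815 F23277) (tt N2873 F23278) (tt N2872 (iv D4995)) (tt N4941 D7235))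
theorem Q3817 : ∀ i, i < 3817 → P i := stepQ 3816 Q3816 (allL N3816 (tt N2881 F23279) (tt N3816 F23280) (tt N3816 F23281) (tt N4499 F204130) (tt N4938 (iv F32923)) (tt N3816 F23282) (tt N2874 F23283) (tt N4941 (iv F32940)) (tt N3816 F23284) (tt N2873 (iv D4996)))
theorem Q3818 : ∀ i, i < 3818 → P i := stepQ 3817 Q3817 (allL N3817 (tt N4934 (iv F32899)) (tt N2882 F23285) (tt N3817 F23286) (tt N4915 (iv F32821)) (tt N3817 F23287) (tt N2876 F23288) (tt N4942 D7236) (tt N2875 (iv D4997)) (tt N4943 D7237) (tt N3817 F23289))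
theorem Q3819 : ∀ i, i < 3819 → P i := stepQ 3818 Q3818 (allL N3818 (tt N4935 (iv F32905)) (tt N2883 F23290) (tt N3818 F23291) (tt N4944 D7238) (tt N3818 F23292) (tt N2877 F23293) (tt N3818 F23294) (tt N4943 (iv F32952)) (tt N2875 (iv D4998)) (tt N4945 D7239))
theorem Q3820 : ∀ i, i < 3820 → P i := stepQ 3819 Q3819 (allL N3819 (tt N4936 (iv F32911)) (tt N2884 F23295) (tt N3819 F23296) (tt N4946 D7240) (tt N2880 F23297) (tt N4943 (iv F32951)) (tt N3819 F23298) (tt N2877 F23299) (tt N2876 (iv D4999)) (tt N4947 D7241))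
theorem Q3821 : ∀ i, i < 3821 → P i := stepQ 3820 Q3820 (allL N3820 (tt N4937 (iv F32917)) (tt N2885 F23300) (tt N4948 D7242) (tt N2877 (iv D5000)) (tt N4818 (iv F32337)) (tt N4944 (iv F32954)) (tt N2878 F23301) (tt N4946 (iv F32964)) (tt N4918 (iv F32833)) (tt N4949 D7243))
theorem Q3822 : ∀ i, i < 3822 → P i := stepQ 3821 Q3821 (allL N3821 (tt N4938 (iv F32920)) (tt N2886 F23302) (tt N3821 F23303) (tt N4949 (iv F32974)) (tt N2881 F23304) (tt N4945 (iv F32959)) (tt N2879 F23305) (tt N4947 (iv F32969)) (tt N3821 F23306) (tt N2877 (iv D5001)))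
theorem Q3823 : ∀ i, i < 3823 → P i := stepQ 3822 Q3822 (allL N3822 (tt N4939 (iv F32926)) (tt N4950 D7244) (tt N2878 (iv D5002)) (tt N3822 F23307) (tt N4820 (iv F32342)) (tt N3822 F23308) (tt N4948 (iv F32972)) (tt N3822 F23309) (tt N4920 (iv F32840)) (tt N4951 D7245))
theorem Q3824 : ∀ i, i < 3824 → P i := stepQ 3823 Q3823 (allL N3823 (tt N4940 (iv F32930)) (tt N2888 F23310) (tt N4951 (iv F32980)) (tt N2879 F23311) (tt N4821 (iv F32346)) (tt N3823 F23312) (tt N4949 (iv F32975)) (tt N3823 F23313) (tt N4952 D7246) (tt N2878 (iv D5003)))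
theorem Q3825 : ∀ i, i < 3825 → P i := stepQ 3824 Q3824 (allL N3824 (tt N4941 (iv F32935)) (tt N2889 F23314) (tt N3824 F23315) (tt N4822 (iv F32349)) (tt N4947 (iv F32967)) (tt N3824 F23316) (tt N3824 F23317) (tt N2881 F23318) (tt N3824 F23319) (tt N2880 (iv D5004)))
theorem Q3826 : ∀ i, i < 3826 → P i := stepQ 3825 Q3825 (allL N3825 (tt N3825 F23320) (tt N4942 (iv F32942)) (tt N2890 F23321) (tt N4923 (iv F32851)) (tt N3825 F23322) (tt N3825 F23323) (tt N2882 (iv D5005)) (tt N3825 F23324) (tt N2896 F204910) (tt N3825 F23325))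
theorem Q3827 : ∀ i, i < 3827 → P i := stepQ 3826 Q3826 (allL N3826 (tt N3826 F23326) (tt N4943 (iv F32948)) (tt N2891 F23327) (tt N4953 D7248) (tt N3826 F23328) (tt N2884 F23329) (tt N2896 (iv F204851)) (tt N2883 F23330) (tt N2882 (iv D5006)) (tt N2894 F204802))
theorem Q3828 : ∀ i, i < 3828 → P i := stepQ 3827 Q3827 (allL N3827 (tt N3827 F23331) (tt N4944 (iv F32953)) (tt N4954 D7250) (tt N2883 (iv D5007)) (tt N4955 D7251) (tt N2885 F23332) (tt N3827 F23333) (tt N4953 (iv F32996)) (tt N4925 (iv F32862)) (tt N4956 D7252))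
theorem Q3829 : ∀ i, i < 3829 → P i := stepQ 3828 Q3828 (allL N3828 (tt N3828 F23334) (tt N4945 (iv F32956)) (tt N2893 F23335) (tt N4956 (iv F33011)) (tt N3828 F23336) (tt N2886 F23337) (tt N3828 F23338) (tt N2894 (iv F204746)) (tt N3828 F23339) (tt N2883 (iv D5008)))
theorem Q3830 : ∀ i, i < 3830 → P i := stepQ 3829 Q3829 (allL N3829 (tt N3829 F23340) (tt N4946 (iv F32962)) (tt N4956 F204670) (tt N2884 (iv D5009)) (tt N4827 (iv F32369)) (tt N4953 (iv F32995)) (tt N3829 F23341) (tt N2885 F23342) (tt N4927 (iv F32871)) (tt N4954 (iv F204736)))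
theorem Q3831 : ∀ i, i < 3831 → P i := stepQ 3830 Q3830 (allL N3830 (tt N3830 F23343) (tt N4947 (iv F32965)) (tt N2892 (iv F204863)) (tt N4954 F204811) (tt N2889 F23345) (tt N2894 F204812) (tt N3830 F23346) (tt N2886 F23347) (tt N3830 F23348) (tt N2884 (iv D5010)))
theorem Q3832 : ∀ i, i < 3832 → P i := stepQ 3831 Q3831 (allL N3831 (tt N3831 F23349) (tt N4957 D7255) (tt N2885 (iv D5011)) (tt N2894 F23350) (tt N4829 (iv F32379)) (tt N4954 (iv F33005)) (tt N2887 F23351) (tt N4956 F204682) (tt N4929 (iv F32881)) (tt N4953 (iv F204726)))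
theorem Q3833 : ∀ i, i < 3833 → P i := stepQ 3832 Q3832 (allL N3832 (tt N3832 F23352) (tt N4949 (iv F32973)) (tt N4953 (iv F204724)) (tt N2886 F23353) (tt N4830 (iv F32383)) (tt N4956 (iv F33012)) (tt N2888 F23354) (tt N4954 (iv F204735)) (tt N4958 D7257) (tt N2885 (iv D5012)))
theorem Q3834 : ∀ i, i < 3834 → P i := stepQ 3833 Q3833 (allL N3833 (tt N4959 D7258) (tt N2887 (iv D5013)) (tt N4950 (iv F32976)) (tt N2895 F23355) (tt N4831 (iv F32386)) (tt N3833 F23356) (tt N4957 (iv F33023)) (tt N3833 F23357) (tt N4931 (iv F32888)) (tt N4960 D7259))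
theorem Q3835 : ∀ i, i < 3835 → P i := stepQ 3834 Q3834 (allL N3834 (tt N3834 F23358) (tt N4960 (iv F33035)) (tt N2888 F23359) (tt N2896 F23360) (tt N4832 (iv F32391)) (tt N3834 F23361) (tt N4953 F204801) (tt N3834 F23362) (tt N4961 D7260) (tt N2887 (iv D5014)))
theorem Q3836 : ∀ i, i < 3836 → P i := stepQ 3835 Q3835 (allL N3835 (tt N3835 F23363) (tt N4952 (iv F32984)) (tt N4961 (iv F33040)) (tt N3835 F23364) (tt N4833 (iv F32394)) (tt N3835 F23365) (tt N4958 (iv F33030)) (tt N3835 F23366) (tt N2888 (iv D5015)) (tt N4933 (iv F32898)))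
theorem Q3837 : ∀ i, i < 3837 → P i := stepQ 3836 Q3836 (allL N3836 (tt N4962 D7274) (tt N2894 (iv D5024)) (tt N3836 F23410) (tt N4957 (iv F33022)) (tt N3836 F23411) (tt N4947 (iv F204787)) (tt N2895 F23412) (tt N4945 F204715) (tt N3836 F23413) (tt N4943 (iv F204791)))
theorem Q3838 : ∀ i, i < 3838 → P i := stepQ 3837 Q3837 (allL N3837 (tt N2895 (iv D5027)) (tt N3837 F23424) (tt N3837 F23425) (tt N4959 (iv F33032)) (tt N3837 F23426) (tt N3837 F23427) (tt N4962 (iv F33116)) (tt N3837 F23428) (tt N3837 F23429) (tt N4963 D7277))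
theorem Q3839 : ∀ i, i < 3839 → P i := stepQ 3838 Q3838 (allL N3838 (tt N4963 (iv F33127)) (tt N2896 F23430) (tt N3838 F23431) (tt N4960 (iv F33036)) (tt N3838 F23432) (tt N3838 F23433) (tt N4943 F204847) (tt N3838 F23434) (tt N4942 (iv F204905)) (tt N2895 (iv D5028)))
theorem Q3840 : ∀ i, i < 3840 → P i := stepQ 3839 Q3839 (allL N3839 (tt N3154 F23441) (tt N3839 F23442) (tt N3839 F23443) (tt N2898 F23444) (tt N4964 D7280) (tt N2897 (iv D5030)) (tt N3839 F23445) (tt N3839 F23446) (tt N4965 D7281) (tt N4966 D7282))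
theorem Q3841 : ∀ i, i < 3841 → P i := stepQ 3840 Q3840 (allL N3840 (tt N3155 F23447) (tt N3840 F23448) (tt N3840 F23449) (tt N3840 F23450) (tt N3840 F23451) (tt N4965 (iv F33155)) (tt N2908 F23452) (tt N3840 F23453) (tt N2897 (iv D5031)) (tt N3840 F195399))
theorem Q3842 : ∀ i, i < 3842 → P i := stepQ 3841 Q3841 (allL N3841 (tt N3156 F23454) (tt N3841 F23455) (tt N3841 F23456) (tt N2899 F23457) (tt N3841 F23458) (tt N4966 (iv F33162)) (tt N2909 F23459) (tt N3841 F23460) (tt N3841 F195294) (tt N2897 (iv D5032)))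
theorem Q3843 : ∀ i, i < 3843 → P i := stepQ 3842 Q3842 (allL N3842 (tt N3157 F23461) (tt N3842 F23462) (tt N2900 F23463) (tt N4966 (iv F33161)) (tt N3842 F23464) (tt N2899 F23465) (tt N3842 F23466) (tt N3842 F23467) (tt N3318 F202987) (tt N2898 (iv D5033)))
theorem Q3844 : ∀ i, i < 3844 → P i := stepQ 3843 Q3843 (allL N3843 (tt N3158 F23482) (tt N4515 (iv F30852)) (tt N3318 (iv F202480)) (tt N4967 D7289) (tt N3843 F23483) (tt N2901 F23484) (tt N3843 F23485) (tt N3843 F23486) (tt N2900 (iv D5036)) (tt N3843 F23487))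
theorem Q3845 : ∀ i, i < 3845 → P i := stepQ 3844 Q3844 (allL N3844 (tt N3159 F23488) (tt N4516 (iv F30860)) (tt N3844 F195111) (tt N2901 (iv D5037)) (tt N4968 D7291) (tt N4967 (iv F33205)) (tt N2910 F23489) (tt N3844 F23490) (tt N3844 F23491) (tt N3844 F23492))
theorem Q3846 : ∀ i, i < 3846 → P i := stepQ 3845 Q3845 (allL N3845 (tt N3160 F23499) (tt N4518 (iv F30873)) (tt N3316 (iv F201592)) (tt N4968 (iv F33216)) (tt N2902 (iv D5039)) (tt N4969 D7294) (tt N2911 F23500) (tt N3845 F23501) (tt N2904 F23502) (tt N3845 F23503))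
theorem Q3847 : ∀ i, i < 3847 → P i := stepQ 3846 Q3846 (allL N3846 (tt N3137 (iv F201664)) (tt N2903 (iv D5040)) (tt N4519 (iv F30878)) (tt N3846 F23504) (tt N4970 D7296) (tt N3846 F23505) (tt N2912 F23506) (tt N3846 F23507) (tt N3130 (iv F201670)) (tt N2905 F23508))
theorem Q3848 : ∀ i, i < 3848 → P i := stepQ 3847 Q3847 (allL N3847 (tt N3161 F23509) (tt N4970 (iv F33243)) (tt N2904 F23510) (tt N4971 D7297) (tt N2903 (iv D5041)) (tt N4972 D7298) (tt N2913 F23511) (tt N3847 F23512) (tt N3316 (iv F201593)) (tt N2906 F23513))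
theorem Q3849 : ∀ i, i < 3849 → P i := stepQ 3848 Q3848 (allL N3848 (tt N3162 F23514) (tt N4521 (iv F30889)) (tt N4972 (iv F33254)) (tt N3848 F23515) (tt N3848 F23516) (tt N2904 (iv D5042)) (tt N4973 D7299) (tt N3848 F23517) (tt N4969 (iv F33235)) (tt N2907 F23518))
theorem Q3850 : ∀ i, i < 3850 → P i := stepQ 3849 Q3849 (allL N3849 (tt N2905 (iv D5043)) (tt N3142 F201264) (tt N4522 (iv F30895)) (tt N3849 F23520) (tt N4974 D7300) (tt N3849 F23521) (tt N2915 F23522) (tt N3849 F23523) (tt N3849 F23524) (tt N3137 (iv F201665)))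
theorem Q3851 : ∀ i, i < 3851 → P i := stepQ 3850 Q3850 (allL N3850 (tt N4974 (iv F33263)) (tt N2906 F23525) (tt N4523 (iv F30901)) (tt N4975 D7301) (tt N2905 (iv D5044)) (tt N4976 D7302) (tt N2916 F23526) (tt N3850 F23527) (tt N3850 F23528) (tt N4970 (iv F33246)))
theorem Q3852 : ∀ i, i < 3852 → P i := stepQ 3851 Q3851 (allL N3851 (tt N3164 F23529) (tt N4975 (iv F33268)) (tt N3851 F23530) (tt N2906 (iv D5045)) (tt N3851 F23531) (tt N3139 (iv F201588)) (tt N2917 F23532) (tt N3851 F23533) (tt N3138 (iv F201590)) (tt N4971 (iv F33252)))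
theorem Q3853 : ∀ i, i < 3853 → P i := stepQ 3852 Q3852 (allL N3852 (tt N3165 F23534) (tt N4976 (iv F33272)) (tt N2907 F23535) (tt N3139 (iv F201587)) (tt N3852 F23536) (tt N2906 (iv D5046)) (tt N3140 F201168) (tt N3852 F23537) (tt N3852 F23538) (tt N4972 (iv F33257)))
theorem Q3854 : ∀ i, i < 3854 → P i := stepQ 3853 Q3853 (allL N3853 (tt N3166 F23539) (tt N4526 (iv F30915)) (tt N3140 (iv F200791)) (tt N3853 F23540) (tt N3853 F23541) (tt N2919 F23542) (tt N2907 (iv D5047)) (tt N3149 (iv F200799)) (tt N3853 F23543) (tt N4973 (iv F33262)))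
theorem Q3855 : ∀ i, i < 3855 → P i := stepQ 3854 Q3854 (allL N3854 (tt N3169 F23578) (tt N4528 (iv F30927)) (tt N3854 F194798) (tt N2911 F23579) (tt N2910 (iv D5054)) (tt N4977 D7316) (tt N4968 (iv F33217)) (tt N2920 F23580) (tt N3854 F23581) (tt N3854 F23582))
theorem Q3856 : ∀ i, i < 3856 → P i := stepQ 3855 Q3855 (allL N3855 (tt N3170 F23592) (tt N4530 (iv F30944)) (tt N3308 (iv F200796)) (tt N4977 (iv F33346)) (tt N2933 F23593) (tt N2911 (iv D5057)) (tt N4978 D7321) (tt N2921 F23594) (tt N2914 F23595) (tt N3855 F23596))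
theorem Q3857 : ∀ i, i < 3857 → P i := stepQ 3856 Q3856 (allL N3856 (tt N3136 (iv F201501)) (tt N2913 F23602) (tt N4531 (iv F30955)) (tt N4979 D7323) (tt N2912 (iv D5059)) (tt N4980 D7324) (tt N4970 (iv F33244)) (tt N2922 F23603) (tt N3129 (iv F201547)) (tt N2916 F23604))
theorem Q3858 : ∀ i, i < 3858 → P i := stepQ 3857 Q3857 (allL N3857 (tt N3171 F23605) (tt N4979 (iv F33377)) (tt N3857 F23606) (tt N2913 (iv D5060)) (tt N3857 F23607) (tt N4981 D7325) (tt N4971 (iv F33250)) (tt N2923 F23608) (tt N3857 F194783) (tt N2917 F23609))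
theorem Q3859 : ∀ i, i < 3859 → P i := stepQ 3858 Q3858 (allL N3858 (tt N3172 F23610) (tt N4980 (iv F33381)) (tt N2914 F23611) (tt N4981 (iv F33387)) (tt N2936 F23612) (tt N2913 (iv D5061)) (tt N4982 D7327) (tt N2924 F23613) (tt N3308 (iv F200797)) (tt N2918 F23614))
theorem Q3860 : ∀ i, i < 3860 → P i := stepQ 3859 Q3859 (allL N3859 (tt N3173 F23615) (tt N4534 (iv F30968)) (tt N4982 (iv F33395)) (tt N3859 F23616) (tt N2937 F23617) (tt N4973 (iv F33261)) (tt N2914 (iv D5062)) (tt N4983 D7328) (tt N4978 (iv F33371)) (tt N2919 F23618))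
theorem Q3861 : ∀ i, i < 3861 → P i := stepQ 3860 Q3860 (allL N3860 (tt N2916 F23619) (tt N3141 F201126) (tt N4535 (iv F30974)) (tt N4984 D7329) (tt N2915 (iv D5063)) (tt N4985 D7330) (tt N4974 (iv F33265)) (tt N2926 F23621) (tt N3860 F23622) (tt N3136 (iv F201502)))
theorem Q3862 : ∀ i, i < 3862 → P i := stepQ 3861 Q3861 (allL N3861 (tt N4984 (iv F33403)) (tt N2917 F23623) (tt N4986 D7331) (tt N2916 (iv D5064)) (tt N3861 F23624) (tt N4987 D7332) (tt N4975 (iv F33270)) (tt N2927 F23625) (tt N4988 D7333) (tt N4979 (iv F33380)))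
theorem Q3863 : ∀ i, i < 3863 → P i := stepQ 3862 Q3862 (allL N3862 (tt N4985 (iv F33407)) (tt N2918 F23626) (tt N4537 (iv F30980)) (tt N4987 (iv F33416)) (tt N2940 F23627) (tt N2916 (iv D5065)) (tt N4989 D7334) (tt N2928 F23628) (tt N3862 F23629) (tt N4980 (iv F33384)))
theorem Q3864 : ∀ i, i < 3864 → P i := stepQ 3863 Q3863 (allL N3863 (tt N3176 F23630) (tt N4987 (iv F33415)) (tt N3863 F23631) (tt N2918 F23632) (tt N3100 F200493) (tt N2917 (iv D5066)) (tt N3098 (iv F200787)) (tt N2929 F23633) (tt N3097 (iv F200788)) (tt N4981 (iv F33389)))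
theorem Q3865 : ∀ i, i < 3865 → P i := stepQ 3864 Q3864 (allL N3864 (tt N3177 F23634) (tt N4988 (iv F33418)) (tt N3864 F23635) (tt N3864 F23636) (tt N3864 F23637) (tt N3097 F201167) (tt N3138 (iv F201589)) (tt N2930 F23638) (tt N2917 (iv D5067)) (tt N3864 F195101))
theorem Q3866 : ∀ i, i < 3866 → P i := stepQ 3865 Q3865 (allL N3865 (tt N3178 F23639) (tt N4989 (iv F33422)) (tt N2919 F23640) (tt N3098 (iv F200786)) (tt N2943 F23641) (tt N3140 (iv F200792)) (tt N2918 (iv D5068)) (tt N3116 (iv F200795)) (tt N3865 F23642) (tt N4982 (iv F33397)))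
theorem Q3867 : ∀ i, i < 3867 → P i := stepQ 3866 Q3866 (allL N3866 (tt N3179 F23643) (tt N4541 (iv F30997)) (tt N3116 (iv F200793)) (tt N3866 F23644) (tt N2944 F23645) (tt N3149 (iv F200798)) (tt N2932 F23646) (tt N2919 (iv D5069)) (tt N3866 F23647) (tt N4983 (iv F33402)))
theorem Q3868 : ∀ i, i < 3868 → P i := stepQ 3867 Q3867 (allL N3867 (tt N3181 F23695) (tt N4543 (iv F31014)) (tt N3867 F194418) (tt N2921 F23696) (tt N3867 F23697) (tt N2920 (iv D5079)) (tt N4990 D7355) (tt N4977 (iv F33348)) (tt N3867 F23698) (tt N3867 F23699))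
theorem Q3869 : ∀ i, i < 3869 → P i := stepQ 3868 Q3868 (allL N3868 (tt N3182 F23717) (tt N4546 (iv F31041)) (tt N3313 (iv F200801)) (tt N4990 (iv F33524)) (tt N2945 F23718) (tt N3868 F23719) (tt N2921 (iv D5084)) (tt N4991 D7362) (tt N2925 F23720) (tt N3868 F23721))
theorem Q3870 : ∀ i, i < 3870 → P i := stepQ 3869 Q3869 (allL N3869 (tt N3148 F201611) (tt N2923 F23726) (tt N4992 D7365) (tt N2922 (iv D5086)) (tt N3869 F23727) (tt N4993 D7366) (tt N3869 F23728) (tt N4979 (iv F33379)) (tt N3869 F194765) (tt N2927 F23729))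
theorem Q3871 : ∀ i, i < 3871 → P i := stepQ 3870 Q3870 (allL N3870 (tt N3111 (iv F201196)) (tt N2924 F23730) (tt N4548 (iv F31055)) (tt N4993 (iv F33572)) (tt N2947 F23731) (tt N2922 (iv D5087)) (tt N4994 D7368) (tt N4980 (iv F33383)) (tt N3103 (iv F201201)) (tt N2928 F23732))
theorem Q3872 : ∀ i, i < 3872 → P i := stepQ 3871 Q3871 (allL N3871 (tt N3183 F23733) (tt N4993 (iv F33571)) (tt N3871 F23734) (tt N2924 F23735) (tt N4995 D7369) (tt N2923 (iv D5088)) (tt N4996 D7370) (tt N4981 (iv F33388)) (tt N3871 F194398) (tt N2929 F23736))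
theorem Q3873 : ∀ i, i < 3873 → P i := stepQ 3872 Q3872 (allL N3872 (tt N3184 F23741) (tt N4994 (iv F33577)) (tt N2925 F23742) (tt N4996 (iv F33588)) (tt N2949 F23743) (tt N3872 F23744) (tt N2924 (iv D5090)) (tt N4997 D7373) (tt N3313 (iv F200802)) (tt N2931 F23745))
theorem Q3874 : ∀ i, i < 3874 → P i := stepQ 3873 Q3873 (allL N3873 (tt N3185 F23746) (tt N4552 (iv F31071)) (tt N4997 (iv F33600)) (tt N3873 F23747) (tt N2950 F23748) (tt N3873 F23749) (tt N4983 (iv F33401)) (tt N2925 (iv D5091)) (tt N4991 (iv F33556)) (tt N2932 F23750))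
theorem Q3875 : ∀ i, i < 3875 → P i := stepQ 3874 Q3874 (allL N3874 (tt N2927 F23751) (tt N3150 F201600) (tt N4998 D7374) (tt N2926 (iv D5092)) (tt N3874 F23753) (tt N4999 D7375) (tt N3874 F23754) (tt N4984 (iv F33406)) (tt N5000 D7376) (tt N3148 F201601))
theorem Q3876 : ∀ i, i < 3876 → P i := stepQ 3875 Q3875 (allL N3875 (tt N2928 F23755) (tt N3117 (iv F200899)) (tt N4554 (iv F31081)) (tt N4999 (iv F33609)) (tt N2952 F23757) (tt N2926 (iv D5093)) (tt N5001 D7377) (tt N4985 (iv F33410)) (tt N3875 F23758) (tt N3111 (iv F201197)))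
theorem Q3877 : ∀ i, i < 3877 → P i := stepQ 3876 Q3876 (allL N3876 (tt N4998 (iv F33604)) (tt N3876 F23759) (tt N2927 (iv D5094)) (tt N4555 (iv F31085)) (tt N3876 F23760) (tt N5002 D7378) (tt N3876 F23761) (tt N4986 (iv F33414)) (tt N5003 D7379) (tt N4992 (iv F33570)))
theorem Q3878 : ∀ i, i < 3878 → P i := stepQ 3877 Q3877 (allL N3877 (tt N4999 (iv F33607)) (tt N2929 F23762) (tt N5002 (iv F33621)) (tt N2928 F23763) (tt N5004 D7380) (tt N2927 (iv D5095)) (tt N5005 D7381) (tt N4987 (iv F33417)) (tt N5006 D7382) (tt N4993 (iv F33573)))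
theorem Q3879 : ∀ i, i < 3879 → P i := stepQ 3878 Q3878 (allL N3878 (tt N5000 (iv F33610)) (tt N2930 F23764) (tt N5003 (iv F33623)) (tt N3878 F23765) (tt N3878 F23766) (tt N5006 (iv F33634)) (tt N3878 F23767) (tt N4988 (iv F33421)) (tt N2927 (iv D5096)) (tt N3878 F195086))
theorem Q3880 : ∀ i, i < 3880 → P i := stepQ 3879 Q3879 (allL N3879 (tt N5001 (iv F33615)) (tt N2931 F23768) (tt N4558 (iv F31093)) (tt N5005 (iv F33630)) (tt N2956 F23769) (tt N3879 F23770) (tt N2928 (iv D5097)) (tt N5007 D7384) (tt N3879 F23771) (tt N4994 (iv F33580)))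
theorem Q3881 : ∀ i, i < 3881 → P i := stepQ 3880 Q3880 (allL N3880 (tt N3190 F23772) (tt N5004 (iv F33626)) (tt N3880 F23773) (tt N2957 F23774) (tt N2929 (iv D5098)) (tt N3880 F23775) (tt N3118 (iv F200844)) (tt N3100 F200520) (tt N3099 (iv F200846)) (tt N4995 (iv F33585)))
theorem Q3882 : ∀ i, i < 3882 → P i := stepQ 3881 Q3881 (allL N3881 (tt N3191 F23776) (tt N5005 (iv F33629)) (tt N3881 F23777) (tt N2931 F23778) (tt N3118 (iv F200843)) (tt N3881 F23779) (tt N2929 (iv D5099)) (tt N3115 (iv F201174)) (tt N3114 (iv F201176)) (tt N4996 (iv F33590)))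
theorem Q3883 : ∀ i, i < 3883 → P i := stepQ 3882 Q3882 (allL N3882 (tt N3192 F23780) (tt N5006 (iv F33632)) (tt N3882 F23781) (tt N3882 F23782) (tt N3099 (iv F200845)) (tt N2930 F23783) (tt N3114 (iv F201175)) (tt N3097 F200803) (tt N2929 (iv D5100)) (tt N3882 F194785))
theorem Q3884 : ∀ i, i < 3884 → P i := stepQ 3883 Q3883 (allL N3883 (tt N3193 F23789) (tt N5007 (iv F33639)) (tt N2932 F23790) (tt N3115 (iv F201173)) (tt N2961 F23791) (tt N3883 F23792) (tt N3116 F200800) (tt N2931 (iv D5102)) (tt N3883 F23793) (tt N4997 (iv F33603)))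
theorem Q3885 : ∀ i, i < 3885 → P i := stepQ 3884 Q3884 (allL N3884 (tt N3194 F23832) (tt N4566 (iv F31142)) (tt N3309 (iv F200782)) (tt N3884 F23833) (tt N4978 (iv F33370)) (tt N3884 F23834) (tt N2933 (iv D5110)) (tt N5008 D7401) (tt N2937 F23835) (tt N3884 F23836))
theorem Q3886 : ∀ i, i < 3886 → P i := stepQ 3885 Q3885 (allL N3885 (tt N2996 (iv F200314)) (tt N2935 F23842) (tt N5009 D7404) (tt N2934 (iv D5112)) (tt N3885 F23843) (tt N5010 D7405) (tt N3885 F23844) (tt N2946 F23845) (tt N2992 (iv F200311)) (tt N2939 F23846))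
theorem Q3887 : ∀ i, i < 3887 → P i := stepQ 3886 Q3886 (allL N3886 (tt N3095 (iv F200739)) (tt N2936 F23847) (tt N4568 (iv F31158)) (tt N5010 (iv F33745)) (tt N4980 (iv F33382)) (tt N2934 (iv D5113)) (tt N5011 D7407) (tt N2947 F23848) (tt N3089 (iv F200769)) (tt N2940 F23849))
theorem Q3888 : ∀ i, i < 3888 → P i := stepQ 3887 Q3887 (allL N3887 (tt N3195 F23850) (tt N5010 (iv F33744)) (tt N2988 F23851) (tt N2936 F23852) (tt N5012 D7408) (tt N2935 (iv D5114)) (tt N5013 D7409) (tt N2948 F23853) (tt N3240 (iv F200303)) (tt N2941 F23854))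
theorem Q3889 : ∀ i, i < 3889 → P i := stepQ 3888 Q3888 (allL N3888 (tt N3196 F23860) (tt N5011 (iv F33752)) (tt N2937 F23861) (tt N5013 (iv F33762)) (tt N4982 (iv F33396)) (tt N3888 F23862) (tt N2936 (iv D5116)) (tt N5014 D7412) (tt N3309 (iv F200783)) (tt N2943 F23863))
theorem Q3890 : ∀ i, i < 3890 → P i := stepQ 3889 Q3889 (allL N3889 (tt N3197 F23864) (tt N4572 (iv F31175)) (tt N5014 (iv F33776)) (tt N2991 F23865) (tt N4983 (iv F33400)) (tt N3889 F23866) (tt N2950 F23867) (tt N2937 (iv D5117)) (tt N5008 (iv F33727)) (tt N2944 F23868))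
theorem Q3891 : ∀ i, i < 3891 → P i := stepQ 3890 Q3890 (allL N3890 (tt N2939 F23869) (tt N3001 F200134) (tt N5015 D7413) (tt N2938 (iv D5118)) (tt N3890 F23871) (tt N5016 D7414) (tt N3890 F23872) (tt N2951 F23873) (tt N5017 D7415) (tt N2996 (iv F200315)))
theorem Q3892 : ∀ i, i < 3892 → P i := stepQ 3891 Q3891 (allL N3891 (tt N2940 F23874) (tt N3101 F200482) (tt N4574 (iv F31186)) (tt N5016 (iv F33786)) (tt N4985 (iv F33409)) (tt N2938 (iv D5119)) (tt N5018 D7416) (tt N2952 F23876) (tt N3891 F23877) (tt N3095 (iv F200740)))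
theorem Q3893 : ∀ i, i < 3893 → P i := stepQ 3892 Q3892 (allL N3892 (tt N5015 (iv F33780)) (tt N2994 F23878) (tt N2939 (iv D5120)) (tt N4575 (iv F31190)) (tt N3892 F23879) (tt N5019 D7417) (tt N3892 F23880) (tt N2953 F23881) (tt N5020 D7418) (tt N5009 (iv F33743)))
theorem Q3894 : ∀ i, i < 3894 → P i := stepQ 3893 Q3893 (allL N3893 (tt N5016 (iv F33784)) (tt N2941 F23882) (tt N5019 (iv F33799)) (tt N2940 F23883) (tt N5021 D7419) (tt N2939 (iv D5121)) (tt N5022 D7420) (tt N2954 F23884) (tt N5023 D7421) (tt N5010 (iv F33747)))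
theorem Q3895 : ∀ i, i < 3895 → P i := stepQ 3894 Q3894 (allL N3894 (tt N5017 (iv F33788)) (tt N2942 F23885) (tt N5020 (iv F33802)) (tt N3894 F23886) (tt N3894 F23887) (tt N5023 (iv F33814)) (tt N3894 F23888) (tt N2955 F23889) (tt N2939 (iv D5122)) (tt N5024 D7422))
theorem Q3896 : ∀ i, i < 3896 → P i := stepQ 3895 Q3895 (allL N3895 (tt N5018 (iv F33794)) (tt N2943 F23890) (tt N4578 (iv F31201)) (tt N5022 (iv F33810)) (tt N4989 (iv F33423)) (tt N3895 F23891) (tt N2940 (iv D5123)) (tt N5025 D7423) (tt N3895 F23892) (tt N5011 (iv F33754)))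
theorem Q3897 : ∀ i, i < 3897 → P i := stepQ 3896 Q3896 (allL N3896 (tt N3202 F23893) (tt N5021 (iv F33806)) (tt N2998 F23894) (tt N3100 (iv F200322)) (tt N2941 (iv D5124)) (tt N3896 F23895) (tt N3000 (iv F200305)) (tt N2957 F23896) (tt N2999 F200135) (tt N5012 (iv F33759)))
theorem Q3898 : ∀ i, i < 3898 → P i := stepQ 3897 Q3897 (allL N3897 (tt N3203 F23897) (tt N5022 (iv F33809)) (tt N2999 F23898) (tt N2943 F23899) (tt N3000 (iv F200304)) (tt N3897 F23900) (tt N2941 (iv D5125)) (tt N3024 (iv F200323)) (tt N2998 F200136) (tt N5013 (iv F33764)))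
theorem Q3899 : ∀ i, i < 3899 → P i := stepQ 3898 Q3898 (allL N3898 (tt N3204 F23901) (tt N5023 (iv F33812)) (tt N3000 F23902) (tt N3898 F23903) (tt N2999 F200137) (tt N2942 F23904) (tt N2998 F200138) (tt N2959 F23905) (tt N2941 (iv D5126)) (tt N5026 D7428))
theorem Q3900 : ∀ i, i < 3900 → P i := stepQ 3899 Q3899 (allL N3899 (tt N3198 F200139) (tt N5024 (iv F33816)) (tt N3001 F23907) (tt N3899 F23908) (tt N3899 F23909) (tt N5026 (iv F33846)) (tt N3899 F23910) (tt N2960 F23911) (tt N3232 F200140) (tt N2942 (iv D5127)))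
theorem Q3901 : ∀ i, i < 3901 → P i := stepQ 3900 Q3900 (allL N3900 (tt N3205 F23912) (tt N5025 (iv F33821)) (tt N2944 F23913) (tt N3024 F200494) (tt N3116 (iv F200794)) (tt N3900 F23914) (tt N2961 F23915) (tt N2943 (iv D5128)) (tt N3900 F23916) (tt N5014 (iv F33779)))
theorem Q3902 : ∀ i, i < 3902 → P i := stepQ 3901 Q3901 (allL N3901 (tt N3206 F23967) (tt N4587 (iv F31255)) (tt N3314 F201149) (tt N3901 F23968) (tt N4991 (iv F33554)) (tt N2962 F23969) (tt N5008 (iv F33726)) (tt N2945 (iv D5140)) (tt N2950 F23970) (tt N3901 F23971))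
theorem Q3903 : ∀ i, i < 3903 → P i := stepQ 3902 Q3902 (allL N3902 (tt N3018 (iv F200759)) (tt N3005 F23980) (tt N2946 (iv D5143)) (tt N4588 (iv F31269)) (tt N3902 F23981) (tt N5027 D7451) (tt N2963 F23982) (tt N5009 (iv F33742)) (tt N3014 (iv F200758)) (tt N2953 F23983))
theorem Q3904 : ∀ i, i < 3904 → P i := stepQ 3903 Q3903 (allL N3903 (tt N3021 (iv F200743)) (tt N2948 F23984) (tt N5027 (iv F33942)) (tt N2947 F23985) (tt N5028 D7453) (tt N2946 (iv D5144)) (tt N5029 D7454) (tt N5010 (iv F33746)) (tt N3015 (iv F200747)) (tt N2954 F23986))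
theorem Q3905 : ∀ i, i < 3905 → P i := stepQ 3904 Q3904 (allL N3904 (tt N3113 (iv F201430)) (tt N2949 F23990) (tt N4591 (iv F31278)) (tt N5029 (iv F33952)) (tt N4994 (iv F33578)) (tt N2965 F23991) (tt N2947 (iv D5146)) (tt N5030 D7457) (tt N3104 (iv F201489)) (tt N2956 F23992))
theorem Q3906 : ∀ i, i < 3906 → P i := stepQ 3905 Q3905 (allL N3905 (tt N3207 F23993) (tt N5028 (iv F33948)) (tt N3009 F23994) (tt N4995 (iv F33583)) (tt N2948 (iv D5147)) (tt N3905 F23995) (tt N5031 D7458) (tt N5012 (iv F33758)) (tt N3254 F200518) (tt N2957 F23996))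
theorem Q3907 : ∀ i, i < 3907 → P i := stepQ 3906 Q3906 (allL N3906 (tt N3208 F23997) (tt N5029 (iv F33951)) (tt N3010 F23998) (tt N2949 F23999) (tt N5031 (iv F33966)) (tt N2967 F24000) (tt N2948 (iv D5148)) (tt N5032 D7460) (tt N3255 (iv F200824)) (tt N2958 F24001))
theorem Q3908 : ∀ i, i < 3908 → P i := stepQ 3907 Q3907 (allL N3907 (tt N3209 F24010) (tt N5030 (iv F33961)) (tt N2950 F24011) (tt N5032 (iv F33974)) (tt N4997 (iv F33601)) (tt N2968 F24012) (tt N5014 (iv F33778)) (tt N2949 (iv D5151)) (tt N3314 (iv F200822)) (tt N2961 F24013))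
theorem Q3909 : ∀ i, i < 3909 → P i := stepQ 3908 Q3908 (allL N3908 (tt N2953 F24014) (tt N5033 D7463) (tt N2951 (iv D5152)) (tt N4597 (iv F31301)) (tt N3908 F24015) (tt N5034 D7464) (tt N2969 F24016) (tt N5015 (iv F33783)) (tt N5035 D7465) (tt N3018 (iv F200760)))
theorem Q3910 : ∀ i, i < 3910 → P i := stepQ 3909 Q3909 (allL N3909 (tt N2954 F24017) (tt N3027 F200466) (tt N5034 (iv F33990)) (tt N2952 F24019) (tt N5036 D7466) (tt N2951 (iv D5153)) (tt N5037 D7467) (tt N5016 (iv F33787)) (tt N5038 D7468) (tt N3021 (iv F200744)))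
theorem Q3911 : ∀ i, i < 3911 → P i := stepQ 3910 Q3910 (allL N3910 (tt N2955 F24020) (tt N3012 F200188) (tt N5035 (iv F33992)) (tt N3910 F24022) (tt N3910 F24023) (tt N5038 (iv F34005)) (tt N2971 F24024) (tt N5017 (iv F33793)) (tt N2951 (iv D5154)) (tt N3007 (iv F200313)))
theorem Q3912 : ∀ i, i < 3912 → P i := stepQ 3911 Q3911 (allL N3911 (tt N2956 F24025) (tt N3119 F201032) (tt N4600 (iv F31312)) (tt N5037 (iv F34000)) (tt N5001 (iv F33617)) (tt N2972 F24027) (tt N2952 (iv D5155)) (tt N5039 D7470) (tt N3911 F24028) (tt N3113 (iv F201431)))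
theorem Q3913 : ∀ i, i < 3913 → P i := stepQ 3912 Q3912 (allL N3912 (tt N5034 (iv F33989)) (tt N3017 F24029) (tt N2954 F24030) (tt N4601 (iv F31317)) (tt N5040 D7471) (tt N2953 (iv D5156)) (tt N5041 D7472) (tt N5019 (iv F33800)) (tt N5042 D7473) (tt N5027 (iv F33943)))
theorem Q3914 : ∀ i, i < 3914 → P i := stepQ 3913 Q3913 (allL N3913 (tt N5035 (iv F33991)) (tt N3018 F24031) (tt N2955 F24032) (tt N5043 D7474) (tt N3913 F24033) (tt N5042 (iv F34023)) (tt N2974 F24034) (tt N5020 (iv F33805)) (tt N2953 (iv D5157)) (tt N5033 (iv F200765)))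
theorem Q3915 : ∀ i, i < 3915 → P i := stepQ 3914 Q3914 (allL N3914 (tt N5036 (iv F33995)) (tt N2957 F24035) (tt N5040 (iv F34016)) (tt N5004 (iv F33627)) (tt N2954 (iv D5158)) (tt N3914 F24036) (tt N5044 D7476) (tt N5021 (iv F33808)) (tt N5045 D7477) (tt N5028 (iv F33950)))
theorem Q3916 : ∀ i, i < 3916 → P i := stepQ 3915 Q3915 (allL N3915 (tt N5037 (iv F33998)) (tt N2958 F24037) (tt N5041 (iv F34019)) (tt N2956 F24038) (tt N5044 (iv F34032)) (tt N2976 F24039) (tt N2954 (iv D5159)) (tt N5046 D7478) (tt N5047 D7479) (tt N5029 (iv F33954)))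
theorem Q3917 : ∀ i, i < 3917 → P i := stepQ 3916 Q3916 (allL N3916 (tt N5038 (iv F34002)) (tt N2959 F24040) (tt N5042 (iv F34022)) (tt N3916 F24041) (tt N5045 (iv F34034)) (tt N2955 F24042) (tt N5047 (iv F34042)) (tt N5023 (iv F33815)) (tt N2954 (iv D5160)) (tt N5048 D7480))
theorem Q3918 : ∀ i, i < 3918 → P i := stepQ 3917 Q3917 (allL N3917 (tt N3007 (iv F200312)) (tt N2960 F24043) (tt N5033 (iv F200764)) (tt N3917 F24044) (tt N3917 F24045) (tt N5048 (iv F34045)) (tt N2978 F24046) (tt N5024 (iv F33820)) (tt N3003 (iv F200310)) (tt N2955 (iv D5161)))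
theorem Q3919 : ∀ i, i < 3919 → P i := stepQ 3918 Q3918 (allL N3918 (tt N5039 (iv F34011)) (tt N2961 F24047) (tt N4607 (iv F31332)) (tt N5046 (iv F34037)) (tt N5007 (iv F33640)) (tt N2979 F24048) (tt N5025 (iv F33823)) (tt N2956 (iv D5162)) (tt N3918 F24049) (tt N5030 (iv F33963)))
theorem Q3920 : ∀ i, i < 3920 → P i := stepQ 3919 Q3919 (allL N3919 (tt N3215 F24050) (tt N5044 (iv F34031)) (tt N3023 F24051) (tt N3118 (iv F200842)) (tt N2958 F24052) (tt N3058 (iv F200847)) (tt N2957 (iv D5163)) (tt N3026 (iv F200835)) (tt N3025 F200521) (tt N5031 (iv F33967)))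
theorem Q3921 : ∀ i, i < 3921 → P i := stepQ 3920 Q3920 (allL N3920 (tt N3216 F24053) (tt N5045 (iv F34033)) (tt N3024 F24054) (tt N3002 (iv F200406)) (tt N2959 F24055) (tt N3920 F24056) (tt N3025 (iv F200404)) (tt N2999 F200185) (tt N2957 (iv D5164)) (tt N5049 D7485))
theorem Q3922 : ∀ i, i < 3922 → P i := stepQ 3921 Q3921 (allL N3921 (tt N3217 F24057) (tt N5046 (iv F34036)) (tt N3025 F24058) (tt N2961 F24059) (tt N3026 (iv F200834)) (tt N2982 F24060) (tt N3024 F200522) (tt N2958 (iv D5165)) (tt N3023 F200523) (tt N5032 (iv F33976)))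
theorem Q3923 : ∀ i, i < 3923 → P i := stepQ 3922 Q3922 (allL N3922 (tt N3218 F24061) (tt N5047 (iv F34039)) (tt N3026 F24062) (tt N3922 F24063) (tt N3025 F200524) (tt N2983 F24064) (tt N2959 F24065) (tt N3023 F200525) (tt N2958 (iv D5166)) (tt N5050 D7487))
theorem Q3924 : ∀ i, i < 3924 → P i := stepQ 3923 Q3923 (allL N3923 (tt N3210 F200512) (tt N5048 (iv F34043)) (tt N3027 F24067) (tt N3923 F24068) (tt N5049 (iv F34062)) (tt N2960 F24069) (tt N5050 (iv F34073)) (tt N5026 (iv F33847)) (tt N3245 (iv F200366)) (tt N2959 (iv D5167)))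
theorem Q3925 : ∀ i, i < 3925 → P i := stepQ 3924 Q3924 (allL N3924 (tt N3048 (iv F201526)) (tt N3031 F24174) (tt N2964 F24175) (tt N4618 (iv F31430)) (tt N5051 D7523) (tt N2963 (iv D5190)) (tt N5052 D7524) (tt N3924 F24176) (tt N3042 (iv F201521)) (tt N2973 F24177))
theorem Q3926 : ∀ i, i < 3926 → P i := stepQ 3925 Q3925 (allL N3925 (tt N3051 (iv F201556)) (tt N2966 F24182) (tt N5051 (iv F34237)) (tt N3925 F24183) (tt N2964 (iv D5192)) (tt N3925 F24184) (tt N5053 D7528) (tt N3925 F24185) (tt N3043 (iv F201564)) (tt N2975 F24186))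
theorem Q3927 : ∀ i, i < 3927 → P i := stepQ 3926 Q3926 (allL N3926 (tt N3053 (iv F201432)) (tt N2967 F24187) (tt N5052 (iv F34242)) (tt N2965 F24188) (tt N5053 (iv F34257)) (tt N5029 (iv F33953)) (tt N2964 (iv D5193)) (tt N5054 D7530) (tt N3044 (iv F201418)) (tt N2976 F24189))
theorem Q3928 : ∀ i, i < 3928 → P i := stepQ 3927 Q3927 (allL N3927 (tt N3126 (iv F201437)) (tt N2968 F24197) (tt N4624 (iv F31450)) (tt N5054 (iv F34264)) (tt N3927 F24198) (tt N5030 (iv F33962)) (tt N3927 F24199) (tt N2965 (iv D5196)) (tt N3121 (iv F201441)) (tt N2979 F24200))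
theorem Q3929 : ∀ i, i < 3929 → P i := stepQ 3928 Q3928 (allL N3928 (tt N3219 F24201) (tt N5053 (iv F34255)) (tt N3037 F24202) (tt N3928 F24203) (tt N2967 F24204) (tt N5055 D7533) (tt N2966 (iv D5197)) (tt N5056 D7534) (tt N3269 (iv F201631)) (tt N2980 F24205))
theorem Q3930 : ∀ i, i < 3930 → P i := stepQ 3929 Q3929 (allL N3929 (tt N3220 F24211) (tt N5054 (iv F34263)) (tt N3039 F24212) (tt N2968 F24213) (tt N5056 (iv F34281)) (tt N5032 (iv F33975)) (tt N3929 F24214) (tt N2967 (iv D5199)) (tt N3270 (iv F200821)) (tt N2982 F24215))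
theorem Q3931 : ∀ i, i < 3931 → P i := stepQ 3930 Q3930 (allL N3930 (tt N3032 (iv F200854)) (tt N2969 (iv D5202)) (tt N2978 F201121) (tt N4630 (iv F31478)) (tt N3930 F24226) (tt N5057 D7540) (tt N5033 (iv F33988)) (tt N3930 F24227) (tt N3028 (iv F200853)) (tt N2974 F201122))
theorem Q3932 : ∀ i, i < 3932 → P i := stepQ 3931 Q3931 (allL N3931 (tt N2973 F24228) (tt N5057 (iv F34307)) (tt N2970 F24229) (tt N4631 (iv F31482)) (tt N5058 D7542) (tt N2969 (iv D5203)) (tt N5059 D7543) (tt N3931 F24230) (tt N5060 D7544) (tt N3048 (iv F201527)))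
theorem Q3933 : ∀ i, i < 3933 → P i := stepQ 3932 Q3932 (allL N3932 (tt N2974 F24231) (tt N3028 (iv F200852)) (tt N2971 F24232) (tt N4723 (iv F200989)) (tt N3932 F24233) (tt N5060 (iv F34323)) (tt N5035 (iv F33994)) (tt N3932 F24234) (tt N2969 (iv D5204)) (tt N3032 (iv F200850)))
theorem Q3934 : ∀ i, i < 3934 → P i := stepQ 3933 Q3933 (allL N3933 (tt N2975 F24235) (tt N3057 F201139) (tt N5058 (iv F34316)) (tt N3933 F24237) (tt N2970 (iv D5205)) (tt N3933 F24238) (tt N5061 D7547) (tt N3933 F24239) (tt N5062 D7548) (tt N3051 (iv F201557)))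
theorem Q3935 : ∀ i, i < 3935 → P i := stepQ 3934 Q3934 (allL N3934 (tt N2976 F24240) (tt N3059 F201033) (tt N5059 (iv F34320)) (tt N2972 F24242) (tt N5061 (iv F34335)) (tt N5037 (iv F34001)) (tt N2970 (iv D5206)) (tt N5063 D7549) (tt N5064 D7550) (tt N3053 (iv F201433)))
theorem Q3936 : ∀ i, i < 3936 → P i := stepQ 3935 Q3935 (allL N3935 (tt N2977 F24243) (tt N3041 F200641) (tt N5060 (iv F34322)) (tt N3935 F24245) (tt N5062 (iv F34338)) (tt N2971 F24246) (tt N5064 (iv F34348)) (tt N3935 F24247) (tt N2970 (iv D5207)) (tt N3035 (iv F200859)))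
theorem Q3937 : ∀ i, i < 3937 → P i := stepQ 3936 Q3936 (allL N3936 (tt N2979 F24253) (tt N3127 F201073) (tt N4637 (iv F31505)) (tt N5063 (iv F34343)) (tt N3936 F24255) (tt N5039 (iv F34013)) (tt N3936 F24256) (tt N2972 (iv D5209)) (tt N3936 F24257) (tt N3126 (iv F201438)))
theorem Q3938 : ∀ i, i < 3938 → P i := stepQ 3937 Q3937 (allL N3937 (tt N5058 (iv F34315)) (tt N3046 F24258) (tt N2975 F24259) (tt N5065 D7552) (tt N2973 (iv D5210)) (tt N3937 F24260) (tt N5066 D7553) (tt N3937 F24261) (tt N5067 D7554) (tt N5051 (iv F34240)))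
theorem Q3939 : ∀ i, i < 3939 → P i := stepQ 3938 Q3938 (allL N3938 (tt N5059 (iv F34319)) (tt N3047 F24262) (tt N2976 F24263) (tt N4639 (iv F31514)) (tt N5066 (iv F34360)) (tt N5041 (iv F34020)) (tt N2973 (iv D5211)) (tt N5068 D7555) (tt N5069 D7556) (tt N5052 (iv F34243)))
theorem Q3940 : ∀ i, i < 3940 → P i := stepQ 3939 Q3939 (allL N3939 (tt N5060 (iv F34321)) (tt N3048 F24264) (tt N2977 F24265) (tt N5070 D7557) (tt N5067 (iv F34363)) (tt N2974 F24266) (tt N5069 (iv F34371)) (tt N3939 F24267) (tt N2973 (iv D5212)) (tt N5057 (iv F201539)))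
theorem Q3941 : ∀ i, i < 3941 → P i := stepQ 3940 Q3940 (allL N3940 (tt N4723 F201120) (tt N3049 F24268) (tt N3940 F24269) (tt N2974 (iv D5213)) (tt N5071 D7559) (tt N5070 (iv F34374)) (tt N5043 (iv F34026)) (tt N3940 F24270) (tt N4641 (iv F31522)) (tt N4630 (iv F201511)))
theorem Q3942 : ∀ i, i < 3942 → P i := stepQ 3941 Q3941 (allL N3941 (tt N5061 (iv F34332)) (tt N2980 F24275) (tt N5066 (iv F34359)) (tt N3941 F24276) (tt N2976 F24277) (tt N5072 D7561) (tt N2975 (iv D5215)) (tt N5073 D7562) (tt N5074 D7563) (tt N5053 (iv F34258)))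
theorem Q3943 : ∀ i, i < 3943 → P i := stepQ 3942 Q3942 (allL N3942 (tt N5062 (iv F34336)) (tt N2981 F24278) (tt N5067 (iv F34362)) (tt N5075 D7564) (tt N2977 F24279) (tt N3942 F24280) (tt N5074 (iv F34397)) (tt N3942 F24281) (tt N2975 (iv D5216)) (tt N5076 D7565))
theorem Q3944 : ∀ i, i < 3944 → P i := stepQ 3943 Q3943 (allL N3943 (tt N5063 (iv F34341)) (tt N2982 F24282) (tt N5068 (iv F34367)) (tt N2979 F24283) (tt N5073 (iv F34393)) (tt N5046 (iv F34038)) (tt N3943 F24284) (tt N2976 (iv D5217)) (tt N5077 D7566) (tt N5054 (iv F34266)))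
theorem Q3945 : ∀ i, i < 3945 → P i := stepQ 3944 Q3944 (allL N3944 (tt N5064 (iv F34345)) (tt N2983 F24285) (tt N5069 (iv F34370)) (tt N3944 F24286) (tt N5074 (iv F34396)) (tt N5047 (iv F34041)) (tt N2977 F24287) (tt N5077 (iv F34410)) (tt N2976 (iv D5218)) (tt N5078 D7567))
theorem Q3946 : ∀ i, i < 3946 → P i := stepQ 3945 Q3945 (allL N3945 (tt N3035 (iv F200858)) (tt N2984 F24288) (tt N5057 (iv F201538)) (tt N3945 F24289) (tt N5076 (iv F34404)) (tt N2978 F24290) (tt N5078 (iv F34413)) (tt N3945 F24291) (tt N3029 (iv F200857)) (tt N2977 (iv D5219)))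
theorem Q3947 : ∀ i, i < 3947 → P i := stepQ 3946 Q3946 (allL N3946 (tt N3227 F24292) (tt N5072 (iv F34388)) (tt N3054 F24293) (tt N3946 F24294) (tt N3058 F201233) (tt N2980 (iv D5220)) (tt N3946 F24295) (tt N3056 (iv F201629)) (tt N3055 F201234) (tt N5055 (iv F34277)))
theorem Q3948 : ∀ i, i < 3948 → P i := stepQ 3947 Q3947 (allL N3947 (tt N3228 F24296) (tt N5073 (iv F34391)) (tt N3055 F24297) (tt N3947 F24298) (tt N2982 F24299) (tt N3056 (iv F201628)) (tt N3947 F24300) (tt N2980 (iv D5221)) (tt N3054 F201218) (tt N5056 (iv F34283)))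
theorem Q3949 : ∀ i, i < 3949 → P i := stepQ 3948 Q3948 (allL N3948 (tt N3229 F24301) (tt N5074 (iv F34395)) (tt N3056 F24302) (tt N3087 (iv F201637)) (tt N2983 F24303) (tt N3055 F201235) (tt N2981 F24304) (tt N3054 F201236) (tt N2980 (iv D5222)) (tt N5079 D7572))
theorem Q3950 : ∀ i, i < 3950 → P i := stepQ 3949 Q3949 (allL N3949 (tt N3230 F24305) (tt N5075 (iv F34398)) (tt N3949 F24306) (tt N2981 (iv D5223)) (tt N3949 F24307) (tt N3949 F24308) (tt N3087 (iv F201638)) (tt N3949 F24309) (tt N3949 F24310) (tt N5080 D7573))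
theorem Q3951 : ∀ i, i < 3951 → P i := stepQ 3950 Q3950 (allL N3950 (tt N3221 F201262) (tt N5076 (iv F34403)) (tt N3057 F24312) (tt N5080 (iv F34438)) (tt N2984 F24313) (tt N3950 F24314) (tt N5079 (iv F34435)) (tt N3950 F24315) (tt N3259 F201263) (tt N2981 (iv D5224)))
theorem Q3952 : ∀ i, i < 3952 → P i := stepQ 3951 Q3951 (allL N3951 (tt N3231 F24316) (tt N5077 (iv F34407)) (tt N3058 F24317) (tt N3951 F24318) (tt N3054 (iv F200985)) (tt N3023 F200639) (tt N3951 F24319) (tt N2983 F24320) (tt N2982 (iv D5225)) (tt N5081 D7574))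
theorem Q3953 : ∀ i, i < 3953 → P i := stepQ 3952 Q3952 (allL N3952 (tt N3222 F201226) (tt N5078 (iv F34411)) (tt N3059 F24322) (tt N3952 F24323) (tt N5079 (iv F34434)) (tt N5050 (iv F34072)) (tt N2984 F24324) (tt N5081 (iv F34446)) (tt N3260 (iv F200951)) (tt N2983 (iv D5226)))
theorem Q3954 : ∀ i, i < 3954 → P i := stepQ 3953 Q3953 (allL N3953 (tt N2986 F24325) (tt N3232 F24326) (tt N5082 D7575) (tt N2985 (iv D5227)) (tt N3953 F24327) (tt N5083 D7576) (tt N3953 F24328) (tt N3003 F24329) (tt N5024 F200128) (tt N2992 F24330))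
theorem Q3955 : ∀ i, i < 3955 → P i := stepQ 3954 Q3954 (allL N3954 (tt N2987 F24331) (tt N3233 F24332) (tt N4656 (iv F31578)) (tt N5083 (iv F34454)) (tt N3954 F24333) (tt N2985 (iv D5228)) (tt N5084 D7578) (tt N3004 F24334) (tt N3954 F24335) (tt N2993 F24336))
theorem Q3956 : ∀ i, i < 3956 → P i := stepQ 3955 Q3955 (allL N3955 (tt N5082 (iv F34447)) (tt N5009 (iv F33739)) (tt N2986 (iv D5229)) (tt N4657 (iv F31583)) (tt N3955 F24337) (tt N5085 D7579) (tt N3955 F24338) (tt N3005 F24339) (tt N5086 D7580) (tt N2994 F24340))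
theorem Q3957 : ∀ i, i < 3957 → P i := stepQ 3956 Q3956 (allL N3956 (tt N5083 (iv F34452)) (tt N2988 F24341) (tt N5085 (iv F34469)) (tt N2987 F24342) (tt N5087 D7581) (tt N2986 (iv D5230)) (tt N5088 D7582) (tt N3006 F24343) (tt N5089 D7583) (tt N2995 F24344))
theorem Q3958 : ∀ i, i < 3958 → P i := stepQ 3957 Q3957 (allL N3957 (tt N5024 F200129) (tt N2989 F24345) (tt N5086 (iv F34472)) (tt N3957 F24346) (tt N3957 F24347) (tt N5089 (iv F34487)) (tt N3957 F24348) (tt N3007 F24349) (tt N2986 (iv D5231)) (tt N5017 F200130))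
theorem Q3959 : ∀ i, i < 3959 → P i := stepQ 3958 Q3958 (allL N3958 (tt N5084 (iv F34463)) (tt N2990 F24350) (tt N4660 (iv F31596)) (tt N5088 (iv F34482)) (tt N3958 F24351) (tt N3958 F24352) (tt N2987 (iv D5232)) (tt N5090 D7585) (tt N3958 F24353) (tt N2997 F24354))
theorem Q3960 : ∀ i, i < 3960 → P i := stepQ 3959 Q3959 (allL N3959 (tt N3236 F24355) (tt N5087 (iv F34476)) (tt N5012 (iv F33756)) (tt N3959 F24356) (tt N2988 (iv D5233)) (tt N3959 F24357) (tt N5026 (iv F200298)) (tt N3009 F24358) (tt N5091 D7587) (tt N2998 F24359))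
theorem Q3961 : ∀ i, i < 3961 → P i := stepQ 3960 Q3960 (allL N3960 (tt N3237 F24360) (tt N5088 (iv F34481)) (tt N5013 (iv F33761)) (tt N2990 F24361) (tt N5026 (iv F200297)) (tt N3960 F24362) (tt N2988 (iv D5234)) (tt N5049 (iv F200286)) (tt N5092 D7589) (tt N2999 F24363))
theorem Q3962 : ∀ i, i < 3962 → P i := stepQ 3961 Q3961 (allL N3961 (tt N3238 F24364) (tt N5089 (iv F34485)) (tt N3240 (iv F200302)) (tt N3961 F24365) (tt N5091 (iv F34506)) (tt N2989 F24366) (tt N5092 (iv F34517)) (tt N3011 F24367) (tt N2988 (iv D5235)) (tt N5093 D7590))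
theorem Q3963 : ∀ i, i < 3963 → P i := stepQ 3962 Q3962 (allL N3962 (tt N3200 F199921) (tt N5017 (iv F200049)) (tt N3232 (iv F200030)) (tt N3962 F24369) (tt N3962 F24370) (tt N5093 (iv F34520)) (tt N3962 F24371) (tt N3012 F24372) (tt N3001 F24373) (tt N2989 (iv D5236)))
theorem Q3964 : ∀ i, i < 3964 → P i := stepQ 3963 Q3963 (allL N3963 (tt N3239 F24374) (tt N5090 (iv F34495)) (tt N2991 F24375) (tt N5049 F200492) (tt N3963 F24376) (tt N3963 F24377) (tt N3013 F24378) (tt N2990 (iv D5237)) (tt N3963 F24379) (tt N3002 F24380))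
theorem Q3965 : ∀ i, i < 3965 → P i := stepQ 3964 Q3964 (allL N3964 (tt N2994 F24381) (tt N5086 F200475) (tt N2992 (iv D5238)) (tt N4666 (iv F31626)) (tt N3964 F24382) (tt N5094 D7592) (tt N3964 F24383) (tt N3014 F24384) (tt N5009 F200476) (tt N5082 (iv F34451)))
theorem Q3966 : ∀ i, i < 3966 → P i := stepQ 3965 Q3965 (allL N3965 (tt N2995 F24385) (tt N3240 F24386) (tt N5094 (iv F34528)) (tt N2993 F24387) (tt N5095 D7594) (tt N2992 (iv D5239)) (tt N5096 D7595) (tt N3015 F24388) (tt N5010 F200483) (tt N5083 (iv F34456)))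
theorem Q3967 : ∀ i, i < 3967 → P i := stepQ 3966 Q3966 (allL N3966 (tt N2997 F24395) (tt N3241 F24396) (tt N4669 (iv F31640)) (tt N5096 (iv F34542)) (tt N3966 F24397) (tt N3966 F24398) (tt N2993 (iv D5241)) (tt N5097 D7598) (tt N3090 F24399) (tt N5084 (iv F34468)))
theorem Q3968 : ∀ i, i < 3968 → P i := stepQ 3967 Q3967 (allL N3967 (tt N5094 (iv F34527)) (tt N5019 (iv F33798)) (tt N2995 F24400) (tt N4670 (iv F31645)) (tt N5098 D7599) (tt N2994 (iv D5242)) (tt N5099 D7600) (tt N3017 F24401) (tt N5100 D7601) (tt N5085 (iv F34471)))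
theorem Q3969 : ∀ i, i < 3969 → P i := stepQ 3968 Q3968 (allL N3968 (tt N5009 F200477) (tt N5020 (iv F33801)) (tt N2996 F24402) (tt N5101 D7602) (tt N3968 F24403) (tt N5100 (iv F34567)) (tt N3968 F24404) (tt N3018 F24405) (tt N2994 (iv D5243)) (tt N5015 F200478))
theorem Q3970 : ∀ i, i < 3970 → P i := stepQ 3969 Q3969 (allL N3969 (tt N5095 (iv F34535)) (tt N2998 F24406) (tt N5098 (iv F34561)) (tt N3969 F24407) (tt N2995 (iv D5244)) (tt N3969 F24408) (tt N5023 (iv F200251)) (tt N3019 F24409) (tt N5022 (iv F200249)) (tt N5087 (iv F34480)))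
theorem Q3971 : ∀ i, i < 3971 → P i := stepQ 3970 Q3970 (allL N3970 (tt N5096 (iv F34540)) (tt N2999 F24410) (tt N5099 (iv F34564)) (tt N2997 F24411) (tt N5023 (iv F200250)) (tt N3970 F24412) (tt N2995 (iv D5245)) (tt N5045 (iv F200403)) (tt N5021 (iv F200248)) (tt N5088 (iv F34484)))
theorem Q3972 : ∀ i, i < 3972 → P i := stepQ 3971 Q3971 (allL N3971 (tt N5010 F200460) (tt N3000 F24413) (tt N5100 (iv F34566)) (tt N3095 F24414) (tt N5022 F200461) (tt N2996 F24415) (tt N5021 F200462) (tt N3021 F24416) (tt N2995 (iv D5246)) (tt N5016 F200463))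
theorem Q3973 : ∀ i, i < 3973 → P i := stepQ 3972 Q3972 (allL N3972 (tt N5097 (iv F34555)) (tt N3002 F24422) (tt N4676 (iv F31665)) (tt N5045 F200638) (tt N3972 F24423) (tt N3972 F24424) (tt N3022 F24425) (tt N2997 (iv D5248)) (tt N3096 F24426) (tt N5090 (iv F34500)))
theorem Q3974 : ∀ i, i < 3974 → P i := stepQ 3973 Q3973 (allL N3973 (tt N3199 F200182) (tt N5016 (iv F200261)) (tt N5026 (iv F33844)) (tt N3101 F24443) (tt N5013 (iv F200300)) (tt N3001 F24444) (tt N5012 (iv F200294)) (tt N3027 F24445) (tt N5093 (iv F34522)) (tt N3000 (iv D5253)))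
theorem Q3975 : ∀ i, i < 3975 → P i := stepQ 3974 Q3974 (allL N3974 (tt N3005 F24446) (tt N5035 F200530) (tt N3003 (iv D5254)) (tt N4682 (iv F31689)) (tt N3974 F24447) (tt N5102 D7617) (tt N3028 F24448) (tt N5082 (iv F34450)) (tt N5033 F200531) (tt N3014 F24449))
theorem Q3976 : ∀ i, i < 3976 → P i := stepQ 3975 Q3975 (allL N3975 (tt N3006 F24450) (tt N3245 F24451) (tt N5102 (iv F34629)) (tt N3004 F24452) (tt N5103 D7619) (tt N3003 (iv D5255)) (tt N5104 D7620) (tt N5083 (iv F34455)) (tt N5048 (iv F200736)) (tt N3015 F24453))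
theorem Q3977 : ∀ i, i < 3977 → P i := stepQ 3976 Q3976 (allL N3976 (tt N3008 F24459) (tt N3246 F24460) (tt N4685 (iv F31702)) (tt N5104 (iv F34642)) (tt N3976 F24461) (tt N3030 F24462) (tt N3004 (iv D5257)) (tt N5105 D7623) (tt N3976 F24463) (tt N3016 F24464))
theorem Q3978 : ∀ i, i < 3978 → P i := stepQ 3977 Q3977 (allL N3977 (tt N5102 (iv F34628)) (tt N5027 (iv F33941)) (tt N3006 F24465) (tt N4686 (iv F31708)) (tt N5106 D7624) (tt N3005 (iv D5258)) (tt N5107 D7625) (tt N5085 (iv F34470)) (tt N5108 D7626) (tt N3017 F24466))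
theorem Q3979 : ∀ i, i < 3979 → P i := stepQ 3978 Q3978 (allL N3978 (tt N5033 F200532) (tt N3014 (iv F200757)) (tt N3007 F24467) (tt N4698 (iv F200851)) (tt N3978 F24468) (tt N5108 (iv F34668)) (tt N3032 F24469) (tt N5086 (iv F34475)) (tt N3005 (iv D5259)) (tt N5035 F200529))
theorem Q3980 : ∀ i, i < 3980 → P i := stepQ 3979 Q3979 (allL N3979 (tt N5103 (iv F34635)) (tt N3009 F24470) (tt N5106 (iv F34661)) (tt N3979 F24471) (tt N3006 (iv D5260)) (tt N3979 F24472) (tt N5109 D7629) (tt N5087 (iv F34479)) (tt N5110 D7630) (tt N3019 F24473))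
theorem Q3981 : ∀ i, i < 3981 → P i := stepQ 3980 Q3980 (allL N3980 (tt N5104 (iv F34640)) (tt N3010 F24474) (tt N5107 (iv F34664)) (tt N3008 F24475) (tt N5109 (iv F34677)) (tt N3034 F24476) (tt N3006 (iv D5261)) (tt N5111 D7631) (tt N5112 D7632) (tt N3020 F24477))
theorem Q3982 : ∀ i, i < 3982 → P i := stepQ 3981 Q3981 (allL N3981 (tt N5048 F200514) (tt N3011 F24478) (tt N5108 (iv F34667)) (tt N3981 F24479) (tt N5110 (iv F34680)) (tt N3007 F24480) (tt N5112 (iv F34689)) (tt N5089 (iv F34488)) (tt N3006 (iv D5262)) (tt N5038 F200515))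
theorem Q3983 : ∀ i, i < 3983 → P i := stepQ 3982 Q3982 (allL N3982 (tt N5105 (iv F34655)) (tt N3013 F24486) (tt N4692 (iv F31727)) (tt N5111 (iv F34683)) (tt N3982 F24487) (tt N3036 F24488) (tt N5090 (iv F34498)) (tt N3008 (iv D5264)) (tt N3982 F24489) (tt N3022 F24490))
theorem Q3984 : ∀ i, i < 3984 → P i := stepQ 3983 Q3983 (allL N3983 (tt N3250 F24491) (tt N5109 (iv F34675)) (tt N5031 (iv F33965)) (tt N3983 F24492) (tt N3010 F24493) (tt N5081 (iv F200833)) (tt N3009 (iv D5265)) (tt N5050 (iv F200828)) (tt N5113 D7636) (tt N3023 F24494))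
theorem Q3985 : ∀ i, i < 3985 → P i := stepQ 3984 Q3984 (allL N3984 (tt N3251 F24495) (tt N5110 (iv F34679)) (tt N3254 F200504) (tt N5114 D7637) (tt N3011 F24496) (tt N3984 F24497) (tt N5113 (iv F34705)) (tt N5091 (iv F34508)) (tt N3009 (iv D5266)) (tt N5115 D7638))
theorem Q3986 : ∀ i, i < 3986 → P i := stepQ 3985 Q3985 (allL N3985 (tt N3252 F24498) (tt N5111 (iv F34682)) (tt N5032 (iv F33973)) (tt N3013 F24499) (tt N5050 (iv F200827)) (tt N3039 F24500) (tt N5049 F200507) (tt N3010 (iv D5267)) (tt N5116 D7639) (tt N3025 F24501))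
theorem Q3987 : ∀ i, i < 3987 → P i := stepQ 3986 Q3986 (allL N3986 (tt N3253 F24502) (tt N5112 (iv F34686)) (tt N3255 (iv F200823)) (tt N3986 F24503) (tt N5113 (iv F34704)) (tt N3040 F24504) (tt N3011 F24505) (tt N5116 (iv F34717)) (tt N3010 (iv D5268)) (tt N5117 D7640))
theorem Q3988 : ∀ i, i < 3988 → P i := stepQ 3987 Q3987 (allL N3987 (tt N3213 F200192) (tt N5038 (iv F200402)) (tt N3245 (iv F200365)) (tt N3987 F24507) (tt N5115 (iv F34711)) (tt N3012 F24508) (tt N5117 (iv F34721)) (tt N5093 (iv F34521)) (tt N3027 F24509) (tt N3011 (iv D5269)))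
theorem Q3989 : ∀ i, i < 3989 → P i := stepQ 3988 Q3988 (allL N3988 (tt N3017 F24513) (tt N5108 F201044) (tt N3015 F24514) (tt N4699 (iv F31755)) (tt N5118 D7643) (tt N3014 (iv D5271)) (tt N5119 D7644) (tt N5094 (iv F34529)) (tt N5027 F201045) (tt N5102 (iv F34630)))
theorem Q3990 : ∀ i, i < 3990 → P i := stepQ 3989 Q3989 (allL N3989 (tt N3019 F24519) (tt N3254 F24520) (tt N5118 (iv F34730)) (tt N3989 F24521) (tt N3015 (iv D5273)) (tt N3989 F24522) (tt N5120 D7648) (tt N5095 (iv F34539)) (tt N5028 (iv F200735)) (tt N5103 (iv F34639)))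
theorem Q3991 : ∀ i, i < 3991 → P i := stepQ 3990 Q3990 (allL N3990 (tt N3020 F24523) (tt N3255 F24524) (tt N5119 (iv F34733)) (tt N3016 F24525) (tt N5120 (iv F34748)) (tt N3044 F24526) (tt N3015 (iv D5274)) (tt N5121 D7650) (tt N5029 F201025) (tt N5104 (iv F34644)))
theorem Q3992 : ∀ i, i < 3992 → P i := stepQ 3991 Q3991 (allL N3991 (tt N3022 F24536) (tt N3256 F24537) (tt N4705 (iv F31776)) (tt N5121 (iv F34755)) (tt N3991 F24538) (tt N3045 F24539) (tt N5097 (iv F34559)) (tt N3016 (iv D5277)) (tt N3105 F24540) (tt N5105 (iv F34660)))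
theorem Q3993 : ∀ i, i < 3993 → P i := stepQ 3992 Q3992 (allL N3992 (tt N5118 (iv F34729)) (tt N5040 (iv F34015)) (tt N3019 F24541) (tt N5122 D7653) (tt N3017 (iv D5278)) (tt N3992 F24542) (tt N5123 D7654) (tt N5098 (iv F34563)) (tt N5124 D7655) (tt N5106 (iv F34663)))
theorem Q3994 : ∀ i, i < 3994 → P i := stepQ 3993 Q3993 (allL N3993 (tt N5119 (iv F34732)) (tt N5041 (iv F34018)) (tt N3020 F24543) (tt N4707 (iv F31782)) (tt N5123 (iv F34769)) (tt N3047 F24544) (tt N3017 (iv D5279)) (tt N5125 D7656) (tt N5126 D7657) (tt N5107 (iv F34666)))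
theorem Q3995 : ∀ i, i < 3995 → P i := stepQ 3994 Q3994 (allL N3994 (tt N5027 F201048) (tt N5042 (iv F34021)) (tt N3021 F24545) (tt N5127 D7658) (tt N5124 (iv F34771)) (tt N3018 F24546) (tt N5126 (iv F34777)) (tt N5100 (iv F34568)) (tt N3017 (iv D5280)) (tt N5034 F201049))
theorem Q3996 : ∀ i, i < 3996 → P i := stepQ 3995 Q3995 (allL N3995 (tt N4588 F201111) (tt N5043 (iv F34024)) (tt N3109 F24547) (tt N3018 (iv D5281)) (tt N5128 D7660) (tt N5127 (iv F34779)) (tt N3049 F24548) (tt N5101 (iv F34571)) (tt N4709 (iv F31788)) (tt N4597 F201112))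
theorem Q3997 : ∀ i, i < 3997 → P i := stepQ 3996 Q3996 (allL N3996 (tt N5120 (iv F34745)) (tt N3023 F24552) (tt N5123 (iv F34768)) (tt N3996 F24553) (tt N3020 F24554) (tt N5077 (iv F200984)) (tt N3019 (iv D5283)) (tt N5047 (iv F200732)) (tt N5046 (iv F200696)) (tt N5109 (iv F34678)))
theorem Q3998 : ∀ i, i < 3998 → P i := stepQ 3997 Q3997 (allL N3997 (tt N5028 (iv F200734)) (tt N3024 F24555) (tt N5124 (iv F34770)) (tt N5025 (iv F200745)) (tt N3021 F24556) (tt N3997 F24557) (tt N5046 (iv F200695)) (tt N5022 F200465) (tt N3019 (iv D5284)) (tt N5036 (iv F200686)))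
theorem Q3999 : ∀ i, i < 3999 → P i := stepQ 3998 Q3998 (allL N3998 (tt N5121 (iv F34753)) (tt N3025 F24558) (tt N5125 (iv F34773)) (tt N3022 F24559) (tt N5047 (iv F200731)) (tt N3052 F24560) (tt N5045 F200630) (tt N3020 (iv D5285)) (tt N5044 (iv F200727)) (tt N5111 (iv F34685)))
theorem Q4000 : ∀ i, i < 4000 → P i := stepQ 3999 Q3999 (allL N3999 (tt N5029 F201034) (tt N3026 F24561) (tt N5126 (iv F34775)) (tt N3113 F24562) (tt N5046 F201035) (tt N3053 F24563) (tt N3021 F24564) (tt N5044 F201036) (tt N3020 (iv D5286)) (tt N5037 F201037))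
theorem Q4001 : ∀ i, i < 4001 → P i := stepQ 4000 Q4000 (allL N4000 (tt N3211 F200509) (tt N5036 (iv F200685)) (tt N5049 (iv F34061)) (tt N5014 (iv F200780)) (tt N3027 F24583) (tt N4000 F24584) (tt N5032 F200510) (tt N5013 F200511) (tt N5115 (iv F34713)) (tt N3024 (iv D5292)))
theorem Q4002 : ∀ i, i < 4002 → P i := stepQ 4001 Q4001 (allL N4001 (tt N3212 F200613) (tt N5037 (iv F200694)) (tt N5050 (iv F34070)) (tt N3119 F24590) (tt N5032 F200614) (tt N3059 F24591) (tt N3027 F24592) (tt N5031 F200615) (tt N5117 (iv F34722)) (tt N3026 (iv D5294)))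
theorem Q4003 : ∀ i, i < 4003 → P i := stepQ 4002 Q4002 (allL N4002 (tt N3031 F24597) (tt N5060 F201246) (tt N3029 F24598) (tt N4724 (iv F31834)) (tt N5129 D7679) (tt N3028 (iv D5296)) (tt N5130 D7680) (tt N4002 F24599) (tt N5057 F201247) (tt N3042 F24600))
theorem Q4004 : ∀ i, i < 4004 → P i := stepQ 4003 Q4003 (allL N4003 (tt N3033 F24605) (tt N3259 F24606) (tt N5129 (iv F34852)) (tt N3061 F24607) (tt N3029 (iv D5298)) (tt N4003 F24608) (tt N5131 D7684) (tt N4003 F24609) (tt N5076 F201253) (tt N3043 F24610))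
theorem Q4005 : ∀ i, i < 4005 → P i := stepQ 4004 Q4004 (allL N4004 (tt N3034 F24611) (tt N3260 F24612) (tt N5130 (iv F34857)) (tt N3030 F24613) (tt N5131 (iv F34874)) (tt N5104 (iv F34643)) (tt N3029 (iv D5299)) (tt N5132 D7686) (tt N5078 (iv F201487)) (tt N3044 F24614))
theorem Q4006 : ∀ i, i < 4006 → P i := stepQ 4005 Q4005 (allL N4005 (tt N3036 F24626) (tt N3261 F24627) (tt N4730 (iv F31861)) (tt N5132 (iv F34883)) (tt N3064 F24628) (tt N5105 (iv F34658)) (tt N4005 F24629) (tt N3030 (iv D5302)) (tt N4005 F24630) (tt N3045 F24631))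
theorem Q4007 : ∀ i, i < 4007 → P i := stepQ 4006 Q4006 (allL N4006 (tt N5129 (iv F34851)) (tt N5051 (iv F34236)) (tt N3033 F24632) (tt N5133 D7689) (tt N3031 (iv D5303)) (tt N4006 F24633) (tt N5134 D7690) (tt N4006 F24634) (tt N5135 D7691) (tt N3046 F24635))
theorem Q4008 : ∀ i, i < 4008 → P i := stepQ 4007 Q4007 (allL N4007 (tt N5130 (iv F34856)) (tt N5052 (iv F34241)) (tt N3034 F24636) (tt N4732 (iv F31870)) (tt N5134 (iv F34901)) (tt N5107 (iv F34665)) (tt N3031 (iv D5304)) (tt N5136 D7692) (tt N5137 D7693) (tt N3047 F24637))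
theorem Q4009 : ∀ i, i < 4009 → P i := stepQ 4008 Q4008 (allL N4008 (tt N5057 F201248) (tt N3042 (iv F201520)) (tt N3035 F24638) (tt N4748 (iv F201641)) (tt N5135 (iv F34904)) (tt N3032 F24639) (tt N5137 (iv F34911)) (tt N4008 F24640) (tt N3031 (iv D5305)) (tt N5060 F201239))
theorem Q4010 : ∀ i, i < 4010 → P i := stepQ 4009 Q4009 (allL N4009 (tt N5131 (iv F34871)) (tt N3037 F24647) (tt N5134 (iv F34900)) (tt N3068 F24648) (tt N3034 F24649) (tt N5138 D7698) (tt N3033 (iv D5308)) (tt N5139 D7699) (tt N5140 D7700) (tt N3050 F24650))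
theorem Q4011 : ∀ i, i < 4011 → P i := stepQ 4010 Q4010 (allL N4010 (tt N5076 F201254) (tt N3038 F24651) (tt N5135 (iv F34903)) (tt N5141 D7701) (tt N3035 F24652) (tt N4010 F24653) (tt N5140 (iv F34936)) (tt N4010 F24654) (tt N3033 (iv D5309)) (tt N5062 F201255))
theorem Q4012 : ∀ i, i < 4012 → P i := stepQ 4011 Q4011 (allL N4011 (tt N5132 (iv F34881)) (tt N3039 F24655) (tt N5136 (iv F34907)) (tt N3036 F24656) (tt N5139 (iv F34931)) (tt N5111 (iv F34684)) (tt N4011 F24657) (tt N3034 (iv D5310)) (tt N5142 D7703) (tt N3052 F24658))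
theorem Q4013 : ∀ i, i < 4013 → P i := stepQ 4012 Q4012 (allL N4012 (tt N5078 F201227) (tt N3040 F24659) (tt N5137 (iv F34910)) (tt N4012 F24660) (tt N5140 (iv F34935)) (tt N5112 (iv F34688)) (tt N3035 F24661) (tt N5142 (iv F34950)) (tt N3034 (iv D5311)) (tt N5064 F201228))
theorem Q4014 : ∀ i, i < 4014 → P i := stepQ 4013 Q4013 (allL N4013 (tt N3264 F24667) (tt N5138 (iv F34925)) (tt N5055 (iv F34274)) (tt N3072 F24668) (tt N5081 F201231) (tt N3037 (iv D5313)) (tt N4013 F24669) (tt N5079 (iv F201627)) (tt N5143 D7706) (tt N3054 F24670))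
theorem Q4015 : ∀ i, i < 4015 → P i := stepQ 4014 Q4014 (allL N4014 (tt N3265 F24671) (tt N5139 (iv F34929)) (tt N5056 (iv F34279)) (tt N3073 F24672) (tt N3039 F24673) (tt N5079 (iv F201626)) (tt N4014 F24674) (tt N3037 (iv D5314)) (tt N5144 D7707) (tt N3055 F24675))
theorem Q4016 : ∀ i, i < 4016 → P i := stepQ 4015 Q4015 (allL N4015 (tt N3266 F24676) (tt N5140 (iv F34934)) (tt N3269 (iv F201630)) (tt N5145 D7708) (tt N3040 F24677) (tt N5143 (iv F34960)) (tt N3038 F24678) (tt N5144 (iv F34965)) (tt N3037 (iv D5315)) (tt N5146 D7709))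
theorem Q4017 : ∀ i, i < 4017 → P i := stepQ 4016 Q4016 (allL N4016 (tt N3267 F24679) (tt N5141 (iv F34937)) (tt N3299 (iv F201666)) (tt N3038 (iv D5316)) (tt N4016 F24680) (tt N4016 F24681) (tt N5145 (iv F34968)) (tt N4016 F24682) (tt N3075 F24683) (tt N5147 D7711))
theorem Q4018 : ∀ i, i < 4018 → P i := stepQ 4017 Q4017 (allL N4017 (tt N3224 F200649) (tt N5062 (iv F200991)) (tt N3259 (iv F200965)) (tt N5147 (iv F34980)) (tt N3041 F24685) (tt N4017 F24686) (tt N5146 (iv F34972)) (tt N4017 F24687) (tt N3057 F24688) (tt N3038 (iv D5317)))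
theorem Q4019 : ∀ i, i < 4019 → P i := stepQ 4018 Q4018 (allL N4018 (tt N3268 F24689) (tt N5142 (iv F34947)) (tt N3270 F201213) (tt N4018 F24690) (tt N5144 (iv F34963)) (tt N5116 (iv F34716)) (tt N4018 F24691) (tt N3040 F24692) (tt N3039 (iv D5318)) (tt N5148 D7712))
theorem Q4020 : ∀ i, i < 4020 → P i := stepQ 4019 Q4019 (allL N4019 (tt N3226 F200644) (tt N5064 (iv F200983)) (tt N3260 (iv F200950)) (tt N4019 F24694) (tt N5146 (iv F34971)) (tt N5117 (iv F34720)) (tt N3041 F24695) (tt N5148 (iv F34988)) (tt N3059 F24696) (tt N3040 (iv D5319)))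
theorem Q4021 : ∀ i, i < 4021 → P i := stepQ 4020 Q4020 (allL N4020 (tt N3046 F24704) (tt N5135 F201966) (tt N3043 F24705) (tt N5149 D7718) (tt N3042 (iv D5322)) (tt N4020 F24706) (tt N5150 D7719) (tt N4020 F24707) (tt N5051 F201967) (tt N5129 (iv F34855)))
theorem Q4022 : ∀ i, i < 4022 → P i := stepQ 4021 Q4021 (allL N4021 (tt N3047 F24708) (tt N5137 F201835) (tt N3044 F24709) (tt N4750 (iv F31939)) (tt N5150 (iv F35012)) (tt N5119 (iv F34734)) (tt N3042 (iv D5323)) (tt N5151 D7721) (tt N5052 F201836) (tt N5130 (iv F34858)))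
theorem Q4023 : ∀ i, i < 4023 → P i := stepQ 4022 Q4022 (allL N4022 (tt N3050 F24721) (tt N3269 F24722) (tt N5150 (iv F35011)) (tt N3080 F24723) (tt N3044 F24724) (tt N5152 D7727) (tt N3043 (iv D5327)) (tt N5153 D7728) (tt N5053 F201837) (tt N5131 (iv F34875)))
theorem Q4024 : ∀ i, i < 4024 → P i := stepQ 4023 Q4023 (allL N4023 (tt N3052 F24731) (tt N3270 F24732) (tt N5151 (iv F35019)) (tt N3045 F24733) (tt N5153 (iv F35047)) (tt N5121 (iv F34756)) (tt N4023 F24734) (tt N3044 (iv D5329)) (tt N5054 F201024) (tt N5132 (iv F34885)))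
theorem Q4025 : ∀ i, i < 4025 → P i := stepQ 4024 Q4024 (allL N4024 (tt N5149 (iv F35006)) (tt N5065 (iv F34354)) (tt N3082 F24744) (tt N3046 (iv D5332)) (tt N4758 (iv F31973)) (tt N4024 F24745) (tt N5154 D7733) (tt N4024 F24746) (tt N5155 D7734) (tt N5133 (iv F34899)))
theorem Q4026 : ∀ i, i < 4026 → P i := stepQ 4025 Q4025 (allL N4025 (tt N5150 (iv F35010)) (tt N5066 (iv F34358)) (tt N3050 F24747) (tt N5154 (iv F35070)) (tt N3047 F24748) (tt N5156 D7735) (tt N3046 (iv D5333)) (tt N5157 D7736) (tt N5158 D7737) (tt N5134 (iv F34902)))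
theorem Q4027 : ∀ i, i < 4027 → P i := stepQ 4026 Q4026 (allL N4026 (tt N5051 F201975) (tt N5067 (iv F34361)) (tt N3051 F24749) (tt N5159 D7738) (tt N3048 F24750) (tt N4026 F24751) (tt N5158 (iv F35081)) (tt N4026 F24752) (tt N3046 (iv D5334)) (tt N5058 F201976))
theorem Q4028 : ∀ i, i < 4028 → P i := stepQ 4027 Q4027 (allL N4027 (tt N5151 (iv F35018)) (tt N5068 (iv F34366)) (tt N3052 F24753) (tt N4761 (iv F31981)) (tt N5157 (iv F35077)) (tt N5125 (iv F34774)) (tt N4027 F24754) (tt N3047 (iv D5335)) (tt N5160 D7740) (tt N5136 (iv F34909)))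
theorem Q4029 : ∀ i, i < 4029 → P i := stepQ 4028 Q4028 (allL N4028 (tt N5052 F201848) (tt N5069 (iv F34369)) (tt N3053 F24755) (tt N5161 D7741) (tt N5158 (iv F35080)) (tt N5126 (iv F34776)) (tt N3048 F24756) (tt N5160 (iv F35091)) (tt N3047 (iv D5336)) (tt N5059 F201849))
theorem Q4030 : ∀ i, i < 4030 → P i := stepQ 4029 Q4029 (allL N4029 (tt N4618 F201953) (tt N5070 (iv F34372)) (tt N3124 F24757) (tt N3048 (iv D5337)) (tt N5162 D7743) (tt N3049 F24758) (tt N5161 (iv F35093)) (tt N4029 F24759) (tt N4763 (iv F31988)) (tt N4631 F201954))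
theorem Q4031 : ∀ i, i < 4031 → P i := stepQ 4030 Q4030 (allL N4030 (tt N4327 F201951) (tt N5071 (iv F34380)) (tt N3125 F24763) (tt N4030 F24764) (tt N3049 (iv D5339)) (tt N5163 D7745) (tt N5128 (iv F34784)) (tt N4030 F24765) (tt N4765 (iv F31994)) (tt N4336 F201952))
theorem Q4032 : ∀ i, i < 4032 → P i := stepQ 4031 Q4031 (allL N4031 (tt N5152 (iv F35040)) (tt N3054 F24769) (tt N5156 (iv F35074)) (tt N3085 F24770) (tt N5077 F201332) (tt N3050 (iv D5341)) (tt N4031 F24771) (tt N5074 (iv F201486)) (tt N5073 (iv F201422)) (tt N5138 (iv F34928)))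
theorem Q4033 : ∀ i, i < 4033 → P i := stepQ 4032 Q4032 (allL N4032 (tt N5153 (iv F35044)) (tt N3055 F24772) (tt N5157 (iv F35076)) (tt N3086 F24773) (tt N3052 F24774) (tt N5074 (iv F201485)) (tt N4032 F24775) (tt N3050 (iv D5342)) (tt N5072 (iv F201440)) (tt N5139 (iv F34933)))
theorem Q4034 : ∀ i, i < 4034 → P i := stepQ 4033 Q4033 (allL N4033 (tt N5053 F201839) (tt N3056 F24776) (tt N5158 (iv F35079)) (tt N4033 F24777) (tt N3053 F24778) (tt N5073 F201840) (tt N3051 F24779) (tt N5072 F201841) (tt N3050 (iv D5343)) (tt N5061 F201842))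
theorem Q4035 : ∀ i, i < 4035 → P i := stepQ 4034 Q4034 (allL N4034 (tt N5054 F201038) (tt N3058 F24785) (tt N5160 (iv F35089)) (tt N3126 F24786) (tt N5072 (iv F201439)) (tt N5044 F201039) (tt N4034 F24787) (tt N3053 F24788) (tt N3052 (iv D5345)) (tt N5063 F201040))
theorem Q4036 : ∀ i, i < 4036 → P i := stepQ 4035 Q4035 (allL N4035 (tt N3223 F201214) (tt N5061 (iv F201421)) (tt N5079 (iv F34433)) (tt N4035 F24805) (tt N3059 F24806) (tt N5056 F201215) (tt N3057 F24807) (tt N5055 F201216) (tt N5146 (iv F34973)) (tt N3056 (iv D5350)))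
theorem Q4037 : ∀ i, i < 4037 → P i := stepQ 4036 Q4036 (allL N4036 (tt N3225 (iv F200604)) (tt N5063 (iv F200726)) (tt N5081 (iv F34443)) (tt N3127 F24809) (tt N5055 (iv F200848)) (tt N5031 F200528) (tt N4036 F24810) (tt N3059 F24811) (tt N5148 (iv F34989)) (tt N3058 (iv D5351)))
theorem Q4038 : ∀ i, i < 4038 → P i := stepQ 4037 Q4037 (allL N4037 (tt N3065 F24824) (tt N4470 (iv F202465)) (tt N3061 F24825) (tt N5164 D7761) (tt N3060 (iv D5354)) (tt N4037 F24826) (tt N5165 D7762) (tt N4037 F24827) (tt N4466 (iv F202469)) (tt N3078 F24828))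
theorem Q4039 : ∀ i, i < 4039 → P i := stepQ 4038 Q4038 (allL N4038 (tt N3066 F24829) (tt N4472 (iv F203328)) (tt N3062 F24830) (tt N4481 (iv F203325)) (tt N5165 (iv F35176)) (tt N4038 F24831) (tt N3060 (iv D5355)) (tt N5166 D7764) (tt N4467 (iv F203332)) (tt N3079 F24832))
theorem Q4040 : ∀ i, i < 4040 → P i := stepQ 4039 Q4039 (allL N4039 (tt N3068 F24843) (tt N3277 F24844) (tt N5165 (iv F35175)) (tt N5131 (iv F34873)) (tt N3062 F24845) (tt N5167 D7768) (tt N3061 (iv D5358)) (tt N5168 D7769) (tt N5169 D7770) (tt N3080 F24846))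
theorem Q4041 : ∀ i, i < 4041 → P i := stepQ 4040 Q4040 (allL N4040 (tt N3069 F24847) (tt N3278 F24848) (tt N4466 (iv F202468)) (tt N5170 D7771) (tt N3063 F24849) (tt N4040 F24850) (tt N5169 (iv F35218)) (tt N4040 F24851) (tt N3061 (iv D5359)) (tt N4040 F24852))
theorem Q4042 : ∀ i, i < 4042 → P i := stepQ 4041 Q4041 (allL N4041 (tt N3070 F24853) (tt N3279 F24854) (tt N5166 (iv F35185)) (tt N3064 F24855) (tt N5168 (iv F35212)) (tt N4041 F24856) (tt N4041 F24857) (tt N3062 (iv D5360)) (tt N5171 D7772) (tt N3081 F24858))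
theorem Q4043 : ∀ i, i < 4043 → P i := stepQ 4042 Q4042 (allL N4042 (tt N3071 F24859) (tt N3280 F24860) (tt N4467 (iv F203331)) (tt N4042 F24861) (tt N5169 (iv F35217)) (tt N4042 F24862) (tt N3063 F24863) (tt N5171 (iv F35231)) (tt N3062 (iv D5361)) (tt N4042 F24864))
theorem Q4044 : ∀ i, i < 4044 → P i := stepQ 4043 Q4043 (allL N4043 (tt N5164 (iv F35170)) (tt N4043 F24865) (tt N5133 (iv F34896)) (tt N3065 (iv D5362)) (tt N4784 (iv F32109)) (tt N4043 F24866) (tt N5172 D7773) (tt N4043 F24867) (tt N5173 D7774) (tt N3082 F24868))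
theorem Q4045 : ∀ i, i < 4045 → P i := stepQ 4044 Q4044 (allL N4044 (tt N5165 (iv F35174)) (tt N4044 F24869) (tt N3068 F24870) (tt N5172 (iv F35234)) (tt N3066 F24871) (tt N5174 D7775) (tt N3065 (iv D5363)) (tt N5175 D7776) (tt N5176 D7777) (tt N3083 F24872))
theorem Q4046 : ∀ i, i < 4046 → P i := stepQ 4045 Q4045 (allL N4045 (tt N4466 (iv F202467)) (tt N4045 F24873) (tt N3069 F24874) (tt N5177 D7778) (tt N3067 F24875) (tt N4045 F24876) (tt N5176 (iv F35252)) (tt N4045 F24877) (tt N3065 (iv D5364)) (tt N4045 F24878))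
theorem Q4047 : ∀ i, i < 4047 → P i := stepQ 4046 Q4046 (allL N4046 (tt N5166 (iv F35184)) (tt N4046 F24879) (tt N3070 F24880) (tt N4786 (iv F32122)) (tt N5175 (iv F35246)) (tt N4046 F24881) (tt N4046 F24882) (tt N3066 (iv D5365)) (tt N5178 D7779) (tt N3084 F24883))
theorem Q4048 : ∀ i, i < 4048 → P i := stepQ 4047 Q4047 (allL N4047 (tt N4467 (iv F203330)) (tt N4047 F24884) (tt N3071 F24885) (tt N4465 (iv F203337)) (tt N5176 (iv F35251)) (tt N4047 F24886) (tt N3067 F24887) (tt N5178 (iv F35262)) (tt N3066 (iv D5366)) (tt N4047 F24888))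
theorem Q4049 : ∀ i, i < 4049 → P i := stepQ 4048 Q4048 (allL N4048 (tt N5167 (iv F35205)) (tt N3072 F24900) (tt N5174 (iv F35240)) (tt N5138 (iv F34926)) (tt N4048 F24901) (tt N3068 (iv D5369)) (tt N4048 F24902) (tt N5179 D7783) (tt N5180 D7784) (tt N3085 F24903))
theorem Q4050 : ∀ i, i < 4050 → P i := stepQ 4049 Q4049 (allL N4049 (tt N5168 (iv F35210)) (tt N3073 F24904) (tt N5175 (iv F35245)) (tt N5139 (iv F34930)) (tt N3070 F24905) (tt N5179 (iv F35280)) (tt N4049 F24906) (tt N3068 (iv D5370)) (tt N5181 D7785) (tt N3086 F24907))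
theorem Q4051 : ∀ i, i < 4051 → P i := stepQ 4050 Q4050 (allL N4050 (tt N5169 (iv F35215)) (tt N3074 F24908) (tt N5176 (iv F35250)) (tt N5182 D7786) (tt N3071 F24909) (tt N5180 (iv F35284)) (tt N3069 F24910) (tt N5181 (iv F35290)) (tt N3068 (iv D5371)) (tt N4050 F24911))
theorem Q4052 : ∀ i, i < 4052 → P i := stepQ 4051 Q4051 (allL N4051 (tt N5170 (iv F35220)) (tt N3075 F24912) (tt N5183 D7787) (tt N3069 (iv D5372)) (tt N4051 F24913) (tt N4051 F24914) (tt N5182 (iv F35294)) (tt N4051 F24915) (tt N5141 (iv F34941)) (tt N4051 F24916))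
theorem Q4053 : ∀ i, i < 4053 → P i := stepQ 4052 Q4052 (allL N4052 (tt N5171 (iv F35226)) (tt N3076 F24917) (tt N5178 (iv F35259)) (tt N4052 F24918) (tt N5181 (iv F35288)) (tt N4052 F24919) (tt N4052 F24920) (tt N3071 F24921) (tt N3070 (iv D5373)) (tt N4052 F24922))
theorem Q4054 : ∀ i, i < 4054 → P i := stepQ 4053 Q4053 (allL N4053 (tt N3292 F24923) (tt N5179 (iv F35278)) (tt N4053 F24924) (tt N5079 F202040) (tt N4053 F24925) (tt N3073 F24926) (tt N5080 F202041) (tt N3072 (iv D5374)) (tt N5184 D7789) (tt N3087 F24927))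
theorem Q4055 : ∀ i, i < 4055 → P i := stepQ 4054 Q4054 (allL N4054 (tt N3293 F24928) (tt N5180 (iv F35282)) (tt N4054 F24929) (tt N5185 D7790) (tt N4054 F24930) (tt N3074 F24931) (tt N4054 F24932) (tt N5184 (iv F35310)) (tt N3072 (iv D5375)) (tt N4054 F24933))
theorem Q4056 : ∀ i, i < 4056 → P i := stepQ 4055 Q4055 (allL N4055 (tt N3294 F24934) (tt N5181 (iv F35287)) (tt N4055 F24935) (tt N5186 D7791) (tt N3076 F24936) (tt N5184 (iv F35309)) (tt N4055 F24937) (tt N3074 F24938) (tt N3073 (iv D5376)) (tt N4055 F24939))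
theorem Q4057 : ∀ i, i < 4057 → P i := stepQ 4056 Q4056 (allL N4056 (tt N3295 F24940) (tt N5182 (iv F35292)) (tt N5187 D7792) (tt N3074 (iv D5377)) (tt N4056 F24941) (tt N5185 (iv F35313)) (tt N3075 F24942) (tt N5186 (iv F35319)) (tt N5145 (iv F34969)) (tt N4056 F24943))
theorem Q4058 : ∀ i, i < 4058 → P i := stepQ 4057 Q4057 (allL N4057 (tt N3296 F24944) (tt N5188 D7793) (tt N3075 (iv D5378)) (tt N4057 F24945) (tt N4057 F24946) (tt N4057 F24947) (tt N5187 (iv F35324)) (tt N4057 F24948) (tt N3299 F202080) (tt N4057 F24949))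
theorem Q4059 : ∀ i, i < 4059 → P i := stepQ 4058 Q4058 (allL N4058 (tt N4058 F24950) (tt N3078 F24951) (tt N3297 F24952) (tt N5189 D7794) (tt N3077 (iv D5379)) (tt N4058 F24953) (tt N5190 D7795) (tt N4058 F24954) (tt N4058 F24955) (tt N4470 F202880))
theorem Q4060 : ∀ i, i < 4060 → P i := stepQ 4059 Q4059 (allL N4059 (tt N4059 F24956) (tt N3079 F24957) (tt N3298 F24958) (tt N4488 (iv F203903)) (tt N5190 (iv F35338)) (tt N4059 F24959) (tt N3077 (iv D5380)) (tt N5191 D7796) (tt N4059 F24960) (tt N4472 F203563))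
theorem Q4061 : ∀ i, i < 4061 → P i := stepQ 4060 Q4060 (allL N4060 (tt N3082 F24961) (tt N5189 (iv F35332)) (tt N5149 (iv F35007)) (tt N3078 (iv D5381)) (tt N4800 (iv F32237)) (tt N4060 F24962) (tt N5192 D7797) (tt N4060 F24963) (tt N5193 D7798) (tt N5164 (iv F35173)))
theorem Q4062 : ∀ i, i < 4062 → P i := stepQ 4061 Q4061 (allL N4061 (tt N3083 F24964) (tt N5190 (iv F35336)) (tt N3080 F24965) (tt N5192 (iv F35347)) (tt N3079 F24966) (tt N5194 D7799) (tt N3078 (iv D5382)) (tt N5195 D7800) (tt N4061 F24967) (tt N5165 (iv F35177)))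
theorem Q4063 : ∀ i, i < 4063 → P i := stepQ 4062 Q4062 (allL N4062 (tt N3084 F24968) (tt N5191 (iv F35341)) (tt N3081 F24969) (tt N4802 (iv F32248)) (tt N5195 (iv F35359)) (tt N4062 F24970) (tt N4062 F24971) (tt N3079 (iv D5383)) (tt N4062 F24972) (tt N5166 (iv F35188)))
theorem Q4064 : ∀ i, i < 4064 → P i := stepQ 4063 Q4063 (allL N4063 (tt N3085 F24973) (tt N3302 F24974) (tt N5194 (iv F35353)) (tt N5152 (iv F35042)) (tt N4063 F24975) (tt N3080 (iv D5384)) (tt N4063 F24976) (tt N5196 D7801) (tt N4063 F24977) (tt N5167 (iv F35209)))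
theorem Q4065 : ∀ i, i < 4065 → P i := stepQ 4064 Q4064 (allL N4064 (tt N3086 F24978) (tt N3303 F24979) (tt N5195 (iv F35358)) (tt N5153 (iv F35046)) (tt N3081 F24980) (tt N5196 (iv F35365)) (tt N4064 F24981) (tt N3080 (iv D5385)) (tt N4064 F24982) (tt N5168 (iv F35214)))
theorem Q4066 : ∀ i, i < 4066 → P i := stepQ 4065 Q4065 (allL N4065 (tt N5192 (iv F35346)) (tt N4065 F24983) (tt N5154 (iv F35069)) (tt N3083 F24984) (tt N4808 (iv F32293)) (tt N5197 D7802) (tt N3082 (iv D5386)) (tt N5198 D7803) (tt N5199 D7804) (tt N5172 (iv F35235)))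
theorem Q4067 : ∀ i, i < 4067 → P i := stepQ 4066 Q4066 (allL N4066 (tt N5193 (iv F35348)) (tt N4066 F24985) (tt N5155 (iv F35071)) (tt N4066 F24986) (tt N4809 (iv F32295)) (tt N4066 F24987) (tt N5199 (iv F35375)) (tt N4066 F24988) (tt N3082 (iv D5387)) (tt N5200 D7805))
theorem Q4068 : ∀ i, i < 4068 → P i := stepQ 4067 Q4067 (allL N4067 (tt N5194 (iv F35352)) (tt N4067 F24989) (tt N3085 F24990) (tt N5197 (iv F35368)) (tt N4067 F24991) (tt N3083 (iv D5388)) (tt N4067 F24992) (tt N5201 D7806) (tt N4067 F24993) (tt N5174 (iv F35243)))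
theorem Q4069 : ∀ i, i < 4069 → P i := stepQ 4068 Q4068 (allL N4068 (tt N5195 (iv F35357)) (tt N4068 F24994) (tt N3086 F24995) (tt N5198 (iv F35371)) (tt N3084 F24996) (tt N5201 (iv F35383)) (tt N4068 F24997) (tt N3083 (iv D5389)) (tt N4068 F24998) (tt N5175 (iv F35248)))
theorem Q4070 : ∀ i, i < 4070 → P i := stepQ 4069 Q4069 (allL N4069 (tt N5196 (iv F35362)) (tt N3087 F24999) (tt N5201 (iv F35381)) (tt N5074 F201916) (tt N4069 F25000) (tt N3086 F25001) (tt N5075 F201917) (tt N3085 (iv D5390)) (tt N4069 F25002) (tt N5179 (iv F35281)))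
theorem Q4071 : ∀ i, i < 4071 → P i := stepQ 4070 Q4070 (allL N4070 (tt N3091 F25015) (tt N4565 F201127) (tt N3089 F25016) (tt N4834 (iv F32405)) (tt N5202 D7810) (tt N3088 (iv D5393)) (tt N5203 D7811) (tt N3102 F25017) (tt N4568 F201128) (tt N4070 F25018))
theorem Q4072 : ∀ i, i < 4072 → P i := stepQ 4071 Q4071 (allL N4071 (tt N3093 F25024) (tt N3308 F25025) (tt N5202 (iv F35402)) (tt N4071 F25026) (tt N3089 (iv D5395)) (tt N3129 F25027) (tt N5204 D7815) (tt N3103 F25028) (tt N4980 F201129) (tt N4071 F25029))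
theorem Q4073 : ∀ i, i < 4073 → P i := stepQ 4072 Q4072 (allL N4072 (tt N3094 F25030) (tt N3309 F25031) (tt N5203 (iv F35407)) (tt N3090 F25032) (tt N5204 (iv F35426)) (tt N4072 F25033) (tt N3089 (iv D5396)) (tt N5205 D7817) (tt N5011 F201089) (tt N4072 F25034))
theorem Q4074 : ∀ i, i < 4074 → P i := stepQ 4073 Q4073 (allL N4073 (tt N3096 F25045) (tt N3310 F25046) (tt N4840 (iv F32436)) (tt N5205 (iv F35435)) (tt N4073 F25047) (tt N4073 F25048) (tt N3105 F25049) (tt N3090 (iv D5399)) (tt N5097 (iv F34560)) (tt N4073 F25050))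
theorem Q4075 : ∀ i, i < 4075 → P i := stepQ 4074 Q4074 (allL N4074 (tt N5202 (iv F35401)) (tt N4074 F25051) (tt N3093 F25052) (tt N5206 D7820) (tt N3091 (iv D5400)) (tt N3131 F25053) (tt N5207 D7821) (tt N3106 F25054) (tt N5208 D7822) (tt N4074 F25055))
theorem Q4076 : ∀ i, i < 4076 → P i := stepQ 4075 Q4075 (allL N4075 (tt N5203 (iv F35406)) (tt N4075 F25056) (tt N3094 F25057) (tt N4842 (iv F32448)) (tt N5207 (iv F35455)) (tt N4075 F25058) (tt N3091 (iv D5401)) (tt N5209 D7823) (tt N5210 D7824) (tt N4075 F25059))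
theorem Q4077 : ∀ i, i < 4077 → P i := stepQ 4076 Q4076 (allL N4076 (tt N4568 F201091) (tt N4076 F25060) (tt N3095 F25061) (tt N5211 D7825) (tt N5208 (iv F35459)) (tt N3092 F25062) (tt N5210 (iv F35470)) (tt N3108 F25063) (tt N3091 (iv D5402)) (tt N4574 F201092))
theorem Q4078 : ∀ i, i < 4078 → P i := stepQ 4077 Q4077 (allL N4077 (tt N4567 F201113) (tt N4077 F25064) (tt N5101 (iv F34569)) (tt N3092 (iv D5403)) (tt N5212 D7827) (tt N5211 (iv F35472)) (tt N4077 F25065) (tt N3109 F25066) (tt N4844 (iv F32458)) (tt N4573 F201114))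
theorem Q4079 : ∀ i, i < 4079 → P i := stepQ 4078 Q4078 (allL N4078 (tt N5204 (iv F35423)) (tt N3097 F25073) (tt N5207 (iv F35454)) (tt N4078 F25074) (tt N3094 F25075) (tt N4988 (iv F201499)) (tt N3093 (iv D5405)) (tt N5006 (iv F201199)) (tt N4987 F201097) (tt N4078 F25076))
theorem Q4080 : ∀ i, i < 4080 → P i := stepQ 4079 Q4079 (allL N4079 (tt N4980 F201093) (tt N3098 F25077) (tt N5208 (iv F35458)) (tt N4989 F201094) (tt N3095 F25078) (tt N3136 F25079) (tt N4987 F201095) (tt N3111 F25080) (tt N3093 (iv D5406)) (tt N4985 F201096))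
theorem Q4081 : ∀ i, i < 4081 → P i := stepQ 4080 Q4080 (allL N4080 (tt N5205 (iv F35433)) (tt N3099 F25081) (tt N5209 (iv F35463)) (tt N3096 F25082) (tt N5006 (iv F201198)) (tt N4080 F25083) (tt N3112 F25084) (tt N3094 (iv D5407)) (tt N5004 F201088) (tt N4080 F25085))
theorem Q4082 : ∀ i, i < 4082 → P i := stepQ 4081 Q4081 (allL N4081 (tt N5011 (iv F200737)) (tt N3100 F25086) (tt N5210 (iv F35468)) (tt N5021 F200459) (tt N4987 (iv F200738)) (tt N4081 F25087) (tt N3095 F25088) (tt N5004 (iv F200733)) (tt N3094 (iv D5408)) (tt N5018 (iv F200742)))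
theorem Q4083 : ∀ i, i < 4083 → P i := stepQ 4082 Q4082 (allL N4082 (tt N3175 F200577) (tt N4985 (iv F200768)) (tt N4082 F25114) (tt N4982 (iv F200781)) (tt N3101 F25115) (tt N3141 F25116) (tt N4981 (iv F200790)) (tt N3117 F25117) (tt N4082 F25118) (tt N3098 (iv D5414)))
theorem Q4084 : ∀ i, i < 4084 → P i := stepQ 4083 Q4083 (allL N4083 (tt N3201 F200526) (tt N5018 (iv F200741)) (tt N4083 F25125) (tt N5012 F200527) (tt N4981 (iv F200789)) (tt N4083 F25126) (tt N3101 F25127) (tt N4995 (iv F200840)) (tt N4083 F25128) (tt N3100 (iv D5416)))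
theorem Q4085 : ∀ i, i < 4085 → P i := stepQ 4084 Q4084 (allL N4084 (tt N3106 F25138) (tt N4545 F201573) (tt N3103 F25139) (tt N5213 D7849) (tt N3102 (iv D5419)) (tt N3143 F25140) (tt N5214 D7850) (tt N5202 (iv F35404)) (tt N4548 F201574) (tt N4084 F25141))
theorem Q4086 : ∀ i, i < 4086 → P i := stepQ 4085 Q4085 (allL N4085 (tt N3107 F25142) (tt N4586 F201818) (tt N3104 F25143) (tt N4859 (iv F32537)) (tt N5214 (iv F35586)) (tt N3120 F25144) (tt N3102 (iv D5420)) (tt N5215 D7852) (tt N4591 F201819) (tt N4085 F25145))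
theorem Q4087 : ∀ i, i < 4087 → P i := stepQ 4086 Q4086 (allL N4086 (tt N3110 F25156) (tt N3313 F25157) (tt N5214 (iv F35585)) (tt N4086 F25158) (tt N3104 F25159) (tt N4086 F25160) (tt N3103 (iv D5424)) (tt N5216 D7858) (tt N4994 F201187) (tt N4086 F25161))
theorem Q4088 : ∀ i, i < 4088 → P i := stepQ 4087 Q4087 (allL N4087 (tt N3112 F25166) (tt N3314 F25167) (tt N5215 (iv F35594)) (tt N3105 F25168) (tt N5216 (iv F35616)) (tt N3121 F25169) (tt N5205 (iv F35437)) (tt N3104 (iv D5426)) (tt N5030 F201223) (tt N4087 F25170))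
theorem Q4089 : ∀ i, i < 4089 → P i := stepQ 4088 Q4088 (allL N4088 (tt N5213 (iv F35580)) (tt N4088 F25179) (tt N4088 F25180) (tt N3106 (iv D5429)) (tt N4867 (iv F32575)) (tt N3144 F25181) (tt N5217 D7864) (tt N5206 (iv F35451)) (tt N5218 D7865) (tt N4088 F25182))
theorem Q4090 : ∀ i, i < 4090 → P i := stepQ 4089 Q4089 (allL N4089 (tt N5214 (iv F35584)) (tt N4089 F25183) (tt N3110 F25184) (tt N5217 (iv F35644)) (tt N3107 F25185) (tt N4089 F25186) (tt N3106 (iv D5430)) (tt N5219 D7866) (tt N5220 D7867) (tt N4089 F25187))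
theorem Q4091 : ∀ i, i < 4091 → P i := stepQ 4090 Q4090 (allL N4090 (tt N4548 F201571) (tt N4090 F25188) (tt N3111 F25189) (tt N5221 D7868) (tt N3108 F25190) (tt N3145 F25191) (tt N5220 (iv F35659)) (tt N5208 (iv F35461)) (tt N3106 (iv D5431)) (tt N4554 F201572))
theorem Q4092 : ∀ i, i < 4092 → P i := stepQ 4091 Q4091 (allL N4091 (tt N5215 (iv F35593)) (tt N4091 F25192) (tt N3112 F25193) (tt N4870 (iv F32588)) (tt N5219 (iv F35652)) (tt N3122 F25194) (tt N5209 (iv F35465)) (tt N3107 (iv D5432)) (tt N5222 D7870) (tt N4091 F25195))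
theorem Q4093 : ∀ i, i < 4093 → P i := stepQ 4092 Q4092 (allL N4092 (tt N4591 F201816) (tt N4092 F25196) (tt N3113 F25197) (tt N5223 D7871) (tt N5220 (iv F35657)) (tt N3123 F25198) (tt N3108 F25199) (tt N5222 (iv F35670)) (tt N3107 (iv D5433)) (tt N4600 F201817))
theorem Q4094 : ∀ i, i < 4094 → P i := stepQ 4093 Q4093 (allL N4093 (tt N4589 F201865) (tt N4093 F25200) (tt N5127 (iv F34778)) (tt N3108 (iv D5434)) (tt N5224 D7873) (tt N3109 F25201) (tt N5223 (iv F35673)) (tt N5211 (iv F35473)) (tt N4872 (iv F32597)) (tt N4598 F201866))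
theorem Q4095 : ∀ i, i < 4095 → P i := stepQ 4094 Q4094 (allL N4094 (tt N4310 F201977) (tt N4094 F25206) (tt N5128 (iv F34782)) (tt N3147 F25207) (tt N3109 (iv D5436)) (tt N5225 D7875) (tt N3125 F25208) (tt N5212 (iv F35482)) (tt N4874 (iv F32605)) (tt N4316 F201978))
theorem Q4096 : ∀ i, i < 4096 → P i := stepQ 4095 Q4095 (allL N4095 (tt N5216 (iv F35613)) (tt N3114 F25212) (tt N5219 (iv F35651)) (tt N4095 F25213) (tt N3112 F25214) (tt N4095 F25215) (tt N5006 F201596) (tt N3110 (iv D5438)) (tt N5005 F201597) (tt N4095 F25216))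
theorem Q4097 : ∀ i, i < 4097 → P i := stepQ 4096 Q4096 (allL N4096 (tt N4994 F201183) (tt N3115 F25217) (tt N5220 (iv F35656)) (tt N5007 F201184) (tt N3113 F25218) (tt N4096 F25219) (tt N3111 F25220) (tt N5005 F201185) (tt N3110 (iv D5439)) (tt N5001 F201186))
theorem Q4098 : ∀ i, i < 4098 → P i := stepQ 4097 Q4097 (allL N4097 (tt N4993 (iv F201200)) (tt N3116 F25221) (tt N5226 D7881) (tt N3111 (iv D5440)) (tt N5025 F201101) (tt N3148 F25222) (tt N5007 (iv F201172)) (tt N4989 F201102) (tt N4097 F25223) (tt N4999 (iv F201195)))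
theorem Q4099 : ∀ i, i < 4099 → P i := stepQ 4098 Q4098 (allL N4098 (tt N5030 F201074) (tt N3118 F25228) (tt N5222 (iv F35668)) (tt N5044 F201075) (tt N5005 (iv F201171)) (tt N3126 F25229) (tt N5004 F201076) (tt N3113 F25230) (tt N3112 (iv D5442)) (tt N5039 F201077))
theorem Q4100 : ∀ i, i < 4100 → P i := stepQ 4099 Q4099 (allL N4099 (tt N3189 F201188) (tt N5001 F201189) (tt N4099 F25245) (tt N4997 F201190) (tt N3119 F25246) (tt N4099 F25247) (tt N3117 F25248) (tt N4996 F201191) (tt N4099 F25249) (tt N3115 (iv D5446)))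
theorem Q4101 : ∀ i, i < 4101 → P i := stepQ 4100 Q4100 (allL N4100 (tt N3187 F201150) (tt N4999 (iv F201194)) (tt N4983 F201151) (tt N3117 F25255) (tt N5014 F201152) (tt N3150 F25256) (tt N4997 F201153) (tt N4982 F201154) (tt N5227 D7890) (tt N3116 (iv D5448)))
theorem Q4102 : ∀ i, i < 4102 → P i := stepQ 4101 Q4101 (allL N4101 (tt N3214 (iv F200877)) (tt N5039 F200836) (tt N4101 F25258) (tt N5031 F200837) (tt N4996 F200838) (tt N3127 F25259) (tt N4995 (iv F200839)) (tt N3119 F25260) (tt N4101 F25261) (tt N3118 (iv D5449)))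
theorem Q4103 : ∀ i, i < 4103 → P i := stepQ 4102 Q4102 (allL N4102 (tt N3122 F25282) (tt N4617 F201856) (tt N3121 F25283) (tt N4893 (iv F32709)) (tt N4102 F25284) (tt N5215 (iv F35595)) (tt N4102 F25285) (tt N3120 (iv D5454)) (tt N4624 F201857) (tt N4102 F25286))
theorem Q4104 : ∀ i, i < 4104 → P i := stepQ 4103 Q4103 (allL N4103 (tt N4624 F201854) (tt N4103 F25316) (tt N3126 F25317) (tt N5228 D7907) (tt N4103 F25318) (tt N5222 (iv F35669)) (tt N4103 F25319) (tt N3123 F25320) (tt N3122 (iv D5462)) (tt N4637 F201855))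
theorem Q4105 : ∀ i, i < 4105 → P i := stepQ 4104 Q4104 (allL N4104 (tt N4621 F202581) (tt N4104 F25321) (tt N5161 (iv F35092)) (tt N3123 (iv D5463)) (tt N5229 D7909) (tt N5223 (iv F35672)) (tt N3124 F25322) (tt N5228 (iv F35814)) (tt N4909 (iv F32796)) (tt N4634 F202582))
theorem Q4106 : ∀ i, i < 4106 → P i := stepQ 4105 Q4105 (allL N4105 (tt N4620 F202823) (tt N4105 F25328) (tt N5162 (iv F35096)) (tt N4105 F25329) (tt N3124 (iv D5465)) (tt N5230 D7911) (tt N5229 (iv F35823)) (tt N4105 F25330) (tt N4911 (iv F32803)) (tt N4633 F202824))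
theorem Q4107 : ∀ i, i < 4107 → P i := stepQ 4106 Q4106 (allL N4106 (tt N4328 F202821) (tt N4106 F25335) (tt N5163 (iv F35102)) (tt N3151 F25336) (tt N5230 (iv F35829)) (tt N3125 (iv D5467)) (tt N5231 D7914) (tt N4106 F25337) (tt N4913 (iv F32811)) (tt N4337 F202822))
theorem Q4108 : ∀ i, i < 4108 → P i := stepQ 4107 Q4107 (allL N4107 (tt N3131 F25361) (tt N4529 F201995) (tt N3129 F25362) (tt N5232 D7922) (tt N3128 (iv D5473)) (tt N5202 (iv F35403)) (tt N5233 D7923) (tt N3143 F25363) (tt N4531 F201996) (tt N4107 F25364))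
theorem Q4109 : ∀ i, i < 4109 → P i := stepQ 4108 Q4108 (allL N4108 (tt N3132 F25365) (tt N4517 F202081) (tt N3130 F25366) (tt N4108 F25367) (tt N5233 (iv F35883)) (tt N4108 F25368) (tt N3128 (iv D5474)) (tt N4108 F25369) (tt N4519 F202082) (tt N4108 F25370))
theorem Q4110 : ∀ i, i < 4110 → P i := stepQ 4109 Q4109 (allL N4109 (tt N3135 F25385) (tt N3316 F25386) (tt N5233 (iv F35882)) (tt N4109 F25387) (tt N3130 F25388) (tt N5234 D7930) (tt N3129 (iv D5478)) (tt N4109 F25389) (tt N4970 F201999) (tt N4109 F25390))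
theorem Q4111 : ∀ i, i < 4111 → P i := stepQ 4110 Q4110 (allL N4110 (tt N5232 (iv F35876)) (tt N4110 F25407) (tt N4110 F25408) (tt N3131 (iv D5482)) (tt N4110 F25409) (tt N5206 (iv F35450)) (tt N5235 D7935) (tt N3144 F25410) (tt N5236 D7936) (tt N4110 F25411))
theorem Q4112 : ∀ i, i < 4112 → P i := stepQ 4111 Q4111 (allL N4111 (tt N5233 (iv F35881)) (tt N4111 F25412) (tt N3135 F25413) (tt N5235 (iv F35945)) (tt N3132 F25414) (tt N5237 D7937) (tt N3131 (iv D5483)) (tt N4111 F25415) (tt N5238 D7938) (tt N4111 F25416))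
theorem Q4113 : ∀ i, i < 4113 → P i := stepQ 4112 Q4112 (allL N4112 (tt N4531 F201924) (tt N4112 F25417) (tt N3136 F25418) (tt N5239 D7939) (tt N3133 F25419) (tt N5208 (iv F35460)) (tt N5238 (iv F35961)) (tt N3145 F25420) (tt N3131 (iv D5484)) (tt N4535 F201925))
theorem Q4114 : ∀ i, i < 4114 → P i := stepQ 4113 Q4113 (allL N4113 (tt N4519 F202078) (tt N4113 F25421) (tt N3137 F25422) (tt N5240 D7941) (tt N5238 (iv F35960)) (tt N4113 F25423) (tt N3133 F25424) (tt N4113 F25425) (tt N3132 (iv D5485)) (tt N4522 F202079))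
theorem Q4115 : ∀ i, i < 4115 → P i := stepQ 4114 Q4114 (allL N4114 (tt N4280 F202076) (tt N4114 F25426) (tt N4114 F25427) (tt N3133 (iv D5486)) (tt N5241 D7943) (tt N3134 F25428) (tt N5240 (iv F35973)) (tt N3146 F25429) (tt N4114 F25430) (tt N4283 F202077))
theorem Q4116 : ∀ i, i < 4116 → P i := stepQ 4115 Q4115 (allL N4115 (tt N4299 F201981) (tt N4115 F25436) (tt N4115 F25437) (tt N5212 (iv F35480)) (tt N3134 (iv D5488)) (tt N5242 D7945) (tt N4115 F25438) (tt N3147 F25439) (tt N4115 F25440) (tt N4303 F201982))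
theorem Q4117 : ∀ i, i < 4117 → P i := stepQ 4116 Q4116 (allL N4116 (tt N5234 (iv F35915)) (tt N3138 F25446) (tt N5237 (iv F35954)) (tt N4116 F25447) (tt N4116 F25448) (tt N3135 (iv D5490)) (tt N4988 F201930) (tt N4116 F25449) (tt N4975 F201931) (tt N4116 F25450))
theorem Q4118 : ∀ i, i < 4118 → P i := stepQ 4117 Q4117 (allL N4117 (tt N4970 F201926) (tt N3139 F25451) (tt N5238 (iv F35959)) (tt N4976 F201927) (tt N3137 F25452) (tt N4975 F201928) (tt N3136 F25453) (tt N4117 F25454) (tt N3135 (iv D5491)) (tt N4974 F201929))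
theorem Q4119 : ∀ i, i < 4119 → P i := stepQ 4118 Q4118 (allL N4118 (tt N4979 (iv F201500)) (tt N3140 F25455) (tt N5243 D7951) (tt N3136 (iv D5492)) (tt N4118 F25456) (tt N4989 F201100) (tt N4976 (iv F201503)) (tt N3148 F25457) (tt N4118 F25458) (tt N4984 (iv F201491)))
theorem Q4120 : ∀ i, i < 4120 → P i := stepQ 4119 Q4119 (allL N4119 (tt N3163 F201299) (tt N4974 (iv F201543)) (tt N4119 F25480) (tt N4972 (iv F201581)) (tt N3142 F25481) (tt N4971 (iv F201591)) (tt N3141 F25482) (tt N4119 F25483) (tt N4119 F25484) (tt N3139 (iv D5497)))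
theorem Q4121 : ∀ i, i < 4121 → P i := stepQ 4120 Q4120 (allL N4120 (tt N3174 F201160) (tt N4984 (iv F201490)) (tt N4973 F201161) (tt N3141 F25491) (tt N4120 F25492) (tt N4982 F201162) (tt N4972 (iv F201582)) (tt N3150 F25493) (tt N5244 D7959) (tt N3140 (iv D5499)))
theorem Q4122 : ∀ i, i < 4122 → P i := stepQ 4121 Q4121 (allL N4121 (tt N3144 F25513) (tt N4544 F202420) (tt N4121 F25514) (tt N3143 (iv D5504)) (tt N4121 F25515) (tt N5213 (iv F35582)) (tt N4121 F25516) (tt N5232 (iv F35879)) (tt N5245 D7967) (tt N4121 F25517))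
theorem Q4123 : ∀ i, i < 4123 → P i := stepQ 4122 Q4122 (allL N4122 (tt N5245 (iv F36096)) (tt N4122 F25550) (tt N4122 F25551) (tt N5246 D7977) (tt N4122 F25552) (tt N5218 (iv F35649)) (tt N4122 F25553) (tt N5236 (iv F35952)) (tt N3144 (iv D5512)) (tt N5247 D7978))
theorem Q4124 : ∀ i, i < 4124 → P i := stepQ 4123 Q4123 (allL N4123 (tt N4547 F202411) (tt N4123 F25554) (tt N5248 D7979) (tt N3145 (iv D5513)) (tt N5249 D7980) (tt N5221 (iv F35661)) (tt N4123 F25555) (tt N5239 (iv F35964)) (tt N5246 (iv F36139)) (tt N4553 F202412))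
theorem Q4125 : ∀ i, i < 4125 → P i := stepQ 4124 Q4124 (allL N4124 (tt N4288 F202878) (tt N4124 F25561) (tt N4124 F25562) (tt N5249 (iv F36148)) (tt N3146 (iv D5515)) (tt N5250 D7982) (tt N4124 F25563) (tt N5241 (iv F35984)) (tt N4124 F25564) (tt N4292 F202879))
theorem Q4126 : ∀ i, i < 4126 → P i := stepQ 4125 Q4125 (allL N4125 (tt N4311 F202850) (tt N4125 F25570) (tt N4125 F25571) (tt N5225 (iv F35684)) (tt N5250 (iv F36155)) (tt N3147 (iv D5517)) (tt N5251 D7985) (tt N5242 (iv F35993)) (tt N4125 F25572) (tt N4317 F202851))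
theorem Q4127 : ∀ i, i < 4127 → P i := stepQ 4126 Q4126 (allL N4126 (tt N4992 (iv F202031)) (tt N5252 D7988) (tt N3148 (iv D5520)) (tt N5248 (iv F36145)) (tt N4126 F25582) (tt N5226 (iv F35705)) (tt N4126 F25583) (tt N5243 (iv F36021)) (tt N4126 F25584) (tt N4998 (iv F202026)))
theorem Q4128 : ∀ i, i < 4128 → P i := stepQ 4127 Q4127 (allL N4127 (tt N4127 F197727) (tt N3149 (iv D5522)) (tt N5252 (iv F36179)) (tt N4127 F25589) (tt N4127 F25590) (tt N4541 F201147) (tt N4127 F25591) (tt N4526 F201148) (tt N4127 F25592) (tt N5253 D7992))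
theorem Q4129 : ∀ i, i < 4129 → P i := stepQ 4128 Q4128 (allL N4128 (tt N3186 F201157) (tt N5253 (iv F36196)) (tt N3150 F25594) (tt N4128 F25595) (tt N4128 F25596) (tt N4983 F201158) (tt N4128 F25597) (tt N4973 F201159) (tt N5254 D7993) (tt N3149 (iv D5523)))
theorem Q4130 : ∀ i, i < 4130 → P i := stepQ 4129 Q4129 (allL N4129 (tt N3188 F202018) (tt N5000 (iv F202030)) (tt N5254 (iv F36201)) (tt N4129 F25599) (tt N4129 F25600) (tt N5227 (iv F35742)) (tt N4129 F25601) (tt N5244 (iv F36060)) (tt N3150 (iv D5524)) (tt N4129 F25602))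
theorem Q4131 : ∀ i, i < 4131 → P i := stepQ 4130 Q4130 (allL N4130 (tt N4330 F203684) (tt N4130 F25633) (tt N4130 F25634) (tt N5231 (iv F35840)) (tt N4130 F25635) (tt N5251 (iv F36169)) (tt N3151 (iv D5531)) (tt N5255 D8002) (tt N4130 F25636) (tt N4339 F203685))
theorem Q4132 : ∀ i, i < 4132 → P i := stepQ 4131 Q4131 (allL N4131 (tt N4131 F25647) (tt N4131 F25648) (tt N3152 (iv D5534)) (tt N4131 F25649) (tt N4131 F25650) (tt N5256 D8006) (tt N3167 F25651) (tt N4131 F25652) (tt N5257 D8007) (tt N3320 F203866))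
theorem Q4133 : ∀ i, i < 4133 → P i := stepQ 4132 Q4132 (allL N4132 (tt N4132 F25653) (tt N3154 F25654) (tt N5256 (iv F36266)) (tt N3153 F25655) (tt N5258 D8009) (tt N3152 (iv D5535)) (tt N4132 F25656) (tt N4132 F25657) (tt N5259 D8010) (tt N3319 F203868))
theorem Q4134 : ∀ i, i < 4134 → P i := stepQ 4133 Q4133 (allL N4133 (tt N4133 F25658) (tt N3155 F25659) (tt N5257 (iv F36272)) (tt N4133 F25660) (tt N4133 F25661) (tt N5259 (iv F36292)) (tt N3168 F25662) (tt N4133 F25663) (tt N3152 (iv D5536)) (tt N4133 F195442))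
theorem Q4135 : ∀ i, i < 4135 → P i := stepQ 4134 Q4134 (allL N4134 (tt N4964 (iv F33144)) (tt N5258 (iv F36284)) (tt N4134 F25691) (tt N4134 F25692) (tt N3154 (iv D5541)) (tt N4134 F25693) (tt N4134 F25694) (tt N4134 F25695) (tt N5260 D8018) (tt N5261 D8019))
theorem Q4136 : ∀ i, i < 4136 → P i := stepQ 4135 Q4135 (allL N4135 (tt N4965 (iv F33151)) (tt N5259 (iv F36290)) (tt N4135 F25696) (tt N4135 F25697) (tt N5260 (iv F36339)) (tt N3155 F25698) (tt N4135 F25699) (tt N4135 F25700) (tt N3154 (iv D5542)) (tt N4135 F195444))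
theorem Q4137 : ∀ i, i < 4137 → P i := stepQ 4136 Q4136 (allL N4136 (tt N4966 (iv F33158)) (tt N3319 (iv F203432)) (tt N4136 F25701) (tt N3157 F25702) (tt N5261 (iv F36345)) (tt N3156 F25703) (tt N4136 F25704) (tt N4136 F25705) (tt N4136 F195382) (tt N3154 (iv D5543)))
theorem Q4138 : ∀ i, i < 4138 → P i := stepQ 4137 Q4137 (allL N4137 (tt N4967 (iv F33204)) (tt N4137 F25734) (tt N4137 F195267) (tt N3158 (iv D5550)) (tt N5262 D8031) (tt N3159 F25735) (tt N4137 F25736) (tt N4137 F25737) (tt N4137 F25738) (tt N4137 F25739))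
theorem Q4139 : ∀ i, i < 4139 → P i := stepQ 4138 Q4138 (allL N4138 (tt N4968 (iv F33215)) (tt N4138 F25744) (tt N4138 F195061) (tt N3160 F25745) (tt N3159 (iv D5552)) (tt N5263 D8034) (tt N3169 F25746) (tt N4138 F25747) (tt N4138 F25748) (tt N4138 F25749))
theorem Q4140 : ∀ i, i < 4140 → P i := stepQ 4139 Q4139 (allL N4139 (tt N4969 (iv F33232)) (tt N4139 F25761) (tt N3317 (iv F201671)) (tt N5263 (iv F36415)) (tt N4139 F25762) (tt N3160 (iv D5555)) (tt N5264 D8039) (tt N4139 F25763) (tt N3162 F25764) (tt N4139 F25765))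
theorem Q4141 : ∀ i, i < 4141 → P i := stepQ 4140 Q4140 (allL N4140 (tt N4971 (iv F33247)) (tt N3165 F195509) (tt N4140 F25777) (tt N3161 (iv D5558)) (tt N4140 F25778) (tt N3163 F195510) (tt N3171 F25779) (tt N4140 F25780) (tt N4140 F195050) (tt N3164 F25781))
theorem Q4142 : ∀ i, i < 4142 → P i := stepQ 4141 Q4141 (allL N4141 (tt N4972 (iv F33253)) (tt N3164 (iv F195487)) (tt N3162 F25782) (tt N3163 (iv F195491)) (tt N4141 F25783) (tt N3161 (iv D5559)) (tt N3174 (iv F195490)) (tt N4141 F25784) (tt N3317 (iv F201673)) (tt N3165 F25785))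
theorem Q4143 : ∀ i, i < 4143 → P i := stepQ 4142 Q4142 (allL N4142 (tt N4973 (iv F33258)) (tt N4142 F25786) (tt N3174 (iv F195489)) (tt N4142 F25787) (tt N4142 F25788) (tt N3173 F25789) (tt N3162 (iv D5560)) (tt N3186 (iv F195493)) (tt N5264 (iv F36442)) (tt N3166 F25790))
theorem Q4144 : ∀ i, i < 4144 → P i := stepQ 4143 Q4143 (allL N4143 (tt N4143 F25823) (tt N4143 F25824) (tt N3168 F25825) (tt N5265 D8058) (tt N4143 F25826) (tt N4143 F25827) (tt N5257 (iv F36274)) (tt N3180 F25828) (tt N3167 (iv D5568)) (tt N4143 F195443))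
theorem Q4145 : ∀ i, i < 4145 → P i := stepQ 4144 Q4144 (allL N4144 (tt N4977 (iv F33345)) (tt N4144 F25900) (tt N4144 F194742) (tt N3170 F25901) (tt N4144 F25902) (tt N3169 (iv D5584)) (tt N5266 D8083) (tt N3181 F25903) (tt N4144 F25904) (tt N4144 F25905))
theorem Q4146 : ∀ i, i < 4146 → P i := stepQ 4145 Q4145 (allL N4145 (tt N4978 (iv F33369)) (tt N4145 F25923) (tt N3311 (iv F200887)) (tt N5266 (iv F36642)) (tt N3194 F25924) (tt N5264 (iv F36441)) (tt N3170 (iv D5589)) (tt N5267 D8090) (tt N3173 F25925) (tt N4145 F25926))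
theorem Q4147 : ∀ i, i < 4147 → P i := stepQ 4146 Q4146 (allL N4146 (tt N4981 (iv F33385)) (tt N3178 F195600) (tt N4146 F25940) (tt N3172 F25941) (tt N3201 (iv F195663)) (tt N3171 (iv D5593)) (tt N3175 F195601) (tt N3183 F25942) (tt N4146 F194725) (tt N3176 F25943))
theorem Q4148 : ∀ i, i < 4148 → P i := stepQ 4147 Q4147 (allL N4147 (tt N4982 (iv F33394)) (tt N3176 (iv F195544)) (tt N3173 F25947) (tt N3175 (iv F195551)) (tt N3196 F25948) (tt N3174 F195513) (tt N3172 (iv D5595)) (tt N3187 (iv F195550)) (tt N3311 (iv F200888)) (tt N3178 F25949))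
theorem Q4149 : ∀ i, i < 4149 → P i := stepQ 4148 Q4148 (allL N4148 (tt N4983 (iv F33398)) (tt N4148 F25950) (tt N3187 (iv F195549)) (tt N4148 F25951) (tt N3197 F25952) (tt N3186 F195515) (tt N3185 F25953) (tt N3173 (iv D5596)) (tt N5267 (iv F36672)) (tt N3179 F25954))
theorem Q4150 : ∀ i, i < 4150 → P i := stepQ 4149 Q4149 (allL N4149 (tt N5244 (iv F201583)) (tt N3177 F25970) (tt N5264 F195476) (tt N4149 F25971) (tt N4149 F25972) (tt N3311 F201278) (tt N3317 (iv F201672)) (tt N3188 F25973) (tt N3174 (iv D5601)) (tt N4149 F195243))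
theorem Q4151 : ∀ i, i < 4151 → P i := stepQ 4150 Q4150 (allL N4150 (tt N4150 F25996) (tt N4150 F25997) (tt N4150 F25998) (tt N3180 (iv D5608)) (tt N5268 D8118) (tt N4150 F25999) (tt N4150 F26000) (tt N5265 (iv F36529)) (tt N4150 F26001) (tt N4150 F195445))
theorem Q4152 : ∀ i, i < 4152 → P i := stepQ 4151 Q4151 (allL N4151 (tt N4990 (iv F33523)) (tt N4151 F26109) (tt N4151 F194366) (tt N3182 F26110) (tt N4151 F26111) (tt N4151 F26112) (tt N3181 (iv D5633)) (tt N5269 D8156) (tt N4151 F26113) (tt N4151 F26114))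
theorem Q4153 : ∀ i, i < 4153 → P i := stepQ 4152 Q4152 (allL N4152 (tt N4991 (iv F33553)) (tt N4152 F26137) (tt N3315 (iv F201312)) (tt N5269 (iv F36945)) (tt N3206 F26138) (tt N4152 F26139) (tt N5267 (iv F36671)) (tt N3182 (iv D5640)) (tt N3185 F26140) (tt N4152 F26141))
theorem Q4154 : ∀ i, i < 4154 → P i := stepQ 4153 Q4153 (allL N4153 (tt N4995 (iv F33581)) (tt N3205 F195774) (tt N4153 F26166) (tt N3207 F26167) (tt N3183 (iv D5647)) (tt N4153 F26168) (tt N3214 (iv F195909)) (tt N3201 F195775) (tt N4153 F194345) (tt N3190 F26169))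
theorem Q4155 : ∀ i, i < 4155 → P i := stepQ 4154 Q4154 (allL N4154 (tt N4996 (iv F33586)) (tt N3193 F195779) (tt N4154 F26170) (tt N3184 F26171) (tt N3214 (iv F195908)) (tt N4154 F26172) (tt N3183 (iv D5648)) (tt N3189 F195780) (tt N4154 F194352) (tt N3191 F26173))
theorem Q4156 : ∀ i, i < 4156 → P i := stepQ 4155 Q4155 (allL N4155 (tt N4997 (iv F33599)) (tt N3191 (iv F195665)) (tt N3185 F26180) (tt N3189 (iv F195674)) (tt N3209 F26181) (tt N4155 F26182) (tt N3187 F195606) (tt N3184 (iv D5651)) (tt N3315 (iv F201314)) (tt N3193 F26183))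
theorem Q4157 : ∀ i, i < 4157 → P i := stepQ 4156 Q4156 (allL N4156 (tt N5254 (iv F201578)) (tt N4156 F26202) (tt N3188 F26203) (tt N5270 D8195) (tt N4156 F26204) (tt N5267 (iv F195492)) (tt N4156 F26205) (tt N5264 F195478) (tt N3186 (iv D5657)) (tt N4156 F195247))
theorem Q4158 : ∀ i, i < 4158 → P i := stepQ 4157 Q4157 (allL N4157 (tt N5014 (iv F195645)) (tt N3190 F26206) (tt N3197 F195604) (tt N3211 F26207) (tt N3187 (iv D5658)) (tt N4157 F26208) (tt N3209 (iv F195670)) (tt N3196 F195605) (tt N3312 (iv F200875)) (tt N3205 (iv F195672)))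
theorem Q4159 : ∀ i, i < 4159 → P i := stepQ 4158 Q4158 (allL N4158 (tt N5227 (iv F201576)) (tt N3192 F26212) (tt N5267 F195511) (tt N4158 F26213) (tt N3312 F201270) (tt N3188 F26214) (tt N3315 (iv F201313)) (tt N3311 F201271) (tt N3187 (iv D5660)) (tt N4158 F195023))
theorem Q4160 : ∀ i, i < 4160 → P i := stepQ 4159 Q4159 (allL N4159 (tt N5008 (iv F33723)) (tt N4159 F26308) (tt N3312 (iv F200874)) (tt N4159 F26309) (tt N5267 (iv F36670)) (tt N4159 F26310) (tt N3206 F26311) (tt N3194 (iv D5682)) (tt N3197 F26312) (tt N4159 F26313))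
theorem Q4161 : ∀ i, i < 4161 → P i := stepQ 4160 Q4160 (allL N4160 (tt N5012 (iv F33755)) (tt N3203 F195776) (tt N3236 F26341) (tt N3201 F195777) (tt N3195 (iv D5689)) (tt N4160 F26342) (tt N3199 F195778) (tt N3207 F26343) (tt N3242 F200166) (tt N3202 F26344))
theorem Q4162 : ∀ i, i < 4162 → P i := stepQ 4161 Q4161 (allL N4161 (tt N5013 (iv F33760)) (tt N3202 (iv F195662)) (tt N3237 F26345) (tt N3196 F26346) (tt N3199 (iv F195673)) (tt N4161 F26347) (tt N3195 (iv D5690)) (tt N3211 (iv F195671)) (tt N3243 F200146) (tt N3203 F26348))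
theorem Q4163 : ∀ i, i < 4163 → P i := stepQ 4162 Q4162 (allL N4162 (tt N5026 (iv F200296)) (tt N3238 F200158) (tt N3199 F26379) (tt N4162 F26380) (tt N3237 F195790) (tt N3198 (iv D5698)) (tt N3236 (iv F195913)) (tt N3210 F26381) (tt N3234 (iv F200016)) (tt N3204 F200159))
theorem Q4164 : ∀ i, i < 4164 → P i := stepQ 4163 Q4163 (allL N4163 (tt N5093 (iv F200052)) (tt N3204 F26393) (tt N3234 (iv F200015)) (tt N4163 F26394) (tt N3243 (iv F200053)) (tt N3200 F26395) (tt N3242 (iv F200050)) (tt N3213 F26396) (tt N3199 (iv D5702)) (tt N3238 (iv F200014)))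
theorem Q4165 : ∀ i, i < 4165 → P i := stepQ 4164 Q4164 (allL N4164 (tt N5031 (iv F33964)) (tt N3217 F196099) (tt N3250 F26556) (tt N3214 F196100) (tt N3208 F26557) (tt N3225 (iv F196323)) (tt N3207 (iv D5744)) (tt N3212 F196101) (tt N3257 F200591) (tt N3215 F26558))
theorem Q4166 : ∀ i, i < 4166 → P i := stepQ 4165 Q4165 (allL N4165 (tt N5032 (iv F33972)) (tt N3215 (iv F195907)) (tt N3252 F26562) (tt N3209 F26563) (tt N3212 (iv F195924)) (tt N3220 F26564) (tt N3211 F195786) (tt N3208 (iv D5746)) (tt N3258 F200352) (tt N3217 F26565))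
theorem Q4167 : ∀ i, i < 4167 → P i := stepQ 4166 Q4166 (allL N4166 (tt N5049 (iv F200285)) (tt N3251 (iv F200347)) (tt N3211 F26600) (tt N3239 F195787) (tt N3210 (iv D5757)) (tt N4166 F26601) (tt N3252 (iv F195923)) (tt N3237 F195788) (tt N3247 (iv F200342)) (tt N3216 F200147))
theorem Q4168 : ∀ i, i < 4168 → P i := stepQ 4167 Q4167 (allL N4167 (tt N5050 (iv F200826)) (tt N3253 (iv F200359)) (tt N3212 F26603) (tt N4167 F26604) (tt N3252 F196117) (tt N3222 F26605) (tt N3210 (iv D5758)) (tt N3250 (iv F196326)) (tt N3248 (iv F200358)) (tt N3218 F200596))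
theorem Q4169 : ∀ i, i < 4169 → P i := stepQ 4168 Q4168 (allL N4168 (tt N5115 (iv F200340)) (tt N3216 F26619) (tt N3247 (iv F200341)) (tt N3244 (iv F200409)) (tt N3213 F26620) (tt N4168 F26621) (tt N3258 (iv F200344)) (tt N3243 F200189) (tt N3211 (iv D5763)) (tt N3251 (iv F200346)))
theorem Q4170 : ∀ i, i < 4170 → P i := stepQ 4169 Q4169 (allL N4169 (tt N5117 (iv F200412)) (tt N3218 F26625) (tt N3248 (iv F200357)) (tt N4169 F26626) (tt N3258 (iv F200343)) (tt N3226 F26627) (tt N3213 F26628) (tt N3257 (iv F200411)) (tt N3212 (iv D5765)) (tt N3253 (iv F200356)))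
theorem Q4171 : ∀ i, i < 4171 → P i := stepQ 4170 Q4170 (allL N4170 (tt N5055 (iv F34273)) (tt N3228 F196600) (tt N3264 F26875) (tt N4170 F26876) (tt N3225 F196601) (tt N3219 (iv D5826)) (tt N4170 F26877) (tt N3223 F196602) (tt N3271 (iv F200949)) (tt N3227 F26878))
theorem Q4172 : ∀ i, i < 4172 → P i := stepQ 4171 Q4171 (allL N4171 (tt N5056 (iv F34278)) (tt N3227 (iv F196322)) (tt N3265 F26879) (tt N4171 F26880) (tt N3220 F26881) (tt N3223 (iv F196347)) (tt N4171 F26882) (tt N3219 (iv D5827)) (tt N3272 F200938) (tt N3228 F26883))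
theorem Q4173 : ∀ i, i < 4173 → P i := stepQ 4172 Q4172 (allL N4172 (tt N5080 (iv F201667)) (tt N3267 F201326) (tt N4172 F26946) (tt N3221 (iv D5845)) (tt N4172 F26947) (tt N4172 F26948) (tt N3292 F197374) (tt N4172 F26949) (tt N3290 (iv F201361)) (tt N3230 F201327))
theorem Q4174 : ∀ i, i < 4174 → P i := stepQ 4173 Q4173 (allL N4173 (tt N5079 (iv F201625)) (tt N3266 (iv F200944)) (tt N3223 F26951) (tt N3292 (iv F197009)) (tt N3222 F26952) (tt N3265 F196626) (tt N3221 (iv D5846)) (tt N3264 (iv F196979)) (tt N3262 (iv F200946)) (tt N3229 F201311))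
theorem Q4175 : ∀ i, i < 4175 → P i := stepQ 4174 Q4174 (allL N4174 (tt N5081 (iv F200832)) (tt N3268 (iv F200930)) (tt N3225 F26959) (tt N4174 F26960) (tt N3264 (iv F196978)) (tt N3250 F196598) (tt N4174 F26961) (tt N3222 (iv D5848)) (tt N3263 (iv F200928)) (tt N3231 F200603))
theorem Q4176 : ∀ i, i < 4176 → P i := stepQ 4175 Q4175 (allL N4175 (tt N5146 (iv F200992)) (tt N3229 F26990) (tt N3262 (iv F200945)) (tt N3307 (iv F200993)) (tt N3226 F26991) (tt N3272 (iv F200933)) (tt N3224 F26992) (tt N3271 (iv F200948)) (tt N3223 (iv D5856)) (tt N3266 (iv F200943)))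
theorem Q4177 : ∀ i, i < 4177 → P i := stepQ 4176 Q4176 (allL N4176 (tt N5147 (iv F201001)) (tt N3230 F26993) (tt N3281 (iv F201002)) (tt N3224 (iv D5857)) (tt N4176 F26994) (tt N4176 F26995) (tt N3307 (iv F200994)) (tt N4176 F26996) (tt N4176 F26997) (tt N3267 (iv F200960)))
theorem Q4178 : ∀ i, i < 4178 → P i := stepQ 4177 Q4177 (allL N4177 (tt N5148 (iv F200841)) (tt N3231 F27002) (tt N3263 (iv F200927)) (tt N4177 F27003) (tt N3271 (iv F200947)) (tt N3257 F200605) (tt N4177 F27004) (tt N3226 F27005) (tt N3225 (iv D5859)) (tt N3268 (iv F200926)))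
theorem Q4179 : ∀ i, i < 4179 → P i := stepQ 4178 Q4178 (allL N4178 (tt N3234 F27041) (tt N5083 (iv F34453)) (tt N5093 F200157) (tt N3233 F27042) (tt N5092 (iv F200289)) (tt N3232 (iv D5869)) (tt N5091 (iv F200283)) (tt N3245 F27043) (tt N5026 (iv F200299)) (tt N3240 F27044))
theorem Q4180 : ∀ i, i < 4180 → P i := stepQ 4179 Q4179 (allL N4179 (tt N3235 F27050) (tt N5084 (iv F34464)) (tt N4179 F27051) (tt N5091 (iv F200282)) (tt N4179 F27052) (tt N4179 F27053) (tt N3233 (iv D5871)) (tt N5114 (iv F200278)) (tt N4179 F27054) (tt N3241 F27055))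
theorem Q4181 : ∀ i, i < 4181 → P i := stepQ 4180 Q4180 (allL N4180 (tt N5092 (iv F200287)) (tt N3236 F27064) (tt N3243 F196104) (tt N4180 F27065) (tt N3234 (iv D5874)) (tt N4180 F27066) (tt N3238 F200148) (tt N3247 F27067) (tt N3237 F200149) (tt N3242 F27068))
theorem Q4182 : ∀ i, i < 4182 → P i := stepQ 4181 Q4181 (allL N4181 (tt N5091 (iv F200280)) (tt N3237 F27069) (tt N3242 (iv F195912)) (tt N3235 F27070) (tt N3238 F200143) (tt N4181 F27071) (tt N3234 (iv D5875)) (tt N3251 (iv F200350)) (tt N3236 F200144) (tt N3243 F27072))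
theorem Q4183 : ∀ i, i < 4183 → P i := stepQ 4182 Q4182 (allL N4182 (tt N5114 (iv F200277)) (tt N3239 F27083) (tt N4182 F27084) (tt N3251 (iv F200349)) (tt N4182 F27085) (tt N4182 F27086) (tt N3249 F27087) (tt N3235 (iv D5878)) (tt N4182 F27088) (tt N3244 F27089))
theorem Q4184 : ∀ i, i < 4184 → P i := stepQ 4183 Q4183 (allL N4183 (tt N3242 F27120) (tt N5095 (iv F34536)) (tt N5091 (iv F200281)) (tt N4183 F27121) (tt N3240 (iv D5887)) (tt N4183 F27122) (tt N5093 F200120) (tt N3254 F27123) (tt N5012 (iv F200295)) (tt N5092 (iv F200290)))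
theorem Q4185 : ∀ i, i < 4185 → P i := stepQ 4184 Q4184 (allL N4184 (tt N3243 F27124) (tt N5096 (iv F34541)) (tt N5092 (iv F200288)) (tt N3241 F27125) (tt N5093 F200115) (tt N4184 F27126) (tt N3240 (iv D5888)) (tt N5115 (iv F200276)) (tt N5013 (iv F200301)) (tt N5091 (iv F200284)))
theorem Q4186 : ∀ i, i < 4186 → P i := stepQ 4185 Q4185 (allL N4185 (tt N3244 F27136) (tt N5097 (iv F34556)) (tt N4185 F27137) (tt N5115 (iv F200275)) (tt N4185 F27138) (tt N4185 F27139) (tt N3256 F27140) (tt N3241 (iv D5891)) (tt N3310 F27141) (tt N5114 (iv F200279)))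
theorem Q4187 : ∀ i, i < 4187 → P i := stepQ 4186 Q4186 (allL N4186 (tt N3247 F27212) (tt N5103 (iv F34636)) (tt N5115 F200502) (tt N4186 F27213) (tt N3245 (iv D5912)) (tt N4186 F27214) (tt N5116 (iv F200819)) (tt N5092 F200505) (tt N5049 F200503) (tt N3254 F27215))
theorem Q4188 : ∀ i, i < 4188 → P i := stepQ 4187 Q4187 (allL N4187 (tt N3248 F27216) (tt N5104 (iv F34641)) (tt N5117 F200601) (tt N3246 F27217) (tt N5116 (iv F200818)) (tt N3260 F27218) (tt N3245 (iv D5913)) (tt N5113 (iv F200813)) (tt N5050 F200602) (tt N3255 F27219))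
theorem Q4189 : ∀ i, i < 4189 → P i := stepQ 4188 Q4188 (allL N4188 (tt N3249 F27228) (tt N5105 (iv F34656)) (tt N4188 F27229) (tt N5113 (iv F200812)) (tt N4188 F27230) (tt N3261 F27231) (tt N5114 F200501) (tt N3246 (iv D5916)) (tt N4188 F27232) (tt N3256 F27233))
theorem Q4190 : ∀ i, i < 4190 → P i := stepQ 4189 Q4189 (allL N4189 (tt N5116 (iv F200816)) (tt N3250 F27250) (tt N3258 F196605) (tt N4189 F27251) (tt N3248 F27252) (tt N3268 (iv F200932)) (tt N3247 (iv D5922)) (tt N3253 F200584) (tt N3252 F200585) (tt N3257 F27253))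
theorem Q4191 : ∀ i, i < 4191 → P i := stepQ 4190 Q4190 (allL N4190 (tt N5113 (iv F200810)) (tt N3252 F27257) (tt N3257 (iv F196325)) (tt N3249 F27258) (tt N3253 F200580) (tt N3263 F27259) (tt N3251 F200581) (tt N3248 (iv D5924)) (tt N3250 F200582) (tt N3258 F27260))
theorem Q4192 : ∀ i, i < 4192 → P i := stepQ 4191 Q4191 (allL N4191 (tt N3257 F27314) (tt N5120 (iv F34746)) (tt N5113 (iv F200811)) (tt N4191 F27315) (tt N3255 F27316) (tt N5148 (iv F200831)) (tt N3254 (iv D5941)) (tt N5117 F200513) (tt N5031 F200519) (tt N5116 (iv F200820)))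
theorem Q4193 : ∀ i, i < 4193 → P i := stepQ 4192 Q4192 (allL N4192 (tt N3258 F27320) (tt N5121 (iv F34754)) (tt N5116 (iv F200817)) (tt N3256 F27321) (tt N5117 F200499) (tt N3270 F27322) (tt N5115 F200500) (tt N3255 (iv D5943)) (tt N5032 F200506) (tt N5113 (iv F200814)))
theorem Q4194 : ∀ i, i < 4194 → P i := stepQ 4193 Q4193 (allL N4193 (tt N3262 F27432) (tt N5131 (iv F34872)) (tt N5146 F201321) (tt N3277 F27433) (tt N3260 F27434) (tt N5144 (iv F201618)) (tt N3259 (iv D5977)) (tt N5143 (iv F201623)) (tt N5079 F201322) (tt N3269 F27435))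
theorem Q4195 : ∀ i, i < 4195 → P i := stepQ 4194 Q4194 (allL N4194 (tt N3263 F27440) (tt N5132 (iv F34882)) (tt N5148 F201221) (tt N3261 F27441) (tt N5143 (iv F201622)) (tt N5113 F201212) (tt N4194 F27442) (tt N3260 (iv D5979)) (tt N5081 F201222) (tt N3270 F27443))
theorem Q4196 : ∀ i, i < 4196 → P i := stepQ 4195 Q4195 (allL N4195 (tt N5144 (iv F201616)) (tt N3264 F27485) (tt N3272 F197335) (tt N3287 F27486) (tt N3268 F201304) (tt N3262 (iv D5991)) (tt N4195 F27487) (tt N3266 F201305) (tt N3265 F201306) (tt N3271 F27488))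
theorem Q4197 : ∀ i, i < 4197 → P i := stepQ 4196 Q4196 (allL N4196 (tt N5143 (iv F201620)) (tt N3265 F27489) (tt N3271 (iv F196975)) (tt N3288 F27490) (tt N3263 F27491) (tt N3266 F201307) (tt N4196 F27492) (tt N3262 (iv D5992)) (tt N3264 F201308) (tt N3272 F27493))
theorem Q4198 : ∀ i, i < 4198 → P i := stepQ 4197 Q4197 (allL N4197 (tt N5145 (iv F34966)) (tt N3292 F201319) (tt N3304 (iv F201687)) (tt N3266 (iv D6001)) (tt N4197 F27523) (tt N3288 (iv F201685)) (tt N3267 F27524) (tt N3287 (iv F201686)) (tt N3295 F27525) (tt N3307 F201320))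
theorem Q4199 : ∀ i, i < 4199 → P i := stepQ 4198 Q4198 (allL N4198 (tt N3271 F27594) (tt N5152 (iv F35041)) (tt N5143 (iv F201621)) (tt N3302 F27595) (tt N5148 F201229) (tt N3269 (iv D6020)) (tt N4198 F27596) (tt N5146 F201230) (tt N5055 F201232) (tt N5144 (iv F201619)))
theorem Q4200 : ∀ i, i < 4200 → P i := stepQ 4199 Q4199 (allL N4199 (tt N3272 F27597) (tt N5153 (iv F35045)) (tt N5144 (iv F201617)) (tt N3303 F27598) (tt N3270 F27599) (tt N5146 F201211) (tt N4199 F27600) (tt N3269 (iv D6021)) (tt N5056 F201217) (tt N5143 (iv F201624)))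
theorem Q4201 : ∀ i, i < 4201 → P i := stepQ 4200 Q4200 (allL N4200 (tt N4200 F27698) (tt N3274 F27699) (tt N4470 (iv F202466)) (tt N5271 D8772) (tt N3273 (iv D6050)) (tt N4200 F27700) (tt N5272 D8773) (tt N4200 F27701) (tt N4462 (iv F202489)) (tt N3297 F27702))
theorem Q4202 : ∀ i, i < 4202 → P i := stepQ 4201 Q4201 (allL N4201 (tt N4201 F27703) (tt N3275 F27704) (tt N4472 (iv F203329)) (tt N4201 F27705) (tt N5272 (iv F39310)) (tt N4201 F27706) (tt N3273 (iv D6051)) (tt N5273 D8775) (tt N4463 (iv F203425)) (tt N3298 F27707))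
theorem Q4203 : ∀ i, i < 4203 → P i := stepQ 4202 Q4202 (allL N4202 (tt N3281 F27719) (tt N5271 (iv F39303)) (tt N5147 F201358) (tt N3274 (iv D6054)) (tt N4202 F27720) (tt N4202 F27721) (tt N5274 D8780) (tt N4202 F27722) (tt N4202 F194261) (tt N3299 F27723))
theorem Q4204 : ∀ i, i < 4204 → P i := stepQ 4203 Q4203 (allL N4203 (tt N3282 F27724) (tt N5272 (iv F39309)) (tt N3277 F27725) (tt N5274 (iv F39349)) (tt N3275 F27726) (tt N5275 D8782) (tt N3274 (iv D6055)) (tt N5276 D8783) (tt N5277 D8784) (tt N3300 F27727))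
theorem Q4205 : ∀ i, i < 4205 → P i := stepQ 4204 Q4204 (allL N4204 (tt N3283 F27728) (tt N4462 (iv F202488)) (tt N3278 F27729) (tt N4204 F193854) (tt N3276 F27730) (tt N4204 F27731) (tt N5277 (iv F39369)) (tt N4204 F27732) (tt N3274 (iv D6056)) (tt N4204 F27733))
theorem Q4206 : ∀ i, i < 4206 → P i := stepQ 4205 Q4205 (allL N4205 (tt N3284 F27734) (tt N5273 (iv F39319)) (tt N3279 F27735) (tt N4205 F27736) (tt N5276 (iv F39363)) (tt N4205 F27737) (tt N4205 F27738) (tt N3275 (iv D6057)) (tt N5278 D8786) (tt N3301 F27739))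
theorem Q4207 : ∀ i, i < 4207 → P i := stepQ 4206 Q4206 (allL N4206 (tt N3285 F27740) (tt N4463 (iv F203424)) (tt N3280 F27741) (tt N4461 (iv F203427)) (tt N5277 (iv F39368)) (tt N4206 F27742) (tt N3276 F27743) (tt N5278 (iv F39379)) (tt N3275 (iv D6058)) (tt N4206 F27744))
theorem Q4208 : ∀ i, i < 4208 → P i := stepQ 4207 Q4207 (allL N4207 (tt N3287 F27758) (tt N5167 (iv F35206)) (tt N5275 (iv F39357)) (tt N5144 F202036) (tt N4207 F27759) (tt N3277 (iv D6061)) (tt N4207 F27760) (tt N5145 F202037) (tt N5186 (iv F202431)) (tt N3302 F27761))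
theorem Q4209 : ∀ i, i < 4209 → P i := stepQ 4208 Q4208 (allL N4208 (tt N3288 F27762) (tt N5168 (iv F35211)) (tt N5276 (iv F39362)) (tt N5143 F202038) (tt N3279 F27763) (tt N5145 F202039) (tt N4208 F27764) (tt N3277 (iv D6062)) (tt N5185 (iv F202435)) (tt N3303 F27765))
theorem Q4210 : ∀ i, i < 4210 → P i := stepQ 4209 Q4209 (allL N4209 (tt N3289 F27766) (tt N5169 (iv F35216)) (tt N5277 (iv F39367)) (tt N5184 (iv F202156)) (tt N3280 F27767) (tt N5186 (iv F202430)) (tt N3278 F27768) (tt N5185 (iv F202434)) (tt N3277 (iv D6063)) (tt N4209 F27769))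
theorem Q4211 : ∀ i, i < 4211 → P i := stepQ 4210 Q4210 (allL N4210 (tt N3290 F27770) (tt N5170 (iv F35221)) (tt N4210 F193490) (tt N3278 (iv D6064)) (tt N4210 F27771) (tt N4210 F27772) (tt N5184 (iv F202157)) (tt N4210 F27773) (tt N5080 F201357) (tt N4210 F27774))
theorem Q4212 : ∀ i, i < 4212 → P i := stepQ 4211 Q4211 (allL N4211 (tt N3291 F27775) (tt N5171 (iv F35227)) (tt N5278 (iv F39376)) (tt N4211 F27776) (tt N5185 (iv F202433)) (tt N4211 F27777) (tt N4211 F27778) (tt N3280 F27779) (tt N3279 (iv D6065)) (tt N4211 F27780))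
theorem Q4213 : ∀ i, i < 4213 → P i := stepQ 4212 Q4212 (allL N4212 (tt N5274 (iv F39348)) (tt N4212 F27781) (tt N3307 F198092) (tt N3282 F27782) (tt N4212 F27783) (tt N3306 F198093) (tt N3281 (iv D6066)) (tt N3305 F198094) (tt N4212 F194256) (tt N3304 F27784))
theorem Q4214 : ∀ i, i < 4214 → P i := stepQ 4213 Q4213 (allL N4213 (tt N5275 (iv F39356)) (tt N4213 F27789) (tt N3287 F27790) (tt N3306 F198161) (tt N4213 F27791) (tt N3282 (iv D6068)) (tt N4213 F27792) (tt N3304 F198162) (tt N5279 D8801) (tt N3305 F27793))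
theorem Q4215 : ∀ i, i < 4215 → P i := stepQ 4214 Q4214 (allL N4214 (tt N5276 (iv F39361)) (tt N4214 F27794) (tt N3288 F27795) (tt N3305 (iv F197788)) (tt N3284 F27796) (tt N3304 (iv F197832)) (tt N4214 F27797) (tt N3282 (iv D6069)) (tt N5280 D8802) (tt N3306 F27798))
theorem Q4216 : ∀ i, i < 4216 → P i := stepQ 4215 Q4215 (allL N4215 (tt N5277 (iv F39366)) (tt N4215 F27799) (tt N3289 F27800) (tt N4215 F193851) (tt N3285 F27801) (tt N5279 (iv F39450)) (tt N3283 F27802) (tt N5280 (iv F39457)) (tt N3282 (iv D6070)) (tt N4215 F27803))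
theorem Q4217 : ∀ i, i < 4217 → P i := stepQ 4216 Q4216 (allL N4216 (tt N5278 (iv F39375)) (tt N4216 F27808) (tt N3291 F27809) (tt N5281 D8806) (tt N5280 (iv F39455)) (tt N4216 F27810) (tt N4216 F27811) (tt N3285 F27812) (tt N3284 (iv D6072)) (tt N4216 F27813))
theorem Q4218 : ∀ i, i < 4218 → P i := stepQ 4217 Q4217 (allL N4217 (tt N4461 (iv F203426)) (tt N4217 F27814) (tt N4217 F27815) (tt N3285 (iv D6073)) (tt N4217 F194273) (tt N4217 F27816) (tt N3286 F27817) (tt N5281 (iv F39474)) (tt N4217 F27818) (tt N4217 F27819))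
theorem Q4219 : ∀ i, i < 4219 → P i := stepQ 4218 Q4218 (allL N4218 (tt N5186 (iv F202429)) (tt N3293 F27835) (tt N5279 (iv F39448)) (tt N3294 F202096) (tt N4218 F27836) (tt N3289 F27837) (tt N4218 F27838) (tt N3295 F202097) (tt N3287 (iv D6077)) (tt N4218 F27839))
theorem Q4220 : ∀ i, i < 4220 → P i := stepQ 4219 Q4219 (allL N4219 (tt N5185 (iv F202432)) (tt N3294 F27840) (tt N5280 (iv F39454)) (tt N3293 F202094) (tt N3291 F27841) (tt N3295 F202095) (tt N4219 F27842) (tt N3289 F27843) (tt N3288 (iv D6078)) (tt N4219 F27844))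
theorem Q4221 : ∀ i, i < 4221 → P i := stepQ 4220 Q4220 (allL N4220 (tt N5184 (iv F202155)) (tt N3295 F27845) (tt N4220 F193485) (tt N3289 (iv D6079)) (tt N4220 F27846) (tt N3294 F201707) (tt N3290 F27847) (tt N3293 F201708) (tt N3292 F201709) (tt N4220 F27848))
theorem Q4222 : ∀ i, i < 4222 → P i := stepQ 4221 Q4221 (allL N4221 (tt N5187 (iv F35321)) (tt N4221 F193235) (tt N3295 (iv D6085)) (tt N4221 F27870) (tt N4221 F27871) (tt N5280 (iv F202486)) (tt N3296 F27872) (tt N5279 (iv F202487)) (tt N3304 F202098) (tt N4221 F27873))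
theorem Q4223 : ∀ i, i < 4223 → P i := stepQ 4222 Q4222 (allL N4222 (tt N4222 F27879) (tt N3299 F27880) (tt N5282 D8823) (tt N3297 (iv D6087)) (tt N4222 F27881) (tt N4222 F27882) (tt N5283 D8824) (tt N4222 F27883) (tt N5188 (iv F202475)) (tt N5271 (iv F39307)))
theorem Q4224 : ∀ i, i < 4224 → P i := stepQ 4223 Q4223 (allL N4223 (tt N4223 F27884) (tt N3300 F27885) (tt N5190 (iv F35337)) (tt N5283 (iv F39558)) (tt N3298 F27886) (tt N5284 D8826) (tt N3297 (iv D6088)) (tt N5285 D8827) (tt N4223 F27887) (tt N5272 (iv F39311)))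
theorem Q4225 : ∀ i, i < 4225 → P i := stepQ 4224 Q4224 (allL N4224 (tt N4224 F27888) (tt N3301 F27889) (tt N5191 (iv F35342)) (tt N4224 F27890) (tt N5285 (iv F39573)) (tt N4224 F27891) (tt N4224 F27892) (tt N3298 (iv D6089)) (tt N4224 F27893) (tt N5273 (iv F39323)))
theorem Q4226 : ∀ i, i < 4226 → P i := stepQ 4225 Q4225 (allL N4225 (tt N3304 F27894) (tt N5283 (iv F39557)) (tt N5145 F202042) (tt N3300 F27895) (tt N4225 F27896) (tt N5276 F198210) (tt N3299 (iv D6090)) (tt N5275 (iv F198616)) (tt N5187 (iv F202436)) (tt N5274 (iv F39351)))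
theorem Q4227 : ∀ i, i < 4227 → P i := stepQ 4226 Q4226 (allL N4226 (tt N3305 F27902) (tt N5284 (iv F39567)) (tt N3302 F27903) (tt N5276 F198155) (tt N4226 F27904) (tt N3300 (iv D6092)) (tt N4226 F27905) (tt N5274 (iv F198529)) (tt N4226 F27906) (tt N5275 (iv F39360)))
theorem Q4228 : ∀ i, i < 4228 → P i := stepQ 4227 Q4227 (allL N4227 (tt N3306 F27907) (tt N5285 (iv F39572)) (tt N3303 F27908) (tt N5275 (iv F198615)) (tt N3301 F27909) (tt N5274 (iv F198528)) (tt N4227 F27910) (tt N3300 (iv D6093)) (tt N4227 F27911) (tt N5276 (iv F39365)))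
theorem Q4229 : ∀ i, i < 4229 → P i := stepQ 4228 Q4228 (allL N4228 (tt N3307 F27912) (tt N5196 (iv F35363)) (tt N5274 (iv F198527)) (tt N5146 F201342) (tt N4228 F27913) (tt N3303 F27914) (tt N5147 F201343) (tt N3302 (iv D6094)) (tt N4228 F27915) (tt N5145 (iv F201635)))
theorem Q4230 : ∀ i, i < 4230 → P i := stepQ 4229 Q4229 (allL N4229 (tt N3311 F27976) (tt N5204 (iv F35424)) (tt N4978 F201163) (tt N4229 F27977) (tt N3309 F27978) (tt N5244 F199772) (tt N3308 (iv D6108)) (tt N5227 (iv F199812)) (tt N4982 F201164) (tt N4229 F27979))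
theorem Q4231 : ∀ i, i < 4231 → P i := stepQ 4230 Q4230 (allL N4230 (tt N3312 F27984) (tt N5205 (iv F35434)) (tt N5008 F201155) (tt N3310 F27985) (tt N5227 F199882) (tt N4230 F27986) (tt N3314 F27987) (tt N3309 (iv D6110)) (tt N5014 F201156) (tt N4230 F27988))
theorem Q4232 : ∀ i, i < 4232 → P i := stepQ 4231 Q4231 (allL N4231 (tt N3315 F28159) (tt N5216 (iv F35614)) (tt N4991 F201192) (tt N4231 F28160) (tt N3314 F28161) (tt N4231 F28162) (tt N5227 F199885) (tt N3313 (iv D6151)) (tt N4997 F201193) (tt N4231 F28163))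
theorem Q4233 : ∀ i, i < 4233 → P i := stepQ 4232 Q4232 (allL N4232 (tt N3317 F28460) (tt N5234 (iv F35916)) (tt N4969 F202022) (tt N4232 F28461) (tt N4232 F28462) (tt N3316 (iv D6223)) (tt N5244 (iv F199734)) (tt N4232 F28463) (tt N4972 F202023) (tt N4232 F28464))
theorem Q4234 : ∀ i, i < 4234 → P i := stepQ 4233 Q4233 (allL N4233 (tt N4233 F29047) (tt N4233 F199677) (tt N3319 (iv D6351)) (tt N4233 F29048) (tt N5286 D9196) (tt N3320 F29049) (tt N4233 F29050) (tt N4233 F29051) (tt N4233 F29052) (tt N5256 (iv F204064)))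
theorem Q4235 : ∀ i, i < 4235 → P i := stepQ 4234 Q4234 (allL N4234 (tt N4234 F29053) (tt N5261 F203867) (tt N5286 (iv F41180)) (tt N4234 F29054) (tt N3319 (iv D6352)) (tt N4234 F29055) (tt N4234 F29056) (tt N4234 F29057) (tt N4234 F29058) (tt N5258 (iv F204065)))
theorem Q4236 : ∀ i, i < 4236 → P i := stepQ 4235 Q4235 (allL N4235 (tt N4235 F29378) (tt N4235 F29379) (tt N4235 F29380) (tt N5287 D9292) (tt N4235 F29381) (tt N3322 F29382) (tt N4235 F29383) (tt N4235 F29384) (tt N3321 (iv D6423)) (tt N4235 F29385))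
theorem Q4237 : ∀ i, i < 4237 → P i := stepQ 4236 Q4236 (allL N4236 (tt N4236 F29386) (tt N4236 F29387) (tt N5288 D9293) (tt N3322 (iv D6424)) (tt N5289 D9294) (tt N5287 (iv F41617)) (tt N3323 F29388) (tt N4236 F29389) (tt N4236 F29390) (tt N4236 F29391))
theorem Q4238 : ∀ i, i < 4238 → P i := stepQ 4237 Q4237 (allL N4237 (tt N4237 F29392) (tt N5290 D9295) (tt N3323 (iv D6425)) (tt N4237 F29393) (tt N5291 D9296) (tt N4237 F29394) (tt N5288 (iv F41624)) (tt N3324 F29395) (tt N4237 F29396) (tt N4237 F29397))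
theorem Q4239 : ∀ i, i < 4239 → P i := stepQ 4238 Q4238 (allL N4238 (tt N4238 F29398) (tt N4238 F29399) (tt N5291 (iv F41642)) (tt N3328 F29400) (tt N3323 (iv D6426)) (tt N5292 D9297) (tt N5289 (iv F41631)) (tt N3325 F29401) (tt N4238 F29402) (tt N4238 F29403))
theorem Q4240 : ∀ i, i < 4240 → P i := stepQ 4239 Q4239 (allL N4239 (tt N5293 D9298) (tt N3324 (iv D6427)) (tt N4239 F29404) (tt N4239 F29405) (tt N5294 D9299) (tt N4239 F29406) (tt N4239 F29407) (tt N5290 (iv F41638)) (tt N4239 F29408) (tt N4239 F29409))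
theorem Q4241 : ∀ i, i < 4241 → P i := stepQ 4240 Q4240 (allL N4240 (tt N4240 F29410) (tt N5294 (iv F41660)) (tt N3325 F29411) (tt N5295 D9300) (tt N3324 (iv D6428)) (tt N5296 D9301) (tt N4240 F29412) (tt N5291 (iv F41643)) (tt N4240 F29413) (tt N4240 F29414))
theorem Q4242 : ∀ i, i < 4242 → P i := stepQ 4241 Q4241 (allL N4241 (tt N4241 F29415) (tt N4241 F29416) (tt N5296 (iv F41671)) (tt N3331 F29417) (tt N4241 F29418) (tt N3325 (iv D6429)) (tt N5297 D9302) (tt N5292 (iv F41650)) (tt N4241 F29419) (tt N4241 F29420))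
theorem Q4243 : ∀ i, i < 4243 → P i := stepQ 4242 Q4242 (allL N4242 (tt N4242 F29421) (tt N5298 D9303) (tt N3326 (iv D6430)) (tt N4242 F29422) (tt N5299 D9304) (tt N4242 F29423) (tt N3327 F29424) (tt N4242 F29425) (tt N3348 F29426) (tt N4242 F29427))
theorem Q4244 : ∀ i, i < 4244 → P i := stepQ 4243 Q4243 (allL N4243 (tt N4243 F29428) (tt N4243 F29429) (tt N5299 (iv F41690)) (tt N5289 (iv F41630)) (tt N3326 (iv D6431)) (tt N5300 D9305) (tt N3328 F29430) (tt N4243 F29431) (tt N3349 F29432) (tt N4243 F29433))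
theorem Q4245 : ∀ i, i < 4245 → P i := stepQ 4244 Q4244 (allL N4244 (tt N5301 D9306) (tt N3327 (iv D6432)) (tt N4244 F29434) (tt N4244 F29435) (tt N5302 D9307) (tt N3332 F29436) (tt N5298 (iv F41685)) (tt N3329 F29437) (tt N3352 F29438) (tt N4244 F29439))
theorem Q4246 : ∀ i, i < 4246 → P i := stepQ 4245 Q4245 (allL N4245 (tt N4245 F29440) (tt N5302 (iv F41708)) (tt N3328 F29441) (tt N5303 D9308) (tt N3327 (iv D6433)) (tt N5304 D9309) (tt N5299 (iv F41691)) (tt N3330 F29442) (tt N3353 F29443) (tt N4245 F29444))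
theorem Q4247 : ∀ i, i < 4247 → P i := stepQ 4246 Q4246 (allL N4246 (tt N4246 F29445) (tt N4246 F29446) (tt N5304 (iv F41718)) (tt N5292 (iv F41648)) (tt N3334 F29447) (tt N3328 (iv D6434)) (tt N5305 D9310) (tt N3331 F29448) (tt N3354 F29449) (tt N4246 F29450))
theorem Q4248 : ∀ i, i < 4248 → P i := stepQ 4247 Q4247 (allL N4247 (tt N3329 (iv D6435)) (tt N4247 F29451) (tt N4247 F29452) (tt N4247 F29453) (tt N5306 D9311) (tt N3335 F29454) (tt N4247 F29455) (tt N5301 (iv F41705)) (tt N3358 F29456) (tt N4247 F29457))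
theorem Q4249 : ∀ i, i < 4249 → P i := stepQ 4248 Q4248 (allL N4248 (tt N5306 (iv F41728)) (tt N3330 F29458) (tt N4248 F29459) (tt N5307 D9312) (tt N3329 (iv D6436)) (tt N5308 D9313) (tt N4248 F29460) (tt N5302 (iv F41710)) (tt N3359 F29461) (tt N4248 F29462))
theorem Q4250 : ∀ i, i < 4250 → P i := stepQ 4249 Q4249 (allL N4249 (tt N4249 F29463) (tt N5307 (iv F41734)) (tt N5295 (iv F41666)) (tt N3330 (iv D6437)) (tt N4249 F29464) (tt N5309 D9314) (tt N4249 F29465) (tt N5303 (iv F41715)) (tt N5310 D9315) (tt N4249 F29466))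
theorem Q4251 : ∀ i, i < 4251 → P i := stepQ 4250 Q4250 (allL N4250 (tt N4250 F29467) (tt N5308 (iv F41738)) (tt N3331 F29468) (tt N5309 (iv F41744)) (tt N3338 F29469) (tt N3330 (iv D6438)) (tt N5311 D9316) (tt N5304 (iv F41720)) (tt N3361 F29470) (tt N4250 F29471))
theorem Q4252 : ∀ i, i < 4252 → P i := stepQ 4251 Q4251 (allL N4251 (tt N4251 F29472) (tt N4251 F29473) (tt N5311 (iv F41751)) (tt N5297 (iv F41677)) (tt N3339 F29474) (tt N4251 F29475) (tt N3331 (iv D6439)) (tt N5312 D9317) (tt N3362 F29476) (tt N4251 F29477))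
theorem Q4253 : ∀ i, i < 4253 → P i := stepQ 4252 Q4252 (allL N4252 (tt N3332 (iv D6440)) (tt N4252 F29478) (tt N4252 F29479) (tt N4252 F29480) (tt N5313 D9318) (tt N5301 (iv F41704)) (tt N4252 F29481) (tt N3335 F29482) (tt N3366 F29483) (tt N4252 F29484))
theorem Q4254 : ∀ i, i < 4254 → P i := stepQ 4253 Q4253 (allL N4253 (tt N5313 (iv F41762)) (tt N3333 F29485) (tt N4253 F29486) (tt N5314 D9319) (tt N3332 (iv D6441)) (tt N5315 D9320) (tt N4253 F29487) (tt N3336 F29488) (tt N3367 F29489) (tt N4253 F29490))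
theorem Q4255 : ∀ i, i < 4255 → P i := stepQ 4254 Q4254 (allL N4254 (tt N4254 F29491) (tt N5314 (iv F41769)) (tt N4254 F29492) (tt N3333 (iv D6442)) (tt N4254 F29493) (tt N5316 D9321) (tt N4254 F29494) (tt N3337 F29495) (tt N5317 D9322) (tt N4254 F29496))
theorem Q4256 : ∀ i, i < 4256 → P i := stepQ 4255 Q4255 (allL N4255 (tt N4255 F29497) (tt N5315 (iv F41774)) (tt N3334 F29498) (tt N5316 (iv F41781)) (tt N5304 (iv F41719)) (tt N3333 (iv D6443)) (tt N5318 D9323) (tt N3338 F29499) (tt N3369 F29500) (tt N4255 F29501))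
theorem Q4257 : ∀ i, i < 4257 → P i := stepQ 4256 Q4256 (allL N4256 (tt N4256 F29502) (tt N4256 F29503) (tt N5318 (iv F41791)) (tt N4256 F29504) (tt N5305 (iv F41725)) (tt N4256 F29505) (tt N3334 (iv D6444)) (tt N5319 D9324) (tt N3370 F29506) (tt N4256 F29507))
theorem Q4258 : ∀ i, i < 4258 → P i := stepQ 4257 Q4257 (allL N4257 (tt N3336 F29508) (tt N4257 F29509) (tt N4257 F29510) (tt N5320 D9325) (tt N3335 (iv D6445)) (tt N5321 D9326) (tt N3340 F29511) (tt N5313 (iv F41766)) (tt N3375 F29512) (tt N4257 F29513))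
theorem Q4259 : ∀ i, i < 4259 → P i := stepQ 4258 Q4258 (allL N4258 (tt N5320 (iv F41802)) (tt N3337 F29514) (tt N5322 D9327) (tt N3336 (iv D6446)) (tt N4258 F29515) (tt N5323 D9328) (tt N3341 F29516) (tt N5314 (iv F41772)) (tt N5324 D9329) (tt N4258 F29517))
theorem Q4260 : ∀ i, i < 4260 → P i := stepQ 4259 Q4259 (allL N4259 (tt N5321 (iv F41807)) (tt N3338 F29518) (tt N4259 F29519) (tt N5323 (iv F41818)) (tt N5308 (iv F41740)) (tt N3336 (iv D6447)) (tt N5325 D9330) (tt N5315 (iv F41776)) (tt N3377 F29520) (tt N4259 F29521))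
theorem Q4261 : ∀ i, i < 4261 → P i := stepQ 4260 Q4260 (allL N4260 (tt N4260 F29522) (tt N5323 (iv F41817)) (tt N4260 F29523) (tt N3338 F29524) (tt N5326 D9331) (tt N3337 (iv D6448)) (tt N5327 D9332) (tt N5316 (iv F41782)) (tt N5328 D9333) (tt N4260 F29525))
theorem Q4262 : ∀ i, i < 4262 → P i := stepQ 4261 Q4261 (allL N4261 (tt N4261 F29526) (tt N5324 (iv F41820)) (tt N4261 F29527) (tt N3379 F29528) (tt N4261 F29529) (tt N5328 (iv F41841)) (tt N3344 F29530) (tt N5317 (iv F41789)) (tt N3337 (iv D6449)) (tt N5329 D9334))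
theorem Q4263 : ∀ i, i < 4263 → P i := stepQ 4262 Q4262 (allL N4262 (tt N4262 F29531) (tt N5325 (iv F41824)) (tt N3339 F29532) (tt N5327 (iv F41835)) (tt N5311 (iv F41752)) (tt N3345 F29533) (tt N3338 (iv D6450)) (tt N5330 D9335) (tt N3380 F29534) (tt N4262 F29535))
theorem Q4264 : ∀ i, i < 4264 → P i := stepQ 4263 Q4263 (allL N4263 (tt N4263 F29536) (tt N4263 F29537) (tt N5330 (iv F41849)) (tt N4263 F29538) (tt N5312 (iv F41758)) (tt N3346 F29539) (tt N5319 (iv F41799)) (tt N3339 (iv D6451)) (tt N3381 F29540) (tt N4263 F29541))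
theorem Q4265 : ∀ i, i < 4265 → P i := stepQ 4264 Q4264 (allL N4264 (tt N3341 F29542) (tt N4264 F29543) (tt N5331 D9336) (tt N3340 (iv D6452)) (tt N4264 F29544) (tt N5332 D9337) (tt N5320 (iv F41805)) (tt N4264 F29545) (tt N5333 D9338) (tt N4264 F29546))
theorem Q4266 : ∀ i, i < 4266 → P i := stepQ 4265 Q4265 (allL N4265 (tt N3342 F29547) (tt N4265 F29548) (tt N4265 F29549) (tt N5332 (iv F41860)) (tt N4265 F29550) (tt N3340 (iv D6453)) (tt N5334 D9339) (tt N4265 F29551) (tt N3389 F29552) (tt N4265 F29553))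
theorem Q4267 : ∀ i, i < 4267 → P i := stepQ 4266 Q4266 (allL N4266 (tt N5331 (iv F41853)) (tt N4266 F29554) (tt N3341 (iv D6454)) (tt N4266 F29555) (tt N4266 F29556) (tt N5335 D9340) (tt N5322 (iv F41815)) (tt N4266 F29557) (tt N5336 D9341) (tt N4266 F29558))
theorem Q4268 : ∀ i, i < 4268 → P i := stepQ 4267 Q4267 (allL N4267 (tt N5332 (iv F41858)) (tt N3343 F29559) (tt N5335 (iv F41875)) (tt N3342 F29560) (tt N5337 D9342) (tt N3341 (iv D6455)) (tt N5338 D9343) (tt N4267 F29561) (tt N5339 D9344) (tt N4267 F29562))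
theorem Q4269 : ∀ i, i < 4269 → P i := stepQ 4268 Q4268 (allL N4268 (tt N5333 (iv F41863)) (tt N3344 F29563) (tt N5336 (iv F41880)) (tt N3392 F29564) (tt N4268 F29565) (tt N5339 (iv F41893)) (tt N5324 (iv F41823)) (tt N4268 F29566) (tt N3341 (iv D6456)) (tt N5340 D9345))
theorem Q4270 : ∀ i, i < 4270 → P i := stepQ 4269 Q4269 (allL N4269 (tt N5334 (iv F41868)) (tt N3345 F29567) (tt N4269 F29568) (tt N5338 (iv F41889)) (tt N4269 F29569) (tt N5325 (iv F41826)) (tt N3342 (iv D6457)) (tt N5341 D9346) (tt N3393 F29570) (tt N4269 F29571))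
theorem Q4271 : ∀ i, i < 4271 → P i := stepQ 4270 Q4270 (allL N4270 (tt N4270 F29572) (tt N5337 (iv F41883)) (tt N4270 F29573) (tt N4270 F29574) (tt N3343 (iv D6458)) (tt N4270 F29575) (tt N5342 D9347) (tt N4270 F29576) (tt N5343 D9348) (tt N4270 F29577))
theorem Q4272 : ∀ i, i < 4272 → P i := stepQ 4271 Q4271 (allL N4271 (tt N4271 F29578) (tt N5338 (iv F41888)) (tt N4271 F29579) (tt N3345 F29580) (tt N5342 (iv F41909)) (tt N5327 (iv F41836)) (tt N3343 (iv D6459)) (tt N5344 D9349) (tt N5345 D9350) (tt N4271 F29581))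
theorem Q4273 : ∀ i, i < 4273 → P i := stepQ 4272 Q4272 (allL N4272 (tt N4272 F29582) (tt N5339 (iv F41891)) (tt N4272 F29583) (tt N3396 F29584) (tt N5343 (iv F41913)) (tt N3344 F29585) (tt N5345 (iv F41924)) (tt N4272 F29586) (tt N3343 (iv D6460)) (tt N5346 D9351))
theorem Q4274 : ∀ i, i < 4274 → P i := stepQ 4273 Q4273 (allL N4273 (tt N4273 F29587) (tt N5340 (iv F41895)) (tt N4273 F29588) (tt N3397 F29589) (tt N4273 F29590) (tt N5346 (iv F41928)) (tt N5329 (iv F41846)) (tt N4273 F29591) (tt N4273 F29592) (tt N3344 (iv D6461)))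
theorem Q4275 : ∀ i, i < 4275 → P i := stepQ 4274 Q4274 (allL N4274 (tt N4274 F29593) (tt N5341 (iv F41900)) (tt N3346 F29594) (tt N5344 (iv F41918)) (tt N4274 F29595) (tt N5330 (iv F41850)) (tt N4274 F29596) (tt N3345 (iv D6462)) (tt N3398 F29597) (tt N4274 F29598))
theorem Q4276 : ∀ i, i < 4276 → P i := stepQ 4275 Q4275 (allL N4275 (tt N4275 F29599) (tt N5347 D9352) (tt N3347 (iv D6463)) (tt N3517 F29600) (tt N5348 D9353) (tt N4275 F29601) (tt N3350 F29602) (tt N4275 F29603) (tt N4275 F29604) (tt N3348 F29605))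
theorem Q4277 : ∀ i, i < 4277 → P i := stepQ 4276 Q4276 (allL N4276 (tt N4276 F29606) (tt N4276 F29607) (tt N5348 (iv F41939)) (tt N4276 F29608) (tt N3347 (iv D6464)) (tt N5349 D9354) (tt N3351 F29609) (tt N4276 F29610) (tt N4276 F29611) (tt N3349 F29612))
theorem Q4278 : ∀ i, i < 4278 → P i := stepQ 4277 Q4277 (allL N4277 (tt N5350 D9355) (tt N3348 (iv D6465)) (tt N4277 F29613) (tt N3519 F29614) (tt N5351 D9356) (tt N4277 F29615) (tt N3352 F29616) (tt N4277 F29617) (tt N5298 (iv F41687)) (tt N5347 (iv F41937)))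
theorem Q4279 : ∀ i, i < 4279 → P i := stepQ 4278 Q4278 (allL N4278 (tt N4278 F29618) (tt N5351 (iv F41957)) (tt N3349 F29619) (tt N5352 D9357) (tt N3348 (iv D6466)) (tt N5353 D9358) (tt N3353 F29620) (tt N4278 F29621) (tt N5299 (iv F41693)) (tt N5348 (iv F41943)))
theorem Q4280 : ∀ i, i < 4280 → P i := stepQ 4279 Q4279 (allL N4279 (tt N4279 F29622) (tt N4279 F29623) (tt N5353 (iv F41967)) (tt N4279 F29624) (tt N4279 F29625) (tt N3349 (iv D6467)) (tt N5354 D9359) (tt N4279 F29626) (tt N5300 (iv F41699)) (tt N5349 (iv F41950)))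
theorem Q4281 : ∀ i, i < 4281 → P i := stepQ 4280 Q4280 (allL N4280 (tt N4114 (iv F202076)) (tt N3350 (iv D6468)) (tt N4280 F29627) (tt N3525 F29628) (tt N5355 D9361) (tt N3363 F29629) (tt N5347 (iv F41934)) (tt N3355 F29630) (tt N4280 F29631) (tt N3352 F29632))
theorem Q4282 : ∀ i, i < 4282 → P i := stepQ 4281 Q4281 (allL N4281 (tt N4281 F29633) (tt N5355 (iv F41982)) (tt N3351 F29634) (tt N5356 D9362) (tt N3350 (iv D6469)) (tt N5357 D9363) (tt N5348 (iv F41940)) (tt N3356 F29635) (tt N4281 F29636) (tt N3353 F29637))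
theorem Q4283 : ∀ i, i < 4283 → P i := stepQ 4282 Q4282 (allL N4282 (tt N4282 F29638) (tt N4282 F29639) (tt N5357 (iv F41993)) (tt N4282 F29640) (tt N3365 F29641) (tt N3351 (iv D6470)) (tt N5358 D9364) (tt N3357 F29642) (tt N4282 F29643) (tt N3354 F29644))
theorem Q4284 : ∀ i, i < 4284 → P i := stepQ 4283 Q4283 (allL N4283 (tt N3352 (iv D6471)) (tt N4283 F29645) (tt N4283 F29646) (tt N3528 F29647) (tt N5359 D9365) (tt N3366 F29648) (tt N5350 (iv F41955)) (tt N3358 F29649) (tt N5301 (iv F41706)) (tt N4114 (iv F202077)))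
theorem Q4285 : ∀ i, i < 4285 → P i := stepQ 4284 Q4284 (allL N4284 (tt N5359 (iv F42004)) (tt N3353 F29650) (tt N4284 F29651) (tt N5360 D9366) (tt N3352 (iv D6472)) (tt N5361 D9367) (tt N5351 (iv F41959)) (tt N3359 F29652) (tt N5302 (iv F41711)) (tt N5355 (iv F41986)))
theorem Q4286 : ∀ i, i < 4286 → P i := stepQ 4285 Q4285 (allL N4285 (tt N4285 F29653) (tt N5360 (iv F42008)) (tt N4285 F29654) (tt N3353 (iv D6473)) (tt N3530 F29655) (tt N5362 D9368) (tt N5352 (iv F41964)) (tt N3360 F29656) (tt N5363 D9369) (tt N5356 (iv F41991)))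
theorem Q4287 : ∀ i, i < 4287 → P i := stepQ 4286 Q4286 (allL N4286 (tt N4286 F29657) (tt N5361 (iv F42011)) (tt N3354 F29658) (tt N5362 (iv F42017)) (tt N3369 F29659) (tt N3353 (iv D6474)) (tt N5364 D9370) (tt N3361 F29660) (tt N5304 (iv F41721)) (tt N5357 (iv F41997)))
theorem Q4288 : ∀ i, i < 4288 → P i := stepQ 4287 Q4287 (allL N4287 (tt N4287 F29661) (tt N4287 F29662) (tt N5364 (iv F42024)) (tt N4287 F29663) (tt N3370 F29664) (tt N5354 (iv F41974)) (tt N3354 (iv D6475)) (tt N5365 D9371) (tt N5305 (iv F41726)) (tt N5358 (iv F42003)))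
theorem Q4289 : ∀ i, i < 4289 → P i := stepQ 4288 Q4288 (allL N4288 (tt N4124 (iv F202878)) (tt N3356 F29672) (tt N4288 F29673) (tt N5366 D9373) (tt N3355 (iv D6477)) (tt N5367 D9374) (tt N4288 F29674) (tt N5355 (iv F41984)) (tt N4288 F29675) (tt N3359 F29676))
theorem Q4290 : ∀ i, i < 4290 → P i := stepQ 4289 Q4289 (allL N4289 (tt N4289 F29677) (tt N5366 (iv F42037)) (tt N4289 F29678) (tt N3356 (iv D6478)) (tt N3538 F29679) (tt N5368 D9375) (tt N4289 F29680) (tt N5356 (iv F41990)) (tt N5369 D9376) (tt N3360 F29681))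
theorem Q4291 : ∀ i, i < 4291 → P i := stepQ 4290 Q4290 (allL N4290 (tt N4290 F29682) (tt N5367 (iv F42041)) (tt N3357 F29683) (tt N5368 (iv F42048)) (tt N3373 F29684) (tt N3356 (iv D6479)) (tt N5370 D9377) (tt N5357 (iv F41995)) (tt N4290 F29685) (tt N3361 F29686))
theorem Q4292 : ∀ i, i < 4292 → P i := stepQ 4291 Q4291 (allL N4291 (tt N4291 F29687) (tt N4291 F29688) (tt N5370 (iv F42056)) (tt N4291 F29689) (tt N3374 F29690) (tt N4291 F29691) (tt N3357 (iv D6480)) (tt N5371 D9378) (tt N4291 F29692) (tt N3362 F29693))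
theorem Q4293 : ∀ i, i < 4293 → P i := stepQ 4292 Q4292 (allL N4292 (tt N3359 F29694) (tt N4292 F29695) (tt N4292 F29696) (tt N5372 D9379) (tt N3358 (iv D6481)) (tt N5373 D9380) (tt N4292 F29697) (tt N5359 (iv F42007)) (tt N5306 (iv F41732)) (tt N4124 (iv F202879)))
theorem Q4294 : ∀ i, i < 4294 → P i := stepQ 4293 Q4293 (allL N4293 (tt N5372 (iv F42068)) (tt N3360 F29698) (tt N5374 D9381) (tt N3359 (iv D6482)) (tt N3542 F29699) (tt N5375 D9382) (tt N4293 F29700) (tt N5360 (iv F42010)) (tt N5376 D9383) (tt N5366 (iv F42040)))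
theorem Q4295 : ∀ i, i < 4295 → P i := stepQ 4294 Q4294 (allL N4294 (tt N5373 (iv F42072)) (tt N3361 F29701) (tt N4294 F29702) (tt N5375 (iv F42081)) (tt N3377 F29703) (tt N3359 (iv D6483)) (tt N5377 D9384) (tt N5361 (iv F42014)) (tt N5308 (iv F41741)) (tt N5367 (iv F42045)))
theorem Q4296 : ∀ i, i < 4296 → P i := stepQ 4295 Q4295 (allL N4295 (tt N4295 F29704) (tt N5375 (iv F42080)) (tt N4295 F29705) (tt N3361 F29706) (tt N5378 D9385) (tt N3360 (iv D6484)) (tt N5379 D9386) (tt N5362 (iv F42018)) (tt N5380 D9387) (tt N5368 (iv F42049)))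
theorem Q4297 : ∀ i, i < 4297 → P i := stepQ 4296 Q4296 (allL N4296 (tt N4296 F29707) (tt N5376 (iv F42082)) (tt N4296 F29708) (tt N5310 (iv F41747)) (tt N3545 F29709) (tt N5380 (iv F42099)) (tt N4296 F29710) (tt N5363 (iv F42022)) (tt N3360 (iv D6485)) (tt N5381 D9388))
theorem Q4298 : ∀ i, i < 4298 → P i := stepQ 4297 Q4297 (allL N4297 (tt N4297 F29711) (tt N5377 (iv F42085)) (tt N3362 F29712) (tt N5379 (iv F42095)) (tt N3380 F29713) (tt N4297 F29714) (tt N3361 (iv D6486)) (tt N5382 D9389) (tt N5311 (iv F41754)) (tt N5370 (iv F42060)))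
theorem Q4299 : ∀ i, i < 4299 → P i := stepQ 4298 Q4298 (allL N4298 (tt N4298 F29715) (tt N4298 F29716) (tt N5382 (iv F42105)) (tt N4298 F29717) (tt N3381 F29718) (tt N4298 F29719) (tt N5365 (iv F42030)) (tt N3362 (iv D6487)) (tt N5312 (iv F41760)) (tt N5371 (iv F42067)))
theorem Q4300 : ∀ i, i < 4300 → P i := stepQ 4299 Q4299 (allL N4299 (tt N4115 (iv F201981)) (tt N3364 F29727) (tt N4299 F29728) (tt N5383 D9391) (tt N3363 (iv D6489)) (tt N5384 D9392) (tt N4299 F29729) (tt N3371 F29730) (tt N4299 F29731) (tt N3367 F29732))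
theorem Q4301 : ∀ i, i < 4301 → P i := stepQ 4300 Q4300 (allL N4300 (tt N4300 F29733) (tt N5383 (iv F42115)) (tt N3404 F29734) (tt N3364 (iv D6490)) (tt N3551 F29735) (tt N5385 D9393) (tt N4300 F29736) (tt N3372 F29737) (tt N5386 D9394) (tt N3368 F29738))
theorem Q4302 : ∀ i, i < 4302 → P i := stepQ 4301 Q4301 (allL N4301 (tt N4301 F29739) (tt N5384 (iv F42120)) (tt N3365 F29740) (tt N5385 (iv F42127)) (tt N5357 (iv F41994)) (tt N3364 (iv D6491)) (tt N5387 D9395) (tt N3373 F29741) (tt N4301 F29742) (tt N3369 F29743))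
theorem Q4303 : ∀ i, i < 4303 → P i := stepQ 4302 Q4302 (allL N4302 (tt N4302 F29744) (tt N4302 F29745) (tt N5387 (iv F42137)) (tt N3406 F29746) (tt N5358 (iv F42001)) (tt N4302 F29747) (tt N3365 (iv D6492)) (tt N5388 D9396) (tt N4302 F29748) (tt N3370 F29749))
theorem Q4304 : ∀ i, i < 4304 → P i := stepQ 4303 Q4303 (allL N4303 (tt N3367 F29750) (tt N4303 F29751) (tt N4303 F29752) (tt N5389 D9397) (tt N3366 (iv D6493)) (tt N5390 D9398) (tt N4303 F29753) (tt N3375 F29754) (tt N5313 (iv F41767)) (tt N4115 (iv F201982)))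
theorem Q4305 : ∀ i, i < 4305 → P i := stepQ 4304 Q4304 (allL N4304 (tt N5389 (iv F42148)) (tt N3368 F29755) (tt N5391 D9399) (tt N3367 (iv D6494)) (tt N3555 F29756) (tt N5392 D9400) (tt N4304 F29757) (tt N3376 F29758) (tt N5393 D9401) (tt N5383 (iv F42119)))
theorem Q4306 : ∀ i, i < 4306 → P i := stepQ 4305 Q4305 (allL N4305 (tt N5390 (iv F42153)) (tt N3369 F29759) (tt N4305 F29760) (tt N5392 (iv F42163)) (tt N5361 (iv F42013)) (tt N3367 (iv D6495)) (tt N5394 D9402) (tt N3377 F29761) (tt N5315 (iv F41777)) (tt N5384 (iv F42124)))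
theorem Q4307 : ∀ i, i < 4307 → P i := stepQ 4306 Q4306 (allL N4306 (tt N4306 F29762) (tt N5392 (iv F42162)) (tt N3410 F29763) (tt N3369 F29764) (tt N5395 D9403) (tt N3368 (iv D6496)) (tt N5396 D9404) (tt N3378 F29765) (tt N5397 D9405) (tt N5385 (iv F42129)))
theorem Q4308 : ∀ i, i < 4308 → P i := stepQ 4307 Q4307 (allL N4307 (tt N4307 F29766) (tt N5393 (iv F42165)) (tt N3411 F29767) (tt N5317 (iv F41786)) (tt N3558 F29768) (tt N5397 (iv F42182)) (tt N4307 F29769) (tt N3379 F29770) (tt N3368 (iv D6497)) (tt N5398 D9406))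
theorem Q4309 : ∀ i, i < 4309 → P i := stepQ 4308 Q4308 (allL N4308 (tt N4308 F29771) (tt N5394 (iv F42169)) (tt N3370 F29772) (tt N5396 (iv F42178)) (tt N5364 (iv F42025)) (tt N4308 F29773) (tt N3369 (iv D6498)) (tt N5399 D9407) (tt N5318 (iv F41793)) (tt N5387 (iv F42140)))
theorem Q4310 : ∀ i, i < 4310 → P i := stepQ 4309 Q4309 (allL N4309 (tt N4309 F29774) (tt N4309 F29775) (tt N5399 (iv F42190)) (tt N3413 F29776) (tt N5365 (iv F42029)) (tt N4309 F29777) (tt N3381 F29778) (tt N3370 (iv D6499)) (tt N5319 (iv F41800)) (tt N5388 (iv F42147)))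
theorem Q4311 : ∀ i, i < 4311 → P i := stepQ 4310 Q4310 (allL N4310 (tt N4094 (iv F201977)) (tt N3372 F29785) (tt N5400 D9410) (tt N3371 (iv D6501)) (tt N3564 F29786) (tt N5401 D9411) (tt N3382 F29787) (tt N5383 (iv F42118)) (tt N5402 D9412) (tt N3376 F29788))
theorem Q4312 : ∀ i, i < 4312 → P i := stepQ 4311 Q4311 (allL N4311 (tt N4125 (iv F202850)) (tt N3373 F29789) (tt N4311 F29790) (tt N5401 (iv F42209)) (tt N5367 (iv F42043)) (tt N3371 (iv D6502)) (tt N5403 D9413) (tt N5384 (iv F42122)) (tt N4311 F29791) (tt N3377 F29792))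
theorem Q4313 : ∀ i, i < 4313 → P i := stepQ 4312 Q4312 (allL N4312 (tt N4312 F29793) (tt N5401 (iv F42208)) (tt N3422 F29794) (tt N3373 F29795) (tt N5404 D9414) (tt N3372 (iv D6503)) (tt N5405 D9415) (tt N5385 (iv F42128)) (tt N5406 D9416) (tt N3378 F29796))
theorem Q4314 : ∀ i, i < 4314 → P i := stepQ 4313 Q4313 (allL N4313 (tt N4313 F29797) (tt N5402 (iv F42211)) (tt N3423 F29798) (tt N4313 F29799) (tt N3567 F29800) (tt N5406 (iv F42232)) (tt N3385 F29801) (tt N5386 (iv F42135)) (tt N3372 (iv D6504)) (tt N5407 D9417))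
theorem Q4315 : ∀ i, i < 4315 → P i := stepQ 4314 Q4314 (allL N4314 (tt N4314 F29802) (tt N5403 (iv F42215)) (tt N3374 F29803) (tt N5405 (iv F42226)) (tt N5370 (iv F42057)) (tt N3386 F29804) (tt N3373 (iv D6505)) (tt N5408 D9418) (tt N4314 F29805) (tt N3380 F29806))
theorem Q4316 : ∀ i, i < 4316 → P i := stepQ 4315 Q4315 (allL N4315 (tt N4315 F29807) (tt N4315 F29808) (tt N5408 (iv F42240)) (tt N3425 F29809) (tt N5371 (iv F42064)) (tt N3387 F29810) (tt N5388 (iv F42145)) (tt N3374 (iv D6506)) (tt N4315 F29811) (tt N3381 F29812))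
theorem Q4317 : ∀ i, i < 4317 → P i := stepQ 4316 Q4316 (allL N4316 (tt N3376 F29813) (tt N4316 F29814) (tt N5409 D9419) (tt N3375 (iv D6507)) (tt N3570 F29815) (tt N5410 D9420) (tt N3388 F29816) (tt N5389 (iv F42152)) (tt N5411 D9421) (tt N4094 (iv F201978)))
theorem Q4318 : ∀ i, i < 4318 → P i := stepQ 4317 Q4317 (allL N4317 (tt N3377 F29817) (tt N4317 F29818) (tt N4317 F29819) (tt N5410 (iv F42250)) (tt N5373 (iv F42075)) (tt N3375 (iv D6508)) (tt N5412 D9422) (tt N5390 (iv F42156)) (tt N5321 (iv F41810)) (tt N4125 (iv F202851)))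
theorem Q4319 : ∀ i, i < 4319 → P i := stepQ 4318 Q4318 (allL N4318 (tt N5409 (iv F42244)) (tt N3428 F29820) (tt N3376 (iv D6509)) (tt N4318 F29821) (tt N3572 F29822) (tt N5413 D9423) (tt N3390 F29823) (tt N5391 (iv F42161)) (tt N5414 D9424) (tt N5400 (iv F42207)))
theorem Q4320 : ∀ i, i < 4320 → P i := stepQ 4319 Q4319 (allL N4319 (tt N5410 (iv F42248)) (tt N3378 F29824) (tt N5413 (iv F42260)) (tt N3377 F29825) (tt N5415 D9425) (tt N3376 (iv D6510)) (tt N5416 D9426) (tt N5392 (iv F42164)) (tt N5417 D9427) (tt N5401 (iv F42210)))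
theorem Q4321 : ∀ i, i < 4321 → P i := stepQ 4320 Q4320 (allL N4320 (tt N5411 (iv F42251)) (tt N3379 F29826) (tt N5414 (iv F42263)) (tt N5324 (iv F41821)) (tt N3574 F29827) (tt N5417 (iv F42272)) (tt N3392 F29828) (tt N5393 (iv F42168)) (tt N3376 (iv D6511)) (tt N5418 D9428))
theorem Q4322 : ∀ i, i < 4322 → P i := stepQ 4321 Q4321 (allL N4321 (tt N5412 (iv F42255)) (tt N3380 F29829) (tt N4321 F29830) (tt N5416 (iv F42269)) (tt N5377 (iv F42087)) (tt N3393 F29831) (tt N3377 (iv D6512)) (tt N5419 D9429) (tt N5325 (iv F41827)) (tt N5403 (iv F42219)))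
theorem Q4323 : ∀ i, i < 4323 → P i := stepQ 4322 Q4322 (allL N4322 (tt N4322 F29832) (tt N5415 (iv F42266)) (tt N3432 F29833) (tt N5378 (iv F42091)) (tt N3378 (iv D6513)) (tt N3576 F29834) (tt N5420 D9430) (tt N5395 (iv F42175)) (tt N5421 D9431) (tt N5404 (iv F42223)))
theorem Q4324 : ∀ i, i < 4324 → P i := stepQ 4323 Q4323 (allL N4323 (tt N4323 F29835) (tt N5416 (iv F42268)) (tt N3433 F29836) (tt N3380 F29837) (tt N5420 (iv F42281)) (tt N3395 F29838) (tt N3378 (iv D6514)) (tt N5422 D9432) (tt N5423 D9433) (tt N5405 (iv F42228)))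
theorem Q4325 : ∀ i, i < 4325 → P i := stepQ 4324 Q4324 (allL N4324 (tt N4324 F29839) (tt N5417 (iv F42271)) (tt N3434 F29840) (tt N5328 (iv F41840)) (tt N5421 (iv F42284)) (tt N3379 F29841) (tt N5423 (iv F42293)) (tt N5397 (iv F42183)) (tt N3378 (iv D6515)) (tt N5424 D9434))
theorem Q4326 : ∀ i, i < 4326 → P i := stepQ 4325 Q4325 (allL N4325 (tt N4325 F29842) (tt N5418 (iv F42273)) (tt N3435 F29843) (tt N5329 (iv F41844)) (tt N3579 F29844) (tt N5424 (iv F42296)) (tt N3397 F29845) (tt N5398 (iv F42188)) (tt N5407 (iv F42238)) (tt N3379 (iv D6516)))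
theorem Q4327 : ∀ i, i < 4327 → P i := stepQ 4326 Q4326 (allL N4326 (tt N4326 F29846) (tt N5419 (iv F42276)) (tt N3381 F29847) (tt N5422 (iv F42288)) (tt N5382 (iv F42106)) (tt N3398 F29848) (tt N5399 (iv F42192)) (tt N3380 (iv D6517)) (tt N5330 (iv F41851)) (tt N5408 (iv F42243)))
theorem Q4328 : ∀ i, i < 4328 → P i := stepQ 4327 Q4327 (allL N4327 (tt N4030 (iv F201951)) (tt N3446 F29861) (tt N3382 (iv D6520)) (tt N4327 F29862) (tt N3585 F29863) (tt N5425 D9439) (tt N5400 (iv F42206)) (tt N4327 F29864) (tt N5426 D9440) (tt N3390 F29865))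
theorem Q4329 : ∀ i, i < 4329 → P i := stepQ 4328 Q4328 (allL N4328 (tt N4106 (iv F202821)) (tt N3384 F29866) (tt N5425 (iv F42319)) (tt N3383 F29867) (tt N5427 D9441) (tt N3382 (iv D6521)) (tt N5428 D9442) (tt N4328 F29868) (tt N5429 D9443) (tt N3391 F29869))
theorem Q4330 : ∀ i, i < 4330 → P i := stepQ 4329 Q4329 (allL N4329 (tt N3793 (iv F202802)) (tt N3385 F29870) (tt N5426 (iv F42324)) (tt N4329 F29871) (tt N3587 F29872) (tt N5429 (iv F42337)) (tt N5402 (iv F42214)) (tt N4329 F29873) (tt N3382 (iv D6522)) (tt N5430 D9444))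
theorem Q4331 : ∀ i, i < 4331 → P i := stepQ 4330 Q4330 (allL N4330 (tt N4130 (iv F203684)) (tt N3386 F29874) (tt N4330 F29875) (tt N5428 (iv F42333)) (tt N4330 F29876) (tt N5403 (iv F42217)) (tt N3383 (iv D6523)) (tt N5431 D9445) (tt N4330 F29877) (tt N3393 F29878))
theorem Q4332 : ∀ i, i < 4332 → P i := stepQ 4331 Q4331 (allL N4331 (tt N4331 F29879) (tt N5427 (iv F42327)) (tt N3450 F29880) (tt N4331 F29881) (tt N3384 (iv D6524)) (tt N3589 F29882) (tt N5432 D9446) (tt N4331 F29883) (tt N5433 D9447) (tt N3394 F29884))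
theorem Q4333 : ∀ i, i < 4333 → P i := stepQ 4332 Q4332 (allL N4332 (tt N4332 F29885) (tt N5428 (iv F42332)) (tt N3451 F29886) (tt N3386 F29887) (tt N5432 (iv F42353)) (tt N5405 (iv F42227)) (tt N3384 (iv D6525)) (tt N5434 D9448) (tt N5435 D9449) (tt N3395 F29888))
theorem Q4334 : ∀ i, i < 4334 → P i := stepQ 4333 Q4333 (allL N4333 (tt N4333 F29889) (tt N5429 (iv F42335)) (tt N3452 F29890) (tt N4333 F29891) (tt N5433 (iv F42357)) (tt N3385 F29892) (tt N5435 (iv F42368)) (tt N4333 F29893) (tt N3384 (iv D6526)) (tt N5436 D9450))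
theorem Q4335 : ∀ i, i < 4335 → P i := stepQ 4334 Q4334 (allL N4334 (tt N4334 F29894) (tt N5430 (iv F42339)) (tt N3453 F29895) (tt N4334 F29896) (tt N3592 F29897) (tt N5436 (iv F42372)) (tt N5407 (iv F42237)) (tt N4334 F29898) (tt N3397 F29899) (tt N3385 (iv D6527)))
theorem Q4336 : ∀ i, i < 4336 → P i := stepQ 4335 Q4335 (allL N4335 (tt N4335 F29900) (tt N5431 (iv F42344)) (tt N3387 F29901) (tt N5434 (iv F42362)) (tt N4335 F29902) (tt N5408 (iv F42241)) (tt N4335 F29903) (tt N3386 (iv D6528)) (tt N4335 F29904) (tt N3398 F29905))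
theorem Q4337 : ∀ i, i < 4337 → P i := stepQ 4336 Q4336 (allL N4336 (tt N3390 F29906) (tt N5437 D9451) (tt N3388 (iv D6529)) (tt N4336 F29907) (tt N3594 F29908) (tt N5438 D9452) (tt N5409 (iv F42247)) (tt N4336 F29909) (tt N5439 D9453) (tt N4030 (iv F201952)))
theorem Q4338 : ∀ i, i < 4338 → P i := stepQ 4337 Q4337 (allL N4337 (tt N3391 F29910) (tt N4337 F29911) (tt N5438 (iv F42381)) (tt N3389 F29912) (tt N5440 D9454) (tt N3388 (iv D6530)) (tt N5441 D9455) (tt N4337 F29913) (tt N5442 D9456) (tt N4106 (iv F202822)))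
theorem Q4339 : ∀ i, i < 4339 → P i := stepQ 4338 Q4338 (allL N4338 (tt N3392 F29914) (tt N4338 F29915) (tt N5439 (iv F42385)) (tt N5333 (iv F41865)) (tt N3596 F29916) (tt N5442 (iv F42398)) (tt N5411 (iv F42254)) (tt N4338 F29917) (tt N3388 (iv D6531)) (tt N5443 D9457))
theorem Q4340 : ∀ i, i < 4340 → P i := stepQ 4339 Q4339 (allL N4339 (tt N3393 F29918) (tt N4339 F29919) (tt N4339 F29920) (tt N5441 (iv F42395)) (tt N4339 F29921) (tt N5412 (iv F42258)) (tt N3389 (iv D6532)) (tt N5444 D9458) (tt N5334 (iv F41872)) (tt N4130 (iv F203685)))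
theorem Q4341 : ∀ i, i < 4341 → P i := stepQ 4340 Q4340 (allL N4340 (tt N5438 (iv F42380)) (tt N3459 F29922) (tt N3391 F29923) (tt N4340 F29924) (tt N5445 D9459) (tt N3390 (iv D6533)) (tt N5446 D9460) (tt N4340 F29925) (tt N5447 D9461) (tt N5425 (iv F42322)))
theorem Q4342 : ∀ i, i < 4342 → P i := stepQ 4341 Q4341 (allL N4341 (tt N5439 (iv F42384)) (tt N3460 F29926) (tt N3392 F29927) (tt N5448 D9462) (tt N3599 F29928) (tt N5447 (iv F42418)) (tt N5414 (iv F42265)) (tt N4341 F29929) (tt N3390 (iv D6534)) (tt N5449 D9463))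
theorem Q4343 : ∀ i, i < 4343 → P i := stepQ 4342 Q4342 (allL N4342 (tt N5440 (iv F42388)) (tt N3394 F29930) (tt N5445 (iv F42410)) (tt N4342 F29931) (tt N3391 (iv D6535)) (tt N3600 F29932) (tt N5450 D9464) (tt N4342 F29933) (tt N5451 D9465) (tt N5427 (iv F42331)))
theorem Q4344 : ∀ i, i < 4344 → P i := stepQ 4343 Q4343 (allL N4343 (tt N5441 (iv F42393)) (tt N3395 F29934) (tt N5446 (iv F42414)) (tt N3393 F29935) (tt N5450 (iv F42429)) (tt N5416 (iv F42270)) (tt N3391 (iv D6536)) (tt N5452 D9466) (tt N5453 D9467) (tt N5428 (iv F42334)))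
theorem Q4345 : ∀ i, i < 4345 → P i := stepQ 4344 Q4344 (allL N4344 (tt N5442 (iv F42396)) (tt N3396 F29936) (tt N5447 (iv F42417)) (tt N5339 (iv F41892)) (tt N5451 (iv F42431)) (tt N3392 F29937) (tt N5453 (iv F42438)) (tt N4344 F29938) (tt N3391 (iv D6537)) (tt N5454 D9468))
theorem Q4346 : ∀ i, i < 4346 → P i := stepQ 4345 Q4345 (allL N4345 (tt N5443 (iv F42400)) (tt N3397 F29939) (tt N5449 (iv F42424)) (tt N5340 (iv F41896)) (tt N3603 F29940) (tt N5454 (iv F42440)) (tt N5418 (iv F42275)) (tt N4345 F29941) (tt N5430 (iv F42343)) (tt N3392 (iv D6538)))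
theorem Q4347 : ∀ i, i < 4347 → P i := stepQ 4346 Q4346 (allL N4346 (tt N5444 (iv F42404)) (tt N3398 F29942) (tt N4346 F29943) (tt N5452 (iv F42435)) (tt N4346 F29944) (tt N5419 (iv F42278)) (tt N4346 F29945) (tt N3393 (iv D6539)) (tt N5341 (iv F41904)) (tt N5431 (iv F42349)))
theorem Q4348 : ∀ i, i < 4348 → P i := stepQ 4347 Q4347 (allL N4347 (tt N4347 F29946) (tt N5450 (iv F42427)) (tt N3466 F29947) (tt N4347 F29948) (tt N3395 F29949) (tt N5455 D9469) (tt N3394 (iv D6540)) (tt N5456 D9470) (tt N5457 D9471) (tt N5432 (iv F42354)))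
theorem Q4349 : ∀ i, i < 4349 → P i := stepQ 4348 Q4348 (allL N4348 (tt N4348 F29950) (tt N5451 (iv F42430)) (tt N3467 F29951) (tt N5458 D9472) (tt N3396 F29952) (tt N3606 F29953) (tt N5457 (iv F42454)) (tt N4348 F29954) (tt N3394 (iv D6541)) (tt N5459 D9473))
theorem Q4350 : ∀ i, i < 4350 → P i := stepQ 4349 Q4349 (allL N4349 (tt N4349 F29955) (tt N5452 (iv F42434)) (tt N3468 F29956) (tt N3398 F29957) (tt N5456 (iv F42449)) (tt N5422 (iv F42289)) (tt N4349 F29958) (tt N3395 (iv D6542)) (tt N5460 D9474) (tt N5434 (iv F42364)))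
theorem Q4351 : ∀ i, i < 4351 → P i := stepQ 4350 Q4350 (allL N4350 (tt N4350 F29959) (tt N5453 (iv F42437)) (tt N3469 F29960) (tt N5345 (iv F41923)) (tt N5457 (iv F42453)) (tt N5423 (iv F42292)) (tt N3396 F29961) (tt N5460 (iv F42467)) (tt N3395 (iv D6543)) (tt N5461 D9475))
theorem Q4352 : ∀ i, i < 4352 → P i := stepQ 4351 Q4351 (allL N4351 (tt N4351 F29962) (tt N5454 (iv F42439)) (tt N3470 F29963) (tt N5346 (iv F41927)) (tt N5459 (iv F42461)) (tt N3397 F29964) (tt N5461 (iv F42470)) (tt N4351 F29965) (tt N5436 (iv F42374)) (tt N3396 (iv D6544)))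
theorem Q4353 : ∀ i, i < 4353 → P i := stepQ 4352 Q4352 (allL N4352 (tt N3399 (iv D6545)) (tt N4352 F29966) (tt N4352 F29967) (tt N4352 F29968) (tt N5462 D9476) (tt N4352 F29969) (tt N4352 F29970) (tt N3414 F29971) (tt N3402 F29972) (tt N4352 F29973))
theorem Q4354 : ∀ i, i < 4354 → P i := stepQ 4353 Q4353 (allL N4353 (tt N5462 (iv F42471)) (tt N3400 F29974) (tt N4353 F29975) (tt N5463 D9477) (tt N3399 (iv D6546)) (tt N5464 D9478) (tt N4353 F29976) (tt N3415 F29977) (tt N3403 F29978) (tt N4353 F29979))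
theorem Q4355 : ∀ i, i < 4355 → P i := stepQ 4354 Q4354 (allL N4354 (tt N4354 F29980) (tt N5463 (iv F42478)) (tt N4354 F29981) (tt N3400 (iv D6547)) (tt N4354 F29982) (tt N5465 D9479) (tt N4354 F29983) (tt N3416 F29984) (tt N5466 D9480) (tt N4354 F29985))
theorem Q4356 : ∀ i, i < 4356 → P i := stepQ 4355 Q4355 (allL N4355 (tt N4355 F29986) (tt N5464 (iv F42483)) (tt N3401 F29987) (tt N5465 (iv F42491)) (tt N4355 F29988) (tt N3400 (iv D6548)) (tt N5467 D9481) (tt N3417 F29989) (tt N3405 F29990) (tt N4355 F29991))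
theorem Q4357 : ∀ i, i < 4357 → P i := stepQ 4356 Q4356 (allL N4356 (tt N4356 F29992) (tt N4356 F29993) (tt N5467 (iv F42501)) (tt N4356 F29994) (tt N4356 F29995) (tt N4356 F29996) (tt N3401 (iv D6549)) (tt N5468 D9482) (tt N3406 F29997) (tt N4356 F29998))
theorem Q4358 : ∀ i, i < 4358 → P i := stepQ 4357 Q4357 (allL N4357 (tt N3403 F29999) (tt N4357 F30000) (tt N4357 F30001) (tt N5469 D9483) (tt N3402 (iv D6550)) (tt N5470 D9484) (tt N4357 F30002) (tt N3419 F30003) (tt N5462 (iv F42476)) (tt N3407 F30004))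
theorem Q4359 : ∀ i, i < 4359 → P i := stepQ 4358 Q4358 (allL N4358 (tt N5469 (iv F42514)) (tt N3404 F30005) (tt N5471 D9485) (tt N3403 (iv D6551)) (tt N3611 F30006) (tt N5472 D9486) (tt N4358 F30007) (tt N3420 F30008) (tt N5473 D9487) (tt N3408 F30009))
theorem Q4360 : ∀ i, i < 4360 → P i := stepQ 4359 Q4359 (allL N4359 (tt N5470 (iv F42520)) (tt N3405 F30010) (tt N4359 F30011) (tt N5472 (iv F42532)) (tt N4359 F30012) (tt N3403 (iv D6552)) (tt N5474 D9488) (tt N3421 F30013) (tt N5464 (iv F42487)) (tt N3409 F30014))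
theorem Q4361 : ∀ i, i < 4361 → P i := stepQ 4360 Q4360 (allL N4360 (tt N4360 F30015) (tt N5472 (iv F42531)) (tt N5385 (iv F42126)) (tt N3405 F30016) (tt N5475 D9489) (tt N3404 (iv D6553)) (tt N5476 D9490) (tt N3422 F30017) (tt N5477 D9491) (tt N3410 F30018))
theorem Q4362 : ∀ i, i < 4362 → P i := stepQ 4361 Q4361 (allL N4361 (tt N4361 F30019) (tt N5473 (iv F42535)) (tt N5386 (iv F42131)) (tt N5466 (iv F42496)) (tt N3614 F30020) (tt N5477 (iv F42554)) (tt N4361 F30021) (tt N3423 F30022) (tt N3404 (iv D6554)) (tt N5478 D9492))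
theorem Q4363 : ∀ i, i < 4363 → P i := stepQ 4362 Q4362 (allL N4362 (tt N4362 F30023) (tt N5474 (iv F42539)) (tt N3406 F30024) (tt N5476 (iv F42550)) (tt N4362 F30025) (tt N4362 F30026) (tt N3405 (iv D6555)) (tt N5479 D9493) (tt N5467 (iv F42504)) (tt N3412 F30027))
theorem Q4364 : ∀ i, i < 4364 → P i := stepQ 4363 Q4363 (allL N4363 (tt N4363 F30028) (tt N4363 F30029) (tt N5479 (iv F42562)) (tt N5388 (iv F42143)) (tt N4363 F30030) (tt N4363 F30031) (tt N3425 F30032) (tt N3406 (iv D6556)) (tt N5468 (iv F42512)) (tt N3413 F30033))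
theorem Q4365 : ∀ i, i < 4365 → P i := stepQ 4364 Q4364 (allL N4364 (tt N3408 F30034) (tt N4364 F30035) (tt N5480 D9494) (tt N3407 (iv D6557)) (tt N3617 F30036) (tt N5481 D9495) (tt N4364 F30037) (tt N3426 F30038) (tt N5482 D9496) (tt N5469 (iv F42519)))
theorem Q4366 : ∀ i, i < 4366 → P i := stepQ 4365 Q4365 (allL N4365 (tt N3409 F30039) (tt N4365 F30040) (tt N4365 F30041) (tt N5481 (iv F42574)) (tt N4365 F30042) (tt N3407 (iv D6558)) (tt N5483 D9497) (tt N3427 F30043) (tt N4365 F30044) (tt N5470 (iv F42525)))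
theorem Q4367 : ∀ i, i < 4367 → P i := stepQ 4366 Q4366 (allL N4366 (tt N5480 (iv F42567)) (tt N5391 (iv F42157)) (tt N3408 (iv D6559)) (tt N4366 F30045) (tt N3619 F30046) (tt N5484 D9498) (tt N4366 F30047) (tt N3428 F30048) (tt N5485 D9499) (tt N5471 (iv F42530)))
theorem Q4368 : ∀ i, i < 4368 → P i := stepQ 4367 Q4367 (allL N4367 (tt N5481 (iv F42572)) (tt N3410 F30049) (tt N5484 (iv F42588)) (tt N3409 F30050) (tt N5486 D9500) (tt N3408 (iv D6560)) (tt N5487 D9501) (tt N3429 F30051) (tt N5488 D9502) (tt N5472 (iv F42534)))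
theorem Q4369 : ∀ i, i < 4369 → P i := stepQ 4368 Q4368 (allL N4368 (tt N5482 (iv F42576)) (tt N3411 F30052) (tt N5485 (iv F42591)) (tt N4368 F30053) (tt N3621 F30054) (tt N5488 (iv F42604)) (tt N4368 F30055) (tt N3430 F30056) (tt N3408 (iv D6561)) (tt N5489 D9503))
theorem Q4370 : ∀ i, i < 4370 → P i := stepQ 4369 Q4369 (allL N4369 (tt N5483 (iv F42582)) (tt N3412 F30057) (tt N4369 F30058) (tt N5487 (iv F42600)) (tt N4369 F30059) (tt N4369 F30060) (tt N3409 (iv D6562)) (tt N5490 D9504) (tt N4369 F30061) (tt N5474 (iv F42543)))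
theorem Q4371 : ∀ i, i < 4371 → P i := stepQ 4370 Q4370 (allL N4370 (tt N4370 F30062) (tt N5486 (iv F42595)) (tt N5395 (iv F42173)) (tt N4370 F30063) (tt N3410 (iv D6563)) (tt N3623 F30064) (tt N5491 D9505) (tt N3432 F30065) (tt N5492 D9506) (tt N5475 (iv F42548)))
theorem Q4372 : ∀ i, i < 4372 → P i := stepQ 4371 Q4371 (allL N4371 (tt N4371 F30066) (tt N5487 (iv F42599)) (tt N5396 (iv F42177)) (tt N3412 F30067) (tt N5491 (iv F42619)) (tt N4371 F30068) (tt N3410 (iv D6564)) (tt N5493 D9507) (tt N5494 D9508) (tt N5476 (iv F42552)))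
theorem Q4373 : ∀ i, i < 4373 → P i := stepQ 4372 Q4372 (allL N4372 (tt N4372 F30069) (tt N5488 (iv F42602)) (tt N5397 (iv F42181)) (tt N4372 F30070) (tt N5492 (iv F42621)) (tt N3411 F30071) (tt N5494 (iv F42631)) (tt N3434 F30072) (tt N3410 (iv D6565)) (tt N5495 D9509))
theorem Q4374 : ∀ i, i < 4374 → P i := stepQ 4373 Q4373 (allL N4373 (tt N4373 F30073) (tt N5489 (iv F42606)) (tt N5398 (iv F42185)) (tt N4373 F30074) (tt N3626 F30075) (tt N5495 (iv F42634)) (tt N4373 F30076) (tt N3435 F30077) (tt N5478 (iv F42560)) (tt N3411 (iv D6566)))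
theorem Q4375 : ∀ i, i < 4375 → P i := stepQ 4374 Q4374 (allL N4374 (tt N4374 F30078) (tt N5490 (iv F42611)) (tt N3413 F30079) (tt N5493 (iv F42625)) (tt N4374 F30080) (tt N4374 F30081) (tt N3436 F30082) (tt N3412 (iv D6567)) (tt N4374 F30083) (tt N5479 (iv F42566)))
theorem Q4376 : ∀ i, i < 4376 → P i := stepQ 4375 Q4375 (allL N4375 (tt N3415 F30084) (tt N4375 F30085) (tt N4375 F30086) (tt N5496 D9510) (tt N3414 (iv D6568)) (tt N5497 D9511) (tt N3437 F30087) (tt N5462 (iv F42475)) (tt N3419 F30088) (tt N4375 F30089))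
theorem Q4377 : ∀ i, i < 4377 → P i := stepQ 4376 Q4376 (allL N4376 (tt N5496 (iv F42636)) (tt N3416 F30090) (tt N5498 D9512) (tt N3415 (iv D6569)) (tt N4376 F30091) (tt N5499 D9513) (tt N3438 F30092) (tt N5463 (iv F42481)) (tt N5500 D9514) (tt N4376 F30093))
theorem Q4378 : ∀ i, i < 4378 → P i := stepQ 4377 Q4377 (allL N4377 (tt N5497 (iv F42641)) (tt N3417 F30094) (tt N4377 F30095) (tt N5499 (iv F42653)) (tt N4377 F30096) (tt N3415 (iv D6570)) (tt N5501 D9515) (tt N5464 (iv F42486)) (tt N3421 F30097) (tt N4377 F30098))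
theorem Q4379 : ∀ i, i < 4379 → P i := stepQ 4378 Q4378 (allL N4378 (tt N4378 F30099) (tt N5499 (iv F42652)) (tt N4378 F30100) (tt N3417 F30101) (tt N5502 D9516) (tt N3416 (iv D6571)) (tt N5503 D9517) (tt N5465 (iv F42492)) (tt N5504 D9518) (tt N4378 F30102))
theorem Q4380 : ∀ i, i < 4380 → P i := stepQ 4379 Q4379 (allL N4379 (tt N4379 F30103) (tt N5500 (iv F42655)) (tt N4379 F30104) (tt N3423 F30105) (tt N4379 F30106) (tt N5504 (iv F42678)) (tt N3441 F30107) (tt N5466 (iv F42499)) (tt N3416 (iv D6572)) (tt N5505 D9519))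
theorem Q4381 : ∀ i, i < 4381 → P i := stepQ 4380 Q4380 (allL N4380 (tt N4380 F30108) (tt N5501 (iv F42659)) (tt N3418 F30109) (tt N5503 (iv F42672)) (tt N4380 F30110) (tt N3442 F30111) (tt N3417 (iv D6573)) (tt N5506 D9520) (tt N3424 F30112) (tt N4380 F30113))
theorem Q4382 : ∀ i, i < 4382 → P i := stepQ 4381 Q4381 (allL N4381 (tt N4381 F30114) (tt N4381 F30115) (tt N5506 (iv F42686)) (tt N4381 F30116) (tt N4381 F30117) (tt N3443 F30118) (tt N5468 (iv F42511)) (tt N3418 (iv D6574)) (tt N3425 F30119) (tt N4381 F30120))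
theorem Q4383 : ∀ i, i < 4383 → P i := stepQ 4382 Q4382 (allL N4382 (tt N3420 F30121) (tt N4382 F30122) (tt N5507 D9521) (tt N3419 (iv D6575)) (tt N3628 F30123) (tt N5508 D9522) (tt N3444 F30124) (tt N5469 (iv F42518)) (tt N5509 D9523) (tt N3426 F30125))
theorem Q4384 : ∀ i, i < 4384 → P i := stepQ 4383 Q4383 (allL N4383 (tt N3421 F30126) (tt N4383 F30127) (tt N4383 F30128) (tt N5508 (iv F42698)) (tt N4383 F30129) (tt N3419 (iv D6576)) (tt N5510 D9524) (tt N5470 (iv F42524)) (tt N5497 (iv F42645)) (tt N3427 F30130))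
theorem Q4385 : ∀ i, i < 4385 → P i := stepQ 4384 Q4384 (allL N4384 (tt N5507 (iv F42691)) (tt N5400 (iv F42203)) (tt N3420 (iv D6577)) (tt N4384 F30131) (tt N3630 F30132) (tt N5511 D9525) (tt N3446 F30133) (tt N5471 (iv F42529)) (tt N5512 D9526) (tt N3428 F30134))
theorem Q4386 : ∀ i, i < 4386 → P i := stepQ 4385 Q4385 (allL N4385 (tt N5508 (iv F42696)) (tt N3422 F30135) (tt N5511 (iv F42710)) (tt N3421 F30136) (tt N5513 D9527) (tt N3420 (iv D6578)) (tt N5514 D9528) (tt N5472 (iv F42533)) (tt N5515 D9529) (tt N3429 F30137))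
theorem Q4387 : ∀ i, i < 4387 → P i := stepQ 4386 Q4386 (allL N4386 (tt N5509 (iv F42700)) (tt N3423 F30138) (tt N5512 (iv F42713)) (tt N5500 (iv F42656)) (tt N3632 F30139) (tt N5515 (iv F42725)) (tt N3448 F30140) (tt N5473 (iv F42538)) (tt N3420 (iv D6579)) (tt N5516 D9530))
theorem Q4388 : ∀ i, i < 4388 → P i := stepQ 4387 Q4387 (allL N4387 (tt N5510 (iv F42704)) (tt N3424 F30141) (tt N4387 F30142) (tt N5514 (iv F42721)) (tt N4387 F30143) (tt N3449 F30144) (tt N3421 (iv D6580)) (tt N5517 D9531) (tt N5501 (iv F42663)) (tt N3431 F30145))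
theorem Q4389 : ∀ i, i < 4389 → P i := stepQ 4388 Q4388 (allL N4388 (tt N4388 F30146) (tt N5513 (iv F42716)) (tt N5404 (iv F42221)) (tt N4388 F30147) (tt N3422 (iv D6581)) (tt N3634 F30148) (tt N5518 D9532) (tt N5475 (iv F42547)) (tt N5519 D9533) (tt N3432 F30149))
theorem Q4390 : ∀ i, i < 4390 → P i := stepQ 4389 Q4389 (allL N4389 (tt N4389 F30150) (tt N5514 (iv F42720)) (tt N5405 (iv F42225)) (tt N3424 F30151) (tt N5518 (iv F42737)) (tt N3451 F30152) (tt N3422 (iv D6582)) (tt N5520 D9534) (tt N5521 D9535) (tt N3433 F30153))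
theorem Q4391 : ∀ i, i < 4391 → P i := stepQ 4390 Q4390 (allL N4390 (tt N4390 F30154) (tt N5515 (iv F42724)) (tt N5406 (iv F42230)) (tt N5504 (iv F42677)) (tt N5519 (iv F42740)) (tt N3423 F30155) (tt N5521 (iv F42748)) (tt N5477 (iv F42555)) (tt N3422 (iv D6583)) (tt N5522 D9536))
theorem Q4392 : ∀ i, i < 4392 → P i := stepQ 4391 Q4391 (allL N4391 (tt N4391 F30156) (tt N5516 (iv F42726)) (tt N5407 (iv F42234)) (tt N5505 (iv F42681)) (tt N3637 F30157) (tt N5522 (iv F42750)) (tt N3453 F30158) (tt N5478 (iv F42559)) (tt N3435 F30159) (tt N3423 (iv D6584)))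
theorem Q4393 : ∀ i, i < 4393 → P i := stepQ 4392 Q4392 (allL N4392 (tt N4392 F30160) (tt N5517 (iv F42730)) (tt N3425 F30161) (tt N5520 (iv F42743)) (tt N4392 F30162) (tt N3454 F30163) (tt N5479 (iv F42565)) (tt N3424 (iv D6585)) (tt N5506 (iv F42689)) (tt N3436 F30164))
theorem Q4394 : ∀ i, i < 4394 → P i := stepQ 4393 Q4393 (allL N4393 (tt N3428 F30165) (tt N5523 D9537) (tt N3426 (iv D6586)) (tt N4393 F30166) (tt N3639 F30167) (tt N5524 D9538) (tt N3455 F30168) (tt N5480 (iv F42571)) (tt N5525 D9539) (tt N5507 (iv F42695)))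
theorem Q4395 : ∀ i, i < 4395 → P i := stepQ 4394 Q4394 (allL N4394 (tt N3429 F30169) (tt N4394 F30170) (tt N5524 (iv F42757)) (tt N3427 F30171) (tt N5526 D9540) (tt N3426 (iv D6587)) (tt N5527 D9541) (tt N5481 (iv F42575)) (tt N5528 D9542) (tt N5508 (iv F42699)))
theorem Q4396 : ∀ i, i < 4396 → P i := stepQ 4395 Q4395 (allL N4395 (tt N3430 F30172) (tt N4395 F30173) (tt N5525 (iv F42760)) (tt N4395 F30174) (tt N3641 F30175) (tt N5528 (iv F42774)) (tt N3457 F30176) (tt N5482 (iv F42581)) (tt N3426 (iv D6588)) (tt N5529 D9543))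
theorem Q4397 : ∀ i, i < 4397 → P i := stepQ 4396 Q4396 (allL N4396 (tt N3431 F30177) (tt N4396 F30178) (tt N4396 F30179) (tt N5527 (iv F42769)) (tt N4396 F30180) (tt N3458 F30181) (tt N3427 (iv D6589)) (tt N5530 D9544) (tt N4396 F30182) (tt N5510 (iv F42709)))
theorem Q4398 : ∀ i, i < 4398 → P i := stepQ 4397 Q4397 (allL N4397 (tt N5524 (iv F42756)) (tt N5413 (iv F42259)) (tt N3429 F30183) (tt N4397 F30184) (tt N5531 D9545) (tt N3428 (iv D6590)) (tt N5532 D9546) (tt N5484 (iv F42590)) (tt N5533 D9547) (tt N5511 (iv F42712)))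
theorem Q4399 : ∀ i, i < 4399 → P i := stepQ 4398 Q4398 (allL N4398 (tt N5525 (iv F42759)) (tt N5414 (iv F42262)) (tt N3430 F30185) (tt N5534 D9548) (tt N3644 F30186) (tt N5533 (iv F42792)) (tt N3460 F30187) (tt N5485 (iv F42594)) (tt N3428 (iv D6591)) (tt N5535 D9549))
theorem Q4400 : ∀ i, i < 4400 → P i := stepQ 4399 Q4399 (allL N4399 (tt N5526 (iv F42763)) (tt N3432 F30188) (tt N5531 (iv F42786)) (tt N4399 F30189) (tt N3429 (iv D6592)) (tt N3645 F30190) (tt N5536 D9550) (tt N5486 (iv F42598)) (tt N5537 D9551) (tt N5513 (iv F42719)))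
theorem Q4401 : ∀ i, i < 4401 → P i := stepQ 4400 Q4400 (allL N4400 (tt N5527 (iv F42767)) (tt N3433 F30191) (tt N5532 (iv F42788)) (tt N3431 F30192) (tt N5536 (iv F42801)) (tt N3462 F30193) (tt N3429 (iv D6593)) (tt N5538 D9552) (tt N5539 D9553) (tt N5514 (iv F42723)))
theorem Q4402 : ∀ i, i < 4402 → P i := stepQ 4401 Q4401 (allL N4401 (tt N5528 (iv F42771)) (tt N3434 F30194) (tt N5533 (iv F42791)) (tt N4401 F30195) (tt N5537 (iv F42803)) (tt N3430 F30196) (tt N5539 (iv F42811)) (tt N5488 (iv F42605)) (tt N3429 (iv D6594)) (tt N5540 D9554))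
theorem Q4403 : ∀ i, i < 4403 → P i := stepQ 4402 Q4402 (allL N4402 (tt N5529 (iv F42775)) (tt N3435 F30197) (tt N5535 (iv F42796)) (tt N4402 F30198) (tt N3648 F30199) (tt N5540 (iv F42814)) (tt N3464 F30200) (tt N5489 (iv F42610)) (tt N5516 (iv F42729)) (tt N3430 (iv D6595)))
theorem Q4404 : ∀ i, i < 4404 → P i := stepQ 4403 Q4403 (allL N4403 (tt N5530 (iv F42780)) (tt N3436 F30201) (tt N4403 F30202) (tt N5538 (iv F42806)) (tt N4403 F30203) (tt N3465 F30204) (tt N5490 (iv F42615)) (tt N3431 (iv D6596)) (tt N4403 F30205) (tt N5517 (iv F42734)))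
theorem Q4405 : ∀ i, i < 4405 → P i := stepQ 4404 Q4404 (allL N4404 (tt N4404 F30206) (tt N5536 (iv F42799)) (tt N5420 (iv F42280)) (tt N4404 F30207) (tt N3433 F30208) (tt N5541 D9555) (tt N3432 (iv D6597)) (tt N5542 D9556) (tt N5543 D9557) (tt N5518 (iv F42738)))
theorem Q4406 : ∀ i, i < 4406 → P i := stepQ 4405 Q4405 (allL N4405 (tt N4405 F30209) (tt N5537 (iv F42802)) (tt N5421 (iv F42283)) (tt N5544 D9558) (tt N3434 F30210) (tt N3651 F30211) (tt N5543 (iv F42824)) (tt N5492 (iv F42623)) (tt N3432 (iv D6598)) (tt N5545 D9559))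
theorem Q4407 : ∀ i, i < 4407 → P i := stepQ 4406 Q4406 (allL N4406 (tt N4406 F30212) (tt N5538 (iv F42805)) (tt N5422 (iv F42287)) (tt N3436 F30213) (tt N5542 (iv F42821)) (tt N3468 F30214) (tt N5493 (iv F42627)) (tt N3433 (iv D6599)) (tt N5546 D9560) (tt N5520 (iv F42745)))
theorem Q4408 : ∀ i, i < 4408 → P i := stepQ 4407 Q4407 (allL N4407 (tt N4407 F30215) (tt N5539 (iv F42808)) (tt N5423 (iv F42291)) (tt N4407 F30216) (tt N5543 (iv F42823)) (tt N3469 F30217) (tt N3434 F30218) (tt N5546 (iv F42835)) (tt N3433 (iv D6600)) (tt N5547 D9561))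
theorem Q4409 : ∀ i, i < 4409 → P i := stepQ 4408 Q4408 (allL N4408 (tt N4408 F30219) (tt N5540 (iv F42812)) (tt N5424 (iv F42295)) (tt N4408 F30220) (tt N5545 (iv F42830)) (tt N3435 F30221) (tt N5547 (iv F42839)) (tt N5495 (iv F42635)) (tt N5522 (iv F42751)) (tt N3434 (iv D6601)))
theorem Q4410 : ∀ i, i < 4410 → P i := stepQ 4409 Q4409 (allL N4409 (tt N3438 F30222) (tt N4409 F30223) (tt N5548 D9562) (tt N3437 (iv D6602)) (tt N4409 F30224) (tt N5549 D9563) (tt N5496 (iv F42639)) (tt N4409 F30225) (tt N5550 D9564) (tt N4409 F30226))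
theorem Q4411 : ∀ i, i < 4411 → P i := stepQ 4410 Q4410 (allL N4410 (tt N3439 F30227) (tt N4410 F30228) (tt N4410 F30229) (tt N5549 (iv F42847)) (tt N3475 F30230) (tt N3437 (iv D6603)) (tt N5551 D9565) (tt N4410 F30231) (tt N3445 F30232) (tt N4410 F30233))
theorem Q4412 : ∀ i, i < 4412 → P i := stepQ 4411 Q4411 (allL N4411 (tt N5548 (iv F42840)) (tt N4411 F30234) (tt N3438 (iv D6604)) (tt N4411 F30235) (tt N4411 F30236) (tt N5552 D9566) (tt N5498 (iv F42650)) (tt N4411 F30237) (tt N5553 D9567) (tt N4411 F30238))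
theorem Q4413 : ∀ i, i < 4413 → P i := stepQ 4412 Q4412 (allL N4412 (tt N5549 (iv F42845)) (tt N3440 F30239) (tt N5552 (iv F42862)) (tt N3439 F30240) (tt N5554 D9568) (tt N3438 (iv D6605)) (tt N5555 D9569) (tt N4412 F30241) (tt N5556 D9570) (tt N4412 F30242))
theorem Q4414 : ∀ i, i < 4414 → P i := stepQ 4413 Q4413 (allL N4413 (tt N5550 (iv F42850)) (tt N3441 F30243) (tt N5553 (iv F42867)) (tt N3448 F30244) (tt N4413 F30245) (tt N5556 (iv F42880)) (tt N5500 (iv F42658)) (tt N4413 F30246) (tt N3438 (iv D6606)) (tt N5557 D9571))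
theorem Q4415 : ∀ i, i < 4415 → P i := stepQ 4414 Q4414 (allL N4414 (tt N5551 (iv F42855)) (tt N3442 F30247) (tt N4414 F30248) (tt N5555 (iv F42876)) (tt N3477 F30249) (tt N5501 (iv F42662)) (tt N3439 (iv D6607)) (tt N5558 D9572) (tt N3449 F30250) (tt N4414 F30251))
theorem Q4416 : ∀ i, i < 4416 → P i := stepQ 4415 Q4415 (allL N4415 (tt N4415 F30252) (tt N5554 (iv F42870)) (tt N4415 F30253) (tt N3478 F30254) (tt N3440 (iv D6608)) (tt N4415 F30255) (tt N5559 D9573) (tt N4415 F30256) (tt N5560 D9574) (tt N4415 F30257))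
theorem Q4417 : ∀ i, i < 4417 → P i := stepQ 4416 Q4416 (allL N4416 (tt N4416 F30258) (tt N5555 (iv F42875)) (tt N4416 F30259) (tt N3442 F30260) (tt N5559 (iv F42896)) (tt N5503 (iv F42673)) (tt N3440 (iv D6609)) (tt N5561 D9575) (tt N5562 D9576) (tt N4416 F30261))
theorem Q4418 : ∀ i, i < 4418 → P i := stepQ 4417 Q4417 (allL N4417 (tt N4417 F30262) (tt N5556 (iv F42878)) (tt N4417 F30263) (tt N3452 F30264) (tt N5560 (iv F42900)) (tt N3441 F30265) (tt N5562 (iv F42911)) (tt N4417 F30266) (tt N3440 (iv D6610)) (tt N5563 D9577))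
theorem Q4419 : ∀ i, i < 4419 → P i := stepQ 4418 Q4418 (allL N4418 (tt N4418 F30267) (tt N5557 (iv F42882)) (tt N4418 F30268) (tt N3453 F30269) (tt N4418 F30270) (tt N5563 (iv F42915)) (tt N5505 (iv F42683)) (tt N4418 F30271) (tt N4418 F30272) (tt N3441 (iv D6611)))
theorem Q4420 : ∀ i, i < 4420 → P i := stepQ 4419 Q4419 (allL N4419 (tt N4419 F30273) (tt N5558 (iv F42887)) (tt N3443 F30274) (tt N5561 (iv F42905)) (tt N3481 F30275) (tt N5506 (iv F42688)) (tt N4419 F30276) (tt N3442 (iv D6612)) (tt N3454 F30277) (tt N4419 F30278))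
theorem Q4421 : ∀ i, i < 4421 → P i := stepQ 4420 Q4420 (allL N4420 (tt N3446 F30279) (tt N5564 D9578) (tt N3444 (iv D6613)) (tt N4420 F30280) (tt N3655 F30281) (tt N5565 D9579) (tt N5507 (iv F42694)) (tt N4420 F30282) (tt N5566 D9580) (tt N3455 F30283))
theorem Q4422 : ∀ i, i < 4422 → P i := stepQ 4421 Q4421 (allL N4421 (tt N3447 F30284) (tt N4421 F30285) (tt N5565 (iv F42924)) (tt N3445 F30286) (tt N5567 D9581) (tt N3444 (iv D6614)) (tt N5568 D9582) (tt N4421 F30287) (tt N5569 D9583) (tt N3456 F30288))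
theorem Q4423 : ∀ i, i < 4423 → P i := stepQ 4422 Q4422 (allL N4422 (tt N3448 F30289) (tt N4422 F30290) (tt N5566 (iv F42929)) (tt N5550 (iv F42852)) (tt N3657 F30291) (tt N5569 (iv F42944)) (tt N5509 (iv F42703)) (tt N4422 F30292) (tt N3444 (iv D6615)) (tt N5570 D9584))
theorem Q4424 : ∀ i, i < 4424 → P i := stepQ 4423 Q4423 (allL N4423 (tt N3449 F30293) (tt N4423 F30294) (tt N4423 F30295) (tt N5568 (iv F42940)) (tt N3483 F30296) (tt N5510 (iv F42708)) (tt N3445 (iv D6616)) (tt N5571 D9585) (tt N5551 (iv F42859)) (tt N3458 F30297))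
theorem Q4425 : ∀ i, i < 4425 → P i := stepQ 4424 Q4424 (allL N4424 (tt N5565 (iv F42923)) (tt N5425 (iv F42318)) (tt N3447 F30298) (tt N4424 F30299) (tt N5572 D9586) (tt N3446 (iv D6617)) (tt N5573 D9587) (tt N4424 F30300) (tt N5574 D9588) (tt N3459 F30301))
theorem Q4426 : ∀ i, i < 4426 → P i := stepQ 4425 Q4425 (allL N4425 (tt N5566 (iv F42928)) (tt N5426 (iv F42323)) (tt N3448 F30302) (tt N5575 D9589) (tt N3660 F30303) (tt N5574 (iv F42965)) (tt N5512 (iv F42715)) (tt N4425 F30304) (tt N3446 (iv D6618)) (tt N5576 D9590))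
theorem Q4427 : ∀ i, i < 4427 → P i := stepQ 4426 Q4426 (allL N4426 (tt N5567 (iv F42932)) (tt N3450 F30305) (tt N5572 (iv F42957)) (tt N3485 F30306) (tt N3447 (iv D6619)) (tt N3661 F30307) (tt N5577 D9591) (tt N4426 F30308) (tt N5578 D9592) (tt N3461 F30309))
theorem Q4428 : ∀ i, i < 4428 → P i := stepQ 4427 Q4427 (allL N4427 (tt N5568 (iv F42938)) (tt N3451 F30310) (tt N5573 (iv F42961)) (tt N3449 F30311) (tt N5577 (iv F42975)) (tt N5514 (iv F42722)) (tt N3447 (iv D6620)) (tt N5579 D9593) (tt N5580 D9594) (tt N3462 F30312))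
theorem Q4429 : ∀ i, i < 4429 → P i := stepQ 4428 Q4428 (allL N4428 (tt N5569 (iv F42942)) (tt N3452 F30313) (tt N5574 (iv F42964)) (tt N5556 (iv F42879)) (tt N5578 (iv F42978)) (tt N3448 F30314) (tt N5580 (iv F42986)) (tt N4428 F30315) (tt N3447 (iv D6621)) (tt N5581 D9595))
theorem Q4430 : ∀ i, i < 4430 → P i := stepQ 4429 Q4429 (allL N4429 (tt N5570 (iv F42946)) (tt N3453 F30316) (tt N5576 (iv F42969)) (tt N5557 (iv F42883)) (tt N3664 F30317) (tt N5581 (iv F42988)) (tt N5516 (iv F42728)) (tt N4429 F30318) (tt N3464 F30319) (tt N3448 (iv D6622)))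
theorem Q4431 : ∀ i, i < 4431 → P i := stepQ 4430 Q4430 (allL N4430 (tt N5571 (iv F42951)) (tt N3454 F30320) (tt N4430 F30321) (tt N5579 (iv F42982)) (tt N3488 F30322) (tt N5517 (iv F42733)) (tt N4430 F30323) (tt N3449 (iv D6623)) (tt N5558 (iv F42891)) (tt N3465 F30324))
theorem Q4432 : ∀ i, i < 4432 → P i := stepQ 4431 Q4431 (allL N4431 (tt N4431 F30325) (tt N5577 (iv F42973)) (tt N5432 (iv F42351)) (tt N3489 F30326) (tt N3451 F30327) (tt N5582 D9596) (tt N3450 (iv D6624)) (tt N5583 D9597) (tt N5584 D9598) (tt N3466 F30328))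
theorem Q4433 : ∀ i, i < 4433 → P i := stepQ 4432 Q4432 (allL N4432 (tt N4432 F30329) (tt N5578 (iv F42977)) (tt N5433 (iv F42356)) (tt N5585 D9599) (tt N3452 F30330) (tt N3667 F30331) (tt N5584 (iv F43002)) (tt N4432 F30332) (tt N3450 (iv D6625)) (tt N5586 D9600))
theorem Q4434 : ∀ i, i < 4434 → P i := stepQ 4433 Q4433 (allL N4433 (tt N4433 F30333) (tt N5579 (iv F42981)) (tt N5434 (iv F42361)) (tt N3454 F30334) (tt N5583 (iv F42997)) (tt N5520 (iv F42744)) (tt N4433 F30335) (tt N3451 (iv D6626)) (tt N5587 D9601) (tt N3468 F30336))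
theorem Q4435 : ∀ i, i < 4435 → P i := stepQ 4434 Q4434 (allL N4434 (tt N4434 F30337) (tt N5580 (iv F42985)) (tt N5435 (iv F42366)) (tt N5562 (iv F42910)) (tt N5584 (iv F43001)) (tt N5521 (iv F42747)) (tt N3452 F30338) (tt N5587 (iv F43014)) (tt N3451 (iv D6627)) (tt N5588 D9602))
theorem Q4436 : ∀ i, i < 4436 → P i := stepQ 4435 Q4435 (allL N4435 (tt N4435 F30339) (tt N5581 (iv F42987)) (tt N5436 (iv F42370)) (tt N5563 (iv F42914)) (tt N5586 (iv F43008)) (tt N3453 F30340) (tt N5588 (iv F43016)) (tt N4435 F30341) (tt N3470 F30342) (tt N3452 (iv D6628)))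
theorem Q4437 : ∀ i, i < 4437 → P i := stepQ 4436 Q4436 (allL N4436 (tt N5437 (iv F42375)) (tt N3455 (iv D6629)) (tt N4436 F30343) (tt N4436 F30344) (tt N3671 F30345) (tt N5589 D9603) (tt N5523 (iv F42755)) (tt N4436 F30346) (tt N5590 D9604) (tt N5564 (iv F42922)))
theorem Q4438 : ∀ i, i < 4438 → P i := stepQ 4437 Q4437 (allL N4437 (tt N3459 F30347) (tt N5589 (iv F43018)) (tt N3456 F30348) (tt N4437 F30349) (tt N5591 D9605) (tt N3455 (iv D6630)) (tt N5592 D9606) (tt N4437 F30350) (tt N5593 D9607) (tt N5565 (iv F42927)))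
theorem Q4439 : ∀ i, i < 4439 → P i := stepQ 4438 Q4438 (allL N4438 (tt N3460 F30351) (tt N5590 (iv F43022)) (tt N3457 F30352) (tt N5594 D9608) (tt N3673 F30353) (tt N5593 (iv F43035)) (tt N5525 (iv F42762)) (tt N4438 F30354) (tt N3455 (iv D6631)) (tt N5595 D9609))
theorem Q4440 : ∀ i, i < 4440 → P i := stepQ 4439 Q4439 (allL N4439 (tt N3461 F30355) (tt N4439 F30356) (tt N5591 (iv F43027)) (tt N3495 F30357) (tt N3456 (iv D6632)) (tt N3674 F30358) (tt N5596 D9610) (tt N4439 F30359) (tt N5597 D9611) (tt N5567 (iv F42937)))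
theorem Q4441 : ∀ i, i < 4441 → P i := stepQ 4440 Q4440 (allL N4440 (tt N3462 F30360) (tt N4440 F30361) (tt N5592 (iv F43031)) (tt N3458 F30362) (tt N5596 (iv F43048)) (tt N5527 (iv F42770)) (tt N3456 (iv D6633)) (tt N5598 D9612) (tt N5599 D9613) (tt N5568 (iv F42941)))
theorem Q4442 : ∀ i, i < 4442 → P i := stepQ 4441 Q4441 (allL N4441 (tt N3463 F30363) (tt N4441 F30364) (tt N5593 (iv F43034)) (tt N4441 F30365) (tt N5597 (iv F43051)) (tt N3457 F30366) (tt N5599 (iv F43061)) (tt N4441 F30367) (tt N3456 (iv D6634)) (tt N5600 D9614))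
theorem Q4443 : ∀ i, i < 4443 → P i := stepQ 4442 Q4442 (allL N4442 (tt N3464 F30368) (tt N4442 F30369) (tt N5595 (iv F43042)) (tt N4442 F30370) (tt N3677 F30371) (tt N5600 (iv F43065)) (tt N5529 (iv F42779)) (tt N4442 F30372) (tt N5570 (iv F42950)) (tt N3457 (iv D6635)))
theorem Q4444 : ∀ i, i < 4444 → P i := stepQ 4443 Q4443 (allL N4443 (tt N3465 F30373) (tt N4443 F30374) (tt N4443 F30375) (tt N5598 (iv F43056)) (tt N3498 F30376) (tt N5530 (iv F42784)) (tt N4443 F30377) (tt N3458 (iv D6636)) (tt N4443 F30378) (tt N5571 (iv F42956)))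
theorem Q4445 : ∀ i, i < 4445 → P i := stepQ 4444 Q4444 (allL N4444 (tt N5591 (iv F43026)) (tt N5445 (iv F42409)) (tt N3461 F30379) (tt N5601 D9615) (tt N3459 (iv D6637)) (tt N3679 F30380) (tt N5602 D9616) (tt N4444 F30381) (tt N5603 D9617) (tt N5572 (iv F42960)))
theorem Q4446 : ∀ i, i < 4446 → P i := stepQ 4445 Q4445 (allL N4445 (tt N5592 (iv F43030)) (tt N5446 (iv F42413)) (tt N3462 F30382) (tt N4445 F30383) (tt N5602 (iv F43072)) (tt N5532 (iv F42790)) (tt N3459 (iv D6638)) (tt N5604 D9618) (tt N5605 D9619) (tt N5573 (iv F42963)))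
theorem Q4447 : ∀ i, i < 4447 → P i := stepQ 4446 Q4446 (allL N4446 (tt N5593 (iv F43033)) (tt N5447 (iv F42416)) (tt N3463 F30384) (tt N5606 D9620) (tt N5603 (iv F43074)) (tt N3460 F30385) (tt N5605 (iv F43081)) (tt N4446 F30386) (tt N3459 (iv D6639)) (tt N5607 D9621))
theorem Q4448 : ∀ i, i < 4448 → P i := stepQ 4447 Q4447 (allL N4447 (tt N5594 (iv F43037)) (tt N5448 (iv F42420)) (tt N4447 F30387) (tt N3460 (iv D6640)) (tt N5608 D9622) (tt N5606 (iv F43083)) (tt N5534 (iv F42794)) (tt N4447 F30388) (tt N4447 F30389) (tt N5609 D9623))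
theorem Q4449 : ∀ i, i < 4449 → P i := stepQ 4448 Q4448 (allL N4448 (tt N5595 (iv F43041)) (tt N5449 (iv F42423)) (tt N3464 F30390) (tt N5609 (iv F43094)) (tt N3683 F30391) (tt N5607 (iv F43087)) (tt N5535 (iv F42798)) (tt N4448 F30392) (tt N5576 (iv F42972)) (tt N3460 (iv D6641)))
theorem Q4450 : ∀ i, i < 4450 → P i := stepQ 4449 Q4449 (allL N4449 (tt N5596 (iv F43045)) (tt N3466 F30393) (tt N5602 (iv F43071)) (tt N3502 F30394) (tt N3462 F30395) (tt N5610 D9624) (tt N3461 (iv D6642)) (tt N5611 D9625) (tt N5612 D9626) (tt N5577 (iv F42976)))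
theorem Q4451 : ∀ i, i < 4451 → P i := stepQ 4450 Q4450 (allL N4450 (tt N5597 (iv F43049)) (tt N3467 F30396) (tt N5603 (iv F43073)) (tt N5613 D9627) (tt N3463 F30397) (tt N3685 F30398) (tt N5612 (iv F43105)) (tt N4450 F30399) (tt N3461 (iv D6643)) (tt N5614 D9628))
theorem Q4452 : ∀ i, i < 4452 → P i := stepQ 4451 Q4451 (allL N4451 (tt N5598 (iv F43054)) (tt N3468 F30400) (tt N5604 (iv F43077)) (tt N3465 F30401) (tt N5611 (iv F43101)) (tt N5538 (iv F42807)) (tt N4451 F30402) (tt N3462 (iv D6644)) (tt N5615 D9629) (tt N5579 (iv F42984)))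
theorem Q4453 : ∀ i, i < 4453 → P i := stepQ 4452 Q4452 (allL N4452 (tt N5599 (iv F43058)) (tt N3469 F30403) (tt N5605 (iv F43080)) (tt N4452 F30404) (tt N5612 (iv F43104)) (tt N5539 (iv F42810)) (tt N3463 F30405) (tt N5615 (iv F43118)) (tt N3462 (iv D6645)) (tt N5616 D9630))
theorem Q4454 : ∀ i, i < 4454 → P i := stepQ 4453 Q4453 (allL N4453 (tt N5600 (iv F43062)) (tt N3470 F30406) (tt N5607 (iv F43086)) (tt N4453 F30407) (tt N5614 (iv F43112)) (tt N3464 F30408) (tt N5616 (iv F43121)) (tt N4453 F30409) (tt N5581 (iv F42990)) (tt N3463 (iv D6646)))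
theorem Q4455 : ∀ i, i < 4455 → P i := stepQ 4454 Q4454 (allL N4454 (tt N4454 F30410) (tt N5610 (iv F43096)) (tt N5455 (iv F42443)) (tt N3507 F30411) (tt N5541 (iv F42817)) (tt N3466 (iv D6647)) (tt N3689 F30412) (tt N5617 D9631) (tt N5618 D9632) (tt N5582 (iv F42994)))
theorem Q4456 : ∀ i, i < 4456 → P i := stepQ 4455 Q4455 (allL N4455 (tt N4455 F30413) (tt N5611 (iv F43099)) (tt N5456 (iv F42447)) (tt N3508 F30414) (tt N3468 F30415) (tt N5617 (iv F43124)) (tt N4455 F30416) (tt N3466 (iv D6648)) (tt N5619 D9633) (tt N5583 (iv F42999)))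
theorem Q4457 : ∀ i, i < 4457 → P i := stepQ 4456 Q4456 (allL N4456 (tt N4456 F30417) (tt N5612 (iv F43103)) (tt N5457 (iv F42452)) (tt N5620 D9634) (tt N3469 F30418) (tt N5618 (iv F43126)) (tt N3467 F30419) (tt N5619 (iv F43131)) (tt N3466 (iv D6649)) (tt N5621 D9635))
theorem Q4458 : ∀ i, i < 4458 → P i := stepQ 4457 Q4457 (allL N4457 (tt N4457 F30420) (tt N5613 (iv F43106)) (tt N5622 D9636) (tt N3467 (iv D6650)) (tt N4457 F30421) (tt N3692 F30422) (tt N5620 (iv F43134)) (tt N4457 F30423) (tt N3510 F30424) (tt N5623 D9637))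
theorem Q4459 : ∀ i, i < 4459 → P i := stepQ 4458 Q4458 (allL N4458 (tt N4458 F30425) (tt N5614 (iv F43111)) (tt N5459 (iv F42460)) (tt N5623 (iv F43145)) (tt N3470 F30426) (tt N3693 F30427) (tt N5621 (iv F43138)) (tt N4458 F30428) (tt N5586 (iv F43011)) (tt N3467 (iv D6651)))
theorem Q4460 : ∀ i, i < 4460 → P i := stepQ 4459 Q4459 (allL N4459 (tt N4459 F30429) (tt N5615 (iv F43115)) (tt N5460 (iv F42465)) (tt N4459 F30430) (tt N5619 (iv F43129)) (tt N5546 (iv F42834)) (tt N4459 F30431) (tt N3469 F30432) (tt N3468 (iv D6652)) (tt N5624 D9638))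
theorem Q4461 : ∀ i, i < 4461 → P i := stepQ 4460 Q4460 (allL N4460 (tt N4460 F30433) (tt N5616 (iv F43119)) (tt N5461 (iv F42469)) (tt N4460 F30434) (tt N5621 (iv F43137)) (tt N5547 (iv F42838)) (tt N3470 F30435) (tt N5624 (iv F43152)) (tt N5588 (iv F43017)) (tt N3469 (iv D6653)))
theorem Q4462 : ∀ i, i < 4462 → P i := stepQ 4461 Q4461 (allL N4461 (tt N4217 F203426) (tt N3473 F30464) (tt N4461 F30465) (tt N4206 F203427) (tt N4461 F30466) (tt N4461 F30467) (tt N3471 (iv D6659)) (tt N5625 D9649) (tt N4461 F30468) (tt N4461 F30469))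
theorem Q4463 : ∀ i, i < 4463 → P i := stepQ 4462 Q4462 (allL N4462 (tt N4462 F30470) (tt N4204 F202488) (tt N3478 F30471) (tt N4462 F30472) (tt N3472 (iv D6660)) (tt N4462 F30473) (tt N5626 D9650) (tt N4462 F30474) (tt N4200 F202489) (tt N4462 F30475))
theorem Q4464 : ∀ i, i < 4464 → P i := stepQ 4463 Q4463 (allL N4463 (tt N4463 F30476) (tt N4206 F203424) (tt N3479 F30477) (tt N3473 F30478) (tt N5626 (iv F43216)) (tt N4463 F30479) (tt N3472 (iv D6661)) (tt N5627 D9652) (tt N4201 F203425) (tt N4463 F30480))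
theorem Q4465 : ∀ i, i < 4465 → P i := stepQ 4464 Q4464 (allL N4464 (tt N4464 F30493) (tt N5625 (iv F43206)) (tt N3474 F30494) (tt N5627 (iv F43225)) (tt N4464 F30495) (tt N4464 F30496) (tt N4464 F30497) (tt N3473 (iv D6664)) (tt N4464 F30498) (tt N4464 F30499))
theorem Q4466 : ∀ i, i < 4466 → P i := stepQ 4465 Q4465 (allL N4465 (tt N3477 F30517) (tt N4465 F30518) (tt N4465 F30519) (tt N4047 F203337) (tt N5551 (iv F42858)) (tt N4465 F30520) (tt N3475 (iv D6668)) (tt N5628 D9662) (tt N3483 F30521) (tt N4465 F30522))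
theorem Q4467 : ∀ i, i < 4467 → P i := stepQ 4466 Q4466 (allL N4466 (tt N4045 F202467) (tt N3478 F30531) (tt N4040 F202468) (tt N5554 (iv F42871)) (tt N3476 (iv D6671)) (tt N4466 F30532) (tt N5629 D9668) (tt N4466 F30533) (tt N4037 F202469) (tt N4466 F30534))
theorem Q4468 : ∀ i, i < 4468 → P i := stepQ 4467 Q4467 (allL N4467 (tt N4047 F203330) (tt N3479 F30535) (tt N4042 F203331) (tt N3477 F30536) (tt N5629 (iv F43306)) (tt N4467 F30537) (tt N3476 (iv D6672)) (tt N5630 D9670) (tt N4038 F203332) (tt N4467 F30538))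
theorem Q4469 : ∀ i, i < 4469 → P i := stepQ 4468 Q4468 (allL N4468 (tt N5628 (iv F43278)) (tt N3481 F30549) (tt N4468 F30550) (tt N5630 (iv F43313)) (tt N5558 (iv F42889)) (tt N4468 F30551) (tt N4468 F30552) (tt N3477 (iv D6675)) (tt N3488 F30553) (tt N4468 F30554))
theorem Q4470 : ∀ i, i < 4470 → P i := stepQ 4469 Q4469 (allL N4469 (tt N4469 F30555) (tt N5629 (iv F43305)) (tt N5626 (iv F43214)) (tt N5559 (iv F42895)) (tt N3479 F30556) (tt N5631 D9673) (tt N3478 (iv D6676)) (tt N5632 D9674) (tt N5633 D9675) (tt N4469 F30557))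
theorem Q4471 : ∀ i, i < 4471 → P i := stepQ 4470 Q4470 (allL N4470 (tt N4470 F30558) (tt N4037 F202465) (tt N4200 F202466) (tt N5634 D9676) (tt N3480 F30559) (tt N4470 F30560) (tt N5633 (iv F43336)) (tt N4470 F30561) (tt N3478 (iv D6677)) (tt N4058 (iv F202880)))
theorem Q4472 : ∀ i, i < 4472 → P i := stepQ 4471 Q4471 (allL N4471 (tt N4471 F30562) (tt N5630 (iv F43312)) (tt N5627 (iv F43224)) (tt N3481 F30563) (tt N5632 (iv F43331)) (tt N4471 F30564) (tt N4471 F30565) (tt N3479 (iv D6678)) (tt N5635 D9678) (tt N4471 F30566))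
theorem Q4473 : ∀ i, i < 4473 → P i := stepQ 4472 Q4472 (allL N4472 (tt N4472 F30567) (tt N4038 F203328) (tt N4201 F203329) (tt N3492 F30568) (tt N5633 (iv F43335)) (tt N4472 F30569) (tt N3480 F30570) (tt N5635 (iv F43350)) (tt N3479 (iv D6679)) (tt N4059 (iv F203563)))
theorem Q4474 : ∀ i, i < 4474 → P i := stepQ 4473 Q4473 (allL N4473 (tt N3485 F30593) (tt N4473 F30594) (tt N3702 F203354) (tt N5567 (iv F42934)) (tt N3482 (iv D6684)) (tt N3696 F30595) (tt N5636 D9687) (tt N4473 F30596) (tt N3699 F203355) (tt N3495 F30597))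
theorem Q4475 : ∀ i, i < 4475 → P i := stepQ 4474 Q4474 (allL N4474 (tt N3486 F30598) (tt N4474 F30599) (tt N3704 F203333) (tt N3483 F30600) (tt N5636 (iv F43394)) (tt N4474 F30601) (tt N3482 (iv D6685)) (tt N5637 D9689) (tt N3700 F203334) (tt N3496 F30602))
theorem Q4476 : ∀ i, i < 4476 → P i := stepQ 4475 Q4475 (allL N4475 (tt N3488 F30613) (tt N4475 F30614) (tt N4475 F30615) (tt N5637 (iv F43403)) (tt N5571 (iv F42954)) (tt N4475 F30616) (tt N4475 F30617) (tt N3483 (iv D6688)) (tt N5628 (iv F43283)) (tt N3498 F30618))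
theorem Q4477 : ∀ i, i < 4477 → P i := stepQ 4476 Q4476 (allL N4476 (tt N3702 F203360) (tt N4476 F30619) (tt N3485 F30620) (tt N5638 D9692) (tt N3484 (iv D6689)) (tt N3699 F30621) (tt N5639 D9693) (tt N4476 F30622) (tt N3696 F203361) (tt N3499 F30623))
theorem Q4478 : ∀ i, i < 4478 → P i := stepQ 4477 Q4477 (allL N4477 (tt N3704 F203326) (tt N4477 F30624) (tt N3486 F30625) (tt N4477 F30626) (tt N5639 (iv F43423)) (tt N4477 F30627) (tt N3484 (iv D6690)) (tt N5640 D9695) (tt N3697 F203327) (tt N3500 F30628))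
theorem Q4479 : ∀ i, i < 4479 → P i := stepQ 4478 Q4478 (allL N4478 (tt N5636 (iv F43392)) (tt N3489 F30643) (tt N5639 (iv F43422)) (tt N5577 (iv F42974)) (tt N3486 F30644) (tt N5641 D9701) (tt N3485 (iv D6694)) (tt N5642 D9702) (tt N5643 D9703) (tt N3502 F30645))
theorem Q4480 : ∀ i, i < 4480 → P i := stepQ 4479 Q4479 (allL N4479 (tt N3699 F203358) (tt N3490 F30646) (tt N3696 F203359) (tt N5644 D9704) (tt N3487 F30647) (tt N3702 F30648) (tt N5643 (iv F43468)) (tt N4479 F30649) (tt N3485 (iv D6695)) (tt N3712 (iv F203640)))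
theorem Q4481 : ∀ i, i < 4481 → P i := stepQ 4480 Q4480 (allL N4480 (tt N5637 (iv F43401)) (tt N3491 F30650) (tt N5640 (iv F43431)) (tt N3488 F30651) (tt N5642 (iv F43463)) (tt N4480 F30652) (tt N4480 F30653) (tt N3486 (iv D6696)) (tt N5645 D9706) (tt N3504 F30654))
theorem Q4482 : ∀ i, i < 4482 → P i := stepQ 4481 Q4481 (allL N4481 (tt N3700 F203323) (tt N3492 F30655) (tt N3697 F203324) (tt N4038 F203325) (tt N5643 (iv F43467)) (tt N4481 F30656) (tt N3487 F30657) (tt N5645 (iv F43480)) (tt N3486 (iv D6697)) (tt N3713 (iv F203552)))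
theorem Q4483 : ∀ i, i < 4483 → P i := stepQ 4482 Q4482 (allL N4482 (tt N4482 F30662) (tt N5641 (iv F43458)) (tt N4482 F30663) (tt N5582 (iv F42992)) (tt N4482 F30664) (tt N3489 (iv D6699)) (tt N3705 F30665) (tt N5646 D9708) (tt N5647 D9709) (tt N3507 F30666))
theorem Q4484 : ∀ i, i < 4484 → P i := stepQ 4483 Q4483 (allL N4483 (tt N4483 F30667) (tt N5642 (iv F43462)) (tt N4483 F30668) (tt N5583 (iv F42996)) (tt N3491 F30669) (tt N5646 (iv F43488)) (tt N4483 F30670) (tt N3489 (iv D6700)) (tt N5648 D9710) (tt N3508 F30671))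
theorem Q4485 : ∀ i, i < 4485 → P i := stepQ 4484 Q4484 (allL N4484 (tt N4484 F30672) (tt N5643 (iv F43466)) (tt N4484 F30673) (tt N5649 D9711) (tt N3492 F30674) (tt N5647 (iv F43493)) (tt N3490 F30675) (tt N5648 (iv F43499)) (tt N3489 (iv D6701)) (tt N5650 D9712))
theorem Q4486 : ∀ i, i < 4486 → P i := stepQ 4485 Q4485 (allL N4485 (tt N4485 F30676) (tt N5644 (iv F43469)) (tt N5651 D9713) (tt N3490 (iv D6702)) (tt N5634 (iv F43338)) (tt N3708 F30677) (tt N5649 (iv F43501)) (tt N4485 F30678) (tt N5585 (iv F43006)) (tt N5652 D9714))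
theorem Q4487 : ∀ i, i < 4487 → P i := stepQ 4486 Q4486 (allL N4486 (tt N4486 F30679) (tt N3712 (iv F203639)) (tt N4486 F30680) (tt N5652 (iv F43512)) (tt N3493 F30681) (tt N3709 F30682) (tt N5650 (iv F43505)) (tt N4486 F30683) (tt N3511 F30684) (tt N3490 (iv D6703)))
theorem Q4488 : ∀ i, i < 4488 → P i := stepQ 4487 Q4487 (allL N4487 (tt N4487 F30685) (tt N5645 (iv F43477)) (tt N4487 F30686) (tt N5635 (iv F43347)) (tt N5648 (iv F43497)) (tt N4487 F30687) (tt N4487 F30688) (tt N3492 F30689) (tt N3491 (iv D6704)) (tt N5653 D9715))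
theorem Q4489 : ∀ i, i < 4489 → P i := stepQ 4488 Q4488 (allL N4488 (tt N4488 F30690) (tt N3713 F203902) (tt N4488 F30691) (tt N4059 F203903) (tt N5650 (iv F43504)) (tt N4488 F30692) (tt N3493 F30693) (tt N5653 (iv F43519)) (tt N3513 F30694) (tt N3492 (iv D6705)))
theorem Q4490 : ∀ i, i < 4490 → P i := stepQ 4489 Q4489 (allL N4489 (tt N3499 F30706) (tt N3709 F203379) (tt N3495 F30707) (tt N5654 D9721) (tt N3494 (iv D6708)) (tt N3712 F30708) (tt N5655 D9722) (tt N4489 F30709) (tt N3727 (iv F203641)) (tt N3702 F203380))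
theorem Q4491 : ∀ i, i < 4491 → P i := stepQ 4490 Q4490 (allL N4490 (tt N3500 F30710) (tt N3711 F203335) (tt N3496 F30711) (tt N4490 F30712) (tt N5655 (iv F43554)) (tt N4490 F30713) (tt N3494 (iv D6709)) (tt N5656 D9724) (tt N3729 (iv F203762)) (tt N3704 F203336))
theorem Q4492 : ∀ i, i < 4492 → P i := stepQ 4491 Q4491 (allL N4491 (tt N3502 F30729) (tt N4491 F30730) (tt N5655 (iv F43553)) (tt N5596 (iv F43047)) (tt N3496 F30731) (tt N5657 D9729) (tt N3495 (iv D6713)) (tt N5658 D9730) (tt N5659 D9731) (tt N5636 (iv F43395)))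
theorem Q4493 : ∀ i, i < 4493 → P i := stepQ 4492 Q4492 (allL N4492 (tt N3503 F30732) (tt N4492 F30733) (tt N3727 F203971) (tt N5660 D9732) (tt N3497 F30734) (tt N3715 F30735) (tt N5659 (iv F43595)) (tt N4492 F30736) (tt N3495 (iv D6714)) (tt N3720 F203972))
theorem Q4494 : ∀ i, i < 4494 → P i := stepQ 4493 Q4493 (allL N4493 (tt N3504 F30737) (tt N4493 F30738) (tt N5656 (iv F43561)) (tt N3498 F30739) (tt N5658 (iv F43590)) (tt N4493 F30740) (tt N4493 F30741) (tt N3496 (iv D6715)) (tt N5661 D9734) (tt N5637 (iv F43406)))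
theorem Q4495 : ∀ i, i < 4495 → P i := stepQ 4494 Q4494 (allL N4494 (tt N3505 F30742) (tt N4494 F30743) (tt N3729 F204030) (tt N4494 F30744) (tt N5659 (iv F43594)) (tt N4494 F30745) (tt N3497 F30746) (tt N5661 (iv F43611)) (tt N3496 (iv D6716)) (tt N3722 F204031))
theorem Q4496 : ∀ i, i < 4496 → P i := stepQ 4495 Q4495 (allL N4495 (tt N5654 (iv F43548)) (tt N4495 F30752) (tt N5601 (iv F43067)) (tt N3499 (iv D6718)) (tt N4495 F30753) (tt N3718 F30754) (tt N5662 D9736) (tt N4495 F30755) (tt N5663 D9737) (tt N5638 (iv F43420)))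
theorem Q4497 : ∀ i, i < 4497 → P i := stepQ 4496 Q4496 (allL N4496 (tt N5655 (iv F43552)) (tt N4496 F30756) (tt N3502 F30757) (tt N5662 (iv F43618)) (tt N3500 F30758) (tt N5664 D9738) (tt N3499 (iv D6719)) (tt N5665 D9739) (tt N5666 D9740) (tt N5639 (iv F43424)))
theorem Q4498 : ∀ i, i < 4498 → P i := stepQ 4497 Q4497 (allL N4497 (tt N3727 F203976) (tt N4497 F30759) (tt N3503 F30760) (tt N5667 D9741) (tt N3501 F30761) (tt N3720 F30762) (tt N5666 (iv F43635)) (tt N4497 F30763) (tt N3499 (iv D6720)) (tt N3715 F203977))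
theorem Q4499 : ∀ i, i < 4499 → P i := stepQ 4498 Q4498 (allL N4498 (tt N5656 (iv F43560)) (tt N4498 F30764) (tt N3504 F30765) (tt N4498 F30766) (tt N5665 (iv F43630)) (tt N4498 F30767) (tt N4498 F30768) (tt N3500 (iv D6721)) (tt N5668 D9743) (tt N5640 (iv F43435)))
theorem Q4500 : ∀ i, i < 4500 → P i := stepQ 4499 Q4499 (allL N4499 (tt N3729 F203916) (tt N4499 F30769) (tt N3505 F30770) (tt N3816 (iv F204130)) (tt N5666 (iv F43634)) (tt N4499 F30771) (tt N3501 F30772) (tt N5668 (iv F43648)) (tt N3500 (iv D6722)) (tt N3717 F203917))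
theorem Q4501 : ∀ i, i < 4501 → P i := stepQ 4500 Q4500 (allL N4500 (tt N5657 (iv F43584)) (tt N3507 F30788) (tt N5664 (iv F43625)) (tt N5610 (iv F43097)) (tt N4500 F30789) (tt N3502 (iv D6726)) (tt N3723 F30790) (tt N5669 D9749) (tt N5670 D9750) (tt N5641 (iv F43461)))
theorem Q4502 : ∀ i, i < 4502 → P i := stepQ 4501 Q4501 (allL N4501 (tt N5658 (iv F43588)) (tt N3508 F30791) (tt N5665 (iv F43629)) (tt N5611 (iv F43100)) (tt N3504 F30792) (tt N5669 (iv F43676)) (tt N4501 F30793) (tt N3502 (iv D6727)) (tt N5671 D9751) (tt N5642 (iv F43465)))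
theorem Q4503 : ∀ i, i < 4503 → P i := stepQ 4502 Q4502 (allL N4502 (tt N5659 (iv F43592)) (tt N3509 F30794) (tt N5666 (iv F43633)) (tt N5672 D9752) (tt N3505 F30795) (tt N5670 (iv F43679)) (tt N3503 F30796) (tt N5671 (iv F43684)) (tt N3502 (iv D6728)) (tt N5673 D9753))
theorem Q4504 : ∀ i, i < 4504 → P i := stepQ 4503 Q4503 (allL N4503 (tt N5660 (iv F43596)) (tt N3510 F30797) (tt N5674 D9754) (tt N3503 (iv D6729)) (tt N4503 F30798) (tt N3726 F30799) (tt N5672 (iv F43687)) (tt N4503 F30800) (tt N5613 (iv F43110)) (tt N5675 D9755))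
theorem Q4505 : ∀ i, i < 4505 → P i := stepQ 4504 Q4504 (allL N4504 (tt N3720 F203973) (tt N3511 F30801) (tt N3715 F203974) (tt N5675 (iv F43695)) (tt N3506 F30802) (tt N3727 F30803) (tt N5673 (iv F43690)) (tt N4504 F30804) (tt N3712 F203975) (tt N3503 (iv D6730)))
theorem Q4506 : ∀ i, i < 4506 → P i := stepQ 4505 Q4505 (allL N4505 (tt N5661 (iv F43606)) (tt N3512 F30805) (tt N5668 (iv F43645)) (tt N4505 F30806) (tt N5671 (iv F43682)) (tt N4505 F30807) (tt N4505 F30808) (tt N3505 F30809) (tt N3504 (iv D6731)) (tt N5676 D9756))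
theorem Q4507 : ∀ i, i < 4507 → P i := stepQ 4506 Q4506 (allL N4506 (tt N3722 F203910) (tt N3513 F30810) (tt N3717 F203911) (tt N4506 F30811) (tt N5673 (iv F43689)) (tt N4506 F30812) (tt N3506 F30813) (tt N5676 (iv F43703)) (tt N3713 F203912) (tt N3505 (iv D6732)))
theorem Q4508 : ∀ i, i < 4508 → P i := stepQ 4507 Q4507 (allL N4507 (tt N4507 F30814) (tt N5669 (iv F43674)) (tt N4507 F30815) (tt N5617 (iv F43123)) (tt N4507 F30816) (tt N3508 F30817) (tt N5677 D9757) (tt N3507 (iv D6733)) (tt N5678 D9758) (tt N5646 (iv F43489)))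
theorem Q4509 : ∀ i, i < 4509 → P i := stepQ 4508 Q4508 (allL N4508 (tt N4508 F30818) (tt N5670 (iv F43677)) (tt N4508 F30819) (tt N5679 D9759) (tt N4508 F30820) (tt N3509 F30821) (tt N3731 F30822) (tt N5678 (iv F43713)) (tt N3507 (iv D6734)) (tt N5680 D9760))
theorem Q4510 : ∀ i, i < 4510 → P i := stepQ 4509 Q4509 (allL N4509 (tt N4509 F30823) (tt N5671 (iv F43681)) (tt N4509 F30824) (tt N5681 D9761) (tt N3512 F30825) (tt N5678 (iv F43712)) (tt N4509 F30826) (tt N3509 F30827) (tt N3508 (iv D6735)) (tt N5682 D9762))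
theorem Q4511 : ∀ i, i < 4511 → P i := stepQ 4510 Q4510 (allL N4510 (tt N4510 F30828) (tt N5672 (iv F43685)) (tt N5683 D9763) (tt N3509 (iv D6736)) (tt N4510 F30829) (tt N5679 (iv F43715)) (tt N3510 F30830) (tt N5681 (iv F43725)) (tt N5620 (iv F43135)) (tt N5684 D9764))
theorem Q4512 : ∀ i, i < 4512 → P i := stepQ 4511 Q4511 (allL N4511 (tt N4511 F30831) (tt N5673 (iv F43688)) (tt N4511 F30832) (tt N5684 (iv F43736)) (tt N3513 F30833) (tt N5680 (iv F43720)) (tt N3511 F30834) (tt N5682 (iv F43730)) (tt N5650 (iv F43506)) (tt N3509 (iv D6737)))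
theorem Q4513 : ∀ i, i < 4513 → P i := stepQ 4512 Q4512 (allL N4512 (tt N4512 F30835) (tt N5685 D9765) (tt N3510 (iv D6738)) (tt N4512 F30836) (tt N4512 F30837) (tt N3735 F30838) (tt N5683 (iv F43734)) (tt N4512 F30839) (tt N5622 (iv F43143)) (tt N5686 D9766))
theorem Q4514 : ∀ i, i < 4514 → P i := stepQ 4513 Q4513 (allL N4513 (tt N4513 F30840) (tt N5675 (iv F43694)) (tt N5686 (iv F43744)) (tt N3511 F30841) (tt N4513 F30842) (tt N3736 F30843) (tt N5684 (iv F43738)) (tt N4513 F30844) (tt N5687 D9767) (tt N3510 (iv D6739)))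
theorem Q4515 : ∀ i, i < 4515 → P i := stepQ 4514 Q4514 (allL N4514 (tt N4514 F30845) (tt N5676 (iv F43699)) (tt N4514 F30846) (tt N4514 F30847) (tt N5682 (iv F43728)) (tt N4514 F30848) (tt N4514 F30849) (tt N3513 F30850) (tt N5653 (iv F43520)) (tt N3512 (iv D6740)))
theorem Q4516 : ∀ i, i < 4516 → P i := stepQ 4515 Q4515 (allL N4515 (tt N4515 F30851) (tt N3843 F30852) (tt N4515 F30853) (tt N5688 D9768) (tt N4515 F30854) (tt N3515 F30855) (tt N4515 F30856) (tt N4515 F30857) (tt N3514 (iv D6741)) (tt N4515 F30858))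
theorem Q4517 : ∀ i, i < 4517 → P i := stepQ 4516 Q4516 (allL N4516 (tt N4516 F30859) (tt N3844 F30860) (tt N5689 D9769) (tt N3515 (iv D6742)) (tt N5690 D9770) (tt N5688 (iv F43755)) (tt N3522 F30861) (tt N4516 F30862) (tt N4516 F30863) (tt N4516 F30864))
theorem Q4518 : ∀ i, i < 4518 → P i := stepQ 4517 Q4517 (allL N4517 (tt N4517 F30865) (tt N4108 (iv F202081)) (tt N3516 (iv D6743)) (tt N4517 F30866) (tt N5691 D9772) (tt N4517 F30867) (tt N3523 F30868) (tt N4517 F30869) (tt N3517 F30870) (tt N4517 F30871))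
theorem Q4519 : ∀ i, i < 4519 → P i := stepQ 4518 Q4518 (allL N4518 (tt N4518 F30872) (tt N3845 F30873) (tt N5691 (iv F43781)) (tt N5690 (iv F43768)) (tt N3516 (iv D6744)) (tt N5692 D9773) (tt N3524 F30874) (tt N4518 F30875) (tt N3518 F30876) (tt N4518 F30877))
theorem Q4520 : ∀ i, i < 4520 → P i := stepQ 4519 Q4519 (allL N4519 (tt N4113 (iv F202078)) (tt N3517 (iv D6745)) (tt N3846 F30878) (tt N5347 (iv F41932)) (tt N5693 D9775) (tt N4519 F30879) (tt N3525 F30880) (tt N4519 F30881) (tt N4108 (iv F202082)) (tt N3519 F30882))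
theorem Q4521 : ∀ i, i < 4521 → P i := stepQ 4520 Q4520 (allL N4520 (tt N4520 F30883) (tt N5693 (iv F43798)) (tt N3518 F30884) (tt N5694 D9776) (tt N3517 (iv D6746)) (tt N5695 D9777) (tt N3526 F30885) (tt N4520 F30886) (tt N5691 (iv F43784)) (tt N3520 F30887))
theorem Q4522 : ∀ i, i < 4522 → P i := stepQ 4521 Q4521 (allL N4521 (tt N4521 F30888) (tt N3848 F30889) (tt N5695 (iv F43809)) (tt N4521 F30890) (tt N4521 F30891) (tt N3518 (iv D6747)) (tt N5696 D9778) (tt N4521 F30892) (tt N5692 (iv F43790)) (tt N3521 F30893))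
theorem Q4523 : ∀ i, i < 4523 → P i := stepQ 4522 Q4522 (allL N4522 (tt N3519 (iv D6748)) (tt N4522 F30894) (tt N3849 F30895) (tt N5350 (iv F41953)) (tt N5697 D9779) (tt N4522 F30896) (tt N3528 F30897) (tt N4522 F30898) (tt N4522 F30899) (tt N4113 (iv F202079)))
theorem Q4524 : ∀ i, i < 4524 → P i := stepQ 4523 Q4523 (allL N4523 (tt N5697 (iv F43819)) (tt N3520 F30900) (tt N3850 F30901) (tt N5698 D9780) (tt N3519 (iv D6749)) (tt N5699 D9781) (tt N3529 F30902) (tt N4523 F30903) (tt N4523 F30904) (tt N5693 (iv F43802)))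
theorem Q4525 : ∀ i, i < 4525 → P i := stepQ 4524 Q4524 (allL N4524 (tt N4524 F30905) (tt N5698 (iv F43825)) (tt N4524 F30906) (tt N3520 (iv D6750)) (tt N5352 (iv F41963)) (tt N5700 D9782) (tt N3530 F30907) (tt N4524 F30908) (tt N5701 D9783) (tt N5694 (iv F43807)))
theorem Q4526 : ∀ i, i < 4526 → P i := stepQ 4525 Q4525 (allL N4525 (tt N4525 F30909) (tt N5699 (iv F43828)) (tt N3521 F30910) (tt N5700 (iv F43835)) (tt N4525 F30911) (tt N3520 (iv D6751)) (tt N5702 D9784) (tt N4525 F30912) (tt N4525 F30913) (tt N5695 (iv F43812)))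
theorem Q4527 : ∀ i, i < 4527 → P i := stepQ 4526 Q4526 (allL N4526 (tt N4526 F30914) (tt N3853 F30915) (tt N5702 (iv F43843)) (tt N4526 F30916) (tt N4526 F30917) (tt N3532 F30918) (tt N3521 (iv D6752)) (tt N4127 (iv F201148)) (tt N4526 F30919) (tt N5696 (iv F43818)))
theorem Q4528 : ∀ i, i < 4528 → P i := stepQ 4527 Q4527 (allL N4527 (tt N4527 F30920) (tt N4527 F195202) (tt N3522 (iv D6753)) (tt N4527 F30921) (tt N5703 D9787) (tt N4527 F30922) (tt N5689 (iv F43762)) (tt N3533 F30923) (tt N4527 F30924) (tt N4527 F30925))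
theorem Q4529 : ∀ i, i < 4529 → P i := stepQ 4528 Q4528 (allL N4528 (tt N4528 F30926) (tt N3854 F30927) (tt N5703 (iv F43861)) (tt N3524 F30928) (tt N3522 (iv D6754)) (tt N5704 D9788) (tt N5690 (iv F43769)) (tt N3534 F30929) (tt N4528 F30930) (tt N4528 F30931))
theorem Q4530 : ∀ i, i < 4530 → P i := stepQ 4529 Q4529 (allL N4529 (tt N4529 F30938) (tt N4107 (iv F201995)) (tt N3524 F30939) (tt N5705 D9791) (tt N3523 (iv D6756)) (tt N5706 D9792) (tt N5691 (iv F43782)) (tt N3535 F30940) (tt N3526 F30941) (tt N4529 F30942))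
theorem Q4531 : ∀ i, i < 4531 → P i := stepQ 4530 Q4530 (allL N4530 (tt N4530 F30943) (tt N3855 F30944) (tt N5706 (iv F43889)) (tt N5704 (iv F43867)) (tt N3549 F30945) (tt N3524 (iv D6757)) (tt N5707 D9793) (tt N3536 F30946) (tt N3527 F30947) (tt N4530 F30948))
theorem Q4532 : ∀ i, i < 4532 → P i := stepQ 4531 Q4531 (allL N4531 (tt N4112 (iv F201924)) (tt N3526 F30954) (tt N3856 F30955) (tt N5708 D9795) (tt N3525 (iv D6759)) (tt N5709 D9796) (tt N5693 (iv F43800)) (tt N3537 F30956) (tt N4107 (iv F201996)) (tt N3529 F30957))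
theorem Q4533 : ∀ i, i < 4533 → P i := stepQ 4532 Q4532 (allL N4532 (tt N4532 F30958) (tt N5708 (iv F43904)) (tt N4532 F30959) (tt N3526 (iv D6760)) (tt N5356 (iv F41989)) (tt N5710 D9797) (tt N5694 (iv F43805)) (tt N3538 F30960) (tt N5711 D9798) (tt N3530 F30961))
theorem Q4534 : ∀ i, i < 4534 → P i := stepQ 4533 Q4533 (allL N4533 (tt N4533 F30962) (tt N5709 (iv F43907)) (tt N3527 F30963) (tt N5710 (iv F43914)) (tt N3552 F30964) (tt N3526 (iv D6761)) (tt N5712 D9799) (tt N3539 F30965) (tt N5706 (iv F43892)) (tt N3531 F30966))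
theorem Q4535 : ∀ i, i < 4535 → P i := stepQ 4534 Q4534 (allL N4534 (tt N4534 F30967) (tt N3859 F30968) (tt N5712 (iv F43921)) (tt N4534 F30969) (tt N3553 F30970) (tt N5696 (iv F43817)) (tt N3527 (iv D6762)) (tt N5713 D9800) (tt N5707 (iv F43897)) (tt N3532 F30971))
theorem Q4536 : ∀ i, i < 4536 → P i := stepQ 4535 Q4535 (allL N4535 (tt N3529 F30972) (tt N4535 F30973) (tt N3860 F30974) (tt N5714 D9801) (tt N3528 (iv D6763)) (tt N5715 D9802) (tt N5697 (iv F43822)) (tt N3541 F30975) (tt N4535 F30976) (tt N4112 (iv F201925)))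
theorem Q4537 : ∀ i, i < 4537 → P i := stepQ 4536 Q4536 (allL N4536 (tt N5714 (iv F43930)) (tt N3530 F30977) (tt N5716 D9803) (tt N3529 (iv D6764)) (tt N5360 (iv F42009)) (tt N5717 D9804) (tt N5698 (iv F43826)) (tt N3542 F30978) (tt N5718 D9805) (tt N5708 (iv F43906)))
theorem Q4538 : ∀ i, i < 4538 → P i := stepQ 4537 Q4537 (allL N4537 (tt N5715 (iv F43933)) (tt N3531 F30979) (tt N3862 F30980) (tt N5717 (iv F43943)) (tt N3556 F30981) (tt N3529 (iv D6765)) (tt N5719 D9806) (tt N3543 F30982) (tt N4537 F30983) (tt N5709 (iv F43911)))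
theorem Q4539 : ∀ i, i < 4539 → P i := stepQ 4538 Q4538 (allL N4538 (tt N4538 F30984) (tt N5717 (iv F43942)) (tt N4538 F30985) (tt N3531 F30986) (tt N5720 D9807) (tt N3530 (iv D6766)) (tt N5721 D9808) (tt N3544 F30987) (tt N5722 D9809) (tt N5710 (iv F43916)))
theorem Q4540 : ∀ i, i < 4540 → P i := stepQ 4539 Q4539 (allL N4539 (tt N4539 F30988) (tt N5718 (iv F43945)) (tt N4539 F30989) (tt N4539 F30990) (tt N5363 (iv F42021)) (tt N5722 (iv F43962)) (tt N5701 (iv F43840)) (tt N3545 F30991) (tt N3530 (iv D6767)) (tt N5723 D9810))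
theorem Q4541 : ∀ i, i < 4541 → P i := stepQ 4540 Q4540 (allL N4540 (tt N4540 F30992) (tt N5719 (iv F43948)) (tt N3532 F30993) (tt N5721 (iv F43958)) (tt N3559 F30994) (tt N5702 (iv F43845)) (tt N3531 (iv D6768)) (tt N5724 D9811) (tt N4540 F30995) (tt N5712 (iv F43923)))
theorem Q4542 : ∀ i, i < 4542 → P i := stepQ 4541 Q4541 (allL N4541 (tt N4541 F30996) (tt N3866 F30997) (tt N5724 (iv F43969)) (tt N4541 F30998) (tt N3560 F30999) (tt N4127 (iv F201147)) (tt N3547 F31000) (tt N3532 (iv D6769)) (tt N4541 F31001) (tt N5713 (iv F43929)))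
theorem Q4543 : ∀ i, i < 4543 → P i := stepQ 4542 Q4542 (allL N4542 (tt N4542 F31008) (tt N4542 F194937) (tt N3534 F31009) (tt N5725 D9814) (tt N3533 (iv D6771)) (tt N5726 D9815) (tt N4542 F31010) (tt N5703 (iv F43862)) (tt N4542 F31011) (tt N4542 F31012))
theorem Q4544 : ∀ i, i < 4544 → P i := stepQ 4543 Q4543 (allL N4543 (tt N4543 F31013) (tt N3867 F31014) (tt N5726 (iv F43991)) (tt N3536 F31015) (tt N4543 F31016) (tt N3534 (iv D6772)) (tt N5727 D9816) (tt N5704 (iv F43869)) (tt N4543 F31017) (tt N4543 F31018))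
theorem Q4545 : ∀ i, i < 4545 → P i := stepQ 4544 Q4544 (allL N4544 (tt N4544 F31031) (tt N4121 (iv F202420)) (tt N5725 (iv F43986)) (tt N3535 (iv D6775)) (tt N4544 F31032) (tt N5728 D9820) (tt N4544 F31033) (tt N5705 (iv F43886)) (tt N5729 D9821) (tt N4544 F31034))
theorem Q4546 : ∀ i, i < 4546 → P i := stepQ 4545 Q4545 (allL N4545 (tt N4545 F31035) (tt N4084 (iv F201573)) (tt N3536 F31036) (tt N5728 (iv F44018)) (tt N3562 F31037) (tt N3535 (iv D6776)) (tt N5730 D9822) (tt N5706 (iv F43891)) (tt N3539 F31038) (tt N4545 F31039))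
theorem Q4547 : ∀ i, i < 4547 → P i := stepQ 4546 Q4546 (allL N4546 (tt N4546 F31040) (tt N3868 F31041) (tt N5730 (iv F44025)) (tt N5727 (iv F43997)) (tt N3563 F31042) (tt N4546 F31043) (tt N3536 (iv D6777)) (tt N5731 D9823) (tt N3540 F31044) (tt N4546 F31045))
theorem Q4548 : ∀ i, i < 4548 → P i := stepQ 4547 Q4547 (allL N4547 (tt N4123 (iv F202411)) (tt N3538 F31051) (tt N5732 D9826) (tt N3537 (iv D6779)) (tt N5366 (iv F42038)) (tt N5733 D9827) (tt N4547 F31052) (tt N5708 (iv F43905)) (tt N5734 D9828) (tt N3542 F31053))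
theorem Q4549 : ∀ i, i < 4549 → P i := stepQ 4548 Q4548 (allL N4548 (tt N4090 (iv F201571)) (tt N3539 F31054) (tt N3870 F31055) (tt N5733 (iv F44050)) (tt N3565 F31056) (tt N3537 (iv D6780)) (tt N5735 D9829) (tt N5709 (iv F43910)) (tt N4084 (iv F201574)) (tt N3543 F31057))
theorem Q4550 : ∀ i, i < 4550 → P i := stepQ 4549 Q4549 (allL N4549 (tt N4549 F31058) (tt N5733 (iv F44049)) (tt N4549 F31059) (tt N3539 F31060) (tt N5736 D9830) (tt N3538 (iv D6781)) (tt N5737 D9831) (tt N5710 (iv F43915)) (tt N5738 D9832) (tt N3544 F31061))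
theorem Q4551 : ∀ i, i < 4551 → P i := stepQ 4550 Q4550 (allL N4550 (tt N4550 F31062) (tt N5734 (iv F44052)) (tt N4550 F31063) (tt N5729 (iv F44021)) (tt N5369 (iv F42053)) (tt N5738 (iv F44070)) (tt N4550 F31064) (tt N5711 (iv F43919)) (tt N3538 (iv D6782)) (tt N5739 D9833))
theorem Q4552 : ∀ i, i < 4552 → P i := stepQ 4551 Q4551 (allL N4551 (tt N4551 F31065) (tt N5735 (iv F44054)) (tt N3540 F31066) (tt N5737 (iv F44065)) (tt N3568 F31067) (tt N4551 F31068) (tt N3539 (iv D6783)) (tt N5740 D9834) (tt N5730 (iv F44028)) (tt N3546 F31069))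
theorem Q4553 : ∀ i, i < 4553 → P i := stepQ 4552 Q4552 (allL N4552 (tt N4552 F31070) (tt N3873 F31071) (tt N5740 (iv F44076)) (tt N4552 F31072) (tt N3569 F31073) (tt N4552 F31074) (tt N5713 (iv F43928)) (tt N3540 (iv D6784)) (tt N5731 (iv F44034)) (tt N3547 F31075))
theorem Q4554 : ∀ i, i < 4554 → P i := stepQ 4553 Q4553 (allL N4553 (tt N3542 F31076) (tt N4553 F31077) (tt N5376 (iv F205750)) (tt N3541 (iv D6785)) (tt N5372 (iv F42070)) (tt N5741 D9836) (tt N4553 F31078) (tt N5714 (iv F43932)) (tt N5374 (iv F205761)) (tt N4123 (iv F202412)))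
theorem Q4555 : ∀ i, i < 4555 → P i := stepQ 4554 Q4554 (allL N4554 (tt N3543 F31079) (tt N4554 F31080) (tt N3875 F31081) (tt N5741 (iv F44085)) (tt N3571 F31082) (tt N3541 (iv D6786)) (tt N5742 D9838) (tt N5715 (iv F43937)) (tt N4554 F31083) (tt N4090 (iv F201572)))
theorem Q4556 : ∀ i, i < 4556 → P i := stepQ 4555 Q4555 (allL N4555 (tt N5376 (iv F205749)) (tt N4555 F31084) (tt N3542 (iv D6787)) (tt N3876 F31085) (tt N5374 (iv F42078)) (tt N5743 D9839) (tt N4555 F31086) (tt N5716 (iv F43941)) (tt N5372 F205633) (tt N5732 (iv F44048)))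
theorem Q4557 : ∀ i, i < 4557 → P i := stepQ 4556 Q4556 (allL N4556 (tt N5741 (iv F44083)) (tt N3544 F31087) (tt N5743 (iv F44097)) (tt N3543 F31088) (tt N5744 D9841) (tt N3542 (iv D6788)) (tt N5745 D9842) (tt N5717 (iv F43944)) (tt N5746 D9843) (tt N5733 (iv F44051)))
theorem Q4558 : ∀ i, i < 4558 → P i := stepQ 4557 Q4557 (allL N4557 (tt N5374 (iv F205760)) (tt N3545 F31089) (tt N5372 F205723) (tt N4557 F31090) (tt N5376 (iv F42083)) (tt N5746 (iv F44109)) (tt N4557 F31091) (tt N5718 (iv F43947)) (tt N3542 (iv D6789)) (tt N5747 D9844))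
theorem Q4559 : ∀ i, i < 4559 → P i := stepQ 4558 Q4558 (allL N4558 (tt N5742 (iv F44090)) (tt N3546 F31092) (tt N3879 F31093) (tt N5745 (iv F44105)) (tt N3575 F31094) (tt N4558 F31095) (tt N3543 (iv D6790)) (tt N5748 D9845) (tt N4558 F31096) (tt N5735 (iv F44058)))
theorem Q4560 : ∀ i, i < 4560 → P i := stepQ 4559 Q4559 (allL N4559 (tt N4559 F31097) (tt N5744 (iv F44102)) (tt N4559 F31098) (tt N3576 F31099) (tt N3544 (iv D6791)) (tt N5378 (iv F42092)) (tt N5749 D9846) (tt N5720 (iv F43955)) (tt N5750 D9847) (tt N5736 (iv F44062)))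
theorem Q4561 : ∀ i, i < 4561 → P i := stepQ 4560 Q4560 (allL N4560 (tt N4560 F31100) (tt N5745 (iv F44104)) (tt N4560 F31101) (tt N3546 F31102) (tt N5749 (iv F44121)) (tt N4560 F31103) (tt N3544 (iv D6792)) (tt N5751 D9848) (tt N5752 D9849) (tt N5737 (iv F44067)))
theorem Q4562 : ∀ i, i < 4562 → P i := stepQ 4561 Q4561 (allL N4561 (tt N4561 F31104) (tt N5746 (iv F44107)) (tt N4561 F31105) (tt N4561 F31106) (tt N5750 (iv F44124)) (tt N3545 F31107) (tt N5752 (iv F44133)) (tt N5722 (iv F43963)) (tt N3544 (iv D6793)) (tt N5753 D9850))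
theorem Q4563 : ∀ i, i < 4563 → P i := stepQ 4562 Q4562 (allL N4562 (tt N4562 F31108) (tt N5747 (iv F44110)) (tt N4562 F31109) (tt N4562 F31110) (tt N5381 (iv F42102)) (tt N5753 (iv F44137)) (tt N4562 F31111) (tt N5723 (iv F43967)) (tt N5739 (iv F44074)) (tt N3545 (iv D6794)))
theorem Q4564 : ∀ i, i < 4564 → P i := stepQ 4563 Q4563 (allL N4563 (tt N4563 F31112) (tt N5748 (iv F44113)) (tt N3547 F31113) (tt N5751 (iv F44127)) (tt N3580 F31114) (tt N4563 F31115) (tt N5724 (iv F43971)) (tt N3546 (iv D6795)) (tt N4563 F31116) (tt N5740 (iv F44079)))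
theorem Q4565 : ∀ i, i < 4565 → P i := stepQ 4564 Q4564 (allL N4564 (tt N4564 F31130) (tt N3738 (iv F201267)) (tt N4564 F31131) (tt N3548 (iv D6798)) (tt N4564 F31132) (tt N5754 D9854) (tt N4564 F31133) (tt N3561 F31134) (tt N5755 D9855) (tt N4564 F31135))
theorem Q4566 : ∀ i, i < 4566 → P i := stepQ 4565 Q4565 (allL N4565 (tt N4565 F31136) (tt N4070 (iv F201127)) (tt N3549 F31137) (tt N5754 (iv F44157)) (tt N5706 (iv F43890)) (tt N3548 (iv D6799)) (tt N5756 D9856) (tt N3562 F31138) (tt N3552 F31139) (tt N4565 F31140))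
theorem Q4567 : ∀ i, i < 4567 → P i := stepQ 4566 Q4566 (allL N4566 (tt N4566 F31141) (tt N3884 F31142) (tt N5756 (iv F44167)) (tt N4566 F31143) (tt N5707 (iv F43896)) (tt N4566 F31144) (tt N3549 (iv D6800)) (tt N5757 D9857) (tt N3553 F31145) (tt N4566 F31146))
theorem Q4568 : ∀ i, i < 4568 → P i := stepQ 4567 Q4567 (allL N4567 (tt N4077 (iv F201113)) (tt N3551 F31153) (tt N5758 D9860) (tt N3550 (iv D6802)) (tt N5383 (iv F42116)) (tt N5759 D9861) (tt N4567 F31154) (tt N3564 F31155) (tt N5760 D9862) (tt N3555 F31156))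
theorem Q4569 : ∀ i, i < 4569 → P i := stepQ 4568 Q4568 (allL N4568 (tt N4076 (iv F201091)) (tt N3552 F31157) (tt N3886 F31158) (tt N5759 (iv F44194)) (tt N5709 (iv F43909)) (tt N3550 (iv D6803)) (tt N5761 D9863) (tt N3565 F31159) (tt N4070 (iv F201128)) (tt N3556 F31160))
theorem Q4570 : ∀ i, i < 4570 → P i := stepQ 4569 Q4569 (allL N4569 (tt N4569 F31161) (tt N5759 (iv F44193)) (tt N3613 F31162) (tt N3552 F31163) (tt N5762 D9864) (tt N3551 (iv D6804)) (tt N5763 D9865) (tt N3566 F31164) (tt N5764 D9866) (tt N3557 F31165))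
theorem Q4571 : ∀ i, i < 4571 → P i := stepQ 4570 Q4570 (allL N4570 (tt N4570 F31166) (tt N5760 (iv F44197)) (tt N3614 F31167) (tt N5755 (iv F44162)) (tt N5386 (iv F42133)) (tt N5764 (iv F44215)) (tt N4570 F31168) (tt N3567 F31169) (tt N3551 (iv D6805)) (tt N5765 D9867))
theorem Q4572 : ∀ i, i < 4572 → P i := stepQ 4571 Q4571 (allL N4571 (tt N4571 F31170) (tt N5761 (iv F44200)) (tt N3553 F31171) (tt N5763 (iv F44210)) (tt N5712 (iv F43922)) (tt N4571 F31172) (tt N3552 (iv D6806)) (tt N5766 D9868) (tt N5756 (iv F44169)) (tt N3559 F31173))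
theorem Q4573 : ∀ i, i < 4573 → P i := stepQ 4572 Q4572 (allL N4572 (tt N4572 F31174) (tt N3889 F31175) (tt N5766 (iv F44223)) (tt N3616 F31176) (tt N5713 (iv F43927)) (tt N4572 F31177) (tt N3569 F31178) (tt N3553 (iv D6807)) (tt N5757 (iv F44176)) (tt N3560 F31179))
theorem Q4574 : ∀ i, i < 4574 → P i := stepQ 4573 Q4573 (allL N4573 (tt N3555 F31180) (tt N4573 F31181) (tt N5767 D9869) (tt N3554 (iv D6808)) (tt N5389 (iv F42150)) (tt N5768 D9870) (tt N4573 F31182) (tt N3570 F31183) (tt N5769 D9871) (tt N4077 (iv F201114)))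
theorem Q4575 : ∀ i, i < 4575 → P i := stepQ 4574 Q4574 (allL N4574 (tt N3556 F31184) (tt N4574 F31185) (tt N3891 F31186) (tt N5768 (iv F44233)) (tt N5715 (iv F43936)) (tt N3554 (iv D6809)) (tt N5770 D9872) (tt N3571 F31187) (tt N4574 F31188) (tt N4076 (iv F201092)))
theorem Q4576 : ∀ i, i < 4576 → P i := stepQ 4575 Q4575 (allL N4575 (tt N5767 (iv F44227)) (tt N3619 F31189) (tt N3555 (iv D6810)) (tt N3892 F31190) (tt N5391 (iv F42159)) (tt N5771 D9873) (tt N4575 F31191) (tt N3572 F31192) (tt N5772 D9874) (tt N5758 (iv F44192)))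
theorem Q4577 : ∀ i, i < 4577 → P i := stepQ 4576 Q4576 (allL N4576 (tt N5768 (iv F44231)) (tt N3557 F31193) (tt N5771 (iv F44246)) (tt N3556 F31194) (tt N5773 D9875) (tt N3555 (iv D6811)) (tt N5774 D9876) (tt N3573 F31195) (tt N5775 D9877) (tt N5759 (iv F44196)))
theorem Q4578 : ∀ i, i < 4578 → P i := stepQ 4577 Q4577 (allL N4577 (tt N5769 (iv F44235)) (tt N3558 F31196) (tt N5772 (iv F44250)) (tt N4577 F31197) (tt N5393 (iv F42166)) (tt N5775 (iv F44260)) (tt N4577 F31198) (tt N3574 F31199) (tt N3555 (iv D6812)) (tt N5776 D9878))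
theorem Q4579 : ∀ i, i < 4579 → P i := stepQ 4578 Q4578 (allL N4578 (tt N5770 (iv F44240)) (tt N3559 F31200) (tt N3895 F31201) (tt N5774 (iv F44256)) (tt N5719 (iv F43950)) (tt N4578 F31202) (tt N3556 (iv D6813)) (tt N5777 D9879) (tt N4578 F31203) (tt N5761 (iv F44203)))
theorem Q4580 : ∀ i, i < 4580 → P i := stepQ 4579 Q4579 (allL N4579 (tt N4579 F31204) (tt N5773 (iv F44253)) (tt N3623 F31205) (tt N5720 (iv F43954)) (tt N3557 (iv D6814)) (tt N5395 (iv F42174)) (tt N5778 D9880) (tt N3576 F31206) (tt N5779 D9881) (tt N5762 (iv F44207)))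
theorem Q4581 : ∀ i, i < 4581 → P i := stepQ 4580 Q4580 (allL N4580 (tt N4580 F31207) (tt N5774 (iv F44255)) (tt N3624 F31208) (tt N3559 F31209) (tt N5778 (iv F44273)) (tt N4580 F31210) (tt N3557 (iv D6815)) (tt N5780 D9882) (tt N5781 D9883) (tt N5763 (iv F44212)))
theorem Q4582 : ∀ i, i < 4582 → P i := stepQ 4581 Q4581 (allL N4581 (tt N4581 F31211) (tt N5775 (iv F44258)) (tt N3625 F31212) (tt N4581 F31213) (tt N5779 (iv F44276)) (tt N3558 F31214) (tt N5781 (iv F44287)) (tt N3578 F31215) (tt N3557 (iv D6816)) (tt N5782 D9884))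
theorem Q4583 : ∀ i, i < 4583 → P i := stepQ 4582 Q4582 (allL N4582 (tt N4582 F31216) (tt N5776 (iv F44262)) (tt N3626 F31217) (tt N4582 F31218) (tt N5398 (iv F42186)) (tt N5782 (iv F44291)) (tt N4582 F31219) (tt N3579 F31220) (tt N5765 (iv F44221)) (tt N3558 (iv D6817)))
theorem Q4584 : ∀ i, i < 4584 → P i := stepQ 4583 Q4583 (allL N4583 (tt N4583 F31221) (tt N5777 (iv F44266)) (tt N3560 F31222) (tt N5780 (iv F44280)) (tt N5724 (iv F43970)) (tt N4583 F31223) (tt N3580 F31224) (tt N3559 (iv D6818)) (tt N4583 F31225) (tt N5766 (iv F44226)))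
theorem Q4585 : ∀ i, i < 4585 → P i := stepQ 4584 Q4584 (allL N4584 (tt N4584 F31240) (tt N3754 (iv F201932)) (tt N4584 F31241) (tt N3562 F31242) (tt N5783 D9891) (tt N3561 (iv D6822)) (tt N5784 D9892) (tt N5754 (iv F44158)) (tt N5785 D9893) (tt N4584 F31243))
theorem Q4586 : ∀ i, i < 4586 → P i := stepQ 4585 Q4585 (allL N4585 (tt N4585 F31244) (tt N3755 (iv F201987)) (tt N4585 F31245) (tt N3567 F31246) (tt N4585 F31247) (tt N5785 (iv F44332)) (tt N3582 F31248) (tt N5755 (iv F44165)) (tt N3561 (iv D6823)) (tt N5786 D9894))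
theorem Q4587 : ∀ i, i < 4587 → P i := stepQ 4586 Q4586 (allL N4586 (tt N4586 F31249) (tt N4085 (iv F201818)) (tt N3563 F31250) (tt N5784 (iv F44326)) (tt N5730 (iv F44026)) (tt N3583 F31251) (tt N3562 (iv D6824)) (tt N5787 D9895) (tt N3568 F31252) (tt N4586 F31253))
theorem Q4588 : ∀ i, i < 4588 → P i := stepQ 4587 Q4587 (allL N4587 (tt N4587 F31254) (tt N3901 F31255) (tt N5787 (iv F44340)) (tt N4587 F31256) (tt N5731 (iv F44032)) (tt N3584 F31257) (tt N5757 (iv F44175)) (tt N3563 (iv D6825)) (tt N3569 F31258) (tt N4587 F31259))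
theorem Q4589 : ∀ i, i < 4589 → P i := stepQ 4588 Q4588 (allL N4588 (tt N3995 (iv F201111)) (tt N3630 F31268) (tt N3564 (iv D6828)) (tt N3902 F31269) (tt N5400 (iv F42205)) (tt N5788 D9900) (tt N3585 F31270) (tt N5758 (iv F44191)) (tt N5789 D9901) (tt N3572 F31271))
theorem Q4590 : ∀ i, i < 4590 → P i := stepQ 4589 Q4589 (allL N4589 (tt N4093 (iv F201865)) (tt N3566 F31272) (tt N5788 (iv F44361)) (tt N3565 F31273) (tt N5790 D9902) (tt N3564 (iv D6829)) (tt N5791 D9903) (tt N5759 (iv F44195)) (tt N5792 D9904) (tt N3573 F31274))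
theorem Q4591 : ∀ i, i < 4591 → P i := stepQ 4590 Q4590 (allL N4590 (tt N3764 (iv F201938)) (tt N3567 F31275) (tt N5789 (iv F44365)) (tt N3755 (iv F201988)) (tt N5402 (iv F42213)) (tt N5792 (iv F44374)) (tt N3587 F31276) (tt N5760 (iv F44199)) (tt N3564 (iv D6830)) (tt N5793 D9905))
theorem Q4592 : ∀ i, i < 4592 → P i := stepQ 4591 Q4591 (allL N4591 (tt N4092 (iv F201816)) (tt N3568 F31277) (tt N3904 F31278) (tt N5791 (iv F44370)) (tt N5735 (iv F44056)) (tt N3588 F31279) (tt N3565 (iv D6831)) (tt N5794 D9906) (tt N4085 (iv F201819)) (tt N3575 F31280))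
theorem Q4593 : ∀ i, i < 4593 → P i := stepQ 4592 Q4592 (allL N4592 (tt N4592 F31281) (tt N5790 (iv F44367)) (tt N3634 F31282) (tt N5736 (iv F44061)) (tt N3566 (iv D6832)) (tt N5404 (iv F42222)) (tt N5795 D9907) (tt N5762 (iv F44206)) (tt N5796 D9908) (tt N3576 F31283))
theorem Q4594 : ∀ i, i < 4594 → P i := stepQ 4593 Q4593 (allL N4593 (tt N4593 F31284) (tt N5791 (iv F44369)) (tt N3635 F31285) (tt N3568 F31286) (tt N5795 (iv F44384)) (tt N3590 F31287) (tt N3566 (iv D6833)) (tt N5797 D9909) (tt N5798 D9910) (tt N3577 F31288))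
theorem Q4595 : ∀ i, i < 4595 → P i := stepQ 4594 Q4594 (allL N4594 (tt N4594 F31289) (tt N5792 (iv F44373)) (tt N3636 F31290) (tt N5785 (iv F44331)) (tt N5796 (iv F44388)) (tt N3567 F31291) (tt N5798 (iv F44397)) (tt N5764 (iv F44216)) (tt N3566 (iv D6834)) (tt N5799 D9911))
theorem Q4596 : ∀ i, i < 4596 → P i := stepQ 4595 Q4595 (allL N4595 (tt N4595 F31292) (tt N5793 (iv F44375)) (tt N3637 F31293) (tt N5786 (iv F44335)) (tt N5407 (iv F42236)) (tt N5799 (iv F44400)) (tt N3592 F31294) (tt N5765 (iv F44220)) (tt N3579 F31295) (tt N3567 (iv D6835)))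
theorem Q4597 : ∀ i, i < 4597 → P i := stepQ 4596 Q4596 (allL N4596 (tt N4596 F31296) (tt N5794 (iv F44378)) (tt N3569 F31297) (tt N5797 (iv F44391)) (tt N5740 (iv F44077)) (tt N3593 F31298) (tt N5766 (iv F44225)) (tt N3568 (iv D6836)) (tt N5787 (iv F44342)) (tt N3580 F31299))
theorem Q4598 : ∀ i, i < 4598 → P i := stepQ 4597 Q4597 (allL N4597 (tt N3572 F31300) (tt N5800 D9912) (tt N3570 (iv D6837)) (tt N3908 F31301) (tt N5409 (iv F42246)) (tt N5801 D9913) (tt N3594 F31302) (tt N5767 (iv F44230)) (tt N5802 D9914) (tt N3995 (iv F201112)))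
theorem Q4599 : ∀ i, i < 4599 → P i := stepQ 4598 Q4598 (allL N4598 (tt N3573 F31303) (tt N4598 F31304) (tt N5801 (iv F44407)) (tt N3571 F31305) (tt N5803 D9915) (tt N3570 (iv D6838)) (tt N5804 D9916) (tt N5768 (iv F44234)) (tt N5805 D9917) (tt N4093 (iv F201866)))
theorem Q4600 : ∀ i, i < 4600 → P i := stepQ 4599 Q4599 (allL N4599 (tt N3574 F31306) (tt N4599 F31307) (tt N5802 (iv F44410)) (tt N4599 F31308) (tt N5411 (iv F42253)) (tt N5805 (iv F44421)) (tt N3596 F31309) (tt N5769 (iv F44239)) (tt N3570 (iv D6839)) (tt N5806 D9918))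
theorem Q4601 : ∀ i, i < 4601 → P i := stepQ 4600 Q4600 (allL N4600 (tt N3575 F31310) (tt N4600 F31311) (tt N3911 F31312) (tt N5804 (iv F44416)) (tt N5742 (iv F44093)) (tt N3597 F31313) (tt N3571 (iv D6840)) (tt N5807 D9919) (tt N4600 F31314) (tt N4092 (iv F201817)))
theorem Q4602 : ∀ i, i < 4602 → P i := stepQ 4601 Q4601 (allL N4601 (tt N5801 (iv F44406)) (tt N3643 F31315) (tt N3573 F31316) (tt N3912 F31317) (tt N5808 D9920) (tt N3572 (iv D6841)) (tt N5809 D9921) (tt N5771 (iv F44248)) (tt N5810 D9922) (tt N5788 (iv F44363)))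
theorem Q4603 : ∀ i, i < 4603 → P i := stepQ 4602 Q4602 (allL N4602 (tt N5802 (iv F44409)) (tt N3644 F31318) (tt N3574 F31319) (tt N5811 D9923) (tt N5414 (iv F42264)) (tt N5810 (iv F44439)) (tt N3599 F31320) (tt N5772 (iv F44252)) (tt N3572 (iv D6842)) (tt N5812 D9924))
theorem Q4604 : ∀ i, i < 4604 → P i := stepQ 4603 Q4603 (allL N4603 (tt N5803 (iv F44412)) (tt N3576 F31321) (tt N5808 (iv F44432)) (tt N5744 (iv F44103)) (tt N3573 (iv D6843)) (tt N5415 (iv F42267)) (tt N5813 D9925) (tt N5773 (iv F44254)) (tt N5814 D9926) (tt N5790 (iv F44368)))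
theorem Q4605 : ∀ i, i < 4605 → P i := stepQ 4604 Q4604 (allL N4604 (tt N5804 (iv F44414)) (tt N3577 F31322) (tt N5809 (iv F44434)) (tt N3575 F31323) (tt N5813 (iv F44448)) (tt N3601 F31324) (tt N3573 (iv D6844)) (tt N5815 D9927) (tt N5816 D9928) (tt N5791 (iv F44372)))
theorem Q4606 : ∀ i, i < 4606 → P i := stepQ 4605 Q4605 (allL N4605 (tt N5805 (iv F44418)) (tt N3578 F31325) (tt N5810 (iv F44438)) (tt N4605 F31326) (tt N5814 (iv F44450)) (tt N3574 F31327) (tt N5816 (iv F44457)) (tt N5775 (iv F44261)) (tt N3573 (iv D6845)) (tt N5817 D9929))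
theorem Q4607 : ∀ i, i < 4607 → P i := stepQ 4606 Q4606 (allL N4606 (tt N5806 (iv F44422)) (tt N3579 F31328) (tt N5812 (iv F44445)) (tt N4606 F31329) (tt N5418 (iv F42274)) (tt N5817 (iv F44460)) (tt N3603 F31330) (tt N5776 (iv F44265)) (tt N5793 (iv F44377)) (tt N3574 (iv D6846)))
theorem Q4608 : ∀ i, i < 4608 → P i := stepQ 4607 Q4607 (allL N4607 (tt N5807 (iv F44426)) (tt N3580 F31331) (tt N3918 F31332) (tt N5815 (iv F44452)) (tt N5748 (iv F44115)) (tt N3604 F31333) (tt N5777 (iv F44269)) (tt N3575 (iv D6847)) (tt N4607 F31334) (tt N5794 (iv F44381)))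
theorem Q4609 : ∀ i, i < 4609 → P i := stepQ 4608 Q4608 (allL N4608 (tt N4608 F31335) (tt N5813 (iv F44447)) (tt N3650 F31336) (tt N5749 (iv F44120)) (tt N3577 F31337) (tt N5818 D9930) (tt N3576 (iv D6848)) (tt N5819 D9931) (tt N5820 D9932) (tt N5795 (iv F44385)))
theorem Q4610 : ∀ i, i < 4610 → P i := stepQ 4609 Q4609 (allL N4609 (tt N4609 F31338) (tt N5814 (iv F44449)) (tt N3651 F31339) (tt N5821 D9933) (tt N3578 F31340) (tt N5421 (iv F42285)) (tt N5820 (iv F44470)) (tt N5779 (iv F44277)) (tt N3576 (iv D6849)) (tt N5822 D9934))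
theorem Q4611 : ∀ i, i < 4611 → P i := stepQ 4610 Q4610 (allL N4610 (tt N4610 F31341) (tt N5815 (iv F44451)) (tt N3652 F31342) (tt N3580 F31343) (tt N5819 (iv F44466)) (tt N3607 F31344) (tt N5780 (iv F44282)) (tt N3577 (iv D6850)) (tt N5823 D9935) (tt N5797 (iv F44393)))
theorem Q4612 : ∀ i, i < 4612 → P i := stepQ 4611 Q4611 (allL N4611 (tt N4611 F31345) (tt N5816 (iv F44454)) (tt N3653 F31346) (tt N4611 F31347) (tt N5820 (iv F44469)) (tt N3608 F31348) (tt N3578 F31349) (tt N5823 (iv F44480)) (tt N3577 (iv D6851)) (tt N5824 D9936))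
theorem Q4613 : ∀ i, i < 4613 → P i := stepQ 4612 Q4612 (allL N4612 (tt N4612 F31350) (tt N5817 (iv F44458)) (tt N3654 F31351) (tt N4612 F31352) (tt N5822 (iv F44475)) (tt N3579 F31353) (tt N5824 (iv F44485)) (tt N5782 (iv F44292)) (tt N5799 (iv F44401)) (tt N3578 (iv D6852)))
theorem Q4614 : ∀ i, i < 4614 → P i := stepQ 4613 Q4613 (allL N4613 (tt N4613 F31384) (tt N3778 (iv F202843)) (tt N4613 F31385) (tt N4613 F31386) (tt N3581 (iv D6859)) (tt N4613 F31387) (tt N5825 D9948) (tt N4613 F31388) (tt N5826 D9949) (tt N4613 F31389))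
theorem Q4615 : ∀ i, i < 4615 → P i := stepQ 4614 Q4614 (allL N4614 (tt N4614 F31390) (tt N3779 (iv F202708)) (tt N4614 F31391) (tt N3583 F31392) (tt N5825 (iv F44542)) (tt N5784 (iv F44327)) (tt N3581 (iv D6860)) (tt N5827 D9950) (tt N5828 D9951) (tt N4614 F31393))
theorem Q4616 : ∀ i, i < 4616 → P i := stepQ 4615 Q4615 (allL N4615 (tt N4615 F31394) (tt N3780 (iv F202825)) (tt N4615 F31395) (tt N3591 F31396) (tt N5826 (iv F44546)) (tt N3582 F31397) (tt N5828 (iv F44557)) (tt N4615 F31398) (tt N3581 (iv D6861)) (tt N5829 D9952))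
theorem Q4617 : ∀ i, i < 4617 → P i := stepQ 4616 Q4616 (allL N4616 (tt N4616 F31399) (tt N3781 (iv F202827)) (tt N4616 F31400) (tt N3592 F31401) (tt N4616 F31402) (tt N5829 (iv F44561)) (tt N5786 (iv F44337)) (tt N4616 F31403) (tt N4616 F31404) (tt N3582 (iv D6862)))
theorem Q4618 : ∀ i, i < 4618 → P i := stepQ 4617 Q4617 (allL N4617 (tt N4617 F31405) (tt N4102 (iv F201856)) (tt N3584 F31406) (tt N5827 (iv F44551)) (tt N4617 F31407) (tt N5787 (iv F44341)) (tt N4617 F31408) (tt N3583 (iv D6863)) (tt N3593 F31409) (tt N4617 F31410))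
theorem Q4619 : ∀ i, i < 4619 → P i := stepQ 4618 Q4618 (allL N4618 (tt N4029 (iv F201953)) (tt N3659 F31428) (tt N3586 F31429) (tt N3924 F31430) (tt N5830 D9961) (tt N3585 (iv D6868)) (tt N5831 D9962) (tt N4618 F31431) (tt N5832 D9963) (tt N3598 F31432))
theorem Q4620 : ∀ i, i < 4620 → P i := stepQ 4619 Q4619 (allL N4619 (tt N3682 (iv F201937)) (tt N3660 F31433) (tt N3587 F31434) (tt N3673 (iv F201934)) (tt N5426 (iv F42325)) (tt N5832 (iv F44610)) (tt N5789 (iv F44366)) (tt N4619 F31435) (tt N3585 (iv D6869)) (tt N5833 D9965))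
theorem Q4621 : ∀ i, i < 4621 → P i := stepQ 4620 Q4620 (allL N4620 (tt N4105 (iv F202823)) (tt N3589 F31436) (tt N5830 (iv F44601)) (tt N4620 F31437) (tt N3586 (iv D6870)) (tt N5427 (iv F42329)) (tt N5834 D9966) (tt N4620 F31438) (tt N5835 D9967) (tt N3600 F31439))
theorem Q4622 : ∀ i, i < 4622 → P i := stepQ 4621 Q4621 (allL N4621 (tt N4104 (iv F202581)) (tt N3590 F31440) (tt N5831 (iv F44605)) (tt N3588 F31441) (tt N5834 (iv F44621)) (tt N5791 (iv F44371)) (tt N3586 (iv D6871)) (tt N5836 D9968) (tt N5837 D9969) (tt N3601 F31442))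
theorem Q4623 : ∀ i, i < 4623 → P i := stepQ 4622 Q4622 (allL N4622 (tt N3791 (iv F202798)) (tt N3591 F31443) (tt N5832 (iv F44609)) (tt N3780 (iv F202826)) (tt N5835 (iv F44624)) (tt N3587 F31444) (tt N5837 (iv F44631)) (tt N4622 F31445) (tt N3586 (iv D6872)) (tt N5838 D9970))
theorem Q4624 : ∀ i, i < 4624 → P i := stepQ 4623 Q4623 (allL N4623 (tt N3794 (iv F202803)) (tt N3592 F31446) (tt N5833 (iv F44616)) (tt N3781 (iv F202828)) (tt N5430 (iv F42341)) (tt N5838 (iv F44633)) (tt N5793 (iv F44376)) (tt N4623 F31447) (tt N3603 F31448) (tt N3587 (iv D6873)))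
theorem Q4625 : ∀ i, i < 4625 → P i := stepQ 4624 Q4624 (allL N4624 (tt N4103 (iv F201854)) (tt N3593 F31449) (tt N3927 F31450) (tt N5836 (iv F44627)) (tt N4624 F31451) (tt N5794 (iv F44380)) (tt N4624 F31452) (tt N3588 (iv D6874)) (tt N4102 (iv F201857)) (tt N3604 F31453))
theorem Q4626 : ∀ i, i < 4626 → P i := stepQ 4625 Q4625 (allL N4625 (tt N4625 F31454) (tt N5834 (iv F44619)) (tt N3666 F31455) (tt N4625 F31456) (tt N3590 F31457) (tt N5839 D9971) (tt N3589 (iv D6875)) (tt N5840 D9972) (tt N5841 D9973) (tt N3605 F31458))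
theorem Q4627 : ∀ i, i < 4627 → P i := stepQ 4626 Q4626 (allL N4626 (tt N4626 F31459) (tt N5835 (iv F44623)) (tt N3667 F31460) (tt N5842 D9974) (tt N3591 F31461) (tt N5433 (iv F42358)) (tt N5841 (iv F44649)) (tt N4626 F31462) (tt N3589 (iv D6876)) (tt N5843 D9975))
theorem Q4628 : ∀ i, i < 4628 → P i := stepQ 4627 Q4627 (allL N4627 (tt N4627 F31463) (tt N5836 (iv F44626)) (tt N3668 F31464) (tt N3593 F31465) (tt N5840 (iv F44643)) (tt N5797 (iv F44392)) (tt N4627 F31466) (tt N3590 (iv D6877)) (tt N5844 D9976) (tt N3607 F31467))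
theorem Q4629 : ∀ i, i < 4629 → P i := stepQ 4628 Q4628 (allL N4628 (tt N4628 F31468) (tt N5837 (iv F44630)) (tt N3669 F31469) (tt N5828 (iv F44556)) (tt N5841 (iv F44648)) (tt N5798 (iv F44396)) (tt N3591 F31470) (tt N5844 (iv F44661)) (tt N3590 (iv D6878)) (tt N5845 D9977))
theorem Q4630 : ∀ i, i < 4630 → P i := stepQ 4629 Q4629 (allL N4629 (tt N4629 F31471) (tt N5838 (iv F44632)) (tt N3670 F31472) (tt N5829 (iv F44560)) (tt N5843 (iv F44655)) (tt N3592 F31473) (tt N5845 (iv F44664)) (tt N4629 F31474) (tt N3609 F31475) (tt N3591 (iv D6879)))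
theorem Q4631 : ∀ i, i < 4631 → P i := stepQ 4630 Q4630 (allL N4630 (tt N3671 F31476) (tt N3594 (iv D6880)) (tt N4630 F31477) (tt N3930 F31478) (tt N5437 (iv F42378)) (tt N5846 D9978) (tt N5800 (iv F44405)) (tt N4630 F31479) (tt N5847 D9979) (tt N3940 F201511))
theorem Q4632 : ∀ i, i < 4632 → P i := stepQ 4631 Q4631 (allL N4631 (tt N3598 F31480) (tt N5846 (iv F44667)) (tt N3595 F31481) (tt N3931 F31482) (tt N5848 D9980) (tt N3594 (iv D6881)) (tt N5849 D9981) (tt N4631 F31483) (tt N5850 D9982) (tt N4029 (iv F201954)))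
theorem Q4633 : ∀ i, i < 4633 → P i := stepQ 4632 Q4632 (allL N4632 (tt N3599 F31484) (tt N5847 (iv F44672)) (tt N3596 F31485) (tt N5851 D9983) (tt N5439 (iv F42386)) (tt N5850 (iv F44683)) (tt N5802 (iv F44411)) (tt N4632 F31486) (tt N3594 (iv D6882)) (tt N5852 D9984))
theorem Q4634 : ∀ i, i < 4634 → P i := stepQ 4633 Q4633 (allL N4633 (tt N3600 F31487) (tt N4633 F31488) (tt N5848 (iv F44676)) (tt N4633 F31489) (tt N3595 (iv D6883)) (tt N5440 (iv F42391)) (tt N5853 D9985) (tt N4633 F31490) (tt N5854 D9986) (tt N4105 (iv F202824)))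
theorem Q4635 : ∀ i, i < 4635 → P i := stepQ 4634 Q4634 (allL N4634 (tt N3601 F31491) (tt N4634 F31492) (tt N5849 (iv F44679)) (tt N3597 F31493) (tt N5853 (iv F44695)) (tt N5804 (iv F44417)) (tt N3595 (iv D6884)) (tt N5855 D9987) (tt N5856 D9988) (tt N4104 (iv F202582)))
theorem Q4636 : ∀ i, i < 4636 → P i := stepQ 4635 Q4635 (allL N4635 (tt N3602 F31494) (tt N4635 F31495) (tt N5850 (iv F44682)) (tt N4635 F31496) (tt N5854 (iv F44698)) (tt N3596 F31497) (tt N5856 (iv F44707)) (tt N4635 F31498) (tt N3595 (iv D6885)) (tt N5857 D9989))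
theorem Q4637 : ∀ i, i < 4637 → P i := stepQ 4636 Q4636 (allL N4636 (tt N3603 F31499) (tt N4636 F31500) (tt N5852 (iv F44690)) (tt N4636 F31501) (tt N5443 (iv F42402)) (tt N5857 (iv F44711)) (tt N5806 (iv F44425)) (tt N4636 F31502) (tt N3794 (iv F202804)) (tt N3596 (iv D6886)))
theorem Q4638 : ∀ i, i < 4638 → P i := stepQ 4637 Q4637 (allL N4637 (tt N3604 F31503) (tt N4637 F31504) (tt N3936 F31505) (tt N5855 (iv F44702)) (tt N4637 F31506) (tt N5807 (iv F44429)) (tt N4637 F31507) (tt N3597 (iv D6887)) (tt N4637 F31508) (tt N4103 (iv F201855)))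
theorem Q4639 : ∀ i, i < 4639 → P i := stepQ 4638 Q4638 (allL N4638 (tt N5848 (iv F44675)) (tt N3679 F31509) (tt N3600 F31510) (tt N5858 D9990) (tt N3598 (iv D6888)) (tt N5445 (iv F42411)) (tt N5859 D9991) (tt N4638 F31511) (tt N5860 D9992) (tt N5830 (iv F44603)))
theorem Q4640 : ∀ i, i < 4640 → P i := stepQ 4639 Q4639 (allL N4639 (tt N5849 (iv F44678)) (tt N3680 F31512) (tt N3601 F31513) (tt N3938 F31514) (tt N5859 (iv F44719)) (tt N5809 (iv F44436)) (tt N3598 (iv D6889)) (tt N5861 D9993) (tt N5862 D9994) (tt N5831 (iv F44607)))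
theorem Q4641 : ∀ i, i < 4641 → P i := stepQ 4640 Q4640 (allL N4640 (tt N5850 (iv F44681)) (tt N3681 F31515) (tt N3602 F31516) (tt N5863 D9995) (tt N5860 (iv F44722)) (tt N3599 F31517) (tt N5862 (iv F44730)) (tt N4640 F31518) (tt N3598 (iv D6890)) (tt N5864 D9996))
theorem Q4642 : ∀ i, i < 4642 → P i := stepQ 4641 Q4641 (allL N4641 (tt N5851 (iv F44685)) (tt N3682 F31519) (tt N4641 F31520) (tt N3599 (iv D6891)) (tt N5865 D9997) (tt N5863 (iv F44733)) (tt N5811 (iv F44442)) (tt N4641 F31521) (tt N3940 F31522) (tt N5866 D9998))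
theorem Q4643 : ∀ i, i < 4643 → P i := stepQ 4642 Q4642 (allL N4642 (tt N5852 (iv F44689)) (tt N3683 F31523) (tt N3603 F31524) (tt N5866 (iv F44746)) (tt N5449 (iv F42425)) (tt N5864 (iv F44738)) (tt N5812 (iv F44446)) (tt N4642 F31525) (tt N5833 (iv F44618)) (tt N3599 (iv D6892)))
theorem Q4644 : ∀ i, i < 4644 → P i := stepQ 4643 Q4643 (allL N4643 (tt N5853 (iv F44692)) (tt N3605 F31526) (tt N5859 (iv F44718)) (tt N4643 F31527) (tt N3601 F31528) (tt N5867 D9999) (tt N3600 (iv D6893)) (tt N5868 D10000) (tt N5869 D10001) (tt N5834 (iv F44622)))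
theorem Q4645 : ∀ i, i < 4645 → P i := stepQ 4644 Q4644 (allL N4644 (tt N5854 (iv F44696)) (tt N3606 F31529) (tt N5860 (iv F44721)) (tt N5870 D10002) (tt N3602 F31530) (tt N5451 (iv F42432)) (tt N5869 (iv F44756)) (tt N4644 F31531) (tt N3600 (iv D6894)) (tt N5871 D10003))
theorem Q4646 : ∀ i, i < 4646 → P i := stepQ 4645 Q4645 (allL N4645 (tt N5855 (iv F44700)) (tt N3607 F31532) (tt N5861 (iv F44725)) (tt N3604 F31533) (tt N5868 (iv F44752)) (tt N5815 (iv F44453)) (tt N4645 F31534) (tt N3601 (iv D6895)) (tt N5872 D10004) (tt N5836 (iv F44629)))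
theorem Q4647 : ∀ i, i < 4647 → P i := stepQ 4646 Q4646 (allL N4646 (tt N5856 (iv F44704)) (tt N3608 F31535) (tt N5862 (iv F44729)) (tt N4646 F31536) (tt N5869 (iv F44755)) (tt N5816 (iv F44456)) (tt N3602 F31537) (tt N5872 (iv F44767)) (tt N3601 (iv D6896)) (tt N5873 D10005))
theorem Q4648 : ∀ i, i < 4648 → P i := stepQ 4647 Q4647 (allL N4647 (tt N5857 (iv F44708)) (tt N3609 F31538) (tt N5864 (iv F44737)) (tt N4647 F31539) (tt N5871 (iv F44762)) (tt N3603 F31540) (tt N5873 (iv F44770)) (tt N4647 F31541) (tt N5838 (iv F44635)) (tt N3602 (iv D6897)))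
theorem Q4649 : ∀ i, i < 4649 → P i := stepQ 4648 Q4648 (allL N4648 (tt N4648 F31542) (tt N5867 (iv F44748)) (tt N3689 F31543) (tt N4648 F31544) (tt N5818 (iv F44463)) (tt N3605 (iv D6898)) (tt N5455 (iv F42445)) (tt N5874 D10006) (tt N5875 D10007) (tt N5839 (iv F44639)))
theorem Q4650 : ∀ i, i < 4650 → P i := stepQ 4649 Q4649 (allL N4649 (tt N4649 F31545) (tt N5868 (iv F44750)) (tt N3690 F31546) (tt N4649 F31547) (tt N3607 F31548) (tt N5874 (iv F44774)) (tt N4649 F31549) (tt N3605 (iv D6899)) (tt N5876 D10008) (tt N5840 (iv F44645)))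
theorem Q4651 : ∀ i, i < 4651 → P i := stepQ 4650 Q4650 (allL N4650 (tt N4650 F31550) (tt N5869 (iv F44754)) (tt N3691 F31551) (tt N5877 D10009) (tt N3608 F31552) (tt N5875 (iv F44777)) (tt N3606 F31553) (tt N5876 (iv F44782)) (tt N3605 (iv D6900)) (tt N5878 D10010))
theorem Q4652 : ∀ i, i < 4652 → P i := stepQ 4651 Q4651 (allL N4651 (tt N4651 F31554) (tt N5870 (iv F44757)) (tt N5879 D10011) (tt N3606 (iv D6901)) (tt N4651 F31555) (tt N5458 (iv F42456)) (tt N5877 (iv F44785)) (tt N4651 F31556) (tt N4651 F31557) (tt N5880 D10012))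
theorem Q4653 : ∀ i, i < 4653 → P i := stepQ 4652 Q4652 (allL N4652 (tt N4652 F31558) (tt N5871 (iv F44761)) (tt N3693 F31559) (tt N5880 (iv F44797)) (tt N3609 F31560) (tt N5459 (iv F42462)) (tt N5878 (iv F44790)) (tt N4652 F31561) (tt N5843 (iv F44657)) (tt N3606 (iv D6902)))
theorem Q4654 : ∀ i, i < 4654 → P i := stepQ 4653 Q4653 (allL N4653 (tt N4653 F31562) (tt N5872 (iv F44764)) (tt N3694 F31563) (tt N4653 F31564) (tt N5876 (iv F44780)) (tt N5823 (iv F44479)) (tt N4653 F31565) (tt N3608 F31566) (tt N3607 (iv D6903)) (tt N5881 D10013))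
theorem Q4655 : ∀ i, i < 4655 → P i := stepQ 4654 Q4654 (allL N4654 (tt N4654 F31567) (tt N5873 (iv F44768)) (tt N3695 F31568) (tt N4654 F31569) (tt N5878 (iv F44789)) (tt N5824 (iv F44484)) (tt N3609 F31570) (tt N5881 (iv F44804)) (tt N5845 (iv F44665)) (tt N3608 (iv D6904)))
theorem Q4656 : ∀ i, i < 4656 → P i := stepQ 4655 Q4655 (allL N4655 (tt N3611 F31571) (tt N4655 F31572) (tt N5882 D10014) (tt N3610 (iv D6905)) (tt N5469 (iv F42516)) (tt N5883 D10015) (tt N4655 F31573) (tt N3628 F31574) (tt N5884 D10016) (tt N3617 F31575))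
theorem Q4657 : ∀ i, i < 4657 → P i := stepQ 4656 Q4656 (allL N4656 (tt N3612 F31576) (tt N4656 F31577) (tt N3954 F31578) (tt N5883 (iv F44812)) (tt N4656 F31579) (tt N3610 (iv D6906)) (tt N5885 D10017) (tt N3629 F31580) (tt N4656 F31581) (tt N3618 F31582))
theorem Q4658 : ∀ i, i < 4658 → P i := stepQ 4657 Q4657 (allL N4657 (tt N5882 (iv F44805)) (tt N5758 (iv F44188)) (tt N3611 (iv D6907)) (tt N3955 F31583) (tt N5471 (iv F42527)) (tt N5886 D10018) (tt N4657 F31584) (tt N3630 F31585) (tt N5887 D10019) (tt N3619 F31586))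
theorem Q4659 : ∀ i, i < 4659 → P i := stepQ 4658 Q4658 (allL N4658 (tt N5883 (iv F44810)) (tt N3613 F31587) (tt N5886 (iv F44827)) (tt N3612 F31588) (tt N5888 D10020) (tt N3611 (iv D6908)) (tt N5889 D10021) (tt N3631 F31589) (tt N5890 D10022) (tt N3620 F31590))
theorem Q4660 : ∀ i, i < 4660 → P i := stepQ 4659 Q4659 (allL N4659 (tt N5884 (iv F44815)) (tt N3614 F31591) (tt N5887 (iv F44831)) (tt N4659 F31592) (tt N5473 (iv F42536)) (tt N5890 (iv F44844)) (tt N4659 F31593) (tt N3632 F31594) (tt N3611 (iv D6909)) (tt N5891 D10023))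
theorem Q4661 : ∀ i, i < 4661 → P i := stepQ 4660 Q4660 (allL N4660 (tt N5885 (iv F44820)) (tt N3615 F31595) (tt N3958 F31596) (tt N5889 (iv F44839)) (tt N4660 F31597) (tt N4660 F31598) (tt N3612 (iv D6910)) (tt N5892 D10024) (tt N4660 F31599) (tt N3622 F31600))
theorem Q4662 : ∀ i, i < 4662 → P i := stepQ 4661 Q4661 (allL N4661 (tt N4661 F31601) (tt N5888 (iv F44834)) (tt N5762 (iv F44205)) (tt N4661 F31602) (tt N3613 (iv D6911)) (tt N5475 (iv F42546)) (tt N5893 D10025) (tt N3634 F31603) (tt N5894 D10026) (tt N3623 F31604))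
theorem Q4663 : ∀ i, i < 4663 → P i := stepQ 4662 Q4662 (allL N4662 (tt N4662 F31605) (tt N5889 (iv F44838)) (tt N5763 (iv F44209)) (tt N3615 F31606) (tt N5893 (iv F44860)) (tt N4662 F31607) (tt N3613 (iv D6912)) (tt N5895 D10027) (tt N5896 D10028) (tt N3624 F31608))
theorem Q4664 : ∀ i, i < 4664 → P i := stepQ 4663 Q4663 (allL N4663 (tt N4663 F31609) (tt N5890 (iv F44842)) (tt N5764 (iv F44214)) (tt N4663 F31610) (tt N5894 (iv F44863)) (tt N3614 F31611) (tt N5896 (iv F44873)) (tt N3636 F31612) (tt N3613 (iv D6913)) (tt N5897 D10029))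
theorem Q4665 : ∀ i, i < 4665 → P i := stepQ 4664 Q4664 (allL N4664 (tt N4664 F31613) (tt N5891 (iv F44846)) (tt N5765 (iv F44218)) (tt N4664 F31614) (tt N5478 (iv F42557)) (tt N5897 (iv F44876)) (tt N4664 F31615) (tt N3637 F31616) (tt N3626 F31617) (tt N3614 (iv D6914)))
theorem Q4666 : ∀ i, i < 4666 → P i := stepQ 4665 Q4665 (allL N4665 (tt N4665 F31618) (tt N5892 (iv F44851)) (tt N3616 F31619) (tt N5895 (iv F44866)) (tt N4665 F31620) (tt N4665 F31621) (tt N3638 F31622) (tt N3615 (iv D6915)) (tt N4665 F31623) (tt N3627 F31624))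
theorem Q4667 : ∀ i, i < 4667 → P i := stepQ 4666 Q4666 (allL N4666 (tt N3619 F31625) (tt N5898 D10030) (tt N3617 (iv D6916)) (tt N3964 F31626) (tt N5480 (iv F42569)) (tt N5899 D10031) (tt N4666 F31627) (tt N3639 F31628) (tt N5900 D10032) (tt N5882 (iv F44809)))
theorem Q4668 : ∀ i, i < 4668 → P i := stepQ 4667 Q4667 (allL N4667 (tt N3620 F31629) (tt N4667 F31630) (tt N5899 (iv F44884)) (tt N3618 F31631) (tt N5901 D10033) (tt N3617 (iv D6917)) (tt N5902 D10034) (tt N3640 F31632) (tt N5903 D10035) (tt N5883 (iv F44814)))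
theorem Q4669 : ∀ i, i < 4669 → P i := stepQ 4668 Q4668 (allL N4668 (tt N3621 F31633) (tt N4668 F31634) (tt N5900 (iv F44888)) (tt N3740 F31635) (tt N5482 (iv F42579)) (tt N5903 (iv F44902)) (tt N4668 F31636) (tt N3641 F31637) (tt N3617 (iv D6918)) (tt N5904 D10036))
theorem Q4670 : ∀ i, i < 4670 → P i := stepQ 4669 Q4669 (allL N4669 (tt N3622 F31638) (tt N4669 F31639) (tt N3966 F31640) (tt N5902 (iv F44897)) (tt N4669 F31641) (tt N4669 F31642) (tt N3618 (iv D6919)) (tt N5905 D10037) (tt N3741 F31643) (tt N5885 (iv F44826)))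
theorem Q4671 : ∀ i, i < 4671 → P i := stepQ 4670 Q4670 (allL N4670 (tt N5899 (iv F44883)) (tt N5771 (iv F44245)) (tt N3620 F31644) (tt N3967 F31645) (tt N5906 D10038) (tt N3619 (iv D6920)) (tt N5907 D10039) (tt N3643 F31646) (tt N5908 D10040) (tt N5886 (iv F44830)))
theorem Q4672 : ∀ i, i < 4672 → P i := stepQ 4671 Q4671 (allL N4671 (tt N5900 (iv F44887)) (tt N5772 (iv F44249)) (tt N3621 F31647) (tt N5909 D10041) (tt N5485 (iv F42592)) (tt N5908 (iv F44922)) (tt N4671 F31648) (tt N3644 F31649) (tt N3619 (iv D6921)) (tt N5910 D10042))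
theorem Q4673 : ∀ i, i < 4673 → P i := stepQ 4672 Q4672 (allL N4672 (tt N5901 (iv F44891)) (tt N3623 F31650) (tt N5906 (iv F44916)) (tt N4672 F31651) (tt N3620 (iv D6922)) (tt N5486 (iv F42597)) (tt N5911 D10043) (tt N3645 F31652) (tt N5912 D10044) (tt N5888 (iv F44837)))
theorem Q4674 : ∀ i, i < 4674 → P i := stepQ 4673 Q4673 (allL N4673 (tt N5902 (iv F44895)) (tt N3624 F31653) (tt N5907 (iv F44918)) (tt N3622 F31654) (tt N5911 (iv F44933)) (tt N4673 F31655) (tt N3620 (iv D6923)) (tt N5913 D10045) (tt N5914 D10046) (tt N5889 (iv F44841)))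
theorem Q4675 : ∀ i, i < 4675 → P i := stepQ 4674 Q4674 (allL N4674 (tt N5903 (iv F44899)) (tt N3625 F31656) (tt N5908 (iv F44921)) (tt N3746 F31657) (tt N5912 (iv F44935)) (tt N3621 F31658) (tt N5914 (iv F44944)) (tt N3647 F31659) (tt N3620 (iv D6924)) (tt N5915 D10047))
theorem Q4676 : ∀ i, i < 4676 → P i := stepQ 4675 Q4675 (allL N4675 (tt N5904 (iv F44904)) (tt N3626 F31660) (tt N5910 (iv F44928)) (tt N3747 F31661) (tt N5489 (iv F42608)) (tt N5915 (iv F44947)) (tt N4675 F31662) (tt N3648 F31663) (tt N5891 (iv F44850)) (tt N3621 (iv D6925)))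
theorem Q4677 : ∀ i, i < 4677 → P i := stepQ 4676 Q4676 (allL N4676 (tt N5905 (iv F44909)) (tt N3627 F31664) (tt N3972 F31665) (tt N5913 (iv F44938)) (tt N4676 F31666) (tt N4676 F31667) (tt N3649 F31668) (tt N3622 (iv D6926)) (tt N3748 F31669) (tt N5892 (iv F44857)))
theorem Q4678 : ∀ i, i < 4678 → P i := stepQ 4677 Q4677 (allL N4677 (tt N4677 F31670) (tt N5911 (iv F44931)) (tt N5778 (iv F44272)) (tt N4677 F31671) (tt N3624 F31672) (tt N5916 D10048) (tt N3623 (iv D6927)) (tt N5917 D10049) (tt N5918 D10050) (tt N5893 (iv F44861)))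
theorem Q4679 : ∀ i, i < 4679 → P i := stepQ 4678 Q4678 (allL N4678 (tt N4678 F31673) (tt N5912 (iv F44934)) (tt N5779 (iv F44275)) (tt N5919 D10051) (tt N3625 F31674) (tt N5492 (iv F42622)) (tt N5918 (iv F44958)) (tt N3651 F31675) (tt N3623 (iv D6928)) (tt N5920 D10052))
theorem Q4680 : ∀ i, i < 4680 → P i := stepQ 4679 Q4679 (allL N4679 (tt N4679 F31676) (tt N5913 (iv F44937)) (tt N5780 (iv F44279)) (tt N3627 F31677) (tt N5917 (iv F44954)) (tt N4679 F31678) (tt N3652 F31679) (tt N3624 (iv D6929)) (tt N5921 D10053) (tt N5895 (iv F44869)))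
theorem Q4681 : ∀ i, i < 4681 → P i := stepQ 4680 Q4680 (allL N4680 (tt N4680 F31680) (tt N5914 (iv F44941)) (tt N5781 (iv F44284)) (tt N3752 F31681) (tt N5918 (iv F44957)) (tt N4680 F31682) (tt N3625 F31683) (tt N5921 (iv F44970)) (tt N3624 (iv D6930)) (tt N5922 D10054))
theorem Q4682 : ∀ i, i < 4682 → P i := stepQ 4681 Q4681 (allL N4681 (tt N4681 F31684) (tt N5915 (iv F44945)) (tt N5782 (iv F44289)) (tt N3753 F31685) (tt N5920 (iv F44964)) (tt N3626 F31686) (tt N5922 (iv F44974)) (tt N3654 F31687) (tt N5897 (iv F44878)) (tt N3625 (iv D6931)))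
theorem Q4683 : ∀ i, i < 4683 → P i := stepQ 4682 Q4682 (allL N4682 (tt N3630 F31688) (tt N5923 D10055) (tt N3628 (iv D6932)) (tt N3974 F31689) (tt N5507 (iv F42693)) (tt N5924 D10056) (tt N3655 F31690) (tt N5882 (iv F44808)) (tt N5925 D10057) (tt N3639 F31691))
theorem Q4684 : ∀ i, i < 4684 → P i := stepQ 4683 Q4683 (allL N4683 (tt N3631 F31692) (tt N4683 F31693) (tt N5924 (iv F44980)) (tt N3629 F31694) (tt N5926 D10058) (tt N3628 (iv D6933)) (tt N5927 D10059) (tt N5883 (iv F44813)) (tt N5928 D10060) (tt N3640 F31695))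
theorem Q4685 : ∀ i, i < 4685 → P i := stepQ 4684 Q4684 (allL N4684 (tt N3632 F31696) (tt N4684 F31697) (tt N5925 (iv F44984)) (tt N4684 F31698) (tt N5509 (iv F42702)) (tt N5928 (iv F44998)) (tt N3657 F31699) (tt N5884 (iv F44819)) (tt N3628 (iv D6934)) (tt N5929 D10061))
theorem Q4686 : ∀ i, i < 4686 → P i := stepQ 4685 Q4685 (allL N4685 (tt N3633 F31700) (tt N4685 F31701) (tt N3976 F31702) (tt N5927 (iv F44992)) (tt N4685 F31703) (tt N3658 F31704) (tt N3629 (iv D6935)) (tt N5930 D10062) (tt N4685 F31705) (tt N3642 F31706))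
theorem Q4687 : ∀ i, i < 4687 → P i := stepQ 4686 Q4686 (allL N4686 (tt N5924 (iv F44979)) (tt N5788 (iv F44360)) (tt N3631 F31707) (tt N3977 F31708) (tt N5931 D10063) (tt N3630 (iv D6936)) (tt N5932 D10064) (tt N5886 (iv F44829)) (tt N5933 D10065) (tt N3643 F31709))
theorem Q4688 : ∀ i, i < 4688 → P i := stepQ 4687 Q4687 (allL N4687 (tt N5925 (iv F44983)) (tt N5789 (iv F44364)) (tt N3632 F31710) (tt N5934 D10066) (tt N5512 (iv F42714)) (tt N5933 (iv F45018)) (tt N3660 F31711) (tt N5887 (iv F44833)) (tt N3630 (iv D6937)) (tt N5935 D10067))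
theorem Q4689 : ∀ i, i < 4689 → P i := stepQ 4688 Q4688 (allL N4688 (tt N5926 (iv F44986)) (tt N3634 F31712) (tt N5931 (iv F45011)) (tt N4688 F31713) (tt N3631 (iv D6938)) (tt N5513 (iv F42718)) (tt N5936 D10068) (tt N5888 (iv F44836)) (tt N5937 D10069) (tt N3645 F31714))
theorem Q4690 : ∀ i, i < 4690 → P i := stepQ 4689 Q4689 (allL N4689 (tt N5927 (iv F44990)) (tt N3635 F31715) (tt N5932 (iv F45013)) (tt N3633 F31716) (tt N5936 (iv F45027)) (tt N3662 F31717) (tt N3631 (iv D6939)) (tt N5938 D10070) (tt N5939 D10071) (tt N3646 F31718))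
theorem Q4691 : ∀ i, i < 4691 → P i := stepQ 4690 Q4690 (allL N4690 (tt N5928 (iv F44995)) (tt N3636 F31719) (tt N5933 (iv F45017)) (tt N4690 F31720) (tt N5937 (iv F45030)) (tt N3632 F31721) (tt N5939 (iv F45038)) (tt N5890 (iv F44845)) (tt N3631 (iv D6940)) (tt N5940 D10072))
theorem Q4692 : ∀ i, i < 4692 → P i := stepQ 4691 Q4691 (allL N4691 (tt N5929 (iv F44999)) (tt N3637 F31722) (tt N5935 (iv F45022)) (tt N4691 F31723) (tt N5516 (iv F42727)) (tt N5940 (iv F45041)) (tt N3664 F31724) (tt N5891 (iv F44849)) (tt N3648 F31725) (tt N3632 (iv D6941)))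
theorem Q4693 : ∀ i, i < 4693 → P i := stepQ 4692 Q4692 (allL N4692 (tt N5930 (iv F45004)) (tt N3638 F31726) (tt N3982 F31727) (tt N5938 (iv F45032)) (tt N4692 F31728) (tt N3665 F31729) (tt N5892 (iv F44855)) (tt N3633 (iv D6942)) (tt N4692 F31730) (tt N3649 F31731))
theorem Q4694 : ∀ i, i < 4694 → P i := stepQ 4693 Q4693 (allL N4693 (tt N4693 F31732) (tt N5936 (iv F45025)) (tt N5795 (iv F44383)) (tt N4693 F31733) (tt N3635 F31734) (tt N5941 D10073) (tt N3634 (iv D6943)) (tt N5942 D10074) (tt N5943 D10075) (tt N3650 F31735))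
theorem Q4695 : ∀ i, i < 4695 → P i := stepQ 4694 Q4694 (allL N4694 (tt N4694 F31736) (tt N5937 (iv F45029)) (tt N5796 (iv F44387)) (tt N5944 D10076) (tt N3636 F31737) (tt N5519 (iv F42741)) (tt N5943 (iv F45053)) (tt N5894 (iv F44864)) (tt N3634 (iv D6944)) (tt N5945 D10077))
theorem Q4696 : ∀ i, i < 4696 → P i := stepQ 4695 Q4695 (allL N4695 (tt N4695 F31738) (tt N5938 (iv F45031)) (tt N5797 (iv F44390)) (tt N3638 F31739) (tt N5942 (iv F45049)) (tt N3668 F31740) (tt N5895 (iv F44868)) (tt N3635 (iv D6945)) (tt N5946 D10078) (tt N3652 F31741))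
theorem Q4697 : ∀ i, i < 4697 → P i := stepQ 4696 Q4696 (allL N4696 (tt N4696 F31742) (tt N5939 (iv F45035)) (tt N5798 (iv F44395)) (tt N4696 F31743) (tt N5943 (iv F45052)) (tt N3669 F31744) (tt N3636 F31745) (tt N5946 (iv F45063)) (tt N3635 (iv D6946)) (tt N5947 D10079))
theorem Q4698 : ∀ i, i < 4698 → P i := stepQ 4697 Q4697 (allL N4697 (tt N4697 F31746) (tt N5940 (iv F45039)) (tt N5799 (iv F44399)) (tt N4697 F31747) (tt N5945 (iv F45058)) (tt N3637 F31748) (tt N5947 (iv F45067)) (tt N5897 (iv F44877)) (tt N3654 F31749) (tt N3636 (iv D6947)))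
theorem Q4699 : ∀ i, i < 4699 → P i := stepQ 4698 Q4698 (allL N4698 (tt N5800 (iv F44402)) (tt N3639 (iv D6948)) (tt N4698 F31750) (tt N3978 F200851) (tt N5523 (iv F42754)) (tt N5948 D10080) (tt N3671 F31752) (tt N5898 (iv F44882)) (tt N5934 (iv F201242)) (tt N5923 (iv F44978)))
theorem Q4700 : ∀ i, i < 4700 → P i := stepQ 4699 Q4699 (allL N4699 (tt N3643 F31753) (tt N5948 (iv F45069)) (tt N3640 F31754) (tt N3988 F31755) (tt N5949 D10082) (tt N3639 (iv D6949)) (tt N5950 D10083) (tt N5899 (iv F44886)) (tt N5951 D10084) (tt N5924 (iv F44982)))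
theorem Q4701 : ∀ i, i < 4701 → P i := stepQ 4700 Q4700 (allL N4700 (tt N3644 F31756) (tt N5934 F201506) (tt N3641 F31757) (tt N5789 F201507) (tt N5525 (iv F42761)) (tt N5951 (iv F45083)) (tt N3673 F31758) (tt N5900 (iv F44890)) (tt N3639 (iv D6950)) (tt N5952 D10086))
theorem Q4702 : ∀ i, i < 4702 → P i := stepQ 4701 Q4701 (allL N4701 (tt N3645 F31759) (tt N4701 F31760) (tt N5949 (iv F45076)) (tt N4701 F31761) (tt N3640 (iv D6951)) (tt N5526 (iv F42766)) (tt N5953 D10087) (tt N5901 (iv F44894)) (tt N5954 D10088) (tt N5926 (iv F44989)))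
theorem Q4703 : ∀ i, i < 4703 → P i := stepQ 4702 Q4702 (allL N4702 (tt N3646 F31762) (tt N4702 F31763) (tt N5950 (iv F45078)) (tt N3642 F31764) (tt N5953 (iv F45094)) (tt N3675 F31765) (tt N3640 (iv D6952)) (tt N5955 D10089) (tt N5956 D10090) (tt N5927 (iv F44994)))
theorem Q4704 : ∀ i, i < 4704 → P i := stepQ 4703 Q4703 (allL N4703 (tt N3647 F31766) (tt N4703 F31767) (tt N5951 (iv F45082)) (tt N3758 F31768) (tt N5954 (iv F45097)) (tt N3641 F31769) (tt N5956 (iv F45106)) (tt N5903 (iv F44903)) (tt N3640 (iv D6953)) (tt N5957 D10091))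
theorem Q4705 : ∀ i, i < 4705 → P i := stepQ 4704 Q4704 (allL N4704 (tt N3648 F31770) (tt N4704 F31771) (tt N5952 (iv F45089)) (tt N3759 F31772) (tt N5529 (iv F42778)) (tt N5957 (iv F45110)) (tt N3677 F31773) (tt N5904 (iv F44908)) (tt N5929 (iv F45003)) (tt N3641 (iv D6954)))
theorem Q4706 : ∀ i, i < 4706 → P i := stepQ 4705 Q4705 (allL N4705 (tt N3649 F31774) (tt N4705 F31775) (tt N3991 F31776) (tt N5955 (iv F45100)) (tt N4705 F31777) (tt N3678 F31778) (tt N5905 (iv F44914)) (tt N3642 (iv D6955)) (tt N3760 F31779) (tt N5930 (iv F45010)))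
theorem Q4707 : ∀ i, i < 4707 → P i := stepQ 4706 Q4706 (allL N4706 (tt N5949 (iv F45075)) (tt N5808 (iv F44431)) (tt N3645 F31780) (tt N5958 D10092) (tt N3643 (iv D6956)) (tt N5531 (iv F42787)) (tt N5959 D10093) (tt N5906 (iv F44917)) (tt N5960 D10094) (tt N5931 (iv F45012)))
theorem Q4708 : ∀ i, i < 4708 → P i := stepQ 4707 Q4707 (allL N4707 (tt N5950 (iv F45077)) (tt N5809 (iv F44433)) (tt N3646 F31781) (tt N3993 F31782) (tt N5959 (iv F45114)) (tt N3680 F31783) (tt N3643 (iv D6957)) (tt N5961 D10095) (tt N5962 D10096) (tt N5932 (iv F45016)))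
theorem Q4709 : ∀ i, i < 4709 → P i := stepQ 4708 Q4708 (allL N4708 (tt N5951 (iv F45081)) (tt N5810 (iv F44437)) (tt N3647 F31784) (tt N5963 D10097) (tt N5960 (iv F45116)) (tt N3644 F31785) (tt N5962 (iv F45122)) (tt N5908 (iv F44923)) (tt N3643 (iv D6958)) (tt N5964 D10098))
theorem Q4710 : ∀ i, i < 4710 → P i := stepQ 4709 Q4709 (allL N4709 (tt N5789 F201508) (tt N5811 (iv F44440)) (tt N3764 F31786) (tt N3644 (iv D6959)) (tt N5965 D10099) (tt N5963 (iv F45124)) (tt N3682 F31787) (tt N5909 (iv F44926)) (tt N3995 F31788) (tt N5966 D10100))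
theorem Q4711 : ∀ i, i < 4711 → P i := stepQ 4710 Q4710 (allL N4710 (tt N5952 (iv F45088)) (tt N5812 (iv F44444)) (tt N3648 F31789) (tt N5966 (iv F45132)) (tt N5535 (iv F42797)) (tt N5964 (iv F45127)) (tt N3683 F31790) (tt N5910 (iv F44930)) (tt N5935 (iv F45024)) (tt N3644 (iv D6960)))
theorem Q4712 : ∀ i, i < 4712 → P i := stepQ 4711 Q4711 (allL N4711 (tt N5953 (iv F45091)) (tt N3650 F31791) (tt N5959 (iv F45113)) (tt N4711 F31792) (tt N3646 F31793) (tt N5967 D10101) (tt N3645 (iv D6961)) (tt N5968 D10102) (tt N5969 D10103) (tt N5936 (iv F45028)))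
theorem Q4713 : ∀ i, i < 4713 → P i := stepQ 4712 Q4712 (allL N4712 (tt N5954 (iv F45095)) (tt N3651 F31794) (tt N5960 (iv F45115)) (tt N5970 D10104) (tt N3647 F31795) (tt N5537 (iv F42804)) (tt N5969 (iv F45142)) (tt N5912 (iv F44936)) (tt N3645 (iv D6962)) (tt N5971 D10105))
theorem Q4714 : ∀ i, i < 4714 → P i := stepQ 4713 Q4713 (allL N4713 (tt N5955 (iv F45098)) (tt N3652 F31796) (tt N5961 (iv F45117)) (tt N3649 F31797) (tt N5968 (iv F45139)) (tt N3686 F31798) (tt N5913 (iv F44940)) (tt N3646 (iv D6963)) (tt N5972 D10106) (tt N5938 (iv F45034)))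
theorem Q4715 : ∀ i, i < 4715 → P i := stepQ 4714 Q4714 (allL N4714 (tt N5956 (iv F45102)) (tt N3653 F31799) (tt N5962 (iv F45120)) (tt N3769 F31800) (tt N5969 (iv F45141)) (tt N3687 F31801) (tt N3647 F31802) (tt N5972 (iv F45151)) (tt N3646 (iv D6964)) (tt N5973 D10107))
theorem Q4716 : ∀ i, i < 4716 → P i := stepQ 4715 Q4715 (allL N4715 (tt N5957 (iv F45107)) (tt N3654 F31803) (tt N5964 (iv F45126)) (tt N3770 F31804) (tt N5971 (iv F45147)) (tt N3648 F31805) (tt N5973 (iv F45155)) (tt N5915 (iv F44948)) (tt N5940 (iv F45042)) (tt N3647 (iv D6965)))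
theorem Q4717 : ∀ i, i < 4717 → P i := stepQ 4716 Q4716 (allL N4716 (tt N4716 F31806) (tt N5967 (iv F45134)) (tt N5818 (iv F44462)) (tt N4716 F31807) (tt N3689 F31808) (tt N3650 (iv D6966)) (tt N5541 (iv F42818)) (tt N5974 D10108) (tt N5975 D10109) (tt N5941 (iv F45046)))
theorem Q4718 : ∀ i, i < 4718 → P i := stepQ 4717 Q4717 (allL N4717 (tt N4717 F31809) (tt N5968 (iv F45137)) (tt N5819 (iv F44465)) (tt N4717 F31810) (tt N3652 F31811) (tt N5974 (iv F45159)) (tt N5917 (iv F44955)) (tt N3650 (iv D6967)) (tt N5976 D10110) (tt N5942 (iv F45050)))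
theorem Q4719 : ∀ i, i < 4719 → P i := stepQ 4718 Q4718 (allL N4718 (tt N4718 F31812) (tt N5969 (iv F45140)) (tt N5820 (iv F44468)) (tt N5977 D10111) (tt N3653 F31813) (tt N5975 (iv F45162)) (tt N3651 F31814) (tt N5976 (iv F45165)) (tt N3650 (iv D6968)) (tt N5978 D10112))
theorem Q4720 : ∀ i, i < 4720 → P i := stepQ 4719 Q4719 (allL N4719 (tt N4719 F31815) (tt N5970 (iv F45143)) (tt N5979 D10113) (tt N3651 (iv D6969)) (tt N3774 F31816) (tt N5544 (iv F42827)) (tt N5977 (iv F45168)) (tt N5919 (iv F44961)) (tt N4719 F31817) (tt N5980 D10114))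
theorem Q4721 : ∀ i, i < 4721 → P i := stepQ 4720 Q4720 (allL N4720 (tt N4720 F31818) (tt N5971 (iv F45146)) (tt N5822 (iv F44474)) (tt N5980 (iv F45177)) (tt N3654 F31819) (tt N5545 (iv F42831)) (tt N5978 (iv F45172)) (tt N5920 (iv F44965)) (tt N5945 (iv F45059)) (tt N3651 (iv D6970)))
theorem Q4722 : ∀ i, i < 4722 → P i := stepQ 4721 Q4721 (allL N4721 (tt N4721 F31820) (tt N5972 (iv F45148)) (tt N5823 (iv F44477)) (tt N3776 F31821) (tt N5976 (iv F45164)) (tt N3694 F31822) (tt N5921 (iv F44969)) (tt N3653 F31823) (tt N3652 (iv D6971)) (tt N5981 D10115))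
theorem Q4723 : ∀ i, i < 4723 → P i := stepQ 4722 Q4722 (allL N4722 (tt N4722 F31824) (tt N5973 (iv F45152)) (tt N5824 (iv F44482)) (tt N3777 F31825) (tt N5978 (iv F45171)) (tt N3695 F31826) (tt N3654 F31827) (tt N5981 (iv F45182)) (tt N5947 (iv F45068)) (tt N3653 (iv D6972)))
theorem Q4724 : ∀ i, i < 4724 → P i := stepQ 4723 Q4723 (allL N4723 (tt N3940 (iv F201120)) (tt N3655 (iv D6973)) (tt N4723 F31828) (tt N3932 F200989) (tt N5564 (iv F42920)) (tt N5982 D10116) (tt N5923 (iv F44977)) (tt N4723 F31830) (tt N5851 (iv F201348)) (tt N3671 F31831))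
theorem Q4725 : ∀ i, i < 4725 → P i := stepQ 4724 Q4724 (allL N4724 (tt N3659 F31832) (tt N5982 (iv F45183)) (tt N3656 F31833) (tt N4002 F31834) (tt N5983 D10118) (tt N3655 (iv D6974)) (tt N5984 D10119) (tt N4724 F31835) (tt N5985 D10120) (tt N3672 F31836))
theorem Q4726 : ∀ i, i < 4726 → P i := stepQ 4725 Q4725 (allL N4725 (tt N3660 F31837) (tt N5851 F201646) (tt N3657 F31838) (tt N5847 F201647) (tt N5566 (iv F42930)) (tt N5985 (iv F45201)) (tt N5925 (iv F44985)) (tt N4725 F31839) (tt N3655 (iv D6975)) (tt N5986 D10122))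
theorem Q4727 : ∀ i, i < 4727 → P i := stepQ 4726 Q4726 (allL N4726 (tt N3661 F31840) (tt N4726 F31841) (tt N5983 (iv F45192)) (tt N3696 F31842) (tt N3656 (iv D6976)) (tt N5567 (iv F42935)) (tt N5987 D10123) (tt N4726 F31843) (tt N5988 D10124) (tt N3674 F31844))
theorem Q4728 : ∀ i, i < 4728 → P i := stepQ 4727 Q4727 (allL N4727 (tt N3662 F31845) (tt N4727 F31846) (tt N5984 (iv F45196)) (tt N3658 F31847) (tt N5987 (iv F45214)) (tt N5927 (iv F44993)) (tt N3656 (iv D6977)) (tt N5989 D10125) (tt N5990 D10126) (tt N3675 F31848))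
theorem Q4729 : ∀ i, i < 4729 → P i := stepQ 4728 Q4728 (allL N4728 (tt N3663 F31849) (tt N4728 F31850) (tt N5985 (iv F45200)) (tt N4728 F31851) (tt N5988 (iv F45218)) (tt N3657 F31852) (tt N5990 (iv F45228)) (tt N4728 F31853) (tt N3656 (iv D6978)) (tt N5991 D10127))
theorem Q4730 : ∀ i, i < 4730 → P i := stepQ 4729 Q4729 (allL N4729 (tt N3664 F31854) (tt N4729 F31855) (tt N5986 (iv F45208)) (tt N4729 F31856) (tt N5570 (iv F42948)) (tt N5991 (iv F45232)) (tt N5929 (iv F45002)) (tt N4729 F31857) (tt N3677 F31858) (tt N3657 (iv D6979)))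
theorem Q4731 : ∀ i, i < 4731 → P i := stepQ 4730 Q4730 (allL N4730 (tt N3665 F31859) (tt N4730 F31860) (tt N4005 F31861) (tt N5989 (iv F45222)) (tt N3698 F31862) (tt N5930 (iv F45008)) (tt N4730 F31863) (tt N3658 (iv D6980)) (tt N4730 F31864) (tt N3678 F31865))
theorem Q4732 : ∀ i, i < 4732 → P i := stepQ 4731 Q4731 (allL N4731 (tt N5983 (iv F45191)) (tt N5830 (iv F44600)) (tt N3661 F31866) (tt N5992 D10128) (tt N3659 (iv D6981)) (tt N5572 (iv F42958)) (tt N5993 D10129) (tt N4731 F31867) (tt N5994 D10130) (tt N3679 F31868))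
theorem Q4733 : ∀ i, i < 4733 → P i := stepQ 4732 Q4732 (allL N4732 (tt N5984 (iv F45195)) (tt N5831 (iv F44604)) (tt N3662 F31869) (tt N4007 F31870) (tt N5993 (iv F45240)) (tt N5932 (iv F45015)) (tt N3659 (iv D6982)) (tt N5995 D10131) (tt N5996 D10132) (tt N3680 F31871))
theorem Q4734 : ∀ i, i < 4734 → P i := stepQ 4733 Q4733 (allL N4733 (tt N5985 (iv F45199)) (tt N5832 (iv F44608)) (tt N3663 F31872) (tt N5997 D10133) (tt N5994 (iv F45243)) (tt N3660 F31873) (tt N5996 (iv F45250)) (tt N4733 F31874) (tt N3659 (iv D6983)) (tt N5998 D10134))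
theorem Q4735 : ∀ i, i < 4735 → P i := stepQ 4734 Q4734 (allL N4734 (tt N5847 F201642) (tt N3673 (iv F201933)) (tt N4734 F31875) (tt N3660 (iv D6984)) (tt N5590 (iv F202046)) (tt N5997 (iv F45252)) (tt N5934 (iv F45020)) (tt N4734 F31876) (tt N3671 F201643) (tt N5999 D10136))
theorem Q4736 : ∀ i, i < 4736 → P i := stepQ 4735 Q4735 (allL N4735 (tt N5986 (iv F45207)) (tt N5833 (iv F44615)) (tt N3664 F31878) (tt N5999 (iv F45263)) (tt N5576 (iv F42970)) (tt N5998 (iv F45256)) (tt N5935 (iv F45023)) (tt N4735 F31879) (tt N3683 F31880) (tt N3660 (iv D6985)))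
theorem Q4737 : ∀ i, i < 4737 → P i := stepQ 4736 Q4736 (allL N4736 (tt N5987 (iv F45211)) (tt N3666 F31881) (tt N5993 (iv F45239)) (tt N3701 F31882) (tt N3662 F31883) (tt N6000 D10137) (tt N3661 (iv D6986)) (tt N6001 D10138) (tt N6002 D10139) (tt N3684 F31884))
theorem Q4738 : ∀ i, i < 4738 → P i := stepQ 4737 Q4737 (allL N4737 (tt N5988 (iv F45216)) (tt N3667 F31885) (tt N5994 (iv F45242)) (tt N6003 D10140) (tt N3663 F31886) (tt N5578 (iv F42979)) (tt N6002 (iv F45275)) (tt N4737 F31887) (tt N3661 (iv D6987)) (tt N6004 D10141))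
theorem Q4739 : ∀ i, i < 4739 → P i := stepQ 4738 Q4738 (allL N4738 (tt N5989 (iv F45220)) (tt N3668 F31888) (tt N5995 (iv F45245)) (tt N3665 F31889) (tt N6001 (iv F45270)) (tt N5938 (iv F45033)) (tt N4738 F31890) (tt N3662 (iv D6988)) (tt N6005 D10142) (tt N3686 F31891))
theorem Q4740 : ∀ i, i < 4740 → P i := stepQ 4739 Q4739 (allL N4739 (tt N5990 (iv F45225)) (tt N3669 F31892) (tt N5996 (iv F45249)) (tt N4739 F31893) (tt N6002 (iv F45274)) (tt N5939 (iv F45037)) (tt N3663 F31894) (tt N6005 (iv F45287)) (tt N3662 (iv D6989)) (tt N6006 D10143))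
theorem Q4741 : ∀ i, i < 4741 → P i := stepQ 4740 Q4740 (allL N4740 (tt N5991 (iv F45229)) (tt N3670 F31895) (tt N5998 (iv F45255)) (tt N4740 F31896) (tt N6004 (iv F45281)) (tt N3664 F31897) (tt N6006 (iv F45290)) (tt N4740 F31898) (tt N3688 F31899) (tt N3663 (iv D6990)))
theorem Q4742 : ∀ i, i < 4742 → P i := stepQ 4741 Q4741 (allL N4741 (tt N4741 F31900) (tt N6000 (iv F45265)) (tt N5839 (iv F44637)) (tt N3705 F31901) (tt N5941 (iv F45045)) (tt N3666 (iv D6991)) (tt N5582 (iv F42993)) (tt N6007 D10144) (tt N6008 D10145) (tt N3689 F31902))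
theorem Q4743 : ∀ i, i < 4743 → P i := stepQ 4742 Q4742 (allL N4742 (tt N4742 F31903) (tt N6001 (iv F45268)) (tt N5840 (iv F44641)) (tt N3706 F31904) (tt N3668 F31905) (tt N6007 (iv F45294)) (tt N4742 F31906) (tt N3666 (iv D6992)) (tt N6009 D10146) (tt N3690 F31907))
theorem Q4744 : ∀ i, i < 4744 → P i := stepQ 4743 Q4743 (allL N4743 (tt N4743 F31908) (tt N6002 (iv F45273)) (tt N5841 (iv F44647)) (tt N6010 D10147) (tt N3669 F31909) (tt N6008 (iv F45297)) (tt N3667 F31910) (tt N6009 (iv F45301)) (tt N3666 (iv D6993)) (tt N6011 D10148))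
theorem Q4745 : ∀ i, i < 4745 → P i := stepQ 4744 Q4744 (allL N4744 (tt N4744 F31911) (tt N6003 (iv F45276)) (tt N6012 D10149) (tt N3667 (iv D6994)) (tt N4744 F31912) (tt N5585 (iv F43004)) (tt N6010 (iv F45304)) (tt N4744 F31913) (tt N3708 F31914) (tt N6013 D10150))
theorem Q4746 : ∀ i, i < 4746 → P i := stepQ 4745 Q4745 (allL N4745 (tt N4745 F31915) (tt N6004 (iv F45280)) (tt N5843 (iv F44654)) (tt N6013 (iv F45315)) (tt N3670 F31916) (tt N5586 (iv F43009)) (tt N6011 (iv F45308)) (tt N4745 F31917) (tt N3693 F31918) (tt N3667 (iv D6995)))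
theorem Q4747 : ∀ i, i < 4747 → P i := stepQ 4746 Q4746 (allL N4746 (tt N4746 F31919) (tt N6005 (iv F45284)) (tt N5844 (iv F44659)) (tt N4746 F31920) (tt N6009 (iv F45299)) (tt N5946 (iv F45062)) (tt N4746 F31921) (tt N3669 F31922) (tt N3668 (iv D6996)) (tt N6014 D10151))
theorem Q4748 : ∀ i, i < 4748 → P i := stepQ 4747 Q4747 (allL N4747 (tt N4747 F31923) (tt N6006 (iv F45288)) (tt N5845 (iv F44663)) (tt N4747 F31924) (tt N6011 (iv F45307)) (tt N5947 (iv F45066)) (tt N3670 F31925) (tt N6014 (iv F45321)) (tt N3695 F31926) (tt N3669 (iv D6997)))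
theorem Q4749 : ∀ i, i < 4749 → P i := stepQ 4748 Q4748 (allL N4748 (tt N5846 (iv F44666)) (tt N3672 F31927) (tt N4748 F31928) (tt N4008 F201641) (tt N6015 D10152) (tt N3671 (iv D6998)) (tt N6016 D10153) (tt N4748 F31930) (tt N5997 (iv F202050)) (tt N5982 (iv F45187)))
theorem Q4750 : ∀ i, i < 4750 → P i := stepQ 4749 Q4749 (allL N4749 (tt N3679 F31934) (tt N6015 (iv F45323)) (tt N3674 F31935) (tt N6017 D10157) (tt N3672 (iv D7000)) (tt N5591 (iv F43028)) (tt N6018 D10158) (tt N4749 F31936) (tt N6019 D10159) (tt N5983 (iv F45194)))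
theorem Q4751 : ∀ i, i < 4751 → P i := stepQ 4750 Q4750 (allL N4750 (tt N3680 F31937) (tt N6016 (iv F45326)) (tt N3675 F31938) (tt N4021 F31939) (tt N6018 (iv F45345)) (tt N5950 (iv F45080)) (tt N3672 (iv D7001)) (tt N6020 D10160) (tt N6021 D10161) (tt N5984 (iv F45198)))
theorem Q4752 : ∀ i, i < 4752 → P i := stepQ 4751 Q4751 (allL N4751 (tt N3681 F31940) (tt N5997 F202340) (tt N3676 F31941) (tt N5832 F202341) (tt N6019 (iv F45348)) (tt N3673 F31942) (tt N6021 (iv F45356)) (tt N4751 F31943) (tt N3672 (iv D7002)) (tt N6022 D10163))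
theorem Q4753 : ∀ i, i < 4753 → P i := stepQ 4752 Q4752 (allL N4752 (tt N3683 F31948) (tt N5999 F202342) (tt N3677 F31949) (tt N5833 F202343) (tt N5595 (iv F43043)) (tt N6022 (iv F45364)) (tt N5952 (iv F45090)) (tt N4752 F31950) (tt N5986 (iv F45210)) (tt N3673 (iv D7004)))
theorem Q4754 : ∀ i, i < 4754 → P i := stepQ 4753 Q4753 (allL N4753 (tt N3684 F31951) (tt N4753 F31952) (tt N6018 (iv F45344)) (tt N3714 F31953) (tt N3675 F31954) (tt N6023 D10166) (tt N3674 (iv D7005)) (tt N6024 D10167) (tt N6025 D10168) (tt N5987 (iv F45215)))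
theorem Q4755 : ∀ i, i < 4755 → P i := stepQ 4754 Q4754 (allL N4754 (tt N3685 F31955) (tt N4754 F31956) (tt N6019 (iv F45347)) (tt N6026 D10169) (tt N3676 F31957) (tt N5597 (iv F43052)) (tt N6025 (iv F45385)) (tt N4754 F31958) (tt N3674 (iv D7006)) (tt N6027 D10170))
theorem Q4756 : ∀ i, i < 4756 → P i := stepQ 4755 Q4755 (allL N4755 (tt N3686 F31959) (tt N4755 F31960) (tt N6020 (iv F45351)) (tt N3678 F31961) (tt N6024 (iv F45380)) (tt N5955 (iv F45101)) (tt N4755 F31962) (tt N3675 (iv D7007)) (tt N6028 D10171) (tt N5989 (iv F45224)))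
theorem Q4757 : ∀ i, i < 4757 → P i := stepQ 4756 Q4756 (allL N4756 (tt N3687 F31963) (tt N4756 F31964) (tt N6021 (iv F45355)) (tt N3785 F31965) (tt N6025 (iv F45384)) (tt N5956 (iv F45105)) (tt N3676 F31966) (tt N6028 (iv F45399)) (tt N3675 (iv D7008)) (tt N6029 D10172))
theorem Q4758 : ∀ i, i < 4758 → P i := stepQ 4757 Q4757 (allL N4757 (tt N3688 F31967) (tt N4757 F31968) (tt N6022 (iv F45363)) (tt N3786 F31969) (tt N6027 (iv F45393)) (tt N3677 F31970) (tt N6029 (iv F45403)) (tt N4757 F31971) (tt N5991 (iv F45234)) (tt N3676 (iv D7009)))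
theorem Q4759 : ∀ i, i < 4759 → P i := stepQ 4758 Q4758 (allL N4758 (tt N6017 (iv F45339)) (tt N5858 (iv F44713)) (tt N3718 F31972) (tt N3679 (iv D7010)) (tt N4024 F31973) (tt N5601 (iv F43069)) (tt N6030 D10173) (tt N4758 F31974) (tt N6031 D10174) (tt N5992 (iv F45238)))
theorem Q4760 : ∀ i, i < 4760 → P i := stepQ 4759 Q4759 (allL N4759 (tt N6018 (iv F45343)) (tt N5859 (iv F44717)) (tt N3684 F31975) (tt N6030 (iv F45405)) (tt N3680 F31976) (tt N6032 D10175) (tt N3679 (iv D7011)) (tt N6033 D10176) (tt N6034 D10177) (tt N5993 (iv F45241)))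
theorem Q4761 : ∀ i, i < 4761 → P i := stepQ 4760 Q4760 (allL N4760 (tt N6019 (iv F45346)) (tt N5860 (iv F44720)) (tt N3685 F31977) (tt N6035 D10178) (tt N3681 F31978) (tt N5603 (iv F43075)) (tt N6034 (iv F45416)) (tt N4760 F31979) (tt N3679 (iv D7012)) (tt N6036 D10179))
theorem Q4762 : ∀ i, i < 4762 → P i := stepQ 4761 Q4761 (allL N4761 (tt N6020 (iv F45350)) (tt N5861 (iv F44724)) (tt N3686 F31980) (tt N4027 F31981) (tt N6033 (iv F45412)) (tt N5961 (iv F45119)) (tt N4761 F31982) (tt N3680 (iv D7013)) (tt N6037 D10180) (tt N5995 (iv F45248)))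
theorem Q4763 : ∀ i, i < 4763 → P i := stepQ 4762 Q4762 (allL N4762 (tt N6021 (iv F45354)) (tt N5862 (iv F44728)) (tt N3687 F31983) (tt N6038 D10181) (tt N6034 (iv F45415)) (tt N5962 (iv F45121)) (tt N3681 F31984) (tt N6037 (iv F45423)) (tt N3680 (iv D7014)) (tt N6039 D10182))
theorem Q4764 : ∀ i, i < 4764 → P i := stepQ 4763 Q4763 (allL N4763 (tt N5832 F202345) (tt N5863 (iv F44731)) (tt N3791 F31985) (tt N3681 (iv D7015)) (tt N6040 D10183) (tt N3682 F31986) (tt N6038 (iv F45425)) (tt N4763 F31987) (tt N4029 F31988) (tt N6041 D10184))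
theorem Q4765 : ∀ i, i < 4765 → P i := stepQ 4764 Q4764 (allL N4764 (tt N6022 (iv F45362)) (tt N5864 (iv F44736)) (tt N3688 F31989) (tt N6041 (iv F45433)) (tt N6036 (iv F45419)) (tt N3683 F31990) (tt N6039 (iv F45428)) (tt N4764 F31991) (tt N5998 (iv F45258)) (tt N3681 (iv D7016)))
theorem Q4766 : ∀ i, i < 4766 → P i := stepQ 4765 Q4765 (allL N4765 (tt N5426 F202347) (tt N5865 (iv F44740)) (tt N3793 F31992) (tt N5608 (iv F43090)) (tt N3682 (iv D7017)) (tt N6042 D10185) (tt N5965 (iv F45129)) (tt N4765 F31993) (tt N4030 F31994) (tt N6043 D10186))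
theorem Q4767 : ∀ i, i < 4767 → P i := stepQ 4766 Q4766 (allL N4766 (tt N5833 F202348) (tt N5866 (iv F44744)) (tt N3794 F31995) (tt N3683 F31996) (tt N6043 (iv F45440)) (tt N6041 (iv F45434)) (tt N5966 (iv F45133)) (tt N4766 F31997) (tt N5852 F202349) (tt N3682 (iv D7018)))
theorem Q4768 : ∀ i, i < 4768 → P i := stepQ 4767 Q4767 (allL N4767 (tt N6023 (iv F45374)) (tt N3689 F31998) (tt N6032 (iv F45410)) (tt N3723 F31999) (tt N5967 (iv F45136)) (tt N3684 (iv D7019)) (tt N5610 (iv F43098)) (tt N6044 D10188) (tt N6045 D10189) (tt N6000 (iv F45267)))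
theorem Q4769 : ∀ i, i < 4769 → P i := stepQ 4768 Q4768 (allL N4768 (tt N6024 (iv F45377)) (tt N3690 F32000) (tt N6033 (iv F45411)) (tt N3724 F32001) (tt N3686 F32002) (tt N6044 (iv F45447)) (tt N4768 F32003) (tt N3684 (iv D7020)) (tt N6046 D10190) (tt N6001 (iv F45272)))
theorem Q4770 : ∀ i, i < 4770 → P i := stepQ 4769 Q4769 (allL N4769 (tt N6025 (iv F45382)) (tt N3691 F32004) (tt N6034 (iv F45414)) (tt N6047 D10191) (tt N3687 F32005) (tt N6045 (iv F45449)) (tt N3685 F32006) (tt N6046 (iv F45453)) (tt N3684 (iv D7021)) (tt N6048 D10192))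
theorem Q4771 : ∀ i, i < 4771 → P i := stepQ 4770 Q4770 (allL N4770 (tt N6026 (iv F45386)) (tt N3692 F32007) (tt N6049 D10193) (tt N3685 (iv D7022)) (tt N3798 F32008) (tt N5613 (iv F43108)) (tt N6047 (iv F45456)) (tt N4770 F32009) (tt N3726 F32010) (tt N6050 D10194))
theorem Q4772 : ∀ i, i < 4772 → P i := stepQ 4771 Q4771 (allL N4771 (tt N6027 (iv F45391)) (tt N3693 F32011) (tt N6036 (iv F45418)) (tt N6050 (iv F45465)) (tt N3688 F32012) (tt N5614 (iv F43113)) (tt N6048 (iv F45460)) (tt N4771 F32013) (tt N6004 (iv F45283)) (tt N3685 (iv D7023)))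
theorem Q4773 : ∀ i, i < 4773 → P i := stepQ 4772 Q4772 (allL N4772 (tt N6028 (iv F45395)) (tt N3694 F32014) (tt N6037 (iv F45421)) (tt N3800 F32015) (tt N6046 (iv F45451)) (tt N5972 (iv F45150)) (tt N4772 F32016) (tt N3687 F32017) (tt N3686 (iv D7024)) (tt N6051 D10195))
theorem Q4774 : ∀ i, i < 4774 → P i := stepQ 4773 Q4773 (allL N4773 (tt N6029 (iv F45400)) (tt N3695 F32018) (tt N6039 (iv F45427)) (tt N3801 F32019) (tt N6048 (iv F45459)) (tt N5973 (iv F45154)) (tt N3688 F32020) (tt N6051 (iv F45471)) (tt N6006 (iv F45291)) (tt N3687 (iv D7025)))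
theorem Q4775 : ∀ i, i < 4775 → P i := stepQ 4774 Q4774 (allL N4774 (tt N4774 F32021) (tt N6044 (iv F45445)) (tt N5874 (iv F44772)) (tt N3730 F32022) (tt N5974 (iv F45158)) (tt N3690 F32023) (tt N6052 D10196) (tt N3689 (iv D7026)) (tt N6053 D10197) (tt N6007 (iv F45295)))
theorem Q4776 : ∀ i, i < 4776 → P i := stepQ 4775 Q4775 (allL N4775 (tt N4775 F32024) (tt N6045 (iv F45448)) (tt N5875 (iv F44776)) (tt N6054 D10198) (tt N5975 (iv F45161)) (tt N3691 F32025) (tt N5618 (iv F43127)) (tt N6053 (iv F45477)) (tt N3689 (iv D7027)) (tt N6055 D10199))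
theorem Q4777 : ∀ i, i < 4777 → P i := stepQ 4776 Q4776 (allL N4776 (tt N4776 F32026) (tt N6046 (iv F45450)) (tt N5876 (iv F44779)) (tt N6056 D10200) (tt N3694 F32027) (tt N6053 (iv F45476)) (tt N4776 F32028) (tt N3691 F32029) (tt N3690 (iv D7028)) (tt N6057 D10201))
theorem Q4778 : ∀ i, i < 4778 → P i := stepQ 4777 Q4777 (allL N4777 (tt N4777 F32030) (tt N6047 (iv F45454)) (tt N6058 D10202) (tt N3691 (iv D7029)) (tt N3805 F32031) (tt N6054 (iv F45479)) (tt N3692 F32032) (tt N6056 (iv F45486)) (tt N3733 F32033) (tt N6059 D10203))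
theorem Q4779 : ∀ i, i < 4779 → P i := stepQ 4778 Q4778 (allL N4778 (tt N4778 F32034) (tt N6048 (iv F45458)) (tt N5878 (iv F44788)) (tt N6059 (iv F45497)) (tt N3695 F32035) (tt N6055 (iv F45482)) (tt N3693 F32036) (tt N6057 (iv F45491)) (tt N6011 (iv F45309)) (tt N3691 (iv D7030)))
theorem Q4780 : ∀ i, i < 4780 → P i := stepQ 4779 Q4779 (allL N4779 (tt N4779 F32037) (tt N6060 D10204) (tt N3692 (iv D7031)) (tt N5879 (iv F44792)) (tt N3807 F32038) (tt N5622 (iv F43141)) (tt N6058 (iv F45494)) (tt N4779 F32039) (tt N3735 F32040) (tt N6061 D10205))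
theorem Q4781 : ∀ i, i < 4781 → P i := stepQ 4780 Q4780 (allL N4780 (tt N4780 F32041) (tt N6050 (iv F45464)) (tt N6061 (iv F45504)) (tt N3693 F32042) (tt N3808 F32043) (tt N5623 (iv F43147)) (tt N6059 (iv F45499)) (tt N4780 F32044) (tt N6062 D10206) (tt N3692 (iv D7032)))
theorem Q4782 : ∀ i, i < 4782 → P i := stepQ 4781 Q4781 (allL N4781 (tt N4781 F32045) (tt N6051 (iv F45468)) (tt N5881 (iv F44801)) (tt N3809 F32046) (tt N6057 (iv F45489)) (tt N5981 (iv F45181)) (tt N4781 F32047) (tt N3695 F32048) (tt N6014 (iv F45322)) (tt N3694 (iv D7033)))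
theorem Q4783 : ∀ i, i < 4783 → P i := stepQ 4782 Q4782 (allL N4782 (tt N3701 F32083) (tt N4782 F32084) (tt N5643 (iv F203582)) (tt N5987 (iv F45213)) (tt N3697 F32085) (tt N6063 D10221) (tt N3696 (iv D7041)) (tt N6064 D10222) (tt N5639 (iv F203584)) (tt N3714 F32086))
theorem Q4784 : ∀ i, i < 4784 → P i := stepQ 4783 Q4783 (allL N4783 (tt N3703 F32091) (tt N4783 F32092) (tt N5645 (iv F203557)) (tt N3698 F32093) (tt N6064 (iv F45587)) (tt N4783 F32094) (tt N4783 F32095) (tt N3697 (iv D7043)) (tt N5640 (iv F203562)) (tt N3716 F32096))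
theorem Q4785 : ∀ i, i < 4785 → P i := stepQ 4784 Q4784 (allL N4784 (tt N5644 (iv F202930)) (tt N4784 F32108) (tt N5992 (iv F45235)) (tt N3699 (iv D7046)) (tt N4043 F32109) (tt N5638 (iv F43418)) (tt N6065 D10228) (tt N4784 F32110) (tt N6066 D10229) (tt N3718 F32111))
theorem Q4786 : ∀ i, i < 4786 → P i := stepQ 4785 Q4785 (allL N4785 (tt N5643 (iv F203581)) (tt N4785 F32112) (tt N3701 F32113) (tt N6065 (iv F45616)) (tt N3700 F32114) (tt N6067 D10230) (tt N3699 (iv D7047)) (tt N6068 D10231) (tt N5636 (iv F203775)) (tt N3719 F32115))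
theorem Q4787 : ∀ i, i < 4787 → P i := stepQ 4786 Q4786 (allL N4786 (tt N5645 (iv F203556)) (tt N4786 F32120) (tt N3703 F32121) (tt N4046 F32122) (tt N6068 (iv F45628)) (tt N4786 F32123) (tt N4786 F32124) (tt N3700 (iv D7049)) (tt N5637 (iv F203772)) (tt N3721 F32125))
theorem Q4788 : ∀ i, i < 4788 → P i := stepQ 4787 Q4787 (allL N4787 (tt N6063 (iv F45581)) (tt N3705 F32151) (tt N6067 (iv F45623)) (tt N6000 (iv F45266)) (tt N4787 F32152) (tt N3701 (iv D7055)) (tt N5641 (iv F43460)) (tt N6069 D10242) (tt N6070 D10243) (tt N3723 F32153))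
theorem Q4789 : ∀ i, i < 4789 → P i := stepQ 4788 Q4788 (allL N4788 (tt N6064 (iv F45585)) (tt N3706 F32154) (tt N6068 (iv F45627)) (tt N6001 (iv F45269)) (tt N3703 F32155) (tt N6069 (iv F45679)) (tt N4788 F32156) (tt N3701 (iv D7056)) (tt N6071 D10244) (tt N3724 F32157))
theorem Q4790 : ∀ i, i < 4790 → P i := stepQ 4789 Q4789 (allL N4789 (tt N5639 (iv F203583)) (tt N3707 F32158) (tt N5636 (iv F203774)) (tt N6072 D10245) (tt N3704 F32159) (tt N6070 (iv F45683)) (tt N3702 F32160) (tt N6071 (iv F45687)) (tt N3701 (iv D7057)) (tt N5655 (iv F203778)))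
theorem Q4791 : ∀ i, i < 4791 → P i := stepQ 4790 Q4790 (allL N4790 (tt N5638 F203364) (tt N3708 F32161) (tt N6073 D10247) (tt N3702 (iv D7058)) (tt N4790 F32162) (tt N5644 (iv F43470)) (tt N6072 (iv F45690)) (tt N4790 F32163) (tt N6003 (iv F45279)) (tt N5654 (iv F203645)))
theorem Q4792 : ∀ i, i < 4792 → P i := stepQ 4791 Q4791 (allL N4791 (tt N5640 (iv F203561)) (tt N3710 F32168) (tt N5637 (iv F203771)) (tt N4791 F32169) (tt N6071 (iv F45685)) (tt N4791 F32170) (tt N4791 F32171) (tt N3704 F32172) (tt N3703 (iv D7060)) (tt N5656 (iv F203781)))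
theorem Q4793 : ∀ i, i < 4793 → P i := stepQ 4792 Q4792 (allL N4792 (tt N4792 F32178) (tt N6069 (iv F45677)) (tt N4792 F32179) (tt N6007 (iv F45293)) (tt N4792 F32180) (tt N3706 F32181) (tt N6074 D10250) (tt N3705 (iv D7062)) (tt N6075 D10251) (tt N3730 F32182))
theorem Q4794 : ∀ i, i < 4794 → P i := stepQ 4793 Q4793 (allL N4793 (tt N4793 F32183) (tt N6070 (iv F45681)) (tt N4793 F32184) (tt N6076 D10252) (tt N4793 F32185) (tt N3707 F32186) (tt N5647 (iv F43494)) (tt N6075 (iv F45716)) (tt N3705 (iv D7063)) (tt N6077 D10253))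
theorem Q4795 : ∀ i, i < 4795 → P i := stepQ 4794 Q4794 (allL N4794 (tt N4794 F32187) (tt N6071 (iv F45684)) (tt N4794 F32188) (tt N6078 D10254) (tt N3710 F32189) (tt N6075 (iv F45715)) (tt N4794 F32190) (tt N3707 F32191) (tt N3706 (iv D7064)) (tt N6079 D10255))
theorem Q4796 : ∀ i, i < 4796 → P i := stepQ 4795 Q4795 (allL N4795 (tt N4795 F32192) (tt N6072 (iv F45688)) (tt N6080 D10256) (tt N3707 (iv D7065)) (tt N4795 F32193) (tt N6076 (iv F45718)) (tt N3708 F32194) (tt N6078 (iv F45727)) (tt N6010 (iv F45305)) (tt N6081 D10257))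
theorem Q4797 : ∀ i, i < 4797 → P i := stepQ 4796 Q4796 (allL N4796 (tt N4796 F32195) (tt N5655 (iv F203777)) (tt N4796 F32196) (tt N6081 (iv F45739)) (tt N3711 F32197) (tt N6077 (iv F45722)) (tt N3709 F32198) (tt N6079 (iv F45732)) (tt N3734 F32199) (tt N3707 (iv D7066)))
theorem Q4798 : ∀ i, i < 4798 → P i := stepQ 4797 Q4797 (allL N4797 (tt N4797 F32200) (tt N6082 D10258) (tt N3708 (iv D7067)) (tt N4797 F32201) (tt N4797 F32202) (tt N5651 (iv F43509)) (tt N6080 (iv F45737)) (tt N4797 F32203) (tt N6012 (iv F45313)) (tt N6083 D10259))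
theorem Q4799 : ∀ i, i < 4799 → P i := stepQ 4798 Q4798 (allL N4798 (tt N4798 F32204) (tt N5654 (iv F203644)) (tt N6083 (iv F45746)) (tt N3709 F32205) (tt N4798 F32206) (tt N5652 (iv F43513)) (tt N6081 (iv F45741)) (tt N4798 F32207) (tt N6084 D10260) (tt N3708 (iv D7068)))
theorem Q4800 : ∀ i, i < 4800 → P i := stepQ 4799 Q4799 (allL N4799 (tt N4799 F32208) (tt N5656 (iv F203780)) (tt N4799 F32209) (tt N4799 F32210) (tt N6079 (iv F45730)) (tt N4799 F32211) (tt N4799 F32212) (tt N3711 F32213) (tt N3737 F32214) (tt N3710 (iv D7069)))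
theorem Q4801 : ∀ i, i < 4801 → P i := stepQ 4800 Q4800 (allL N4800 (tt N3718 F32236) (tt N5652 (iv F203651)) (tt N6017 (iv F45340)) (tt N3712 (iv D7074)) (tt N4060 F32237) (tt N5654 (iv F43550)) (tt N6085 D10267) (tt N4800 F32238) (tt N6086 D10268) (tt N5644 F203238))
theorem Q4802 : ∀ i, i < 4802 → P i := stepQ 4801 Q4801 (allL N4801 (tt N3719 F32239) (tt N5650 F203890) (tt N3714 F32240) (tt N6085 (iv F45786)) (tt N3713 F32241) (tt N6087 D10269) (tt N3712 (iv D7075)) (tt N6088 D10270) (tt N5673 (iv F204098)) (tt N5643 F203891))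
theorem Q4803 : ∀ i, i < 4803 → P i := stepQ 4802 Q4802 (allL N4802 (tt N3721 F32246) (tt N5653 (iv F203550)) (tt N3716 F32247) (tt N4062 F32248) (tt N6088 (iv F45796)) (tt N4802 F32249) (tt N4802 F32250) (tt N3713 (iv D7077)) (tt N5676 (iv F203555)) (tt N5645 (iv F203559)))
theorem Q4804 : ∀ i, i < 4804 → P i := stepQ 4803 Q4803 (allL N4803 (tt N3723 F32261) (tt N4803 F32262) (tt N6087 (iv F45792)) (tt N6023 (iv F45376)) (tt N4803 F32263) (tt N3714 (iv D7080)) (tt N5657 (iv F43587)) (tt N6089 D10276) (tt N6090 D10277) (tt N6063 (iv F45584)))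
theorem Q4805 : ∀ i, i < 4805 → P i := stepQ 4804 Q4804 (allL N4804 (tt N3724 F32264) (tt N4804 F32265) (tt N6088 (iv F45795)) (tt N6024 (iv F45379)) (tt N3716 F32266) (tt N6089 (iv F45823)) (tt N4804 F32267) (tt N3714 (iv D7081)) (tt N6091 D10278) (tt N6064 (iv F45589)))
theorem Q4806 : ∀ i, i < 4806 → P i := stepQ 4805 Q4805 (allL N4805 (tt N3725 F32268) (tt N4805 F32269) (tt N5673 (iv F204097)) (tt N6092 D10279) (tt N3717 F32270) (tt N6090 (iv F45827)) (tt N3715 F32271) (tt N6091 (iv F45832)) (tt N3714 (iv D7082)) (tt N5666 (iv F204100)))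
theorem Q4807 : ∀ i, i < 4807 → P i := stepQ 4806 Q4806 (allL N4806 (tt N3726 F32272) (tt N4806 F32273) (tt N6093 D10281) (tt N3715 (iv D7083)) (tt N3813 F32274) (tt N5660 (iv F43599)) (tt N6092 (iv F45836)) (tt N4806 F32275) (tt N6026 (iv F45390)) (tt N5667 (iv F204183)))
theorem Q4808 : ∀ i, i < 4808 → P i := stepQ 4807 Q4807 (allL N4807 (tt N3728 F32280) (tt N4807 F32281) (tt N5676 (iv F203554)) (tt N3815 F32282) (tt N6091 (iv F45830)) (tt N4807 F32283) (tt N4807 F32284) (tt N3717 F32285) (tt N3716 (iv D7085)) (tt N5668 (iv F203560)))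
theorem Q4809 : ∀ i, i < 4809 → P i := stepQ 4808 Q4808 (allL N4808 (tt N6085 (iv F45785)) (tt N4808 F32291) (tt N6030 (iv F45404)) (tt N3719 F32292) (tt N4065 F32293) (tt N6094 D10284) (tt N3718 (iv D7087)) (tt N6095 D10285) (tt N6096 D10286) (tt N6065 (iv F45618)))
theorem Q4810 : ∀ i, i < 4810 → P i := stepQ 4809 Q4809 (allL N4809 (tt N6086 (iv F45788)) (tt N4809 F32294) (tt N6031 (iv F45407)) (tt N6097 D10287) (tt N4066 F32295) (tt N5663 (iv F43622)) (tt N6096 (iv F45863)) (tt N4809 F32296) (tt N3718 (iv D7088)) (tt N6098 D10288))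
theorem Q4811 : ∀ i, i < 4811 → P i := stepQ 4810 Q4810 (allL N4810 (tt N6087 (iv F45791)) (tt N4810 F32297) (tt N3723 F32298) (tt N6094 (iv F45856)) (tt N4810 F32299) (tt N3719 (iv D7089)) (tt N5664 (iv F43627)) (tt N6099 D10289) (tt N6100 D10290) (tt N6067 (iv F45625)))
theorem Q4812 : ∀ i, i < 4812 → P i := stepQ 4811 Q4811 (allL N4811 (tt N6088 (iv F45794)) (tt N4811 F32300) (tt N3724 F32301) (tt N6095 (iv F45858)) (tt N3721 F32302) (tt N6099 (iv F45874)) (tt N4811 F32303) (tt N3719 (iv D7090)) (tt N6101 D10291) (tt N6068 (iv F45630)))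
theorem Q4813 : ∀ i, i < 4813 → P i := stepQ 4812 Q4812 (allL N4812 (tt N5673 (iv F204096)) (tt N4812 F32304) (tt N3725 F32305) (tt N6102 D10292) (tt N3722 F32306) (tt N6100 (iv F45878)) (tt N3720 F32307) (tt N6101 (iv F45883)) (tt N3719 (iv D7091)) (tt N5659 (iv F204178)))
theorem Q4814 : ∀ i, i < 4814 → P i := stepQ 4813 Q4813 (allL N4813 (tt N5675 (iv F204181)) (tt N4813 F32308) (tt N6103 D10294) (tt N3720 (iv D7092)) (tt N4813 F32309) (tt N5667 (iv F43637)) (tt N6102 (iv F45886)) (tt N4813 F32310) (tt N6097 (iv F45867)) (tt N5660 (iv F204179)))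
theorem Q4815 : ∀ i, i < 4815 → P i := stepQ 4814 Q4814 (allL N4814 (tt N5676 (iv F203553)) (tt N4814 F32315) (tt N3728 F32316) (tt N4814 F32317) (tt N6101 (iv F45881)) (tt N4814 F32318) (tt N4814 F32319) (tt N3722 F32320) (tt N3721 (iv D7094)) (tt N5661 (iv F203872)))
theorem Q4816 : ∀ i, i < 4816 → P i := stepQ 4815 Q4815 (allL N4815 (tt N6089 (iv F45820)) (tt N3730 F32326) (tt N6099 (iv F45872)) (tt N6044 (iv F45446)) (tt N4815 F32327) (tt N3724 F32328) (tt N6104 D10297) (tt N3723 (iv D7096)) (tt N6105 D10298) (tt N6069 (iv F45680)))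
theorem Q4817 : ∀ i, i < 4817 → P i := stepQ 4816 Q4816 (allL N4816 (tt N6090 (iv F45824)) (tt N3731 F32329) (tt N6100 (iv F45876)) (tt N6106 D10299) (tt N4816 F32330) (tt N3725 F32331) (tt N5670 (iv F43680)) (tt N6105 (iv F45910)) (tt N3723 (iv D7097)) (tt N6107 D10300))
theorem Q4818 : ∀ i, i < 4818 → P i := stepQ 4817 Q4817 (allL N4817 (tt N6091 (iv F45828)) (tt N3732 F32332) (tt N6101 (iv F45880)) (tt N6108 D10301) (tt N3728 F32333) (tt N6105 (iv F45909)) (tt N4817 F32334) (tt N3725 F32335) (tt N3724 (iv D7098)) (tt N6109 D10302))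
theorem Q4819 : ∀ i, i < 4819 → P i := stepQ 4818 Q4818 (allL N4818 (tt N6092 (iv F45833)) (tt N3733 F32336) (tt N6110 D10303) (tt N3725 (iv D7099)) (tt N3820 F32337) (tt N6106 (iv F45912)) (tt N3726 F32338) (tt N6108 (iv F45919)) (tt N6047 (iv F45457)) (tt N6111 D10304))
theorem Q4820 : ∀ i, i < 4820 → P i := stepQ 4819 Q4819 (allL N4819 (tt N5666 (iv F204099)) (tt N3734 F32339) (tt N5659 (iv F204177)) (tt N6111 (iv F45927)) (tt N3729 F32340) (tt N6107 (iv F45915)) (tt N3727 F32341) (tt N6109 (iv F45923)) (tt N5655 F203978) (tt N3725 (iv D7100)))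
theorem Q4821 : ∀ i, i < 4821 → P i := stepQ 4820 Q4820 (allL N4820 (tt N6093 (iv F45841)) (tt N6112 D10305) (tt N3726 (iv D7101)) (tt N6103 (iv F45891)) (tt N3822 F32342) (tt N5674 (iv F43692)) (tt N6110 (iv F45925)) (tt N4820 F32343) (tt N6049 (iv F45463)) (tt N6113 D10306))
theorem Q4822 : ∀ i, i < 4822 → P i := stepQ 4821 Q4821 (allL N4821 (tt N5667 (iv F204182)) (tt N3736 F32344) (tt N6113 (iv F45933)) (tt N3727 F32345) (tt N3823 F32346) (tt N5675 (iv F43697)) (tt N6111 (iv F45929)) (tt N4821 F32347) (tt N6114 D10307) (tt N3726 (iv D7102)))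
theorem Q4823 : ∀ i, i < 4823 → P i := stepQ 4822 Q4822 (allL N4822 (tt N5668 F203898) (tt N3737 F32348) (tt N5661 F203899) (tt N3824 F32349) (tt N6109 (iv F45921)) (tt N4822 F32350) (tt N4822 F32351) (tt N3729 F32352) (tt N5656 F203900) (tt N3728 (iv D7103)))
theorem Q4824 : ∀ i, i < 4824 → P i := stepQ 4823 Q4823 (allL N4823 (tt N4823 F32353) (tt N6104 (iv F45904)) (tt N4823 F32354) (tt N6052 (iv F45473)) (tt N4823 F32355) (tt N4823 F32356) (tt N3730 (iv D7104)) (tt N5677 (iv F43708)) (tt N6115 D10308) (tt N6074 (iv F45711)))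
theorem Q4825 : ∀ i, i < 4825 → P i := stepQ 4824 Q4824 (allL N4824 (tt N4824 F32357) (tt N6105 (iv F45907)) (tt N4824 F32358) (tt N6116 D10309) (tt N4824 F32359) (tt N3732 F32360) (tt N6115 (iv F45943)) (tt N3731 F32361) (tt N3730 (iv D7105)) (tt N6117 D10310))
theorem Q4826 : ∀ i, i < 4826 → P i := stepQ 4825 Q4825 (allL N4825 (tt N4825 F32362) (tt N6106 (iv F45911)) (tt N6118 D10311) (tt N3731 (iv D7106)) (tt N6119 D10312) (tt N3733 F32363) (tt N5679 (iv F43716)) (tt N6116 (iv F45946)) (tt N6054 (iv F45480)) (tt N6120 D10313))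
theorem Q4827 : ∀ i, i < 4827 → P i := stepQ 4826 Q4826 (allL N4826 (tt N4826 F32364) (tt N6107 (iv F45913)) (tt N4826 F32365) (tt N6120 (iv F45959)) (tt N4826 F32366) (tt N3734 F32367) (tt N5680 (iv F43721)) (tt N6117 (iv F45951)) (tt N6077 (iv F45723)) (tt N3731 (iv D7107)))
theorem Q4828 : ∀ i, i < 4828 → P i := stepQ 4827 Q4827 (allL N4827 (tt N4827 F32368) (tt N6108 (iv F45916)) (tt N6121 D10314) (tt N3732 (iv D7108)) (tt N3829 F32369) (tt N6116 (iv F45945)) (tt N4827 F32370) (tt N3733 F32371) (tt N6056 (iv F45487)) (tt N6122 D10315))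
theorem Q4829 : ∀ i, i < 4829 → P i := stepQ 4828 Q4828 (allL N4828 (tt N4828 F32372) (tt N6109 (iv F45920)) (tt N4828 F32373) (tt N6122 (iv F45967)) (tt N3737 F32374) (tt N6117 (iv F45950)) (tt N4828 F32375) (tt N3734 F32376) (tt N6079 (iv F45733)) (tt N3732 (iv D7109)))
theorem Q4830 : ∀ i, i < 4830 → P i := stepQ 4829 Q4829 (allL N4829 (tt N4829 F32377) (tt N6123 D10316) (tt N3733 (iv D7110)) (tt N4829 F32378) (tt N3831 F32379) (tt N6118 (iv F45954)) (tt N3735 F32380) (tt N6121 (iv F45965)) (tt N6058 (iv F45495)) (tt N6124 D10317))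
theorem Q4831 : ∀ i, i < 4831 → P i := stepQ 4830 Q4830 (allL N4830 (tt N4830 F32381) (tt N6111 (iv F45926)) (tt N6124 (iv F45975)) (tt N3734 F32382) (tt N3832 F32383) (tt N6120 (iv F45960)) (tt N3736 F32384) (tt N6122 (iv F45970)) (tt N6125 D10318) (tt N3733 (iv D7111)))
theorem Q4832 : ∀ i, i < 4832 → P i := stepQ 4831 Q4831 (allL N4831 (tt N6126 D10319) (tt N3735 (iv D7112)) (tt N6112 (iv F45930)) (tt N4831 F32385) (tt N3833 F32386) (tt N5685 (iv F43741)) (tt N6123 (iv F45973)) (tt N4831 F32387) (tt N6060 (iv F45502)) (tt N6127 D10320))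
theorem Q4833 : ∀ i, i < 4833 → P i := stepQ 4832 Q4832 (allL N4832 (tt N4832 F32388) (tt N6127 (iv F45986)) (tt N3736 F32389) (tt N4832 F32390) (tt N3834 F32391) (tt N5686 (iv F43747)) (tt N6124 (iv F45978)) (tt N4832 F32392) (tt N6128 D10321) (tt N3735 (iv D7113)))
theorem Q4834 : ∀ i, i < 4834 → P i := stepQ 4833 Q4833 (allL N4833 (tt N4833 F32393) (tt N6114 (iv F45936)) (tt N6128 (iv F45991)) (tt N6084 (iv F45751)) (tt N3835 F32394) (tt N5687 (iv F43751)) (tt N6125 (iv F45981)) (tt N4833 F32395) (tt N3736 (iv D7114)) (tt N6062 (iv F45510)))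
theorem Q4835 : ∀ i, i < 4835 → P i := stepQ 4834 Q4834 (allL N4834 (tt N3742 F32403) (tt N5754 F201546) (tt N3739 F32404) (tt N4070 F32405) (tt N6129 D10324) (tt N3738 (iv D7116)) (tt N6130 D10325) (tt N3754 F32406) (tt N6131 D10326) (tt N4834 F32407))
theorem Q4836 : ∀ i, i < 4836 → P i := stepQ 4835 Q4835 (allL N4835 (tt N3743 F32408) (tt N5755 F201656) (tt N3740 F32409) (tt N5760 F201657) (tt N4835 F32410) (tt N6131 (iv F46018)) (tt N4835 F32411) (tt N3755 F32412) (tt N3738 (iv D7117)) (tt N6132 D10328))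
theorem Q4837 : ∀ i, i < 4837 → P i := stepQ 4836 Q4836 (allL N4836 (tt N3744 F32413) (tt N4836 F32414) (tt N6129 (iv F46007)) (tt N4836 F32415) (tt N3739 (iv D7118)) (tt N4836 F32416) (tt N6133 D10329) (tt N3756 F32417) (tt N6134 D10330) (tt N4836 F32418))
theorem Q4838 : ∀ i, i < 4838 → P i := stepQ 4837 Q4837 (allL N4837 (tt N3745 F32419) (tt N4837 F32420) (tt N6130 (iv F46012)) (tt N3741 F32421) (tt N6133 (iv F46033)) (tt N4837 F32422) (tt N3739 (iv D7119)) (tt N6135 D10331) (tt N6136 D10332) (tt N4837 F32423))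
theorem Q4839 : ∀ i, i < 4839 → P i := stepQ 4838 Q4838 (allL N4838 (tt N3746 F32424) (tt N4838 F32425) (tt N6131 (iv F46017)) (tt N5903 (iv F44901)) (tt N6134 (iv F46037)) (tt N3740 F32426) (tt N6136 (iv F46049)) (tt N3758 F32427) (tt N3739 (iv D7120)) (tt N6137 D10333))
theorem Q4840 : ∀ i, i < 4840 → P i := stepQ 4839 Q4839 (allL N4839 (tt N3747 F32428) (tt N4839 F32429) (tt N6132 (iv F46025)) (tt N5904 (iv F44906)) (tt N4839 F32430) (tt N6137 (iv F46052)) (tt N4839 F32431) (tt N3759 F32432) (tt N4839 F32433) (tt N3740 (iv D7121)))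
theorem Q4841 : ∀ i, i < 4841 → P i := stepQ 4840 Q4840 (allL N4840 (tt N3748 F32434) (tt N4840 F32435) (tt N4073 F32436) (tt N6135 (iv F46042)) (tt N4840 F32437) (tt N4840 F32438) (tt N3760 F32439) (tt N3741 (iv D7122)) (tt N5905 (iv F44915)) (tt N4840 F32440))
theorem Q4842 : ∀ i, i < 4842 → P i := stepQ 4841 Q4841 (allL N4841 (tt N6129 (iv F46006)) (tt N4841 F32441) (tt N3744 F32442) (tt N6138 D10334) (tt N3742 (iv D7123)) (tt N4841 F32443) (tt N6139 D10335) (tt N3761 F32444) (tt N6140 D10336) (tt N4841 F32445))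
theorem Q4843 : ∀ i, i < 4843 → P i := stepQ 4842 Q4842 (allL N4842 (tt N6130 (iv F46011)) (tt N4842 F32446) (tt N3745 F32447) (tt N4075 F32448) (tt N6139 (iv F46063)) (tt N4842 F32449) (tt N3742 (iv D7124)) (tt N6141 D10337) (tt N6142 D10338) (tt N4842 F32450))
theorem Q4844 : ∀ i, i < 4844 → P i := stepQ 4843 Q4843 (allL N4843 (tt N6131 (iv F46016)) (tt N4843 F32451) (tt N3746 F32452) (tt N6143 D10339) (tt N6140 (iv F46067)) (tt N3743 F32453) (tt N6142 (iv F46079)) (tt N3763 F32454) (tt N3742 (iv D7125)) (tt N6144 D10340))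
theorem Q4845 : ∀ i, i < 4845 → P i := stepQ 4844 Q4844 (allL N4844 (tt N5760 F201522) (tt N4844 F32455) (tt N5909 (iv F44924)) (tt N3743 (iv D7126)) (tt N6145 D10341) (tt N6143 (iv F46081)) (tt N4844 F32456) (tt N3764 F32457) (tt N4077 F32458) (tt N6146 D10342))
theorem Q4846 : ∀ i, i < 4846 → P i := stepQ 4845 Q4845 (allL N4845 (tt N6132 (iv F46024)) (tt N4845 F32459) (tt N3747 F32460) (tt N6146 (iv F46095)) (tt N4845 F32461) (tt N6144 (iv F46086)) (tt N4845 F32462) (tt N3765 F32463) (tt N4845 F32464) (tt N3743 (iv D7127)))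
theorem Q4847 : ∀ i, i < 4847 → P i := stepQ 4846 Q4846 (allL N4846 (tt N6133 (iv F46030)) (tt N3749 F32465) (tt N6139 (iv F46062)) (tt N4846 F32466) (tt N3745 F32467) (tt N6147 D10343) (tt N3744 (iv D7128)) (tt N6148 D10344) (tt N6149 D10345) (tt N4846 F32468))
theorem Q4848 : ∀ i, i < 4848 → P i := stepQ 4847 Q4847 (allL N4847 (tt N6134 (iv F46035)) (tt N3750 F32469) (tt N6140 (iv F46066)) (tt N6150 D10346) (tt N3746 F32470) (tt N4847 F32471) (tt N6149 (iv F46110)) (tt N3767 F32472) (tt N3744 (iv D7129)) (tt N6151 D10347))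
theorem Q4849 : ∀ i, i < 4849 → P i := stepQ 4848 Q4848 (allL N4848 (tt N6135 (iv F46040)) (tt N3751 F32473) (tt N6141 (iv F46071)) (tt N3748 F32474) (tt N6148 (iv F46105)) (tt N4848 F32475) (tt N3768 F32476) (tt N3745 (iv D7130)) (tt N6152 D10348) (tt N4848 F32477))
theorem Q4850 : ∀ i, i < 4850 → P i := stepQ 4849 Q4849 (allL N4849 (tt N6136 (iv F46046)) (tt N3752 F32478) (tt N6142 (iv F46077)) (tt N5914 (iv F44942)) (tt N6149 (iv F46109)) (tt N4849 F32479) (tt N3746 F32480) (tt N6152 (iv F46123)) (tt N3745 (iv D7131)) (tt N6153 D10349))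
theorem Q4851 : ∀ i, i < 4851 → P i := stepQ 4850 Q4850 (allL N4850 (tt N6137 (iv F46050)) (tt N3753 F32481) (tt N6144 (iv F46085)) (tt N5915 (iv F44946)) (tt N6151 (iv F46116)) (tt N3747 F32482) (tt N6153 (iv F46126)) (tt N3770 F32483) (tt N4850 F32484) (tt N3746 (iv D7132)))
theorem Q4852 : ∀ i, i < 4852 → P i := stepQ 4851 Q4851 (allL N4851 (tt N4851 F32485) (tt N6147 (iv F46098)) (tt N4851 F32486) (tt N4851 F32487) (tt N4851 F32488) (tt N3749 (iv D7133)) (tt N4851 F32489) (tt N6154 D10350) (tt N6155 D10351) (tt N4851 F32490))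
theorem Q4853 : ∀ i, i < 4853 → P i := stepQ 4852 Q4852 (allL N4852 (tt N4852 F32491) (tt N6148 (iv F46103)) (tt N4852 F32492) (tt N4852 F32493) (tt N3751 F32494) (tt N6154 (iv F46132)) (tt N3772 F32495) (tt N3749 (iv D7134)) (tt N6156 D10352) (tt N4852 F32496))
theorem Q4854 : ∀ i, i < 4854 → P i := stepQ 4853 Q4853 (allL N4853 (tt N4853 F32497) (tt N6149 (iv F46108)) (tt N4853 F32498) (tt N6157 D10353) (tt N3752 F32499) (tt N6155 (iv F46137)) (tt N3750 F32500) (tt N6156 (iv F46143)) (tt N3749 (iv D7135)) (tt N6158 D10354))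
theorem Q4855 : ∀ i, i < 4855 → P i := stepQ 4854 Q4854 (allL N4854 (tt N4854 F32501) (tt N6150 (iv F46111)) (tt N6159 D10355) (tt N3750 (iv D7136)) (tt N5919 (iv F44960)) (tt N4854 F32502) (tt N6157 (iv F46145)) (tt N3774 F32503) (tt N4854 F32504) (tt N6160 D10356))
theorem Q4856 : ∀ i, i < 4856 → P i := stepQ 4855 Q4855 (allL N4855 (tt N4855 F32505) (tt N6151 (iv F46115)) (tt N4855 F32506) (tt N6160 (iv F46158)) (tt N3753 F32507) (tt N4855 F32508) (tt N6158 (iv F46150)) (tt N3775 F32509) (tt N4855 F32510) (tt N3750 (iv D7137)))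
theorem Q4857 : ∀ i, i < 4857 → P i := stepQ 4856 Q4856 (allL N4856 (tt N4856 F32511) (tt N6152 (iv F46120)) (tt N4856 F32512) (tt N5921 (iv F44967)) (tt N6156 (iv F46141)) (tt N4856 F32513) (tt N3776 F32514) (tt N3752 F32515) (tt N3751 (iv D7138)) (tt N6161 D10357))
theorem Q4858 : ∀ i, i < 4858 → P i := stepQ 4857 Q4857 (allL N4857 (tt N4857 F32516) (tt N6153 (iv F46124)) (tt N4857 F32517) (tt N5922 (iv F44972)) (tt N6158 (iv F46149)) (tt N4857 F32518) (tt N3753 F32519) (tt N6161 (iv F46165)) (tt N4857 F32520) (tt N3752 (iv D7139)))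
theorem Q4859 : ∀ i, i < 4859 → P i := stepQ 4858 Q4858 (allL N4858 (tt N3761 F32531) (tt N5783 F202337) (tt N3756 F32532) (tt N6162 D10363) (tt N3754 (iv D7142)) (tt N4858 F32533) (tt N6163 D10364) (tt N6129 (iv F46009)) (tt N6164 D10365) (tt N4858 F32534))
theorem Q4860 : ∀ i, i < 4860 → P i := stepQ 4859 Q4859 (allL N4859 (tt N3762 F32535) (tt N5784 F202271) (tt N3757 F32536) (tt N4085 F32537) (tt N6163 (iv F46199)) (tt N3779 F32538) (tt N3754 (iv D7143)) (tt N6165 D10366) (tt N6166 D10367) (tt N4859 F32539))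
theorem Q4861 : ∀ i, i < 4861 → P i := stepQ 4860 Q4860 (allL N4860 (tt N3763 F32540) (tt N5785 F202312) (tt N3758 F32541) (tt N5792 F202313) (tt N6164 (iv F46203)) (tt N3755 F32542) (tt N6166 (iv F46213)) (tt N6131 (iv F46019)) (tt N3754 (iv D7144)) (tt N6167 D10369))
theorem Q4862 : ∀ i, i < 4862 → P i := stepQ 4861 Q4861 (allL N4861 (tt N3765 F32546) (tt N5786 F202372) (tt N3759 F32547) (tt N5793 F202373) (tt N4861 F32548) (tt N6167 (iv F46219)) (tt N3781 F32549) (tt N6132 (iv F46028)) (tt N4861 F32550) (tt N3755 (iv D7146)))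
theorem Q4863 : ∀ i, i < 4863 → P i := stepQ 4862 Q4862 (allL N4862 (tt N3766 F32551) (tt N4862 F32552) (tt N6163 (iv F46198)) (tt N4862 F32553) (tt N3757 F32554) (tt N6168 D10372) (tt N3756 (iv D7147)) (tt N6169 D10373) (tt N6170 D10374) (tt N4862 F32555))
theorem Q4864 : ∀ i, i < 4864 → P i := stepQ 4863 Q4863 (allL N4863 (tt N3767 F32556) (tt N4863 F32557) (tt N6164 (iv F46202)) (tt N6171 D10375) (tt N3758 F32558) (tt N4863 F32559) (tt N6170 (iv F46242)) (tt N6134 (iv F46039)) (tt N3756 (iv D7148)) (tt N6172 D10376))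
theorem Q4865 : ∀ i, i < 4865 → P i := stepQ 4864 Q4864 (allL N4864 (tt N3768 F32560) (tt N4864 F32561) (tt N6165 (iv F46206)) (tt N3760 F32562) (tt N6169 (iv F46237)) (tt N3784 F32563) (tt N6135 (iv F46044)) (tt N3757 (iv D7149)) (tt N6173 D10377) (tt N4864 F32564))
theorem Q4866 : ∀ i, i < 4866 → P i := stepQ 4865 Q4865 (allL N4865 (tt N3769 F32565) (tt N4865 F32566) (tt N6166 (iv F46211)) (tt N5956 (iv F45104)) (tt N6170 (iv F46241)) (tt N3785 F32567) (tt N3758 F32568) (tt N6173 (iv F46255)) (tt N3757 (iv D7150)) (tt N6174 D10378))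
theorem Q4867 : ∀ i, i < 4867 → P i := stepQ 4866 Q4866 (allL N4866 (tt N3770 F32569) (tt N4866 F32570) (tt N6167 (iv F46218)) (tt N5957 (iv F45109)) (tt N6172 (iv F46249)) (tt N3759 F32571) (tt N6174 (iv F46259)) (tt N6137 (iv F46053)) (tt N4866 F32572) (tt N3758 (iv D7151)))
theorem Q4868 : ∀ i, i < 4868 → P i := stepQ 4867 Q4867 (allL N4867 (tt N6162 (iv F46192)) (tt N4867 F32573) (tt N4867 F32574) (tt N3761 (iv D7152)) (tt N4088 F32575) (tt N4867 F32576) (tt N6175 D10379) (tt N6138 (iv F46059)) (tt N6176 D10380) (tt N4867 F32577))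
theorem Q4869 : ∀ i, i < 4869 → P i := stepQ 4868 Q4868 (allL N4868 (tt N6163 (iv F46197)) (tt N4868 F32578) (tt N3766 F32579) (tt N6175 (iv F46263)) (tt N3762 F32580) (tt N6177 D10381) (tt N3761 (iv D7153)) (tt N6178 D10382) (tt N6179 D10383) (tt N4868 F32581))
theorem Q4870 : ∀ i, i < 4870 → P i := stepQ 4869 Q4869 (allL N4869 (tt N6164 (iv F46201)) (tt N4869 F32582) (tt N3767 F32583) (tt N6180 D10384) (tt N3763 F32584) (tt N4869 F32585) (tt N6179 (iv F46282)) (tt N6140 (iv F46069)) (tt N3761 (iv D7154)) (tt N6181 D10385))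
theorem Q4871 : ∀ i, i < 4871 → P i := stepQ 4870 Q4870 (allL N4870 (tt N6165 (iv F46205)) (tt N4870 F32586) (tt N3768 F32587) (tt N4091 F32588) (tt N6178 (iv F46277)) (tt N3789 F32589) (tt N6141 (iv F46074)) (tt N3762 (iv D7155)) (tt N6182 D10386) (tt N4870 F32590))
theorem Q4872 : ∀ i, i < 4872 → P i := stepQ 4871 Q4871 (allL N4871 (tt N6166 (iv F46210)) (tt N4871 F32591) (tt N3769 F32592) (tt N6183 D10387) (tt N6179 (iv F46281)) (tt N3790 F32593) (tt N3763 F32594) (tt N6182 (iv F46293)) (tt N3762 (iv D7156)) (tt N6184 D10388))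
theorem Q4873 : ∀ i, i < 4873 → P i := stepQ 4872 Q4872 (allL N4872 (tt N5792 F202248) (tt N4872 F32595) (tt N5963 (iv F45123)) (tt N3763 (iv D7157)) (tt N6185 D10389) (tt N3764 F32596) (tt N6183 (iv F46296)) (tt N6143 (iv F46082)) (tt N4093 F32597) (tt N6186 D10390))
theorem Q4874 : ∀ i, i < 4874 → P i := stepQ 4873 Q4873 (allL N4873 (tt N6167 (iv F46217)) (tt N4873 F32598) (tt N3770 F32599) (tt N6186 (iv F46306)) (tt N6181 (iv F46287)) (tt N3765 F32600) (tt N6184 (iv F46301)) (tt N6144 (iv F46087)) (tt N4873 F32601) (tt N3763 (iv D7158)))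
theorem Q4875 : ∀ i, i < 4875 → P i := stepQ 4874 Q4874 (allL N4874 (tt N5402 F202350) (tt N4874 F32602) (tt N5965 (iv F45128)) (tt N4874 F32603) (tt N3764 (iv D7159)) (tt N6187 D10391) (tt N3793 F32604) (tt N6145 (iv F46092)) (tt N4094 F32605) (tt N6188 D10392))
theorem Q4876 : ∀ i, i < 4876 → P i := stepQ 4875 Q4875 (allL N4875 (tt N5793 F202351) (tt N4875 F32606) (tt N5966 (iv F45131)) (tt N3765 F32607) (tt N6188 (iv F46313)) (tt N6186 (iv F46307)) (tt N3794 F32608) (tt N6146 (iv F46097)) (tt N5806 F202352) (tt N3764 (iv D7160)))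
theorem Q4877 : ∀ i, i < 4877 → P i := stepQ 4876 Q4876 (allL N4876 (tt N6168 (iv F46228)) (tt N3771 F32609) (tt N6177 (iv F46271)) (tt N4876 F32610) (tt N3795 F32611) (tt N3766 (iv D7161)) (tt N4876 F32612) (tt N6189 D10394) (tt N6190 D10395) (tt N4876 F32613))
theorem Q4878 : ∀ i, i < 4878 → P i := stepQ 4877 Q4877 (allL N4877 (tt N6169 (iv F46234)) (tt N3772 F32614) (tt N6178 (iv F46276)) (tt N4877 F32615) (tt N3768 F32616) (tt N6189 (iv F46322)) (tt N6148 (iv F46106)) (tt N3766 (iv D7162)) (tt N6191 D10396) (tt N4877 F32617))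
theorem Q4879 : ∀ i, i < 4879 → P i := stepQ 4878 Q4878 (allL N4878 (tt N6170 (iv F46239)) (tt N3773 F32618) (tt N6179 (iv F46280)) (tt N6192 D10397) (tt N3769 F32619) (tt N6190 (iv F46326)) (tt N3767 F32620) (tt N6191 (iv F46330)) (tt N3766 (iv D7163)) (tt N6193 D10398))
theorem Q4880 : ∀ i, i < 4880 → P i := stepQ 4879 Q4879 (allL N4879 (tt N6171 (iv F46243)) (tt N3774 F32621) (tt N6194 D10399) (tt N3767 (iv D7164)) (tt N5970 (iv F45144)) (tt N4879 F32622) (tt N6192 (iv F46332)) (tt N6150 (iv F46113)) (tt N4879 F32623) (tt N6195 D10400))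
theorem Q4881 : ∀ i, i < 4881 → P i := stepQ 4880 Q4880 (allL N4880 (tt N6172 (iv F46247)) (tt N3775 F32624) (tt N6181 (iv F46286)) (tt N6195 (iv F46341)) (tt N3770 F32625) (tt N4880 F32626) (tt N6193 (iv F46336)) (tt N6151 (iv F46118)) (tt N4880 F32627) (tt N3767 (iv D7165)))
theorem Q4882 : ∀ i, i < 4882 → P i := stepQ 4881 Q4881 (allL N4881 (tt N6173 (iv F46252)) (tt N3776 F32628) (tt N6182 (iv F46291)) (tt N5972 (iv F45149)) (tt N6191 (iv F46329)) (tt N3800 F32629) (tt N6152 (iv F46122)) (tt N3769 F32630) (tt N3768 (iv D7166)) (tt N6196 D10401))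
theorem Q4883 : ∀ i, i < 4883 → P i := stepQ 4882 Q4882 (allL N4882 (tt N6174 (iv F46256)) (tt N3777 F32631) (tt N6184 (iv F46299)) (tt N5973 (iv F45153)) (tt N6193 (iv F46335)) (tt N3801 F32632) (tt N3770 F32633) (tt N6196 (iv F46345)) (tt N4882 F32634) (tt N3769 (iv D7167)))
theorem Q4884 : ∀ i, i < 4884 → P i := stepQ 4883 Q4883 (allL N4883 (tt N4883 F32635) (tt N6189 (iv F46319)) (tt N4883 F32636) (tt N4883 F32637) (tt N3802 F32638) (tt N3772 F32639) (tt N6197 D10402) (tt N3771 (iv D7168)) (tt N6198 D10403) (tt N4883 F32640))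
theorem Q4885 : ∀ i, i < 4885 → P i := stepQ 4884 Q4884 (allL N4884 (tt N4884 F32641) (tt N6190 (iv F46324)) (tt N4884 F32642) (tt N6199 D10404) (tt N3803 F32643) (tt N3773 F32644) (tt N4884 F32645) (tt N6198 (iv F46357)) (tt N3771 (iv D7169)) (tt N6200 D10405))
theorem Q4886 : ∀ i, i < 4886 → P i := stepQ 4885 Q4885 (allL N4885 (tt N4885 F32646) (tt N6191 (iv F46328)) (tt N4885 F32647) (tt N6201 D10406) (tt N3776 F32648) (tt N6198 (iv F46356)) (tt N6156 (iv F46142)) (tt N3773 F32649) (tt N3772 (iv D7170)) (tt N6202 D10407))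
theorem Q4887 : ∀ i, i < 4887 → P i := stepQ 4886 Q4886 (allL N4886 (tt N4886 F32650) (tt N6192 (iv F46331)) (tt N6203 D10408) (tt N3773 (iv D7171)) (tt N5977 (iv F45167)) (tt N6199 (iv F46359)) (tt N3774 F32651) (tt N6201 (iv F46369)) (tt N4886 F32652) (tt N6204 D10409))
theorem Q4888 : ∀ i, i < 4888 → P i := stepQ 4887 Q4887 (allL N4887 (tt N4887 F32653) (tt N6193 (iv F46334)) (tt N4887 F32654) (tt N6204 (iv F46381)) (tt N3777 F32655) (tt N6200 (iv F46365)) (tt N3775 F32656) (tt N6202 (iv F46374)) (tt N4887 F32657) (tt N3773 (iv D7172)))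
theorem Q4889 : ∀ i, i < 4889 → P i := stepQ 4888 Q4888 (allL N4888 (tt N4888 F32658) (tt N6205 D10410) (tt N3774 (iv D7173)) (tt N4888 F32659) (tt N5979 (iv F45174)) (tt N4888 F32660) (tt N6203 (iv F46378)) (tt N6159 (iv F46155)) (tt N4888 F32661) (tt N6206 D10411))
theorem Q4890 : ∀ i, i < 4890 → P i := stepQ 4889 Q4889 (allL N4889 (tt N4889 F32662) (tt N6195 (iv F46340)) (tt N6206 (iv F46387)) (tt N3775 F32663) (tt N5980 (iv F45178)) (tt N4889 F32664) (tt N6204 (iv F46382)) (tt N6160 (iv F46160)) (tt N6207 D10412) (tt N3774 (iv D7174)))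
theorem Q4891 : ∀ i, i < 4891 → P i := stepQ 4890 Q4890 (allL N4890 (tt N4890 F32665) (tt N6196 (iv F46343)) (tt N4890 F32666) (tt N5981 (iv F45180)) (tt N6202 (iv F46373)) (tt N3809 F32667) (tt N6161 (iv F46164)) (tt N3777 F32668) (tt N4890 F32669) (tt N3776 (iv D7175)))
theorem Q4892 : ∀ i, i < 4892 → P i := stepQ 4891 Q4891 (allL N4891 (tt N3787 F32697) (tt N5825 F203142) (tt N3782 F32698) (tt N4891 F32699) (tt N3779 F32700) (tt N6208 D10422) (tt N3778 (iv D7181)) (tt N6209 D10423) (tt N6210 D10424) (tt N4891 F32701))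
theorem Q4893 : ∀ i, i < 4893 → P i := stepQ 4892 Q4892 (allL N4892 (tt N3788 F32702) (tt N5826 F203268) (tt N3783 F32703) (tt N6211 D10425) (tt N3780 F32704) (tt N4892 F32705) (tt N6210 (iv F46454)) (tt N4892 F32706) (tt N3778 (iv D7182)) (tt N6212 D10426))
theorem Q4894 : ∀ i, i < 4894 → P i := stepQ 4893 Q4893 (allL N4893 (tt N3789 F32707) (tt N5827 F202294) (tt N3784 F32708) (tt N4102 F32709) (tt N6209 (iv F46448)) (tt N6165 (iv F46208)) (tt N4893 F32710) (tt N3779 (iv D7183)) (tt N6213 D10427) (tt N4893 F32711))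
theorem Q4895 : ∀ i, i < 4895 → P i := stepQ 4894 Q4894 (allL N4894 (tt N3790 F32712) (tt N5828 F203092) (tt N3785 F32713) (tt N5837 F203093) (tt N6210 (iv F46453)) (tt N6166 (iv F46212)) (tt N3780 F32714) (tt N6213 (iv F46468)) (tt N3779 (iv D7184)) (tt N6214 D10429))
theorem Q4896 : ∀ i, i < 4896 → P i := stepQ 4895 Q4895 (allL N4895 (tt N3792 F32719) (tt N5829 F203266) (tt N3786 F32720) (tt N5838 F203267) (tt N6212 (iv F46461)) (tt N3781 F32721) (tt N6214 (iv F46474)) (tt N4895 F32722) (tt N4895 F32723) (tt N3780 (iv D7186)))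
theorem Q4897 : ∀ i, i < 4897 → P i := stepQ 4896 Q4896 (allL N4896 (tt N3795 F32731) (tt N4896 F32732) (tt N6208 (iv F46441)) (tt N3810 F32733) (tt N6168 (iv F46231)) (tt N3782 (iv D7189)) (tt N4896 F32734) (tt N6215 D10435) (tt N6216 D10436) (tt N4896 F32735))
theorem Q4898 : ∀ i, i < 4898 → P i := stepQ 4897 Q4897 (allL N4897 (tt N3796 F32736) (tt N4897 F32737) (tt N6209 (iv F46446)) (tt N3811 F32738) (tt N3784 F32739) (tt N6215 (iv F46498)) (tt N4897 F32740) (tt N3782 (iv D7190)) (tt N6217 D10437) (tt N4897 F32741))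
theorem Q4899 : ∀ i, i < 4899 → P i := stepQ 4898 Q4898 (allL N4898 (tt N3797 F32742) (tt N4898 F32743) (tt N6210 (iv F46452)) (tt N6218 D10438) (tt N3785 F32744) (tt N6216 (iv F46502)) (tt N3783 F32745) (tt N6217 (iv F46508)) (tt N3782 (iv D7191)) (tt N6219 D10439))
theorem Q4900 : ∀ i, i < 4900 → P i := stepQ 4899 Q4899 (allL N4899 (tt N3798 F32746) (tt N4899 F32747) (tt N6220 D10440) (tt N3783 (iv D7192)) (tt N6026 (iv F45388)) (tt N4899 F32748) (tt N6218 (iv F46511)) (tt N4899 F32749) (tt N3813 F32750) (tt N6221 D10441))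
theorem Q4901 : ∀ i, i < 4901 → P i := stepQ 4900 Q4900 (allL N4900 (tt N3799 F32751) (tt N4900 F32752) (tt N6212 (iv F46460)) (tt N6221 (iv F46524)) (tt N3786 F32753) (tt N4900 F32754) (tt N6219 (iv F46516)) (tt N4900 F32755) (tt N4900 F32756) (tt N3783 (iv D7193)))
theorem Q4902 : ∀ i, i < 4902 → P i := stepQ 4901 Q4901 (allL N4901 (tt N3800 F32757) (tt N4901 F32758) (tt N6213 (iv F46466)) (tt N6028 (iv F45397)) (tt N6217 (iv F46506)) (tt N6173 (iv F46254)) (tt N4901 F32759) (tt N3785 F32760) (tt N3784 (iv D7194)) (tt N6222 D10442))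
theorem Q4903 : ∀ i, i < 4903 → P i := stepQ 4902 Q4902 (allL N4902 (tt N3801 F32761) (tt N4902 F32762) (tt N6214 (iv F46473)) (tt N6029 (iv F45402)) (tt N6219 (iv F46515)) (tt N6174 (iv F46258)) (tt N3786 F32763) (tt N6222 (iv F46530)) (tt N4902 F32764) (tt N3785 (iv D7195)))
theorem Q4904 : ∀ i, i < 4904 → P i := stepQ 4903 Q4903 (allL N4903 (tt N6208 (iv F46440)) (tt N4903 F32765) (tt N3795 F32766) (tt N4903 F32767) (tt N6177 (iv F46272)) (tt N3787 (iv D7196)) (tt N4903 F32768) (tt N6223 D10443) (tt N6224 D10444) (tt N4903 F32769))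
theorem Q4905 : ∀ i, i < 4905 → P i := stepQ 4904 Q4904 (allL N4904 (tt N6209 (iv F46445)) (tt N4904 F32770) (tt N3796 F32771) (tt N4904 F32772) (tt N3789 F32773) (tt N6223 (iv F46535)) (tt N4904 F32774) (tt N3787 (iv D7197)) (tt N6225 D10445) (tt N4904 F32775))
theorem Q4906 : ∀ i, i < 4906 → P i := stepQ 4905 Q4905 (allL N4905 (tt N6210 (iv F46451)) (tt N4905 F32776) (tt N3797 F32777) (tt N6226 D10446) (tt N3790 F32778) (tt N6224 (iv F46539)) (tt N3788 F32779) (tt N6225 (iv F46545)) (tt N3787 (iv D7198)) (tt N6227 D10447))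
theorem Q4907 : ∀ i, i < 4907 → P i := stepQ 4906 Q4906 (allL N4906 (tt N6211 (iv F46455)) (tt N4906 F32780) (tt N6228 D10448) (tt N3788 (iv D7199)) (tt N6229 D10449) (tt N4906 F32781) (tt N6226 (iv F46547)) (tt N4906 F32782) (tt N4906 F32783) (tt N6230 D10450))
theorem Q4908 : ∀ i, i < 4908 → P i := stepQ 4907 Q4907 (allL N4907 (tt N6212 (iv F46459)) (tt N4907 F32784) (tt N3799 F32785) (tt N6230 (iv F46563)) (tt N3792 F32786) (tt N4907 F32787) (tt N6227 (iv F46552)) (tt N4907 F32788) (tt N4907 F32789) (tt N3788 (iv D7200)))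
theorem Q4909 : ∀ i, i < 4909 → P i := stepQ 4908 Q4908 (allL N4908 (tt N6213 (iv F46465)) (tt N4908 F32790) (tt N3800 F32791) (tt N6231 D10451) (tt N6225 (iv F46543)) (tt N6182 (iv F46292)) (tt N4908 F32792) (tt N3790 F32793) (tt N3789 (iv D7201)) (tt N6232 D10452))
theorem Q4910 : ∀ i, i < 4910 → P i := stepQ 4909 Q4909 (allL N4909 (tt N5837 F203087) (tt N4909 F32794) (tt N6038 (iv F45424)) (tt N3790 (iv D7202)) (tt N6233 D10453) (tt N6183 (iv F46295)) (tt N3791 F32795) (tt N6231 (iv F46568)) (tt N4104 F32796) (tt N6234 D10454))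
theorem Q4911 : ∀ i, i < 4911 → P i := stepQ 4910 Q4910 (allL N4910 (tt N6214 (iv F46472)) (tt N4910 F32797) (tt N3801 F32798) (tt N6234 (iv F46579)) (tt N6227 (iv F46551)) (tt N6184 (iv F46300)) (tt N3792 F32799) (tt N6232 (iv F46573)) (tt N4910 F32800) (tt N3790 (iv D7203)))
theorem Q4912 : ∀ i, i < 4912 → P i := stepQ 4911 Q4911 (allL N4911 (tt N5835 F203245) (tt N4911 F32801) (tt N6040 (iv F45429)) (tt N6229 (iv F46559)) (tt N3791 (iv D7204)) (tt N6235 D10455) (tt N6233 (iv F46576)) (tt N4911 F32802) (tt N4105 F32803) (tt N6236 D10456))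
theorem Q4913 : ∀ i, i < 4913 → P i := stepQ 4912 Q4912 (allL N4912 (tt N5838 F203246) (tt N4912 F32804) (tt N6041 (iv F45432)) (tt N3792 F32805) (tt N6236 (iv F46586)) (tt N3794 F32806) (tt N6234 (iv F46580)) (tt N4912 F32807) (tt N5857 F203247) (tt N3791 (iv D7205)))
theorem Q4914 : ∀ i, i < 4914 → P i := stepQ 4913 Q4913 (allL N4913 (tt N5429 F203251) (tt N4913 F32808) (tt N6042 (iv F45436)) (tt N4913 F32809) (tt N6235 (iv F46582)) (tt N3793 (iv D7206)) (tt N6237 D10458) (tt N4913 F32810) (tt N4106 F32811) (tt N6238 D10459))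
theorem Q4915 : ∀ i, i < 4915 → P i := stepQ 4914 Q4914 (allL N4914 (tt N5430 F203252) (tt N4914 F32812) (tt N6043 (iv F45439)) (tt N4914 F32813) (tt N3794 F32814) (tt N6238 (iv F46598)) (tt N6188 (iv F46314)) (tt N4914 F32815) (tt N5443 F203253) (tt N3793 (iv D7207)))
theorem Q4916 : ∀ i, i < 4916 → P i := stepQ 4915 Q4915 (allL N4915 (tt N6215 (iv F46495)) (tt N3802 F32820) (tt N6223 (iv F46533)) (tt N3817 F32821) (tt N6189 (iv F46321)) (tt N3796 F32822) (tt N6239 D10461) (tt N3795 (iv D7209)) (tt N6240 D10462) (tt N4915 F32823))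
theorem Q4917 : ∀ i, i < 4917 → P i := stepQ 4916 Q4916 (allL N4916 (tt N6216 (iv F46500)) (tt N3803 F32824) (tt N6224 (iv F46538)) (tt N6241 D10463) (tt N6190 (iv F46325)) (tt N3797 F32825) (tt N4916 F32826) (tt N6240 (iv F46611)) (tt N3795 (iv D7210)) (tt N6242 D10464))
theorem Q4918 : ∀ i, i < 4918 → P i := stepQ 4917 Q4917 (allL N4917 (tt N6217 (iv F46504)) (tt N3804 F32827) (tt N6225 (iv F46542)) (tt N6243 D10465) (tt N3800 F32828) (tt N6240 (iv F46610)) (tt N4917 F32829) (tt N3797 F32830) (tt N3796 (iv D7211)) (tt N6244 D10466))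
theorem Q4919 : ∀ i, i < 4919 → P i := stepQ 4918 Q4918 (allL N4918 (tt N6218 (iv F46509)) (tt N3805 F32831) (tt N6245 D10467) (tt N3797 (iv D7212)) (tt N6047 (iv F45455)) (tt N6241 (iv F46613)) (tt N3798 F32832) (tt N6243 (iv F46622)) (tt N3820 F32833) (tt N6246 D10468))
theorem Q4920 : ∀ i, i < 4920 → P i := stepQ 4919 Q4919 (allL N4919 (tt N6219 (iv F46513)) (tt N3806 F32834) (tt N6227 (iv F46550)) (tt N6246 (iv F46632)) (tt N3801 F32835) (tt N6242 (iv F46617)) (tt N3799 F32836) (tt N6244 (iv F46627)) (tt N4919 F32837) (tt N3797 (iv D7213)))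
theorem Q4921 : ∀ i, i < 4921 → P i := stepQ 4920 Q4920 (allL N4920 (tt N6220 (iv F46518)) (tt N6247 D10469) (tt N3798 (iv D7214)) (tt N6228 (iv F46554)) (tt N6049 (iv F45461)) (tt N4920 F32838) (tt N6245 (iv F46629)) (tt N4920 F32839) (tt N3822 F32840) (tt N6248 D10470))
theorem Q4922 : ∀ i, i < 4922 → P i := stepQ 4921 Q4921 (allL N4921 (tt N6221 (iv F46522)) (tt N3808 F32841) (tt N6248 (iv F46638)) (tt N3799 F32842) (tt N6050 (iv F45466)) (tt N4921 F32843) (tt N6246 (iv F46633)) (tt N4921 F32844) (tt N6249 D10471) (tt N3798 (iv D7215)))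
theorem Q4923 : ∀ i, i < 4923 → P i := stepQ 4922 Q4922 (allL N4922 (tt N6222 (iv F46527)) (tt N3809 F32845) (tt N6232 (iv F46571)) (tt N6051 (iv F45469)) (tt N6244 (iv F46625)) (tt N6196 (iv F46344)) (tt N4922 F32846) (tt N3801 F32847) (tt N4922 F32848) (tt N3800 (iv D7216)))
theorem Q4924 : ∀ i, i < 4924 → P i := stepQ 4923 Q4923 (allL N4923 (tt N4923 F32849) (tt N6239 (iv F46604)) (tt N4923 F32850) (tt N3825 F32851) (tt N6197 (iv F46350)) (tt N4923 F32852) (tt N3802 (iv D7217)) (tt N4923 F32853) (tt N6250 D10472) (tt N4923 F32854))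
theorem Q4925 : ∀ i, i < 4925 → P i := stepQ 4924 Q4924 (allL N4924 (tt N4924 F32855) (tt N6240 (iv F46609)) (tt N4924 F32856) (tt N6251 D10473) (tt N6198 (iv F46355)) (tt N3804 F32857) (tt N6250 (iv F46649)) (tt N3803 F32858) (tt N3802 (iv D7218)) (tt N6252 D10474))
theorem Q4926 : ∀ i, i < 4926 → P i := stepQ 4925 Q4925 (allL N4925 (tt N4925 F32859) (tt N6241 (iv F46612)) (tt N6253 D10475) (tt N3803 (iv D7219)) (tt N6254 D10476) (tt N3805 F32860) (tt N4925 F32861) (tt N6251 (iv F46653)) (tt N3827 F32862) (tt N6255 D10477))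
theorem Q4927 : ∀ i, i < 4927 → P i := stepQ 4926 Q4926 (allL N4926 (tt N4926 F32863) (tt N6242 (iv F46616)) (tt N4926 F32864) (tt N6255 (iv F46669)) (tt N6200 (iv F46364)) (tt N3806 F32865) (tt N4926 F32866) (tt N6252 (iv F46658)) (tt N4926 F32867) (tt N3803 (iv D7220)))
theorem Q4928 : ∀ i, i < 4928 → P i := stepQ 4927 Q4927 (allL N4927 (tt N4927 F32868) (tt N6243 (iv F46620)) (tt N6256 D10478) (tt N3804 (iv D7221)) (tt N6056 (iv F45484)) (tt N6251 (iv F46652)) (tt N4927 F32869) (tt N3805 F32870) (tt N3829 F32871) (tt N6257 D10479))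
theorem Q4929 : ∀ i, i < 4929 → P i := stepQ 4928 Q4928 (allL N4928 (tt N4928 F32872) (tt N6244 (iv F46624)) (tt N4928 F32873) (tt N6257 (iv F46678)) (tt N3809 F32874) (tt N6252 (iv F46657)) (tt N4928 F32875) (tt N3806 F32876) (tt N4928 F32877) (tt N3804 (iv D7222)))
theorem Q4930 : ∀ i, i < 4930 → P i := stepQ 4929 Q4929 (allL N4929 (tt N4929 F32878) (tt N6258 D10480) (tt N3805 (iv D7223)) (tt N4929 F32879) (tt N6058 (iv F45493)) (tt N6253 (iv F46662)) (tt N3807 F32880) (tt N6256 (iv F46675)) (tt N3831 F32881) (tt N6259 D10481))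
theorem Q4931 : ∀ i, i < 4931 → P i := stepQ 4930 Q4930 (allL N4930 (tt N4930 F32882) (tt N6246 (iv F46631)) (tt N6259 (iv F46685)) (tt N3806 F32883) (tt N6059 (iv F45498)) (tt N6255 (iv F46670)) (tt N3808 F32884) (tt N6257 (iv F46680)) (tt N6260 D10482) (tt N3805 (iv D7224)))
theorem Q4932 : ∀ i, i < 4932 → P i := stepQ 4931 Q4931 (allL N4931 (tt N6261 D10483) (tt N3807 (iv D7225)) (tt N6247 (iv F46634)) (tt N4931 F32885) (tt N6060 (iv F45500)) (tt N4931 F32886) (tt N6258 (iv F46682)) (tt N4931 F32887) (tt N3833 F32888) (tt N6262 D10484))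
theorem Q4933 : ∀ i, i < 4933 → P i := stepQ 4932 Q4932 (allL N4932 (tt N4932 F32889) (tt N6262 (iv F46697)) (tt N3808 F32890) (tt N4932 F32891) (tt N6061 (iv F45505)) (tt N4932 F32892) (tt N6259 (iv F46687)) (tt N4932 F32893) (tt N6263 D10485) (tt N3807 (iv D7226)))
theorem Q4934 : ∀ i, i < 4934 → P i := stepQ 4933 Q4933 (allL N4933 (tt N4933 F32894) (tt N6249 (iv F46641)) (tt N6263 (iv F46702)) (tt N4933 F32895) (tt N6062 (iv F45508)) (tt N4933 F32896) (tt N6260 (iv F46690)) (tt N4933 F32897) (tt N3808 (iv D7227)) (tt N3835 F32898))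
theorem Q4935 : ∀ i, i < 4935 → P i := stepQ 4934 Q4934 (allL N4934 (tt N3817 F32899) (tt N4934 F32900) (tt N4934 F32901) (tt N6215 (iv F46497)) (tt N4934 F32902) (tt N3811 F32903) (tt N6264 D10486) (tt N3810 (iv D7228)) (tt N6265 D10487) (tt N4934 F32904))
theorem Q4936 : ∀ i, i < 4936 → P i := stepQ 4935 Q4935 (allL N4935 (tt N3818 F32905) (tt N4935 F32906) (tt N4935 F32907) (tt N6266 D10488) (tt N4935 F32908) (tt N3812 F32909) (tt N4935 F32910) (tt N6265 (iv F46718)) (tt N3810 (iv D7229)) (tt N6267 D10489))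
theorem Q4937 : ∀ i, i < 4937 → P i := stepQ 4936 Q4936 (allL N4936 (tt N3819 F32911) (tt N4936 F32912) (tt N4936 F32913) (tt N6268 D10490) (tt N3815 F32914) (tt N6265 (iv F46717)) (tt N4936 F32915) (tt N3812 F32916) (tt N3811 (iv D7230)) (tt N6269 D10491))
theorem Q4938 : ∀ i, i < 4938 → P i := stepQ 4937 Q4937 (allL N4937 (tt N3820 F32917) (tt N4937 F32918) (tt N6270 D10492) (tt N3812 (iv D7231)) (tt N6092 (iv F45835)) (tt N6266 (iv F46721)) (tt N3813 F32919) (tt N6268 (iv F46733)) (tt N6218 (iv F46512)) (tt N6271 D10493))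
theorem Q4939 : ∀ i, i < 4939 → P i := stepQ 4938 Q4938 (allL N4938 (tt N3821 F32920) (tt N4938 F32921) (tt N4938 F32922) (tt N6271 (iv F46746)) (tt N3816 F32923) (tt N6267 (iv F46727)) (tt N3814 F32924) (tt N6269 (iv F46739)) (tt N4938 F32925) (tt N3812 (iv D7232)))
theorem Q4940 : ∀ i, i < 4940 → P i := stepQ 4939 Q4939 (allL N4939 (tt N3822 F32926) (tt N6272 D10494) (tt N3813 (iv D7233)) (tt N4939 F32927) (tt N6093 (iv F45842)) (tt N4939 F32928) (tt N6270 (iv F46743)) (tt N4939 F32929) (tt N6220 (iv F46521)) (tt N6273 D10495))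
theorem Q4941 : ∀ i, i < 4941 → P i := stepQ 4940 Q4940 (allL N4940 (tt N3823 F32930) (tt N4940 F32931) (tt N6273 (iv F46753)) (tt N3814 F32932) (tt N5667 F204360) (tt N4940 F32933) (tt N6271 (iv F46747)) (tt N4940 F32934) (tt N6274 D10496) (tt N3813 (iv D7234)))
theorem Q4942 : ∀ i, i < 4942 → P i := stepQ 4941 Q4941 (allL N4941 (tt N3824 F32935) (tt N4941 F32936) (tt N4941 F32937) (tt N5668 F203918) (tt N6269 (iv F46737)) (tt N4941 F32938) (tt N4941 F32939) (tt N3816 F32940) (tt N4941 F32941) (tt N3815 (iv D7235)))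
theorem Q4943 : ∀ i, i < 4943 → P i := stepQ 4942 Q4942 (allL N4942 (tt N6264 (iv F46706)) (tt N3825 F32942) (tt N4942 F32943) (tt N6239 (iv F46605)) (tt N4942 F32944) (tt N4942 F32945) (tt N3817 (iv D7236)) (tt N4942 F32946) (tt N3838 F204905) (tt N4942 F32947))
theorem Q4944 : ∀ i, i < 4944 → P i := stepQ 4943 Q4943 (allL N4943 (tt N6265 (iv F46713)) (tt N3826 F32948) (tt N4943 F32949) (tt N6275 D10498) (tt N4943 F32950) (tt N3819 F32951) (tt N3838 (iv F204847)) (tt N3818 F32952) (tt N3817 (iv D7237)) (tt N3836 F204791))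
theorem Q4945 : ∀ i, i < 4945 → P i := stepQ 4944 Q4944 (allL N4944 (tt N6266 (iv F46719)) (tt N3827 F32953) (tt N6276 D10500) (tt N3818 (iv D7238)) (tt N6277 D10501) (tt N3820 F32954) (tt N4944 F32955) (tt N6275 (iv F46770)) (tt N6241 (iv F46615)) (tt N6278 D10502))
theorem Q4946 : ∀ i, i < 4946 → P i := stepQ 4945 Q4945 (allL N4945 (tt N6267 (iv F46723)) (tt N3828 F32956) (tt N4945 F32957) (tt N6278 (iv F46784)) (tt N4945 F32958) (tt N3821 F32959) (tt N4945 F32960) (tt N3836 (iv F204715)) (tt N4945 F32961) (tt N3818 (iv D7239)))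
theorem Q4947 : ∀ i, i < 4947 → P i := stepQ 4946 Q4946 (allL N4946 (tt N6268 (iv F46730)) (tt N3829 F32962) (tt N6279 D10503) (tt N3819 (iv D7240)) (tt N6108 (iv F45917)) (tt N6275 (iv F46769)) (tt N4946 F32963) (tt N3820 F32964) (tt N6243 (iv F46623)) (tt N6280 D10504))
theorem Q4948 : ∀ i, i < 4948 → P i := stepQ 4947 Q4947 (allL N4947 (tt N6269 (iv F46734)) (tt N3830 F32965) (tt N4947 F32966) (tt N6280 (iv F46791)) (tt N3824 F32967) (tt N3836 F204787) (tt N4947 F32968) (tt N3821 F32969) (tt N4947 F32970) (tt N3819 (iv D7241)))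
theorem Q4949 : ∀ i, i < 4949 → P i := stepQ 4948 Q4948 (allL N4948 (tt N6270 (iv F46741)) (tt N6281 D10505) (tt N3820 (iv D7242)) (tt N4948 F32971) (tt N6110 (iv F45924)) (tt N6276 (iv F46778)) (tt N3822 F32972) (tt N6279 (iv F46789)) (tt N6245 (iv F46630)) (tt N6282 D10506))
theorem Q4950 : ∀ i, i < 4950 → P i := stepQ 4949 Q4949 (allL N4949 (tt N6271 (iv F46744)) (tt N3832 F32973) (tt N6282 (iv F46797)) (tt N3821 F32974) (tt N6111 (iv F45928)) (tt N6278 (iv F46785)) (tt N3823 F32975) (tt N6280 (iv F46793)) (tt N6283 D10507) (tt N3820 (iv D7243)))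
theorem Q4951 : ∀ i, i < 4951 → P i := stepQ 4950 Q4950 (allL N4950 (tt N6284 D10508) (tt N3822 (iv D7244)) (tt N3833 F32976) (tt N4950 F32977) (tt N6112 (iv F45931)) (tt N4950 F32978) (tt N6281 (iv F46796)) (tt N4950 F32979) (tt N6247 (iv F46637)) (tt N6285 D10509))
theorem Q4952 : ∀ i, i < 4952 → P i := stepQ 4951 Q4951 (allL N4951 (tt N6273 (iv F46752)) (tt N6285 (iv F46807)) (tt N3823 F32980) (tt N4951 F32981) (tt N6113 (iv F45934)) (tt N4951 F32982) (tt N6282 (iv F46799)) (tt N4951 F32983) (tt N6286 D10510) (tt N3822 (iv D7245)))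
theorem Q4953 : ∀ i, i < 4953 → P i := stepQ 4952 Q4952 (allL N4952 (tt N6274 (iv F46757)) (tt N3835 F32984) (tt N6286 (iv F46812)) (tt N4952 F32985) (tt N6114 (iv F45937)) (tt N4952 F32986) (tt N6283 (iv F46802)) (tt N4952 F32987) (tt N3823 (iv D7246)) (tt N6249 (iv F46645)))
theorem Q4954 : ∀ i, i < 4954 → P i := stepQ 4953 Q4953 (allL N4953 (tt N4953 F32994) (tt N6275 (iv F46768)) (tt N3832 F204724) (tt N3826 (iv D7248)) (tt N6124 F204725) (tt N3829 F32995) (tt N3834 (iv F204801)) (tt N3827 F32996) (tt N6251 (iv F46654)) (tt N3831 F204726))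
theorem Q4955 : ∀ i, i < 4955 → P i := stepQ 4954 Q4954 (allL N4954 (tt N4954 F33003) (tt N6280 F204733) (tt N3827 (iv D7250)) (tt N3830 (iv F204811)) (tt N6122 F204734) (tt N3831 F33005) (tt N4954 F33006) (tt N3832 F204735) (tt N6253 (iv F46664)) (tt N3829 F204736))
theorem Q4956 : ∀ i, i < 4956 → P i := stepQ 4955 Q4955 (allL N4955 (tt N4955 F33007) (tt N6277 (iv F46780)) (tt N6122 (iv F204671)) (tt N4955 F33008) (tt N3827 (iv D7251)) (tt N6119 (iv F45957)) (tt N4955 F33009) (tt N6124 (iv F204662)) (tt N6254 (iv F46667)) (tt N6121 F204621))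
theorem Q4957 : ∀ i, i < 4957 → P i := stepQ 4956 Q4956 (allL N4956 (tt N4956 F33010) (tt N6278 (iv F46783)) (tt N3829 (iv F204670)) (tt N3828 F33011) (tt N6121 F204620) (tt N3832 F33012) (tt N4956 F33013) (tt N3831 (iv F204682)) (tt N6256 (iv F204683)) (tt N3827 (iv D7252)))
theorem Q4958 : ∀ i, i < 4958 → P i := stepQ 4957 Q4957 (allL N4957 (tt N6287 D10524) (tt N3831 (iv D7255)) (tt N6281 (iv F46794)) (tt N3836 F33022) (tt N6123 (iv F45972)) (tt N6280 (iv F204709)) (tt N3833 F33023) (tt N6278 F204639) (tt N6258 (iv F46683)) (tt N6275 (iv F204717)))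
theorem Q4959 : ∀ i, i < 4959 → P i := stepQ 4958 Q4958 (allL N4958 (tt N4958 F33028) (tt N6283 (iv F46800)) (tt N6251 (iv F204803)) (tt N4958 F33029) (tt N6125 (iv F45980)) (tt N6256 F204745) (tt N3835 F33030) (tt N6253 (iv F204815)) (tt N3832 (iv D7257)) (tt N6260 (iv F46691)))
theorem Q4960 : ∀ i, i < 4960 → P i := stepQ 4959 Q4959 (allL N4959 (tt N3833 (iv D7258)) (tt N4959 F33031) (tt N6284 (iv F46803)) (tt N3837 F33032) (tt N6126 (iv F45984)) (tt N4959 F33033) (tt N6287 (iv F46870)) (tt N4959 F33034) (tt N6261 (iv F46696)) (tt N6288 D10527))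
theorem Q4961 : ∀ i, i < 4961 → P i := stepQ 4960 Q4960 (allL N4960 (tt N6288 (iv F46877)) (tt N3834 F33035) (tt N6285 (iv F46808)) (tt N3838 F33036) (tt N6127 (iv F45988)) (tt N4960 F33037) (tt N6275 F204792) (tt N4960 F33038) (tt N6289 D10528) (tt N3833 (iv D7259)))
theorem Q4962 : ∀ i, i < 4962 → P i := stepQ 4961 Q4961 (allL N4961 (tt N4961 F33039) (tt N6289 (iv F46882)) (tt N3835 F33040) (tt N6250 (iv F204911)) (tt N6128 (iv F45992)) (tt N4961 F33041) (tt N6251 F204852) (tt N4961 F33042) (tt N3834 (iv D7260)) (tt N6263 (iv F46705)))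
theorem Q4963 : ∀ i, i < 4963 → P i := stepQ 4962 Q4962 (allL N4962 (tt N3836 (iv D7274)) (tt N4962 F33113) (tt N4962 F33114) (tt N6287 (iv F46869)) (tt N4962 F33115) (tt N6269 (iv F204838)) (tt N3837 F33116) (tt N6267 F204777) (tt N4962 F33117) (tt N6265 (iv F204839)))
theorem Q4964 : ∀ i, i < 4964 → P i := stepQ 4963 Q4963 (allL N4963 (tt N3838 F33127) (tt N4963 F33128) (tt N4963 F33129) (tt N6288 (iv F46879)) (tt N4963 F33130) (tt N4963 F33131) (tt N6265 F204898) (tt N4963 F33132) (tt N6264 (iv F204916)) (tt N3837 (iv D7277)))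
theorem Q4965 : ∀ i, i < 4965 → P i := stepQ 4964 Q4964 (allL N4964 (tt N4134 F33144) (tt N4964 F33145) (tt N4964 F33146) (tt N4964 F33147) (tt N3839 (iv D7280)) (tt N4964 F33148) (tt N4964 F33149) (tt N4964 F33150) (tt N6290 D10554) (tt N6291 D10555))
theorem Q4966 : ∀ i, i < 4966 → P i := stepQ 4965 Q4965 (allL N4965 (tt N4135 F33151) (tt N4965 F33152) (tt N4965 F33153) (tt N4965 F33154) (tt N6290 (iv F47016)) (tt N3840 F33155) (tt N4965 F33156) (tt N4965 F33157) (tt N3839 (iv D7281)) (tt N4965 F195422))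
theorem Q4967 : ∀ i, i < 4967 → P i := stepQ 4966 Q4966 (allL N4966 (tt N4136 F33158) (tt N4966 F33159) (tt N4966 F33160) (tt N3842 F33161) (tt N6291 (iv F47024)) (tt N3841 F33162) (tt N4966 F33163) (tt N4966 F33164) (tt N4966 F195348) (tt N3839 (iv D7282)))
theorem Q4968 : ∀ i, i < 4968 → P i := stepQ 4967 Q4967 (allL N4967 (tt N4137 F33204) (tt N5688 (iv F43754)) (tt N4967 F195204) (tt N3843 (iv D7289)) (tt N6292 D10567) (tt N3844 F33205) (tt N4967 F33206) (tt N4967 F33207) (tt N4967 F33208) (tt N4967 F33209))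
theorem Q4969 : ∀ i, i < 4969 → P i := stepQ 4968 Q4968 (allL N4968 (tt N4138 F33215) (tt N5690 (iv F43767)) (tt N4968 F194936) (tt N3845 F33216) (tt N3844 (iv D7291)) (tt N6293 D10570) (tt N3854 F33217) (tt N4968 F33218) (tt N4968 F33219) (tt N4968 F33220))
theorem Q4970 : ∀ i, i < 4970 → P i := stepQ 4969 Q4969 (allL N4969 (tt N4139 F33232) (tt N5692 (iv F43787)) (tt N4232 (iv F202022)) (tt N6293 (iv F47112)) (tt N4969 F33233) (tt N3845 (iv D7294)) (tt N6294 D10575) (tt N4969 F33234) (tt N3848 F33235) (tt N4969 F33236))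
theorem Q4971 : ∀ i, i < 4971 → P i := stepQ 4970 Q4970 (allL N4970 (tt N4117 (iv F201926)) (tt N3847 F33243) (tt N5693 (iv F43799)) (tt N6295 D10577) (tt N3846 (iv D7296)) (tt N6296 D10578) (tt N3856 F33244) (tt N4970 F33245) (tt N4109 (iv F201999)) (tt N3850 F33246))
theorem Q4972 : ∀ i, i < 4972 → P i := stepQ 4971 Q4971 (allL N4971 (tt N4140 F33247) (tt N6295 (iv F47147)) (tt N4971 F33248) (tt N3847 (iv D7297)) (tt N4971 F33249) (tt N4119 F201591) (tt N3857 F33250) (tt N4971 F33251) (tt N4971 F194927) (tt N3851 F33252))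
theorem Q4973 : ∀ i, i < 4973 → P i := stepQ 4972 Q4972 (allL N4972 (tt N4141 F33253) (tt N6296 (iv F47152)) (tt N3848 F33254) (tt N4119 F201581) (tt N4972 F33255) (tt N3847 (iv D7298)) (tt N4120 F201582) (tt N4972 F33256) (tt N4232 (iv F202023)) (tt N3852 F33257))
theorem Q4974 : ∀ i, i < 4974 → P i := stepQ 4973 Q4973 (allL N4973 (tt N4142 F33258) (tt N5696 (iv F43814)) (tt N4120 (iv F201161)) (tt N4973 F33259) (tt N4973 F33260) (tt N3859 F33261) (tt N3848 (iv D7299)) (tt N4128 (iv F201159)) (tt N6294 (iv F47140)) (tt N3853 F33262))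
theorem Q4975 : ∀ i, i < 4975 → P i := stepQ 4974 Q4974 (allL N4974 (tt N3850 F33263) (tt N4119 F201543) (tt N5697 (iv F43821)) (tt N6296 F195529) (tt N3849 (iv D7300)) (tt N6295 (iv F195577)) (tt N3860 F33265) (tt N4974 F33266) (tt N4974 F33267) (tt N4117 (iv F201929)))
theorem Q4976 : ∀ i, i < 4976 → P i := stepQ 4975 Q4975 (allL N4975 (tt N6296 F195526) (tt N3851 F33268) (tt N6297 D10585) (tt N3850 (iv D7301)) (tt N4975 F33269) (tt N4117 (iv F201928)) (tt N3861 F33270) (tt N4975 F33271) (tt N4116 (iv F201931)) (tt N6295 (iv F47151)))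
theorem Q4977 : ∀ i, i < 4977 → P i := stepQ 4976 Q4976 (allL N4976 (tt N6295 (iv F195576)) (tt N3852 F33272) (tt N5699 (iv F43829)) (tt N4117 (iv F201927)) (tt N4976 F33273) (tt N3850 (iv D7302)) (tt N4118 F201503) (tt N4976 F33274) (tt N4976 F33275) (tt N6296 (iv F47155)))
theorem Q4978 : ∀ i, i < 4978 → P i := stepQ 4977 Q4977 (allL N4977 (tt N4144 F33345) (tt N5704 (iv F43866)) (tt N4977 F194574) (tt N3855 F33346) (tt N4977 F33347) (tt N3854 (iv D7316)) (tt N6298 D10609) (tt N3867 F33348) (tt N4977 F33349) (tt N4977 F33350))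
theorem Q4979 : ∀ i, i < 4979 → P i := stepQ 4978 Q4978 (allL N4978 (tt N4145 F33369) (tt N5707 (iv F43895)) (tt N4229 (iv F201163)) (tt N6298 (iv F47307)) (tt N3884 F33370) (tt N6294 (iv F47139)) (tt N3855 (iv D7321)) (tt N6299 D10616) (tt N3859 F33371) (tt N4978 F33372))
theorem Q4980 : ∀ i, i < 4980 → P i := stepQ 4979 Q4979 (allL N4979 (tt N4118 F201500) (tt N3857 F33377) (tt N6300 D10619) (tt N3856 (iv D7323)) (tt N4979 F33378) (tt N6301 D10620) (tt N6295 (iv F47149)) (tt N3869 F33379) (tt N4979 F194906) (tt N3861 F33380))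
theorem Q4981 : ∀ i, i < 4981 → P i := stepQ 4980 Q4980 (allL N4980 (tt N4079 (iv F201093)) (tt N3858 F33381) (tt N5709 (iv F43908)) (tt N6301 (iv F47356)) (tt N3886 F33382) (tt N3856 (iv D7324)) (tt N6302 D10622) (tt N3870 F33383) (tt N4071 (iv F201129)) (tt N3862 F33384))
theorem Q4982 : ∀ i, i < 4982 → P i := stepQ 4981 Q4981 (allL N4981 (tt N4146 F33385) (tt N6301 (iv F47355)) (tt N4981 F33386) (tt N3858 F33387) (tt N4083 F200789) (tt N3857 (iv D7325)) (tt N4082 F200790) (tt N3871 F33388) (tt N4981 F194562) (tt N3863 F33389))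
theorem Q4983 : ∀ i, i < 4983 → P i := stepQ 4982 Q4982 (allL N4982 (tt N4147 F33394) (tt N6302 (iv F47362)) (tt N3859 F33395) (tt N4082 F200781) (tt N3888 F33396) (tt N4120 (iv F201162)) (tt N3858 (iv D7327)) (tt N4100 (iv F201154)) (tt N4229 (iv F201164)) (tt N3865 F33397))
theorem Q4984 : ∀ i, i < 4984 → P i := stepQ 4983 Q4983 (allL N4983 (tt N4148 F33398) (tt N5713 (iv F43925)) (tt N4100 (iv F201151)) (tt N4983 F33399) (tt N3889 F33400) (tt N4128 (iv F201158)) (tt N3873 F33401) (tt N3859 (iv D7328)) (tt N6299 (iv F47339)) (tt N3866 F33402))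
theorem Q4985 : ∀ i, i < 4985 → P i := stepQ 4984 Q4984 (allL N4984 (tt N3861 F33403) (tt N4120 F201490) (tt N6303 D10628) (tt N3860 (iv D7329)) (tt N4984 F33405) (tt N6302 (iv F195579)) (tt N6296 F195528) (tt N3874 F33406) (tt N6304 D10630) (tt N4118 F201491))
theorem Q4986 : ∀ i, i < 4986 → P i := stepQ 4985 Q4985 (allL N4985 (tt N3862 F33407) (tt N4082 F200768) (tt N5715 (iv F43935)) (tt N6302 F195641) (tt N3891 F33409) (tt N3860 (iv D7330)) (tt N6301 (iv F195737)) (tt N3875 F33410) (tt N4985 F33411) (tt N4079 (iv F201096)))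
theorem Q4987 : ∀ i, i < 4987 → P i := stepQ 4986 Q4986 (allL N4986 (tt N6303 (iv F47389)) (tt N4986 F33412) (tt N3861 (iv D7331)) (tt N5716 (iv F43940)) (tt N4986 F33413) (tt N6305 D10632) (tt N6297 (iv F47189)) (tt N3876 F33414) (tt N6306 D10633) (tt N6300 (iv F47354)))
theorem Q4988 : ∀ i, i < 4988 → P i := stepQ 4987 Q4987 (allL N4987 (tt N6302 F195635) (tt N3863 F33415) (tt N6305 (iv F47406)) (tt N3862 F33416) (tt N4081 F200738) (tt N3861 (iv D7332)) (tt N4079 (iv F201095)) (tt N3877 F33417) (tt N4078 (iv F201097)) (tt N6301 (iv F47358)))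
theorem Q4989 : ∀ i, i < 4989 → P i := stepQ 4988 Q4988 (allL N4988 (tt N6304 (iv F47396)) (tt N3864 F33418) (tt N6306 (iv F47409)) (tt N4988 F33419) (tt N4988 F33420) (tt N4078 F201499) (tt N4116 (iv F201930)) (tt N3878 F33421) (tt N3861 (iv D7333)) (tt N4988 F195180))
theorem Q4990 : ∀ i, i < 4990 → P i := stepQ 4989 Q4989 (allL N4989 (tt N6301 (iv F195736)) (tt N3865 F33422) (tt N5719 (iv F43949)) (tt N4079 (iv F201094)) (tt N3895 F33423) (tt N4118 (iv F201100)) (tt N3862 (iv D7334)) (tt N4097 (iv F201102)) (tt N4989 F33424) (tt N6302 (iv F47364)))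
theorem Q4991 : ∀ i, i < 4991 → P i := stepQ 4990 Q4990 (allL N4990 (tt N4151 F33523) (tt N5727 (iv F43996)) (tt N4990 F194195) (tt N3868 F33524) (tt N4990 F33525) (tt N4990 F33526) (tt N3867 (iv D7355)) (tt N6307 D10667) (tt N4990 F33527) (tt N4990 F33528))
theorem Q4992 : ∀ i, i < 4992 → P i := stepQ 4991 Q4991 (allL N4991 (tt N4152 F33553) (tt N5731 (iv F44031)) (tt N4231 (iv F201192)) (tt N6307 (iv F47564)) (tt N3901 F33554) (tt N4991 F33555) (tt N6299 (iv F47338)) (tt N3868 (iv D7362)) (tt N3873 F33556) (tt N4991 F33557))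
theorem Q4993 : ∀ i, i < 4993 → P i := stepQ 4992 Q4992 (allL N4992 (tt N4126 F202031) (tt N4992 F33567) (tt N3869 (iv D7365)) (tt N5732 (iv F44046)) (tt N4992 F33568) (tt N6308 D10683) (tt N4992 F33569) (tt N6300 (iv F47353)) (tt N4992 F194911) (tt N3876 F33570))
theorem Q4994 : ∀ i, i < 4994 → P i := stepQ 4993 Q4993 (allL N4993 (tt N4097 F201200) (tt N3871 F33571) (tt N6308 (iv F47629)) (tt N3870 F33572) (tt N6309 D10685) (tt N3869 (iv D7366)) (tt N6310 D10686) (tt N6301 (iv F47357)) (tt N4993 F194549) (tt N3877 F33573))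
theorem Q4995 : ∀ i, i < 4995 → P i := stepQ 4994 Q4994 (allL N4994 (tt N4096 (iv F201183)) (tt N3872 F33577) (tt N5735 (iv F44055)) (tt N6310 (iv F47640)) (tt N3904 F33578) (tt N4994 F33579) (tt N3870 (iv D7368)) (tt N6311 D10689) (tt N4086 (iv F201187)) (tt N3879 F33580))
theorem Q4996 : ∀ i, i < 4996 → P i := stepQ 4995 Q4995 (allL N4995 (tt N4153 F33581) (tt N6309 (iv F47635)) (tt N4995 F33582) (tt N3905 F33583) (tt N3871 (iv D7369)) (tt N4995 F33584) (tt N4101 F200839) (tt N4083 F200840) (tt N4995 F194181) (tt N3880 F33585))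
theorem Q4997 : ∀ i, i < 4997 → P i := stepQ 4996 Q4996 (allL N4996 (tt N4154 F33586) (tt N6310 (iv F47639)) (tt N4996 F33587) (tt N3872 F33588) (tt N4101 (iv F200838)) (tt N4996 F33589) (tt N3871 (iv D7370)) (tt N4099 (iv F201191)) (tt N4996 F194183) (tt N3881 F33590))
theorem Q4998 : ∀ i, i < 4998 → P i := stepQ 4997 Q4997 (allL N4997 (tt N4155 F33599) (tt N6311 (iv F47649)) (tt N3873 F33600) (tt N4099 (iv F201190)) (tt N3907 F33601) (tt N4997 F33602) (tt N4100 (iv F201153)) (tt N3872 (iv D7373)) (tt N4231 (iv F201193)) (tt N3883 F33603))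
theorem Q4999 : ∀ i, i < 4999 → P i := stepQ 4998 Q4998 (allL N4998 (tt N3876 F33604) (tt N5310 (iv F205740)) (tt N3874 (iv D7374)) (tt N5376 (iv F205751)) (tt N4998 F33605) (tt N6312 D10696) (tt N4998 F33606) (tt N6303 (iv F47391)) (tt N5307 F205627) (tt N4126 F202026))
theorem Q5000 : ∀ i, i < 5000 → P i := stepQ 4999 Q4999 (allL N4999 (tt N3877 F33607) (tt N4100 F201194) (tt N6312 (iv F47680)) (tt N3875 F33609) (tt N6313 D10698) (tt N3874 (iv D7375)) (tt N6311 (iv F195743)) (tt N6302 F195640) (tt N6314 D10700) (tt N4097 F201195))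
theorem Q5001 : ∀ i, i < 5001 → P i := stepQ 5000 Q5000 (allL N5000 (tt N3878 F33610) (tt N4129 F202030) (tt N5307 F205624) (tt N5000 F33612) (tt N5000 F33613) (tt N6314 (iv F47696)) (tt N5000 F33614) (tt N6304 (iv F47400)) (tt N3874 (iv D7376)) (tt N5000 F195170))
theorem Q5002 : ∀ i, i < 5002 → P i := stepQ 5001 Q5001 (allL N5001 (tt N3879 F33615) (tt N4099 (iv F201189)) (tt N5742 (iv F44092)) (tt N6311 F195861) (tt N3911 F33617) (tt N5001 F33618) (tt N3875 (iv D7377)) (tt N6310 (iv F196030)) (tt N5001 F33619) (tt N4096 (iv F201186)))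
theorem Q5003 : ∀ i, i < 5003 → P i := stepQ 5002 Q5002 (allL N5002 (tt N6312 (iv F47679)) (tt N5002 F33620) (tt N3877 F33621) (tt N5743 (iv F44098)) (tt N6315 D10703) (tt N3876 (iv D7378)) (tt N6316 D10704) (tt N6305 (iv F47407)) (tt N6317 D10705) (tt N6308 (iv F47630)))
theorem Q5004 : ∀ i, i < 5004 → P i := stepQ 5003 Q5003 (allL N5003 (tt N5307 (iv F205453)) (tt N5003 F33622) (tt N3878 F33623) (tt N5306 F205357) (tt N5003 F33624) (tt N6317 (iv F47715)) (tt N5003 F33625) (tt N6306 (iv F47411)) (tt N3876 (iv D7379)) (tt N5003 F195183))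
theorem Q5005 : ∀ i, i < 5005 → P i := stepQ 5004 Q5004 (allL N5004 (tt N6313 (iv F47685)) (tt N3880 F33626) (tt N6315 (iv F47708)) (tt N3914 F33627) (tt N3877 (iv D7380)) (tt N5004 F33628) (tt N4098 (iv F201076)) (tt N4081 F200733) (tt N4080 (iv F201088)) (tt N6309 (iv F47638)))
theorem Q5006 : ∀ i, i < 5006 → P i := stepQ 5005 Q5005 (allL N5005 (tt N6311 F195842) (tt N3881 F33629) (tt N6316 (iv F47711)) (tt N3879 F33630) (tt N4098 F201171) (tt N5005 F33631) (tt N3877 (iv D7381)) (tt N4096 (iv F201185)) (tt N4095 (iv F201597)) (tt N6310 (iv F47642)))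
theorem Q5007 : ∀ i, i < 5007 → P i := stepQ 5006 Q5006 (allL N5006 (tt N6314 (iv F47693)) (tt N3882 F33632) (tt N6317 (iv F47714)) (tt N5006 F33633) (tt N4080 F201198) (tt N3878 F33634) (tt N4095 (iv F201596)) (tt N4078 F201199) (tt N3877 (iv D7382)) (tt N5006 F194910))
theorem Q5008 : ∀ i, i < 5008 → P i := stepQ 5007 Q5007 (allL N5007 (tt N6310 (iv F196029)) (tt N3883 F33639) (tt N5748 (iv F44114)) (tt N4096 (iv F201184)) (tt N3918 F33640) (tt N5007 F33641) (tt N4097 F201172) (tt N3879 (iv D7384)) (tt N5007 F33642) (tt N6311 (iv F47652)))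
theorem Q5009 : ∀ i, i < 5009 → P i := stepQ 5008 Q5008 (allL N5008 (tt N4159 F33723) (tt N5757 (iv F44172)) (tt N4230 (iv F201155)) (tt N5008 F33724) (tt N6299 (iv F47337)) (tt N5008 F33725) (tt N3901 F33726) (tt N3884 (iv D7401)) (tt N3889 F33727) (tt N5008 F33728))
theorem Q5010 : ∀ i, i < 5010 → P i := stepQ 5009 Q5009 (allL N5009 (tt N3968 (iv F200477)) (tt N3955 F33739) (tt N3885 (iv D7404)) (tt N5758 (iv F44189)) (tt N5009 F33740) (tt N6318 D10742) (tt N5009 F33741) (tt N3902 F33742) (tt N3964 (iv F200476)) (tt N3892 F33743))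
theorem Q5011 : ∀ i, i < 5011 → P i := stepQ 5010 Q5010 (allL N5010 (tt N3971 (iv F200460)) (tt N3887 F33744) (tt N6318 (iv F47882)) (tt N3886 F33745) (tt N6319 D10744) (tt N3885 (iv D7405)) (tt N6320 D10745) (tt N3903 F33746) (tt N3965 (iv F200483)) (tt N3893 F33747))
theorem Q5012 : ∀ i, i < 5012 → P i := stepQ 5011 Q5011 (allL N5011 (tt N4081 F200737) (tt N3888 F33752) (tt N5761 (iv F44201)) (tt N6320 (iv F47895)) (tt N6302 (iv F47363)) (tt N5011 F33753) (tt N3886 (iv D7407)) (tt N6313 (iv F195742)) (tt N4072 (iv F201089)) (tt N3895 F33754))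
theorem Q5013 : ∀ i, i < 5013 → P i := stepQ 5012 Q5012 (allL N5012 (tt N4160 F33755) (tt N6319 (iv F47890)) (tt N3959 F33756) (tt N4083 (iv F200527)) (tt N3887 (iv D7408)) (tt N5012 F33757) (tt N3973 F200294) (tt N3905 F33758) (tt N4183 F200295) (tt N3896 F33759))
theorem Q5014 : ∀ i, i < 5014 → P i := stepQ 5013 Q5013 (allL N5013 (tt N4161 F33760) (tt N6320 (iv F47894)) (tt N3960 F33761) (tt N3888 F33762) (tt N3973 F200300) (tt N5013 F33763) (tt N3887 (iv D7409)) (tt N4000 (iv F200511)) (tt N4184 F200301) (tt N3897 F33764))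
theorem Q5015 : ∀ i, i < 5015 → P i := stepQ 5014 Q5014 (allL N5014 (tt N4157 F195645) (tt N6313 (iv F195741)) (tt N3889 F33776) (tt N4000 F200780) (tt N4100 (iv F201152)) (tt N5014 F33777) (tt N3907 F33778) (tt N3888 (iv D7412)) (tt N4230 (iv F201156)) (tt N3900 F33779))
theorem Q5016 : ∀ i, i < 5016 → P i := stepQ 5015 Q5015 (allL N5015 (tt N3892 F33780) (tt N6321 D10754) (tt N3890 (iv D7413)) (tt N5767 (iv F44228)) (tt N5015 F33781) (tt N6322 D10755) (tt N5015 F33782) (tt N3908 F33783) (tt N6323 D10756) (tt N3968 (iv F200478)))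
theorem Q5017 : ∀ i, i < 5017 → P i := stepQ 5016 Q5016 (allL N5016 (tt N3893 F33784) (tt N3973 F200261) (tt N6322 (iv F47940)) (tt N3891 F33786) (tt N6320 F195860) (tt N3890 (iv D7414)) (tt N6319 (iv F196028)) (tt N3909 F33787) (tt N6324 D10759) (tt N3971 (iv F200463)))
theorem Q5018 : ∀ i, i < 5018 → P i := stepQ 5017 Q5017 (allL N5017 (tt N3894 F33788) (tt N3962 F200049) (tt N6323 (iv F47943)) (tt N5017 F33790) (tt N5017 F33791) (tt N6324 (iv F47958)) (tt N5017 F33792) (tt N3910 F33793) (tt N3890 (iv D7415)) (tt N3957 (iv F200130)))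
theorem Q5019 : ∀ i, i < 5019 → P i := stepQ 5018 Q5018 (allL N5018 (tt N3895 F33794) (tt N4083 F200741) (tt N5770 (iv F44242)) (tt N6319 (iv F196027)) (tt N6301 F195840) (tt N5018 F33796) (tt N3891 (iv D7416)) (tt N6309 (iv F196024)) (tt N5018 F33797) (tt N4081 F200742))
theorem Q5020 : ∀ i, i < 5020 → P i := stepQ 5019 Q5019 (allL N5019 (tt N6322 (iv F47939)) (tt N3967 F33798) (tt N3893 F33799) (tt N5771 (iv F44247)) (tt N6325 D10762) (tt N3892 (iv D7417)) (tt N6326 D10763) (tt N3912 F33800) (tt N6327 D10764) (tt N6318 (iv F47884)))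
theorem Q5021 : ∀ i, i < 5021 → P i := stepQ 5020 Q5020 (allL N5020 (tt N6323 (iv F47942)) (tt N3968 F33801) (tt N3894 F33802) (tt N6328 D10765) (tt N5020 F33803) (tt N6327 (iv F47980)) (tt N5020 F33804) (tt N3913 F33805) (tt N3892 (iv D7418)) (tt N6321 (iv F200481)))
theorem Q5022 : ∀ i, i < 5022 → P i := stepQ 5021 Q5021 (allL N5021 (tt N6320 F195839) (tt N3896 F33806) (tt N6325 (iv F47972)) (tt N4081 (iv F200459)) (tt N3893 (iv D7419)) (tt N5021 F33807) (tt N3971 (iv F200462)) (tt N3914 F33808) (tt N3970 F200248) (tt N6319 (iv F47893)))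
theorem Q5023 : ∀ i, i < 5023 → P i := stepQ 5022 Q5022 (allL N5022 (tt N6319 (iv F196026)) (tt N3897 F33809) (tt N6326 (iv F47976)) (tt N3895 F33810) (tt N3971 (iv F200461)) (tt N5022 F33811) (tt N3893 (iv D7420)) (tt N3997 (iv F200465)) (tt N3969 F200249) (tt N6320 (iv F47897)))
theorem Q5024 : ∀ i, i < 5024 → P i := stepQ 5023 Q5023 (allL N5023 (tt N6324 (iv F47955)) (tt N3898 F33812) (tt N6327 (iv F47979)) (tt N5023 F33813) (tt N3970 F200250) (tt N3894 F33814) (tt N3969 F200251) (tt N3916 F33815) (tt N3893 (iv D7421)) (tt N6329 D10771))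
theorem Q5025 : ∀ i, i < 5025 → P i := stepQ 5024 Q5024 (allL N5024 (tt N3957 (iv F200129)) (tt N3899 F33816) (tt N6321 (iv F200480)) (tt N5024 F33817) (tt N5024 F33818) (tt N6329 (iv F48007)) (tt N5024 F33819) (tt N3917 F33820) (tt N3953 (iv F200128)) (tt N3894 (iv D7422)))
theorem Q5026 : ∀ i, i < 5026 → P i := stepQ 5025 Q5025 (allL N5025 (tt N6309 (iv F196023)) (tt N3900 F33821) (tt N5777 (iv F44267)) (tt N3997 F200745) (tt N4097 (iv F201101)) (tt N5025 F33822) (tt N3918 F33823) (tt N3895 (iv D7423)) (tt N5025 F33824) (tt N6313 F195859))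
theorem Q5027 : ∀ i, i < 5027 → P i := stepQ 5026 Q5026 (allL N5026 (tt N4162 F200296) (tt N6329 (iv F48005)) (tt N3973 F33844) (tt N5026 F33845) (tt N3960 F200297) (tt N3899 F33846) (tt N3959 F200298) (tt N3923 F33847) (tt N4178 F200299) (tt N3898 (iv D7428)))
theorem Q5028 : ∀ i, i < 5028 → P i := stepQ 5027 Q5027 (allL N5027 (tt N3994 (iv F201048)) (tt N3977 F33941) (tt N3903 F33942) (tt N5788 (iv F44362)) (tt N6330 D10814) (tt N3902 (iv D7451)) (tt N6331 D10815) (tt N6318 (iv F47883)) (tt N3988 (iv F201045)) (tt N3912 F33943))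
theorem Q5029 : ∀ i, i < 5029 → P i := stepQ 5028 Q5028 (allL N5028 (tt N3997 F200734) (tt N3905 F33948) (tt N6330 (iv F48187)) (tt N6309 (iv F47636)) (tt N3903 (iv D7453)) (tt N5028 F33949) (tt N6332 D10819) (tt N6319 (iv F47892)) (tt N3989 F200735) (tt N3914 F33950))
theorem Q5030 : ∀ i, i < 5030 → P i := stepQ 5029 Q5029 (allL N5029 (tt N3999 (iv F201034)) (tt N3906 F33951) (tt N6331 (iv F48191)) (tt N3904 F33952) (tt N6332 (iv F48205)) (tt N3926 F33953) (tt N3903 (iv D7454)) (tt N6333 D10821) (tt N3990 (iv F201025)) (tt N3915 F33954))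
theorem Q5031 : ∀ i, i < 5031 → P i := stepQ 5030 Q5030 (allL N5030 (tt N4098 (iv F201074)) (tt N3907 F33961) (tt N5794 (iv F44379)) (tt N6333 (iv F48211)) (tt N6311 (iv F47650)) (tt N3927 F33962) (tt N6313 F195857) (tt N3904 (iv D7457)) (tt N4087 (iv F201223)) (tt N3918 F33963))
theorem Q5032 : ∀ i, i < 5032 → P i := stepQ 5031 Q5031 (allL N5031 (tt N4164 F33964) (tt N6332 (iv F48204)) (tt N3983 F33965) (tt N4101 (iv F200837)) (tt N3906 F33966) (tt N4036 (iv F200528)) (tt N3905 (iv D7458)) (tt N4001 (iv F200615)) (tt N4191 (iv F200519)) (tt N3919 F33967))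
theorem Q5033 : ∀ i, i < 5033 → P i := stepQ 5032 Q5032 (allL N5032 (tt N4165 F33972) (tt N6333 (iv F48210)) (tt N3985 F33973) (tt N3907 F33974) (tt N4001 (iv F200614)) (tt N3929 F33975) (tt N4000 (iv F200510)) (tt N3906 (iv D7460)) (tt N4192 (iv F200506)) (tt N3921 F33976))
theorem Q5034 : ∀ i, i < 5034 → P i := stepQ 5033 Q5033 (allL N5033 (tt N3978 (iv F200532)) (tt N3908 (iv D7463)) (tt N3917 F200764) (tt N5800 (iv F44404)) (tt N5033 F33987) (tt N6334 D10831) (tt N3930 F33988) (tt N6321 (iv F47938)) (tt N3974 (iv F200531)) (tt N3913 F200765))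
theorem Q5035 : ∀ i, i < 5035 → P i := stepQ 5034 Q5034 (allL N5034 (tt N3912 F33989) (tt N6334 (iv F48250)) (tt N3909 F33990) (tt N5801 (iv F44408)) (tt N6335 D10833) (tt N3908 (iv D7464)) (tt N6336 D10834) (tt N6322 (iv F47941)) (tt N6337 D10835) (tt N3994 (iv F201049)))
theorem Q5036 : ∀ i, i < 5036 → P i := stepQ 5035 Q5035 (allL N5035 (tt N3913 F33991) (tt N3974 (iv F200530)) (tt N3910 F33992) (tt N5923 (iv F200640)) (tt N5035 F33993) (tt N6337 (iv F48265)) (tt N3932 F33994) (tt N6323 (iv F47946)) (tt N3908 (iv D7465)) (tt N3978 (iv F200529)))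
theorem Q5037 : ∀ i, i < 5037 → P i := stepQ 5036 Q5036 (allL N5036 (tt N3914 F33995) (tt N4000 F200685) (tt N6335 (iv F48258)) (tt N6313 (iv F47687)) (tt N3909 (iv D7466)) (tt N5036 F33997) (tt N6333 (iv F196034)) (tt N6320 F195858) (tt N6338 D10839) (tt N3997 F200686))
theorem Q5038 : ∀ i, i < 5038 → P i := stepQ 5037 Q5037 (allL N5037 (tt N3915 F33998) (tt N4001 F200694) (tt N6336 (iv F48261)) (tt N3911 F34000) (tt N6333 F196210) (tt N3934 F34001) (tt N3909 (iv D7467)) (tt N6332 (iv F196461)) (tt N6339 D10841) (tt N3999 (iv F201037)))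
theorem Q5039 : ∀ i, i < 5039 → P i := stepQ 5038 Q5038 (allL N5038 (tt N3916 F34002) (tt N3987 F200402) (tt N6337 (iv F48264)) (tt N5038 F34004) (tt N6338 (iv F48278)) (tt N3910 F34005) (tt N6339 (iv F48288)) (tt N6324 (iv F47959)) (tt N3909 (iv D7468)) (tt N3981 (iv F200515)))
theorem Q5040 : ∀ i, i < 5040 → P i := stepQ 5039 Q5039 (allL N5039 (tt N3918 F34011) (tt N4101 (iv F200836)) (tt N5807 (iv F44428)) (tt N6332 (iv F196460)) (tt N6310 F196185) (tt N3936 F34013) (tt N6309 F196186) (tt N3911 (iv D7470)) (tt N5039 F34014) (tt N4098 (iv F201077)))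
theorem Q5041 : ∀ i, i < 5041 → P i := stepQ 5040 Q5040 (allL N5040 (tt N6335 (iv F48257)) (tt N3992 F34015) (tt N3914 F34016) (tt N6340 D10843) (tt N3912 (iv D7471)) (tt N5040 F34017) (tt N6341 D10844) (tt N6325 (iv F47974)) (tt N6342 D10845) (tt N6330 (iv F48189)))
theorem Q5042 : ∀ i, i < 5042 → P i := stepQ 5041 Q5041 (allL N5041 (tt N6336 (iv F48260)) (tt N3993 F34018) (tt N3915 F34019) (tt N5809 (iv F44435)) (tt N6341 (iv F48297)) (tt N3938 F34020) (tt N3912 (iv D7472)) (tt N6343 D10846) (tt N6344 D10847) (tt N6331 (iv F48193)))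
theorem Q5043 : ∀ i, i < 5043 → P i := stepQ 5042 Q5042 (allL N5042 (tt N6337 (iv F48263)) (tt N3994 F34021) (tt N3916 F34022) (tt N6345 D10848) (tt N6342 (iv F48300)) (tt N3913 F34023) (tt N6344 (iv F48308)) (tt N6327 (iv F47981)) (tt N3912 (iv D7473)) (tt N6334 (iv F201043)))
theorem Q5044 : ∀ i, i < 5044 → P i := stepQ 5043 Q5043 (allL N5043 (tt N5923 F200763) (tt N3995 F34024) (tt N5043 F34025) (tt N3913 (iv D7474)) (tt N6346 D10850) (tt N6345 (iv F48311)) (tt N3940 F34026) (tt N6328 (iv F47985)) (tt N5811 (iv F44443)) (tt N5800 (iv F201117)))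
theorem Q5045 : ∀ i, i < 5045 → P i := stepQ 5044 Q5044 (allL N5044 (tt N6333 F196184) (tt N3919 F34031) (tt N6341 (iv F48296)) (tt N4098 (iv F201075)) (tt N3915 F34032) (tt N4034 (iv F201039)) (tt N3914 (iv D7476)) (tt N3999 (iv F201036)) (tt N3998 F200727) (tt N6332 (iv F48206)))
theorem Q5046 : ∀ i, i < 5046 → P i := stepQ 5045 Q5045 (allL N5045 (tt N6338 (iv F48276)) (tt N3920 F34033) (tt N6342 (iv F48299)) (tt N3972 (iv F200638)) (tt N3916 F34034) (tt N5045 F34035) (tt N3998 (iv F200630)) (tt N3970 F200403) (tt N3914 (iv D7477)) (tt N6347 D10856))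
theorem Q5047 : ∀ i, i < 5047 → P i := stepQ 5046 Q5046 (allL N5046 (tt N6332 (iv F196459)) (tt N3921 F34036) (tt N6343 (iv F48303)) (tt N3918 F34037) (tt N3999 (iv F201035)) (tt N3943 F34038) (tt N3997 F200695) (tt N3915 (iv D7478)) (tt N3996 F200696) (tt N6333 (iv F48213)))
theorem Q5048 : ∀ i, i < 5048 → P i := stepQ 5047 Q5047 (allL N5047 (tt N6339 (iv F48284)) (tt N3922 F34039) (tt N6344 (iv F48306)) (tt N5047 F34040) (tt N3998 F200731) (tt N3944 F34041) (tt N3916 F34042) (tt N3996 F200732) (tt N3915 (iv D7479)) (tt N6348 D10858))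
theorem Q5049 : ∀ i, i < 5049 → P i := stepQ 5048 Q5048 (allL N5048 (tt N3981 (iv F200514)) (tt N3923 F34043) (tt N6334 (iv F201042)) (tt N5048 F34044) (tt N6347 (iv F48335)) (tt N3917 F34045) (tt N6348 (iv F48344)) (tt N6329 (iv F48008)) (tt N3975 F200736) (tt N3916 (iv D7480)))
theorem Q5050 : ∀ i, i < 5050 → P i := stepQ 5049 Q5049 (allL N5049 (tt N4166 F200285) (tt N6347 (iv F48334)) (tt N4000 F34061) (tt N3963 (iv F200492)) (tt N3923 F34062) (tt N5049 F34063) (tt N3985 (iv F200507)) (tt N3960 F200286) (tt N4186 (iv F200503)) (tt N3920 (iv D7485)))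
theorem Q5051 : ∀ i, i < 5051 → P i := stepQ 5050 Q5050 (allL N5050 (tt N4167 F200826) (tt N6348 (iv F48341)) (tt N4001 F34070) (tt N5050 F34071) (tt N3985 F200827) (tt N3952 F34072) (tt N3923 F34073) (tt N3983 F200828) (tt N4187 (iv F200602)) (tt N3922 (iv D7487)))
theorem Q5052 : ∀ i, i < 5052 → P i := stepQ 5051 Q5051 (allL N5051 (tt N4026 (iv F201975)) (tt N4006 F34236) (tt N3925 F34237) (tt N6349 D10920) (tt N3924 (iv D7523)) (tt N5051 F34238) (tt N6350 D10921) (tt N5051 F34239) (tt N4020 (iv F201967)) (tt N3937 F34240))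
theorem Q5053 : ∀ i, i < 5053 → P i := stepQ 5052 Q5052 (allL N5052 (tt N4028 (iv F201848)) (tt N4007 F34241) (tt N3926 F34242) (tt N5831 (iv F44606)) (tt N6350 (iv F48621)) (tt N6331 (iv F48192)) (tt N3924 (iv D7524)) (tt N6351 D10923) (tt N4021 (iv F201836)) (tt N3938 F34243))
theorem Q5054 : ∀ i, i < 5054 → P i := stepQ 5053 Q5053 (allL N5053 (tt N4033 (iv F201839)) (tt N3928 F34255) (tt N6350 (iv F48620)) (tt N5053 F34256) (tt N3926 F34257) (tt N6352 D10929) (tt N3925 (iv D7528)) (tt N6353 D10930) (tt N4022 (iv F201837)) (tt N3941 F34258))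
theorem Q5055 : ∀ i, i < 5055 → P i := stepQ 5054 Q5054 (allL N5054 (tt N4034 (iv F201038)) (tt N3929 F34263) (tt N6351 (iv F48629)) (tt N3927 F34264) (tt N6353 (iv F48655)) (tt N6333 (iv F48212)) (tt N5054 F34265) (tt N3926 (iv D7530)) (tt N4023 (iv F201024)) (tt N3943 F34266))
theorem Q5056 : ∀ i, i < 5056 → P i := stepQ 5055 Q5055 (allL N5055 (tt N4170 F34273) (tt N6352 (iv F48649)) (tt N4013 F34274) (tt N5055 F34275) (tt N4036 F200848) (tt N3928 (iv D7533)) (tt N5055 F34276) (tt N4035 (iv F201216)) (tt N4198 (iv F201232)) (tt N3946 F34277))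
theorem Q5057 : ∀ i, i < 5057 → P i := stepQ 5056 Q5056 (allL N5056 (tt N4171 F34278) (tt N6353 (iv F48653)) (tt N4014 F34279) (tt N5056 F34280) (tt N3929 F34281) (tt N4035 (iv F201215)) (tt N5056 F34282) (tt N3928 (iv D7534)) (tt N4199 (iv F201217)) (tt N3947 F34283))
theorem Q5058 : ∀ i, i < 5058 → P i := stepQ 5057 Q5057 (allL N5057 (tt N4008 (iv F201248)) (tt N3931 F34307) (tt N3945 F201538) (tt N5846 (iv F44669)) (tt N6354 D10944) (tt N3930 (iv D7540)) (tt N6355 D10945) (tt N5057 F34309) (tt N4002 (iv F201247)) (tt N3939 F201539))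
theorem Q5059 : ∀ i, i < 5059 → P i := stepQ 5058 Q5058 (allL N5058 (tt N3937 F34315) (tt N6354 (iv F48713)) (tt N3933 F34316) (tt N6356 D10949) (tt N3931 (iv D7542)) (tt N5058 F34317) (tt N6357 D10950) (tt N5058 F34318) (tt N6358 D10951) (tt N4026 (iv F201976)))
theorem Q5060 : ∀ i, i < 5060 → P i := stepQ 5059 Q5059 (allL N5059 (tt N3938 F34319) (tt N6355 (iv F48718)) (tt N3934 F34320) (tt N5849 (iv F44680)) (tt N6357 (iv F48739)) (tt N6336 (iv F48262)) (tt N3931 (iv D7543)) (tt N6359 D10952) (tt N6360 D10953) (tt N4028 (iv F201849)))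
theorem Q5061 : ∀ i, i < 5061 → P i := stepQ 5060 Q5060 (allL N5060 (tt N3939 F34321) (tt N4002 (iv F201246)) (tt N3935 F34322) (tt N5982 (iv F201352)) (tt N6358 (iv F48742)) (tt N3932 F34323) (tt N6360 (iv F48750)) (tt N5060 F34324) (tt N3931 (iv D7544)) (tt N4008 (iv F201239)))
theorem Q5062 : ∀ i, i < 5062 → P i := stepQ 5061 Q5061 (allL N5061 (tt N3941 F34332) (tt N4035 F201421) (tt N6357 (iv F48738)) (tt N5061 F34334) (tt N3934 F34335) (tt N6353 F196762) (tt N3933 (iv D7547)) (tt N6352 (iv F197154)) (tt N6361 D10960) (tt N4033 (iv F201842)))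
theorem Q5063 : ∀ i, i < 5063 → P i := stepQ 5062 Q5062 (allL N5062 (tt N3942 F34336) (tt N4017 F200991) (tt N6358 (iv F48741)) (tt N6362 D10961) (tt N3935 F34338) (tt N5062 F34339) (tt N6361 (iv F48779)) (tt N5062 F34340) (tt N3933 (iv D7548)) (tt N4010 (iv F201255)))
theorem Q5064 : ∀ i, i < 5064 → P i := stepQ 5063 Q5063 (allL N5063 (tt N3943 F34341) (tt N4036 F200726) (tt N6359 (iv F48746)) (tt N3936 F34343) (tt N6352 (iv F197153)) (tt N6332 F196716) (tt N5063 F34344) (tt N3934 (iv D7549)) (tt N6363 D10963) (tt N4034 (iv F201040)))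
theorem Q5065 : ∀ i, i < 5065 → P i := stepQ 5064 Q5064 (allL N5064 (tt N3944 F34345) (tt N4019 F200983) (tt N6360 (iv F48749)) (tt N5064 F34347) (tt N6361 (iv F48778)) (tt N6339 (iv F48287)) (tt N3935 F34348) (tt N6363 (iv F48795)) (tt N3934 (iv D7550)) (tt N4012 (iv F201228)))
theorem Q5066 : ∀ i, i < 5066 → P i := stepQ 5065 Q5065 (allL N5065 (tt N6356 (iv F48733)) (tt N4024 F34354) (tt N5065 F34355) (tt N3937 (iv D7552)) (tt N5858 (iv F44715)) (tt N5065 F34356) (tt N6364 D10965) (tt N5065 F34357) (tt N6365 D10966) (tt N6349 (iv F48618)))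
theorem Q5067 : ∀ i, i < 5067 → P i := stepQ 5066 Q5066 (allL N5066 (tt N6357 (iv F48737)) (tt N4025 F34358) (tt N3941 F34359) (tt N6364 (iv F48802)) (tt N3938 F34360) (tt N6366 D10967) (tt N3937 (iv D7553)) (tt N6367 D10968) (tt N6368 D10969) (tt N6350 (iv F48622)))
theorem Q5068 : ∀ i, i < 5068 → P i := stepQ 5067 Q5067 (allL N5067 (tt N6358 (iv F48740)) (tt N4026 F34361) (tt N3942 F34362) (tt N6369 D10970) (tt N3939 F34363) (tt N5067 F34364) (tt N6368 (iv F48817)) (tt N5067 F34365) (tt N3937 (iv D7554)) (tt N6354 (iv F201990)))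
theorem Q5069 : ∀ i, i < 5069 → P i := stepQ 5068 Q5068 (allL N5068 (tt N6359 (iv F48745)) (tt N4027 F34366) (tt N3943 F34367) (tt N5861 (iv F44726)) (tt N6367 (iv F48812)) (tt N6343 (iv F48304)) (tt N5068 F34368) (tt N3938 (iv D7555)) (tt N6370 D10972) (tt N6351 (iv F48631)))
theorem Q5070 : ∀ i, i < 5070 → P i := stepQ 5069 Q5069 (allL N5069 (tt N6360 (iv F48748)) (tt N4028 F34369) (tt N3944 F34370) (tt N6371 D10973) (tt N6368 (iv F48816)) (tt N6344 (iv F48307)) (tt N3939 F34371) (tt N6370 (iv F48829)) (tt N3938 (iv D7556)) (tt N6355 (iv F201844)))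
theorem Q5071 : ∀ i, i < 5071 → P i := stepQ 5070 Q5070 (allL N5070 (tt N5982 F201537) (tt N4029 F34372) (tt N5070 F34373) (tt N3939 (iv D7557)) (tt N6372 D10975) (tt N3940 F34374) (tt N6371 (iv F48832)) (tt N5070 F34375) (tt N5863 (iv F44735)) (tt N5846 (iv F201950)))
theorem Q5072 : ∀ i, i < 5072 → P i := stepQ 5071 Q5071 (allL N5071 (tt N5564 F201540) (tt N4030 F34380) (tt N5071 F34381) (tt N5071 F34382) (tt N3940 (iv D7559)) (tt N6373 D10977) (tt N6346 (iv F48318)) (tt N5071 F34383) (tt N5865 (iv F44743)) (tt N5437 (iv F201949)))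
theorem Q5073 : ∀ i, i < 5073 → P i := stepQ 5072 Q5072 (allL N5072 (tt N6353 F196715) (tt N3946 F34388) (tt N6366 (iv F48808)) (tt N5072 F34389) (tt N4034 F201439) (tt N3941 (iv D7561)) (tt N5072 F34390) (tt N4033 (iv F201841)) (tt N4032 F201440) (tt N6352 (iv F48652)))
theorem Q5074 : ∀ i, i < 5074 → P i := stepQ 5073 Q5073 (allL N5073 (tt N6352 (iv F197152)) (tt N3947 F34391) (tt N6367 (iv F48811)) (tt N5073 F34392) (tt N3943 F34393) (tt N4033 (iv F201840)) (tt N5073 F34394) (tt N3941 (iv D7562)) (tt N4031 F201422) (tt N6353 (iv F48657)))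
theorem Q5075 : ∀ i, i < 5075 → P i := stepQ 5074 Q5074 (allL N5074 (tt N6361 (iv F48776)) (tt N3948 F34395) (tt N6368 (iv F48815)) (tt N4069 (iv F201916)) (tt N3944 F34396) (tt N4032 F201485) (tt N3942 F34397) (tt N4031 F201486) (tt N3941 (iv D7563)) (tt N6374 D10984))
theorem Q5076 : ∀ i, i < 5076 → P i := stepQ 5075 Q5075 (allL N5075 (tt N6362 (iv F48780)) (tt N3949 F34398) (tt N6375 D10985) (tt N3942 (iv D7564)) (tt N5075 F34399) (tt N5075 F34400) (tt N4069 (iv F201917)) (tt N5075 F34401) (tt N5075 F34402) (tt N6376 D10986))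
theorem Q5077 : ∀ i, i < 5077 → P i := stepQ 5076 Q5076 (allL N5076 (tt N4010 (iv F201254)) (tt N3950 F34403) (tt N6354 (iv F201989)) (tt N6376 (iv F48879)) (tt N3945 F34404) (tt N5076 F34405) (tt N6374 (iv F48872)) (tt N5076 F34406) (tt N4003 (iv F201253)) (tt N3942 (iv D7565)))
theorem Q5078 : ∀ i, i < 5078 → P i := stepQ 5077 Q5077 (allL N5077 (tt N6363 (iv F48791)) (tt N3951 F34407) (tt N6370 (iv F48827)) (tt N5077 F34408) (tt N4031 (iv F201332)) (tt N3996 F200984) (tt N5077 F34409) (tt N3944 F34410) (tt N3943 (iv D7566)) (tt N6377 D10987))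
theorem Q5079 : ∀ i, i < 5079 → P i := stepQ 5078 Q5078 (allL N5078 (tt N4012 (iv F201227)) (tt N3952 F34411) (tt N6355 (iv F201843)) (tt N5078 F34412) (tt N6374 (iv F48871)) (tt N6348 (iv F48343)) (tt N3945 F34413) (tt N6377 (iv F48886)) (tt N4004 F201487) (tt N3944 (iv D7567)))
theorem Q5080 : ∀ i, i < 5080 → P i := stepQ 5079 Q5079 (allL N5079 (tt N4173 F201625) (tt N6374 (iv F48870)) (tt N4035 F34433) (tt N4053 (iv F202040)) (tt N3952 F34434) (tt N4014 F201626) (tt N3950 F34435) (tt N4013 F201627) (tt N4193 (iv F201322)) (tt N3948 (iv D7572)))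
theorem Q5081 : ∀ i, i < 5081 → P i := stepQ 5080 Q5080 (allL N5080 (tt N4172 F201667) (tt N6376 (iv F48878)) (tt N5080 F34437) (tt N3950 F34438) (tt N5080 F34439) (tt N5080 F34440) (tt N4053 (iv F202041)) (tt N5080 F34441) (tt N4210 (iv F201357)) (tt N3949 (iv D7573)))
theorem Q5082 : ∀ i, i < 5082 → P i := stepQ 5081 Q5081 (allL N5081 (tt N4174 F200832) (tt N6377 (iv F48883)) (tt N4036 F34443) (tt N5081 F34444) (tt N4013 (iv F201231)) (tt N3983 F200833) (tt N5081 F34445) (tt N3952 F34446) (tt N4194 (iv F201222)) (tt N3951 (iv D7574)))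
theorem Q5083 : ∀ i, i < 5083 → P i := stepQ 5082 Q5082 (allL N5082 (tt N3955 F34447) (tt N6323 F200308) (tt N3953 (iv D7575)) (tt N5882 (iv F44806)) (tt N5082 F34448) (tt N6378 D10997) (tt N5082 F34449) (tt N3974 F34450) (tt N6321 F200309) (tt N3964 F34451))
theorem Q5084 : ∀ i, i < 5084 → P i := stepQ 5083 Q5083 (allL N5083 (tt N3956 F34452) (tt N4178 F34453) (tt N6378 (iv F48933)) (tt N3954 F34454) (tt N6379 D10999) (tt N3953 (iv D7576)) (tt N6380 D11000) (tt N3975 F34455) (tt N6329 (iv F200469)) (tt N3965 F34456))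
theorem Q5085 : ∀ i, i < 5085 → P i := stepQ 5084 Q5084 (allL N5084 (tt N3958 F34463) (tt N4179 F34464) (tt N5885 (iv F44822)) (tt N6380 (iv F48949)) (tt N5084 F34465) (tt N5084 F34466) (tt N3954 (iv D7578)) (tt N6381 D11003) (tt N5084 F34467) (tt N3966 F34468))
theorem Q5086 : ∀ i, i < 5086 → P i := stepQ 5085 Q5085 (allL N5085 (tt N6378 (iv F48932)) (tt N6318 (iv F47881)) (tt N3956 F34469) (tt N5886 (iv F44828)) (tt N6382 D11004) (tt N3955 (iv D7579)) (tt N6383 D11005) (tt N3977 F34470) (tt N6384 D11006) (tt N3967 F34471))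
theorem Q5087 : ∀ i, i < 5087 → P i := stepQ 5086 Q5086 (allL N5086 (tt N6321 F200307) (tt N3964 (iv F200475)) (tt N3957 F34472) (tt N5898 (iv F200533)) (tt N5086 F34473) (tt N6384 (iv F48979)) (tt N5086 F34474) (tt N3978 F34475) (tt N3955 (iv D7580)) (tt N6323 F200306))
theorem Q5088 : ∀ i, i < 5088 → P i := stepQ 5087 Q5087 (allL N5087 (tt N6379 (iv F48941)) (tt N3959 F34476) (tt N6382 (iv F48971)) (tt N5087 F34477) (tt N3956 (iv D7581)) (tt N5087 F34478) (tt N6329 (iv F200468)) (tt N3979 F34479) (tt N6380 (iv F200439)) (tt N3969 F34480))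
theorem Q5089 : ∀ i, i < 5089 → P i := stepQ 5088 Q5088 (allL N5088 (tt N6380 (iv F48947)) (tt N3960 F34481) (tt N6383 (iv F48975)) (tt N3958 F34482) (tt N6329 (iv F200467)) (tt N5088 F34483) (tt N3956 (iv D7582)) (tt N6347 (iv F200508)) (tt N6379 (iv F200456)) (tt N3970 F34484))
theorem Q5090 : ∀ i, i < 5090 → P i := stepQ 5089 Q5089 (allL N5089 (tt N6329 F200291) (tt N3961 F34485) (tt N6384 (iv F48978)) (tt N5089 F34486) (tt N6380 (iv F200438)) (tt N3957 F34487) (tt N6379 (iv F200455)) (tt N3981 F34488) (tt N3956 (iv D7583)) (tt N6324 F200292))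
theorem Q5091 : ∀ i, i < 5091 → P i := stepQ 5090 Q5090 (allL N5090 (tt N6381 (iv F48964)) (tt N3963 F34495) (tt N5892 (iv F44852)) (tt N6347 F200779) (tt N5090 F34496) (tt N5090 F34497) (tt N3982 F34498) (tt N3958 (iv D7585)) (tt N5090 F34499) (tt N3972 F34500))
theorem Q5092 : ∀ i, i < 5092 → P i := stepQ 5091 Q5091 (allL N5091 (tt N4181 F200280) (tt N6380 (iv F200437)) (tt N4183 F200281) (tt N4179 F200282) (tt N3961 F34506) (tt N5091 F34507) (tt N4178 F200283) (tt N3984 F34508) (tt N3959 (iv D7587)) (tt N4184 F200284))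
theorem Q5093 : ∀ i, i < 5093 → P i := stepQ 5092 Q5092 (allL N5092 (tt N4180 F200287) (tt N6379 (iv F200454)) (tt N4184 F200288) (tt N5092 F34515) (tt N4178 F200289) (tt N5092 F34516) (tt N3961 F34517) (tt N4186 (iv F200505)) (tt N3960 (iv D7589)) (tt N4183 F200290))
theorem Q5094 : ∀ i, i < 5094 → P i := stepQ 5093 Q5093 (allL N5093 (tt N4163 F200052) (tt N6324 (iv F200186)) (tt N4178 (iv F200157)) (tt N5093 F34519) (tt N4184 (iv F200115)) (tt N3962 F34520) (tt N4183 (iv F200120)) (tt N3987 F34521) (tt N3973 F34522) (tt N3961 (iv D7590)))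
theorem Q5095 : ∀ i, i < 5095 → P i := stepQ 5094 Q5094 (allL N5094 (tt N3967 F34527) (tt N6384 F200702) (tt N3965 F34528) (tt N5899 (iv F44885)) (tt N6385 D11023) (tt N3964 (iv D7592)) (tt N6386 D11024) (tt N3988 F34529) (tt N6318 F200703) (tt N6378 (iv F48935)))
theorem Q5096 : ∀ i, i < 5096 → P i := stepQ 5095 Q5095 (allL N5095 (tt N3969 F34535) (tt N4183 F34536) (tt N6385 (iv F49053)) (tt N5095 F34537) (tt N3965 (iv D7594)) (tt N5095 F34538) (tt N6324 F200401) (tt N3989 F34539) (tt N6319 (iv F200464)) (tt N6379 (iv F48946)))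
theorem Q5097 : ∀ i, i < 5097 → P i := stepQ 5096 Q5096 (allL N5096 (tt N3970 F34540) (tt N4184 F34541) (tt N6386 (iv F49057)) (tt N3966 F34542) (tt N6324 F200400) (tt N5096 F34543) (tt N3965 (iv D7595)) (tt N6338 (iv F200583)) (tt N6320 (iv F200458)) (tt N6380 (iv F48951)))
theorem Q5098 : ∀ i, i < 5098 → P i := stepQ 5097 Q5097 (allL N5097 (tt N3972 F34555) (tt N4185 F34556) (tt N5905 (iv F44911)) (tt N6338 F200929) (tt N5097 F34557) (tt N5097 F34558) (tt N3991 F34559) (tt N3966 (iv D7598)) (tt N4073 F34560) (tt N6381 (iv F48970)))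
theorem Q5099 : ∀ i, i < 5099 → P i := stepQ 5098 Q5098 (allL N5098 (tt N6385 (iv F49052)) (tt N6325 (iv F47971)) (tt N3969 F34561) (tt N6387 D11033) (tt N3967 (iv D7599)) (tt N5098 F34562) (tt N6327 (iv F200453)) (tt N3992 F34563) (tt N6326 (iv F200451)) (tt N6382 (iv F48974)))
theorem Q5100 : ∀ i, i < 5100 → P i := stepQ 5099 Q5099 (allL N5099 (tt N6386 (iv F49056)) (tt N6326 (iv F47975)) (tt N3970 F34564) (tt N5907 (iv F44919)) (tt N6327 (iv F200452)) (tt N5099 F34565) (tt N3967 (iv D7600)) (tt N6342 (iv F200631)) (tt N6325 (iv F200450)) (tt N6383 (iv F48977)))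
theorem Q5101 : ∀ i, i < 5101 → P i := stepQ 5100 Q5100 (allL N5100 (tt N6318 F200708) (tt N6327 (iv F47978)) (tt N3971 F34566) (tt N6388 D11038) (tt N6326 F200709) (tt N3968 F34567) (tt N6325 F200710) (tt N3994 F34568) (tt N3967 (iv D7601)) (tt N6322 F200711))
theorem Q5102 : ∀ i, i < 5102 → P i := stepQ 5101 Q5101 (allL N5101 (tt N5758 F200761) (tt N6328 (iv F47982)) (tt N4077 F34569) (tt N3968 (iv D7602)) (tt N6389 D11040) (tt N6388 (iv F49112)) (tt N5101 F34570) (tt N3995 F34571) (tt N5909 (iv F44927)) (tt N5767 F200762))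
theorem Q5103 : ∀ i, i < 5103 → P i := stepQ 5102 Q5102 (allL N5102 (tt N3977 F34628) (tt N6337 F200719) (tt N3975 F34629) (tt N5924 (iv F44981)) (tt N6390 D11059) (tt N3974 (iv D7617)) (tt N6391 D11060) (tt N6378 (iv F48934)) (tt N6334 F200720) (tt N3988 F34630))
theorem Q5104 : ∀ i, i < 5104 → P i := stepQ 5103 Q5103 (allL N5103 (tt N3979 F34635) (tt N4186 F34636) (tt N6390 (iv F49196)) (tt N5103 F34637) (tt N3975 (iv D7619)) (tt N5103 F34638) (tt N6392 D11064) (tt N6379 (iv F48945)) (tt N6347 F200815) (tt N3989 F34639))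
theorem Q5105 : ∀ i, i < 5105 → P i := stepQ 5104 Q5104 (allL N5104 (tt N3980 F34640) (tt N4187 F34641) (tt N6391 (iv F49200)) (tt N3976 F34642) (tt N6392 (iv F49217)) (tt N4004 F34643) (tt N3975 (iv D7620)) (tt N6393 D11066) (tt N6348 (iv F201086)) (tt N3990 F34644))
theorem Q5106 : ∀ i, i < 5106 → P i := stepQ 5105 Q5105 (allL N5105 (tt N3982 F34655) (tt N4188 F34656) (tt N5930 (iv F45006)) (tt N6393 (iv F49225)) (tt N5105 F34657) (tt N4005 F34658) (tt N6381 (iv F48968)) (tt N3976 (iv D7623)) (tt N5105 F34659) (tt N3991 F34660))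
theorem Q5107 : ∀ i, i < 5107 → P i := stepQ 5106 Q5106 (allL N5106 (tt N6390 (iv F49195)) (tt N6330 (iv F48186)) (tt N3979 F34661) (tt N6394 D11069) (tt N3977 (iv D7624)) (tt N5106 F34662) (tt N6395 D11070) (tt N6382 (iv F48973)) (tt N6396 D11071) (tt N3992 F34663))
theorem Q5108 : ∀ i, i < 5108 → P i := stepQ 5107 Q5107 (allL N5107 (tt N6391 (iv F49199)) (tt N6331 (iv F48190)) (tt N3980 F34664) (tt N5932 (iv F45014)) (tt N6395 (iv F49242)) (tt N4007 F34665) (tt N3977 (iv D7625)) (tt N6397 D11072) (tt N6398 D11073) (tt N3993 F34666))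
theorem Q5109 : ∀ i, i < 5109 → P i := stepQ 5108 Q5108 (allL N5108 (tt N6334 F200721) (tt N3988 (iv F201044)) (tt N3981 F34667) (tt N5948 (iv F201050)) (tt N6396 (iv F49245)) (tt N3978 F34668) (tt N6398 (iv F49252)) (tt N6384 (iv F48980)) (tt N3977 (iv D7626)) (tt N6337 F200707))
theorem Q5110 : ∀ i, i < 5110 → P i := stepQ 5109 Q5109 (allL N5109 (tt N6392 (iv F49214)) (tt N3983 F34675) (tt N6395 (iv F49241)) (tt N5109 F34676) (tt N3980 F34677) (tt N6377 (iv F201237)) (tt N3979 (iv D7629)) (tt N6348 (iv F201085)) (tt N6393 (iv F201015)) (tt N3996 F34678))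
theorem Q5111 : ∀ i, i < 5111 → P i := stepQ 5110 Q5110 (allL N5110 (tt N6347 F200687) (tt N3984 F34679) (tt N6396 (iv F49244)) (tt N6381 (iv F201029)) (tt N3981 F34680) (tt N5110 F34681) (tt N6393 (iv F201014)) (tt N6380 F200690) (tt N3979 (iv D7630)) (tt N6338 F200689))
theorem Q5112 : ∀ i, i < 5112 → P i := stepQ 5111 Q5111 (allL N5111 (tt N6393 (iv F49223)) (tt N3985 F34682) (tt N6397 (iv F49247)) (tt N3982 F34683) (tt N6348 (iv F201084)) (tt N4011 F34684) (tt N6347 F200825) (tt N3980 (iv D7631)) (tt N6392 (iv F201082)) (tt N3998 F34685))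
theorem Q5113 : ∀ i, i < 5113 → P i := stepQ 5112 Q5112 (allL N5112 (tt N6348 F200829) (tt N3986 F34686) (tt N6398 (iv F49250)) (tt N5112 F34687) (tt N6393 (iv F201013)) (tt N4012 F34688) (tt N3981 F34689) (tt N6392 (iv F201081)) (tt N3980 (iv D7632)) (tt N6339 F200830))
theorem Q5114 : ∀ i, i < 5114 → P i := stepQ 5113 Q5113 (allL N5113 (tt N4190 F200810) (tt N6393 (iv F201012)) (tt N4191 F200811) (tt N4188 F200812) (tt N3986 F34704) (tt N4194 (iv F201212)) (tt N3984 F34705) (tt N4187 F200813) (tt N3983 (iv D7636)) (tt N4192 F200814))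
theorem Q5115 : ∀ i, i < 5115 → P i := stepQ 5114 Q5114 (allL N5114 (tt N4182 F200277) (tt N6381 (iv F200436)) (tt N5114 F194178) (tt N3984 (iv D7637)) (tt N5114 F34707) (tt N5114 F34708) (tt N4188 (iv F200501)) (tt N4179 F200278) (tt N5114 F34709) (tt N4185 F200279))
theorem Q5116 : ∀ i, i < 5116 → P i := stepQ 5115 Q5115 (allL N5115 (tt N4168 F200340) (tt N6338 (iv F200435)) (tt N4186 (iv F200502)) (tt N4185 F200275) (tt N3987 F34711) (tt N5115 F34712) (tt N4192 (iv F200500)) (tt N4184 F200276) (tt N4000 F34713) (tt N3984 (iv D7638)))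
theorem Q5117 : ∀ i, i < 5117 → P i := stepQ 5116 Q5116 (allL N5116 (tt N4189 F200816) (tt N6392 (iv F201080)) (tt N4192 F200817) (tt N5116 F34715) (tt N4187 F200818) (tt N4018 F34716) (tt N4186 F200819) (tt N3986 F34717) (tt N3985 (iv D7639)) (tt N4191 F200820))
theorem Q5118 : ∀ i, i < 5118 → P i := stepQ 5117 Q5117 (allL N5117 (tt N4169 F200412) (tt N6339 (iv F200637)) (tt N4187 (iv F200601)) (tt N5117 F34719) (tt N4192 (iv F200499)) (tt N4019 F34720) (tt N3987 F34721) (tt N4191 (iv F200513)) (tt N4001 F34722) (tt N3986 (iv D7640)))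
theorem Q5119 : ∀ i, i < 5119 → P i := stepQ 5118 Q5118 (allL N5118 (tt N3992 F34729) (tt N6396 (iv F201027)) (tt N3989 F34730) (tt N6399 D11098) (tt N3988 (iv D7643)) (tt N5118 F34731) (tt N6400 D11099) (tt N6385 (iv F49055)) (tt N6330 (iv F201055)) (tt N6390 (iv F49198)))
theorem Q5120 : ∀ i, i < 5120 → P i := stepQ 5119 Q5119 (allL N5119 (tt N3993 F34732) (tt N6398 F201414) (tt N3990 F34733) (tt N5950 (iv F45079)) (tt N6400 (iv F49346)) (tt N4021 F34734) (tt N3988 (iv D7644)) (tt N6401 D11101) (tt N6331 F201415) (tt N6391 (iv F49202)))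
theorem Q5121 : ∀ i, i < 5121 → P i := stepQ 5120 Q5120 (allL N5120 (tt N3996 F34745) (tt N4191 F34746) (tt N6400 (iv F49345)) (tt N5120 F34747) (tt N3990 F34748) (tt N6363 (iv F201079)) (tt N3989 (iv D7648)) (tt N6339 F200728) (tt N6332 F200729) (tt N6392 (iv F49218)))
theorem Q5122 : ∀ i, i < 5122 → P i := stepQ 5121 Q5121 (allL N5121 (tt N3998 F34753) (tt N4192 F34754) (tt N6401 (iv F49352)) (tt N3991 F34755) (tt N6339 F200682) (tt N4023 F34756) (tt N6338 F200683) (tt N3990 (iv D7650)) (tt N6333 F200684) (tt N6393 (iv F49227)))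
theorem Q5123 : ∀ i, i < 5123 → P i := stepQ 5122 Q5122 (allL N5122 (tt N6399 (iv F49341)) (tt N6340 (iv F48293)) (tt N5122 F34766) (tt N3992 (iv D7653)) (tt N5958 (iv F45112)) (tt N5122 F34767) (tt N6402 D11114) (tt N6387 (iv F49098)) (tt N6403 D11115) (tt N6394 (iv F49240)))
theorem Q5124 : ∀ i, i < 5124 → P i := stepQ 5123 Q5123 (allL N5123 (tt N6400 (iv F49344)) (tt N6341 (iv F48295)) (tt N3996 F34768) (tt N6402 (iv F49405)) (tt N3993 F34769) (tt N6370 (iv F201328)) (tt N3992 (iv D7654)) (tt N6344 (iv F201062)) (tt N6343 (iv F201031)) (tt N6395 (iv F49243)))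
theorem Q5125 : ∀ i, i < 5125 → P i := stepQ 5124 Q5124 (allL N5124 (tt N6330 (iv F201054)) (tt N6342 (iv F48298)) (tt N3997 F34770) (tt N6404 D11119) (tt N3994 F34771) (tt N5124 F34772) (tt N6343 (iv F201030)) (tt N6326 F200723) (tt N3992 (iv D7655)) (tt N6335 (iv F201022)))
theorem Q5126 : ∀ i, i < 5126 → P i := stepQ 5125 Q5125 (allL N5125 (tt N6401 (iv F49351)) (tt N6343 (iv F48302)) (tt N3998 F34773) (tt N5961 (iv F45118)) (tt N6344 (iv F201061)) (tt N4027 F34774) (tt N6342 F200972) (tt N3993 (iv D7656)) (tt N6341 (iv F201041)) (tt N6397 (iv F49249)))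
theorem Q5127 : ∀ i, i < 5127 → P i := stepQ 5126 Q5126 (allL N5126 (tt N6331 F201425) (tt N6344 (iv F48305)) (tt N3999 F34775) (tt N6405 D11122) (tt N6343 F201426) (tt N4028 F34776) (tt N3994 F34777) (tt N6341 F201427) (tt N3993 (iv D7657)) (tt N6336 F201428))
theorem Q5128 : ∀ i, i < 5128 → P i := stepQ 5127 Q5127 (allL N5127 (tt N5788 F201447) (tt N6345 (iv F48309)) (tt N4093 F34778) (tt N3994 (iv D7658)) (tt N6406 D11124) (tt N3995 F34779) (tt N6405 (iv F49425)) (tt N6388 (iv F49113)) (tt N5963 (iv F45125)) (tt N5801 F201448))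
theorem Q5129 : ∀ i, i < 5129 → P i := stepQ 5128 Q5128 (allL N5128 (tt N5400 F201530) (tt N6346 (iv F48315)) (tt N4094 F34782) (tt N5128 F34783) (tt N3995 (iv D7660)) (tt N6407 D11126) (tt N4030 F34784) (tt N6389 (iv F49120)) (tt N5965 (iv F45130)) (tt N5409 F201531))
theorem Q5130 : ∀ i, i < 5130 → P i := stepQ 5129 Q5129 (allL N5129 (tt N4006 F34851) (tt N6358 F201650) (tt N4003 F34852) (tt N6408 D11153) (tt N4002 (iv D7679)) (tt N5129 F34853) (tt N6409 D11154) (tt N5129 F34854) (tt N6354 F201651) (tt N4020 F34855))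
theorem Q5131 : ∀ i, i < 5131 → P i := stepQ 5130 Q5130 (allL N5130 (tt N4007 F34856) (tt N6360 F201457) (tt N4004 F34857) (tt N5984 (iv F45197)) (tt N6409 (iv F49539)) (tt N6391 (iv F49201)) (tt N4002 (iv D7680)) (tt N6410 D11156) (tt N6355 F201458) (tt N4021 F34858))
theorem Q5132 : ∀ i, i < 5132 → P i := stepQ 5131 Q5131 (allL N5131 (tt N4009 F34871) (tt N4193 F34872) (tt N6409 (iv F49538)) (tt N4039 F34873) (tt N4004 F34874) (tt N6411 D11162) (tt N4003 (iv D7684)) (tt N6412 D11163) (tt N6374 (iv F201920)) (tt N4022 F34875))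
theorem Q5133 : ∀ i, i < 5133 → P i := stepQ 5132 Q5132 (allL N5132 (tt N4011 F34881) (tt N4194 F34882) (tt N6410 (iv F49547)) (tt N4005 F34883) (tt N6412 (iv F49578)) (tt N6393 (iv F49226)) (tt N5132 F34884) (tt N4004 (iv D7686)) (tt N6377 F201419) (tt N4023 F34885))
theorem Q5134 : ∀ i, i < 5134 → P i := stepQ 5133 Q5133 (allL N5133 (tt N6408 (iv F49532)) (tt N6349 (iv F48614)) (tt N4043 F34896) (tt N4006 (iv D7689)) (tt N5992 (iv F45236)) (tt N5133 F34897) (tt N6413 D11169) (tt N5133 F34898) (tt N6414 D11170) (tt N4024 F34899))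
theorem Q5135 : ∀ i, i < 5135 → P i := stepQ 5134 Q5134 (allL N5134 (tt N6409 (iv F49537)) (tt N6350 (iv F48619)) (tt N4009 F34900) (tt N6413 (iv F49608)) (tt N4007 F34901) (tt N6415 D11171) (tt N4006 (iv D7690)) (tt N6416 D11172) (tt N6417 D11173) (tt N4025 F34902))
theorem Q5136 : ∀ i, i < 5136 → P i := stepQ 5135 Q5135 (allL N5135 (tt N6354 F201652) (tt N4020 (iv F201966)) (tt N4010 F34903) (tt N6418 D11174) (tt N4008 F34904) (tt N5135 F34905) (tt N6417 (iv F49622)) (tt N5135 F34906) (tt N4006 (iv D7691)) (tt N6358 F201640))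
theorem Q5137 : ∀ i, i < 5137 → P i := stepQ 5136 Q5136 (allL N5136 (tt N6410 (iv F49546)) (tt N6351 (iv F48628)) (tt N4011 F34907) (tt N5995 (iv F45246)) (tt N6416 (iv F49617)) (tt N6397 (iv F49248)) (tt N5136 F34908) (tt N4007 (iv D7692)) (tt N6419 D11176) (tt N4027 F34909))
theorem Q5138 : ∀ i, i < 5138 → P i := stepQ 5137 Q5137 (allL N5137 (tt N6355 F201459) (tt N4021 (iv F201835)) (tt N4012 F34910) (tt N6016 (iv F201861)) (tt N6417 (iv F49621)) (tt N6398 (iv F49251)) (tt N4008 F34911) (tt N6419 (iv F49632)) (tt N4007 (iv D7693)) (tt N6360 F201445))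
theorem Q5139 : ∀ i, i < 5139 → P i := stepQ 5138 Q5138 (allL N5138 (tt N6411 (iv F49570)) (tt N4013 F34925) (tt N6415 (iv F49613)) (tt N4048 F34926) (tt N6377 F201636) (tt N4009 (iv D7698)) (tt N5138 F34927) (tt N6374 (iv F201919)) (tt N6412 (iv F201829)) (tt N4031 F34928))
theorem Q5140 : ∀ i, i < 5140 → P i := stepQ 5139 Q5139 (allL N5139 (tt N6412 (iv F49575)) (tt N4014 F34929) (tt N6416 (iv F49616)) (tt N4049 F34930) (tt N4011 F34931) (tt N6374 (iv F201918)) (tt N5139 F34932) (tt N4009 (iv D7699)) (tt N6411 (iv F201915)) (tt N4032 F34933))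
theorem Q5141 : ∀ i, i < 5141 → P i := stepQ 5140 Q5140 (allL N5140 (tt N6374 F201633) (tt N4015 F34934) (tt N6417 (iv F49620)) (tt N6420 D11187) (tt N4012 F34935) (tt N6412 (iv F201828)) (tt N4010 F34936) (tt N6411 (iv F201914)) (tt N4009 (iv D7700)) (tt N6361 F201634))
theorem Q5142 : ∀ i, i < 5142 → P i := stepQ 5141 Q5141 (allL N5141 (tt N6376 F201658) (tt N4016 F34937) (tt N6421 D11189) (tt N4010 (iv D7701)) (tt N5141 F34938) (tt N5141 F34939) (tt N6420 (iv F49667)) (tt N5141 F34940) (tt N4051 F34941) (tt N6362 F201659))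
theorem Q5143 : ∀ i, i < 5143 → P i := stepQ 5142 Q5142 (allL N5142 (tt N6377 F201478) (tt N4018 F34947) (tt N6419 (iv F49630)) (tt N5142 F34948) (tt N6411 (iv F201913)) (tt N6392 F201483) (tt N5142 F34949) (tt N4012 F34950) (tt N4011 (iv D7703)) (tt N6363 F201479))
theorem Q5144 : ∀ i, i < 5144 → P i := stepQ 5143 Q5143 (allL N5143 (tt N4196 F201620) (tt N6412 (iv F201827)) (tt N4198 F201621) (tt N4208 (iv F202038)) (tt N4194 F201622) (tt N4015 F34960) (tt N5143 F34961) (tt N4193 F201623) (tt N4013 (iv D7706)) (tt N4199 F201624))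
theorem Q5145 : ∀ i, i < 5145 → P i := stepQ 5144 Q5144 (allL N5144 (tt N4195 F201616) (tt N6411 (iv F201912)) (tt N4199 F201617) (tt N4207 (iv F202036)) (tt N4018 F34963) (tt N4193 F201618) (tt N5144 F34964) (tt N4015 F34965) (tt N4014 (iv D7707)) (tt N4198 F201619))
theorem Q5146 : ∀ i, i < 5146 → P i := stepQ 5145 Q5145 (allL N5145 (tt N4197 F34966) (tt N6420 (iv F49665)) (tt N4225 (iv F202042)) (tt N4015 (iv D7708)) (tt N5145 F34967) (tt N4208 (iv F202039)) (tt N4016 F34968) (tt N4207 (iv F202037)) (tt N4056 F34969) (tt N4228 F201635))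
theorem Q5147 : ∀ i, i < 5147 → P i := stepQ 5146 Q5146 (allL N5146 (tt N4175 F200992) (tt N6361 (iv F201341)) (tt N4193 (iv F201321)) (tt N4228 (iv F201342)) (tt N4019 F34971) (tt N4199 (iv F201211)) (tt N4017 F34972) (tt N4198 (iv F201230)) (tt N4035 F34973) (tt N4015 (iv D7709)))
theorem Q5148 : ∀ i, i < 5148 → P i := stepQ 5147 Q5147 (allL N5147 (tt N4176 F201001) (tt N6362 (iv F201356)) (tt N4202 (iv F201358)) (tt N4017 F34980) (tt N5147 F34981) (tt N5147 F34982) (tt N4228 (iv F201343)) (tt N5147 F34983) (tt N5147 F34984) (tt N4016 (iv D7711)))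
theorem Q5149 : ∀ i, i < 5149 → P i := stepQ 5148 Q5148 (allL N5148 (tt N4177 F200841) (tt N6363 (iv F201078)) (tt N4194 (iv F201221)) (tt N5148 F34986) (tt N4198 (iv F201229)) (tt N4191 F200831) (tt N5148 F34987) (tt N4019 F34988) (tt N4036 F34989) (tt N4018 (iv D7712)))
theorem Q5150 : ∀ i, i < 5150 → P i := stepQ 5149 Q5149 (allL N5149 (tt N4024 F35006) (tt N6418 F202377) (tt N4060 F35007) (tt N4020 (iv D7718)) (tt N6017 (iv F45341)) (tt N5149 F35008) (tt N6422 D11212) (tt N5149 F35009) (tt N6423 D11213) (tt N6408 (iv F49536)))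
theorem Q5151 : ∀ i, i < 5151 → P i := stepQ 5150 Q5150 (allL N5150 (tt N4025 F35010) (tt N6417 F202283) (tt N4022 F35011) (tt N6422 (iv F49768)) (tt N4021 F35012) (tt N6424 D11214) (tt N4020 (iv D7719)) (tt N6425 D11215) (tt N6350 F202284) (tt N6409 (iv F49540)))
theorem Q5152 : ∀ i, i < 5152 → P i := stepQ 5151 Q5151 (allL N5151 (tt N4027 F35018) (tt N6419 (iv F201831)) (tt N4023 F35019) (tt N6020 (iv F45352)) (tt N6425 (iv F49778)) (tt N6401 (iv F49353)) (tt N5151 F35020) (tt N4021 (iv D7721)) (tt N6351 F201413) (tt N6410 (iv F49549)))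
theorem Q5153 : ∀ i, i < 5153 → P i := stepQ 5152 Q5152 (allL N5152 (tt N4031 F35040) (tt N4198 F35041) (tt N6424 (iv F49774)) (tt N4063 F35042) (tt N6363 F201480) (tt N4022 (iv D7727)) (tt N5152 F35043) (tt N6361 F201481) (tt N6352 F201482) (tt N6411 (iv F49574)))
theorem Q5154 : ∀ i, i < 5154 → P i := stepQ 5153 Q5153 (allL N5153 (tt N4032 F35044) (tt N4199 F35045) (tt N6425 (iv F49777)) (tt N4064 F35046) (tt N4023 F35047) (tt N6361 F201416) (tt N5153 F35048) (tt N4022 (iv D7728)) (tt N6353 F201417) (tt N6412 (iv F49580)))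
theorem Q5155 : ∀ i, i < 5155 → P i := stepQ 5154 Q5154 (allL N5154 (tt N6422 (iv F49766)) (tt N6364 (iv F48800)) (tt N4065 F35069) (tt N4025 F35070) (tt N6030 (iv F45406)) (tt N6426 D11232) (tt N4024 (iv D7733)) (tt N6427 D11233) (tt N6428 D11234) (tt N6413 (iv F49609)))
theorem Q5156 : ∀ i, i < 5156 → P i := stepQ 5155 Q5155 (allL N5155 (tt N6423 (iv F49769)) (tt N6365 (iv F48803)) (tt N4066 F35071) (tt N6429 D11235) (tt N6031 (iv F45408)) (tt N5155 F35072) (tt N6428 (iv F49855)) (tt N5155 F35073) (tt N4024 (iv D7734)) (tt N6430 D11236))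
theorem Q5157 : ∀ i, i < 5157 → P i := stepQ 5156 Q5156 (allL N5156 (tt N6424 (iv F49773)) (tt N6366 (iv F48807)) (tt N4031 F35074) (tt N6426 (iv F49849)) (tt N6370 F201692) (tt N4025 (iv D7735)) (tt N5156 F35075) (tt N6368 (iv F201888)) (tt N6367 (iv F201838)) (tt N6415 (iv F49615)))
theorem Q5158 : ∀ i, i < 5158 → P i := stepQ 5157 Q5157 (allL N5157 (tt N6425 (iv F49776)) (tt N6367 (iv F48810)) (tt N4032 F35076) (tt N6427 (iv F49852)) (tt N4027 F35077) (tt N6368 (iv F201887)) (tt N5157 F35078) (tt N4025 (iv D7736)) (tt N6366 (iv F201853)) (tt N6416 (iv F49619)))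
theorem Q5159 : ∀ i, i < 5159 → P i := stepQ 5158 Q5158 (allL N5158 (tt N6350 F202287) (tt N6368 (iv F48814)) (tt N4033 F35079) (tt N6431 D11240) (tt N4028 F35080) (tt N6367 F202288) (tt N4026 F35081) (tt N6366 F202289) (tt N4025 (iv D7737)) (tt N6357 F202290))
theorem Q5160 : ∀ i, i < 5160 → P i := stepQ 5159 Q5159 (allL N5159 (tt N6349 F202381) (tt N6369 (iv F48818)) (tt N5159 F35082) (tt N4026 (iv D7738)) (tt N6432 D11242) (tt N5159 F35083) (tt N6431 (iv F49873)) (tt N5159 F35084) (tt N6429 (iv F49859)) (tt N6356 F202382))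
theorem Q5161 : ∀ i, i < 5161 → P i := stepQ 5160 Q5160 (allL N5160 (tt N6351 F201434) (tt N6370 (iv F48826)) (tt N4034 F35089) (tt N6433 D11244) (tt N6366 (iv F201852)) (tt N6341 F201435) (tt N5160 F35090) (tt N4028 F35091) (tt N4027 (iv D7740)) (tt N6359 F201436))
theorem Q5162 : ∀ i, i < 5162 → P i := stepQ 5161 Q5161 (allL N5161 (tt N5831 F202273) (tt N6371 (iv F48830)) (tt N4104 F35092) (tt N4028 (iv D7741)) (tt N6434 D11246) (tt N6405 (iv F49424)) (tt N4029 F35093) (tt N6433 (iv F49886)) (tt N6038 (iv F45426)) (tt N5849 F202274))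
theorem Q5163 : ∀ i, i < 5163 → P i := stepQ 5162 Q5162 (allL N5162 (tt N5830 F202370) (tt N6372 (iv F48836)) (tt N4105 F35096) (tt N6432 (iv F49878)) (tt N4029 (iv D7743)) (tt N6435 D11248) (tt N6434 (iv F49891)) (tt N5162 F35097) (tt N6040 (iv F45431)) (tt N5848 F202371))
theorem Q5164 : ∀ i, i < 5164 → P i := stepQ 5163 Q5163 (allL N5163 (tt N5425 F202368) (tt N6373 (iv F48844)) (tt N4106 F35102) (tt N5163 F35103) (tt N6435 (iv F49896)) (tt N4030 (iv D7745)) (tt N6436 D11251) (tt N5163 F35104) (tt N6042 (iv F45438)) (tt N5438 F202369))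
theorem Q5165 : ∀ i, i < 5165 → P i := stepQ 5164 Q5164 (allL N5164 (tt N4043 F35170) (tt N5634 (iv F202934)) (tt N6408 (iv F49533)) (tt N4037 (iv D7761)) (tt N5644 (iv F202931)) (tt N5164 F35171) (tt N6437 D11268) (tt N5164 F35172) (tt N6438 D11269) (tt N4060 F35173))
theorem Q5166 : ∀ i, i < 5166 → P i := stepQ 5165 Q5165 (allL N5165 (tt N4044 F35174) (tt N5633 (iv F202923)) (tt N4039 F35175) (tt N6437 (iv F49986)) (tt N4038 F35176) (tt N6439 D11270) (tt N4037 (iv D7762)) (tt N6440 D11271) (tt N5629 (iv F202927)) (tt N4061 F35177))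
theorem Q5167 : ∀ i, i < 5167 → P i := stepQ 5166 Q5166 (allL N5166 (tt N4046 F35184) (tt N5635 (iv F203564)) (tt N4041 F35185) (tt N5645 (iv F203558)) (tt N6440 (iv F49998)) (tt N5166 F35186) (tt N5166 F35187) (tt N4038 (iv D7764)) (tt N5630 (iv F203569)) (tt N4062 F35188))
theorem Q5168 : ∀ i, i < 5168 → P i := stepQ 5167 Q5167 (allL N5167 (tt N4048 F35205) (tt N4207 F35206) (tt N6439 (iv F49992)) (tt N6411 (iv F49572)) (tt N5167 F35207) (tt N4039 (iv D7768)) (tt N5167 F35208) (tt N6420 F202324) (tt N6441 D11279) (tt N4063 F35209))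
theorem Q5169 : ∀ i, i < 5169 → P i := stepQ 5168 Q5168 (allL N5168 (tt N4049 F35210) (tt N4208 F35211) (tt N6440 (iv F49997)) (tt N6412 (iv F49577)) (tt N4041 F35212) (tt N6420 F202280) (tt N5168 F35213) (tt N4039 (iv D7769)) (tt N6442 D11280) (tt N4064 F35214))
theorem Q5170 : ∀ i, i < 5170 → P i := stepQ 5169 Q5169 (allL N5169 (tt N4050 F35215) (tt N4209 F35216) (tt N5629 (iv F202926)) (tt N6443 D11281) (tt N4042 F35217) (tt N6441 (iv F50038)) (tt N4040 F35218) (tt N6442 (iv F50045)) (tt N4039 (iv D7770)) (tt N5169 F35219))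
theorem Q5171 : ∀ i, i < 5171 → P i := stepQ 5170 Q5170 (allL N5170 (tt N4051 F35220) (tt N4210 F35221) (tt N6444 D11282) (tt N4040 (iv D7771)) (tt N5170 F35222) (tt N5170 F35223) (tt N6443 (iv F50050)) (tt N5170 F35224) (tt N6376 F201706) (tt N5170 F35225))
theorem Q5172 : ∀ i, i < 5172 → P i := stepQ 5171 Q5171 (allL N5171 (tt N4052 F35226) (tt N4211 F35227) (tt N5630 (iv F203568)) (tt N5171 F35228) (tt N6442 (iv F50043)) (tt N5171 F35229) (tt N5171 F35230) (tt N4042 F35231) (tt N4041 (iv D7772)) (tt N5171 F35232))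
theorem Q5173 : ∀ i, i < 5173 → P i := stepQ 5172 Q5172 (allL N5172 (tt N6437 (iv F49985)) (tt N5172 F35233) (tt N6413 (iv F49607)) (tt N4044 F35234) (tt N6065 (iv F45617)) (tt N6445 D11283) (tt N4043 (iv D7773)) (tt N6446 D11284) (tt N6447 D11285) (tt N4065 F35235))
theorem Q5174 : ∀ i, i < 5174 → P i := stepQ 5173 Q5173 (allL N5173 (tt N6438 (iv F49988)) (tt N5173 F35236) (tt N6414 (iv F49610)) (tt N6448 D11286) (tt N6066 (iv F45620)) (tt N5173 F35237) (tt N6447 (iv F50066)) (tt N5173 F35238) (tt N4043 (iv D7774)) (tt N6449 D11287))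
theorem Q5175 : ∀ i, i < 5175 → P i := stepQ 5174 Q5174 (allL N5174 (tt N6439 (iv F49991)) (tt N5174 F35239) (tt N4048 F35240) (tt N6445 (iv F50058)) (tt N5174 F35241) (tt N4044 (iv D7775)) (tt N5174 F35242) (tt N6450 D11288) (tt N6451 D11289) (tt N4067 F35243))
theorem Q5176 : ∀ i, i < 5176 → P i := stepQ 5175 Q5175 (allL N5175 (tt N6440 (iv F49996)) (tt N5175 F35244) (tt N4049 F35245) (tt N6446 (iv F50062)) (tt N4046 F35246) (tt N6450 (iv F50078)) (tt N5175 F35247) (tt N4044 (iv D7776)) (tt N6452 D11290) (tt N4068 F35248))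
theorem Q5177 : ∀ i, i < 5177 → P i := stepQ 5176 Q5176 (allL N5176 (tt N5629 (iv F202925)) (tt N5176 F35249) (tt N4050 F35250) (tt N6453 D11291) (tt N4047 F35251) (tt N6451 (iv F50083)) (tt N4045 F35252) (tt N6452 (iv F50090)) (tt N4044 (iv D7777)) (tt N5176 F35253))
theorem Q5178 : ∀ i, i < 5178 → P i := stepQ 5177 Q5177 (allL N5177 (tt N5554 (iv F202977)) (tt N5177 F35254) (tt N6454 D11292) (tt N4045 (iv D7778)) (tt N5549 (iv F202979)) (tt N5177 F35255) (tt N6453 (iv F50093)) (tt N5177 F35256) (tt N6448 (iv F50070)) (tt N5177 F35257))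
theorem Q5179 : ∀ i, i < 5179 → P i := stepQ 5178 Q5178 (allL N5178 (tt N5630 (iv F203567)) (tt N5178 F35258) (tt N4052 F35259) (tt N5628 (iv F203773)) (tt N6452 (iv F50088)) (tt N5178 F35260) (tt N5178 F35261) (tt N4047 F35262) (tt N4046 (iv D7779)) (tt N5178 F35263))
theorem Q5180 : ∀ i, i < 5180 → P i := stepQ 5179 Q5179 (allL N5179 (tt N6420 (iv F202043)) (tt N4053 F35278) (tt N6450 (iv F50076)) (tt N6374 F202326) (tt N5179 F35279) (tt N4049 F35280) (tt N6376 F202327) (tt N4048 (iv D7783)) (tt N6443 (iv F202557)) (tt N4069 F35281))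
theorem Q5181 : ∀ i, i < 5181 → P i := stepQ 5180 Q5180 (allL N5180 (tt N6441 (iv F50035)) (tt N4054 F35282) (tt N6451 (iv F50081)) (tt N6442 (iv F202717)) (tt N5180 F35283) (tt N4050 F35284) (tt N5180 F35285) (tt N6443 (iv F202556)) (tt N4048 (iv D7784)) (tt N5180 F35286))
theorem Q5182 : ∀ i, i < 5182 → P i := stepQ 5181 Q5181 (allL N5181 (tt N6442 (iv F50041)) (tt N4055 F35287) (tt N6452 (iv F50087)) (tt N6441 (iv F202780)) (tt N4052 F35288) (tt N6443 (iv F202555)) (tt N5181 F35289) (tt N4050 F35290) (tt N4049 (iv D7785)) (tt N5181 F35291))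
theorem Q5183 : ∀ i, i < 5183 → P i := stepQ 5182 Q5182 (allL N5182 (tt N6443 (iv F50047)) (tt N4056 F35292) (tt N6455 D11302) (tt N4050 (iv D7786)) (tt N5182 F35293) (tt N6442 (iv F202718)) (tt N4051 F35294) (tt N6441 (iv F202781)) (tt N6420 (iv F49668)) (tt N5182 F35295))
theorem Q5184 : ∀ i, i < 5184 → P i := stepQ 5183 Q5183 (allL N5183 (tt N6444 (iv F50052)) (tt N6456 D11303) (tt N4051 (iv D7787)) (tt N6454 (iv F50095)) (tt N5183 F35296) (tt N5183 F35297) (tt N6455 (iv F50143)) (tt N5183 F35298) (tt N6421 (iv F49676)) (tt N5183 F35299))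
theorem Q5185 : ∀ i, i < 5185 → P i := stepQ 5184 Q5184 (allL N5184 (tt N4220 F202155) (tt N6443 (iv F202554)) (tt N5184 F35307) (tt N4209 F202156) (tt N5184 F35308) (tt N4055 F35309) (tt N4210 F202157) (tt N4054 F35310) (tt N4053 (iv D7789)) (tt N5184 F35311))
theorem Q5186 : ∀ i, i < 5186 → P i := stepQ 5185 Q5185 (allL N5185 (tt N4219 F202432) (tt N6442 (iv F202716)) (tt N6457 D11306) (tt N4054 (iv D7790)) (tt N4211 F202433) (tt N4056 F35313) (tt N5185 F35314) (tt N4209 F202434) (tt N4208 F202435) (tt N5185 F35315))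
theorem Q5187 : ∀ i, i < 5187 → P i := stepQ 5186 Q5186 (allL N5186 (tt N4218 F202429) (tt N6441 (iv F202779)) (tt N6458 D11308) (tt N4055 (iv D7791)) (tt N5186 F35317) (tt N4209 F202430) (tt N5186 F35318) (tt N4056 F35319) (tt N4207 F202431) (tt N5186 F35320))
theorem Q5188 : ∀ i, i < 5188 → P i := stepQ 5187 Q5187 (allL N5187 (tt N4221 F35321) (tt N6459 D11309) (tt N4056 (iv D7792)) (tt N5187 F35322) (tt N5187 F35323) (tt N6457 (iv F50163)) (tt N4057 F35324) (tt N6458 (iv F50175)) (tt N4225 F202436) (tt N5187 F35325))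
theorem Q5189 : ∀ i, i < 5189 → P i := stepQ 5188 Q5188 (allL N5188 (tt N5188 F193213) (tt N4057 (iv D7793)) (tt N6456 (iv F50145)) (tt N5188 F35326) (tt N5188 F35327) (tt N5188 F35328) (tt N6459 (iv F50179)) (tt N5188 F35329) (tt N4222 F202475) (tt N5188 F35330))
theorem Q5190 : ∀ i, i < 5190 → P i := stepQ 5189 Q5189 (allL N5189 (tt N5189 F35331) (tt N4060 F35332) (tt N6460 D11311) (tt N4058 (iv D7794)) (tt N5652 (iv F203652)) (tt N5189 F35333) (tt N6461 D11312) (tt N5189 F35334) (tt N6462 D11313) (tt N5634 F203276))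
theorem Q5191 : ∀ i, i < 5191 → P i := stepQ 5190 Q5190 (allL N5190 (tt N5190 F35335) (tt N4061 F35336) (tt N4223 F35337) (tt N6461 (iv F50193)) (tt N4059 F35338) (tt N6463 D11314) (tt N4058 (iv D7795)) (tt N6464 D11315) (tt N5190 F35339) (tt N5633 F203156))
theorem Q5192 : ∀ i, i < 5192 → P i := stepQ 5191 Q5191 (allL N5191 (tt N5191 F35340) (tt N4062 F35341) (tt N4224 F35342) (tt N5653 (iv F203551)) (tt N6464 (iv F50208)) (tt N5191 F35343) (tt N5191 F35344) (tt N4059 (iv D7796)) (tt N5191 F35345) (tt N5635 (iv F203566)))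
theorem Q5193 : ∀ i, i < 5193 → P i := stepQ 5192 Q5192 (allL N5192 (tt N4065 F35346) (tt N6461 (iv F50192)) (tt N6422 (iv F49767)) (tt N4061 F35347) (tt N6085 (iv F45787)) (tt N6465 D11316) (tt N4060 (iv D7797)) (tt N6466 D11317) (tt N6467 D11318) (tt N6437 (iv F49987)))
theorem Q5194 : ∀ i, i < 5194 → P i := stepQ 5193 Q5193 (allL N5193 (tt N4066 F35348) (tt N6462 (iv F50195)) (tt N6423 (iv F49770)) (tt N5193 F35349) (tt N6086 (iv F45789)) (tt N5193 F35350) (tt N6467 (iv F50219)) (tt N5193 F35351) (tt N4060 (iv D7798)) (tt N6468 D11319))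
theorem Q5195 : ∀ i, i < 5195 → P i := stepQ 5194 Q5194 (allL N5194 (tt N4067 F35352) (tt N6463 (iv F50200)) (tt N4063 F35353) (tt N6465 (iv F50212)) (tt N5194 F35354) (tt N4061 (iv D7799)) (tt N5194 F35355) (tt N6469 D11320) (tt N5194 F35356) (tt N6439 (iv F49995)))
theorem Q5196 : ∀ i, i < 5196 → P i := stepQ 5195 Q5195 (allL N5195 (tt N4068 F35357) (tt N6464 (iv F50206)) (tt N4064 F35358) (tt N6466 (iv F50215)) (tt N4062 F35359) (tt N6469 (iv F50227)) (tt N5195 F35360) (tt N4061 (iv D7800)) (tt N5195 F35361) (tt N6440 (iv F50000)))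
theorem Q5197 : ∀ i, i < 5197 → P i := stepQ 5196 Q5196 (allL N5196 (tt N4069 F35362) (tt N4228 F35363) (tt N6469 (iv F50225)) (tt N6361 F201700) (tt N5196 F35364) (tt N4064 F35365) (tt N6362 F201701) (tt N4063 (iv D7801)) (tt N5196 F35366) (tt N6420 (iv F202044)))
theorem Q5198 : ∀ i, i < 5198 → P i := stepQ 5197 Q5197 (allL N5197 (tt N6465 (iv F50211)) (tt N5197 F35367) (tt N6426 (iv F49848)) (tt N4067 F35368) (tt N6470 D11322) (tt N4065 (iv D7802)) (tt N5197 F35369) (tt N6471 D11323) (tt N6472 D11324) (tt N6445 (iv F50060)))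
theorem Q5199 : ∀ i, i < 5199 → P i := stepQ 5198 Q5198 (allL N5198 (tt N6466 (iv F50214)) (tt N5198 F35370) (tt N6427 (iv F49851)) (tt N4068 F35371) (tt N6095 (iv F45859)) (tt N6471 (iv F50240)) (tt N5198 F35372) (tt N4065 (iv D7803)) (tt N6473 D11325) (tt N6446 (iv F50064)))
theorem Q5200 : ∀ i, i < 5200 → P i := stepQ 5199 Q5199 (allL N5199 (tt N6467 (iv F50217)) (tt N5199 F35373) (tt N6428 (iv F49854)) (tt N5199 F35374) (tt N6096 (iv F45862)) (tt N6472 (iv F50243)) (tt N4066 F35375) (tt N6473 (iv F50248)) (tt N4065 (iv D7804)) (tt N6474 D11326))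
theorem Q5201 : ∀ i, i < 5201 → P i := stepQ 5200 Q5200 (allL N5200 (tt N6468 (iv F50220)) (tt N5200 F35376) (tt N6430 (iv F49860)) (tt N5200 F35377) (tt N6098 (iv F45869)) (tt N5200 F35378) (tt N6474 (iv F50251)) (tt N5200 F35379) (tt N6449 (iv F50074)) (tt N4066 (iv D7805)))
theorem Q5202 : ∀ i, i < 5202 → P i := stepQ 5201 Q5201 (allL N5201 (tt N6469 (iv F50224)) (tt N5201 F35380) (tt N4069 F35381) (tt N6471 (iv F50239)) (tt N5201 F35382) (tt N4068 F35383) (tt N6375 F202325) (tt N4067 (iv D7806)) (tt N5201 F35384) (tt N6450 (iv F50079)))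
theorem Q5203 : ∀ i, i < 5203 → P i := stepQ 5202 Q5202 (allL N5202 (tt N4074 F35401) (tt N5706 F201544) (tt N4071 F35402) (tt N6475 D11333) (tt N4070 (iv D7810)) (tt N4107 F35403) (tt N6476 D11334) (tt N4084 F35404) (tt N5709 F201545) (tt N5202 F35405))
theorem Q5204 : ∀ i, i < 5204 → P i := stepQ 5203 Q5203 (allL N5203 (tt N4075 F35406) (tt N5756 F201381) (tt N4072 F35407) (tt N6130 (iv F46013)) (tt N6476 (iv F50292)) (tt N5203 F35408) (tt N4070 (iv D7811)) (tt N6477 D11336) (tt N5761 F201382) (tt N5203 F35409))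
theorem Q5205 : ∀ i, i < 5205 → P i := stepQ 5204 Q5204 (allL N5204 (tt N4078 F35423) (tt N4229 F35424) (tt N6476 (iv F50291)) (tt N5204 F35425) (tt N4072 F35426) (tt N6304 (iv F201922)) (tt N4071 (iv D7815)) (tt N6314 (iv F201605)) (tt N6302 F201492) (tt N5204 F35427))
theorem Q5206 : ∀ i, i < 5206 → P i := stepQ 5205 Q5205 (allL N5205 (tt N4080 F35433) (tt N4230 F35434) (tt N6477 (iv F50300)) (tt N4073 F35435) (tt N6314 (iv F201603)) (tt N5205 F35436) (tt N4087 F35437) (tt N4072 (iv D7817)) (tt N6313 F201420) (tt N5205 F35438))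
theorem Q5207 : ∀ i, i < 5207 → P i := stepQ 5206 Q5206 (allL N5206 (tt N6475 (iv F50285)) (tt N5206 F35448) (tt N5206 F35449) (tt N4074 (iv D7820)) (tt N6138 (iv F46057)) (tt N4110 F35450) (tt N6478 D11349) (tt N4088 F35451) (tt N6479 D11350) (tt N5206 F35452))
theorem Q5208 : ∀ i, i < 5208 → P i := stepQ 5207 Q5207 (allL N5207 (tt N6476 (iv F50290)) (tt N5207 F35453) (tt N4078 F35454) (tt N6478 (iv F50363)) (tt N4075 F35455) (tt N6306 (iv F201923)) (tt N4074 (iv D7821)) (tt N6317 (iv F201609)) (tt N6305 F201496) (tt N5207 F35456))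
theorem Q5209 : ∀ i, i < 5209 → P i := stepQ 5208 Q5208 (allL N5208 (tt N5709 F201493) (tt N5208 F35457) (tt N4079 F35458) (tt N6480 D11354) (tt N4076 F35459) (tt N4112 F35460) (tt N6305 F201494) (tt N4090 F35461) (tt N4074 (iv D7822)) (tt N5715 F201495))
theorem Q5210 : ∀ i, i < 5210 → P i := stepQ 5209 Q5209 (allL N5209 (tt N6477 (iv F50299)) (tt N5209 F35462) (tt N4080 F35463) (tt N6141 (iv F46072)) (tt N6317 (iv F201608)) (tt N5209 F35464) (tt N4091 F35465) (tt N4075 (iv D7823)) (tt N6315 F201488) (tt N5209 F35466))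
theorem Q5211 : ∀ i, i < 5211 → P i := stepQ 5210 Q5210 (allL N5210 (tt N5761 (iv F201007)) (tt N5210 F35467) (tt N4081 F35468) (tt N6481 D11357) (tt N6305 (iv F201090)) (tt N5210 F35469) (tt N4076 F35470) (tt N6315 (iv F201087)) (tt N4075 (iv D7824)) (tt N5770 (iv F201006)))
theorem Q5212 : ∀ i, i < 5212 → P i := stepQ 5211 Q5211 (allL N5211 (tt N5759 F201451) (tt N5211 F35471) (tt N6388 (iv F49111)) (tt N4076 (iv D7825)) (tt N6482 D11359) (tt N4077 F35472) (tt N6481 (iv F50399)) (tt N4093 F35473) (tt N6143 (iv F46083)) (tt N5768 F201452))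
theorem Q5213 : ∀ i, i < 5213 → P i := stepQ 5212 Q5212 (allL N5212 (tt N5383 F201532) (tt N5212 F35479) (tt N6389 (iv F49117)) (tt N4115 F35480) (tt N4077 (iv D7827)) (tt N6483 D11361) (tt N5212 F35481) (tt N4094 F35482) (tt N6145 (iv F46093)) (tt N5389 F201533))
theorem Q5214 : ∀ i, i < 5214 → P i := stepQ 5213 Q5213 (allL N5213 (tt N4088 F35580) (tt N5728 F202017) (tt N5213 F35581) (tt N4084 (iv D7849)) (tt N6162 (iv F46194)) (tt N4121 F35582) (tt N6484 D11392) (tt N6475 (iv F50288)) (tt N6485 D11393) (tt N5213 F35583))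
theorem Q5215 : ∀ i, i < 5215 → P i := stepQ 5214 Q5214 (allL N5214 (tt N4089 F35584) (tt N5730 F201569) (tt N4086 F35585) (tt N6484 (iv F50549)) (tt N4085 F35586) (tt N5214 F35587) (tt N4084 (iv D7850)) (tt N6486 D11394) (tt N5735 F201570) (tt N5214 F35588))
theorem Q5216 : ∀ i, i < 5216 → P i := stepQ 5215 Q5215 (allL N5215 (tt N4091 F35593) (tt N5787 (iv F201715)) (tt N4087 F35594) (tt N6165 (iv F46207)) (tt N6486 (iv F50557)) (tt N4102 F35595) (tt N6477 (iv F50302)) (tt N4085 (iv D7852)) (tt N5794 F201632) (tt N5215 F35596))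
theorem Q5217 : ∀ i, i < 5217 → P i := stepQ 5216 Q5216 (allL N5216 (tt N4095 F35613) (tt N4231 F35614) (tt N6486 (iv F50556)) (tt N5216 F35615) (tt N4087 F35616) (tt N5216 F35617) (tt N6314 (iv F201604)) (tt N4086 (iv D7858)) (tt N6311 F201598) (tt N5216 F35618))
theorem Q5218 : ∀ i, i < 5218 → P i := stepQ 5217 Q5217 (allL N5217 (tt N6484 (iv F50547)) (tt N5217 F35642) (tt N5217 F35643) (tt N4089 F35644) (tt N6175 (iv F46264)) (tt N5217 F35645) (tt N4088 (iv D7864)) (tt N6487 D11412) (tt N6488 D11413) (tt N5217 F35646))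
theorem Q5219 : ∀ i, i < 5219 → P i := stepQ 5218 Q5218 (allL N5218 (tt N6485 (iv F50552)) (tt N5218 F35647) (tt N5218 F35648) (tt N6489 D11414) (tt N6176 (iv F46268)) (tt N4122 F35649) (tt N6488 (iv F50633)) (tt N6479 (iv F50368)) (tt N4088 (iv D7865)) (tt N6490 D11415))
theorem Q5220 : ∀ i, i < 5220 → P i := stepQ 5219 Q5219 (allL N5219 (tt N6486 (iv F50555)) (tt N5219 F35650) (tt N4095 F35651) (tt N6487 (iv F50627)) (tt N4091 F35652) (tt N5219 F35653) (tt N6317 F202024) (tt N4089 (iv D7866)) (tt N6316 F202025) (tt N5219 F35654))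
theorem Q5221 : ∀ i, i < 5221 → P i := stepQ 5220 Q5220 (allL N5220 (tt N5735 F201567) (tt N5220 F35655) (tt N4096 F35656) (tt N6491 D11417) (tt N4092 F35657) (tt N5220 F35658) (tt N4090 F35659) (tt N6316 (iv F201595)) (tt N4089 (iv D7867)) (tt N5742 F201568))
theorem Q5222 : ∀ i, i < 5222 → P i := stepQ 5221 Q5221 (allL N5221 (tt N5733 F202010) (tt N5221 F35660) (tt N6492 D11419) (tt N4090 (iv D7868)) (tt N6493 D11420) (tt N4123 F35661) (tt N6491 (iv F50648)) (tt N6480 (iv F50385)) (tt N6489 (iv F50636)) (tt N5741 F202011))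
theorem Q5223 : ∀ i, i < 5223 → P i := stepQ 5222 Q5222 (allL N5222 (tt N5794 F201475) (tt N5222 F35667) (tt N4098 F35668) (tt N6494 D11422) (tt N6316 (iv F201594)) (tt N4103 F35669) (tt N6315 F201476) (tt N4092 F35670) (tt N4091 (iv D7870)) (tt N5807 F201477))
theorem Q5224 : ∀ i, i < 5224 → P i := stepQ 5223 Q5223 (allL N5223 (tt N5791 F202185) (tt N5223 F35671) (tt N6405 (iv F49423)) (tt N4092 (iv D7871)) (tt N6495 D11424) (tt N4104 F35672) (tt N4093 F35673) (tt N6494 (iv F50664)) (tt N6183 (iv F46297)) (tt N5804 F202186))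
theorem Q5225 : ∀ i, i < 5225 → P i := stepQ 5224 Q5224 (allL N5224 (tt N5790 F202258) (tt N5224 F35679) (tt N6406 (iv F49429)) (tt N6493 (iv F50658)) (tt N4093 (iv D7873)) (tt N6496 D11426) (tt N6495 (iv F50671)) (tt N6482 (iv F50406)) (tt N6185 (iv F46304)) (tt N5803 F202259))
theorem Q5226 : ∀ i, i < 5226 → P i := stepQ 5225 Q5225 (allL N5225 (tt N5401 F202385) (tt N5225 F35683) (tt N6407 (iv F49433)) (tt N4125 F35684) (tt N6496 (iv F50677)) (tt N4094 (iv D7875)) (tt N6497 D11429) (tt N6483 (iv F50413)) (tt N6187 (iv F46310)) (tt N5410 F202386))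
theorem Q5227 : ∀ i, i < 5227 → P i := stepQ 5226 Q5226 (allL N5226 (tt N6308 (iv F201610)) (tt N5724 F201377) (tt N4097 (iv D7881)) (tt N6492 (iv F50655)) (tt N5777 F201378) (tt N4126 F35705) (tt N5748 F201379) (tt N5719 F201380) (tt N5226 F35706) (tt N6312 (iv F201599)))
theorem Q5228 : ∀ i, i < 5228 → P i := stepQ 5227 Q5227 (allL N5227 (tt N4158 F201576) (tt N6314 (iv F201602)) (tt N6299 F201577) (tt N5227 F35741) (tt N4230 (iv F199882)) (tt N4129 F35742) (tt N4231 (iv F199885)) (tt N4229 F199812) (tt N4100 (iv D7890)) (tt N5227 F35743))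
theorem Q5229 : ∀ i, i < 5229 → P i := stepQ 5228 Q5228 (allL N5228 (tt N5836 F202183) (tt N5228 F35812) (tt N6433 (iv F49884)) (tt N4103 (iv D7907)) (tt N6498 D11468) (tt N6494 (iv F50663)) (tt N5228 F35813) (tt N4104 F35814) (tt N6231 (iv F46569)) (tt N5855 F202184))
theorem Q5230 : ∀ i, i < 5230 → P i := stepQ 5229 Q5229 (allL N5229 (tt N5834 F203084) (tt N5229 F35821) (tt N6434 (iv F49890)) (tt N5229 F35822) (tt N4104 (iv D7909)) (tt N6499 D11470) (tt N4105 F35823) (tt N6498 (iv F50838)) (tt N6233 (iv F46577)) (tt N5853 F203085))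
theorem Q5231 : ∀ i, i < 5231 → P i := stepQ 5230 Q5230 (allL N5230 (tt N5427 F203262) (tt N5230 F35827) (tt N6435 (iv F49895)) (tt N5230 F35828) (tt N4106 F35829) (tt N4105 (iv D7911)) (tt N6500 D11473) (tt N5230 F35830) (tt N6235 (iv F46584)) (tt N5440 F203263))
theorem Q5232 : ∀ i, i < 5232 → P i := stepQ 5231 Q5231 (allL N5231 (tt N5428 F203264) (tt N5231 F35839) (tt N6436 (iv F49904)) (tt N4130 F35840) (tt N6500 (iv F50854)) (tt N6497 (iv F50685)) (tt N4106 (iv D7914)) (tt N6501 D11476) (tt N6237 (iv F46595)) (tt N5441 F203265))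
theorem Q5233 : ∀ i, i < 5233 → P i := stepQ 5232 Q5232 (allL N5232 (tt N4110 F35876) (tt N5705 F202401) (tt N5232 F35877) (tt N4107 (iv D7922)) (tt N5232 F35878) (tt N6475 (iv F50287)) (tt N6502 D11489) (tt N4121 F35879) (tt N6503 D11490) (tt N5232 F35880))
theorem Q5234 : ∀ i, i < 5234 → P i := stepQ 5233 Q5233 (allL N5233 (tt N4111 F35881) (tt N5691 F202399) (tt N4109 F35882) (tt N6502 (iv F50927)) (tt N4108 F35883) (tt N6504 D11491) (tt N4107 (iv D7923)) (tt N5233 F35884) (tt N5693 F202400) (tt N5233 F35885))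
theorem Q5235 : ∀ i, i < 5235 → P i := stepQ 5234 Q5234 (allL N5234 (tt N4116 F35915) (tt N4232 F35916) (tt N6504 (iv F50936)) (tt N5234 F35917) (tt N5234 F35918) (tt N4109 (iv D7930)) (tt N6304 F202328) (tt N5234 F35919) (tt N6296 F202329) (tt N5234 F35920))
theorem Q5236 : ∀ i, i < 5236 → P i := stepQ 5235 Q5235 (allL N5235 (tt N6502 (iv F50925)) (tt N5235 F35943) (tt N5235 F35944) (tt N4111 F35945) (tt N5235 F35946) (tt N6505 D11507) (tt N4110 (iv D7935)) (tt N5235 F35947) (tt N6506 D11508) (tt N5235 F35948))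
theorem Q5237 : ∀ i, i < 5237 → P i := stepQ 5236 Q5236 (allL N5236 (tt N6503 (iv F50931)) (tt N5236 F35949) (tt N5236 F35950) (tt N6507 D11509) (tt N5236 F35951) (tt N6479 (iv F50367)) (tt N6506 (iv F51022)) (tt N4122 F35952) (tt N4110 (iv D7936)) (tt N6508 D11510))
theorem Q5238 : ∀ i, i < 5238 → P i := stepQ 5237 Q5237 (allL N5237 (tt N6504 (iv F50935)) (tt N5237 F35953) (tt N4116 F35954) (tt N6505 (iv F51016)) (tt N5237 F35955) (tt N4111 (iv D7937)) (tt N6306 F202334) (tt N5237 F35956) (tt N6297 F202335) (tt N5237 F35957))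
theorem Q5239 : ∀ i, i < 5239 → P i := stepQ 5238 Q5238 (allL N5238 (tt N5693 F202331) (tt N5238 F35958) (tt N4117 F35959) (tt N6509 D11512) (tt N4113 F35960) (tt N6297 F202332) (tt N4112 F35961) (tt N5238 F35962) (tt N4111 (iv D7938)) (tt N5697 F202333))
theorem Q5240 : ∀ i, i < 5240 → P i := stepQ 5239 Q5239 (allL N5239 (tt N5708 F202212) (tt N5239 F35963) (tt N6510 D11514) (tt N4112 (iv D7939)) (tt N6511 D11515) (tt N6480 (iv F50384)) (tt N6509 (iv F51038)) (tt N4123 F35964) (tt N6507 (iv F51026)) (tt N5714 F202213))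
theorem Q5241 : ∀ i, i < 5241 → P i := stepQ 5240 Q5240 (allL N5240 (tt N5347 F202472) (tt N5240 F35970) (tt N5240 F35971) (tt N4113 (iv D7941)) (tt N6512 D11517) (tt N5240 F35972) (tt N4114 F35973) (tt N5240 F35974) (tt N5240 F35975) (tt N5350 F202473))
theorem Q5242 : ∀ i, i < 5242 → P i := stepQ 5241 Q5241 (allL N5241 (tt N5355 F202470) (tt N5241 F35982) (tt N5241 F35983) (tt N6511 (iv F51049)) (tt N4114 (iv D7943)) (tt N6513 D11519) (tt N6512 (iv F51056)) (tt N4124 F35984) (tt N5241 F35985) (tt N5359 F202471))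
theorem Q5243 : ∀ i, i < 5243 → P i := stepQ 5242 Q5242 (allL N5242 (tt N5384 F202389) (tt N5242 F35991) (tt N5242 F35992) (tt N6483 (iv F50412)) (tt N6513 (iv F51067)) (tt N4115 (iv D7945)) (tt N6514 D11522) (tt N4125 F35993) (tt N5242 F35994) (tt N5390 F202390))
theorem Q5244 : ∀ i, i < 5244 → P i := stepQ 5243 Q5243 (allL N5243 (tt N6300 (iv F201739)) (tt N5702 F201375) (tt N4118 (iv D7951)) (tt N6510 (iv F51046)) (tt N5243 F36020) (tt N5719 F201376) (tt N5699 (iv F201749)) (tt N4126 F36021) (tt N5243 F36022) (tt N6303 (iv F201750)))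
theorem Q5245 : ∀ i, i < 5245 → P i := stepQ 5244 Q5244 (allL N5244 (tt N4149 F201583) (tt N6304 (iv F201921)) (tt N6294 F201584) (tt N5244 F36058) (tt N5244 F36059) (tt N4229 (iv F199772)) (tt N4232 F199734) (tt N4129 F36060) (tt N4120 (iv D7959)) (tt N5244 F36061))
theorem Q5246 : ∀ i, i < 5246 → P i := stepQ 5245 Q5245 (allL N5245 (tt N4122 F36096) (tt N5729 F202905) (tt N5245 F36097) (tt N5734 F202906) (tt N5245 F36098) (tt N6485 (iv F50554)) (tt N5245 F36099) (tt N6503 (iv F50934)) (tt N4121 (iv D7967)) (tt N6515 D11554))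
theorem Q5247 : ∀ i, i < 5247 → P i := stepQ 5246 Q5246 (allL N5246 (tt N5734 F202894) (tt N5246 F36137) (tt N6516 D11567) (tt N4122 (iv D7977)) (tt N6517 D11568) (tt N6489 (iv F50635)) (tt N5246 F36138) (tt N6507 (iv F51025)) (tt N4123 F36139) (tt N6518 D11569))
theorem Q5248 : ∀ i, i < 5248 → P i := stepQ 5247 Q5247 (allL N5247 (tt N6515 (iv F51228)) (tt N5247 F36140) (tt N5247 F36141) (tt N6518 (iv F51290)) (tt N5247 F36142) (tt N6490 (iv F50639)) (tt N5247 F36143) (tt N6508 (iv F51030)) (tt N5247 F36144) (tt N4122 (iv D7978)))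
theorem Q5249 : ∀ i, i < 5249 → P i := stepQ 5248 Q5248 (allL N5248 (tt N5732 (iv F202414)) (tt N5381 (iv F206091)) (tt N4123 (iv D7979)) (tt N4126 F36145) (tt N5747 F205991) (tt N6492 (iv F50656)) (tt N5248 F36146) (tt N6510 (iv F51047)) (tt N6516 (iv F51284)) (tt N5376 F205992))
theorem Q5250 : ∀ i, i < 5250 → P i := stepQ 5249 Q5249 (allL N5249 (tt N5366 F202892) (tt N5249 F36147) (tt N5747 (iv F205966)) (tt N4124 F36148) (tt N4123 (iv D7980)) (tt N6519 D11573) (tt N5249 F36149) (tt N6511 (iv F51050)) (tt N6517 (iv F51288)) (tt N5372 F202893))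
theorem Q5251 : ∀ i, i < 5251 → P i := stepQ 5250 Q5250 (allL N5250 (tt N5367 F203281) (tt N5250 F36153) (tt N5250 F36154) (tt N6519 (iv F51302)) (tt N4125 F36155) (tt N4124 (iv D7982)) (tt N6520 D11576) (tt N6513 (iv F51068)) (tt N5250 F36156) (tt N5373 F203282))
theorem Q5252 : ∀ i, i < 5252 → P i := stepQ 5251 Q5251 (allL N5251 (tt N5403 F203283) (tt N5251 F36167) (tt N5251 F36168) (tt N6497 (iv F50684)) (tt N6520 (iv F51312)) (tt N4130 F36169) (tt N4125 (iv D7985)) (tt N6521 D11579) (tt N5251 F36170) (tt N5412 F203284))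
theorem Q5253 : ∀ i, i < 5253 → P i := stepQ 5252 Q5252 (allL N5252 (tt N5252 F198097) (tt N4126 (iv D7988)) (tt N4127 F36179) (tt N5381 (iv F206092)) (tt N5252 F36180) (tt N5724 F201383) (tt N5252 F36181) (tt N5702 F201384) (tt N5252 F36182) (tt N5310 F205981))
theorem Q5254 : ∀ i, i < 5254 → P i := stepQ 5253 Q5253 (allL N5253 (tt N5253 F198100) (tt N4128 F36196) (tt N5310 F205975) (tt N5253 F36197) (tt N5253 F36198) (tt N5713 F201565) (tt N5253 F36199) (tt N5696 F201566) (tt N5295 F205976) (tt N4127 (iv D7992)))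
theorem Q5255 : ∀ i, i < 5255 → P i := stepQ 5254 Q5254 (allL N5254 (tt N4156 F201578) (tt N5295 F205971) (tt N4129 F36201) (tt N5294 (iv F206080)) (tt N5254 F36202) (tt N6299 F201579) (tt N5254 F36203) (tt N6294 F201580) (tt N4128 (iv D7993)) (tt N5254 F36204))
theorem Q5256 : ∀ i, i < 5256 → P i := stepQ 5255 Q5255 (allL N5255 (tt N5431 F204001) (tt N5255 F36245) (tt N5255 F36246) (tt N6501 (iv F50864)) (tt N5255 F36247) (tt N6521 (iv F51326)) (tt N5255 F36248) (tt N4130 (iv D8002)) (tt N5255 F36249) (tt N5444 F204002))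
theorem Q5257 : ∀ i, i < 5257 → P i := stepQ 5256 Q5256 (allL N5256 (tt N5256 F36264) (tt N5256 F36265) (tt N4132 F36266) (tt N5256 F36267) (tt N6522 D11604) (tt N4131 (iv D8006)) (tt N5256 F36268) (tt N5256 F36269) (tt N6523 D11605) (tt N4233 F204064))
theorem Q5258 : ∀ i, i < 5258 → P i := stepQ 5257 Q5257 (allL N5257 (tt N5257 F36270) (tt N5257 F36271) (tt N4133 F36272) (tt N6524 D11607) (tt N5257 F36273) (tt N6523 (iv F51447)) (tt N4143 F36274) (tt N5257 F36275) (tt N4131 (iv D8007)) (tt N5257 F195449))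
theorem Q5259 : ∀ i, i < 5259 → P i := stepQ 5258 Q5258 (allL N5258 (tt N5258 F36283) (tt N4134 F36284) (tt N6522 (iv F51440)) (tt N5258 F36285) (tt N4132 (iv D8009)) (tt N5258 F36286) (tt N5258 F36287) (tt N5258 F36288) (tt N6525 D11610) (tt N4234 F204065))
theorem Q5260 : ∀ i, i < 5260 → P i := stepQ 5259 Q5259 (allL N5259 (tt N5259 F36289) (tt N4135 F36290) (tt N6523 (iv F51446)) (tt N5259 F36291) (tt N6525 (iv F51477)) (tt N4133 F36292) (tt N5259 F36293) (tt N5259 F36294) (tt N4132 (iv D8010)) (tt N5259 F195448))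
theorem Q5261 : ∀ i, i < 5261 → P i := stepQ 5260 Q5260 (allL N5260 (tt N6290 (iv F47013)) (tt N6525 (iv F51476)) (tt N5260 F36338) (tt N6526 D11622) (tt N4135 F36339) (tt N5260 F36340) (tt N5260 F36341) (tt N5260 F36342) (tt N4134 (iv D8018)) (tt N5260 F195451))
theorem Q5262 : ∀ i, i < 5262 → P i := stepQ 5261 Q5261 (allL N5261 (tt N6291 (iv F47020)) (tt N4234 (iv F203867)) (tt N5261 F36343) (tt N5261 F36344) (tt N4136 F36345) (tt N5261 F36346) (tt N5261 F36347) (tt N5261 F36348) (tt N5261 F195416) (tt N4134 (iv D8019)))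
theorem Q5263 : ∀ i, i < 5263 → P i := stepQ 5262 Q5262 (allL N5262 (tt N6292 (iv F47095)) (tt N5262 F36398) (tt N5262 F195328) (tt N5262 F36399) (tt N4137 (iv D8031)) (tt N6527 D11642) (tt N5262 F36400) (tt N5262 F36401) (tt N5262 F36402) (tt N5262 F36403))
theorem Q5264 : ∀ i, i < 5264 → P i := stepQ 5263 Q5263 (allL N5263 (tt N6293 (iv F47111)) (tt N5263 F36414) (tt N5263 F195162) (tt N4139 F36415) (tt N6527 (iv F51639)) (tt N4138 (iv D8034)) (tt N6528 D11647) (tt N5263 F36416) (tt N5263 F36417) (tt N5263 F36418))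
theorem Q5265 : ∀ i, i < 5265 → P i := stepQ 5264 Q5264 (allL N5264 (tt N6294 (iv F47137)) (tt N5264 F36439) (tt N4149 (iv F195476)) (tt N6528 (iv F51663)) (tt N5264 F36440) (tt N4145 F36441) (tt N4139 (iv D8039)) (tt N4156 (iv F195478)) (tt N4142 F36442) (tt N5264 F36443))
theorem Q5266 : ∀ i, i < 5266 → P i := stepQ 5265 Q5265 (allL N5265 (tt N5265 F36525) (tt N5265 F36526) (tt N5265 F36527) (tt N4143 (iv D8058)) (tt N6529 D11682) (tt N5265 F36528) (tt N6524 (iv F51460)) (tt N4150 F36529) (tt N5265 F36530) (tt N5265 F195450))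
theorem Q5267 : ∀ i, i < 5267 → P i := stepQ 5266 Q5266 (allL N5266 (tt N6298 (iv F47306)) (tt N5266 F36641) (tt N5266 F194887) (tt N4145 F36642) (tt N5266 F36643) (tt N6528 (iv F51664)) (tt N4144 (iv D8083)) (tt N6530 D11720) (tt N5266 F36644) (tt N5266 F36645))
theorem Q5268 : ∀ i, i < 5268 → P i := stepQ 5267 Q5267 (allL N5267 (tt N6299 (iv F47336)) (tt N5267 F36669) (tt N4158 (iv F195511)) (tt N6530 (iv F51991)) (tt N4159 F36670) (tt N4156 F195492) (tt N4152 F36671) (tt N4145 (iv D8090)) (tt N4148 F36672) (tt N5267 F36673))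
theorem Q5269 : ∀ i, i < 5269 → P i := stepQ 5268 Q5268 (allL N5268 (tt N5268 F36777) (tt N5268 F36778) (tt N5268 F36779) (tt N5268 F36780) (tt N4150 (iv D8118)) (tt N6531 D11773) (tt N5268 F36781) (tt N6529 (iv F51823)) (tt N5268 F36782) (tt N5268 F195452))
theorem Q5270 : ∀ i, i < 5270 → P i := stepQ 5269 Q5269 (allL N5269 (tt N6307 (iv F47563)) (tt N5269 F36944) (tt N5269 F194536) (tt N4152 F36945) (tt N5269 F36946) (tt N5269 F36947) (tt N6530 (iv F51993)) (tt N4151 (iv D8156)) (tt N5269 F36948) (tt N5269 F36949))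
theorem Q5271 : ∀ i, i < 5271 → P i := stepQ 5270 Q5270 (allL N5270 (tt N5294 F206226) (tt N5270 F37087) (tt N5270 F37088) (tt N4156 (iv D8195)) (tt N5293 (iv F206259)) (tt N6530 (iv F195479)) (tt N5270 F37089) (tt N6528 F195470) (tt N5270 F37090) (tt N5270 F195318))
theorem Q5272 : ∀ i, i < 5272 → P i := stepQ 5271 Q5271 (allL N5271 (tt N5271 F39302) (tt N4202 F39303) (tt N6532 D12736) (tt N4200 (iv D8772)) (tt N5271 F39304) (tt N5271 F39305) (tt N6533 D12737) (tt N5271 F39306) (tt N5271 F194458) (tt N4222 F39307))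
theorem Q5273 : ∀ i, i < 5273 → P i := stepQ 5272 Q5272 (allL N5272 (tt N5272 F39308) (tt N4203 F39309) (tt N5633 (iv F202924)) (tt N6533 (iv F55927)) (tt N4201 F39310) (tt N6534 D12739) (tt N4200 (iv D8773)) (tt N6535 D12740) (tt N5626 (iv F202984)) (tt N4223 F39311))
theorem Q5274 : ∀ i, i < 5274 → P i := stepQ 5273 Q5273 (allL N5273 (tt N5273 F39318) (tt N4205 F39319) (tt N5635 (iv F203565)) (tt N5273 F39320) (tt N6535 (iv F55942)) (tt N5273 F39321) (tt N5273 F39322) (tt N4201 (iv D8775)) (tt N5627 (iv F203788)) (tt N4224 F39323))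
theorem Q5275 : ∀ i, i < 5275 → P i := stepQ 5274 Q5274 (allL N5274 (tt N4212 F39348) (tt N6533 (iv F55926)) (tt N4228 F198527) (tt N4203 F39349) (tt N5274 F39350) (tt N4227 F198528) (tt N4202 (iv D8780)) (tt N4226 F198529) (tt N5274 F194450) (tt N4225 F39351))
theorem Q5276 : ∀ i, i < 5276 → P i := stepQ 5275 Q5275 (allL N5275 (tt N4213 F39356) (tt N6534 (iv F55936)) (tt N4207 F39357) (tt N4227 F198615) (tt N5275 F39358) (tt N4203 (iv D8782)) (tt N5275 F39359) (tt N4225 F198616) (tt N6458 (iv F202916)) (tt N4226 F39360))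
theorem Q5277 : ∀ i, i < 5277 → P i := stepQ 5276 Q5276 (allL N5276 (tt N4214 F39361) (tt N6535 (iv F55941)) (tt N4208 F39362) (tt N4226 (iv F198155)) (tt N4205 F39363) (tt N4225 (iv F198210)) (tt N5276 F39364) (tt N4203 (iv D8783)) (tt N6457 (iv F202920)) (tt N4227 F39365))
theorem Q5278 : ∀ i, i < 5278 → P i := stepQ 5277 Q5277 (allL N5277 (tt N4215 F39366) (tt N5626 (iv F202983)) (tt N4209 F39367) (tt N5277 F194058) (tt N4206 F39368) (tt N6458 (iv F202915)) (tt N4204 F39369) (tt N6457 (iv F202919)) (tt N4203 (iv D8784)) (tt N5277 F39370))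
theorem Q5279 : ∀ i, i < 5279 → P i := stepQ 5278 Q5278 (allL N5278 (tt N4216 F39375) (tt N5627 (iv F203787)) (tt N4211 F39376) (tt N5625 (iv F203791)) (tt N6457 (iv F202918)) (tt N5278 F39377) (tt N5278 F39378) (tt N4206 F39379) (tt N4205 (iv D8786)) (tt N5278 F39380))
theorem Q5280 : ∀ i, i < 5280 → P i := stepQ 5279 Q5279 (allL N5279 (tt N6458 (iv F202914)) (tt N5279 F39447) (tt N4218 F39448) (tt N5279 F194061) (tt N5279 F39449) (tt N4215 F39450) (tt N5279 F39451) (tt N4221 F202487) (tt N4213 (iv D8801)) (tt N5279 F39452))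
theorem Q5281 : ∀ i, i < 5281 → P i := stepQ 5280 Q5280 (allL N5280 (tt N6457 (iv F202917)) (tt N5280 F39453) (tt N4219 F39454) (tt N5280 F194062) (tt N4216 F39455) (tt N4221 F202486) (tt N5280 F39456) (tt N4215 F39457) (tt N4214 (iv D8802)) (tt N5280 F39458))
theorem Q5282 : ∀ i, i < 5282 → P i := stepQ 5281 Q5281 (allL N5281 (tt N5625 (iv F203790)) (tt N5281 F39470) (tt N5281 F39471) (tt N4216 (iv D8806)) (tt N5281 F194467) (tt N5281 F39472) (tt N5281 F39473) (tt N4217 F39474) (tt N5281 F39475) (tt N5281 F39476))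
theorem Q5283 : ∀ i, i < 5283 → P i := stepQ 5282 Q5282 (allL N5282 (tt N5282 F39552) (tt N6421 F202474) (tt N4222 (iv D8823)) (tt N6460 (iv F50188)) (tt N5282 F39553) (tt N5282 F39554) (tt N6536 D12806) (tt N5282 F39555) (tt N6456 (iv F202980)) (tt N6532 (iv F55924)))
theorem Q5284 : ∀ i, i < 5284 → P i := stepQ 5283 Q5283 (allL N5283 (tt N5283 F39556) (tt N4225 F39557) (tt N6536 (iv F56252)) (tt N4223 F39558) (tt N5283 F39559) (tt N6535 F198673) (tt N4222 (iv D8824)) (tt N6534 (iv F198845)) (tt N6459 (iv F202921)) (tt N6533 (iv F55929)))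
theorem Q5285 : ∀ i, i < 5285 → P i := stepQ 5284 Q5284 (allL N5284 (tt N5284 F39566) (tt N4226 F39567) (tt N6463 (iv F50201)) (tt N6535 F198614) (tt N5284 F39568) (tt N4223 (iv D8826)) (tt N5284 F39569) (tt N6533 (iv F198807)) (tt N5284 F39570) (tt N6534 (iv F55939)))
theorem Q5286 : ∀ i, i < 5286 → P i := stepQ 5285 Q5285 (allL N5285 (tt N5285 F39571) (tt N4227 F39572) (tt N6464 (iv F50207)) (tt N6534 (iv F198844)) (tt N4224 F39573) (tt N6533 (iv F198806)) (tt N5285 F39574) (tt N4223 (iv D8827)) (tt N5285 F39575) (tt N6535 (iv F55944)))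
theorem Q5287 : ∀ i, i < 5287 → P i := stepQ 5286 Q5286 (allL N5286 (tt N5286 F41179) (tt N5286 F199688) (tt N4234 F41180) (tt N6537 D13333) (tt N4233 (iv D9196)) (tt N5286 F41181) (tt N5286 F41182) (tt N5286 F41183) (tt N5286 F41184) (tt N6522 (iv F204285)))
theorem Q5288 : ∀ i, i < 5288 → P i := stepQ 5287 Q5287 (allL N5287 (tt N5287 F41615) (tt N5287 F41616) (tt N6538 D13463) (tt N4235 (iv D9292)) (tt N6539 D13464) (tt N4236 F41617) (tt N5287 F41618) (tt N5287 F41619) (tt N5287 F41620) (tt N5287 F41621))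
theorem Q5289 : ∀ i, i < 5289 → P i := stepQ 5288 Q5288 (allL N5288 (tt N5288 F41622) (tt N6540 D13465) (tt N4236 (iv D9293)) (tt N5288 F41623) (tt N6541 D13466) (tt N6538 (iv F59103)) (tt N4237 F41624) (tt N5288 F41625) (tt N5288 F41626) (tt N5288 F41627))
theorem Q5290 : ∀ i, i < 5290 → P i := stepQ 5289 Q5289 (allL N5289 (tt N5289 F41628) (tt N5289 F41629) (tt N6541 (iv F59122)) (tt N4243 F41630) (tt N4236 (iv D9294)) (tt N6542 D13467) (tt N4238 F41631) (tt N5289 F41632) (tt N5289 F41633) (tt N5289 F41634))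
theorem Q5291 : ∀ i, i < 5291 → P i := stepQ 5290 Q5290 (allL N5290 (tt N6543 D13468) (tt N4237 (iv D9295)) (tt N5290 F41635) (tt N5290 F41636) (tt N6544 D13469) (tt N5290 F41637) (tt N6540 (iv F59117)) (tt N4239 F41638) (tt N5290 F41639) (tt N5290 F41640))
theorem Q5292 : ∀ i, i < 5292 → P i := stepQ 5291 Q5291 (allL N5291 (tt N5291 F41641) (tt N6544 (iv F59140)) (tt N4238 F41642) (tt N6545 D13470) (tt N4237 (iv D9296)) (tt N6546 D13471) (tt N6541 (iv F59123)) (tt N4240 F41643) (tt N5291 F41644) (tt N5291 F41645))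
theorem Q5293 : ∀ i, i < 5293 → P i := stepQ 5292 Q5292 (allL N5292 (tt N5292 F41646) (tt N5292 F41647) (tt N6546 (iv F59151)) (tt N4246 F41648) (tt N5292 F41649) (tt N4238 (iv D9297)) (tt N6547 D13472) (tt N4241 F41650) (tt N5292 F41651) (tt N5292 F41652))
theorem Q5294 : ∀ i, i < 5294 → P i := stepQ 5293 Q5293 (allL N5293 (tt N4239 (iv D9298)) (tt N5293 F41653) (tt N5293 F41654) (tt N5293 F41655) (tt N5270 F206259) (tt N5293 F41656) (tt N5293 F41657) (tt N6543 (iv F59137)) (tt N5293 F41658) (tt N5293 F41659))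
theorem Q5295 : ∀ i, i < 5295 → P i := stepQ 5294 Q5294 (allL N5294 (tt N5270 (iv F206226)) (tt N4240 F41660) (tt N5294 F41661) (tt N5254 F206080) (tt N4239 (iv D9299)) (tt N6548 D13475) (tt N5294 F41662) (tt N6544 (iv F59142)) (tt N5294 F41663) (tt N5294 F41664))
theorem Q5296 : ∀ i, i < 5296 → P i := stepQ 5295 Q5295 (allL N5295 (tt N5295 F41665) (tt N5254 (iv F205971)) (tt N4249 F41666) (tt N4240 (iv D9300)) (tt N5295 F41667) (tt N6549 D13476) (tt N5295 F41668) (tt N6545 (iv F59148)) (tt N5253 (iv F205976)) (tt N5295 F41669))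
theorem Q5297 : ∀ i, i < 5297 → P i := stepQ 5296 Q5296 (allL N5296 (tt N5296 F41670) (tt N6548 (iv F59172)) (tt N4241 F41671) (tt N6549 (iv F59179)) (tt N5296 F41672) (tt N4240 (iv D9301)) (tt N6550 D13478) (tt N6546 (iv F59153)) (tt N5296 F41673) (tt N5296 F41674))
theorem Q5298 : ∀ i, i < 5298 → P i := stepQ 5297 Q5297 (allL N5297 (tt N5297 F41675) (tt N5297 F41676) (tt N6550 (iv F59187)) (tt N4251 F41677) (tt N5297 F41678) (tt N5297 F41679) (tt N4241 (iv D9302)) (tt N6551 D13479) (tt N5297 F41680) (tt N5297 F41681))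
theorem Q5299 : ∀ i, i < 5299 → P i := stepQ 5298 Q5298 (allL N5298 (tt N6552 D13480) (tt N4242 (iv D9303)) (tt N5298 F41682) (tt N5298 F41683) (tt N6553 D13481) (tt N5298 F41684) (tt N4244 F41685) (tt N5298 F41686) (tt N4277 F41687) (tt N5298 F41688))
theorem Q5300 : ∀ i, i < 5300 → P i := stepQ 5299 Q5299 (allL N5299 (tt N5299 F41689) (tt N6553 (iv F59207)) (tt N4243 F41690) (tt N6554 D13482) (tt N4242 (iv D9304)) (tt N6555 D13483) (tt N4245 F41691) (tt N5299 F41692) (tt N4278 F41693) (tt N5299 F41694))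
theorem Q5301 : ∀ i, i < 5301 → P i := stepQ 5300 Q5300 (allL N5300 (tt N5300 F41695) (tt N5300 F41696) (tt N6555 (iv F59219)) (tt N6542 (iv F59129)) (tt N5300 F41697) (tt N4243 (iv D9305)) (tt N6556 D13484) (tt N5300 F41698) (tt N4279 F41699) (tt N5300 F41700))
theorem Q5302 : ∀ i, i < 5302 → P i := stepQ 5301 Q5301 (allL N5301 (tt N4244 (iv D9306)) (tt N5301 F41701) (tt N5301 F41702) (tt N5301 F41703) (tt N6557 D13485) (tt N4252 F41704) (tt N6552 (iv F59203)) (tt N4247 F41705) (tt N4283 F41706) (tt N5301 F41707))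
theorem Q5303 : ∀ i, i < 5303 → P i := stepQ 5302 Q5302 (allL N5302 (tt N6557 (iv F59230)) (tt N4245 F41708) (tt N5302 F41709) (tt N6558 D13486) (tt N4244 (iv D9307)) (tt N6559 D13487) (tt N6553 (iv F59209)) (tt N4248 F41710) (tt N4284 F41711) (tt N5302 F41712))
theorem Q5304 : ∀ i, i < 5304 → P i := stepQ 5303 Q5303 (allL N5303 (tt N5303 F41713) (tt N6558 (iv F59236)) (tt N6545 (iv F59146)) (tt N4245 (iv D9308)) (tt N5303 F41714) (tt N6560 D13488) (tt N6554 (iv F59215)) (tt N4249 F41715) (tt N6561 D13489) (tt N5303 F41716))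
theorem Q5305 : ∀ i, i < 5305 → P i := stepQ 5304 Q5304 (allL N5304 (tt N5304 F41717) (tt N6559 (iv F59240)) (tt N4246 F41718) (tt N6560 (iv F59247)) (tt N4255 F41719) (tt N4245 (iv D9309)) (tt N6562 D13490) (tt N4250 F41720) (tt N4286 F41721) (tt N5304 F41722))
theorem Q5306 : ∀ i, i < 5306 → P i := stepQ 5305 Q5305 (allL N5305 (tt N5305 F41723) (tt N5305 F41724) (tt N6562 (iv F59255)) (tt N6547 (iv F59158)) (tt N4256 F41725) (tt N6556 (iv F59227)) (tt N4246 (iv D9310)) (tt N6563 D13491) (tt N4287 F41726) (tt N5305 F41727))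
theorem Q5307 : ∀ i, i < 5307 → P i := stepQ 5306 Q5306 (allL N5306 (tt N4248 F41728) (tt N5306 F41729) (tt N5306 F41730) (tt N5003 (iv F205357)) (tt N4247 (iv D9311)) (tt N6564 D13493) (tt N5306 F41731) (tt N6557 (iv F59233)) (tt N4292 F41732) (tt N5306 F41733))
theorem Q5308 : ∀ i, i < 5308 → P i := stepQ 5307 Q5307 (allL N5307 (tt N5003 F205453) (tt N4249 F41734) (tt N5000 (iv F205624)) (tt N4248 (iv D9312)) (tt N5307 F41735) (tt N6565 D13495) (tt N5307 F41736) (tt N6558 (iv F59238)) (tt N4998 (iv F205627)) (tt N5307 F41737))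
theorem Q5309 : ∀ i, i < 5309 → P i := stepQ 5308 Q5308 (allL N5308 (tt N6564 (iv F59270)) (tt N4250 F41738) (tt N5308 F41739) (tt N6565 (iv F59281)) (tt N4259 F41740) (tt N4248 (iv D9313)) (tt N6566 D13497) (tt N6559 (iv F59243)) (tt N4294 F41741) (tt N5308 F41742))
theorem Q5310 : ∀ i, i < 5310 → P i := stepQ 5309 Q5309 (allL N5309 (tt N5309 F41743) (tt N6565 (iv F59280)) (tt N6549 (iv F59178)) (tt N4250 F41744) (tt N6567 D13498) (tt N4249 (iv D9314)) (tt N6568 D13499) (tt N6560 (iv F59248)) (tt N6569 D13500) (tt N5309 F41745))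
theorem Q5311 : ∀ i, i < 5311 → P i := stepQ 5310 Q5310 (allL N5310 (tt N5310 F41746) (tt N4998 F205740) (tt N5253 (iv F205975)) (tt N4296 F41747) (tt N5310 F41748) (tt N6569 (iv F59303)) (tt N5310 F41749) (tt N6561 (iv F59253)) (tt N4249 (iv D9315)) (tt N5252 (iv F205981)))
theorem Q5312 : ∀ i, i < 5312 → P i := stepQ 5311 Q5311 (allL N5311 (tt N5311 F41750) (tt N6566 (iv F59287)) (tt N4251 F41751) (tt N6568 (iv F59298)) (tt N4262 F41752) (tt N5311 F41753) (tt N4250 (iv D9316)) (tt N6570 D13502) (tt N4297 F41754) (tt N5311 F41755))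
theorem Q5313 : ∀ i, i < 5313 → P i := stepQ 5312 Q5312 (allL N5312 (tt N5312 F41756) (tt N5312 F41757) (tt N6570 (iv F59310)) (tt N6551 (iv F59194)) (tt N4263 F41758) (tt N5312 F41759) (tt N6563 (iv F59262)) (tt N4251 (iv D9317)) (tt N4298 F41760) (tt N5312 F41761))
theorem Q5314 : ∀ i, i < 5314 → P i := stepQ 5313 Q5313 (allL N5313 (tt N4253 F41762) (tt N5313 F41763) (tt N5313 F41764) (tt N6571 D13503) (tt N4252 (iv D9318)) (tt N6572 D13504) (tt N5313 F41765) (tt N4257 F41766) (tt N4303 F41767) (tt N5313 F41768))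
theorem Q5315 : ∀ i, i < 5315 → P i := stepQ 5314 Q5314 (allL N5314 (tt N6571 (iv F59315)) (tt N4254 F41769) (tt N6573 D13505) (tt N4253 (iv D9319)) (tt N5314 F41770) (tt N6574 D13506) (tt N5314 F41771) (tt N4258 F41772) (tt N6575 D13507) (tt N5314 F41773))
theorem Q5316 : ∀ i, i < 5316 → P i := stepQ 5315 Q5315 (allL N5315 (tt N6572 (iv F59321)) (tt N4255 F41774) (tt N5315 F41775) (tt N6574 (iv F59334)) (tt N6559 (iv F59242)) (tt N4253 (iv D9320)) (tt N6576 D13508) (tt N4259 F41776) (tt N4305 F41777) (tt N5315 F41778))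
theorem Q5317 : ∀ i, i < 5317 → P i := stepQ 5316 Q5316 (allL N5316 (tt N5316 F41779) (tt N6574 (iv F59333)) (tt N5316 F41780) (tt N4255 F41781) (tt N6577 D13509) (tt N4254 (iv D9321)) (tt N6578 D13510) (tt N4260 F41782) (tt N6579 D13511) (tt N5316 F41783))
theorem Q5318 : ∀ i, i < 5318 → P i := stepQ 5317 Q5317 (allL N5317 (tt N5317 F41784) (tt N6575 (iv F59337)) (tt N5317 F41785) (tt N4307 F41786) (tt N5317 F41787) (tt N6579 (iv F59360)) (tt N5317 F41788) (tt N4261 F41789) (tt N4254 (iv D9322)) (tt N6580 D13512))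
theorem Q5319 : ∀ i, i < 5319 → P i := stepQ 5318 Q5318 (allL N5318 (tt N5318 F41790) (tt N6576 (iv F59342)) (tt N4256 F41791) (tt N6578 (iv F59354)) (tt N6562 (iv F59256)) (tt N5318 F41792) (tt N4255 (iv D9323)) (tt N6581 D13513) (tt N4308 F41793) (tt N5318 F41794))
theorem Q5320 : ∀ i, i < 5320 → P i := stepQ 5319 Q5319 (allL N5319 (tt N5319 F41795) (tt N5319 F41796) (tt N6581 (iv F59370)) (tt N5319 F41797) (tt N6563 (iv F59261)) (tt N5319 F41798) (tt N4263 F41799) (tt N4256 (iv D9324)) (tt N4309 F41800) (tt N5319 F41801))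
theorem Q5321 : ∀ i, i < 5321 → P i := stepQ 5320 Q5320 (allL N5320 (tt N4258 F41802) (tt N5320 F41803) (tt N6582 D13514) (tt N4257 (iv D9325)) (tt N5320 F41804) (tt N6583 D13515) (tt N4264 F41805) (tt N6571 (iv F59319)) (tt N6584 D13516) (tt N5320 F41806))
theorem Q5322 : ∀ i, i < 5322 → P i := stepQ 5321 Q5321 (allL N5321 (tt N4259 F41807) (tt N5321 F41808) (tt N5321 F41809) (tt N6583 (iv F59382)) (tt N6564 (iv F59273)) (tt N4257 (iv D9326)) (tt N6585 D13517) (tt N6572 (iv F59324)) (tt N4317 F41810) (tt N5321 F41811))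
theorem Q5323 : ∀ i, i < 5323 → P i := stepQ 5322 Q5322 (allL N5322 (tt N6582 (iv F59375)) (tt N5322 F41812) (tt N4258 (iv D9327)) (tt N5322 F41813) (tt N5322 F41814) (tt N6586 D13518) (tt N4266 F41815) (tt N6573 (iv F59331)) (tt N6587 D13519) (tt N5322 F41816))
theorem Q5324 : ∀ i, i < 5324 → P i := stepQ 5323 Q5323 (allL N5323 (tt N6583 (iv F59380)) (tt N4260 F41817) (tt N6586 (iv F59396)) (tt N4259 F41818) (tt N6588 D13520) (tt N4258 (iv D9328)) (tt N6589 D13521) (tt N6574 (iv F59335)) (tt N6590 D13522) (tt N5323 F41819))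
theorem Q5325 : ∀ i, i < 5325 → P i := stepQ 5324 Q5324 (allL N5324 (tt N6584 (iv F59384)) (tt N4261 F41820) (tt N6587 (iv F59400)) (tt N4320 F41821) (tt N5324 F41822) (tt N6590 (iv F59412)) (tt N4268 F41823) (tt N6575 (iv F59341)) (tt N4258 (iv D9329)) (tt N6591 D13523))
theorem Q5326 : ∀ i, i < 5326 → P i := stepQ 5325 Q5325 (allL N5325 (tt N6585 (iv F59389)) (tt N4262 F41824) (tt N5325 F41825) (tt N6589 (iv F59407)) (tt N6566 (iv F59289)) (tt N4269 F41826) (tt N4259 (iv D9330)) (tt N6592 D13524) (tt N4321 F41827) (tt N5325 F41828))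
theorem Q5327 : ∀ i, i < 5327 → P i := stepQ 5326 Q5326 (allL N5326 (tt N5326 F41829) (tt N6588 (iv F59403)) (tt N5326 F41830) (tt N6567 (iv F59294)) (tt N4260 (iv D9331)) (tt N5326 F41831) (tt N6593 D13525) (tt N6577 (iv F59350)) (tt N6594 D13526) (tt N5326 F41832))
theorem Q5328 : ∀ i, i < 5328 → P i := stepQ 5327 Q5327 (allL N5327 (tt N5327 F41833) (tt N6589 (iv F59406)) (tt N5327 F41834) (tt N4262 F41835) (tt N6593 (iv F59425)) (tt N4271 F41836) (tt N4260 (iv D9332)) (tt N6595 D13527) (tt N6596 D13528) (tt N5327 F41837))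
theorem Q5329 : ∀ i, i < 5329 → P i := stepQ 5328 Q5328 (allL N5328 (tt N5328 F41838) (tt N6590 (iv F59410)) (tt N5328 F41839) (tt N4324 F41840) (tt N6594 (iv F59429)) (tt N4261 F41841) (tt N6596 (iv F59440)) (tt N6579 (iv F59361)) (tt N4260 (iv D9333)) (tt N6597 D13529))
theorem Q5330 : ∀ i, i < 5330 → P i := stepQ 5329 Q5329 (allL N5329 (tt N5329 F41842) (tt N6591 (iv F59413)) (tt N5329 F41843) (tt N4325 F41844) (tt N5329 F41845) (tt N6597 (iv F59444)) (tt N4273 F41846) (tt N6580 (iv F59367)) (tt N5329 F41847) (tt N4261 (iv D9334)))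
theorem Q5331 : ∀ i, i < 5331 → P i := stepQ 5330 Q5330 (allL N5330 (tt N5330 F41848) (tt N6592 (iv F59418)) (tt N4263 F41849) (tt N6595 (iv F59433)) (tt N6570 (iv F59311)) (tt N4274 F41850) (tt N6581 (iv F59372)) (tt N4262 (iv D9335)) (tt N4326 F41851) (tt N5330 F41852))
theorem Q5332 : ∀ i, i < 5332 → P i := stepQ 5331 Q5331 (allL N5331 (tt N4266 F41853) (tt N6598 D13530) (tt N4264 (iv D9336)) (tt N5331 F41854) (tt N5331 F41855) (tt N6599 D13531) (tt N6582 (iv F59378)) (tt N5331 F41856) (tt N6600 D13532) (tt N5331 F41857))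
theorem Q5333 : ∀ i, i < 5333 → P i := stepQ 5332 Q5332 (allL N5332 (tt N4267 F41858) (tt N5332 F41859) (tt N6599 (iv F59453)) (tt N4265 F41860) (tt N6601 D13533) (tt N4264 (iv D9337)) (tt N6602 D13534) (tt N5332 F41861) (tt N6603 D13535) (tt N5332 F41862))
theorem Q5334 : ∀ i, i < 5334 → P i := stepQ 5333 Q5333 (allL N5333 (tt N4268 F41863) (tt N5333 F41864) (tt N6600 (iv F59458)) (tt N4338 F41865) (tt N5333 F41866) (tt N6603 (iv F59474)) (tt N6584 (iv F59388)) (tt N5333 F41867) (tt N4264 (iv D9338)) (tt N6604 D13536))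
theorem Q5335 : ∀ i, i < 5335 → P i := stepQ 5334 Q5334 (allL N5334 (tt N4269 F41868) (tt N5334 F41869) (tt N5334 F41870) (tt N6602 (iv F59469)) (tt N5334 F41871) (tt N6585 (iv F59392)) (tt N4265 (iv D9339)) (tt N6605 D13537) (tt N4339 F41872) (tt N5334 F41873))
theorem Q5336 : ∀ i, i < 5336 → P i := stepQ 5335 Q5335 (allL N5335 (tt N6599 (iv F59452)) (tt N5335 F41874) (tt N4267 F41875) (tt N5335 F41876) (tt N6606 D13538) (tt N4266 (iv D9340)) (tt N6607 D13539) (tt N5335 F41877) (tt N6608 D13540) (tt N5335 F41878))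
theorem Q5337 : ∀ i, i < 5337 → P i := stepQ 5336 Q5336 (allL N5336 (tt N6600 (iv F59457)) (tt N5336 F41879) (tt N4268 F41880) (tt N6609 D13541) (tt N5336 F41881) (tt N6608 (iv F59500)) (tt N6587 (iv F59402)) (tt N5336 F41882) (tt N4266 (iv D9341)) (tt N6610 D13542))
theorem Q5338 : ∀ i, i < 5338 → P i := stepQ 5337 Q5337 (allL N5337 (tt N6601 (iv F59461)) (tt N4270 F41883) (tt N6606 (iv F59490)) (tt N5337 F41884) (tt N4267 (iv D9342)) (tt N5337 F41885) (tt N6611 D13543) (tt N5337 F41886) (tt N6612 D13544) (tt N5337 F41887))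
theorem Q5339 : ∀ i, i < 5339 → P i := stepQ 5338 Q5338 (allL N5338 (tt N6602 (iv F59467)) (tt N4271 F41888) (tt N6607 (iv F59495)) (tt N4269 F41889) (tt N6611 (iv F59513)) (tt N6589 (iv F59408)) (tt N4267 (iv D9343)) (tt N6613 D13545) (tt N6614 D13546) (tt N5338 F41890))
theorem Q5340 : ∀ i, i < 5340 → P i := stepQ 5339 Q5339 (allL N5339 (tt N6603 (iv F59471)) (tt N4272 F41891) (tt N6608 (iv F59499)) (tt N4344 F41892) (tt N6612 (iv F59516)) (tt N4268 F41893) (tt N6614 (iv F59525)) (tt N5339 F41894) (tt N4267 (iv D9344)) (tt N6615 D13547))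
theorem Q5341 : ∀ i, i < 5341 → P i := stepQ 5340 Q5340 (allL N5340 (tt N6604 (iv F59476)) (tt N4273 F41895) (tt N6610 (iv F59507)) (tt N4345 F41896) (tt N5340 F41897) (tt N6615 (iv F59528)) (tt N6591 (iv F59416)) (tt N5340 F41898) (tt N5340 F41899) (tt N4268 (iv D9345)))
theorem Q5342 : ∀ i, i < 5342 → P i := stepQ 5341 Q5341 (allL N5341 (tt N6605 (iv F59482)) (tt N4274 F41900) (tt N5341 F41901) (tt N6613 (iv F59520)) (tt N5341 F41902) (tt N6592 (iv F59420)) (tt N5341 F41903) (tt N4269 (iv D9346)) (tt N4346 F41904) (tt N5341 F41905))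
theorem Q5343 : ∀ i, i < 5343 → P i := stepQ 5342 Q5342 (allL N5342 (tt N5342 F41906) (tt N6611 (iv F59511)) (tt N5342 F41907) (tt N5342 F41908) (tt N4271 F41909) (tt N6616 D13548) (tt N4270 (iv D9347)) (tt N6617 D13549) (tt N6618 D13550) (tt N5342 F41910))
theorem Q5344 : ∀ i, i < 5344 → P i := stepQ 5343 Q5343 (allL N5343 (tt N5343 F41911) (tt N6612 (iv F59515)) (tt N5343 F41912) (tt N6619 D13551) (tt N4272 F41913) (tt N5343 F41914) (tt N6618 (iv F59545)) (tt N5343 F41915) (tt N4270 (iv D9348)) (tt N6620 D13552))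
theorem Q5345 : ∀ i, i < 5345 → P i := stepQ 5344 Q5344 (allL N5344 (tt N5344 F41916) (tt N6613 (iv F59519)) (tt N5344 F41917) (tt N4274 F41918) (tt N6617 (iv F59539)) (tt N6595 (iv F59434)) (tt N5344 F41919) (tt N4271 (iv D9349)) (tt N6621 D13553) (tt N5344 F41920))
theorem Q5346 : ∀ i, i < 5346 → P i := stepQ 5345 Q5345 (allL N5345 (tt N5345 F41921) (tt N6614 (iv F59523)) (tt N5345 F41922) (tt N4350 F41923) (tt N6618 (iv F59544)) (tt N6596 (iv F59439)) (tt N4272 F41924) (tt N6621 (iv F59561)) (tt N4271 (iv D9350)) (tt N6622 D13554))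
theorem Q5347 : ∀ i, i < 5347 → P i := stepQ 5346 Q5346 (allL N5346 (tt N5346 F41925) (tt N6615 (iv F59526)) (tt N5346 F41926) (tt N4351 F41927) (tt N6620 (iv F59553)) (tt N4273 F41928) (tt N6622 (iv F59565)) (tt N5346 F41929) (tt N5346 F41930) (tt N4272 (iv D9351)))
theorem Q5348 : ∀ i, i < 5348 → P i := stepQ 5347 Q5347 (allL N5347 (tt N5240 (iv F202472)) (tt N4275 (iv D9352)) (tt N5347 F41931) (tt N4519 F41932) (tt N6623 D13556) (tt N5347 F41933) (tt N4280 F41934) (tt N5347 F41935) (tt N5347 F41936) (tt N4277 F41937))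
theorem Q5349 : ∀ i, i < 5349 → P i := stepQ 5348 Q5348 (allL N5348 (tt N5348 F41938) (tt N6623 (iv F59575)) (tt N4276 F41939) (tt N6624 D13557) (tt N4275 (iv D9353)) (tt N6625 D13558) (tt N4281 F41940) (tt N5348 F41941) (tt N5348 F41942) (tt N4278 F41943))
theorem Q5350 : ∀ i, i < 5350 → P i := stepQ 5349 Q5349 (allL N5349 (tt N5349 F41944) (tt N5349 F41945) (tt N6625 (iv F59588)) (tt N5349 F41946) (tt N5349 F41947) (tt N4276 (iv D9354)) (tt N6626 D13559) (tt N5349 F41948) (tt N5349 F41949) (tt N4279 F41950))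
theorem Q5351 : ∀ i, i < 5351 → P i := stepQ 5350 Q5350 (allL N5350 (tt N4277 (iv D9355)) (tt N5350 F41951) (tt N5350 F41952) (tt N4522 F41953) (tt N6627 D13560) (tt N5350 F41954) (tt N4283 F41955) (tt N5350 F41956) (tt N6552 (iv F59205)) (tt N5240 (iv F202473)))
theorem Q5352 : ∀ i, i < 5352 → P i := stepQ 5351 Q5351 (allL N5351 (tt N6627 (iv F59600)) (tt N4278 F41957) (tt N5351 F41958) (tt N6628 D13561) (tt N4277 (iv D9356)) (tt N6629 D13562) (tt N4284 F41959) (tt N5351 F41960) (tt N6553 (iv F59211)) (tt N6623 (iv F59580)))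
theorem Q5353 : ∀ i, i < 5353 → P i := stepQ 5352 Q5352 (allL N5352 (tt N5352 F41961) (tt N6628 (iv F59605)) (tt N5352 F41962) (tt N4278 (iv D9357)) (tt N4524 F41963) (tt N6630 D13563) (tt N4285 F41964) (tt N5352 F41965) (tt N6631 D13564) (tt N6624 (iv F59586)))
theorem Q5354 : ∀ i, i < 5354 → P i := stepQ 5353 Q5353 (allL N5353 (tt N5353 F41966) (tt N6629 (iv F59609)) (tt N4279 F41967) (tt N6630 (iv F59615)) (tt N5353 F41968) (tt N4278 (iv D9358)) (tt N6632 D13565) (tt N5353 F41969) (tt N6555 (iv F59222)) (tt N6625 (iv F59592)))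
theorem Q5355 : ∀ i, i < 5355 → P i := stepQ 5354 Q5354 (allL N5354 (tt N5354 F41970) (tt N5354 F41971) (tt N6632 (iv F59623)) (tt N5354 F41972) (tt N5354 F41973) (tt N4287 F41974) (tt N4279 (iv D9359)) (tt N6633 D13566) (tt N6556 (iv F59228)) (tt N6626 (iv F59599)))
theorem Q5356 : ∀ i, i < 5356 → P i := stepQ 5355 Q5355 (allL N5355 (tt N5241 (iv F202470)) (tt N4281 F41982) (tt N5355 F41983) (tt N6634 D13568) (tt N4280 (iv D9361)) (tt N6635 D13569) (tt N6623 (iv F59577)) (tt N4288 F41984) (tt N5355 F41985) (tt N4284 F41986))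
theorem Q5357 : ∀ i, i < 5357 → P i := stepQ 5356 Q5356 (allL N5356 (tt N5356 F41987) (tt N6634 (iv F59638)) (tt N5356 F41988) (tt N4281 (iv D9362)) (tt N4532 F41989) (tt N6636 D13570) (tt N6624 (iv F59584)) (tt N4289 F41990) (tt N6637 D13571) (tt N4285 F41991))
theorem Q5358 : ∀ i, i < 5358 → P i := stepQ 5357 Q5357 (allL N5357 (tt N5357 F41992) (tt N6635 (iv F59642)) (tt N4282 F41993) (tt N6636 (iv F59650)) (tt N4301 F41994) (tt N4281 (iv D9363)) (tt N6638 D13572) (tt N4290 F41995) (tt N5357 F41996) (tt N4286 F41997))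
theorem Q5359 : ∀ i, i < 5359 → P i := stepQ 5358 Q5358 (allL N5358 (tt N5358 F41998) (tt N5358 F41999) (tt N6638 (iv F59659)) (tt N5358 F42000) (tt N4302 F42001) (tt N6626 (iv F59597)) (tt N4282 (iv D9364)) (tt N6639 D13573) (tt N5358 F42002) (tt N4287 F42003))
theorem Q5360 : ∀ i, i < 5360 → P i := stepQ 5359 Q5359 (allL N5359 (tt N4284 F42004) (tt N5359 F42005) (tt N5359 F42006) (tt N6640 D13574) (tt N4283 (iv D9365)) (tt N6641 D13575) (tt N6627 (iv F59603)) (tt N4292 F42007) (tt N6557 (iv F59234)) (tt N5241 (iv F202471)))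
theorem Q5361 : ∀ i, i < 5361 → P i := stepQ 5360 Q5360 (allL N5360 (tt N6640 (iv F59670)) (tt N4285 F42008) (tt N6642 D13576) (tt N4284 (iv D9366)) (tt N4536 F42009) (tt N6643 D13577) (tt N6628 (iv F59607)) (tt N4293 F42010) (tt N6644 D13578) (tt N6634 (iv F59641)))
theorem Q5362 : ∀ i, i < 5362 → P i := stepQ 5361 Q5361 (allL N5361 (tt N6641 (iv F59674)) (tt N4286 F42011) (tt N5361 F42012) (tt N6643 (iv F59684)) (tt N4305 F42013) (tt N4284 (iv D9367)) (tt N6645 D13579) (tt N4294 F42014) (tt N6559 (iv F59244)) (tt N6635 (iv F59647)))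
theorem Q5363 : ∀ i, i < 5363 → P i := stepQ 5362 Q5362 (allL N5362 (tt N5362 F42015) (tt N6643 (iv F59683)) (tt N5362 F42016) (tt N4286 F42017) (tt N6646 D13580) (tt N4285 (iv D9368)) (tt N6647 D13581) (tt N4295 F42018) (tt N6648 D13582) (tt N6636 (iv F59652)))
theorem Q5364 : ∀ i, i < 5364 → P i := stepQ 5363 Q5363 (allL N5363 (tt N5363 F42019) (tt N6644 (iv F59686)) (tt N5363 F42020) (tt N6561 (iv F59251)) (tt N4539 F42021) (tt N6648 (iv F59702)) (tt N6631 (iv F59620)) (tt N4296 F42022) (tt N4285 (iv D9369)) (tt N6649 D13583))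
theorem Q5365 : ∀ i, i < 5365 → P i := stepQ 5364 Q5364 (allL N5364 (tt N5364 F42023) (tt N6645 (iv F59689)) (tt N4287 F42024) (tt N6647 (iv F59699)) (tt N4308 F42025) (tt N6632 (iv F59625)) (tt N4286 (iv D9370)) (tt N6650 D13584) (tt N6562 (iv F59257)) (tt N6638 (iv F59662)))
theorem Q5366 : ∀ i, i < 5366 → P i := stepQ 5365 Q5365 (allL N5365 (tt N5365 F42026) (tt N5365 F42027) (tt N6650 (iv F59709)) (tt N5365 F42028) (tt N4309 F42029) (tt N6633 (iv F59630)) (tt N4298 F42030) (tt N4287 (iv D9371)) (tt N6563 (iv F59263)) (tt N6639 (iv F59669)))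
theorem Q5367 : ∀ i, i < 5367 → P i := stepQ 5366 Q5366 (allL N5366 (tt N5249 (iv F202892)) (tt N4289 F42037) (tt N6651 D13587) (tt N4288 (iv D9373)) (tt N4547 F42038) (tt N6652 D13588) (tt N5366 F42039) (tt N6634 (iv F59640)) (tt N6653 D13589) (tt N4293 F42040))
theorem Q5368 : ∀ i, i < 5368 → P i := stepQ 5367 Q5367 (allL N5367 (tt N5250 (iv F203281)) (tt N4290 F42041) (tt N5367 F42042) (tt N6652 (iv F59729)) (tt N4311 F42043) (tt N4288 (iv D9374)) (tt N6654 D13590) (tt N6635 (iv F59645)) (tt N5367 F42044) (tt N4294 F42045))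
theorem Q5369 : ∀ i, i < 5369 → P i := stepQ 5368 Q5368 (allL N5368 (tt N5368 F42046) (tt N6652 (iv F59728)) (tt N5368 F42047) (tt N4290 F42048) (tt N6655 D13591) (tt N4289 (iv D9375)) (tt N6656 D13592) (tt N6636 (iv F59651)) (tt N6657 D13593) (tt N4295 F42049))
theorem Q5370 : ∀ i, i < 5370 → P i := stepQ 5369 Q5369 (allL N5369 (tt N5369 F42050) (tt N6653 (iv F59731)) (tt N5369 F42051) (tt N5369 F42052) (tt N4550 F42053) (tt N6657 (iv F59754)) (tt N5369 F42054) (tt N6637 (iv F59657)) (tt N4289 (iv D9376)) (tt N6658 D13594))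
theorem Q5371 : ∀ i, i < 5371 → P i := stepQ 5370 Q5370 (allL N5370 (tt N5370 F42055) (tt N6654 (iv F59735)) (tt N4291 F42056) (tt N6656 (iv F59748)) (tt N4314 F42057) (tt N5370 F42058) (tt N4290 (iv D9377)) (tt N6659 D13595) (tt N5370 F42059) (tt N4297 F42060))
theorem Q5372 : ∀ i, i < 5372 → P i := stepQ 5371 Q5371 (allL N5371 (tt N5371 F42061) (tt N5371 F42062) (tt N6659 (iv F59762)) (tt N5371 F42063) (tt N4315 F42064) (tt N5371 F42065) (tt N6639 (iv F59667)) (tt N4291 (iv D9378)) (tt N5371 F42066) (tt N4298 F42067))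
theorem Q5373 : ∀ i, i < 5373 → P i := stepQ 5372 Q5372 (allL N5372 (tt N4293 F42068) (tt N5372 F42069) (tt N4557 (iv F205723)) (tt N4292 (iv D9379)) (tt N4553 F42070) (tt N6660 D13597) (tt N5372 F42071) (tt N6640 (iv F59673)) (tt N4555 (iv F205633)) (tt N5249 (iv F202893)))
theorem Q5374 : ∀ i, i < 5374 → P i := stepQ 5373 Q5373 (allL N5373 (tt N4294 F42072) (tt N5373 F42073) (tt N5373 F42074) (tt N6660 (iv F59773)) (tt N4317 F42075) (tt N4292 (iv D9380)) (tt N6661 D13599) (tt N6641 (iv F59678)) (tt N6564 (iv F59274)) (tt N5250 (iv F203282)))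
theorem Q5375 : ∀ i, i < 5375 → P i := stepQ 5374 Q5374 (allL N5374 (tt N4557 F205760) (tt N5374 F42076) (tt N4293 (iv D9381)) (tt N5374 F42077) (tt N4555 F42078) (tt N6662 D13600) (tt N5374 F42079) (tt N6642 (iv F59682)) (tt N4553 F205761) (tt N6651 (iv F59727)))
theorem Q5376 : ∀ i, i < 5376 → P i := stepQ 5375 Q5375 (allL N5375 (tt N6660 (iv F59771)) (tt N4295 F42080) (tt N6662 (iv F59784)) (tt N4294 F42081) (tt N6663 D13602) (tt N4293 (iv D9382)) (tt N6664 D13603) (tt N6643 (iv F59685)) (tt N6665 D13604) (tt N6652 (iv F59730)))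
theorem Q5377 : ∀ i, i < 5377 → P i := stepQ 5376 Q5376 (allL N5376 (tt N4555 F205749) (tt N4296 F42082) (tt N4553 F205750) (tt N4998 F205751) (tt N4557 F42083) (tt N6665 (iv F59797)) (tt N5376 F42084) (tt N6644 (iv F59688)) (tt N4293 (iv D9383)) (tt N5248 (iv F205992)))
theorem Q5378 : ∀ i, i < 5378 → P i := stepQ 5377 Q5377 (allL N5377 (tt N6661 (iv F59778)) (tt N4297 F42085) (tt N5377 F42086) (tt N6664 (iv F59794)) (tt N4321 F42087) (tt N5377 F42088) (tt N4294 (iv D9384)) (tt N6666 D13606) (tt N6566 (iv F59291)) (tt N6654 (iv F59740)))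
theorem Q5379 : ∀ i, i < 5379 → P i := stepQ 5378 Q5378 (allL N5378 (tt N5378 F42089) (tt N6663 (iv F59790)) (tt N5378 F42090) (tt N4322 F42091) (tt N4295 (iv D9385)) (tt N4559 F42092) (tt N6667 D13607) (tt N6646 (iv F59696)) (tt N6668 D13608) (tt N6655 (iv F59745)))
theorem Q5380 : ∀ i, i < 5380 → P i := stepQ 5379 Q5379 (allL N5379 (tt N5379 F42093) (tt N6664 (iv F59793)) (tt N5379 F42094) (tt N4297 F42095) (tt N6667 (iv F59808)) (tt N5379 F42096) (tt N4295 (iv D9386)) (tt N6669 D13609) (tt N6670 D13610) (tt N6656 (iv F59750)))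
theorem Q5381 : ∀ i, i < 5381 → P i := stepQ 5380 Q5380 (allL N5380 (tt N5380 F42097) (tt N6665 (iv F59796)) (tt N5380 F42098) (tt N6569 (iv F59302)) (tt N6668 (iv F59811)) (tt N4296 F42099) (tt N6670 (iv F59820)) (tt N6648 (iv F59703)) (tt N4295 (iv D9387)) (tt N6671 D13611))
theorem Q5382 : ∀ i, i < 5382 → P i := stepQ 5381 Q5381 (allL N5381 (tt N5381 F42100) (tt N5248 F206091) (tt N5381 F42101) (tt N5252 F206092) (tt N4562 F42102) (tt N6671 (iv F59823)) (tt N5381 F42103) (tt N6649 (iv F59707)) (tt N6658 (iv F59760)) (tt N4296 (iv D9388)))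
theorem Q5383 : ∀ i, i < 5383 → P i := stepQ 5382 Q5382 (allL N5382 (tt N5382 F42104) (tt N6666 (iv F59801)) (tt N4298 F42105) (tt N6669 (iv F59815)) (tt N4326 F42106) (tt N5382 F42107) (tt N6650 (iv F59711)) (tt N4297 (iv D9389)) (tt N6570 (iv F59313)) (tt N6659 (iv F59766)))
theorem Q5384 : ∀ i, i < 5384 → P i := stepQ 5383 Q5383 (allL N5383 (tt N5212 (iv F201532)) (tt N4300 F42115) (tt N6672 D13614) (tt N4299 (iv D9391)) (tt N4567 F42116) (tt N6673 D13615) (tt N5383 F42117) (tt N4310 F42118) (tt N6674 D13616) (tt N4304 F42119))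
theorem Q5385 : ∀ i, i < 5385 → P i := stepQ 5384 Q5384 (allL N5384 (tt N5242 (iv F202389)) (tt N4301 F42120) (tt N5384 F42121) (tt N6673 (iv F59843)) (tt N6635 (iv F59644)) (tt N4299 (iv D9392)) (tt N6675 D13617) (tt N4311 F42122) (tt N5384 F42123) (tt N4305 F42124))
theorem Q5386 : ∀ i, i < 5386 → P i := stepQ 5385 Q5385 (allL N5385 (tt N5385 F42125) (tt N6673 (iv F59842)) (tt N4360 F42126) (tt N4301 F42127) (tt N6676 D13618) (tt N4300 (iv D9393)) (tt N6677 D13619) (tt N4312 F42128) (tt N6678 D13620) (tt N4306 F42129))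
theorem Q5387 : ∀ i, i < 5387 → P i := stepQ 5386 Q5386 (allL N5386 (tt N5386 F42130) (tt N6674 (iv F59846)) (tt N4361 F42131) (tt N5386 F42132) (tt N4570 F42133) (tt N6678 (iv F59869)) (tt N5386 F42134) (tt N4313 F42135) (tt N4300 (iv D9394)) (tt N6679 D13621))
theorem Q5388 : ∀ i, i < 5388 → P i := stepQ 5387 Q5387 (allL N5387 (tt N5387 F42136) (tt N6675 (iv F59851)) (tt N4302 F42137) (tt N6677 (iv F59863)) (tt N6638 (iv F59660)) (tt N5387 F42138) (tt N4301 (iv D9395)) (tt N6680 D13622) (tt N5387 F42139) (tt N4308 F42140))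
theorem Q5389 : ∀ i, i < 5389 → P i := stepQ 5388 Q5388 (allL N5388 (tt N5388 F42141) (tt N5388 F42142) (tt N6680 (iv F59879)) (tt N4363 F42143) (tt N6639 (iv F59666)) (tt N5388 F42144) (tt N4315 F42145) (tt N4302 (iv D9396)) (tt N5388 F42146) (tt N4309 F42147))
theorem Q5390 : ∀ i, i < 5390 → P i := stepQ 5389 Q5389 (allL N5389 (tt N4304 F42148) (tt N5389 F42149) (tt N6681 D13623) (tt N4303 (iv D9397)) (tt N4573 F42150) (tt N6682 D13624) (tt N5389 F42151) (tt N4316 F42152) (tt N6683 D13625) (tt N5212 (iv F201533)))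
theorem Q5391 : ∀ i, i < 5391 → P i := stepQ 5390 Q5390 (allL N5390 (tt N4305 F42153) (tt N5390 F42154) (tt N5390 F42155) (tt N6682 (iv F59891)) (tt N6641 (iv F59677)) (tt N4303 (iv D9398)) (tt N6684 D13626) (tt N4317 F42156) (tt N6572 (iv F59325)) (tt N5242 (iv F202390)))
theorem Q5392 : ∀ i, i < 5392 → P i := stepQ 5391 Q5391 (allL N5391 (tt N6681 (iv F59884)) (tt N4366 F42157) (tt N4304 (iv D9399)) (tt N5391 F42158) (tt N4575 F42159) (tt N6685 D13627) (tt N5391 F42160) (tt N4318 F42161) (tt N6686 D13628) (tt N6672 (iv F59841)))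
theorem Q5393 : ∀ i, i < 5393 → P i := stepQ 5392 Q5392 (allL N5392 (tt N6682 (iv F59889)) (tt N4306 F42162) (tt N6685 (iv F59903)) (tt N4305 F42163) (tt N6687 D13629) (tt N4304 (iv D9400)) (tt N6688 D13630) (tt N4319 F42164) (tt N6689 D13631) (tt N6673 (iv F59845)))
theorem Q5394 : ∀ i, i < 5394 → P i := stepQ 5393 Q5393 (allL N5393 (tt N6683 (iv F59893)) (tt N4307 F42165) (tt N6686 (iv F59907)) (tt N6575 (iv F59338)) (tt N4577 F42166) (tt N6689 (iv F59918)) (tt N5393 F42167) (tt N4320 F42168) (tt N4304 (iv D9401)) (tt N6690 D13632))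
theorem Q5395 : ∀ i, i < 5395 → P i := stepQ 5394 Q5394 (allL N5394 (tt N6684 (iv F59898)) (tt N4308 F42169) (tt N5394 F42170) (tt N6688 (iv F59915)) (tt N6645 (iv F59691)) (tt N5394 F42171) (tt N4305 (iv D9402)) (tt N6691 D13633) (tt N6576 (iv F59345)) (tt N6675 (iv F59855)))
theorem Q5396 : ∀ i, i < 5396 → P i := stepQ 5395 Q5395 (allL N5395 (tt N5395 F42172) (tt N6687 (iv F59911)) (tt N4370 F42173) (tt N6646 (iv F59694)) (tt N4306 (iv D9403)) (tt N4579 F42174) (tt N6692 D13634) (tt N4322 F42175) (tt N6693 D13635) (tt N6676 (iv F59860)))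
theorem Q5397 : ∀ i, i < 5397 → P i := stepQ 5396 Q5396 (allL N5396 (tt N5396 F42176) (tt N6688 (iv F59914)) (tt N4371 F42177) (tt N4308 F42178) (tt N6692 (iv F59930)) (tt N5396 F42179) (tt N4306 (iv D9404)) (tt N6694 D13636) (tt N6695 D13637) (tt N6677 (iv F59865)))
theorem Q5398 : ∀ i, i < 5398 → P i := stepQ 5397 Q5397 (allL N5397 (tt N5397 F42180) (tt N6689 (iv F59917)) (tt N4372 F42181) (tt N6579 (iv F59359)) (tt N6693 (iv F59933)) (tt N4307 F42182) (tt N6695 (iv F59944)) (tt N4324 F42183) (tt N4306 (iv D9405)) (tt N6696 D13638))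
theorem Q5399 : ∀ i, i < 5399 → P i := stepQ 5398 Q5398 (allL N5398 (tt N5398 F42184) (tt N6690 (iv F59920)) (tt N4373 F42185) (tt N6580 (iv F59364)) (tt N4582 F42186) (tt N6696 (iv F59947)) (tt N5398 F42187) (tt N4325 F42188) (tt N6679 (iv F59877)) (tt N4307 (iv D9406)))
theorem Q5400 : ∀ i, i < 5400 → P i := stepQ 5399 Q5399 (allL N5399 (tt N5399 F42189) (tt N6691 (iv F59924)) (tt N4309 F42190) (tt N6694 (iv F59938)) (tt N6650 (iv F59710)) (tt N5399 F42191) (tt N4326 F42192) (tt N4308 (iv D9407)) (tt N6581 (iv F59373)) (tt N6680 (iv F59883)))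
theorem Q5401 : ∀ i, i < 5401 → P i := stepQ 5400 Q5400 (allL N5400 (tt N5128 (iv F201530)) (tt N4384 F42203) (tt N4310 (iv D9410)) (tt N5400 F42204) (tt N4588 F42205) (tt N6697 D13643) (tt N4327 F42206) (tt N6672 (iv F59840)) (tt N6698 D13644) (tt N4318 F42207))
theorem Q5402 : ∀ i, i < 5402 → P i := stepQ 5401 Q5401 (allL N5401 (tt N5225 (iv F202385)) (tt N4312 F42208) (tt N6697 (iv F59970)) (tt N4311 F42209) (tt N6699 D13645) (tt N4310 (iv D9411)) (tt N6700 D13646) (tt N6673 (iv F59844)) (tt N6701 D13647) (tt N4319 F42210))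
theorem Q5403 : ∀ i, i < 5403 → P i := stepQ 5402 Q5402 (allL N5402 (tt N4874 (iv F202350)) (tt N4313 F42211) (tt N6698 (iv F59974)) (tt N5402 F42212) (tt N4590 F42213) (tt N6701 (iv F59986)) (tt N4329 F42214) (tt N6674 (iv F59850)) (tt N4310 (iv D9412)) (tt N6702 D13648))
theorem Q5404 : ∀ i, i < 5404 → P i := stepQ 5403 Q5403 (allL N5403 (tt N5251 (iv F203283)) (tt N4314 F42215) (tt N5403 F42216) (tt N6700 (iv F59981)) (tt N6654 (iv F59737)) (tt N4330 F42217) (tt N4311 (iv D9413)) (tt N6703 D13649) (tt N5403 F42218) (tt N4321 F42219))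
theorem Q5405 : ∀ i, i < 5405 → P i := stepQ 5404 Q5404 (allL N5404 (tt N5404 F42220) (tt N6699 (iv F59977)) (tt N4388 F42221) (tt N6655 (iv F59743)) (tt N4312 (iv D9414)) (tt N4592 F42222) (tt N6704 D13650) (tt N6676 (iv F59859)) (tt N6705 D13651) (tt N4322 F42223))
theorem Q5406 : ∀ i, i < 5406 → P i := stepQ 5405 Q5405 (allL N5405 (tt N5405 F42224) (tt N6700 (iv F59980)) (tt N4389 F42225) (tt N4314 F42226) (tt N6704 (iv F59999)) (tt N4332 F42227) (tt N4312 (iv D9415)) (tt N6706 D13652) (tt N6707 D13653) (tt N4323 F42228))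
theorem Q5407 : ∀ i, i < 5407 → P i := stepQ 5406 Q5406 (allL N5406 (tt N5406 F42229) (tt N6701 (iv F59984)) (tt N4390 F42230) (tt N5406 F42231) (tt N6705 (iv F60003)) (tt N4313 F42232) (tt N6707 (iv F60014)) (tt N6678 (iv F59870)) (tt N4312 (iv D9416)) (tt N6708 D13654))
theorem Q5408 : ∀ i, i < 5408 → P i := stepQ 5407 Q5407 (allL N5407 (tt N5407 F42233) (tt N6702 (iv F59987)) (tt N4391 F42234) (tt N5407 F42235) (tt N4595 F42236) (tt N6708 (iv F60018)) (tt N4334 F42237) (tt N6679 (iv F59876)) (tt N4325 F42238) (tt N4313 (iv D9417)))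
theorem Q5409 : ∀ i, i < 5409 → P i := stepQ 5408 Q5408 (allL N5408 (tt N5408 F42239) (tt N6703 (iv F59992)) (tt N4315 F42240) (tt N6706 (iv F60007)) (tt N6659 (iv F59763)) (tt N4335 F42241) (tt N6680 (iv F59881)) (tt N4314 (iv D9418)) (tt N5408 F42242) (tt N4326 F42243))
theorem Q5410 : ∀ i, i < 5410 → P i := stepQ 5409 Q5409 (allL N5409 (tt N4318 F42244) (tt N6709 D13655) (tt N4316 (iv D9419)) (tt N5409 F42245) (tt N4597 F42246) (tt N6710 D13656) (tt N4336 F42247) (tt N6681 (iv F59888)) (tt N6711 D13657) (tt N5128 (iv F201531)))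
theorem Q5411 : ∀ i, i < 5411 → P i := stepQ 5410 Q5410 (allL N5410 (tt N4319 F42248) (tt N5410 F42249) (tt N6710 (iv F60026)) (tt N4317 F42250) (tt N6712 D13658) (tt N4316 (iv D9420)) (tt N6713 D13659) (tt N6682 (iv F59892)) (tt N6714 D13660) (tt N5225 (iv F202386)))
theorem Q5412 : ∀ i, i < 5412 → P i := stepQ 5411 Q5411 (allL N5411 (tt N4320 F42251) (tt N5411 F42252) (tt N6711 (iv F60029)) (tt N6584 (iv F59386)) (tt N4599 F42253) (tt N6714 (iv F60041)) (tt N4338 F42254) (tt N6683 (iv F59897)) (tt N4316 (iv D9421)) (tt N6715 D13661))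
theorem Q5413 : ∀ i, i < 5413 → P i := stepQ 5412 Q5412 (allL N5412 (tt N4321 F42255) (tt N5412 F42256) (tt N5412 F42257) (tt N6713 (iv F60037)) (tt N6661 (iv F59781)) (tt N4339 F42258) (tt N4317 (iv D9422)) (tt N6716 D13662) (tt N6585 (iv F59393)) (tt N5251 (iv F203284)))
theorem Q5414 : ∀ i, i < 5414 → P i := stepQ 5413 Q5413 (allL N5413 (tt N6710 (iv F60025)) (tt N4397 F42259) (tt N4319 F42260) (tt N5413 F42261) (tt N6717 D13663) (tt N4318 (iv D9423)) (tt N6718 D13664) (tt N6685 (iv F59905)) (tt N6719 D13665) (tt N6697 (iv F59972)))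
theorem Q5415 : ∀ i, i < 5415 → P i := stepQ 5414 Q5414 (allL N5414 (tt N6711 (iv F60028)) (tt N4398 F42262) (tt N4320 F42263) (tt N6720 D13666) (tt N4602 F42264) (tt N6719 (iv F60059)) (tt N4341 F42265) (tt N6686 (iv F59910)) (tt N4318 (iv D9424)) (tt N6721 D13667))
theorem Q5416 : ∀ i, i < 5416 → P i := stepQ 5415 Q5415 (allL N5415 (tt N6712 (iv F60032)) (tt N4322 F42266) (tt N6717 (iv F60051)) (tt N6663 (iv F59791)) (tt N4319 (iv D9425)) (tt N4603 F42267) (tt N6722 D13668) (tt N6687 (iv F59913)) (tt N6723 D13669) (tt N6699 (iv F59979)))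
theorem Q5417 : ∀ i, i < 5417 → P i := stepQ 5416 Q5416 (allL N5416 (tt N6713 (iv F60035)) (tt N4323 F42268) (tt N6718 (iv F60054)) (tt N4321 F42269) (tt N6722 (iv F60068)) (tt N4343 F42270) (tt N4319 (iv D9426)) (tt N6724 D13670) (tt N6725 D13671) (tt N6700 (iv F59983)))
theorem Q5418 : ∀ i, i < 5418 → P i := stepQ 5417 Q5417 (allL N5417 (tt N6714 (iv F60039)) (tt N4324 F42271) (tt N6719 (iv F60058)) (tt N6590 (iv F59411)) (tt N6723 (iv F60070)) (tt N4320 F42272) (tt N6725 (iv F60077)) (tt N6689 (iv F59919)) (tt N4319 (iv D9427)) (tt N6726 D13672))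
theorem Q5419 : ∀ i, i < 5419 → P i := stepQ 5418 Q5418 (allL N5418 (tt N6715 (iv F60042)) (tt N4325 F42273) (tt N6721 (iv F60064)) (tt N6591 (iv F59414)) (tt N4606 F42274) (tt N6726 (iv F60079)) (tt N4345 F42275) (tt N6690 (iv F59923)) (tt N6702 (iv F59991)) (tt N4320 (iv D9428)))
theorem Q5420 : ∀ i, i < 5420 → P i := stepQ 5419 Q5419 (allL N5419 (tt N6716 (iv F60046)) (tt N4326 F42276) (tt N5419 F42277) (tt N6724 (iv F60073)) (tt N6666 (iv F59803)) (tt N4346 F42278) (tt N6691 (iv F59927)) (tt N4321 (iv D9429)) (tt N6592 (iv F59421)) (tt N6703 (iv F59996)))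
theorem Q5421 : ∀ i, i < 5421 → P i := stepQ 5420 Q5420 (allL N5420 (tt N5420 F42279) (tt N6722 (iv F60067)) (tt N4404 F42280) (tt N6667 (iv F59807)) (tt N4323 F42281) (tt N6727 D13673) (tt N4322 (iv D9430)) (tt N6728 D13674) (tt N6729 D13675) (tt N6704 (iv F60000)))
theorem Q5422 : ∀ i, i < 5422 → P i := stepQ 5421 Q5421 (allL N5421 (tt N5421 F42282) (tt N6723 (iv F60069)) (tt N4405 F42283) (tt N6730 D13676) (tt N4324 F42284) (tt N4609 F42285) (tt N6729 (iv F60090)) (tt N6693 (iv F59935)) (tt N4322 (iv D9431)) (tt N6731 D13677))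
theorem Q5423 : ∀ i, i < 5423 → P i := stepQ 5422 Q5422 (allL N5422 (tt N5422 F42286) (tt N6724 (iv F60072)) (tt N4406 F42287) (tt N4326 F42288) (tt N6728 (iv F60086)) (tt N4349 F42289) (tt N6694 (iv F59940)) (tt N4323 (iv D9432)) (tt N6732 D13678) (tt N6706 (iv F60009)))
theorem Q5424 : ∀ i, i < 5424 → P i := stepQ 5423 Q5423 (allL N5423 (tt N5423 F42290) (tt N6725 (iv F60075)) (tt N4407 F42291) (tt N6596 (iv F59438)) (tt N6729 (iv F60089)) (tt N4350 F42292) (tt N4324 F42293) (tt N6732 (iv F60100)) (tt N4323 (iv D9433)) (tt N6733 D13679))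
theorem Q5425 : ∀ i, i < 5425 → P i := stepQ 5424 Q5424 (allL N5424 (tt N5424 F42294) (tt N6726 (iv F60078)) (tt N4408 F42295) (tt N6597 (iv F59443)) (tt N6731 (iv F60095)) (tt N4325 F42296) (tt N6733 (iv F60104)) (tt N6696 (iv F59948)) (tt N6708 (iv F60019)) (tt N4324 (iv D9434)))
theorem Q5426 : ∀ i, i < 5426 → P i := stepQ 5425 Q5425 (allL N5425 (tt N5163 (iv F202368)) (tt N4424 F42318) (tt N4328 F42319) (tt N5425 F42320) (tt N6734 D13688) (tt N4327 (iv D9439)) (tt N6735 D13689) (tt N5425 F42321) (tt N6736 D13690) (tt N4340 F42322))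
theorem Q5427 : ∀ i, i < 5427 → P i := stepQ 5426 Q5426 (allL N5426 (tt N4765 (iv F202347)) (tt N4425 F42323) (tt N4329 F42324) (tt N6737 D13691) (tt N4619 F42325) (tt N6736 (iv F60159)) (tt N6698 (iv F59976)) (tt N5426 F42326) (tt N4327 (iv D9440)) (tt N6738 D13692))
theorem Q5428 : ∀ i, i < 5428 → P i := stepQ 5427 Q5427 (allL N5427 (tt N5230 (iv F203262)) (tt N4331 F42327) (tt N6734 (iv F60149)) (tt N5427 F42328) (tt N4328 (iv D9441)) (tt N4620 F42329) (tt N6739 D13693) (tt N5427 F42330) (tt N6740 D13694) (tt N4342 F42331))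
theorem Q5429 : ∀ i, i < 5429 → P i := stepQ 5428 Q5428 (allL N5428 (tt N5231 (iv F203264)) (tt N4332 F42332) (tt N6735 (iv F60154)) (tt N4330 F42333) (tt N6739 (iv F60172)) (tt N6700 (iv F59982)) (tt N4328 (iv D9442)) (tt N6741 D13695) (tt N6742 D13696) (tt N4343 F42334))
theorem Q5430 : ∀ i, i < 5430 → P i := stepQ 5429 Q5429 (allL N5429 (tt N4913 (iv F203251)) (tt N4333 F42335) (tt N6736 (iv F60158)) (tt N5429 F42336) (tt N6740 (iv F60175)) (tt N4329 F42337) (tt N6742 (iv F60184)) (tt N5429 F42338) (tt N4328 (iv D9443)) (tt N6743 D13697))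
theorem Q5431 : ∀ i, i < 5431 → P i := stepQ 5430 Q5430 (allL N5430 (tt N4914 (iv F203252)) (tt N4334 F42339) (tt N6738 (iv F60166)) (tt N5430 F42340) (tt N4623 F42341) (tt N6743 (iv F60187)) (tt N6702 (iv F59990)) (tt N5430 F42342) (tt N4345 F42343) (tt N4329 (iv D9444)))
theorem Q5432 : ∀ i, i < 5432 → P i := stepQ 5431 Q5431 (allL N5431 (tt N5255 (iv F204001)) (tt N4335 F42344) (tt N5431 F42345) (tt N6741 (iv F60179)) (tt N5431 F42346) (tt N6703 (iv F59994)) (tt N5431 F42347) (tt N4330 (iv D9445)) (tt N5431 F42348) (tt N4346 F42349))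
theorem Q5433 : ∀ i, i < 5433 → P i := stepQ 5432 Q5432 (allL N5432 (tt N5432 F42350) (tt N6739 (iv F60170)) (tt N4431 F42351) (tt N5432 F42352) (tt N4332 F42353) (tt N6744 D13698) (tt N4331 (iv D9446)) (tt N6745 D13699) (tt N6746 D13700) (tt N4347 F42354))
theorem Q5434 : ∀ i, i < 5434 → P i := stepQ 5433 Q5433 (allL N5433 (tt N5433 F42355) (tt N6740 (iv F60174)) (tt N4432 F42356) (tt N6747 D13701) (tt N4333 F42357) (tt N4626 F42358) (tt N6746 (iv F60204)) (tt N5433 F42359) (tt N4331 (iv D9447)) (tt N6748 D13702))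
theorem Q5435 : ∀ i, i < 5435 → P i := stepQ 5434 Q5434 (allL N5434 (tt N5434 F42360) (tt N6741 (iv F60178)) (tt N4433 F42361) (tt N4335 F42362) (tt N6745 (iv F60198)) (tt N6706 (iv F60008)) (tt N5434 F42363) (tt N4332 (iv D9448)) (tt N6749 D13703) (tt N4349 F42364))
theorem Q5436 : ∀ i, i < 5436 → P i := stepQ 5435 Q5435 (allL N5435 (tt N5435 F42365) (tt N6742 (iv F60182)) (tt N4434 F42366) (tt N5435 F42367) (tt N6746 (iv F60203)) (tt N6707 (iv F60013)) (tt N4333 F42368) (tt N6749 (iv F60220)) (tt N4332 (iv D9449)) (tt N6750 D13704))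
theorem Q5437 : ∀ i, i < 5437 → P i := stepQ 5436 Q5436 (allL N5436 (tt N5436 F42369) (tt N6743 (iv F60185)) (tt N4435 F42370) (tt N5436 F42371) (tt N6748 (iv F60212)) (tt N4334 F42372) (tt N6750 (iv F60224)) (tt N5436 F42373) (tt N4351 F42374) (tt N4333 (iv D9450)))
theorem Q5438 : ∀ i, i < 5438 → P i := stepQ 5437 Q5437 (allL N5437 (tt N4436 F42375) (tt N4336 (iv D9451)) (tt N5437 F42376) (tt N5437 F42377) (tt N4630 F42378) (tt N6751 D13705) (tt N6709 (iv F60024)) (tt N5437 F42379) (tt N6752 D13706) (tt N5071 F201949))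
theorem Q5439 : ∀ i, i < 5439 → P i := stepQ 5438 Q5438 (allL N5438 (tt N4340 F42380) (tt N6751 (iv F60227)) (tt N4337 F42381) (tt N5438 F42382) (tt N6753 D13707) (tt N4336 (iv D9452)) (tt N6754 D13708) (tt N5438 F42383) (tt N6755 D13709) (tt N5163 (iv F202369)))
theorem Q5440 : ∀ i, i < 5440 → P i := stepQ 5439 Q5439 (allL N5439 (tt N4341 F42384) (tt N6752 (iv F60232)) (tt N4338 F42385) (tt N6756 D13710) (tt N4632 F42386) (tt N6755 (iv F60245)) (tt N6711 (iv F60031)) (tt N5439 F42387) (tt N4336 (iv D9453)) (tt N6757 D13711))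
theorem Q5441 : ∀ i, i < 5441 → P i := stepQ 5440 Q5440 (allL N5440 (tt N4342 F42388) (tt N5440 F42389) (tt N6753 (iv F60237)) (tt N5440 F42390) (tt N4337 (iv D9454)) (tt N4633 F42391) (tt N6758 D13712) (tt N5440 F42392) (tt N6759 D13713) (tt N5230 (iv F203263)))
theorem Q5442 : ∀ i, i < 5442 → P i := stepQ 5441 Q5441 (allL N5441 (tt N4343 F42393) (tt N5441 F42394) (tt N6754 (iv F60241)) (tt N4339 F42395) (tt N6758 (iv F60257)) (tt N6713 (iv F60038)) (tt N4337 (iv D9455)) (tt N6760 D13714) (tt N6761 D13715) (tt N5231 (iv F203265)))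
theorem Q5443 : ∀ i, i < 5443 → P i := stepQ 5442 Q5442 (allL N5442 (tt N4344 F42396) (tt N5442 F42397) (tt N6755 (iv F60244)) (tt N6603 (iv F59473)) (tt N6759 (iv F60260)) (tt N4338 F42398) (tt N6761 (iv F60269)) (tt N5442 F42399) (tt N4337 (iv D9456)) (tt N6762 D13716))
theorem Q5444 : ∀ i, i < 5444 → P i := stepQ 5443 Q5443 (allL N5443 (tt N4345 F42400) (tt N5443 F42401) (tt N6757 (iv F60251)) (tt N6604 (iv F59478)) (tt N4636 F42402) (tt N6762 (iv F60272)) (tt N6715 (iv F60045)) (tt N5443 F42403) (tt N4914 (iv F203253)) (tt N4338 (iv D9457)))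
theorem Q5445 : ∀ i, i < 5445 → P i := stepQ 5444 Q5444 (allL N5444 (tt N4346 F42404) (tt N5444 F42405) (tt N5444 F42406) (tt N6760 (iv F60265)) (tt N5444 F42407) (tt N6716 (iv F60049)) (tt N5444 F42408) (tt N4339 (iv D9458)) (tt N6605 (iv F59487)) (tt N5255 (iv F204002)))
theorem Q5446 : ∀ i, i < 5446 → P i := stepQ 5445 Q5445 (allL N5445 (tt N6753 (iv F60236)) (tt N4444 F42409) (tt N4342 F42410) (tt N6763 D13717) (tt N4340 (iv D9459)) (tt N4638 F42411) (tt N6764 D13718) (tt N5445 F42412) (tt N6765 D13719) (tt N6734 (iv F60152)))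
theorem Q5447 : ∀ i, i < 5447 → P i := stepQ 5446 Q5446 (allL N5446 (tt N6754 (iv F60240)) (tt N4445 F42413) (tt N4343 F42414) (tt N5446 F42415) (tt N6764 (iv F60281)) (tt N6718 (iv F60056)) (tt N4340 (iv D9460)) (tt N6766 D13720) (tt N6767 D13721) (tt N6735 (iv F60156)))
theorem Q5448 : ∀ i, i < 5448 → P i := stepQ 5447 Q5447 (allL N5447 (tt N6755 (iv F60243)) (tt N4446 F42416) (tt N4344 F42417) (tt N6768 D13722) (tt N6765 (iv F60284)) (tt N4341 F42418) (tt N6767 (iv F60293)) (tt N5447 F42419) (tt N4340 (iv D9461)) (tt N6769 D13723))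
theorem Q5449 : ∀ i, i < 5449 → P i := stepQ 5448 Q5448 (allL N5448 (tt N6756 (iv F60247)) (tt N4447 F42420) (tt N6609 (iv F59503)) (tt N4341 (iv D9462)) (tt N6770 D13724) (tt N6768 (iv F60295)) (tt N6720 (iv F60061)) (tt N5448 F42421) (tt N5448 F42422) (tt N6771 D13725))
theorem Q5450 : ∀ i, i < 5450 → P i := stepQ 5449 Q5449 (allL N5449 (tt N6757 (iv F60250)) (tt N4448 F42423) (tt N4345 F42424) (tt N6771 (iv F60307)) (tt N4642 F42425) (tt N6769 (iv F60300)) (tt N6721 (iv F60066)) (tt N5449 F42426) (tt N6738 (iv F60169)) (tt N4341 (iv D9463)))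
theorem Q5451 : ∀ i, i < 5451 → P i := stepQ 5450 Q5450 (allL N5450 (tt N6758 (iv F60254)) (tt N4347 F42427) (tt N6764 (iv F60280)) (tt N5450 F42428) (tt N4343 F42429) (tt N6772 D13726) (tt N4342 (iv D9464)) (tt N6773 D13727) (tt N6774 D13728) (tt N6739 (iv F60173)))
theorem Q5452 : ∀ i, i < 5452 → P i := stepQ 5451 Q5451 (allL N5451 (tt N6759 (iv F60258)) (tt N4348 F42430) (tt N6765 (iv F60283)) (tt N6775 D13729) (tt N4344 F42431) (tt N4644 F42432) (tt N6774 (iv F60318)) (tt N5451 F42433) (tt N4342 (iv D9465)) (tt N6776 D13730))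
theorem Q5453 : ∀ i, i < 5453 → P i := stepQ 5452 Q5452 (allL N5452 (tt N6760 (iv F60263)) (tt N4349 F42434) (tt N6766 (iv F60288)) (tt N4346 F42435) (tt N6773 (iv F60314)) (tt N6724 (iv F60074)) (tt N5452 F42436) (tt N4343 (iv D9466)) (tt N6777 D13731) (tt N6741 (iv F60181)))
theorem Q5454 : ∀ i, i < 5454 → P i := stepQ 5453 Q5453 (allL N5453 (tt N6761 (iv F60267)) (tt N4350 F42437) (tt N6767 (iv F60292)) (tt N6614 (iv F59524)) (tt N6774 (iv F60317)) (tt N6725 (iv F60076)) (tt N4344 F42438) (tt N6777 (iv F60329)) (tt N4343 (iv D9467)) (tt N6778 D13732))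
theorem Q5455 : ∀ i, i < 5455 → P i := stepQ 5454 Q5454 (allL N5454 (tt N6762 (iv F60270)) (tt N4351 F42439) (tt N6769 (iv F60299)) (tt N6615 (iv F59527)) (tt N6776 (iv F60324)) (tt N4345 F42440) (tt N6778 (iv F60331)) (tt N5454 F42441) (tt N6743 (iv F60189)) (tt N4344 (iv D9468)))
theorem Q5456 : ∀ i, i < 5456 → P i := stepQ 5455 Q5455 (allL N5455 (tt N5455 F42442) (tt N6772 (iv F60309)) (tt N4454 F42443) (tt N5455 F42444) (tt N6727 (iv F60082)) (tt N4347 (iv D9469)) (tt N4648 F42445) (tt N6779 D13733) (tt N6780 D13734) (tt N6744 (iv F60194)))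
theorem Q5457 : ∀ i, i < 5457 → P i := stepQ 5456 Q5456 (allL N5456 (tt N5456 F42446) (tt N6773 (iv F60312)) (tt N4455 F42447) (tt N5456 F42448) (tt N4349 F42449) (tt N6779 (iv F60335)) (tt N5456 F42450) (tt N4347 (iv D9470)) (tt N6781 D13735) (tt N6745 (iv F60200)))
theorem Q5458 : ∀ i, i < 5458 → P i := stepQ 5457 Q5457 (allL N5457 (tt N5457 F42451) (tt N6774 (iv F60316)) (tt N4456 F42452) (tt N6782 D13736) (tt N4350 F42453) (tt N6780 (iv F60338)) (tt N4348 F42454) (tt N6781 (iv F60344)) (tt N4347 (iv D9471)) (tt N6783 D13737))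
theorem Q5459 : ∀ i, i < 5459 → P i := stepQ 5458 Q5458 (allL N5458 (tt N5458 F42455) (tt N6775 (iv F60319)) (tt N6784 D13738) (tt N4348 (iv D9472)) (tt N6619 (iv F59547)) (tt N4651 F42456) (tt N6782 (iv F60346)) (tt N5458 F42457) (tt N5458 F42458) (tt N6785 D13739))
theorem Q5460 : ∀ i, i < 5460 → P i := stepQ 5459 Q5459 (allL N5459 (tt N5459 F42459) (tt N6776 (iv F60323)) (tt N4458 F42460) (tt N6785 (iv F60358)) (tt N4351 F42461) (tt N4652 F42462) (tt N6783 (iv F60351)) (tt N5459 F42463) (tt N6748 (iv F60215)) (tt N4348 (iv D9473)))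
theorem Q5461 : ∀ i, i < 5461 → P i := stepQ 5460 Q5460 (allL N5460 (tt N5460 F42464) (tt N6777 (iv F60327)) (tt N4459 F42465) (tt N6621 (iv F59559)) (tt N6781 (iv F60342)) (tt N6732 (iv F60099)) (tt N5460 F42466) (tt N4350 F42467) (tt N4349 (iv D9474)) (tt N6786 D13740))
theorem Q5462 : ∀ i, i < 5462 → P i := stepQ 5461 Q5461 (allL N5461 (tt N5461 F42468) (tt N6778 (iv F60330)) (tt N4460 F42469) (tt N6622 (iv F59564)) (tt N6783 (iv F60350)) (tt N6733 (iv F60103)) (tt N4351 F42470) (tt N6786 (iv F60364)) (tt N6750 (iv F60225)) (tt N4350 (iv D9475)))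
theorem Q5463 : ∀ i, i < 5463 → P i := stepQ 5462 Q5462 (allL N5462 (tt N4353 F42471) (tt N5462 F42472) (tt N5462 F42473) (tt N6787 D13741) (tt N4352 (iv D9476)) (tt N6788 D13742) (tt N5462 F42474) (tt N4375 F42475) (tt N4357 F42476) (tt N5462 F42477))
theorem Q5464 : ∀ i, i < 5464 → P i := stepQ 5463 Q5463 (allL N5463 (tt N6787 (iv F60365)) (tt N4354 F42478) (tt N6789 D13743) (tt N4353 (iv D9477)) (tt N5463 F42479) (tt N6790 D13744) (tt N5463 F42480) (tt N4376 F42481) (tt N6791 D13745) (tt N5463 F42482))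
theorem Q5465 : ∀ i, i < 5465 → P i := stepQ 5464 Q5464 (allL N5464 (tt N6788 (iv F60371)) (tt N4355 F42483) (tt N5464 F42484) (tt N6790 (iv F60385)) (tt N5464 F42485) (tt N4353 (iv D9478)) (tt N6792 D13746) (tt N4377 F42486) (tt N4359 F42487) (tt N5464 F42488))
theorem Q5466 : ∀ i, i < 5466 → P i := stepQ 5465 Q5465 (allL N5465 (tt N5465 F42489) (tt N6790 (iv F60384)) (tt N5465 F42490) (tt N4355 F42491) (tt N6793 D13747) (tt N4354 (iv D9479)) (tt N6794 D13748) (tt N4378 F42492) (tt N6795 D13749) (tt N5465 F42493))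
theorem Q5467 : ∀ i, i < 5467 → P i := stepQ 5466 Q5466 (allL N5466 (tt N5466 F42494) (tt N6791 (iv F60388)) (tt N5466 F42495) (tt N4361 F42496) (tt N5466 F42497) (tt N6795 (iv F60413)) (tt N5466 F42498) (tt N4379 F42499) (tt N4354 (iv D9480)) (tt N6796 D13750))
theorem Q5468 : ∀ i, i < 5468 → P i := stepQ 5467 Q5467 (allL N5467 (tt N5467 F42500) (tt N6792 (iv F60393)) (tt N4356 F42501) (tt N6794 (iv F60407)) (tt N5467 F42502) (tt N5467 F42503) (tt N4355 (iv D9481)) (tt N6797 D13751) (tt N4362 F42504) (tt N5467 F42505))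
theorem Q5469 : ∀ i, i < 5469 → P i := stepQ 5468 Q5468 (allL N5468 (tt N5468 F42506) (tt N5468 F42507) (tt N6797 (iv F60423)) (tt N5468 F42508) (tt N5468 F42509) (tt N5468 F42510) (tt N4381 F42511) (tt N4356 (iv D9482)) (tt N4363 F42512) (tt N5468 F42513))
theorem Q5470 : ∀ i, i < 5470 → P i := stepQ 5469 Q5469 (allL N5469 (tt N4358 F42514) (tt N5469 F42515) (tt N6798 D13752) (tt N4357 (iv D9483)) (tt N4655 F42516) (tt N6799 D13753) (tt N5469 F42517) (tt N4382 F42518) (tt N6800 D13754) (tt N4364 F42519))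
theorem Q5471 : ∀ i, i < 5471 → P i := stepQ 5470 Q5470 (allL N5470 (tt N4359 F42520) (tt N5470 F42521) (tt N5470 F42522) (tt N6799 (iv F60437)) (tt N5470 F42523) (tt N4357 (iv D9484)) (tt N6801 D13755) (tt N4383 F42524) (tt N6788 (iv F60376)) (tt N4365 F42525))
theorem Q5472 : ∀ i, i < 5472 → P i := stepQ 5471 Q5471 (allL N5471 (tt N6798 (iv F60429)) (tt N6672 (iv F59836)) (tt N4358 (iv D9485)) (tt N5471 F42526) (tt N4657 F42527) (tt N6802 D13756) (tt N5471 F42528) (tt N4384 F42529) (tt N6803 D13757) (tt N4366 F42530))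
theorem Q5473 : ∀ i, i < 5473 → P i := stepQ 5472 Q5472 (allL N5472 (tt N6799 (iv F60435)) (tt N4360 F42531) (tt N6802 (iv F60451)) (tt N4359 F42532) (tt N6804 D13758) (tt N4358 (iv D9486)) (tt N6805 D13759) (tt N4385 F42533) (tt N6806 D13760) (tt N4367 F42534))
theorem Q5474 : ∀ i, i < 5474 → P i := stepQ 5473 Q5473 (allL N5473 (tt N6800 (iv F60440)) (tt N4361 F42535) (tt N6803 (iv F60455)) (tt N6791 (iv F60389)) (tt N4659 F42536) (tt N6806 (iv F60469)) (tt N5473 F42537) (tt N4386 F42538) (tt N4358 (iv D9487)) (tt N6807 D13761))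
theorem Q5475 : ∀ i, i < 5475 → P i := stepQ 5474 Q5474 (allL N5474 (tt N6801 (iv F60445)) (tt N4362 F42539) (tt N5474 F42540) (tt N6805 (iv F60465)) (tt N5474 F42541) (tt N5474 F42542) (tt N4359 (iv D9488)) (tt N6808 D13762) (tt N6792 (iv F60397)) (tt N4369 F42543))
theorem Q5476 : ∀ i, i < 5476 → P i := stepQ 5475 Q5475 (allL N5475 (tt N5475 F42544) (tt N6804 (iv F60459)) (tt N6676 (iv F59857)) (tt N5475 F42545) (tt N4360 (iv D9489)) (tt N4661 F42546) (tt N6809 D13763) (tt N4388 F42547) (tt N6810 D13764) (tt N4370 F42548))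
theorem Q5477 : ∀ i, i < 5477 → P i := stepQ 5476 Q5476 (allL N5476 (tt N5476 F42549) (tt N6805 (iv F60464)) (tt N6677 (iv F59862)) (tt N4362 F42550) (tt N6809 (iv F60484)) (tt N5476 F42551) (tt N4360 (iv D9490)) (tt N6811 D13765) (tt N6812 D13766) (tt N4371 F42552))
theorem Q5478 : ∀ i, i < 5478 → P i := stepQ 5477 Q5477 (allL N5477 (tt N5477 F42553) (tt N6806 (iv F60468)) (tt N6678 (iv F59867)) (tt N6795 (iv F60412)) (tt N6810 (iv F60487)) (tt N4361 F42554) (tt N6812 (iv F60497)) (tt N4390 F42555) (tt N4360 (iv D9491)) (tt N6813 D13767))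
theorem Q5479 : ∀ i, i < 5479 → P i := stepQ 5478 Q5478 (allL N5478 (tt N5478 F42556) (tt N6807 (iv F60471)) (tt N6679 (iv F59872)) (tt N6796 (iv F60417)) (tt N4664 F42557) (tt N6813 (iv F60499)) (tt N5478 F42558) (tt N4391 F42559) (tt N4373 F42560) (tt N4361 (iv D9492)))
theorem Q5480 : ∀ i, i < 5480 → P i := stepQ 5479 Q5479 (allL N5479 (tt N5479 F42561) (tt N6808 (iv F60476)) (tt N4363 F42562) (tt N6811 (iv F60491)) (tt N5479 F42563) (tt N5479 F42564) (tt N4392 F42565) (tt N4362 (iv D9493)) (tt N6797 (iv F60427)) (tt N4374 F42566))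
theorem Q5481 : ∀ i, i < 5481 → P i := stepQ 5480 Q5480 (allL N5480 (tt N4366 F42567) (tt N6814 D13768) (tt N4364 (iv D9494)) (tt N5480 F42568) (tt N4666 F42569) (tt N6815 D13769) (tt N5480 F42570) (tt N4393 F42571) (tt N6816 D13770) (tt N6798 (iv F60434)))
theorem Q5482 : ∀ i, i < 5482 → P i := stepQ 5481 Q5481 (allL N5481 (tt N4367 F42572) (tt N5481 F42573) (tt N6815 (iv F60508)) (tt N4365 F42574) (tt N6817 D13771) (tt N4364 (iv D9495)) (tt N6818 D13772) (tt N4394 F42575) (tt N6819 D13773) (tt N6799 (iv F60439)))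
theorem Q5483 : ∀ i, i < 5483 → P i := stepQ 5482 Q5482 (allL N5482 (tt N4368 F42576) (tt N5482 F42577) (tt N6816 (iv F60512)) (tt N5482 F42578) (tt N4668 F42579) (tt N6819 (iv F60528)) (tt N5482 F42580) (tt N4395 F42581) (tt N4364 (iv D9496)) (tt N6820 D13774))
theorem Q5484 : ∀ i, i < 5484 → P i := stepQ 5483 Q5483 (allL N5483 (tt N4369 F42582) (tt N5483 F42583) (tt N5483 F42584) (tt N6818 (iv F60523)) (tt N5483 F42585) (tt N5483 F42586) (tt N4365 (iv D9497)) (tt N6821 D13775) (tt N5483 F42587) (tt N6801 (iv F60450)))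
theorem Q5485 : ∀ i, i < 5485 → P i := stepQ 5484 Q5484 (allL N5484 (tt N6815 (iv F60507)) (tt N6685 (iv F59902)) (tt N4367 F42588) (tt N5484 F42589) (tt N6822 D13776) (tt N4366 (iv D9498)) (tt N6823 D13777) (tt N4397 F42590) (tt N6824 D13778) (tt N6802 (iv F60454)))
theorem Q5486 : ∀ i, i < 5486 → P i := stepQ 5485 Q5485 (allL N5485 (tt N6816 (iv F60511)) (tt N6686 (iv F59906)) (tt N4368 F42591) (tt N6825 D13779) (tt N4671 F42592) (tt N6824 (iv F60550)) (tt N5485 F42593) (tt N4398 F42594) (tt N4366 (iv D9499)) (tt N6826 D13780))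
theorem Q5487 : ∀ i, i < 5487 → P i := stepQ 5486 Q5486 (allL N5486 (tt N6817 (iv F60516)) (tt N4370 F42595) (tt N6822 (iv F60543)) (tt N5486 F42596) (tt N4367 (iv D9500)) (tt N4672 F42597) (tt N6827 D13781) (tt N4399 F42598) (tt N6828 D13782) (tt N6804 (iv F60463)))
theorem Q5488 : ∀ i, i < 5488 → P i := stepQ 5487 Q5487 (allL N5487 (tt N6818 (iv F60521)) (tt N4371 F42599) (tt N6823 (iv F60546)) (tt N4369 F42600) (tt N6827 (iv F60562)) (tt N5487 F42601) (tt N4367 (iv D9501)) (tt N6829 D13783) (tt N6830 D13784) (tt N6805 (iv F60467)))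
theorem Q5489 : ∀ i, i < 5489 → P i := stepQ 5488 Q5488 (allL N5488 (tt N6819 (iv F60525)) (tt N4372 F42602) (tt N6824 (iv F60549)) (tt N5488 F42603) (tt N6828 (iv F60564)) (tt N4368 F42604) (tt N6830 (iv F60574)) (tt N4401 F42605) (tt N4367 (iv D9502)) (tt N6831 D13785))
theorem Q5490 : ∀ i, i < 5490 → P i := stepQ 5489 Q5489 (allL N5489 (tt N6820 (iv F60530)) (tt N4373 F42606) (tt N6826 (iv F60556)) (tt N5489 F42607) (tt N4675 F42608) (tt N6831 (iv F60577)) (tt N5489 F42609) (tt N4402 F42610) (tt N6807 (iv F60475)) (tt N4368 (iv D9503)))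
theorem Q5491 : ∀ i, i < 5491 → P i := stepQ 5490 Q5490 (allL N5490 (tt N6821 (iv F60536)) (tt N4374 F42611) (tt N5490 F42612) (tt N6829 (iv F60568)) (tt N5490 F42613) (tt N5490 F42614) (tt N4403 F42615) (tt N4369 (iv D9504)) (tt N5490 F42616) (tt N6808 (iv F60481)))
theorem Q5492 : ∀ i, i < 5492 → P i := stepQ 5491 Q5491 (allL N5491 (tt N5491 F42617) (tt N6827 (iv F60560)) (tt N6692 (iv F59929)) (tt N5491 F42618) (tt N4371 F42619) (tt N6832 D13786) (tt N4370 (iv D9505)) (tt N6833 D13787) (tt N6834 D13788) (tt N6809 (iv F60485)))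
theorem Q5493 : ∀ i, i < 5493 → P i := stepQ 5492 Q5492 (allL N5492 (tt N5492 F42620) (tt N6828 (iv F60563)) (tt N6693 (iv F59932)) (tt N6835 D13789) (tt N4372 F42621) (tt N4678 F42622) (tt N6834 (iv F60589)) (tt N4405 F42623) (tt N4370 (iv D9506)) (tt N6836 D13790))
theorem Q5494 : ∀ i, i < 5494 → P i := stepQ 5493 Q5493 (allL N5493 (tt N5493 F42624) (tt N6829 (iv F60567)) (tt N6694 (iv F59937)) (tt N4374 F42625) (tt N6833 (iv F60585)) (tt N5493 F42626) (tt N4406 F42627) (tt N4371 (iv D9507)) (tt N6837 D13791) (tt N6811 (iv F60494)))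
theorem Q5495 : ∀ i, i < 5495 → P i := stepQ 5494 Q5494 (allL N5494 (tt N5494 F42628) (tt N6830 (iv F60571)) (tt N6695 (iv F59942)) (tt N5494 F42629) (tt N6834 (iv F60588)) (tt N5494 F42630) (tt N4372 F42631) (tt N6837 (iv F60603)) (tt N4371 (iv D9508)) (tt N6838 D13792))
theorem Q5496 : ∀ i, i < 5496 → P i := stepQ 5495 Q5495 (allL N5495 (tt N5495 F42632) (tt N6831 (iv F60575)) (tt N6696 (iv F59946)) (tt N5495 F42633) (tt N6836 (iv F60596)) (tt N4373 F42634) (tt N6838 (iv F60607)) (tt N4408 F42635) (tt N6813 (iv F60501)) (tt N4372 (iv D9509)))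
theorem Q5497 : ∀ i, i < 5497 → P i := stepQ 5496 Q5496 (allL N5496 (tt N4376 F42636) (tt N5496 F42637) (tt N6839 D13793) (tt N4375 (iv D9510)) (tt N5496 F42638) (tt N6840 D13794) (tt N4409 F42639) (tt N6787 (iv F60369)) (tt N6841 D13795) (tt N5496 F42640))
theorem Q5498 : ∀ i, i < 5498 → P i := stepQ 5497 Q5497 (allL N5497 (tt N4377 F42641) (tt N5497 F42642) (tt N5497 F42643) (tt N6840 (iv F60615)) (tt N5497 F42644) (tt N4375 (iv D9511)) (tt N6842 D13796) (tt N6788 (iv F60375)) (tt N4383 F42645) (tt N5497 F42646))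
theorem Q5499 : ∀ i, i < 5499 → P i := stepQ 5498 Q5498 (allL N5498 (tt N6839 (iv F60608)) (tt N5498 F42647) (tt N4376 (iv D9512)) (tt N5498 F42648) (tt N5498 F42649) (tt N6843 D13797) (tt N4411 F42650) (tt N6789 (iv F60382)) (tt N6844 D13798) (tt N5498 F42651))
theorem Q5500 : ∀ i, i < 5500 → P i := stepQ 5499 Q5499 (allL N5499 (tt N6840 (iv F60613)) (tt N4378 F42652) (tt N6843 (iv F60630)) (tt N4377 F42653) (tt N6845 D13799) (tt N4376 (iv D9513)) (tt N6846 D13800) (tt N6790 (iv F60386)) (tt N6847 D13801) (tt N5499 F42654))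
theorem Q5501 : ∀ i, i < 5501 → P i := stepQ 5500 Q5500 (allL N5500 (tt N6841 (iv F60617)) (tt N4379 F42655) (tt N6844 (iv F60634)) (tt N4386 F42656) (tt N5500 F42657) (tt N6847 (iv F60647)) (tt N4413 F42658) (tt N6791 (iv F60392)) (tt N4376 (iv D9514)) (tt N6848 D13802))
theorem Q5502 : ∀ i, i < 5502 → P i := stepQ 5501 Q5501 (allL N5501 (tt N6842 (iv F60622)) (tt N4380 F42659) (tt N5501 F42660) (tt N6846 (iv F60642)) (tt N5501 F42661) (tt N4414 F42662) (tt N4377 (iv D9515)) (tt N6849 D13803) (tt N4387 F42663) (tt N5501 F42664))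
theorem Q5503 : ∀ i, i < 5503 → P i := stepQ 5502 Q5502 (allL N5502 (tt N5502 F42665) (tt N6845 (iv F60637)) (tt N5502 F42666) (tt N5502 F42667) (tt N4378 (iv D9516)) (tt N5502 F42668) (tt N6850 D13804) (tt N6793 (iv F60403)) (tt N6851 D13805) (tt N5502 F42669))
theorem Q5504 : ∀ i, i < 5504 → P i := stepQ 5503 Q5503 (allL N5503 (tt N5503 F42670) (tt N6846 (iv F60641)) (tt N5503 F42671) (tt N4380 F42672) (tt N6850 (iv F60662)) (tt N4416 F42673) (tt N4378 (iv D9517)) (tt N6852 D13806) (tt N6853 D13807) (tt N5503 F42674))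
theorem Q5505 : ∀ i, i < 5505 → P i := stepQ 5504 Q5504 (allL N5504 (tt N5504 F42675) (tt N6847 (iv F60645)) (tt N5504 F42676) (tt N4390 F42677) (tt N6851 (iv F60666)) (tt N4379 F42678) (tt N6853 (iv F60677)) (tt N6795 (iv F60414)) (tt N4378 (iv D9518)) (tt N6854 D13808))
theorem Q5506 : ∀ i, i < 5506 → P i := stepQ 5505 Q5505 (allL N5505 (tt N5505 F42679) (tt N6848 (iv F60648)) (tt N5505 F42680) (tt N4391 F42681) (tt N5505 F42682) (tt N6854 (iv F60681)) (tt N4418 F42683) (tt N6796 (iv F60420)) (tt N5505 F42684) (tt N4379 (iv D9519)))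
theorem Q5507 : ∀ i, i < 5507 → P i := stepQ 5506 Q5506 (allL N5506 (tt N5506 F42685) (tt N6849 (iv F60653)) (tt N4381 F42686) (tt N6852 (iv F60670)) (tt N5506 F42687) (tt N4419 F42688) (tt N6797 (iv F60426)) (tt N4380 (iv D9520)) (tt N4392 F42689) (tt N5506 F42690))
theorem Q5508 : ∀ i, i < 5508 → P i := stepQ 5507 Q5507 (allL N5507 (tt N4384 F42691) (tt N6855 D13809) (tt N4382 (iv D9521)) (tt N5507 F42692) (tt N4682 F42693) (tt N6856 D13810) (tt N4420 F42694) (tt N6798 (iv F60433)) (tt N6857 D13811) (tt N4393 F42695))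
theorem Q5509 : ∀ i, i < 5509 → P i := stepQ 5508 Q5508 (allL N5508 (tt N4385 F42696) (tt N5508 F42697) (tt N6856 (iv F60689)) (tt N4383 F42698) (tt N6858 D13812) (tt N4382 (iv D9522)) (tt N6859 D13813) (tt N6799 (iv F60438)) (tt N6860 D13814) (tt N4394 F42699))
theorem Q5510 : ∀ i, i < 5510 → P i := stepQ 5509 Q5509 (allL N5509 (tt N4386 F42700) (tt N5509 F42701) (tt N6857 (iv F60693)) (tt N6841 (iv F60619)) (tt N4684 F42702) (tt N6860 (iv F60708)) (tt N4422 F42703) (tt N6800 (iv F60444)) (tt N4382 (iv D9523)) (tt N6861 D13815))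
theorem Q5511 : ∀ i, i < 5511 → P i := stepQ 5510 Q5510 (allL N5510 (tt N4387 F42704) (tt N5510 F42705) (tt N5510 F42706) (tt N6859 (iv F60703)) (tt N5510 F42707) (tt N4423 F42708) (tt N4383 (iv D9524)) (tt N6862 D13816) (tt N6842 (iv F60627)) (tt N4396 F42709))
theorem Q5512 : ∀ i, i < 5512 → P i := stepQ 5511 Q5511 (allL N5511 (tt N6856 (iv F60688)) (tt N6697 (iv F59969)) (tt N4385 F42710) (tt N5511 F42711) (tt N6863 D13817) (tt N4384 (iv D9525)) (tt N6864 D13818) (tt N6802 (iv F60453)) (tt N6865 D13819) (tt N4397 F42712))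
theorem Q5513 : ∀ i, i < 5513 → P i := stepQ 5512 Q5512 (allL N5512 (tt N6857 (iv F60692)) (tt N6698 (iv F59973)) (tt N4386 F42713) (tt N6866 D13820) (tt N4687 F42714) (tt N6865 (iv F60728)) (tt N4425 F42715) (tt N6803 (iv F60458)) (tt N4384 (iv D9526)) (tt N6867 D13821))
theorem Q5514 : ∀ i, i < 5514 → P i := stepQ 5513 Q5513 (allL N5513 (tt N6858 (iv F60696)) (tt N4388 F42716) (tt N6863 (iv F60720)) (tt N5513 F42717) (tt N4385 (iv D9527)) (tt N4688 F42718) (tt N6868 D13822) (tt N6804 (iv F60462)) (tt N6869 D13823) (tt N4399 F42719))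
theorem Q5515 : ∀ i, i < 5515 → P i := stepQ 5514 Q5514 (allL N5514 (tt N6859 (iv F60701)) (tt N4389 F42720) (tt N6864 (iv F60723)) (tt N4387 F42721) (tt N6868 (iv F60737)) (tt N4427 F42722) (tt N4385 (iv D9528)) (tt N6870 D13824) (tt N6871 D13825) (tt N4400 F42723))
theorem Q5516 : ∀ i, i < 5516 → P i := stepQ 5515 Q5515 (allL N5515 (tt N6860 (iv F60706)) (tt N4390 F42724) (tt N6865 (iv F60727)) (tt N6847 (iv F60646)) (tt N6869 (iv F60740)) (tt N4386 F42725) (tt N6871 (iv F60748)) (tt N6806 (iv F60470)) (tt N4385 (iv D9529)) (tt N6872 D13826))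
theorem Q5517 : ∀ i, i < 5517 → P i := stepQ 5516 Q5516 (allL N5516 (tt N6861 (iv F60709)) (tt N4391 F42726) (tt N6867 (iv F60731)) (tt N6848 (iv F60649)) (tt N4691 F42727) (tt N6872 (iv F60750)) (tt N4429 F42728) (tt N6807 (iv F60474)) (tt N4402 F42729) (tt N4386 (iv D9530)))
theorem Q5518 : ∀ i, i < 5518 → P i := stepQ 5517 Q5517 (allL N5517 (tt N6862 (iv F60714)) (tt N4392 F42730) (tt N5517 F42731) (tt N6870 (iv F60743)) (tt N5517 F42732) (tt N4430 F42733) (tt N6808 (iv F60480)) (tt N4387 (iv D9531)) (tt N6849 (iv F60657)) (tt N4403 F42734))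
theorem Q5519 : ∀ i, i < 5519 → P i := stepQ 5518 Q5518 (allL N5518 (tt N5518 F42735) (tt N6868 (iv F60735)) (tt N6704 (iv F59998)) (tt N5518 F42736) (tt N4389 F42737) (tt N6873 D13827) (tt N4388 (iv D9532)) (tt N6874 D13828) (tt N6875 D13829) (tt N4404 F42738))
theorem Q5520 : ∀ i, i < 5520 → P i := stepQ 5519 Q5519 (allL N5519 (tt N5519 F42739) (tt N6869 (iv F60739)) (tt N6705 (iv F60002)) (tt N6876 D13830) (tt N4390 F42740) (tt N4694 F42741) (tt N6875 (iv F60763)) (tt N6810 (iv F60489)) (tt N4388 (iv D9533)) (tt N6877 D13831))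
theorem Q5521 : ∀ i, i < 5521 → P i := stepQ 5520 Q5520 (allL N5520 (tt N5520 F42742) (tt N6870 (iv F60742)) (tt N6706 (iv F60006)) (tt N4392 F42743) (tt N6874 (iv F60759)) (tt N4433 F42744) (tt N6811 (iv F60493)) (tt N4389 (iv D9534)) (tt N6878 D13832) (tt N4406 F42745))
theorem Q5522 : ∀ i, i < 5522 → P i := stepQ 5521 Q5521 (allL N5521 (tt N5521 F42746) (tt N6871 (iv F60746)) (tt N6707 (iv F60011)) (tt N6853 (iv F60675)) (tt N6875 (iv F60762)) (tt N4434 F42747) (tt N4390 F42748) (tt N6878 (iv F60773)) (tt N4389 (iv D9535)) (tt N6879 D13833))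
theorem Q5523 : ∀ i, i < 5523 → P i := stepQ 5522 Q5522 (allL N5522 (tt N5522 F42749) (tt N6872 (iv F60749)) (tt N6708 (iv F60016)) (tt N6854 (iv F60680)) (tt N6877 (iv F60768)) (tt N4391 F42750) (tt N6879 (iv F60776)) (tt N6813 (iv F60500)) (tt N4408 F42751) (tt N4390 (iv D9536)))
theorem Q5524 : ∀ i, i < 5524 → P i := stepQ 5523 Q5523 (allL N5523 (tt N6709 (iv F60020)) (tt N4393 (iv D9537)) (tt N5523 F42752) (tt N5523 F42753) (tt N4698 F42754) (tt N6880 D13834) (tt N4436 F42755) (tt N6814 (iv F60506)) (tt N6881 D13835) (tt N6855 (iv F60687)))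
theorem Q5525 : ∀ i, i < 5525 → P i := stepQ 5524 Q5524 (allL N5524 (tt N4397 F42756) (tt N6880 (iv F60778)) (tt N4394 F42757) (tt N5524 F42758) (tt N6882 D13836) (tt N4393 (iv D9538)) (tt N6883 D13837) (tt N6815 (iv F60510)) (tt N6884 D13838) (tt N6856 (iv F60691)))
theorem Q5526 : ∀ i, i < 5526 → P i := stepQ 5525 Q5525 (allL N5525 (tt N4398 F42759) (tt N6881 (iv F60781)) (tt N4395 F42760) (tt N6885 D13839) (tt N4700 F42761) (tt N6884 (iv F60794)) (tt N4438 F42762) (tt N6816 (iv F60515)) (tt N4393 (iv D9539)) (tt N6886 D13840))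
theorem Q5527 : ∀ i, i < 5527 → P i := stepQ 5526 Q5526 (allL N5526 (tt N4399 F42763) (tt N5526 F42764) (tt N6882 (iv F60786)) (tt N5526 F42765) (tt N4394 (iv D9540)) (tt N4701 F42766) (tt N6887 D13841) (tt N6817 (iv F60520)) (tt N6888 D13842) (tt N6858 (iv F60700)))
theorem Q5528 : ∀ i, i < 5528 → P i := stepQ 5527 Q5527 (allL N5527 (tt N4400 F42767) (tt N5527 F42768) (tt N6883 (iv F60789)) (tt N4396 F42769) (tt N6887 (iv F60806)) (tt N4440 F42770) (tt N4394 (iv D9541)) (tt N6889 D13843) (tt N6890 D13844) (tt N6859 (iv F60705)))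
theorem Q5529 : ∀ i, i < 5529 → P i := stepQ 5528 Q5528 (allL N5528 (tt N4401 F42771) (tt N5528 F42772) (tt N6884 (iv F60793)) (tt N5528 F42773) (tt N6888 (iv F60809)) (tt N4395 F42774) (tt N6890 (iv F60819)) (tt N6819 (iv F60529)) (tt N4394 (iv D9542)) (tt N6891 D13845))
theorem Q5530 : ∀ i, i < 5530 → P i := stepQ 5529 Q5529 (allL N5529 (tt N4402 F42775) (tt N5529 F42776) (tt N6886 (iv F60800)) (tt N5529 F42777) (tt N4704 F42778) (tt N6891 (iv F60823)) (tt N4442 F42779) (tt N6820 (iv F60535)) (tt N6861 (iv F60713)) (tt N4395 (iv D9543)))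
theorem Q5531 : ∀ i, i < 5531 → P i := stepQ 5530 Q5530 (allL N5530 (tt N4403 F42780) (tt N5530 F42781) (tt N5530 F42782) (tt N6889 (iv F60813)) (tt N5530 F42783) (tt N4443 F42784) (tt N6821 (iv F60541)) (tt N4396 (iv D9544)) (tt N5530 F42785) (tt N6862 (iv F60719)))
theorem Q5532 : ∀ i, i < 5532 → P i := stepQ 5531 Q5531 (allL N5531 (tt N6882 (iv F60785)) (tt N6717 (iv F60050)) (tt N4399 F42786) (tt N6892 D13846) (tt N4397 (iv D9545)) (tt N4706 F42787) (tt N6893 D13847) (tt N6822 (iv F60545)) (tt N6894 D13848) (tt N6863 (iv F60722)))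
theorem Q5533 : ∀ i, i < 5533 → P i := stepQ 5532 Q5532 (allL N5532 (tt N6883 (iv F60788)) (tt N6718 (iv F60053)) (tt N4400 F42788) (tt N5532 F42789) (tt N6893 (iv F60828)) (tt N4445 F42790) (tt N4397 (iv D9546)) (tt N6895 D13849) (tt N6896 D13850) (tt N6864 (iv F60726)))
theorem Q5534 : ∀ i, i < 5534 → P i := stepQ 5533 Q5533 (allL N5533 (tt N6884 (iv F60792)) (tt N6719 (iv F60057)) (tt N4401 F42791) (tt N6897 D13851) (tt N6894 (iv F60830)) (tt N4398 F42792) (tt N6896 (iv F60837)) (tt N6824 (iv F60551)) (tt N4397 (iv D9547)) (tt N6898 D13852))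
theorem Q5535 : ∀ i, i < 5535 → P i := stepQ 5534 Q5534 (allL N5534 (tt N6885 (iv F60795)) (tt N6720 (iv F60060)) (tt N5534 F42793) (tt N4398 (iv D9548)) (tt N6899 D13853) (tt N6897 (iv F60839)) (tt N4447 F42794) (tt N6825 (iv F60554)) (tt N5534 F42795) (tt N6900 D13854))
theorem Q5536 : ∀ i, i < 5536 → P i := stepQ 5535 Q5535 (allL N5535 (tt N6886 (iv F60799)) (tt N6721 (iv F60063)) (tt N4402 F42796) (tt N6900 (iv F60848)) (tt N4710 F42797) (tt N6898 (iv F60842)) (tt N4448 F42798) (tt N6826 (iv F60559)) (tt N6867 (iv F60734)) (tt N4398 (iv D9549)))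
theorem Q5537 : ∀ i, i < 5537 → P i := stepQ 5536 Q5536 (allL N5536 (tt N6887 (iv F60803)) (tt N4404 F42799) (tt N6893 (iv F60827)) (tt N5536 F42800) (tt N4400 F42801) (tt N6901 D13855) (tt N4399 (iv D9550)) (tt N6902 D13856) (tt N6903 D13857) (tt N6868 (iv F60738)))
theorem Q5538 : ∀ i, i < 5538 → P i := stepQ 5537 Q5537 (allL N5537 (tt N6888 (iv F60807)) (tt N4405 F42802) (tt N6894 (iv F60829)) (tt N6904 D13858) (tt N4401 F42803) (tt N4712 F42804) (tt N6903 (iv F60859)) (tt N6828 (iv F60566)) (tt N4399 (iv D9551)) (tt N6905 D13859))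
theorem Q5539 : ∀ i, i < 5539 → P i := stepQ 5538 Q5538 (allL N5538 (tt N6889 (iv F60811)) (tt N4406 F42805) (tt N6895 (iv F60832)) (tt N4403 F42806) (tt N6902 (iv F60856)) (tt N4451 F42807) (tt N6829 (iv F60570)) (tt N4400 (iv D9552)) (tt N6906 D13860) (tt N6870 (iv F60745)))
theorem Q5540 : ∀ i, i < 5540 → P i := stepQ 5539 Q5539 (allL N5539 (tt N6890 (iv F60815)) (tt N4407 F42808) (tt N6896 (iv F60835)) (tt N5539 F42809) (tt N6903 (iv F60858)) (tt N4452 F42810) (tt N4401 F42811) (tt N6906 (iv F60870)) (tt N4400 (iv D9553)) (tt N6907 D13861))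
theorem Q5541 : ∀ i, i < 5541 → P i := stepQ 5540 Q5540 (allL N5540 (tt N6891 (iv F60820)) (tt N4408 F42812) (tt N6898 (iv F60841)) (tt N5540 F42813) (tt N6905 (iv F60865)) (tt N4402 F42814) (tt N6907 (iv F60874)) (tt N6831 (iv F60578)) (tt N6872 (iv F60751)) (tt N4401 (iv D9554)))
theorem Q5542 : ∀ i, i < 5542 → P i := stepQ 5541 Q5541 (allL N5541 (tt N5541 F42815) (tt N6901 (iv F60850)) (tt N6727 (iv F60081)) (tt N5541 F42816) (tt N4454 F42817) (tt N4404 (iv D9555)) (tt N4716 F42818) (tt N6908 D13862) (tt N6909 D13863) (tt N6873 (iv F60756)))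
theorem Q5543 : ∀ i, i < 5543 → P i := stepQ 5542 Q5542 (allL N5542 (tt N5542 F42819) (tt N6902 (iv F60854)) (tt N6728 (iv F60085)) (tt N5542 F42820) (tt N4406 F42821) (tt N6908 (iv F60878)) (tt N6833 (iv F60586)) (tt N4404 (iv D9556)) (tt N6910 D13864) (tt N6874 (iv F60760)))
theorem Q5544 : ∀ i, i < 5544 → P i := stepQ 5543 Q5543 (allL N5543 (tt N5543 F42822) (tt N6903 (iv F60857)) (tt N6729 (iv F60088)) (tt N6911 D13865) (tt N4407 F42823) (tt N6909 (iv F60881)) (tt N4405 F42824) (tt N6910 (iv F60885)) (tt N4404 (iv D9557)) (tt N6912 D13866))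
theorem Q5545 : ∀ i, i < 5545 → P i := stepQ 5544 Q5544 (allL N5544 (tt N5544 F42825) (tt N6904 (iv F60860)) (tt N6913 D13867) (tt N4405 (iv D9558)) (tt N5544 F42826) (tt N4719 F42827) (tt N6911 (iv F60888)) (tt N6835 (iv F60593)) (tt N5544 F42828) (tt N6914 D13868))
theorem Q5546 : ∀ i, i < 5546 → P i := stepQ 5545 Q5545 (allL N5545 (tt N5545 F42829) (tt N6905 (iv F60864)) (tt N6731 (iv F60094)) (tt N6914 (iv F60898)) (tt N4408 F42830) (tt N4720 F42831) (tt N6912 (iv F60892)) (tt N6836 (iv F60598)) (tt N6877 (iv F60770)) (tt N4405 (iv D9559)))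
theorem Q5547 : ∀ i, i < 5547 → P i := stepQ 5546 Q5546 (allL N5546 (tt N5546 F42832) (tt N6906 (iv F60867)) (tt N6732 (iv F60098)) (tt N5546 F42833) (tt N6910 (iv F60884)) (tt N4459 F42834) (tt N6837 (iv F60602)) (tt N4407 F42835) (tt N4406 (iv D9560)) (tt N6915 D13869))
theorem Q5548 : ∀ i, i < 5548 → P i := stepQ 5547 Q5547 (allL N5547 (tt N5547 F42836) (tt N6907 (iv F60871)) (tt N6733 (iv F60102)) (tt N5547 F42837) (tt N6912 (iv F60891)) (tt N4460 F42838) (tt N4408 F42839) (tt N6915 (iv F60904)) (tt N6879 (iv F60777)) (tt N4407 (iv D9561)))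
theorem Q5549 : ∀ i, i < 5549 → P i := stepQ 5548 Q5548 (allL N5548 (tt N4411 F42840) (tt N6916 D13870) (tt N4409 (iv D9562)) (tt N5548 F42841) (tt N5548 F42842) (tt N6917 D13871) (tt N6839 (iv F60611)) (tt N5548 F42843) (tt N6918 D13872) (tt N5548 F42844))
theorem Q5550 : ∀ i, i < 5550 → P i := stepQ 5549 Q5549 (allL N5549 (tt N4412 F42845) (tt N5549 F42846) (tt N6917 (iv F60912)) (tt N4410 F42847) (tt N5177 F202979) (tt N4409 (iv D9563)) (tt N6919 D13874) (tt N5549 F42848) (tt N6920 D13875) (tt N5549 F42849))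
theorem Q5551 : ∀ i, i < 5551 → P i := stepQ 5550 Q5550 (allL N5550 (tt N4413 F42850) (tt N5550 F42851) (tt N6918 (iv F60917)) (tt N4422 F42852) (tt N5550 F42853) (tt N6920 (iv F60933)) (tt N6841 (iv F60621)) (tt N5550 F42854) (tt N4409 (iv D9564)) (tt N6921 D13876))
theorem Q5552 : ∀ i, i < 5552 → P i := stepQ 5551 Q5551 (allL N5551 (tt N4414 F42855) (tt N5551 F42856) (tt N5551 F42857) (tt N6919 (iv F60928)) (tt N4465 F42858) (tt N6842 (iv F60626)) (tt N4410 (iv D9565)) (tt N6922 D13877) (tt N4423 F42859) (tt N5551 F42860))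
theorem Q5553 : ∀ i, i < 5553 → P i := stepQ 5552 Q5552 (allL N5552 (tt N6917 (iv F60911)) (tt N5552 F42861) (tt N4412 F42862) (tt N5552 F42863) (tt N6923 D13878) (tt N4411 (iv D9566)) (tt N6924 D13879) (tt N5552 F42864) (tt N6925 D13880) (tt N5552 F42865))
theorem Q5554 : ∀ i, i < 5554 → P i := stepQ 5553 Q5553 (allL N5553 (tt N6918 (iv F60916)) (tt N5553 F42866) (tt N4413 F42867) (tt N6926 D13881) (tt N5553 F42868) (tt N6925 (iv F60959)) (tt N6844 (iv F60636)) (tt N5553 F42869) (tt N4411 (iv D9567)) (tt N6927 D13882))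
theorem Q5555 : ∀ i, i < 5555 → P i := stepQ 5554 Q5554 (allL N5554 (tt N5177 F202977) (tt N4415 F42870) (tt N6923 (iv F60949)) (tt N4466 F42871) (tt N4412 (iv D9568)) (tt N5554 F42872) (tt N6928 D13883) (tt N5554 F42873) (tt N6929 D13884) (tt N5554 F42874))
theorem Q5556 : ∀ i, i < 5556 → P i := stepQ 5555 Q5555 (allL N5555 (tt N6919 (iv F60926)) (tt N4416 F42875) (tt N6924 (iv F60954)) (tt N4414 F42876) (tt N6928 (iv F60972)) (tt N6846 (iv F60643)) (tt N4412 (iv D9569)) (tt N6930 D13885) (tt N6931 D13886) (tt N5555 F42877))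
theorem Q5557 : ∀ i, i < 5557 → P i := stepQ 5556 Q5556 (allL N5556 (tt N6920 (iv F60930)) (tt N4417 F42878) (tt N6925 (iv F60958)) (tt N4428 F42879) (tt N6929 (iv F60975)) (tt N4413 F42880) (tt N6931 (iv F60984)) (tt N5556 F42881) (tt N4412 (iv D9570)) (tt N6932 D13887))
theorem Q5558 : ∀ i, i < 5558 → P i := stepQ 5557 Q5557 (allL N5557 (tt N6921 (iv F60935)) (tt N4418 F42882) (tt N6927 (iv F60966)) (tt N4429 F42883) (tt N5557 F42884) (tt N6932 (iv F60987)) (tt N6848 (iv F60651)) (tt N5557 F42885) (tt N5557 F42886) (tt N4413 (iv D9571)))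
theorem Q5559 : ∀ i, i < 5559 → P i := stepQ 5558 Q5558 (allL N5558 (tt N6922 (iv F60941)) (tt N4419 F42887) (tt N5558 F42888) (tt N6930 (iv F60979)) (tt N4468 F42889) (tt N6849 (iv F60656)) (tt N5558 F42890) (tt N4414 (iv D9572)) (tt N4430 F42891) (tt N5558 F42892))
theorem Q5560 : ∀ i, i < 5560 → P i := stepQ 5559 Q5559 (allL N5559 (tt N5559 F42893) (tt N6928 (iv F60970)) (tt N5559 F42894) (tt N4469 F42895) (tt N4416 F42896) (tt N6933 D13888) (tt N4415 (iv D9573)) (tt N6934 D13889) (tt N6935 D13890) (tt N5559 F42897))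
theorem Q5561 : ∀ i, i < 5561 → P i := stepQ 5560 Q5560 (allL N5560 (tt N5560 F42898) (tt N6929 (iv F60974)) (tt N5560 F42899) (tt N6936 D13891) (tt N4417 F42900) (tt N5560 F42901) (tt N6935 (iv F61004)) (tt N5560 F42902) (tt N4415 (iv D9574)) (tt N6937 D13892))
theorem Q5562 : ∀ i, i < 5562 → P i := stepQ 5561 Q5561 (allL N5561 (tt N5561 F42903) (tt N6930 (iv F60978)) (tt N5561 F42904) (tt N4419 F42905) (tt N6934 (iv F60998)) (tt N6852 (iv F60671)) (tt N5561 F42906) (tt N4416 (iv D9575)) (tt N6938 D13893) (tt N5561 F42907))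
theorem Q5563 : ∀ i, i < 5563 → P i := stepQ 5562 Q5562 (allL N5562 (tt N5562 F42908) (tt N6931 (iv F60982)) (tt N5562 F42909) (tt N4434 F42910) (tt N6935 (iv F61003)) (tt N6853 (iv F60676)) (tt N4417 F42911) (tt N6938 (iv F61020)) (tt N4416 (iv D9576)) (tt N6939 D13894))
theorem Q5564 : ∀ i, i < 5564 → P i := stepQ 5563 Q5563 (allL N5563 (tt N5563 F42912) (tt N6932 (iv F60985)) (tt N5563 F42913) (tt N4435 F42914) (tt N6937 (iv F61012)) (tt N4418 F42915) (tt N6939 (iv F61024)) (tt N5563 F42916) (tt N5563 F42917) (tt N4417 (iv D9577)))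
theorem Q5565 : ∀ i, i < 5565 → P i := stepQ 5564 Q5564 (allL N5564 (tt N5071 (iv F201540)) (tt N4420 (iv D9578)) (tt N5564 F42918) (tt N5564 F42919) (tt N4723 F42920) (tt N6940 D13895) (tt N6855 (iv F60686)) (tt N5564 F42921) (tt N6941 D13896) (tt N4436 F42922))
theorem Q5566 : ∀ i, i < 5566 → P i := stepQ 5565 Q5565 (allL N5565 (tt N4424 F42923) (tt N6940 (iv F61026)) (tt N4421 F42924) (tt N5565 F42925) (tt N6942 D13897) (tt N4420 (iv D9579)) (tt N6943 D13898) (tt N5565 F42926) (tt N6944 D13899) (tt N4437 F42927))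
theorem Q5567 : ∀ i, i < 5567 → P i := stepQ 5566 Q5566 (allL N5566 (tt N4425 F42928) (tt N6941 (iv F61031)) (tt N4422 F42929) (tt N6945 D13900) (tt N4725 F42930) (tt N6944 (iv F61046)) (tt N6857 (iv F60695)) (tt N5566 F42931) (tt N4420 (iv D9580)) (tt N6946 D13901))
theorem Q5568 : ∀ i, i < 5568 → P i := stepQ 5567 Q5567 (allL N5567 (tt N4426 F42932) (tt N5567 F42933) (tt N6942 (iv F61036)) (tt N4473 F42934) (tt N4421 (iv D9581)) (tt N4726 F42935) (tt N6947 D13902) (tt N5567 F42936) (tt N6948 D13903) (tt N4439 F42937))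
theorem Q5569 : ∀ i, i < 5569 → P i := stepQ 5568 Q5568 (allL N5568 (tt N4427 F42938) (tt N5568 F42939) (tt N6943 (iv F61041)) (tt N4423 F42940) (tt N6947 (iv F61059)) (tt N6859 (iv F60704)) (tt N4421 (iv D9582)) (tt N6949 D13904) (tt N6950 D13905) (tt N4440 F42941))
theorem Q5570 : ∀ i, i < 5570 → P i := stepQ 5569 Q5569 (allL N5569 (tt N4428 F42942) (tt N5569 F42943) (tt N6944 (iv F61045)) (tt N6920 (iv F60932)) (tt N6948 (iv F61063)) (tt N4422 F42944) (tt N6950 (iv F61073)) (tt N5569 F42945) (tt N4421 (iv D9583)) (tt N6951 D13906))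
theorem Q5571 : ∀ i, i < 5571 → P i := stepQ 5570 Q5570 (allL N5570 (tt N4429 F42946) (tt N5570 F42947) (tt N6946 (iv F61052)) (tt N6921 (iv F60937)) (tt N4729 F42948) (tt N6951 (iv F61076)) (tt N6861 (iv F60712)) (tt N5570 F42949) (tt N4442 F42950) (tt N4422 (iv D9584)))
theorem Q5572 : ∀ i, i < 5572 → P i := stepQ 5571 Q5571 (allL N5571 (tt N4430 F42951) (tt N5571 F42952) (tt N5571 F42953) (tt N6949 (iv F61068)) (tt N4475 F42954) (tt N6862 (iv F60718)) (tt N5571 F42955) (tt N4423 (iv D9585)) (tt N6922 (iv F60946)) (tt N4443 F42956))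
theorem Q5573 : ∀ i, i < 5573 → P i := stepQ 5572 Q5572 (allL N5572 (tt N6942 (iv F61035)) (tt N6734 (iv F60148)) (tt N4426 F42957) (tt N6952 D13907) (tt N4424 (iv D9586)) (tt N4731 F42958) (tt N6953 D13908) (tt N5572 F42959) (tt N6954 D13909) (tt N4444 F42960))
theorem Q5574 : ∀ i, i < 5574 → P i := stepQ 5573 Q5573 (allL N5573 (tt N6943 (iv F61040)) (tt N6735 (iv F60153)) (tt N4427 F42961) (tt N5573 F42962) (tt N6953 (iv F61085)) (tt N6864 (iv F60725)) (tt N4424 (iv D9587)) (tt N6955 D13910) (tt N6956 D13911) (tt N4445 F42963))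
theorem Q5575 : ∀ i, i < 5575 → P i := stepQ 5574 Q5574 (allL N5574 (tt N6944 (iv F61044)) (tt N6736 (iv F60157)) (tt N4428 F42964) (tt N6957 D13912) (tt N6954 (iv F61088)) (tt N4425 F42965) (tt N6956 (iv F61096)) (tt N5574 F42966) (tt N4424 (iv D9588)) (tt N6958 D13913))
theorem Q5576 : ∀ i, i < 5576 → P i := stepQ 5575 Q5575 (allL N5575 (tt N6945 (iv F61048)) (tt N6737 (iv F60161)) (tt N6926 (iv F60962)) (tt N4425 (iv D9589)) (tt N6959 D13914) (tt N6957 (iv F61097)) (tt N6866 (iv F60729)) (tt N5575 F42967) (tt N5575 F42968) (tt N6960 D13915))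
theorem Q5577 : ∀ i, i < 5577 → P i := stepQ 5576 Q5576 (allL N5576 (tt N6946 (iv F61051)) (tt N6738 (iv F60165)) (tt N4429 F42969) (tt N6960 (iv F61107)) (tt N4735 F42970) (tt N6958 (iv F61101)) (tt N6867 (iv F60733)) (tt N5576 F42971) (tt N4448 F42972) (tt N4425 (iv D9590)))
theorem Q5578 : ∀ i, i < 5578 → P i := stepQ 5577 Q5577 (allL N5577 (tt N6947 (iv F61056)) (tt N4431 F42973) (tt N6953 (iv F61084)) (tt N4478 F42974) (tt N4427 F42975) (tt N6961 D13916) (tt N4426 (iv D9591)) (tt N6962 D13917) (tt N6963 D13918) (tt N4449 F42976))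
theorem Q5579 : ∀ i, i < 5579 → P i := stepQ 5578 Q5578 (allL N5578 (tt N6948 (iv F61061)) (tt N4432 F42977) (tt N6954 (iv F61087)) (tt N6964 D13919) (tt N4428 F42978) (tt N4737 F42979) (tt N6963 (iv F61120)) (tt N5578 F42980) (tt N4426 (iv D9592)) (tt N6965 D13920))
theorem Q5580 : ∀ i, i < 5580 → P i := stepQ 5579 Q5579 (allL N5579 (tt N6949 (iv F61066)) (tt N4433 F42981) (tt N6955 (iv F61091)) (tt N4430 F42982) (tt N6962 (iv F61115)) (tt N6870 (iv F60744)) (tt N5579 F42983) (tt N4427 (iv D9593)) (tt N6966 D13921) (tt N4451 F42984))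
theorem Q5581 : ∀ i, i < 5581 → P i := stepQ 5580 Q5580 (allL N5580 (tt N6950 (iv F61071)) (tt N4434 F42985) (tt N6956 (iv F61095)) (tt N6931 (iv F60983)) (tt N6963 (iv F61119)) (tt N6871 (iv F60747)) (tt N4428 F42986) (tt N6966 (iv F61132)) (tt N4427 (iv D9594)) (tt N6967 D13922))
theorem Q5582 : ∀ i, i < 5582 → P i := stepQ 5581 Q5581 (allL N5581 (tt N6951 (iv F61074)) (tt N4435 F42987) (tt N6958 (iv F61100)) (tt N6932 (iv F60986)) (tt N6965 (iv F61126)) (tt N4429 F42988) (tt N6967 (iv F61134)) (tt N5581 F42989) (tt N4453 F42990) (tt N4428 (iv D9595)))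
theorem Q5583 : ∀ i, i < 5583 → P i := stepQ 5582 Q5582 (allL N5582 (tt N5582 F42991) (tt N6961 (iv F61109)) (tt N6744 (iv F60191)) (tt N4482 F42992) (tt N6873 (iv F60754)) (tt N4431 (iv D9596)) (tt N4741 F42993) (tt N6968 D13923) (tt N6969 D13924) (tt N4454 F42994))
theorem Q5584 : ∀ i, i < 5584 → P i := stepQ 5583 Q5583 (allL N5583 (tt N5583 F42995) (tt N6962 (iv F61113)) (tt N6745 (iv F60196)) (tt N4483 F42996) (tt N4433 F42997) (tt N6968 (iv F61138)) (tt N5583 F42998) (tt N4431 (iv D9597)) (tt N6970 D13925) (tt N4455 F42999))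
theorem Q5585 : ∀ i, i < 5585 → P i := stepQ 5584 Q5584 (allL N5584 (tt N5584 F43000) (tt N6963 (iv F61118)) (tt N6746 (iv F60202)) (tt N6971 D13926) (tt N4434 F43001) (tt N6969 (iv F61141)) (tt N4432 F43002) (tt N6970 (iv F61146)) (tt N4431 (iv D9598)) (tt N6972 D13927))
theorem Q5586 : ∀ i, i < 5586 → P i := stepQ 5585 Q5585 (allL N5585 (tt N5585 F43003) (tt N6964 (iv F61121)) (tt N6973 D13928) (tt N4432 (iv D9599)) (tt N6936 (iv F61006)) (tt N4744 F43004) (tt N6971 (iv F61148)) (tt N5585 F43005) (tt N4485 F43006) (tt N6974 D13929))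
theorem Q5587 : ∀ i, i < 5587 → P i := stepQ 5586 Q5586 (allL N5586 (tt N5586 F43007) (tt N6965 (iv F61125)) (tt N6748 (iv F60211)) (tt N6974 (iv F61159)) (tt N4435 F43008) (tt N4745 F43009) (tt N6972 (iv F61152)) (tt N5586 F43010) (tt N4458 F43011) (tt N4432 (iv D9600)))
theorem Q5588 : ∀ i, i < 5588 → P i := stepQ 5587 Q5587 (allL N5587 (tt N5587 F43012) (tt N6966 (iv F61130)) (tt N6749 (iv F60217)) (tt N6938 (iv F61018)) (tt N6970 (iv F61144)) (tt N6878 (iv F60772)) (tt N5587 F43013) (tt N4434 F43014) (tt N4433 (iv D9601)) (tt N6975 D13930))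
theorem Q5589 : ∀ i, i < 5589 → P i := stepQ 5588 Q5588 (allL N5588 (tt N5588 F43015) (tt N6967 (iv F61133)) (tt N6750 (iv F60222)) (tt N6939 (iv F61023)) (tt N6972 (iv F61151)) (tt N6879 (iv F60775)) (tt N4435 F43016) (tt N6975 (iv F61164)) (tt N4460 F43017) (tt N4434 (iv D9602)))
theorem Q5590 : ∀ i, i < 5590 → P i := stepQ 5589 Q5589 (allL N5589 (tt N6751 (iv F60226)) (tt N4437 F43018) (tt N5589 F43019) (tt N5589 F43020) (tt N6976 D13931) (tt N4436 (iv D9603)) (tt N6977 D13932) (tt N5589 F43021) (tt N6978 D13933) (tt N6940 (iv F61030)))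
theorem Q5591 : ∀ i, i < 5591 → P i := stepQ 5590 Q5590 (allL N5590 (tt N6752 (iv F60231)) (tt N4438 F43022) (tt N5590 F43023) (tt N6959 (iv F202445)) (tt N4734 F202046) (tt N6978 (iv F61175)) (tt N6881 (iv F60784)) (tt N5590 F43025) (tt N4436 (iv D9604)) (tt N6979 D13935))
theorem Q5592 : ∀ i, i < 5592 → P i := stepQ 5591 Q5591 (allL N5591 (tt N4444 F43026) (tt N6976 (iv F61166)) (tt N4439 F43027) (tt N6980 D13936) (tt N4437 (iv D9605)) (tt N4749 F43028) (tt N6981 D13937) (tt N5591 F43029) (tt N6982 D13938) (tt N6942 (iv F61039)))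
theorem Q5593 : ∀ i, i < 5593 → P i := stepQ 5592 Q5592 (allL N5592 (tt N4445 F43030) (tt N6977 (iv F61170)) (tt N4440 F43031) (tt N5592 F43032) (tt N6981 (iv F61191)) (tt N6883 (iv F60791)) (tt N4437 (iv D9606)) (tt N6983 D13939) (tt N6984 D13940) (tt N6943 (iv F61043)))
theorem Q5594 : ∀ i, i < 5594 → P i := stepQ 5593 Q5593 (allL N5593 (tt N4446 F43033) (tt N6978 (iv F61173)) (tt N4441 F43034) (tt N6985 D13941) (tt N6982 (iv F61194)) (tt N4438 F43035) (tt N6984 (iv F61203)) (tt N5593 F43036) (tt N4437 (iv D9607)) (tt N6986 D13942))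
theorem Q5595 : ∀ i, i < 5595 → P i := stepQ 5594 Q5594 (allL N5594 (tt N4447 F43037) (tt N6959 F202787) (tt N5594 F43038) (tt N4438 (iv D9608)) (tt N6737 F202788) (tt N6985 (iv F61206)) (tt N6885 (iv F60797)) (tt N5594 F43039) (tt N5594 F43040) (tt N6987 D13944))
theorem Q5596 : ∀ i, i < 5596 → P i := stepQ 5595 Q5595 (allL N5595 (tt N4448 F43041) (tt N6979 (iv F61180)) (tt N4442 F43042) (tt N6987 (iv F61220)) (tt N4752 F43043) (tt N6986 (iv F61211)) (tt N6886 (iv F60802)) (tt N5595 F43044) (tt N6946 (iv F61055)) (tt N4438 (iv D9609)))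
theorem Q5597 : ∀ i, i < 5597 → P i := stepQ 5596 Q5596 (allL N5596 (tt N4449 F43045) (tt N5596 F43046) (tt N6981 (iv F61190)) (tt N4491 F43047) (tt N4440 F43048) (tt N6988 D13945) (tt N4439 (iv D9610)) (tt N6989 D13946) (tt N6990 D13947) (tt N6947 (iv F61060)))
theorem Q5598 : ∀ i, i < 5598 → P i := stepQ 5597 Q5597 (allL N5597 (tt N4450 F43049) (tt N5597 F43050) (tt N6982 (iv F61193)) (tt N6991 D13948) (tt N4441 F43051) (tt N4754 F43052) (tt N6990 (iv F61234)) (tt N5597 F43053) (tt N4439 (iv D9611)) (tt N6992 D13949))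
theorem Q5599 : ∀ i, i < 5599 → P i := stepQ 5598 Q5598 (allL N5598 (tt N4451 F43054) (tt N5598 F43055) (tt N6983 (iv F61198)) (tt N4443 F43056) (tt N6989 (iv F61229)) (tt N6889 (iv F60814)) (tt N5598 F43057) (tt N4440 (iv D9612)) (tt N6993 D13950) (tt N6949 (iv F61070)))
theorem Q5600 : ∀ i, i < 5600 → P i := stepQ 5599 Q5599 (allL N5599 (tt N4452 F43058) (tt N5599 F43059) (tt N6984 (iv F61202)) (tt N5599 F43060) (tt N6990 (iv F61233)) (tt N6890 (iv F60818)) (tt N4441 F43061) (tt N6993 (iv F61250)) (tt N4440 (iv D9613)) (tt N6994 D13951))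
theorem Q5601 : ∀ i, i < 5601 → P i := stepQ 5600 Q5600 (allL N5600 (tt N4453 F43062) (tt N5600 F43063) (tt N6986 (iv F61210)) (tt N5600 F43064) (tt N6992 (iv F61243)) (tt N4442 F43065) (tt N6994 (iv F61254)) (tt N5600 F43066) (tt N6951 (iv F61078)) (tt N4441 (iv D9614)))
theorem Q5602 : ∀ i, i < 5602 → P i := stepQ 5601 Q5601 (allL N5601 (tt N6980 (iv F61184)) (tt N6763 (iv F60274)) (tt N4495 F43067) (tt N4444 (iv D9615)) (tt N5601 F43068) (tt N4758 F43069) (tt N6995 D13952) (tt N5601 F43070) (tt N6996 D13953) (tt N6952 (iv F61083)))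
theorem Q5603 : ∀ i, i < 5603 → P i := stepQ 5602 Q5602 (allL N5602 (tt N6981 (iv F61189)) (tt N6764 (iv F60279)) (tt N4449 F43071) (tt N6995 (iv F61256)) (tt N4445 F43072) (tt N6997 D13954) (tt N4444 (iv D9616)) (tt N6998 D13955) (tt N6999 D13956) (tt N6953 (iv F61086)))
theorem Q5604 : ∀ i, i < 5604 → P i := stepQ 5603 Q5603 (allL N5603 (tt N6982 (iv F61192)) (tt N6765 (iv F60282)) (tt N4450 F43073) (tt N7000 D13957) (tt N4446 F43074) (tt N4760 F43075) (tt N6999 (iv F61269)) (tt N5603 F43076) (tt N4444 (iv D9617)) (tt N7001 D13958))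
theorem Q5605 : ∀ i, i < 5605 → P i := stepQ 5604 Q5604 (allL N5604 (tt N6983 (iv F61197)) (tt N6766 (iv F60287)) (tt N4451 F43077) (tt N5604 F43078) (tt N6998 (iv F61265)) (tt N6895 (iv F60834)) (tt N5604 F43079) (tt N4445 (iv D9618)) (tt N7002 D13959) (tt N6955 (iv F61094)))
theorem Q5606 : ∀ i, i < 5606 → P i := stepQ 5605 Q5605 (allL N5605 (tt N6984 (iv F61201)) (tt N6767 (iv F60291)) (tt N4452 F43080) (tt N7003 D13960) (tt N6999 (iv F61268)) (tt N6896 (iv F60836)) (tt N4446 F43081) (tt N7002 (iv F61278)) (tt N4445 (iv D9619)) (tt N7004 D13961))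
theorem Q5607 : ∀ i, i < 5607 → P i := stepQ 5606 Q5606 (allL N5606 (tt N6985 (iv F61204)) (tt N6768 (iv F60294)) (tt N5606 F43082) (tt N4446 (iv D9620)) (tt N7005 D13962) (tt N4447 F43083) (tt N7003 (iv F61280)) (tt N5606 F43084) (tt N5606 F43085) (tt N7006 D13963))
theorem Q5608 : ∀ i, i < 5608 → P i := stepQ 5607 Q5607 (allL N5607 (tt N6986 (iv F61209)) (tt N6769 (iv F60298)) (tt N4453 F43086) (tt N7006 (iv F61288)) (tt N7001 (iv F61273)) (tt N4448 F43087) (tt N7004 (iv F61283)) (tt N5607 F43088) (tt N6958 (iv F61103)) (tt N4446 (iv D9621)))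
theorem Q5609 : ∀ i, i < 5609 → P i := stepQ 5608 Q5608 (allL N5608 (tt N6737 F202795) (tt N6770 (iv F60302)) (tt N5608 F43089) (tt N4765 F43090) (tt N4447 (iv D9622)) (tt N7007 D13964) (tt N6899 (iv F60845)) (tt N5608 F43091) (tt N5608 F43092) (tt N7008 D13965))
theorem Q5610 : ∀ i, i < 5610 → P i := stepQ 5609 Q5609 (allL N5609 (tt N6987 (iv F61218)) (tt N6771 (iv F60306)) (tt N5609 F43093) (tt N4448 F43094) (tt N7008 (iv F61297)) (tt N7006 (iv F61289)) (tt N6900 (iv F60849)) (tt N5609 F43095) (tt N7009 D13966) (tt N4447 (iv D9623)))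
theorem Q5611 : ∀ i, i < 5611 → P i := stepQ 5610 Q5610 (allL N5610 (tt N6988 (iv F61222)) (tt N4454 F43096) (tt N6997 (iv F61262)) (tt N4500 F43097) (tt N6901 (iv F60852)) (tt N4449 (iv D9624)) (tt N4767 F43098) (tt N7010 D13967) (tt N7011 D13968) (tt N6961 (iv F61112)))
theorem Q5612 : ∀ i, i < 5612 → P i := stepQ 5611 Q5611 (allL N5611 (tt N6989 (iv F61226)) (tt N4455 F43099) (tt N6998 (iv F61264)) (tt N4501 F43100) (tt N4451 F43101) (tt N7010 (iv F61304)) (tt N5611 F43102) (tt N4449 (iv D9625)) (tt N7012 D13969) (tt N6962 (iv F61117)))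
theorem Q5613 : ∀ i, i < 5613 → P i := stepQ 5612 Q5612 (allL N5612 (tt N6990 (iv F61231)) (tt N4456 F43103) (tt N6999 (iv F61267)) (tt N7013 D13970) (tt N4452 F43104) (tt N7011 (iv F61306)) (tt N4450 F43105) (tt N7012 (iv F61311)) (tt N4449 (iv D9626)) (tt N7014 D13971))
theorem Q5614 : ∀ i, i < 5614 → P i := stepQ 5613 Q5613 (allL N5613 (tt N6991 (iv F61235)) (tt N4457 F43106) (tt N7015 D13972) (tt N4450 (iv D9627)) (tt N5613 F43107) (tt N4770 F43108) (tt N7013 (iv F61314)) (tt N5613 F43109) (tt N4503 F43110) (tt N7016 D13973))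
theorem Q5615 : ∀ i, i < 5615 → P i := stepQ 5614 Q5614 (allL N5614 (tt N6992 (iv F61241)) (tt N4458 F43111) (tt N7001 (iv F61272)) (tt N7016 (iv F61324)) (tt N4453 F43112) (tt N4771 F43113) (tt N7014 (iv F61318)) (tt N5614 F43114) (tt N6965 (iv F61129)) (tt N4450 (iv D9628)))
theorem Q5616 : ∀ i, i < 5616 → P i := stepQ 5615 Q5615 (allL N5615 (tt N6993 (iv F61246)) (tt N4459 F43115) (tt N7002 (iv F61276)) (tt N5615 F43116) (tt N7012 (iv F61309)) (tt N6906 (iv F60869)) (tt N5615 F43117) (tt N4452 F43118) (tt N4451 (iv D9629)) (tt N7017 D13974))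
theorem Q5617 : ∀ i, i < 5617 → P i := stepQ 5616 Q5616 (allL N5616 (tt N6994 (iv F61251)) (tt N4460 F43119) (tt N7004 (iv F61282)) (tt N5616 F43120) (tt N7014 (iv F61317)) (tt N6907 (iv F60873)) (tt N4453 F43121) (tt N7017 (iv F61331)) (tt N6967 (iv F61135)) (tt N4452 (iv D9630)))
theorem Q5618 : ∀ i, i < 5618 → P i := stepQ 5617 Q5617 (allL N5617 (tt N5617 F43122) (tt N7010 (iv F61302)) (tt N6779 (iv F60333)) (tt N4507 F43123) (tt N6908 (iv F60877)) (tt N4455 F43124) (tt N7018 D13975) (tt N4454 (iv D9631)) (tt N7019 D13976) (tt N6968 (iv F61139)))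
theorem Q5619 : ∀ i, i < 5619 → P i := stepQ 5618 Q5618 (allL N5618 (tt N5618 F43125) (tt N7011 (iv F61305)) (tt N6780 (iv F60337)) (tt N7020 D13977) (tt N6909 (iv F60880)) (tt N4456 F43126) (tt N4775 F43127) (tt N7019 (iv F61338)) (tt N4454 (iv D9632)) (tt N7021 D13978))
theorem Q5620 : ∀ i, i < 5620 → P i := stepQ 5619 Q5619 (allL N5619 (tt N5619 F43128) (tt N7012 (iv F61308)) (tt N6781 (iv F60341)) (tt N7022 D13979) (tt N4459 F43129) (tt N7019 (iv F61337)) (tt N5619 F43130) (tt N4456 F43131) (tt N4455 (iv D9633)) (tt N7023 D13980))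
theorem Q5621 : ∀ i, i < 5621 → P i := stepQ 5620 Q5620 (allL N5620 (tt N5620 F43132) (tt N7013 (iv F61312)) (tt N7024 D13981) (tt N4456 (iv D9634)) (tt N5620 F43133) (tt N7020 (iv F61340)) (tt N4457 F43134) (tt N7022 (iv F61349)) (tt N4510 F43135) (tt N7025 D13982))
theorem Q5622 : ∀ i, i < 5622 → P i := stepQ 5621 Q5621 (allL N5621 (tt N5621 F43136) (tt N7014 (iv F61316)) (tt N6783 (iv F60349)) (tt N7025 (iv F61360)) (tt N4460 F43137) (tt N7021 (iv F61344)) (tt N4458 F43138) (tt N7023 (iv F61354)) (tt N6972 (iv F61153)) (tt N4456 (iv D9635)))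
theorem Q5623 : ∀ i, i < 5623 → P i := stepQ 5622 Q5622 (allL N5622 (tt N5622 F43139) (tt N7026 D13983) (tt N4457 (iv D9636)) (tt N6784 (iv F60353)) (tt N5622 F43140) (tt N4779 F43141) (tt N7024 (iv F61357)) (tt N5622 F43142) (tt N4512 F43143) (tt N7027 D13984))
theorem Q5624 : ∀ i, i < 5624 → P i := stepQ 5623 Q5623 (allL N5623 (tt N5623 F43144) (tt N7016 (iv F61323)) (tt N7027 (iv F61368)) (tt N4458 F43145) (tt N5623 F43146) (tt N4780 F43147) (tt N7025 (iv F61362)) (tt N5623 F43148) (tt N7028 D13985) (tt N4457 (iv D9637)))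
theorem Q5625 : ∀ i, i < 5625 → P i := stepQ 5624 Q5624 (allL N5624 (tt N5624 F43149) (tt N7017 (iv F61328)) (tt N6786 (iv F60362)) (tt N5624 F43150) (tt N7023 (iv F61352)) (tt N6915 (iv F60903)) (tt N5624 F43151) (tt N4460 F43152) (tt N6975 (iv F61165)) (tt N4459 (iv D9638)))
theorem Q5626 : ∀ i, i < 5626 → P i := stepQ 5625 Q5625 (allL N5625 (tt N5281 F203790) (tt N4464 F43206) (tt N5625 F43207) (tt N5278 F203791) (tt N5625 F43208) (tt N5625 F43209) (tt N5625 F43210) (tt N4461 (iv D9649)) (tt N5625 F43211) (tt N5625 F43212))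
theorem Q5627 : ∀ i, i < 5627 → P i := stepQ 5626 Q5626 (allL N5626 (tt N5626 F43213) (tt N5277 F202983) (tt N4469 F43214) (tt N5626 F43215) (tt N4463 F43216) (tt N7029 D14004) (tt N4462 (iv D9650)) (tt N7030 D14005) (tt N5272 F202984) (tt N5626 F43217))
theorem Q5628 : ∀ i, i < 5628 → P i := stepQ 5627 Q5627 (allL N5627 (tt N5627 F43223) (tt N5278 F203787) (tt N4471 F43224) (tt N4464 F43225) (tt N7030 (iv F61481)) (tt N5627 F43226) (tt N5627 F43227) (tt N4463 (iv D9652)) (tt N5273 F203788) (tt N5627 F43228))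
theorem Q5629 : ∀ i, i < 5629 → P i := stepQ 5628 Q5628 (allL N5628 (tt N4468 F43278) (tt N5628 F43279) (tt N5628 F43280) (tt N5178 F203773) (tt N6922 (iv F60944)) (tt N5628 F43281) (tt N5628 F43282) (tt N4465 (iv D9662)) (tt N4475 F43283) (tt N5628 F43284))
theorem Q5630 : ∀ i, i < 5630 → P i := stepQ 5629 Q5629 (allL N5629 (tt N5176 F202925) (tt N4469 F43305) (tt N5169 F202926) (tt N6928 (iv F60971)) (tt N4467 F43306) (tt N7031 D14032) (tt N4466 (iv D9668)) (tt N7032 D14033) (tt N5165 F202927) (tt N5629 F43307))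
theorem Q5631 : ∀ i, i < 5631 → P i := stepQ 5630 Q5630 (allL N5630 (tt N5178 F203567) (tt N4471 F43312) (tt N5171 F203568) (tt N4468 F43313) (tt N7032 (iv F61613)) (tt N5630 F43314) (tt N5630 F43315) (tt N4467 (iv D9670)) (tt N5166 F203569) (tt N5630 F43316))
theorem Q5632 : ∀ i, i < 5632 → P i := stepQ 5631 Q5631 (allL N5631 (tt N5631 F43326) (tt N7031 (iv F61608)) (tt N7029 (iv F61473)) (tt N6933 (iv F60992)) (tt N5631 F43327) (tt N4469 (iv D9673)) (tt N5631 F43328) (tt N7033 D14039) (tt N7034 D14040) (tt N5631 F43329))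
theorem Q5633 : ∀ i, i < 5633 → P i := stepQ 5632 Q5632 (allL N5632 (tt N5632 F43330) (tt N7032 (iv F61612)) (tt N7030 (iv F61479)) (tt N6934 (iv F60997)) (tt N4471 F43331) (tt N7033 (iv F61640)) (tt N5632 F43332) (tt N4469 (iv D9674)) (tt N7035 D14041) (tt N5632 F43333))
theorem Q5634 : ∀ i, i < 5634 → P i := stepQ 5633 Q5633 (allL N5633 (tt N5633 F43334) (tt N5165 F202923) (tt N5272 F202924) (tt N7036 D14042) (tt N4472 F43335) (tt N7034 (iv F61644)) (tt N4470 F43336) (tt N7035 (iv F61649)) (tt N4469 (iv D9675)) (tt N5190 (iv F203156)))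
theorem Q5635 : ∀ i, i < 5635 → P i := stepQ 5634 Q5634 (allL N5634 (tt N5634 F43337) (tt N5164 F202934) (tt N7037 D14044) (tt N4470 (iv D9676)) (tt N4485 F43338) (tt N5634 F43339) (tt N7036 (iv F61652)) (tt N5634 F43340) (tt N6936 (iv F61009)) (tt N5189 (iv F203276)))
theorem Q5636 : ∀ i, i < 5636 → P i := stepQ 5635 Q5635 (allL N5635 (tt N5635 F43346) (tt N5166 F203564) (tt N5273 F203565) (tt N4487 F43347) (tt N7035 (iv F61647)) (tt N5635 F43348) (tt N5635 F43349) (tt N4472 F43350) (tt N4471 (iv D9678)) (tt N5191 F203566))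
theorem Q5637 : ∀ i, i < 5637 → P i := stepQ 5636 Q5636 (allL N5636 (tt N4478 F43392) (tt N5636 F43393) (tt N4789 F203774) (tt N6947 (iv F61058)) (tt N4474 F43394) (tt N7038 D14061) (tt N4473 (iv D9687)) (tt N7039 D14062) (tt N4785 F203775) (tt N4491 F43395))
theorem Q5638 : ∀ i, i < 5638 → P i := stepQ 5637 Q5637 (allL N5637 (tt N4480 F43401) (tt N5637 F43402) (tt N4791 F203771) (tt N4475 F43403) (tt N7039 (iv F61750)) (tt N5637 F43404) (tt N5637 F43405) (tt N4474 (iv D9689)) (tt N4786 F203772) (tt N4493 F43406))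
theorem Q5639 : ∀ i, i < 5639 → P i := stepQ 5638 Q5638 (allL N5638 (tt N4790 (iv F203364)) (tt N5638 F43416) (tt N6952 (iv F61079)) (tt N4476 (iv D9692)) (tt N5638 F43417) (tt N4784 F43418) (tt N7040 D14068) (tt N5638 F43419) (tt N7041 D14069) (tt N4495 F43420))
theorem Q5640 : ∀ i, i < 5640 → P i := stepQ 5639 Q5639 (allL N5639 (tt N4789 F203583) (tt N5639 F43421) (tt N4478 F43422) (tt N7040 (iv F61778)) (tt N4477 F43423) (tt N7042 D14070) (tt N4476 (iv D9693)) (tt N7043 D14071) (tt N4782 F203584) (tt N4496 F43424))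
theorem Q5641 : ∀ i, i < 5641 → P i := stepQ 5640 Q5640 (allL N5640 (tt N4791 F203561) (tt N5640 F43430) (tt N4480 F43431) (tt N5640 F43432) (tt N7043 (iv F61792)) (tt N5640 F43433) (tt N5640 F43434) (tt N4477 (iv D9695)) (tt N4783 F203562) (tt N4498 F43435))
theorem Q5642 : ∀ i, i < 5642 → P i := stepQ 5641 Q5641 (allL N5641 (tt N7038 (iv F61743)) (tt N4482 F43458) (tt N7042 (iv F61786)) (tt N6961 (iv F61110)) (tt N5641 F43459) (tt N4478 (iv D9701)) (tt N4787 F43460) (tt N7044 D14083) (tt N7045 D14084) (tt N4500 F43461))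
theorem Q5643 : ∀ i, i < 5643 → P i := stepQ 5642 Q5642 (allL N5642 (tt N7039 (iv F61748)) (tt N4483 F43462) (tt N7043 (iv F61791)) (tt N6962 (iv F61114)) (tt N4480 F43463) (tt N7044 (iv F61845)) (tt N5642 F43464) (tt N4478 (iv D9702)) (tt N7046 D14085) (tt N4501 F43465))
theorem Q5644 : ∀ i, i < 5644 → P i := stepQ 5643 Q5643 (allL N5643 (tt N4785 F203581) (tt N4484 F43466) (tt N4782 F203582) (tt N7047 D14086) (tt N4481 F43467) (tt N7045 (iv F61849)) (tt N4479 F43468) (tt N7046 (iv F61854)) (tt N4478 (iv D9703)) (tt N4801 (iv F203891)))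
theorem Q5645 : ∀ i, i < 5645 → P i := stepQ 5644 Q5644 (allL N5644 (tt N4784 F202930) (tt N4485 F43469) (tt N7048 D14088) (tt N4479 (iv D9704)) (tt N5164 F202931) (tt N4790 F43470) (tt N7047 (iv F61856)) (tt N5644 F43471) (tt N6964 (iv F61124)) (tt N4800 (iv F203238)))
theorem Q5646 : ∀ i, i < 5646 → P i := stepQ 5645 Q5645 (allL N5645 (tt N4786 F203556) (tt N4487 F43477) (tt N4783 F203557) (tt N5166 F203558) (tt N7046 (iv F61852)) (tt N5645 F43478) (tt N5645 F43479) (tt N4481 F43480) (tt N4480 (iv D9706)) (tt N4802 F203559))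
theorem Q5647 : ∀ i, i < 5647 → P i := stepQ 5646 Q5646 (allL N5646 (tt N5646 F43485) (tt N7044 (iv F61843)) (tt N5646 F43486) (tt N6968 (iv F61137)) (tt N5646 F43487) (tt N4483 F43488) (tt N7049 D14091) (tt N4482 (iv D9708)) (tt N7050 D14092) (tt N4507 F43489))
theorem Q5648 : ∀ i, i < 5648 → P i := stepQ 5647 Q5647 (allL N5647 (tt N5647 F43490) (tt N7045 (iv F61847)) (tt N5647 F43491) (tt N7051 D14093) (tt N5647 F43492) (tt N4484 F43493) (tt N4793 F43494) (tt N7050 (iv F61882)) (tt N4482 (iv D9709)) (tt N7052 D14094))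
theorem Q5649 : ∀ i, i < 5649 → P i := stepQ 5648 Q5648 (allL N5648 (tt N5648 F43495) (tt N7046 (iv F61851)) (tt N5648 F43496) (tt N7053 D14095) (tt N4487 F43497) (tt N7050 (iv F61881)) (tt N5648 F43498) (tt N4484 F43499) (tt N4483 (iv D9710)) (tt N7054 D14096))
theorem Q5650 : ∀ i, i < 5650 → P i := stepQ 5649 Q5649 (allL N5649 (tt N5649 F43500) (tt N7047 (iv F61855)) (tt N7055 D14097) (tt N4484 (iv D9711)) (tt N7036 (iv F61651)) (tt N7051 (iv F61884)) (tt N4485 F43501) (tt N7053 (iv F61894)) (tt N6971 (iv F61149)) (tt N7056 D14098))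
theorem Q5651 : ∀ i, i < 5651 → P i := stepQ 5650 Q5650 (allL N5650 (tt N5650 F43502) (tt N4801 (iv F203890)) (tt N5650 F43503) (tt N7056 (iv F61905)) (tt N4488 F43504) (tt N7052 (iv F61889)) (tt N4486 F43505) (tt N7054 (iv F61899)) (tt N4511 F43506) (tt N4484 (iv D9712)))
theorem Q5652 : ∀ i, i < 5652 → P i := stepQ 5651 Q5651 (allL N5651 (tt N5651 F43507) (tt N7057 D14099) (tt N4485 (iv D9713)) (tt N5651 F43508) (tt N7037 (iv F61658)) (tt N4797 F43509) (tt N7055 (iv F61903)) (tt N5651 F43510) (tt N6973 (iv F61157)) (tt N7058 D14100))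
theorem Q5653 : ∀ i, i < 5653 → P i := stepQ 5652 Q5652 (allL N5652 (tt N5652 F43511) (tt N4800 F203651) (tt N7058 (iv F61911)) (tt N4486 F43512) (tt N5189 F203652) (tt N4798 F43513) (tt N7056 (iv F61906)) (tt N5652 F43514) (tt N7059 D14101) (tt N4485 (iv D9714)))
theorem Q5654 : ∀ i, i < 5654 → P i := stepQ 5653 Q5653 (allL N5653 (tt N5653 F43515) (tt N4802 F203550) (tt N5653 F43516) (tt N5191 F203551) (tt N7054 (iv F61897)) (tt N5653 F43517) (tt N5653 F43518) (tt N4488 F43519) (tt N4514 F43520) (tt N4487 (iv D9715)))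
theorem Q5655 : ∀ i, i < 5655 → P i := stepQ 5654 Q5654 (allL N5654 (tt N4495 F43548) (tt N4798 F203644) (tt N6980 (iv F61185)) (tt N4489 (iv D9721)) (tt N5654 F43549) (tt N4800 F43550) (tt N7060 D14111) (tt N5654 F43551) (tt N7061 D14112) (tt N4790 F203645))
theorem Q5656 : ∀ i, i < 5656 → P i := stepQ 5655 Q5655 (allL N5655 (tt N4496 F43552) (tt N4796 F203777) (tt N4491 F43553) (tt N7060 (iv F61969)) (tt N4490 F43554) (tt N7062 D14113) (tt N4489 (iv D9722)) (tt N7063 D14114) (tt N4819 (iv F203978)) (tt N4789 F203778))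
theorem Q5657 : ∀ i, i < 5657 → P i := stepQ 5656 Q5656 (allL N5656 (tt N4498 F43560) (tt N4799 F203780) (tt N4493 F43561) (tt N5656 F43562) (tt N7063 (iv F61981)) (tt N5656 F43563) (tt N5656 F43564) (tt N4490 (iv D9724)) (tt N4822 (iv F203900)) (tt N4791 F203781))
theorem Q5658 : ∀ i, i < 5658 → P i := stepQ 5657 Q5657 (allL N5657 (tt N4500 F43584) (tt N5657 F43585) (tt N7062 (iv F61976)) (tt N6988 (iv F61224)) (tt N5657 F43586) (tt N4491 (iv D9729)) (tt N4803 F43587) (tt N7064 D14124) (tt N7065 D14125) (tt N7038 (iv F61747)))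
theorem Q5659 : ∀ i, i < 5659 → P i := stepQ 5658 Q5658 (allL N5658 (tt N4501 F43588) (tt N5658 F43589) (tt N7063 (iv F61980)) (tt N6989 (iv F61228)) (tt N4493 F43590) (tt N7064 (iv F62028)) (tt N5658 F43591) (tt N4491 (iv D9730)) (tt N7066 D14126) (tt N7039 (iv F61752)))
theorem Q5660 : ∀ i, i < 5660 → P i := stepQ 5659 Q5659 (allL N5659 (tt N4502 F43592) (tt N5659 F43593) (tt N4819 F204177) (tt N7067 D14127) (tt N4494 F43594) (tt N7065 (iv F62032)) (tt N4492 F43595) (tt N7066 (iv F62038)) (tt N4491 (iv D9731)) (tt N4812 F204178))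
theorem Q5661 : ∀ i, i < 5661 → P i := stepQ 5660 Q5660 (allL N5660 (tt N4503 F43596) (tt N5660 F43597) (tt N7068 D14129) (tt N4492 (iv D9732)) (tt N5660 F43598) (tt N4806 F43599) (tt N7067 (iv F62042)) (tt N5660 F43600) (tt N6991 (iv F61240)) (tt N4813 F204179))
theorem Q5662 : ∀ i, i < 5662 → P i := stepQ 5661 Q5661 (allL N5661 (tt N4505 F43606) (tt N5661 F43607) (tt N4822 (iv F203899)) (tt N5661 F43608) (tt N7066 (iv F62036)) (tt N5661 F43609) (tt N5661 F43610) (tt N4494 F43611) (tt N4493 (iv D9734)) (tt N4814 F203872))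
theorem Q5663 : ∀ i, i < 5663 → P i := stepQ 5662 Q5662 (allL N5662 (tt N7060 (iv F61968)) (tt N5662 F43617) (tt N6995 (iv F61255)) (tt N4496 F43618) (tt N5662 F43619) (tt N7069 D14132) (tt N4495 (iv D9736)) (tt N7070 D14133) (tt N7071 D14134) (tt N7040 (iv F61780)))
theorem Q5664 : ∀ i, i < 5664 → P i := stepQ 5663 Q5663 (allL N5663 (tt N7061 (iv F61971)) (tt N5663 F43620) (tt N6996 (iv F61258)) (tt N7072 D14135) (tt N5663 F43621) (tt N4809 F43622) (tt N7071 (iv F62072)) (tt N5663 F43623) (tt N4495 (iv D9737)) (tt N7073 D14136))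
theorem Q5665 : ∀ i, i < 5665 → P i := stepQ 5664 Q5664 (allL N5664 (tt N7062 (iv F61975)) (tt N5664 F43624) (tt N4500 F43625) (tt N7069 (iv F62064)) (tt N5664 F43626) (tt N4496 (iv D9738)) (tt N4810 F43627) (tt N7074 D14137) (tt N7075 D14138) (tt N7042 (iv F61789)))
theorem Q5666 : ∀ i, i < 5666 → P i := stepQ 5665 Q5665 (allL N5665 (tt N7063 (iv F61979)) (tt N5665 F43628) (tt N4501 F43629) (tt N7070 (iv F62067)) (tt N4498 F43630) (tt N7074 (iv F62084)) (tt N5665 F43631) (tt N4496 (iv D9739)) (tt N7076 D14139) (tt N7043 (iv F61794)))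
theorem Q5667 : ∀ i, i < 5667 → P i := stepQ 5666 Q5666 (allL N5666 (tt N4819 F204099) (tt N5666 F43632) (tt N4502 F43633) (tt N7077 D14140) (tt N4499 F43634) (tt N7075 (iv F62088)) (tt N4497 F43635) (tt N7076 (iv F62094)) (tt N4496 (iv D9740)) (tt N4805 F204100))
theorem Q5668 : ∀ i, i < 5668 → P i := stepQ 5667 Q5667 (allL N5667 (tt N4821 F204182) (tt N5667 F43636) (tt N7078 D14142) (tt N4497 (iv D9741)) (tt N4940 (iv F204360)) (tt N4813 F43637) (tt N7077 (iv F62096)) (tt N5667 F43638) (tt N7072 (iv F62076)) (tt N4806 F204183))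
theorem Q5669 : ∀ i, i < 5669 → P i := stepQ 5668 Q5668 (allL N5668 (tt N4822 (iv F203898)) (tt N5668 F43644) (tt N4505 F43645) (tt N4941 (iv F203918)) (tt N7076 (iv F62092)) (tt N5668 F43646) (tt N5668 F43647) (tt N4499 F43648) (tt N4498 (iv D9743)) (tt N4807 F203560))
theorem Q5670 : ∀ i, i < 5670 → P i := stepQ 5669 Q5669 (allL N5669 (tt N7064 (iv F62025)) (tt N4507 F43674) (tt N7074 (iv F62082)) (tt N7010 (iv F61303)) (tt N5669 F43675) (tt N4501 F43676) (tt N7079 D14151) (tt N4500 (iv D9749)) (tt N7080 D14152) (tt N7044 (iv F61846)))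
theorem Q5671 : ∀ i, i < 5671 → P i := stepQ 5670 Q5670 (allL N5670 (tt N7065 (iv F62029)) (tt N4508 F43677) (tt N7075 (iv F62086)) (tt N7081 D14153) (tt N5670 F43678) (tt N4502 F43679) (tt N4816 F43680) (tt N7080 (iv F62149)) (tt N4500 (iv D9750)) (tt N7082 D14154))
theorem Q5672 : ∀ i, i < 5672 → P i := stepQ 5671 Q5671 (allL N5671 (tt N7066 (iv F62034)) (tt N4509 F43681) (tt N7076 (iv F62091)) (tt N7083 D14155) (tt N4505 F43682) (tt N7080 (iv F62148)) (tt N5671 F43683) (tt N4502 F43684) (tt N4501 (iv D9751)) (tt N7084 D14156))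
theorem Q5673 : ∀ i, i < 5673 → P i := stepQ 5672 Q5672 (allL N5672 (tt N7067 (iv F62039)) (tt N4510 F43685) (tt N7085 D14157) (tt N4502 (iv D9752)) (tt N5672 F43686) (tt N7081 (iv F62151)) (tt N4503 F43687) (tt N7083 (iv F62160)) (tt N7013 (iv F61315)) (tt N7086 D14158))
theorem Q5674 : ∀ i, i < 5674 → P i := stepQ 5673 Q5673 (allL N5673 (tt N4812 F204096) (tt N4511 F43688) (tt N4805 F204097) (tt N7086 (iv F62168)) (tt N4506 F43689) (tt N7082 (iv F62155)) (tt N4504 F43690) (tt N7084 (iv F62164)) (tt N4801 F204098) (tt N4502 (iv D9753)))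
theorem Q5675 : ∀ i, i < 5675 → P i := stepQ 5674 Q5674 (allL N5674 (tt N7068 (iv F62047)) (tt N7087 D14159) (tt N4503 (iv D9754)) (tt N7078 (iv F62101)) (tt N5674 F43691) (tt N4820 F43692) (tt N7085 (iv F62166)) (tt N5674 F43693) (tt N7015 (iv F61322)) (tt N7088 D14160))
theorem Q5676 : ∀ i, i < 5676 → P i := stepQ 5675 Q5675 (allL N5675 (tt N4813 F204181) (tt N4513 F43694) (tt N7088 (iv F62175)) (tt N4504 F43695) (tt N5675 F43696) (tt N4821 F43697) (tt N7086 (iv F62170)) (tt N5675 F43698) (tt N7089 D14161) (tt N4503 (iv D9755)))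
theorem Q5677 : ∀ i, i < 5677 → P i := stepQ 5676 Q5676 (allL N5676 (tt N4814 F203553) (tt N4514 F43699) (tt N4807 F203554) (tt N5676 F43700) (tt N7084 (iv F62162)) (tt N5676 F43701) (tt N5676 F43702) (tt N4506 F43703) (tt N4802 F203555) (tt N4505 (iv D9756)))
theorem Q5678 : ∀ i, i < 5678 → P i := stepQ 5677 Q5677 (allL N5677 (tt N5677 F43704) (tt N7079 (iv F62142)) (tt N5677 F43705) (tt N7018 (iv F61333)) (tt N5677 F43706) (tt N5677 F43707) (tt N4507 (iv D9757)) (tt N4823 F43708) (tt N7090 D14162) (tt N7049 (iv F61877)))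
theorem Q5679 : ∀ i, i < 5679 → P i := stepQ 5678 Q5678 (allL N5678 (tt N5678 F43709) (tt N7080 (iv F62146)) (tt N5678 F43710) (tt N7091 D14163) (tt N5678 F43711) (tt N4509 F43712) (tt N7090 (iv F62187)) (tt N4508 F43713) (tt N4507 (iv D9758)) (tt N7092 D14164))
theorem Q5680 : ∀ i, i < 5680 → P i := stepQ 5679 Q5679 (allL N5679 (tt N5679 F43714) (tt N7081 (iv F62150)) (tt N7093 D14165) (tt N4508 (iv D9759)) (tt N7094 D14166) (tt N4510 F43715) (tt N4825 F43716) (tt N7091 (iv F62191)) (tt N7020 (iv F61342)) (tt N7095 D14167))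
theorem Q5681 : ∀ i, i < 5681 → P i := stepQ 5680 Q5680 (allL N5680 (tt N5680 F43717) (tt N7082 (iv F62153)) (tt N5680 F43718) (tt N7095 (iv F62206)) (tt N5680 F43719) (tt N4511 F43720) (tt N4826 F43721) (tt N7092 (iv F62196)) (tt N7052 (iv F61891)) (tt N4508 (iv D9760)))
theorem Q5682 : ∀ i, i < 5682 → P i := stepQ 5681 Q5681 (allL N5681 (tt N5681 F43722) (tt N7083 (iv F62157)) (tt N7096 D14168) (tt N4509 (iv D9761)) (tt N5681 F43723) (tt N7091 (iv F62190)) (tt N5681 F43724) (tt N4510 F43725) (tt N7022 (iv F61350)) (tt N7097 D14169))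
theorem Q5683 : ∀ i, i < 5683 → P i := stepQ 5682 Q5682 (allL N5682 (tt N5682 F43726) (tt N7084 (iv F62161)) (tt N5682 F43727) (tt N7097 (iv F62215)) (tt N4514 F43728) (tt N7092 (iv F62195)) (tt N5682 F43729) (tt N4511 F43730) (tt N7054 (iv F61900)) (tt N4509 (iv D9762)))
theorem Q5684 : ∀ i, i < 5684 → P i := stepQ 5683 Q5683 (allL N5683 (tt N5683 F43731) (tt N7098 D14170) (tt N4510 (iv D9763)) (tt N5683 F43732) (tt N5683 F43733) (tt N7093 (iv F62199)) (tt N4512 F43734) (tt N7096 (iv F62213)) (tt N7024 (iv F61358)) (tt N7099 D14171))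
theorem Q5685 : ∀ i, i < 5685 → P i := stepQ 5684 Q5684 (allL N5684 (tt N5684 F43735) (tt N7086 (iv F62167)) (tt N7099 (iv F62223)) (tt N4511 F43736) (tt N5684 F43737) (tt N7095 (iv F62207)) (tt N4513 F43738) (tt N7097 (iv F62218)) (tt N7100 D14172) (tt N4510 (iv D9764)))
theorem Q5686 : ∀ i, i < 5686 → P i := stepQ 5685 Q5685 (allL N5685 (tt N7101 D14173) (tt N4512 (iv D9765)) (tt N7087 (iv F62171)) (tt N5685 F43739) (tt N5685 F43740) (tt N4831 F43741) (tt N7098 (iv F62221)) (tt N5685 F43742) (tt N7026 (iv F61366)) (tt N7102 D14174))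
theorem Q5687 : ∀ i, i < 5687 → P i := stepQ 5686 Q5686 (allL N5686 (tt N5686 F43743) (tt N7102 (iv F62235)) (tt N4513 F43744) (tt N5686 F43745) (tt N5686 F43746) (tt N4832 F43747) (tt N7099 (iv F62226)) (tt N5686 F43748) (tt N7103 D14175) (tt N4512 (iv D9766)))
theorem Q5688 : ∀ i, i < 5688 → P i := stepQ 5687 Q5687 (allL N5687 (tt N5687 F43749) (tt N7089 (iv F62179)) (tt N7103 (iv F62241)) (tt N7059 (iv F61916)) (tt N5687 F43750) (tt N4833 F43751) (tt N7100 (iv F62229)) (tt N5687 F43752) (tt N4513 (iv D9767)) (tt N7028 (iv F61376)))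
theorem Q5689 : ∀ i, i < 5689 → P i := stepQ 5688 Q5688 (allL N5688 (tt N5688 F43753) (tt N4967 F43754) (tt N6539 F206265) (tt N4515 (iv D9768)) (tt N6538 (iv F206275)) (tt N4516 F43755) (tt N5688 F43756) (tt N5688 F43757) (tt N5688 F43758) (tt N5688 F43759))
theorem Q5690 : ∀ i, i < 5690 → P i := stepQ 5689 Q5689 (allL N5689 (tt N5689 F43760) (tt N5689 F195300) (tt N4516 (iv D9769)) (tt N5689 F43761) (tt N6542 F206118) (tt N6539 (iv F206247)) (tt N4527 F43762) (tt N5689 F43763) (tt N5689 F43764) (tt N5689 F43765))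
theorem Q5691 : ∀ i, i < 5691 → P i := stepQ 5690 Q5690 (allL N5690 (tt N5690 F43766) (tt N4968 F43767) (tt N6542 F206117) (tt N4518 F43768) (tt N4516 (iv D9770)) (tt N6541 (iv F206230)) (tt N4528 F43769) (tt N5690 F43770) (tt N5690 F43771) (tt N5690 F43772))
theorem Q5692 : ∀ i, i < 5692 → P i := stepQ 5691 Q5691 (allL N5691 (tt N5691 F43780) (tt N5233 (iv F202399)) (tt N4518 F43781) (tt N6555 F205777) (tt N4517 (iv D9772)) (tt N6554 (iv F205978)) (tt N4529 F43782) (tt N5691 F43783) (tt N4520 F43784) (tt N5691 F43785))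
theorem Q5693 : ∀ i, i < 5693 → P i := stepQ 5692 Q5692 (allL N5692 (tt N5692 F43786) (tt N4969 F43787) (tt N6554 F206084) (tt N6541 (iv F206229)) (tt N5692 F43788) (tt N4518 (iv D9773)) (tt N6545 F206085) (tt N5692 F43789) (tt N4521 F43790) (tt N5692 F43791))
theorem Q5694 : ∀ i, i < 5694 → P i := stepQ 5693 Q5693 (allL N5693 (tt N5238 (iv F202331)) (tt N4520 F43798) (tt N4970 F43799) (tt N7104 D14187) (tt N4519 (iv D9775)) (tt N7105 D14188) (tt N4531 F43800) (tt N5693 F43801) (tt N5233 (iv F202400)) (tt N4523 F43802))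
theorem Q5695 : ∀ i, i < 5695 → P i := stepQ 5694 Q5694 (allL N5694 (tt N5694 F43803) (tt N7104 (iv F62314)) (tt N5694 F43804) (tt N4520 (iv D9776)) (tt N6624 (iv F59583)) (tt N6631 (iv F206232)) (tt N4532 F43805) (tt N5694 F43806) (tt N6630 F206119) (tt N4524 F43807))
theorem Q5696 : ∀ i, i < 5696 → P i := stepQ 5695 Q5695 (allL N5695 (tt N5695 F43808) (tt N7105 (iv F62318)) (tt N4521 F43809) (tt N6631 (iv F206231)) (tt N5695 F43810) (tt N4520 (iv D9777)) (tt N6561 F206088) (tt N5695 F43811) (tt N6554 F206089) (tt N4525 F43812))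
theorem Q5697 : ∀ i, i < 5697 → P i := stepQ 5696 Q5696 (allL N5696 (tt N5696 F43813) (tt N4973 F43814) (tt N6561 F206086) (tt N5696 F43815) (tt N5696 F43816) (tt N4534 F43817) (tt N4521 (iv D9778)) (tt N5253 (iv F201566)) (tt N6545 F206087) (tt N4526 F43818))
theorem Q5698 : ∀ i, i < 5698 → P i := stepQ 5697 Q5697 (allL N5697 (tt N4523 F43819) (tt N5697 F43820) (tt N4974 F43821) (tt N7106 D14193) (tt N4522 (iv D9779)) (tt N7107 D14194) (tt N4535 F43822) (tt N5697 F43823) (tt N5697 F43824) (tt N5238 (iv F202333)))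
theorem Q5699 : ∀ i, i < 5699 → P i := stepQ 5698 Q5698 (allL N5698 (tt N7106 (iv F62344)) (tt N4524 F43825) (tt N7108 D14195) (tt N4523 (iv D9780)) (tt N6628 (iv F59606)) (tt N7109 D14196) (tt N4536 F43826) (tt N5698 F43827) (tt N7110 D14197) (tt N7104 (iv F62317)))
theorem Q5700 : ∀ i, i < 5700 → P i := stepQ 5699 Q5699 (allL N5699 (tt N7107 (iv F62348)) (tt N4525 F43828) (tt N4976 F43829) (tt N7109 (iv F62359)) (tt N5699 F43830) (tt N4523 (iv D9781)) (tt N5243 F201749) (tt N5699 F43831) (tt N5699 F43832) (tt N7105 (iv F62322)))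
theorem Q5701 : ∀ i, i < 5701 → P i := stepQ 5700 Q5700 (allL N5700 (tt N5700 F43833) (tt N7109 (iv F62358)) (tt N5700 F43834) (tt N4525 F43835) (tt N7111 D14199) (tt N4524 (iv D9782)) (tt N6649 F206263) (tt N5700 F43836) (tt N7112 D14201) (tt N6631 F206264))
theorem Q5702 : ∀ i, i < 5702 → P i := stepQ 5701 Q5701 (allL N5701 (tt N5701 F43837) (tt N7110 (iv F62361)) (tt N5701 F43838) (tt N5701 F43839) (tt N6631 (iv F59619)) (tt N7112 (iv F62381)) (tt N4539 F43840) (tt N5701 F43841) (tt N4524 (iv D9783)) (tt N7111 (iv F206253)))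
theorem Q5703 : ∀ i, i < 5703 → P i := stepQ 5702 Q5702 (allL N5702 (tt N5702 F43842) (tt N5243 (iv F201375)) (tt N4526 F43843) (tt N6649 (iv F206234)) (tt N5702 F43844) (tt N4540 F43845) (tt N4525 (iv D9784)) (tt N5252 (iv F201384)) (tt N5702 F43846) (tt N6561 F206090))
theorem Q5704 : ∀ i, i < 5704 → P i := stepQ 5703 Q5703 (allL N5703 (tt N5703 F43860) (tt N5703 F195110) (tt N4528 F43861) (tt N6556 F205774) (tt N4527 (iv D9787)) (tt N6547 F205775) (tt N6542 (iv F206011)) (tt N4542 F43862) (tt N5703 F43863) (tt N5703 F43864))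
theorem Q5705 : ∀ i, i < 5705 → P i := stepQ 5704 Q5704 (allL N5704 (tt N5704 F43865) (tt N4977 F43866) (tt N6547 F205773) (tt N4530 F43867) (tt N5704 F43868) (tt N4528 (iv D9788)) (tt N6546 (iv F205973)) (tt N4543 F43869) (tt N5704 F43870) (tt N5704 F43871))
theorem Q5706 : ∀ i, i < 5706 → P i := stepQ 5705 Q5705 (allL N5705 (tt N5705 F43884) (tt N5232 (iv F202401)) (tt N6556 (iv F205643)) (tt N4529 (iv D9791)) (tt N5705 F43885) (tt N6562 F205471) (tt N6555 (iv F205650)) (tt N4544 F43886) (tt N6632 (iv F205653)) (tt N5705 F43887))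
theorem Q5707 : ∀ i, i < 5707 → P i := stepQ 5706 Q5706 (allL N5706 (tt N5706 F43888) (tt N5202 (iv F201544)) (tt N4530 F43889) (tt N6562 F205469) (tt N4565 F43890) (tt N4529 (iv D9792)) (tt N6560 (iv F205618)) (tt N4545 F43891) (tt N4533 F43892) (tt N5706 F43893))
theorem Q5708 : ∀ i, i < 5708 → P i := stepQ 5707 Q5707 (allL N5707 (tt N5707 F43894) (tt N4978 F43895) (tt N6560 F205736) (tt N6546 (iv F205972)) (tt N4566 F43896) (tt N6545 (iv F205974)) (tt N4530 (iv D9793)) (tt N6549 F205737) (tt N4534 F43897) (tt N5707 F43898))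
theorem Q5709 : ∀ i, i < 5709 → P i := stepQ 5708 Q5708 (allL N5708 (tt N5239 (iv F202212)) (tt N4532 F43904) (tt N7113 D14218) (tt N4531 (iv D9795)) (tt N6634 (iv F59639)) (tt N7114 D14219) (tt N7104 (iv F62315)) (tt N4547 F43905) (tt N7115 D14220) (tt N4536 F43906))
theorem Q5710 : ∀ i, i < 5710 → P i := stepQ 5709 Q5709 (allL N5709 (tt N5208 (iv F201493)) (tt N4533 F43907) (tt N4980 F43908) (tt N7114 (iv F62473)) (tt N4568 F43909) (tt N4531 (iv D9796)) (tt N7116 D14221) (tt N4548 F43910) (tt N5202 (iv F201545)) (tt N4537 F43911))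
theorem Q5711 : ∀ i, i < 5711 → P i := stepQ 5710 Q5710 (allL N5710 (tt N5710 F43912) (tt N7114 (iv F62472)) (tt N5710 F43913) (tt N4533 F43914) (tt N7117 D14222) (tt N4532 (iv D9797)) (tt N6648 (iv F205983)) (tt N4549 F43915) (tt N6647 F205778) (tt N4538 F43916))
theorem Q5712 : ∀ i, i < 5712 → P i := stepQ 5711 Q5711 (allL N5711 (tt N5711 F43917) (tt N7115 (iv F62476)) (tt N5711 F43918) (tt N6632 F205781) (tt N6637 (iv F59656)) (tt N6647 F205782) (tt N6630 (iv F206014)) (tt N4550 F43919) (tt N4532 (iv D9798)) (tt N7118 D14225))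
theorem Q5713 : ∀ i, i < 5713 → P i := stepQ 5712 Q5712 (allL N5712 (tt N5712 F43920) (tt N7116 (iv F62478)) (tt N4534 F43921) (tt N6648 (iv F205982)) (tt N4571 F43922) (tt N6561 (iv F205980)) (tt N4533 (iv D9799)) (tt N6569 F205741) (tt N6560 F205742) (tt N4540 F43923))
theorem Q5714 : ∀ i, i < 5714 → P i := stepQ 5713 Q5713 (allL N5713 (tt N5713 F43924) (tt N4983 F43925) (tt N6569 F205738) (tt N5713 F43926) (tt N4572 F43927) (tt N5253 (iv F201565)) (tt N4552 F43928) (tt N4534 (iv D9800)) (tt N6549 F205739) (tt N4541 F43929))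
theorem Q5715 : ∀ i, i < 5715 → P i := stepQ 5714 Q5714 (allL N5714 (tt N4536 F43930) (tt N5714 F43931) (tt N6644 (iv F205989)) (tt N4535 (iv D9801)) (tt N6640 (iv F59672)) (tt N7119 D14228) (tt N7106 (iv F62346)) (tt N4553 F43932) (tt N6642 (iv F205999)) (tt N5239 (iv F202213)))
theorem Q5716 : ∀ i, i < 5716 → P i := stepQ 5715 Q5715 (allL N5715 (tt N4537 F43933) (tt N5715 F43934) (tt N4985 F43935) (tt N7119 (iv F62509)) (tt N4574 F43936) (tt N4535 (iv D9802)) (tt N7120 D14230) (tt N4554 F43937) (tt N5715 F43938) (tt N5208 (iv F201495)))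
theorem Q5717 : ∀ i, i < 5717 → P i := stepQ 5716 Q5716 (allL N5716 (tt N6644 (iv F205988)) (tt N5716 F43939) (tt N4536 (iv D9803)) (tt N4986 F43940) (tt N6642 (iv F59681)) (tt N7121 D14231) (tt N7108 (iv F62356)) (tt N4555 F43941) (tt N6640 F205759) (tt N7113 (iv F62471)))
theorem Q5718 : ∀ i, i < 5718 → P i := stepQ 5717 Q5717 (allL N5717 (tt N7119 (iv F62507)) (tt N4538 F43942) (tt N7121 (iv F62521)) (tt N4537 F43943) (tt N7122 D14233) (tt N4536 (iv D9804)) (tt N7123 D14234) (tt N4556 F43944) (tt N7124 D14235) (tt N7114 (iv F62475)))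
theorem Q5719 : ∀ i, i < 5719 → P i := stepQ 5718 Q5718 (allL N5718 (tt N6642 (iv F205998)) (tt N4539 F43945) (tt N6640 F205965) (tt N5718 F43946) (tt N6644 (iv F59687)) (tt N7124 (iv F62534)) (tt N7110 (iv F62363)) (tt N4557 F43947) (tt N4536 (iv D9805)) (tt N7125 D14236))
theorem Q5720 : ∀ i, i < 5720 → P i := stepQ 5719 Q5719 (allL N5719 (tt N7120 (iv F62515)) (tt N4540 F43948) (tt N4989 F43949) (tt N7123 (iv F62531)) (tt N4578 F43950) (tt N5243 (iv F201376)) (tt N4537 (iv D9806)) (tt N5226 (iv F201380)) (tt N5719 F43951) (tt N7116 (iv F62481)))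
theorem Q5721 : ∀ i, i < 5721 → P i := stepQ 5720 Q5720 (allL N5720 (tt N5720 F43952) (tt N7122 (iv F62527)) (tt N5720 F43953) (tt N4579 F43954) (tt N4538 (iv D9807)) (tt N6646 (iv F59695)) (tt N7126 D14238) (tt N4559 F43955) (tt N7127 D14239) (tt N7117 (iv F62486)))
theorem Q5722 : ∀ i, i < 5722 → P i := stepQ 5721 Q5721 (allL N5721 (tt N5721 F43956) (tt N7123 (iv F62530)) (tt N5721 F43957) (tt N4540 F43958) (tt N7126 (iv F62547)) (tt N6649 (iv F206235)) (tt N4538 (iv D9808)) (tt N6671 F206093) (tt N7128 D14241) (tt N6648 F206094))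
theorem Q5723 : ∀ i, i < 5723 → P i := stepQ 5722 Q5722 (allL N5722 (tt N5722 F43959) (tt N7124 (iv F62532)) (tt N5722 F43960) (tt N5722 F43961) (tt N7127 (iv F62550)) (tt N4539 F43962) (tt N7128 (iv F62559)) (tt N4561 F43963) (tt N4538 (iv D9809)) (tt N7129 D14242))
theorem Q5724 : ∀ i, i < 5724 → P i := stepQ 5723 Q5723 (allL N5723 (tt N5723 F43964) (tt N7125 (iv F62536)) (tt N5723 F43965) (tt N5723 F43966) (tt N6649 (iv F59706)) (tt N7129 (iv F62563)) (tt N7111 (iv F206252)) (tt N4562 F43967) (tt N7118 (iv F62498)) (tt N4539 (iv D9810)))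
theorem Q5725 : ∀ i, i < 5725 → P i := stepQ 5724 Q5724 (allL N5724 (tt N5724 F43968) (tt N5226 (iv F201377)) (tt N4541 F43969) (tt N6671 (iv F205985)) (tt N4583 F43970) (tt N5252 (iv F201383)) (tt N4563 F43971) (tt N4540 (iv D9811)) (tt N5724 F43972) (tt N6569 F205743))
theorem Q5726 : ∀ i, i < 5726 → P i := stepQ 5725 Q5725 (allL N5725 (tt N5725 F43985) (tt N5725 F195091) (tt N4544 F43986) (tt N4542 (iv D9814)) (tt N5725 F43987) (tt N6563 F205468) (tt N5725 F43988) (tt N6556 (iv F205644)) (tt N6633 (iv F205646)) (tt N5725 F43989))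
theorem Q5727 : ∀ i, i < 5727 → P i := stepQ 5726 Q5726 (allL N5726 (tt N5726 F43990) (tt N5726 F194799) (tt N4543 F43991) (tt N6563 F205466) (tt N5726 F43992) (tt N4542 (iv D9815)) (tt N6551 F205467) (tt N6547 (iv F205642)) (tt N5726 F43993) (tt N5726 F43994))
theorem Q5728 : ∀ i, i < 5728 → P i := stepQ 5727 Q5727 (allL N5727 (tt N5727 F43995) (tt N4990 F43996) (tt N6551 F205465) (tt N4546 F43997) (tt N5727 F43998) (tt N5727 F43999) (tt N4543 (iv D9816)) (tt N6550 (iv F205613)) (tt N5727 F44000) (tt N5727 F44001))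
theorem Q5729 : ∀ i, i < 5729 → P i := stepQ 5728 Q5728 (allL N5728 (tt N5728 F44017) (tt N5213 (iv F202017)) (tt N6563 (iv F205361)) (tt N4545 F44018) (tt N6581 F205246) (tt N4544 (iv D9820)) (tt N6570 F205247) (tt N6562 (iv F205363)) (tt N6650 (iv F205365)) (tt N5728 F44019))
theorem Q5730 : ∀ i, i < 5730 → P i := stepQ 5729 Q5729 (allL N5729 (tt N5729 F44020) (tt N5245 (iv F202905)) (tt N6633 (iv F205645)) (tt N4550 F44021) (tt N5729 F44022) (tt N6650 F205472) (tt N5729 F44023) (tt N6632 (iv F205652)) (tt N4544 (iv D9821)) (tt N7130 D14259))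
theorem Q5731 : ∀ i, i < 5731 → P i := stepQ 5730 Q5730 (allL N5730 (tt N5730 F44024) (tt N5214 (iv F201569)) (tt N4546 F44025) (tt N6570 F205245) (tt N4586 F44026) (tt N5730 F44027) (tt N4545 (iv D9822)) (tt N6568 (iv F205349)) (tt N4551 F44028) (tt N5730 F44029))
theorem Q5732 : ∀ i, i < 5732 → P i := stepQ 5731 Q5731 (allL N5731 (tt N5731 F44030) (tt N4991 F44031) (tt N6568 F205446) (tt N6550 (iv F205612)) (tt N4587 F44032) (tt N5731 F44033) (tt N6549 (iv F205615)) (tt N4546 (iv D9823)) (tt N4552 F44034) (tt N5731 F44035))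
theorem Q5733 : ∀ i, i < 5733 → P i := stepQ 5732 Q5732 (allL N5732 (tt N5248 F202414) (tt N5732 F44045) (tt N4547 (iv D9826)) (tt N4992 F44046) (tt N6651 (iv F59725)) (tt N7131 D14265) (tt N5732 F44047) (tt N7113 (iv F62470)) (tt N7132 D14266) (tt N4555 F44048))
theorem Q5734 : ∀ i, i < 5734 → P i := stepQ 5733 Q5733 (allL N5733 (tt N5221 (iv F202010)) (tt N4549 F44049) (tt N7131 (iv F62670)) (tt N4548 F44050) (tt N7133 D14267) (tt N4547 (iv D9827)) (tt N7134 D14268) (tt N7114 (iv F62474)) (tt N7135 D14269) (tt N4556 F44051))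
theorem Q5735 : ∀ i, i < 5735 → P i := stepQ 5734 Q5734 (allL N5734 (tt N5246 (iv F202894)) (tt N4550 F44052) (tt N7132 (iv F62674)) (tt N5245 (iv F202906)) (tt N6653 (iv F59733)) (tt N7135 (iv F62684)) (tt N5734 F44053) (tt N7115 (iv F62477)) (tt N4547 (iv D9828)) (tt N7136 D14270))
theorem Q5736 : ∀ i, i < 5736 → P i := stepQ 5735 Q5735 (allL N5735 (tt N5220 (iv F201567)) (tt N4551 F44054) (tt N4994 F44055) (tt N7134 (iv F62680)) (tt N4591 F44056) (tt N5735 F44057) (tt N4548 (iv D9829)) (tt N7137 D14271) (tt N5214 (iv F201570)) (tt N4558 F44058))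
theorem Q5737 : ∀ i, i < 5737 → P i := stepQ 5736 Q5736 (allL N5736 (tt N5736 F44059) (tt N7133 (iv F62676)) (tt N5736 F44060) (tt N4592 F44061) (tt N4549 (iv D9830)) (tt N6655 (iv F59744)) (tt N7138 D14272) (tt N7117 (iv F62485)) (tt N7139 D14273) (tt N4559 F44062))
theorem Q5738 : ∀ i, i < 5738 → P i := stepQ 5737 Q5737 (allL N5737 (tt N5737 F44063) (tt N7134 (iv F62679)) (tt N5737 F44064) (tt N4551 F44065) (tt N7138 (iv F62696)) (tt N5737 F44066) (tt N4549 (iv D9831)) (tt N6670 (iv F205623)) (tt N6669 F205470) (tt N4560 F44067))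
theorem Q5739 : ∀ i, i < 5739 → P i := stepQ 5738 Q5738 (allL N5738 (tt N5738 F44068) (tt N7135 (iv F62683)) (tt N5738 F44069) (tt N6650 F205473) (tt N7139 (iv F62700)) (tt N4550 F44070) (tt N6669 F205474) (tt N6647 (iv F205655)) (tt N4549 (iv D9832)) (tt N7140 D14276))
theorem Q5740 : ∀ i, i < 5740 → P i := stepQ 5739 Q5739 (allL N5739 (tt N5739 F44071) (tt N7136 (iv F62685)) (tt N5739 F44072) (tt N7130 (iv F62642)) (tt N6658 (iv F59758)) (tt N7140 (iv F62712)) (tt N5739 F44073) (tt N7118 (iv F62497)) (tt N4562 F44074) (tt N4550 (iv D9833)))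
theorem Q5741 : ∀ i, i < 5741 → P i := stepQ 5740 Q5740 (allL N5740 (tt N5740 F44075) (tt N7137 (iv F62688)) (tt N4552 F44076) (tt N6670 (iv F205622)) (tt N4596 F44077) (tt N5740 F44078) (tt N6569 (iv F205621)) (tt N4551 (iv D9834)) (tt N6568 F205448) (tt N4563 F44079))
theorem Q5742 : ∀ i, i < 5742 → P i := stepQ 5741 Q5741 (allL N5741 (tt N4556 F44083) (tt N5741 F44084) (tt N6665 F205755) (tt N4554 F44085) (tt N7141 D14280) (tt N4553 (iv D9836)) (tt N7142 D14281) (tt N7119 (iv F62510)) (tt N6662 F205756) (tt N5221 (iv F202011)))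
theorem Q5743 : ∀ i, i < 5743 → P i := stepQ 5742 Q5742 (allL N5742 (tt N4558 F44090) (tt N5742 F44091) (tt N5001 F44092) (tt N7142 (iv F62729)) (tt N4600 F44093) (tt N5742 F44094) (tt N4554 (iv D9838)) (tt N7143 D14284) (tt N5742 F44095) (tt N5220 (iv F201568)))
theorem Q5744 : ∀ i, i < 5744 → P i := stepQ 5743 Q5743 (allL N5743 (tt N6665 (iv F205628)) (tt N5743 F44096) (tt N4556 F44097) (tt N5002 F44098) (tt N7144 D14285) (tt N4555 (iv D9839)) (tt N7145 D14286) (tt N7121 (iv F62523)) (tt N6660 F205461) (tt N7131 (iv F62672)))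
theorem Q5745 : ∀ i, i < 5745 → P i := stepQ 5744 Q5744 (allL N5744 (tt N7141 (iv F62724)) (tt N4559 F44102) (tt N7144 (iv F62746)) (tt N4603 F44103) (tt N4556 (iv D9841)) (tt N6663 (iv F59792)) (tt N7146 D14290) (tt N7122 (iv F62529)) (tt N7147 D14291) (tt N7133 (iv F62678)))
theorem Q5746 : ∀ i, i < 5746 → P i := stepQ 5745 Q5745 (allL N5745 (tt N7142 (iv F62727)) (tt N4560 F44104) (tt N7145 (iv F62748)) (tt N4558 F44105) (tt N7146 (iv F62763)) (tt N5745 F44106) (tt N4556 (iv D9842)) (tt N7148 D14292) (tt N7149 D14293) (tt N7134 (iv F62682)))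
theorem Q5747 : ∀ i, i < 5747 → P i := stepQ 5746 Q5746 (allL N5746 (tt N6662 (iv F205637)) (tt N4561 F44107) (tt N6660 F205593) (tt N5746 F44108) (tt N7147 (iv F62765)) (tt N4557 F44109) (tt N7149 (iv F62772)) (tt N7124 (iv F62535)) (tt N4556 (iv D9843)) (tt N7150 D14294))
theorem Q5748 : ∀ i, i < 5748 → P i := stepQ 5747 Q5747 (allL N5747 (tt N6651 (iv F206000)) (tt N4562 F44110) (tt N5249 F205966) (tt N5747 F44111) (tt N5248 (iv F205991)) (tt N7150 (iv F62775)) (tt N5747 F44112) (tt N7125 (iv F62538)) (tt N7136 (iv F62687)) (tt N4557 (iv D9844)))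
theorem Q5749 : ∀ i, i < 5749 → P i := stepQ 5748 Q5748 (allL N5748 (tt N7143 (iv F62739)) (tt N4563 F44113) (tt N5007 F44114) (tt N7148 (iv F62767)) (tt N4607 F44115) (tt N5748 F44116) (tt N5226 (iv F201379)) (tt N4558 (iv D9845)) (tt N5748 F44117) (tt N7137 (iv F62692)))
theorem Q5750 : ∀ i, i < 5750 → P i := stepQ 5749 Q5749 (allL N5749 (tt N5749 F44118) (tt N7146 (iv F62761)) (tt N5749 F44119) (tt N4608 F44120) (tt N4560 F44121) (tt N7151 D14295) (tt N4559 (iv D9846)) (tt N7152 D14296) (tt N7153 D14297) (tt N7138 (iv F62697)))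
theorem Q5751 : ∀ i, i < 5751 → P i := stepQ 5750 Q5750 (allL N5750 (tt N5750 F44122) (tt N7147 (iv F62764)) (tt N5750 F44123) (tt N7154 D14298) (tt N4561 F44124) (tt N6668 (iv F59812)) (tt N7153 (iv F62787)) (tt N7127 (iv F62551)) (tt N4559 (iv D9847)) (tt N7155 D14299))
theorem Q5752 : ∀ i, i < 5752 → P i := stepQ 5751 Q5751 (allL N5751 (tt N5751 F44125) (tt N7148 (iv F62766)) (tt N5751 F44126) (tt N4563 F44127) (tt N7152 (iv F62783)) (tt N5751 F44128) (tt N6671 (iv F205986)) (tt N4560 (iv D9848)) (tt N7156 D14300) (tt N6670 F205744))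
theorem Q5753 : ∀ i, i < 5753 → P i := stepQ 5752 Q5752 (allL N5752 (tt N5752 F44129) (tt N7149 (iv F62769)) (tt N5752 F44130) (tt N5752 F44131) (tt N7153 (iv F62786)) (tt N5752 F44132) (tt N4561 F44133) (tt N7156 (iv F62798)) (tt N4560 (iv D9849)) (tt N7157 D14301))
theorem Q5754 : ∀ i, i < 5754 → P i := stepQ 5753 Q5753 (allL N5753 (tt N5753 F44134) (tt N7150 (iv F62773)) (tt N5753 F44135) (tt N5753 F44136) (tt N7155 (iv F62793)) (tt N4562 F44137) (tt N7157 (iv F62803)) (tt N7129 (iv F62564)) (tt N7140 (iv F62713)) (tt N4561 (iv D9850)))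
theorem Q5755 : ∀ i, i < 5755 → P i := stepQ 5754 Q5754 (allL N5754 (tt N5754 F44155) (tt N4834 (iv F201546)) (tt N5754 F44156) (tt N4565 F44157) (tt N6578 F205248) (tt N4564 (iv D9854)) (tt N6577 (iv F205353)) (tt N4584 F44158) (tt N7158 D14310) (tt N5754 F44159))
theorem Q5756 : ∀ i, i < 5756 → P i := stepQ 5755 Q5755 (allL N5755 (tt N5755 F44160) (tt N4835 (iv F201656)) (tt N5755 F44161) (tt N4570 F44162) (tt N5755 F44163) (tt N7158 (iv F62849)) (tt N5755 F44164) (tt N4585 F44165) (tt N4564 (iv D9855)) (tt N7159 D14311))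
theorem Q5757 : ∀ i, i < 5757 → P i := stepQ 5756 Q5756 (allL N5756 (tt N5756 F44166) (tt N5203 (iv F201381)) (tt N4566 F44167) (tt N6577 F205449) (tt N6560 (iv F205617)) (tt N5756 F44168) (tt N4565 (iv D9856)) (tt N6567 F205450) (tt N4571 F44169) (tt N5756 F44170))
theorem Q5758 : ∀ i, i < 5758 → P i := stepQ 5757 Q5757 (allL N5757 (tt N5757 F44171) (tt N5008 F44172) (tt N6567 F205447) (tt N5757 F44173) (tt N6549 (iv F205614)) (tt N5757 F44174) (tt N4587 F44175) (tt N4566 (iv D9857)) (tt N4572 F44176) (tt N5757 F44177))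
theorem Q5759 : ∀ i, i < 5759 → P i := stepQ 5758 Q5758 (allL N5758 (tt N5101 (iv F200761)) (tt N4657 F44188) (tt N4567 (iv D9860)) (tt N5009 F44189) (tt N6672 (iv F59838)) (tt N7160 D14317) (tt N5758 F44190) (tt N4588 F44191) (tt N7161 D14318) (tt N4575 F44192))
theorem Q5760 : ∀ i, i < 5760 → P i := stepQ 5759 Q5759 (allL N5759 (tt N5211 (iv F201451)) (tt N4569 F44193) (tt N7160 (iv F62884)) (tt N4568 F44194) (tt N7162 D14319) (tt N4567 (iv D9861)) (tt N7163 D14320) (tt N4589 F44195) (tt N7164 D14321) (tt N4576 F44196))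
theorem Q5761 : ∀ i, i < 5761 → P i := stepQ 5760 Q5760 (allL N5760 (tt N4844 (iv F201522)) (tt N4570 F44197) (tt N7161 (iv F62889)) (tt N4835 (iv F201657)) (tt N6674 (iv F59848)) (tt N7164 (iv F62900)) (tt N5760 F44198) (tt N4590 F44199) (tt N4567 (iv D9862)) (tt N7165 D14322))
theorem Q5762 : ∀ i, i < 5762 → P i := stepQ 5761 Q5761 (allL N5761 (tt N5210 F201007) (tt N4571 F44200) (tt N5011 F44201) (tt N7163 (iv F62896)) (tt N7116 (iv F62480)) (tt N5761 F44202) (tt N4568 (iv D9863)) (tt N7166 D14323) (tt N5203 (iv F201382)) (tt N4578 F44203))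
theorem Q5763 : ∀ i, i < 5763 → P i := stepQ 5762 Q5762 (allL N5762 (tt N5762 F44204) (tt N7162 (iv F62892)) (tt N4661 F44205) (tt N7117 (iv F62484)) (tt N4569 (iv D9864)) (tt N6676 (iv F59858)) (tt N7167 D14324) (tt N4592 F44206) (tt N7168 D14325) (tt N4579 F44207))
theorem Q5764 : ∀ i, i < 5764 → P i := stepQ 5763 Q5763 (allL N5763 (tt N5763 F44208) (tt N7163 (iv F62895)) (tt N4662 F44209) (tt N4571 F44210) (tt N7167 (iv F62913)) (tt N5763 F44211) (tt N4569 (iv D9865)) (tt N7169 D14326) (tt N7170 D14327) (tt N4580 F44212))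
theorem Q5765 : ∀ i, i < 5765 → P i := stepQ 5764 Q5764 (allL N5764 (tt N5764 F44213) (tt N7164 (iv F62899)) (tt N4663 F44214) (tt N7158 (iv F62848)) (tt N7168 (iv F62917)) (tt N4570 F44215) (tt N7170 (iv F62928)) (tt N4594 F44216) (tt N4569 (iv D9866)) (tt N7171 D14328))
theorem Q5766 : ∀ i, i < 5766 → P i := stepQ 5765 Q5765 (allL N5765 (tt N5765 F44217) (tt N7165 (iv F62902)) (tt N4664 F44218) (tt N7159 (iv F62853)) (tt N6679 (iv F59874)) (tt N7171 (iv F62931)) (tt N5765 F44219) (tt N4595 F44220) (tt N4582 F44221) (tt N4570 (iv D9867)))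
theorem Q5767 : ∀ i, i < 5767 → P i := stepQ 5766 Q5766 (allL N5766 (tt N5766 F44222) (tt N7166 (iv F62906)) (tt N4572 F44223) (tt N7169 (iv F62921)) (tt N6569 (iv F205620)) (tt N5766 F44224) (tt N4596 F44225) (tt N4571 (iv D9868)) (tt N6567 F205451) (tt N4583 F44226))
theorem Q5768 : ∀ i, i < 5768 → P i := stepQ 5767 Q5767 (allL N5767 (tt N4575 F44227) (tt N7172 D14329) (tt N4573 (iv D9869)) (tt N5015 F44228) (tt N6681 (iv F59886)) (tt N7173 D14330) (tt N5767 F44229) (tt N4597 F44230) (tt N7174 D14331) (tt N5101 (iv F200762)))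
theorem Q5769 : ∀ i, i < 5769 → P i := stepQ 5768 Q5768 (allL N5768 (tt N4576 F44231) (tt N5768 F44232) (tt N7173 (iv F62940)) (tt N4574 F44233) (tt N7175 D14332) (tt N4573 (iv D9870)) (tt N7176 D14333) (tt N4598 F44234) (tt N7177 D14334) (tt N5211 (iv F201452)))
theorem Q5770 : ∀ i, i < 5770 → P i := stepQ 5769 Q5769 (allL N5769 (tt N4577 F44235) (tt N5769 F44236) (tt N7174 (iv F62944)) (tt N5769 F44237) (tt N6683 (iv F59895)) (tt N7177 (iv F62957)) (tt N5769 F44238) (tt N4599 F44239) (tt N4573 (iv D9871)) (tt N7178 D14335))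
theorem Q5771 : ∀ i, i < 5771 → P i := stepQ 5770 Q5770 (allL N5770 (tt N4578 F44240) (tt N5770 F44241) (tt N5018 F44242) (tt N7176 (iv F62952)) (tt N7120 (iv F62518)) (tt N5770 F44243) (tt N4574 (iv D9872)) (tt N7179 D14336) (tt N5770 F44244) (tt N5210 F201006))
theorem Q5772 : ∀ i, i < 5772 → P i := stepQ 5771 Q5771 (allL N5771 (tt N7173 (iv F62939)) (tt N4670 F44245) (tt N4576 F44246) (tt N5019 F44247) (tt N7180 D14337) (tt N4575 (iv D9873)) (tt N7181 D14338) (tt N4601 F44248) (tt N7182 D14339) (tt N7160 (iv F62887)))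
theorem Q5773 : ∀ i, i < 5773 → P i := stepQ 5772 Q5772 (allL N5772 (tt N7174 (iv F62943)) (tt N4671 F44249) (tt N4577 F44250) (tt N7183 D14340) (tt N6686 (iv F59908)) (tt N7182 (iv F62979)) (tt N5772 F44251) (tt N4602 F44252) (tt N4575 (iv D9874)) (tt N7184 D14341))
theorem Q5774 : ∀ i, i < 5774 → P i := stepQ 5773 Q5773 (allL N5773 (tt N7175 (iv F62947)) (tt N4579 F44253) (tt N7180 (iv F62971)) (tt N7122 (iv F62528)) (tt N4576 (iv D9875)) (tt N6687 (iv F59912)) (tt N7185 D14342) (tt N4603 F44254) (tt N7186 D14343) (tt N7162 (iv F62894)))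
theorem Q5775 : ∀ i, i < 5775 → P i := stepQ 5774 Q5774 (allL N5774 (tt N7176 (iv F62950)) (tt N4580 F44255) (tt N7181 (iv F62974)) (tt N4578 F44256) (tt N7185 (iv F62991)) (tt N5774 F44257) (tt N4576 (iv D9876)) (tt N7187 D14344) (tt N7188 D14345) (tt N7163 (iv F62898)))
theorem Q5776 : ∀ i, i < 5776 → P i := stepQ 5775 Q5775 (allL N5775 (tt N7177 (iv F62954)) (tt N4581 F44258) (tt N7182 (iv F62978)) (tt N5775 F44259) (tt N7186 (iv F62993)) (tt N4577 F44260) (tt N7188 (iv F63002)) (tt N4605 F44261) (tt N4576 (iv D9877)) (tt N7189 D14346))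
theorem Q5777 : ∀ i, i < 5777 → P i := stepQ 5776 Q5776 (allL N5776 (tt N7178 (iv F62959)) (tt N4582 F44262) (tt N7184 (iv F62987)) (tt N5776 F44263) (tt N6690 (iv F59921)) (tt N7189 (iv F63005)) (tt N5776 F44264) (tt N4606 F44265) (tt N7165 (iv F62905)) (tt N4577 (iv D9878)))
theorem Q5778 : ∀ i, i < 5778 → P i := stepQ 5777 Q5777 (allL N5777 (tt N7179 (iv F62964)) (tt N4583 F44266) (tt N5025 F44267) (tt N7187 (iv F62996)) (tt N5226 (iv F201378)) (tt N5777 F44268) (tt N4607 F44269) (tt N4578 (iv D9879)) (tt N5777 F44270) (tt N7166 (iv F62910)))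
theorem Q5779 : ∀ i, i < 5779 → P i := stepQ 5778 Q5778 (allL N5778 (tt N5778 F44271) (tt N7185 (iv F62990)) (tt N4677 F44272) (tt N7126 (iv F62546)) (tt N4580 F44273) (tt N7190 D14347) (tt N4579 (iv D9880)) (tt N7191 D14348) (tt N7192 D14349) (tt N7167 (iv F62914)))
theorem Q5780 : ∀ i, i < 5780 → P i := stepQ 5779 Q5779 (allL N5779 (tt N5779 F44274) (tt N7186 (iv F62992)) (tt N4678 F44275) (tt N7193 D14350) (tt N4581 F44276) (tt N6693 (iv F59934)) (tt N7192 (iv F63017)) (tt N4609 F44277) (tt N4579 (iv D9881)) (tt N7194 D14351))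
theorem Q5781 : ∀ i, i < 5781 → P i := stepQ 5780 Q5780 (allL N5780 (tt N5780 F44278) (tt N7187 (iv F62995)) (tt N4679 F44279) (tt N4583 F44280) (tt N7191 (iv F63012)) (tt N5780 F44281) (tt N4610 F44282) (tt N4580 (iv D9882)) (tt N7195 D14352) (tt N7169 (iv F62924)))
theorem Q5782 : ∀ i, i < 5782 → P i := stepQ 5781 Q5781 (allL N5781 (tt N5781 F44283) (tt N7188 (iv F62999)) (tt N4680 F44284) (tt N5781 F44285) (tt N7192 (iv F63016)) (tt N5781 F44286) (tt N4581 F44287) (tt N7195 (iv F63030)) (tt N4580 (iv D9883)) (tt N7196 D14353))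
theorem Q5783 : ∀ i, i < 5783 → P i := stepQ 5782 Q5782 (allL N5782 (tt N5782 F44288) (tt N7189 (iv F63003)) (tt N4681 F44289) (tt N5782 F44290) (tt N7194 (iv F63023)) (tt N4582 F44291) (tt N7196 (iv F63035)) (tt N4612 F44292) (tt N7171 (iv F62933)) (tt N4581 (iv D9884)))
theorem Q5784 : ∀ i, i < 5784 → P i := stepQ 5783 Q5783 (allL N5783 (tt N5783 F44320) (tt N4858 (iv F202337)) (tt N5783 F44321) (tt N6581 (iv F205177)) (tt N4584 (iv D9891)) (tt N5783 F44322) (tt N6595 F205094) (tt N6578 (iv F205181)) (tt N7197 D14366) (tt N5783 F44323))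
theorem Q5785 : ∀ i, i < 5785 → P i := stepQ 5784 Q5784 (allL N5784 (tt N5784 F44324) (tt N4859 (iv F202271)) (tt N5784 F44325) (tt N4586 F44326) (tt N6595 F205093) (tt N4614 F44327) (tt N4584 (iv D9892)) (tt N6593 (iv F205160)) (tt N7198 D14368) (tt N5784 F44328))
theorem Q5786 : ∀ i, i < 5786 → P i := stepQ 5785 Q5785 (allL N5785 (tt N5785 F44329) (tt N4860 (iv F202312)) (tt N5785 F44330) (tt N4594 F44331) (tt N7197 (iv F63090)) (tt N4585 F44332) (tt N7198 (iv F63101)) (tt N7158 (iv F62850)) (tt N4584 (iv D9893)) (tt N7199 D14369))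
theorem Q5787 : ∀ i, i < 5787 → P i := stepQ 5786 Q5786 (allL N5786 (tt N5786 F44333) (tt N4861 (iv F202372)) (tt N5786 F44334) (tt N4595 F44335) (tt N5786 F44336) (tt N7199 (iv F63105)) (tt N4616 F44337) (tt N7159 (iv F62856)) (tt N5786 F44338) (tt N4585 (iv D9894)))
theorem Q5788 : ∀ i, i < 5788 → P i := stepQ 5787 Q5787 (allL N5787 (tt N5787 F44339) (tt N5215 F201715) (tt N4587 F44340) (tt N6593 F205239) (tt N6568 (iv F205348)) (tt N4617 F44341) (tt N6567 (iv F205351)) (tt N4586 (iv D9895)) (tt N4596 F44342) (tt N5787 F44343))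
theorem Q5789 : ∀ i, i < 5789 → P i := stepQ 5788 Q5788 (allL N5788 (tt N5127 (iv F201447)) (tt N4686 F44360) (tt N4589 F44361) (tt N5027 F44362) (tt N7200 D14378) (tt N4588 (iv D9900)) (tt N7201 D14379) (tt N7160 (iv F62886)) (tt N7202 D14380) (tt N4601 F44363))
theorem Q5790 : ∀ i, i < 5790 → P i := stepQ 5789 Q5789 (allL N5789 (tt N4709 (iv F201508)) (tt N4687 F44364) (tt N4590 F44365) (tt N4700 (iv F201507)) (tt N6698 (iv F59975)) (tt N7202 (iv F63149)) (tt N4619 F44366) (tt N7161 (iv F62891)) (tt N4588 (iv D9901)) (tt N7203 D14382))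
theorem Q5791 : ∀ i, i < 5791 → P i := stepQ 5790 Q5790 (allL N5790 (tt N5224 (iv F202258)) (tt N4592 F44367) (tt N7200 (iv F63140)) (tt N7133 (iv F62677)) (tt N4589 (iv D9902)) (tt N6699 (iv F59978)) (tt N7204 D14383) (tt N7162 (iv F62893)) (tt N7205 D14384) (tt N4603 F44368))
theorem Q5792 : ∀ i, i < 5792 → P i := stepQ 5791 Q5791 (allL N5791 (tt N5223 (iv F202185)) (tt N4593 F44369) (tt N7201 (iv F63143)) (tt N4591 F44370) (tt N7204 (iv F63158)) (tt N4621 F44371) (tt N4589 (iv D9903)) (tt N7206 D14385) (tt N7207 D14386) (tt N4604 F44372))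
theorem Q5793 : ∀ i, i < 5793 → P i := stepQ 5792 Q5792 (allL N5792 (tt N4872 (iv F202248)) (tt N4594 F44373) (tt N7202 (iv F63148)) (tt N4860 (iv F202313)) (tt N7205 (iv F63161)) (tt N4590 F44374) (tt N7207 (iv F63168)) (tt N7164 (iv F62901)) (tt N4589 (iv D9904)) (tt N7208 D14387))
theorem Q5794 : ∀ i, i < 5794 → P i := stepQ 5793 Q5793 (allL N5793 (tt N4875 (iv F202351)) (tt N4595 F44375) (tt N7203 (iv F63154)) (tt N4861 (iv F202373)) (tt N6702 (iv F59989)) (tt N7208 (iv F63170)) (tt N4623 F44376) (tt N7165 (iv F62904)) (tt N4606 F44377) (tt N4590 (iv D9905)))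
theorem Q5795 : ∀ i, i < 5795 → P i := stepQ 5794 Q5794 (allL N5794 (tt N5222 (iv F201475)) (tt N4596 F44378) (tt N5030 F44379) (tt N7206 (iv F63163)) (tt N7137 (iv F62690)) (tt N4624 F44380) (tt N7166 (iv F62909)) (tt N4591 (iv D9906)) (tt N5215 (iv F201632)) (tt N4607 F44381))
theorem Q5796 : ∀ i, i < 5796 → P i := stepQ 5795 Q5795 (allL N5795 (tt N5795 F44382) (tt N7204 (iv F63157)) (tt N4693 F44383) (tt N7138 (iv F62695)) (tt N4593 F44384) (tt N7209 D14388) (tt N4592 (iv D9907)) (tt N7210 D14389) (tt N7211 D14390) (tt N4608 F44385))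
theorem Q5797 : ∀ i, i < 5797 → P i := stepQ 5796 Q5796 (allL N5796 (tt N5796 F44386) (tt N7205 (iv F63160)) (tt N4694 F44387) (tt N7212 D14391) (tt N4594 F44388) (tt N6705 (iv F60004)) (tt N7211 (iv F63183)) (tt N7168 (iv F62918)) (tt N4592 (iv D9908)) (tt N7213 D14392))
theorem Q5798 : ∀ i, i < 5798 → P i := stepQ 5797 Q5797 (allL N5797 (tt N5797 F44389) (tt N7206 (iv F63162)) (tt N4695 F44390) (tt N4596 F44391) (tt N7210 (iv F63178)) (tt N4627 F44392) (tt N7169 (iv F62923)) (tt N4593 (iv D9909)) (tt N7214 D14393) (tt N4610 F44393))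
theorem Q5799 : ∀ i, i < 5799 → P i := stepQ 5798 Q5798 (allL N5798 (tt N5798 F44394) (tt N7207 (iv F63166)) (tt N4696 F44395) (tt N7198 (iv F63099)) (tt N7211 (iv F63182)) (tt N4628 F44396) (tt N4594 F44397) (tt N7214 (iv F63192)) (tt N4593 (iv D9910)) (tt N7215 D14394))
theorem Q5800 : ∀ i, i < 5800 → P i := stepQ 5799 Q5799 (allL N5799 (tt N5799 F44398) (tt N7208 (iv F63169)) (tt N4697 F44399) (tt N7199 (iv F63104)) (tt N7213 (iv F63187)) (tt N4595 F44400) (tt N7215 (iv F63196)) (tt N7171 (iv F62932)) (tt N4612 F44401) (tt N4594 (iv D9911)))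
theorem Q5801 : ∀ i, i < 5801 → P i := stepQ 5800 Q5800 (allL N5800 (tt N4698 F44402) (tt N4597 (iv D9912)) (tt N5800 F44403) (tt N5033 F44404) (tt N6709 (iv F60023)) (tt N7216 D14395) (tt N4630 F44405) (tt N7172 (iv F62938)) (tt N7217 D14396) (tt N5043 F201117))
theorem Q5802 : ∀ i, i < 5802 → P i := stepQ 5801 Q5801 (allL N5801 (tt N4601 F44406) (tt N7216 (iv F63199)) (tt N4598 F44407) (tt N5034 F44408) (tt N7218 D14397) (tt N4597 (iv D9913)) (tt N7219 D14398) (tt N7173 (iv F62942)) (tt N7220 D14399) (tt N5127 (iv F201448)))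
theorem Q5803 : ∀ i, i < 5803 → P i := stepQ 5802 Q5802 (allL N5802 (tt N4602 F44409) (tt N7217 (iv F63203)) (tt N4599 F44410) (tt N7221 D14400) (tt N6711 (iv F60030)) (tt N7220 (iv F63214)) (tt N4632 F44411) (tt N7174 (iv F62946)) (tt N4597 (iv D9914)) (tt N7222 D14401))
theorem Q5804 : ∀ i, i < 5804 → P i := stepQ 5803 Q5803 (allL N5803 (tt N4603 F44412) (tt N5803 F44413) (tt N7218 (iv F63207)) (tt N7141 (iv F62726)) (tt N4598 (iv D9915)) (tt N6712 (iv F60034)) (tt N7223 D14402) (tt N7175 (iv F62949)) (tt N7224 D14403) (tt N5224 (iv F202259)))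
theorem Q5805 : ∀ i, i < 5805 → P i := stepQ 5804 Q5804 (allL N5804 (tt N4604 F44414) (tt N5804 F44415) (tt N7219 (iv F63209)) (tt N4600 F44416) (tt N7223 (iv F63224)) (tt N4634 F44417) (tt N4598 (iv D9916)) (tt N7225 D14404) (tt N7226 D14405) (tt N5223 (iv F202186)))
theorem Q5806 : ∀ i, i < 5806 → P i := stepQ 5805 Q5805 (allL N5805 (tt N4605 F44418) (tt N5805 F44419) (tt N7220 (iv F63213)) (tt N5805 F44420) (tt N7224 (iv F63227)) (tt N4599 F44421) (tt N7226 (iv F63236)) (tt N7177 (iv F62958)) (tt N4598 (iv D9917)) (tt N7227 D14406))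
theorem Q5807 : ∀ i, i < 5807 → P i := stepQ 5806 Q5806 (allL N5806 (tt N4606 F44422) (tt N5806 F44423) (tt N7222 (iv F63220)) (tt N5806 F44424) (tt N6715 (iv F60044)) (tt N7227 (iv F63240)) (tt N4636 F44425) (tt N7178 (iv F62963)) (tt N4875 (iv F202352)) (tt N4599 (iv D9918)))
theorem Q5808 : ∀ i, i < 5808 → P i := stepQ 5807 Q5807 (allL N5807 (tt N4607 F44426) (tt N5807 F44427) (tt N5039 F44428) (tt N7225 (iv F63230)) (tt N7143 (iv F62742)) (tt N4637 F44429) (tt N7179 (iv F62968)) (tt N4600 (iv D9919)) (tt N5807 F44430) (tt N5222 (iv F201477)))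
theorem Q5809 : ∀ i, i < 5809 → P i := stepQ 5808 Q5808 (allL N5808 (tt N7218 (iv F63206)) (tt N4706 F44431) (tt N4603 F44432) (tt N7228 D14407) (tt N4601 (iv D9920)) (tt N6717 (iv F60052)) (tt N7229 D14408) (tt N7180 (iv F62972)) (tt N7230 D14409) (tt N7200 (iv F63141)))
theorem Q5810 : ∀ i, i < 5810 → P i := stepQ 5809 Q5809 (allL N5809 (tt N7219 (iv F63208)) (tt N4707 F44433) (tt N4604 F44434) (tt N5041 F44435) (tt N7229 (iv F63245)) (tt N4639 F44436) (tt N4601 (iv D9921)) (tt N7231 D14410) (tt N7232 D14411) (tt N7201 (iv F63146)))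
theorem Q5811 : ∀ i, i < 5811 → P i := stepQ 5810 Q5810 (allL N5810 (tt N7220 (iv F63212)) (tt N4708 F44437) (tt N4605 F44438) (tt N7233 D14412) (tt N7230 (iv F63248)) (tt N4602 F44439) (tt N7232 (iv F63256)) (tt N7182 (iv F62980)) (tt N4601 (iv D9922)) (tt N7234 D14413))
theorem Q5812 : ∀ i, i < 5812 → P i := stepQ 5811 Q5811 (allL N5811 (tt N7221 (iv F63215)) (tt N4709 F44440) (tt N5811 F44441) (tt N4602 (iv D9923)) (tt N7235 D14414) (tt N7233 (iv F63259)) (tt N4641 F44442) (tt N7183 (iv F62984)) (tt N5043 F44443) (tt N7236 D14415))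
theorem Q5813 : ∀ i, i < 5813 → P i := stepQ 5812 Q5812 (allL N5812 (tt N7222 (iv F63219)) (tt N4710 F44444) (tt N4606 F44445) (tt N7236 (iv F63270)) (tt N6721 (iv F60065)) (tt N7234 (iv F63263)) (tt N4642 F44446) (tt N7184 (iv F62989)) (tt N7203 (iv F63156)) (tt N4602 (iv D9924)))
theorem Q5814 : ∀ i, i < 5814 → P i := stepQ 5813 Q5813 (allL N5813 (tt N7223 (iv F63222)) (tt N4608 F44447) (tt N7229 (iv F63244)) (tt N7146 (iv F62762)) (tt N4604 F44448) (tt N7237 D14416) (tt N4603 (iv D9925)) (tt N7238 D14417) (tt N7239 D14418) (tt N7204 (iv F63159)))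
theorem Q5815 : ∀ i, i < 5815 → P i := stepQ 5814 Q5814 (allL N5814 (tt N7224 (iv F63225)) (tt N4609 F44449) (tt N7230 (iv F63247)) (tt N7240 D14419) (tt N4605 F44450) (tt N6723 (iv F60071)) (tt N7239 (iv F63278)) (tt N7186 (iv F62994)) (tt N4603 (iv D9926)) (tt N7241 D14420))
theorem Q5816 : ∀ i, i < 5816 → P i := stepQ 5815 Q5815 (allL N5815 (tt N7225 (iv F63228)) (tt N4610 F44451) (tt N7231 (iv F63250)) (tt N4607 F44452) (tt N7238 (iv F63275)) (tt N4645 F44453) (tt N7187 (iv F62998)) (tt N4604 (iv D9927)) (tt N7242 D14421) (tt N7206 (iv F63165)))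
theorem Q5817 : ∀ i, i < 5817 → P i := stepQ 5816 Q5816 (allL N5816 (tt N7226 (iv F63232)) (tt N4611 F44454) (tt N7232 (iv F63254)) (tt N5816 F44455) (tt N7239 (iv F63277)) (tt N4646 F44456) (tt N4605 F44457) (tt N7242 (iv F63286)) (tt N4604 (iv D9928)) (tt N7243 D14422))
theorem Q5818 : ∀ i, i < 5818 → P i := stepQ 5817 Q5817 (allL N5817 (tt N7227 (iv F63237)) (tt N4612 F44458) (tt N7234 (iv F63262)) (tt N5817 F44459) (tt N7241 (iv F63282)) (tt N4606 F44460) (tt N7243 (iv F63290)) (tt N7189 (iv F63006)) (tt N7208 (iv F63171)) (tt N4605 (iv D9929)))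
theorem Q5819 : ∀ i, i < 5819 → P i := stepQ 5818 Q5818 (allL N5818 (tt N5818 F44461) (tt N7237 (iv F63272)) (tt N4716 F44462) (tt N7151 (iv F62778)) (tt N4648 F44463) (tt N4608 (iv D9930)) (tt N6727 (iv F60083)) (tt N7244 D14423) (tt N7245 D14424) (tt N7209 (iv F63175)))
theorem Q5820 : ∀ i, i < 5820 → P i := stepQ 5819 Q5819 (allL N5819 (tt N5819 F44464) (tt N7238 (iv F63274)) (tt N4717 F44465) (tt N7152 (iv F62782)) (tt N4610 F44466) (tt N7244 (iv F63294)) (tt N7191 (iv F63013)) (tt N4608 (iv D9931)) (tt N7246 D14425) (tt N7210 (iv F63179)))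
theorem Q5821 : ∀ i, i < 5821 → P i := stepQ 5820 Q5820 (allL N5820 (tt N5820 F44467) (tt N7239 (iv F63276)) (tt N4718 F44468) (tt N7247 D14426) (tt N4611 F44469) (tt N7245 (iv F63298)) (tt N4609 F44470) (tt N7246 (iv F63302)) (tt N4608 (iv D9932)) (tt N7248 D14427))
theorem Q5822 : ∀ i, i < 5822 → P i := stepQ 5821 Q5821 (allL N5821 (tt N5821 F44471) (tt N7240 (iv F63279)) (tt N7249 D14428) (tt N4609 (iv D9933)) (tt N5821 F44472) (tt N6730 (iv F60092)) (tt N7247 (iv F63305)) (tt N7193 (iv F63020)) (tt N7154 (iv F62790)) (tt N7250 D14429))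
theorem Q5823 : ∀ i, i < 5823 → P i := stepQ 5822 Q5822 (allL N5822 (tt N5822 F44473) (tt N7241 (iv F63281)) (tt N4720 F44474) (tt N7250 (iv F63314)) (tt N4612 F44475) (tt N6731 (iv F60096)) (tt N7248 (iv F63309)) (tt N7194 (iv F63024)) (tt N7213 (iv F63188)) (tt N4609 (iv D9934)))
theorem Q5824 : ∀ i, i < 5824 → P i := stepQ 5823 Q5823 (allL N5823 (tt N5823 F44476) (tt N7242 (iv F63283)) (tt N4721 F44477) (tt N5823 F44478) (tt N7246 (iv F63301)) (tt N4653 F44479) (tt N7195 (iv F63029)) (tt N4611 F44480) (tt N4610 (iv D9935)) (tt N7251 D14430))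
theorem Q5825 : ∀ i, i < 5825 → P i := stepQ 5824 Q5824 (allL N5824 (tt N5824 F44481) (tt N7243 (iv F63287)) (tt N4722 F44482) (tt N5824 F44483) (tt N7248 (iv F63308)) (tt N4654 F44484) (tt N4612 F44485) (tt N7251 (iv F63320)) (tt N7215 (iv F63197)) (tt N4611 (iv D9936)))
theorem Q5826 : ∀ i, i < 5826 → P i := stepQ 5825 Q5825 (allL N5825 (tt N5825 F44539) (tt N4891 (iv F203142)) (tt N5825 F44540) (tt N5825 F44541) (tt N4614 F44542) (tt N6617 F204988) (tt N4613 (iv D9948)) (tt N6616 (iv F205020)) (tt N7252 D14451) (tt N5825 F44543))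
theorem Q5827 : ∀ i, i < 5827 → P i := stepQ 5826 Q5826 (allL N5826 (tt N5826 F44544) (tt N4892 (iv F203268)) (tt N5826 F44545) (tt N7253 D14452) (tt N4615 F44546) (tt N5826 F44547) (tt N7252 (iv F63420)) (tt N5826 F44548) (tt N4613 (iv D9949)) (tt N7254 D14453))
theorem Q5828 : ∀ i, i < 5828 → P i := stepQ 5827 Q5827 (allL N5827 (tt N5827 F44549) (tt N4893 (iv F202294)) (tt N5827 F44550) (tt N4617 F44551) (tt N6616 F205083) (tt N6593 (iv F205159)) (tt N5827 F44552) (tt N4614 (iv D9950)) (tt N7255 D14454) (tt N5827 F44553))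
theorem Q5829 : ∀ i, i < 5829 → P i := stepQ 5828 Q5828 (allL N5828 (tt N5828 F44554) (tt N4894 (iv F203092)) (tt N5828 F44555) (tt N4628 F44556) (tt N7252 (iv F63419)) (tt N7198 (iv F63100)) (tt N4615 F44557) (tt N7255 (iv F63436)) (tt N4614 (iv D9951)) (tt N7256 D14455))
theorem Q5830 : ∀ i, i < 5830 → P i := stepQ 5829 Q5829 (allL N5829 (tt N5829 F44558) (tt N4895 (iv F203266)) (tt N5829 F44559) (tt N4629 F44560) (tt N7254 (iv F63428)) (tt N4616 F44561) (tt N7256 (iv F63440)) (tt N5829 F44562) (tt N5829 F44563) (tt N4615 (iv D9952)))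
theorem Q5831 : ∀ i, i < 5831 → P i := stepQ 5830 Q5830 (allL N5830 (tt N5162 (iv F202370)) (tt N4731 F44600) (tt N4620 F44601) (tt N7257 D14468) (tt N4618 (iv D9961)) (tt N6734 (iv F60150)) (tt N7258 D14469) (tt N5830 F44602) (tt N7259 D14470) (tt N4638 F44603))
theorem Q5832 : ∀ i, i < 5832 → P i := stepQ 5831 Q5831 (allL N5831 (tt N5161 (iv F202273)) (tt N4732 F44604) (tt N4621 F44605) (tt N5052 F44606) (tt N7258 (iv F63500)) (tt N7201 (iv F63145)) (tt N4618 (iv D9962)) (tt N7260 D14471) (tt N7261 D14472) (tt N4639 F44607))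
theorem Q5833 : ∀ i, i < 5833 → P i := stepQ 5832 Q5832 (allL N5832 (tt N4763 (iv F202345)) (tt N4733 F44608) (tt N4622 F44609) (tt N4751 (iv F202341)) (tt N7259 (iv F63504)) (tt N4619 F44610) (tt N7261 (iv F63513)) (tt N5832 F44611) (tt N4618 (iv D9963)) (tt N7262 D14474))
theorem Q5834 : ∀ i, i < 5834 → P i := stepQ 5833 Q5833 (allL N5833 (tt N4766 (iv F202348)) (tt N4735 F44615) (tt N4623 F44616) (tt N4752 (iv F202343)) (tt N6738 (iv F60167)) (tt N7262 (iv F63520)) (tt N7203 (iv F63155)) (tt N5833 F44617) (tt N4642 F44618) (tt N4619 (iv D9965)))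
theorem Q5835 : ∀ i, i < 5835 → P i := stepQ 5834 Q5834 (allL N5834 (tt N5229 (iv F203084)) (tt N4625 F44619) (tt N7258 (iv F63499)) (tt N5834 F44620) (tt N4621 F44621) (tt N7263 D14477) (tt N4620 (iv D9966)) (tt N7264 D14478) (tt N7265 D14479) (tt N4643 F44622))
theorem Q5836 : ∀ i, i < 5836 → P i := stepQ 5835 Q5835 (allL N5835 (tt N4911 (iv F203245)) (tt N4626 F44623) (tt N7259 (iv F63503)) (tt N7266 D14480) (tt N4622 F44624) (tt N6740 (iv F60176)) (tt N7265 (iv F63539)) (tt N5835 F44625) (tt N4620 (iv D9967)) (tt N7267 D14481))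
theorem Q5837 : ∀ i, i < 5837 → P i := stepQ 5836 Q5836 (allL N5836 (tt N5228 (iv F202183)) (tt N4627 F44626) (tt N7260 (iv F63507)) (tt N4624 F44627) (tt N7264 (iv F63534)) (tt N7206 (iv F63164)) (tt N5836 F44628) (tt N4621 (iv D9968)) (tt N7268 D14482) (tt N4645 F44629))
theorem Q5838 : ∀ i, i < 5838 → P i := stepQ 5837 Q5837 (allL N5837 (tt N4909 (iv F203087)) (tt N4628 F44630) (tt N7261 (iv F63512)) (tt N4894 (iv F203093)) (tt N7265 (iv F63538)) (tt N7207 (iv F63167)) (tt N4622 F44631) (tt N7268 (iv F63549)) (tt N4621 (iv D9969)) (tt N7269 D14483))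
theorem Q5839 : ∀ i, i < 5839 → P i := stepQ 5838 Q5838 (allL N5838 (tt N4912 (iv F203246)) (tt N4629 F44632) (tt N7262 (iv F63519)) (tt N4895 (iv F203267)) (tt N7267 (iv F63544)) (tt N4623 F44633) (tt N7269 (iv F63551)) (tt N5838 F44634) (tt N4647 F44635) (tt N4622 (iv D9970)))
theorem Q5840 : ∀ i, i < 5840 → P i := stepQ 5839 Q5839 (allL N5839 (tt N5839 F44636) (tt N7263 (iv F63529)) (tt N4741 F44637) (tt N5839 F44638) (tt N7209 (iv F63174)) (tt N4625 (iv D9971)) (tt N6744 (iv F60193)) (tt N7270 D14484) (tt N7271 D14485) (tt N4648 F44639))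
theorem Q5841 : ∀ i, i < 5841 → P i := stepQ 5840 Q5840 (allL N5840 (tt N5840 F44640) (tt N7264 (iv F63532)) (tt N4742 F44641) (tt N5840 F44642) (tt N4627 F44643) (tt N7270 (iv F63556)) (tt N5840 F44644) (tt N4625 (iv D9972)) (tt N7272 D14486) (tt N4649 F44645))
theorem Q5842 : ∀ i, i < 5842 → P i := stepQ 5841 Q5841 (allL N5841 (tt N5841 F44646) (tt N7265 (iv F63537)) (tt N4743 F44647) (tt N7273 D14487) (tt N4628 F44648) (tt N7271 (iv F63560)) (tt N4626 F44649) (tt N7272 (iv F63565)) (tt N4625 (iv D9973)) (tt N7274 D14488))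
theorem Q5843 : ∀ i, i < 5843 → P i := stepQ 5842 Q5842 (allL N5842 (tt N5842 F44650) (tt N7266 (iv F63540)) (tt N7275 D14489) (tt N4626 (iv D9974)) (tt N7253 (iv F63422)) (tt N6747 (iv F60207)) (tt N7273 (iv F63567)) (tt N5842 F44651) (tt N5842 F44652) (tt N7276 D14490))
theorem Q5844 : ∀ i, i < 5844 → P i := stepQ 5843 Q5843 (allL N5843 (tt N5843 F44653) (tt N7267 (iv F63543)) (tt N4745 F44654) (tt N7276 (iv F63579)) (tt N4629 F44655) (tt N6748 (iv F60213)) (tt N7274 (iv F63572)) (tt N5843 F44656) (tt N4652 F44657) (tt N4626 (iv D9975)))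
theorem Q5845 : ∀ i, i < 5845 → P i := stepQ 5844 Q5844 (allL N5844 (tt N5844 F44658) (tt N7268 (iv F63547)) (tt N4746 F44659) (tt N7255 (iv F63434)) (tt N7272 (iv F63563)) (tt N7214 (iv F63191)) (tt N5844 F44660) (tt N4628 F44661) (tt N4627 (iv D9976)) (tt N7277 D14491))
theorem Q5846 : ∀ i, i < 5846 → P i := stepQ 5845 Q5845 (allL N5845 (tt N5845 F44662) (tt N7269 (iv F63550)) (tt N4747 F44663) (tt N7256 (iv F63439)) (tt N7274 (iv F63571)) (tt N7215 (iv F63195)) (tt N4629 F44664) (tt N7277 (iv F63584)) (tt N4654 F44665) (tt N4628 (iv D9977)))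
theorem Q5847 : ∀ i, i < 5847 → P i := stepQ 5846 Q5846 (allL N5846 (tt N4748 F44666) (tt N4631 F44667) (tt N5846 F44668) (tt N5057 F44669) (tt N7278 D14492) (tt N4630 (iv D9978)) (tt N7279 D14493) (tt N5846 F44670) (tt N7280 D14494) (tt N5070 F201950))
theorem Q5848 : ∀ i, i < 5848 → P i := stepQ 5847 Q5847 (allL N5847 (tt N4734 (iv F201642)) (tt N4632 F44672) (tt N5847 F44673) (tt N4725 (iv F201647)) (tt N6752 (iv F60234)) (tt N7280 (iv F63597)) (tt N7217 (iv F63205)) (tt N5847 F44674) (tt N4630 (iv D9979)) (tt N7281 D14496))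
theorem Q5849 : ∀ i, i < 5849 → P i := stepQ 5848 Q5848 (allL N5848 (tt N4638 F44675) (tt N7278 (iv F63587)) (tt N4633 F44676) (tt N7282 D14497) (tt N4631 (iv D9980)) (tt N6753 (iv F60238)) (tt N7283 D14498) (tt N5848 F44677) (tt N7284 D14499) (tt N5162 (iv F202371)))
theorem Q5850 : ∀ i, i < 5850 → P i := stepQ 5849 Q5849 (allL N5849 (tt N4639 F44678) (tt N7279 (iv F63591)) (tt N4634 F44679) (tt N5059 F44680) (tt N7283 (iv F63613)) (tt N7219 (iv F63211)) (tt N4631 (iv D9981)) (tt N7285 D14500) (tt N7286 D14501) (tt N5161 (iv F202274)))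
theorem Q5851 : ∀ i, i < 5851 → P i := stepQ 5850 Q5850 (allL N5850 (tt N4640 F44681) (tt N7280 (iv F63595)) (tt N4635 F44682) (tt N7287 D14502) (tt N7284 (iv F63616)) (tt N4632 F44683) (tt N7286 (iv F63624)) (tt N5850 F44684) (tt N4631 (iv D9982)) (tt N7288 D14503))
theorem Q5852 : ∀ i, i < 5852 → P i := stepQ 5851 Q5851 (allL N5851 (tt N4641 F44685) (tt N4725 (iv F201646)) (tt N5851 F44686) (tt N4632 (iv D9983)) (tt N6941 (iv F201703)) (tt N7287 (iv F63627)) (tt N7221 (iv F63217)) (tt N5851 F44687) (tt N4723 F201348) (tt N7289 D14505))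
theorem Q5853 : ∀ i, i < 5853 → P i := stepQ 5852 Q5852 (allL N5852 (tt N4642 F44689) (tt N7281 (iv F63604)) (tt N4636 F44690) (tt N7289 (iv F63640)) (tt N6757 (iv F60252)) (tt N7288 (iv F63632)) (tt N7222 (iv F63221)) (tt N5852 F44691) (tt N4766 (iv F202349)) (tt N4632 (iv D9984)))
theorem Q5854 : ∀ i, i < 5854 → P i := stepQ 5853 Q5853 (allL N5853 (tt N4643 F44692) (tt N5853 F44693) (tt N7283 (iv F63612)) (tt N5853 F44694) (tt N4634 F44695) (tt N7290 D14506) (tt N4633 (iv D9985)) (tt N7291 D14507) (tt N7292 D14508) (tt N5229 (iv F203085)))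
theorem Q5855 : ∀ i, i < 5855 → P i := stepQ 5854 Q5854 (allL N5854 (tt N4644 F44696) (tt N5854 F44697) (tt N7284 (iv F63615)) (tt N7293 D14509) (tt N4635 F44698) (tt N6759 (iv F60261)) (tt N7292 (iv F63653)) (tt N5854 F44699) (tt N4633 (iv D9986)) (tt N7294 D14510))
theorem Q5856 : ∀ i, i < 5856 → P i := stepQ 5855 Q5855 (allL N5855 (tt N4645 F44700) (tt N5855 F44701) (tt N7285 (iv F63619)) (tt N4637 F44702) (tt N7291 (iv F63648)) (tt N7225 (iv F63231)) (tt N5855 F44703) (tt N4634 (iv D9987)) (tt N7295 D14511) (tt N5228 (iv F202184)))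
theorem Q5857 : ∀ i, i < 5857 → P i := stepQ 5856 Q5856 (allL N5856 (tt N4646 F44704) (tt N5856 F44705) (tt N7286 (iv F63623)) (tt N5856 F44706) (tt N7292 (iv F63652)) (tt N7226 (iv F63235)) (tt N4635 F44707) (tt N7295 (iv F63667)) (tt N4634 (iv D9988)) (tt N7296 D14512))
theorem Q5858 : ∀ i, i < 5858 → P i := stepQ 5857 Q5857 (allL N5857 (tt N4647 F44708) (tt N5857 F44709) (tt N7288 (iv F63631)) (tt N5857 F44710) (tt N7294 (iv F63661)) (tt N4636 F44711) (tt N7296 (iv F63671)) (tt N5857 F44712) (tt N4912 (iv F203247)) (tt N4635 (iv D9989)))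
theorem Q5859 : ∀ i, i < 5859 → P i := stepQ 5858 Q5858 (allL N5858 (tt N7282 (iv F63607)) (tt N4758 F44713) (tt N5858 F44714) (tt N4638 (iv D9990)) (tt N5065 F44715) (tt N6763 (iv F60277)) (tt N7297 D14513) (tt N5858 F44716) (tt N7298 D14514) (tt N7257 (iv F63497)))
theorem Q5860 : ∀ i, i < 5860 → P i := stepQ 5859 Q5859 (allL N5859 (tt N7283 (iv F63611)) (tt N4759 F44717) (tt N4643 F44718) (tt N7297 (iv F63674)) (tt N4639 F44719) (tt N7299 D14515) (tt N4638 (iv D9991)) (tt N7300 D14516) (tt N7301 D14517) (tt N7258 (iv F63501)))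
theorem Q5861 : ∀ i, i < 5861 → P i := stepQ 5860 Q5860 (allL N5860 (tt N7284 (iv F63614)) (tt N4760 F44720) (tt N4644 F44721) (tt N7302 D14518) (tt N4640 F44722) (tt N6765 (iv F60285)) (tt N7301 (iv F63689)) (tt N5860 F44723) (tt N4638 (iv D9992)) (tt N7303 D14519))
theorem Q5862 : ∀ i, i < 5862 → P i := stepQ 5861 Q5861 (allL N5861 (tt N7285 (iv F63618)) (tt N4761 F44724) (tt N4645 F44725) (tt N5068 F44726) (tt N7300 (iv F63684)) (tt N7231 (iv F63252)) (tt N5861 F44727) (tt N4639 (iv D9993)) (tt N7304 D14520) (tt N7260 (iv F63510)))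
theorem Q5863 : ∀ i, i < 5863 → P i := stepQ 5862 Q5862 (allL N5862 (tt N7286 (iv F63622)) (tt N4762 F44728) (tt N4646 F44729) (tt N7305 D14521) (tt N7301 (iv F63688)) (tt N7232 (iv F63255)) (tt N4640 F44730) (tt N7304 (iv F63699)) (tt N4639 (iv D9994)) (tt N7306 D14522))
theorem Q5864 : ∀ i, i < 5864 → P i := stepQ 5863 Q5863 (allL N5863 (tt N7287 (iv F63625)) (tt N4763 F44731) (tt N5863 F44732) (tt N4640 (iv D9995)) (tt N7307 D14523) (tt N4641 F44733) (tt N7305 (iv F63702)) (tt N5863 F44734) (tt N5070 F44735) (tt N7308 D14524))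
theorem Q5865 : ∀ i, i < 5865 → P i := stepQ 5864 Q5864 (allL N5864 (tt N7288 (iv F63630)) (tt N4764 F44736) (tt N4647 F44737) (tt N7308 (iv F63713)) (tt N7303 (iv F63694)) (tt N4642 F44738) (tt N7306 (iv F63706)) (tt N5864 F44739) (tt N7262 (iv F63522)) (tt N4640 (iv D9996)))
theorem Q5866 : ∀ i, i < 5866 → P i := stepQ 5865 Q5865 (allL N5865 (tt N6941 F201942) (tt N4765 F44740) (tt N5865 F44741) (tt N6770 (iv F60303)) (tt N4641 (iv D9997)) (tt N7309 D14525) (tt N7235 (iv F63266)) (tt N5865 F44742) (tt N5071 F44743) (tt N7310 D14526))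
theorem Q5867 : ∀ i, i < 5867 → P i := stepQ 5866 Q5866 (allL N5866 (tt N7289 (iv F63638)) (tt N4766 F44744) (tt N5866 F44745) (tt N4642 F44746) (tt N7310 (iv F63722)) (tt N7308 (iv F63714)) (tt N7236 (iv F63271)) (tt N5866 F44747) (tt N7281 F201943) (tt N4641 (iv D9998)))
theorem Q5868 : ∀ i, i < 5868 → P i := stepQ 5867 Q5867 (allL N5867 (tt N7290 (iv F63642)) (tt N4648 F44748) (tt N7299 (iv F63681)) (tt N5867 F44749) (tt N7237 (iv F63273)) (tt N4643 (iv D9999)) (tt N6772 (iv F60311)) (tt N7311 D14528) (tt N7312 D14529) (tt N7263 (iv F63531)))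
theorem Q5869 : ∀ i, i < 5869 → P i := stepQ 5868 Q5868 (allL N5868 (tt N7291 (iv F63645)) (tt N4649 F44750) (tt N7300 (iv F63683)) (tt N5868 F44751) (tt N4645 F44752) (tt N7311 (iv F63730)) (tt N5868 F44753) (tt N4643 (iv D10000)) (tt N7313 D14530) (tt N7264 (iv F63536)))
theorem Q5870 : ∀ i, i < 5870 → P i := stepQ 5869 Q5869 (allL N5869 (tt N7292 (iv F63650)) (tt N4650 F44754) (tt N7301 (iv F63687)) (tt N7314 D14531) (tt N4646 F44755) (tt N7312 (iv F63732)) (tt N4644 F44756) (tt N7313 (iv F63736)) (tt N4643 (iv D10001)) (tt N7315 D14532))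
theorem Q5871 : ∀ i, i < 5871 → P i := stepQ 5870 Q5870 (allL N5870 (tt N7293 (iv F63654)) (tt N4651 F44757) (tt N7316 D14533) (tt N4644 (iv D10002)) (tt N5870 F44758) (tt N6775 (iv F60320)) (tt N7314 (iv F63739)) (tt N5870 F44759) (tt N5870 F44760) (tt N7317 D14534))
theorem Q5872 : ∀ i, i < 5872 → P i := stepQ 5871 Q5871 (allL N5871 (tt N7294 (iv F63659)) (tt N4652 F44761) (tt N7303 (iv F63693)) (tt N7317 (iv F63748)) (tt N4647 F44762) (tt N6776 (iv F60325)) (tt N7315 (iv F63743)) (tt N5871 F44763) (tt N7267 (iv F63546)) (tt N4644 (iv D10003)))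
theorem Q5873 : ∀ i, i < 5873 → P i := stepQ 5872 Q5872 (allL N5872 (tt N7295 (iv F63663)) (tt N4653 F44764) (tt N7304 (iv F63697)) (tt N5872 F44765) (tt N7313 (iv F63734)) (tt N7242 (iv F63285)) (tt N5872 F44766) (tt N4646 F44767) (tt N4645 (iv D10004)) (tt N7318 D14535))
theorem Q5874 : ∀ i, i < 5874 → P i := stepQ 5873 Q5873 (allL N5873 (tt N7296 (iv F63668)) (tt N4654 F44768) (tt N7306 (iv F63705)) (tt N5873 F44769) (tt N7315 (iv F63742)) (tt N7243 (iv F63289)) (tt N4647 F44770) (tt N7318 (iv F63754)) (tt N7269 (iv F63552)) (tt N4646 (iv D10005)))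
theorem Q5875 : ∀ i, i < 5875 → P i := stepQ 5874 Q5874 (allL N5874 (tt N5874 F44771) (tt N7311 (iv F63728)) (tt N4774 F44772) (tt N5874 F44773) (tt N7244 (iv F63293)) (tt N4649 F44774) (tt N7319 D14536) (tt N4648 (iv D10006)) (tt N7320 D14537) (tt N7270 (iv F63557)))
theorem Q5876 : ∀ i, i < 5876 → P i := stepQ 5875 Q5875 (allL N5875 (tt N5875 F44775) (tt N7312 (iv F63731)) (tt N4775 F44776) (tt N7321 D14538) (tt N7245 (iv F63297)) (tt N4650 F44777) (tt N6780 (iv F60339)) (tt N7320 (iv F63762)) (tt N4648 (iv D10007)) (tt N7322 D14539))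
theorem Q5877 : ∀ i, i < 5877 → P i := stepQ 5876 Q5876 (allL N5876 (tt N5876 F44778) (tt N7313 (iv F63733)) (tt N4776 F44779) (tt N7323 D14540) (tt N4653 F44780) (tt N7320 (iv F63761)) (tt N5876 F44781) (tt N4650 F44782) (tt N4649 (iv D10008)) (tt N7324 D14541))
theorem Q5878 : ∀ i, i < 5878 → P i := stepQ 5877 Q5877 (allL N5877 (tt N5877 F44783) (tt N7314 (iv F63737)) (tt N7325 D14542) (tt N4650 (iv D10009)) (tt N5877 F44784) (tt N7321 (iv F63764)) (tt N4651 F44785) (tt N7323 (iv F63772)) (tt N5877 F44786) (tt N7326 D14543))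
theorem Q5879 : ∀ i, i < 5879 → P i := stepQ 5878 Q5878 (allL N5878 (tt N5878 F44787) (tt N7315 (iv F63741)) (tt N4778 F44788) (tt N7326 (iv F63785)) (tt N4654 F44789) (tt N7322 (iv F63768)) (tt N4652 F44790) (tt N7324 (iv F63778)) (tt N7274 (iv F63573)) (tt N4650 (iv D10010)))
theorem Q5880 : ∀ i, i < 5880 → P i := stepQ 5879 Q5879 (allL N5879 (tt N5879 F44791) (tt N7327 D14544) (tt N4651 (iv D10011)) (tt N4779 F44792) (tt N5879 F44793) (tt N6784 (iv F60354)) (tt N7325 (iv F63782)) (tt N5879 F44794) (tt N5879 F44795) (tt N7328 D14545))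
theorem Q5881 : ∀ i, i < 5881 → P i := stepQ 5880 Q5880 (allL N5880 (tt N5880 F44796) (tt N7317 (iv F63747)) (tt N7328 (iv F63793)) (tt N4652 F44797) (tt N5880 F44798) (tt N6785 (iv F60359)) (tt N7326 (iv F63787)) (tt N5880 F44799) (tt N7329 D14546) (tt N4651 (iv D10012)))
theorem Q5882 : ∀ i, i < 5882 → P i := stepQ 5881 Q5881 (allL N5881 (tt N5881 F44800) (tt N7318 (iv F63751)) (tt N4781 F44801) (tt N5881 F44802) (tt N7324 (iv F63776)) (tt N7251 (iv F63319)) (tt N5881 F44803) (tt N4654 F44804) (tt N7277 (iv F63585)) (tt N4653 (iv D10013)))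
theorem Q5883 : ∀ i, i < 5883 → P i := stepQ 5882 Q5882 (allL N5882 (tt N4657 F44805) (tt N7330 D14547) (tt N4655 (iv D10014)) (tt N5082 F44806) (tt N6798 (iv F60431)) (tt N7331 D14548) (tt N5882 F44807) (tt N4682 F44808) (tt N7332 D14549) (tt N4666 F44809))
theorem Q5884 : ∀ i, i < 5884 → P i := stepQ 5883 Q5883 (allL N5883 (tt N4658 F44810) (tt N5883 F44811) (tt N7331 (iv F63807)) (tt N4656 F44812) (tt N7333 D14550) (tt N4655 (iv D10015)) (tt N7334 D14551) (tt N4683 F44813) (tt N7335 D14552) (tt N4667 F44814))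
theorem Q5885 : ∀ i, i < 5885 → P i := stepQ 5884 Q5884 (allL N5884 (tt N4659 F44815) (tt N5884 F44816) (tt N7332 (iv F63812)) (tt N5884 F44817) (tt N6800 (iv F60442)) (tt N7335 (iv F63828)) (tt N5884 F44818) (tt N4684 F44819) (tt N4655 (iv D10016)) (tt N7336 D14553))
theorem Q5886 : ∀ i, i < 5886 → P i := stepQ 5885 Q5885 (allL N5885 (tt N4660 F44820) (tt N5885 F44821) (tt N5084 F44822) (tt N7334 (iv F63822)) (tt N5885 F44823) (tt N5885 F44824) (tt N4656 (iv D10017)) (tt N7337 D14554) (tt N5885 F44825) (tt N4669 F44826))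
theorem Q5887 : ∀ i, i < 5887 → P i := stepQ 5886 Q5886 (allL N5886 (tt N7331 (iv F63806)) (tt N7160 (iv F62883)) (tt N4658 F44827) (tt N5085 F44828) (tt N7338 D14555) (tt N4657 (iv D10018)) (tt N7339 D14556) (tt N4686 F44829) (tt N7340 D14557) (tt N4670 F44830))
theorem Q5888 : ∀ i, i < 5888 → P i := stepQ 5887 Q5887 (allL N5887 (tt N7332 (iv F63811)) (tt N7161 (iv F62888)) (tt N4659 F44831) (tt N7341 D14558) (tt N6803 (iv F60456)) (tt N7340 (iv F63852)) (tt N5887 F44832) (tt N4687 F44833) (tt N4657 (iv D10019)) (tt N7342 D14559))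
theorem Q5889 : ∀ i, i < 5889 → P i := stepQ 5888 Q5888 (allL N5888 (tt N7333 (iv F63815)) (tt N4661 F44834) (tt N7338 (iv F63844)) (tt N5888 F44835) (tt N4658 (iv D10020)) (tt N6804 (iv F60461)) (tt N7343 D14560) (tt N4688 F44836) (tt N7344 D14561) (tt N4672 F44837))
theorem Q5890 : ∀ i, i < 5890 → P i := stepQ 5889 Q5889 (allL N5889 (tt N7334 (iv F63820)) (tt N4662 F44838) (tt N7339 (iv F63847)) (tt N4660 F44839) (tt N7343 (iv F63864)) (tt N5889 F44840) (tt N4658 (iv D10021)) (tt N7345 D14562) (tt N7346 D14563) (tt N4673 F44841))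
theorem Q5891 : ∀ i, i < 5891 → P i := stepQ 5890 Q5890 (allL N5890 (tt N7335 (iv F63825)) (tt N4663 F44842) (tt N7340 (iv F63851)) (tt N5890 F44843) (tt N7344 (iv F63867)) (tt N4659 F44844) (tt N7346 (iv F63877)) (tt N4690 F44845) (tt N4658 (iv D10022)) (tt N7347 D14564))
theorem Q5892 : ∀ i, i < 5892 → P i := stepQ 5891 Q5891 (allL N5891 (tt N7336 (iv F63830)) (tt N4664 F44846) (tt N7342 (iv F63858)) (tt N5891 F44847) (tt N6807 (iv F60472)) (tt N7347 (iv F63880)) (tt N5891 F44848) (tt N4691 F44849) (tt N4675 F44850) (tt N4659 (iv D10023)))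
theorem Q5893 : ∀ i, i < 5893 → P i := stepQ 5892 Q5892 (allL N5892 (tt N7337 (iv F63836)) (tt N4665 F44851) (tt N5090 F44852) (tt N7345 (iv F63870)) (tt N5892 F44853) (tt N5892 F44854) (tt N4692 F44855) (tt N4660 (iv D10024)) (tt N5892 F44856) (tt N4676 F44857))
theorem Q5894 : ∀ i, i < 5894 → P i := stepQ 5893 Q5893 (allL N5893 (tt N5893 F44858) (tt N7343 (iv F63862)) (tt N7167 (iv F62912)) (tt N5893 F44859) (tt N4662 F44860) (tt N7348 D14565) (tt N4661 (iv D10025)) (tt N7349 D14566) (tt N7350 D14567) (tt N4677 F44861))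
theorem Q5895 : ∀ i, i < 5895 → P i := stepQ 5894 Q5894 (allL N5894 (tt N5894 F44862) (tt N7344 (iv F63866)) (tt N7168 (iv F62916)) (tt N7351 D14568) (tt N4663 F44863) (tt N6810 (iv F60488)) (tt N7350 (iv F63894)) (tt N4694 F44864) (tt N4661 (iv D10026)) (tt N7352 D14569))
theorem Q5896 : ∀ i, i < 5896 → P i := stepQ 5895 Q5895 (allL N5895 (tt N5895 F44865) (tt N7345 (iv F63869)) (tt N7169 (iv F62920)) (tt N4665 F44866) (tt N7349 (iv F63889)) (tt N5895 F44867) (tt N4695 F44868) (tt N4662 (iv D10027)) (tt N7353 D14570) (tt N4679 F44869))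
theorem Q5897 : ∀ i, i < 5897 → P i := stepQ 5896 Q5896 (allL N5896 (tt N5896 F44870) (tt N7346 (iv F63874)) (tt N7170 (iv F62926)) (tt N5896 F44871) (tt N7350 (iv F63893)) (tt N5896 F44872) (tt N4663 F44873) (tt N7353 (iv F63907)) (tt N4662 (iv D10028)) (tt N7354 D14571))
theorem Q5898 : ∀ i, i < 5898 → P i := stepQ 5897 Q5897 (allL N5897 (tt N5897 F44874) (tt N7347 (iv F63878)) (tt N7171 (iv F62930)) (tt N5897 F44875) (tt N7352 (iv F63900)) (tt N4664 F44876) (tt N7354 (iv F63911)) (tt N4697 F44877) (tt N4681 F44878) (tt N4663 (iv D10029)))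
theorem Q5899 : ∀ i, i < 5899 → P i := stepQ 5898 Q5898 (allL N5898 (tt N7172 (iv F62934)) (tt N4666 (iv D10030)) (tt N5898 F44879) (tt N5086 F200533) (tt N6814 (iv F60504)) (tt N7355 D14572) (tt N5898 F44881) (tt N4698 F44882) (tt N7341 (iv F200855)) (tt N7330 (iv F63805)))
theorem Q5900 : ∀ i, i < 5900 → P i := stepQ 5899 Q5899 (allL N5899 (tt N4670 F44883) (tt N7355 (iv F63913)) (tt N4667 F44884) (tt N5094 F44885) (tt N7356 D14574) (tt N4666 (iv D10031)) (tt N7357 D14575) (tt N4699 F44886) (tt N7358 D14576) (tt N7331 (iv F63810)))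
theorem Q5901 : ∀ i, i < 5901 → P i := stepQ 5900 Q5900 (allL N5900 (tt N4671 F44887) (tt N7341 F201104) (tt N4668 F44888) (tt N7161 F201105) (tt N6816 (iv F60513)) (tt N7358 (iv F63930)) (tt N5900 F44889) (tt N4700 F44890) (tt N4666 (iv D10032)) (tt N7359 D14578))
theorem Q5902 : ∀ i, i < 5902 → P i := stepQ 5901 Q5901 (allL N5901 (tt N4672 F44891) (tt N5901 F44892) (tt N7356 (iv F63922)) (tt N5901 F44893) (tt N4667 (iv D10033)) (tt N6817 (iv F60519)) (tt N7360 D14579) (tt N4701 F44894) (tt N7361 D14580) (tt N7333 (iv F63819)))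
theorem Q5903 : ∀ i, i < 5903 → P i := stepQ 5902 Q5902 (allL N5902 (tt N4673 F44895) (tt N5902 F44896) (tt N7357 (iv F63925)) (tt N4669 F44897) (tt N7360 (iv F63944)) (tt N5902 F44898) (tt N4667 (iv D10034)) (tt N7362 D14581) (tt N7363 D14582) (tt N7334 (iv F63824)))
theorem Q5904 : ∀ i, i < 5904 → P i := stepQ 5903 Q5903 (allL N5903 (tt N4674 F44899) (tt N5903 F44900) (tt N7358 (iv F63929)) (tt N4838 F44901) (tt N7361 (iv F63947)) (tt N4668 F44902) (tt N7363 (iv F63958)) (tt N4703 F44903) (tt N4667 (iv D10035)) (tt N7364 D14583))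
theorem Q5905 : ∀ i, i < 5905 → P i := stepQ 5904 Q5904 (allL N5904 (tt N4675 F44904) (tt N5904 F44905) (tt N7359 (iv F63938)) (tt N4839 F44906) (tt N6820 (iv F60533)) (tt N7364 (iv F63962)) (tt N5904 F44907) (tt N4704 F44908) (tt N7336 (iv F63835)) (tt N4668 (iv D10036)))
theorem Q5906 : ∀ i, i < 5906 → P i := stepQ 5905 Q5905 (allL N5905 (tt N4676 F44909) (tt N5905 F44910) (tt N5097 F44911) (tt N7362 (iv F63951)) (tt N5905 F44912) (tt N5905 F44913) (tt N4705 F44914) (tt N4669 (iv D10037)) (tt N4840 F44915) (tt N7337 (iv F63843)))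
theorem Q5907 : ∀ i, i < 5907 → P i := stepQ 5906 Q5906 (allL N5906 (tt N7356 (iv F63921)) (tt N7180 (iv F62970)) (tt N4672 F44916) (tt N7365 D14584) (tt N4670 (iv D10038)) (tt N6822 (iv F60544)) (tt N7366 D14585) (tt N4706 F44917) (tt N7367 D14586) (tt N7338 (iv F63846)))
theorem Q5908 : ∀ i, i < 5908 → P i := stepQ 5907 Q5907 (allL N5907 (tt N7357 (iv F63924)) (tt N7181 (iv F62973)) (tt N4673 F44918) (tt N5099 F44919) (tt N7366 (iv F63968)) (tt N5907 F44920) (tt N4670 (iv D10039)) (tt N7368 D14587) (tt N7369 D14588) (tt N7339 (iv F63850)))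
theorem Q5909 : ∀ i, i < 5909 → P i := stepQ 5908 Q5908 (allL N5908 (tt N7358 (iv F63928)) (tt N7182 (iv F62977)) (tt N4674 F44921) (tt N7370 D14589) (tt N7367 (iv F63970)) (tt N4671 F44922) (tt N7369 (iv F63978)) (tt N4708 F44923) (tt N4670 (iv D10040)) (tt N7371 D14590))
theorem Q5910 : ∀ i, i < 5910 → P i := stepQ 5909 Q5909 (allL N5909 (tt N7161 F201108) (tt N7183 (iv F62981)) (tt N4844 F44924) (tt N4671 (iv D10041)) (tt N7372 D14591) (tt N7370 (iv F63980)) (tt N5909 F44925) (tt N4709 F44926) (tt N5101 F44927) (tt N7373 D14592))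
theorem Q5911 : ∀ i, i < 5911 → P i := stepQ 5910 Q5910 (allL N5910 (tt N7359 (iv F63937)) (tt N7184 (iv F62986)) (tt N4675 F44928) (tt N7373 (iv F63991)) (tt N6826 (iv F60557)) (tt N7371 (iv F63984)) (tt N5910 F44929) (tt N4710 F44930) (tt N7342 (iv F63861)) (tt N4671 (iv D10042)))
theorem Q5912 : ∀ i, i < 5912 → P i := stepQ 5911 Q5911 (allL N5911 (tt N7360 (iv F63941)) (tt N4677 F44931) (tt N7366 (iv F63967)) (tt N5911 F44932) (tt N4673 F44933) (tt N7374 D14593) (tt N4672 (iv D10043)) (tt N7375 D14594) (tt N7376 D14595) (tt N7343 (iv F63865)))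
theorem Q5913 : ∀ i, i < 5913 → P i := stepQ 5912 Q5912 (allL N5912 (tt N7361 (iv F63945)) (tt N4678 F44934) (tt N7367 (iv F63969)) (tt N7377 D14596) (tt N4674 F44935) (tt N6828 (iv F60565)) (tt N7376 (iv F64003)) (tt N4712 F44936) (tt N4672 (iv D10044)) (tt N7378 D14597))
theorem Q5914 : ∀ i, i < 5914 → P i := stepQ 5913 Q5913 (allL N5913 (tt N7362 (iv F63949)) (tt N4679 F44937) (tt N7368 (iv F63972)) (tt N4676 F44938) (tt N7375 (iv F63999)) (tt N5913 F44939) (tt N4713 F44940) (tt N4673 (iv D10045)) (tt N7379 D14598) (tt N7345 (iv F63873)))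
theorem Q5915 : ∀ i, i < 5915 → P i := stepQ 5914 Q5914 (allL N5914 (tt N7363 (iv F63954)) (tt N4680 F44941) (tt N7369 (iv F63976)) (tt N4849 F44942) (tt N7376 (iv F64002)) (tt N5914 F44943) (tt N4674 F44944) (tt N7379 (iv F64015)) (tt N4673 (iv D10046)) (tt N7380 D14599))
theorem Q5916 : ∀ i, i < 5916 → P i := stepQ 5915 Q5915 (allL N5915 (tt N7364 (iv F63959)) (tt N4681 F44945) (tt N7371 (iv F63983)) (tt N4850 F44946) (tt N7378 (iv F64009)) (tt N4675 F44947) (tt N7380 (iv F64019)) (tt N4715 F44948) (tt N7347 (iv F63882)) (tt N4674 (iv D10047)))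
theorem Q5917 : ∀ i, i < 5917 → P i := stepQ 5916 Q5916 (allL N5916 (tt N5916 F44949) (tt N7374 (iv F63994)) (tt N7190 (iv F63008)) (tt N5916 F44950) (tt N5916 F44951) (tt N4677 (iv D10048)) (tt N6832 (iv F60582)) (tt N7381 D14600) (tt N7382 D14601) (tt N7348 (iv F63886)))
theorem Q5918 : ∀ i, i < 5918 → P i := stepQ 5917 Q5917 (allL N5917 (tt N5917 F44952) (tt N7375 (iv F63997)) (tt N7191 (iv F63011)) (tt N5917 F44953) (tt N4679 F44954) (tt N7381 (iv F64023)) (tt N4717 F44955) (tt N4677 (iv D10049)) (tt N7383 D14602) (tt N7349 (iv F63891)))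
theorem Q5919 : ∀ i, i < 5919 → P i := stepQ 5918 Q5918 (allL N5918 (tt N5918 F44956) (tt N7376 (iv F64001)) (tt N7192 (iv F63015)) (tt N7384 D14603) (tt N4680 F44957) (tt N7382 (iv F64026)) (tt N4678 F44958) (tt N7383 (iv F64030)) (tt N4677 (iv D10050)) (tt N7385 D14604))
theorem Q5920 : ∀ i, i < 5920 → P i := stepQ 5919 Q5919 (allL N5919 (tt N5919 F44959) (tt N7377 (iv F64004)) (tt N7386 D14605) (tt N4678 (iv D10051)) (tt N4854 F44960) (tt N6835 (iv F60592)) (tt N7384 (iv F64033)) (tt N4719 F44961) (tt N5919 F44962) (tt N7387 D14606))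
theorem Q5921 : ∀ i, i < 5921 → P i := stepQ 5920 Q5920 (allL N5920 (tt N5920 F44963) (tt N7378 (iv F64008)) (tt N7194 (iv F63022)) (tt N7387 (iv F64043)) (tt N4681 F44964) (tt N6836 (iv F60597)) (tt N7385 (iv F64037)) (tt N4720 F44965) (tt N7352 (iv F63902)) (tt N4678 (iv D10052)))
theorem Q5922 : ∀ i, i < 5922 → P i := stepQ 5921 Q5921 (allL N5921 (tt N5921 F44966) (tt N7379 (iv F64011)) (tt N7195 (iv F63026)) (tt N4856 F44967) (tt N7383 (iv F64028)) (tt N5921 F44968) (tt N4721 F44969) (tt N4680 F44970) (tt N4679 (iv D10053)) (tt N7388 D14607))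
theorem Q5923 : ∀ i, i < 5923 → P i := stepQ 5922 Q5922 (allL N5922 (tt N5922 F44971) (tt N7380 (iv F64016)) (tt N7196 (iv F63032)) (tt N4857 F44972) (tt N7385 (iv F64036)) (tt N5922 F44973) (tt N4681 F44974) (tt N7388 (iv F64050)) (tt N7354 (iv F63912)) (tt N4680 (iv D10054)))
theorem Q5924 : ∀ i, i < 5924 → P i := stepQ 5923 Q5923 (allL N5923 (tt N5043 (iv F200763)) (tt N4682 (iv D10055)) (tt N5923 F44975) (tt N5035 F200640) (tt N6855 (iv F60685)) (tt N7389 D14608) (tt N4723 F44977) (tt N7330 (iv F63804)) (tt N7221 (iv F200988)) (tt N4698 F44978))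
theorem Q5925 : ∀ i, i < 5925 → P i := stepQ 5924 Q5924 (allL N5924 (tt N4686 F44979) (tt N7389 (iv F64051)) (tt N4683 F44980) (tt N5102 F44981) (tt N7390 D14610) (tt N4682 (iv D10056)) (tt N7391 D14611) (tt N7331 (iv F63809)) (tt N7392 D14612) (tt N4699 F44982))
theorem Q5926 : ∀ i, i < 5926 → P i := stepQ 5925 Q5925 (allL N5925 (tt N4687 F44983) (tt N7221 F201244) (tt N4684 F44984) (tt N7217 F201245) (tt N6857 (iv F60694)) (tt N7392 (iv F64068)) (tt N4725 F44985) (tt N7332 (iv F63814)) (tt N4682 (iv D10057)) (tt N7393 D14614))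
theorem Q5927 : ∀ i, i < 5927 → P i := stepQ 5926 Q5926 (allL N5926 (tt N4688 F44986) (tt N5926 F44987) (tt N7390 (iv F64059)) (tt N5926 F44988) (tt N4683 (iv D10058)) (tt N6858 (iv F60699)) (tt N7394 D14615) (tt N7333 (iv F63818)) (tt N7395 D14616) (tt N4701 F44989))
theorem Q5928 : ∀ i, i < 5928 → P i := stepQ 5927 Q5927 (allL N5927 (tt N4689 F44990) (tt N5927 F44991) (tt N7391 (iv F64062)) (tt N4685 F44992) (tt N7394 (iv F64080)) (tt N4727 F44993) (tt N4683 (iv D10059)) (tt N7396 D14617) (tt N7397 D14618) (tt N4702 F44994))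
theorem Q5929 : ∀ i, i < 5929 → P i := stepQ 5928 Q5928 (allL N5928 (tt N4690 F44995) (tt N5928 F44996) (tt N7392 (iv F64067)) (tt N5928 F44997) (tt N7395 (iv F64084)) (tt N4684 F44998) (tt N7397 (iv F64094)) (tt N7335 (iv F63829)) (tt N4683 (iv D10060)) (tt N7398 D14619))
theorem Q5930 : ∀ i, i < 5930 → P i := stepQ 5929 Q5929 (allL N5929 (tt N4691 F44999) (tt N5929 F45000) (tt N7393 (iv F64074)) (tt N5929 F45001) (tt N6861 (iv F60711)) (tt N7398 (iv F64098)) (tt N4729 F45002) (tt N7336 (iv F63834)) (tt N4704 F45003) (tt N4684 (iv D10061)))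
theorem Q5931 : ∀ i, i < 5931 → P i := stepQ 5930 Q5930 (allL N5930 (tt N4692 F45004) (tt N5930 F45005) (tt N5105 F45006) (tt N7396 (iv F64087)) (tt N5930 F45007) (tt N4730 F45008) (tt N7337 (iv F63841)) (tt N4685 (iv D10062)) (tt N5930 F45009) (tt N4705 F45010))
theorem Q5932 : ∀ i, i < 5932 → P i := stepQ 5931 Q5931 (allL N5931 (tt N7390 (iv F64058)) (tt N7200 (iv F63139)) (tt N4688 F45011) (tt N7399 D14620) (tt N4686 (iv D10063)) (tt N6863 (iv F60721)) (tt N7400 D14621) (tt N7338 (iv F63845)) (tt N7401 D14622) (tt N4706 F45012))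
theorem Q5933 : ∀ i, i < 5933 → P i := stepQ 5932 Q5932 (allL N5932 (tt N7391 (iv F64061)) (tt N7201 (iv F63142)) (tt N4689 F45013) (tt N5107 F45014) (tt N7400 (iv F64104)) (tt N4732 F45015) (tt N4686 (iv D10064)) (tt N7402 D14623) (tt N7403 D14624) (tt N4707 F45016))
theorem Q5934 : ∀ i, i < 5934 → P i := stepQ 5933 Q5933 (allL N5933 (tt N7392 (iv F64066)) (tt N7202 (iv F63147)) (tt N4690 F45017) (tt N7404 D14625) (tt N7401 (iv F64107)) (tt N4687 F45018) (tt N7403 (iv F64114)) (tt N7340 (iv F63853)) (tt N4686 (iv D10065)) (tt N7405 D14626))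
theorem Q5935 : ∀ i, i < 5935 → P i := stepQ 5934 Q5934 (allL N5934 (tt N7217 F201241) (tt N4700 (iv F201506)) (tt N5934 F45019) (tt N4687 (iv D10066)) (tt N6881 (iv F201644)) (tt N7404 (iv F64116)) (tt N4734 F45020) (tt N7341 (iv F63856)) (tt N4698 F201242) (tt N7406 D14628))
theorem Q5936 : ∀ i, i < 5936 → P i := stepQ 5935 Q5935 (allL N5935 (tt N7393 (iv F64073)) (tt N7203 (iv F63153)) (tt N4691 F45022) (tt N7406 (iv F64125)) (tt N6867 (iv F60732)) (tt N7405 (iv F64119)) (tt N4735 F45023) (tt N7342 (iv F63860)) (tt N4710 F45024) (tt N4687 (iv D10067)))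
theorem Q5937 : ∀ i, i < 5937 → P i := stepQ 5936 Q5936 (allL N5936 (tt N7394 (iv F64077)) (tt N4693 F45025) (tt N7400 (iv F64103)) (tt N5936 F45026) (tt N4689 F45027) (tt N7407 D14629) (tt N4688 (iv D10068)) (tt N7408 D14630) (tt N7409 D14631) (tt N4711 F45028))
theorem Q5938 : ∀ i, i < 5938 → P i := stepQ 5937 Q5937 (allL N5937 (tt N7395 (iv F64082)) (tt N4694 F45029) (tt N7401 (iv F64106)) (tt N7410 D14632) (tt N4690 F45030) (tt N6869 (iv F60741)) (tt N7409 (iv F64137)) (tt N7344 (iv F63868)) (tt N4688 (iv D10069)) (tt N7411 D14633))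
theorem Q5939 : ∀ i, i < 5939 → P i := stepQ 5938 Q5938 (allL N5938 (tt N7396 (iv F64085)) (tt N4695 F45031) (tt N7402 (iv F64108)) (tt N4692 F45032) (tt N7408 (iv F64133)) (tt N4738 F45033) (tt N7345 (iv F63872)) (tt N4689 (iv D10070)) (tt N7412 D14634) (tt N4713 F45034))
theorem Q5940 : ∀ i, i < 5940 → P i := stepQ 5939 Q5939 (allL N5939 (tt N7397 (iv F64090)) (tt N4696 F45035) (tt N7403 (iv F64112)) (tt N5939 F45036) (tt N7409 (iv F64136)) (tt N4739 F45037) (tt N4690 F45038) (tt N7412 (iv F64147)) (tt N4689 (iv D10071)) (tt N7413 D14635))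
theorem Q5941 : ∀ i, i < 5941 → P i := stepQ 5940 Q5940 (allL N5940 (tt N7398 (iv F64095)) (tt N4697 F45039) (tt N7405 (iv F64118)) (tt N5940 F45040) (tt N7411 (iv F64142)) (tt N4691 F45041) (tt N7413 (iv F64151)) (tt N7347 (iv F63881)) (tt N4715 F45042) (tt N4690 (iv D10072)))
theorem Q5942 : ∀ i, i < 5942 → P i := stepQ 5941 Q5941 (allL N5941 (tt N5941 F45043) (tt N7407 (iv F64127)) (tt N7209 (iv F63173)) (tt N5941 F45044) (tt N4741 F45045) (tt N4693 (iv D10073)) (tt N6873 (iv F60755)) (tt N7414 D14636) (tt N7415 D14637) (tt N4716 F45046))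
theorem Q5943 : ∀ i, i < 5943 → P i := stepQ 5942 Q5942 (allL N5942 (tt N5942 F45047) (tt N7408 (iv F64131)) (tt N7210 (iv F63177)) (tt N5942 F45048) (tt N4695 F45049) (tt N7414 (iv F64156)) (tt N7349 (iv F63890)) (tt N4693 (iv D10074)) (tt N7416 D14638) (tt N4717 F45050))
theorem Q5944 : ∀ i, i < 5944 → P i := stepQ 5943 Q5943 (allL N5943 (tt N5943 F45051) (tt N7409 (iv F64135)) (tt N7211 (iv F63181)) (tt N7417 D14639) (tt N4696 F45052) (tt N7415 (iv F64160)) (tt N4694 F45053) (tt N7416 (iv F64163)) (tt N4693 (iv D10075)) (tt N7418 D14640))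
theorem Q5945 : ∀ i, i < 5945 → P i := stepQ 5944 Q5944 (allL N5944 (tt N5944 F45054) (tt N7410 (iv F64138)) (tt N7419 D14641) (tt N4694 (iv D10076)) (tt N5944 F45055) (tt N6876 (iv F60765)) (tt N7417 (iv F64166)) (tt N7351 (iv F63897)) (tt N5944 F45056) (tt N7420 D14642))
theorem Q5946 : ∀ i, i < 5946 → P i := stepQ 5945 Q5945 (allL N5945 (tt N5945 F45057) (tt N7411 (iv F64141)) (tt N7213 (iv F63186)) (tt N7420 (iv F64176)) (tt N4697 F45058) (tt N6877 (iv F60769)) (tt N7418 (iv F64170)) (tt N7352 (iv F63901)) (tt N4720 F45059) (tt N4694 (iv D10077)))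
theorem Q5947 : ∀ i, i < 5947 → P i := stepQ 5946 Q5946 (allL N5946 (tt N5946 F45060) (tt N7412 (iv F64144)) (tt N7214 (iv F63190)) (tt N5946 F45061) (tt N7416 (iv F64162)) (tt N4746 F45062) (tt N7353 (iv F63906)) (tt N4696 F45063) (tt N4695 (iv D10078)) (tt N7421 D14643))
theorem Q5948 : ∀ i, i < 5948 → P i := stepQ 5947 Q5947 (allL N5947 (tt N5947 F45064) (tt N7413 (iv F64148)) (tt N7215 (iv F63194)) (tt N5947 F45065) (tt N7418 (iv F64169)) (tt N4747 F45066) (tt N4697 F45067) (tt N7421 (iv F64181)) (tt N4722 F45068) (tt N4696 (iv D10079)))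
theorem Q5949 : ∀ i, i < 5949 → P i := stepQ 5948 Q5948 (allL N5948 (tt N7216 (iv F63198)) (tt N4699 F45069) (tt N5948 F45070) (tt N5108 F201050) (tt N7422 D14644) (tt N4698 (iv D10080)) (tt N7423 D14645) (tt N7355 (iv F63916)) (tt N7404 (iv F201450)) (tt N7389 (iv F64054)))
theorem Q5950 : ∀ i, i < 5950 → P i := stepQ 5949 Q5949 (allL N5949 (tt N4706 F45075) (tt N7422 (iv F64183)) (tt N4701 F45076) (tt N7424 D14649) (tt N4699 (iv D10082)) (tt N6882 (iv F60787)) (tt N7425 D14650) (tt N7356 (iv F63923)) (tt N7426 D14651) (tt N7390 (iv F64060)))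
theorem Q5951 : ∀ i, i < 5951 → P i := stepQ 5950 Q5950 (allL N5950 (tt N4707 F45077) (tt N7423 (iv F64185)) (tt N4702 F45078) (tt N5119 F45079) (tt N7425 (iv F64203)) (tt N4750 F45080) (tt N4699 (iv D10083)) (tt N7427 D14652) (tt N7428 D14653) (tt N7391 (iv F64065)))
theorem Q5952 : ∀ i, i < 5952 → P i := stepQ 5951 Q5951 (allL N5951 (tt N4708 F45081) (tt N7404 F201767) (tt N4703 F45082) (tt N7202 F201768) (tt N7426 (iv F64206)) (tt N4700 F45083) (tt N7428 (iv F64214)) (tt N7358 (iv F63931)) (tt N4699 (iv D10084)) (tt N7429 D14655))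
theorem Q5953 : ∀ i, i < 5953 → P i := stepQ 5952 Q5952 (allL N5952 (tt N4710 F45088) (tt N7406 F201935) (tt N4704 F45089) (tt N7203 F201936) (tt N6886 (iv F60801)) (tt N7429 (iv F64221)) (tt N4752 F45090) (tt N7359 (iv F63940)) (tt N7393 (iv F64076)) (tt N4700 (iv D10086)))
theorem Q5954 : ∀ i, i < 5954 → P i := stepQ 5953 Q5953 (allL N5953 (tt N4711 F45091) (tt N5953 F45092) (tt N7425 (iv F64202)) (tt N5953 F45093) (tt N4702 F45094) (tt N7430 D14658) (tt N4701 (iv D10087)) (tt N7431 D14659) (tt N7432 D14660) (tt N7394 (iv F64081)))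
theorem Q5955 : ∀ i, i < 5955 → P i := stepQ 5954 Q5954 (allL N5954 (tt N4712 F45095) (tt N5954 F45096) (tt N7426 (iv F64205)) (tt N7433 D14661) (tt N4703 F45097) (tt N6888 (iv F60810)) (tt N7432 (iv F64241)) (tt N7361 (iv F63948)) (tt N4701 (iv D10088)) (tt N7434 D14662))
theorem Q5956 : ∀ i, i < 5956 → P i := stepQ 5955 Q5955 (allL N5955 (tt N4713 F45098) (tt N5955 F45099) (tt N7427 (iv F64208)) (tt N4705 F45100) (tt N7431 (iv F64237)) (tt N4755 F45101) (tt N7362 (iv F63953)) (tt N4702 (iv D10089)) (tt N7435 D14663) (tt N7396 (iv F64089)))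
theorem Q5957 : ∀ i, i < 5957 → P i := stepQ 5956 Q5956 (allL N5956 (tt N4714 F45102) (tt N5956 F45103) (tt N7428 (iv F64212)) (tt N4865 F45104) (tt N7432 (iv F64240)) (tt N4756 F45105) (tt N4703 F45106) (tt N7435 (iv F64253)) (tt N4702 (iv D10090)) (tt N7436 D14664))
theorem Q5958 : ∀ i, i < 5958 → P i := stepQ 5957 Q5957 (allL N5957 (tt N4715 F45107) (tt N5957 F45108) (tt N7429 (iv F64220)) (tt N4866 F45109) (tt N7434 (iv F64248)) (tt N4704 F45110) (tt N7436 (iv F64258)) (tt N7364 (iv F63963)) (tt N7398 (iv F64099)) (tt N4703 (iv D10091)))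
theorem Q5959 : ∀ i, i < 5959 → P i := stepQ 5958 Q5958 (allL N5958 (tt N7424 (iv F64198)) (tt N7228 (iv F63241)) (tt N5958 F45111) (tt N4706 (iv D10092)) (tt N5122 F45112) (tt N6892 (iv F60826)) (tt N7437 D14665) (tt N7365 (iv F63966)) (tt N7438 D14666) (tt N7399 (iv F64102)))
theorem Q5960 : ∀ i, i < 5960 → P i := stepQ 5959 Q5959 (allL N5959 (tt N7425 (iv F64201)) (tt N7229 (iv F63243)) (tt N4711 F45113) (tt N7437 (iv F64260)) (tt N4707 F45114) (tt N7439 D14667) (tt N4706 (iv D10093)) (tt N7440 D14668) (tt N7441 D14669) (tt N7400 (iv F64105)))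
theorem Q5961 : ∀ i, i < 5961 → P i := stepQ 5960 Q5960 (allL N5960 (tt N7426 (iv F64204)) (tt N7230 (iv F63246)) (tt N4712 F45115) (tt N7442 D14670) (tt N4708 F45116) (tt N6894 (iv F60831)) (tt N7441 (iv F64270)) (tt N7367 (iv F63971)) (tt N4706 (iv D10094)) (tt N7443 D14671))
theorem Q5962 : ∀ i, i < 5962 → P i := stepQ 5961 Q5961 (allL N5961 (tt N7427 (iv F64207)) (tt N7231 (iv F63249)) (tt N4713 F45117) (tt N5125 F45118) (tt N7440 (iv F64267)) (tt N4761 F45119) (tt N7368 (iv F63975)) (tt N4707 (iv D10095)) (tt N7444 D14672) (tt N7402 (iv F64111)))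
theorem Q5963 : ∀ i, i < 5963 → P i := stepQ 5962 Q5962 (allL N5962 (tt N7428 (iv F64211)) (tt N7232 (iv F63253)) (tt N4714 F45120) (tt N7445 D14673) (tt N7441 (iv F64269)) (tt N4762 F45121) (tt N4708 F45122) (tt N7444 (iv F64275)) (tt N4707 (iv D10096)) (tt N7446 D14674))
theorem Q5964 : ∀ i, i < 5964 → P i := stepQ 5963 Q5963 (allL N5963 (tt N7202 F201771) (tt N7233 (iv F63257)) (tt N4872 F45123) (tt N4708 (iv D10097)) (tt N7447 D14675) (tt N4709 F45124) (tt N7445 (iv F64278)) (tt N7370 (iv F63981)) (tt N5127 F45125) (tt N7448 D14676))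
theorem Q5965 : ∀ i, i < 5965 → P i := stepQ 5964 Q5964 (allL N5964 (tt N7429 (iv F64219)) (tt N7234 (iv F63261)) (tt N4715 F45126) (tt N7448 (iv F64286)) (tt N7443 (iv F64272)) (tt N4710 F45127) (tt N7446 (iv F64282)) (tt N7371 (iv F63985)) (tt N7405 (iv F64120)) (tt N4708 (iv D10098)))
theorem Q5966 : ∀ i, i < 5966 → P i := stepQ 5965 Q5965 (allL N5965 (tt N6698 F201939) (tt N7235 (iv F63264)) (tt N4874 F45128) (tt N6899 (iv F60844)) (tt N4709 (iv D10099)) (tt N7449 D14677) (tt N4765 F45129) (tt N7372 (iv F63988)) (tt N5128 F45130) (tt N7450 D14678))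
theorem Q5967 : ∀ i, i < 5967 → P i := stepQ 5966 Q5966 (allL N5966 (tt N7203 F201940) (tt N7236 (iv F63268)) (tt N4875 F45131) (tt N4710 F45132) (tt N7450 (iv F64291)) (tt N7448 (iv F64287)) (tt N4766 F45133) (tt N7373 (iv F63993)) (tt N7222 F201941) (tt N4709 (iv D10100)))
theorem Q5968 : ∀ i, i < 5968 → P i := stepQ 5967 Q5967 (allL N5967 (tt N7430 (iv F64230)) (tt N4716 F45134) (tt N7439 (iv F64264)) (tt N5967 F45135) (tt N4767 F45136) (tt N4711 (iv D10101)) (tt N6901 (iv F60853)) (tt N7451 D14680) (tt N7452 D14681) (tt N7407 (iv F64130)))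
theorem Q5969 : ∀ i, i < 5969 → P i := stepQ 5968 Q5968 (allL N5968 (tt N7431 (iv F64234)) (tt N4717 F45137) (tt N7440 (iv F64266)) (tt N5968 F45138) (tt N4713 F45139) (tt N7451 (iv F64299)) (tt N7375 (iv F64000)) (tt N4711 (iv D10102)) (tt N7453 D14682) (tt N7408 (iv F64134)))
theorem Q5970 : ∀ i, i < 5970 → P i := stepQ 5969 Q5969 (allL N5969 (tt N7432 (iv F64238)) (tt N4718 F45140) (tt N7441 (iv F64268)) (tt N7454 D14683) (tt N4714 F45141) (tt N7452 (iv F64302)) (tt N4712 F45142) (tt N7453 (iv F64305)) (tt N4711 (iv D10103)) (tt N7455 D14684))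
theorem Q5971 : ∀ i, i < 5971 → P i := stepQ 5970 Q5970 (allL N5970 (tt N7433 (iv F64242)) (tt N4719 F45143) (tt N7456 D14685) (tt N4712 (iv D10104)) (tt N4879 F45144) (tt N6904 (iv F60862)) (tt N7454 (iv F64308)) (tt N7377 (iv F64006)) (tt N5970 F45145) (tt N7457 D14686))
theorem Q5972 : ∀ i, i < 5972 → P i := stepQ 5971 Q5971 (allL N5971 (tt N7434 (iv F64246)) (tt N4720 F45146) (tt N7443 (iv F64271)) (tt N7457 (iv F64316)) (tt N4715 F45147) (tt N6905 (iv F60866)) (tt N7455 (iv F64312)) (tt N7378 (iv F64010)) (tt N7411 (iv F64143)) (tt N4712 (iv D10105)))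
theorem Q5973 : ∀ i, i < 5973 → P i := stepQ 5972 Q5972 (allL N5972 (tt N7435 (iv F64249)) (tt N4721 F45148) (tt N7444 (iv F64273)) (tt N4881 F45149) (tt N7453 (iv F64304)) (tt N4772 F45150) (tt N7379 (iv F64014)) (tt N4714 F45151) (tt N4713 (iv D10106)) (tt N7458 D14687))
theorem Q5974 : ∀ i, i < 5974 → P i := stepQ 5973 Q5973 (allL N5973 (tt N7436 (iv F64254)) (tt N4722 F45152) (tt N7446 (iv F64280)) (tt N4882 F45153) (tt N7455 (iv F64311)) (tt N4773 F45154) (tt N4715 F45155) (tt N7458 (iv F64321)) (tt N7413 (iv F64152)) (tt N4714 (iv D10107)))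
theorem Q5975 : ∀ i, i < 5975 → P i := stepQ 5974 Q5974 (allL N5974 (tt N5974 F45156) (tt N7451 (iv F64296)) (tt N7244 (iv F63292)) (tt N5974 F45157) (tt N4774 F45158) (tt N4717 F45159) (tt N7459 D14688) (tt N4716 (iv D10108)) (tt N7460 D14689) (tt N7414 (iv F64157)))
theorem Q5976 : ∀ i, i < 5976 → P i := stepQ 5975 Q5975 (allL N5975 (tt N5975 F45160) (tt N7452 (iv F64300)) (tt N7245 (iv F63296)) (tt N7461 D14690) (tt N4775 F45161) (tt N4718 F45162) (tt N6909 (iv F60882)) (tt N7460 (iv F64328)) (tt N4716 (iv D10109)) (tt N7462 D14691))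
theorem Q5977 : ∀ i, i < 5977 → P i := stepQ 5976 Q5976 (allL N5976 (tt N5976 F45163) (tt N7453 (iv F64303)) (tt N7246 (iv F63300)) (tt N7463 D14692) (tt N4721 F45164) (tt N7460 (iv F64327)) (tt N7383 (iv F64029)) (tt N4718 F45165) (tt N4717 (iv D10110)) (tt N7464 D14693))
theorem Q5978 : ∀ i, i < 5978 → P i := stepQ 5977 Q5977 (allL N5977 (tt N5977 F45166) (tt N7454 (iv F64306)) (tt N7465 D14694) (tt N4718 (iv D10111)) (tt N4886 F45167) (tt N7461 (iv F64330)) (tt N4719 F45168) (tt N7463 (iv F64337)) (tt N5977 F45169) (tt N7466 D14695))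
theorem Q5979 : ∀ i, i < 5979 → P i := stepQ 5978 Q5978 (allL N5978 (tt N5978 F45170) (tt N7455 (iv F64310)) (tt N7248 (iv F63307)) (tt N7466 (iv F64347)) (tt N4722 F45171) (tt N7462 (iv F64334)) (tt N4720 F45172) (tt N7464 (iv F64341)) (tt N7418 (iv F64171)) (tt N4718 (iv D10112)))
theorem Q5980 : ∀ i, i < 5980 → P i := stepQ 5979 Q5979 (allL N5979 (tt N5979 F45173) (tt N7467 D14696) (tt N4719 (iv D10113)) (tt N7249 (iv F63311)) (tt N4888 F45174) (tt N6913 (iv F60895)) (tt N7465 (iv F64344)) (tt N7386 (iv F64040)) (tt N5979 F45175) (tt N7468 D14697))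
theorem Q5981 : ∀ i, i < 5981 → P i := stepQ 5980 Q5980 (allL N5980 (tt N5980 F45176) (tt N7457 (iv F64315)) (tt N7468 (iv F64353)) (tt N4720 F45177) (tt N4889 F45178) (tt N6914 (iv F60900)) (tt N7466 (iv F64349)) (tt N7387 (iv F64045)) (tt N7469 D14698) (tt N4719 (iv D10114)))
theorem Q5982 : ∀ i, i < 5982 → P i := stepQ 5981 Q5981 (allL N5981 (tt N5981 F45179) (tt N7458 (iv F64318)) (tt N7251 (iv F63317)) (tt N4890 F45180) (tt N7464 (iv F64340)) (tt N4781 F45181) (tt N7388 (iv F64049)) (tt N4722 F45182) (tt N7421 (iv F64182)) (tt N4721 (iv D10115)))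
theorem Q5983 : ∀ i, i < 5983 → P i := stepQ 5982 Q5982 (allL N5982 (tt N5070 (iv F201537)) (tt N4724 F45183) (tt N5982 F45184) (tt N5060 F201352) (tt N7470 D14699) (tt N4723 (iv D10116)) (tt N7471 D14700) (tt N5982 F45186) (tt N7287 (iv F201702)) (tt N4748 F45187))
theorem Q5984 : ∀ i, i < 5984 → P i := stepQ 5983 Q5983 (allL N5983 (tt N4731 F45191) (tt N7470 (iv F64358)) (tt N4726 F45192) (tt N7048 (iv F202440)) (tt N4724 (iv D10118)) (tt N6942 (iv F61037)) (tt N7472 D14705) (tt N5983 F45193) (tt N7473 D14706) (tt N4749 F45194))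
theorem Q5985 : ∀ i, i < 5985 → P i := stepQ 5984 Q5984 (allL N5984 (tt N4732 F45195) (tt N7471 (iv F64362)) (tt N4727 F45196) (tt N5130 F45197) (tt N7472 (iv F64384)) (tt N7391 (iv F64064)) (tt N4724 (iv D10119)) (tt N7474 D14707) (tt N7475 D14708) (tt N4750 F45198))
theorem Q5986 : ∀ i, i < 5986 → P i := stepQ 5985 Q5985 (allL N5985 (tt N4733 F45199) (tt N7287 F202056) (tt N4728 F45200) (tt N7280 F202057) (tt N7473 (iv F64388)) (tt N4725 F45201) (tt N7475 (iv F64397)) (tt N5985 F45202) (tt N4724 (iv D10120)) (tt N7476 D14710))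
theorem Q5987 : ∀ i, i < 5987 → P i := stepQ 5986 Q5986 (allL N5986 (tt N4735 F45207) (tt N7289 F202058) (tt N4729 F45208) (tt N7281 F202059) (tt N6946 (iv F61053)) (tt N7476 (iv F64405)) (tt N7393 (iv F64075)) (tt N5986 F45209) (tt N4752 F45210) (tt N4725 (iv D10122)))
theorem Q5988 : ∀ i, i < 5988 → P i := stepQ 5987 Q5987 (allL N5987 (tt N4736 F45211) (tt N5987 F45212) (tt N7472 (iv F64383)) (tt N4782 F45213) (tt N4727 F45214) (tt N7477 D14713) (tt N4726 (iv D10123)) (tt N7478 D14714) (tt N7479 D14715) (tt N4753 F45215))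
theorem Q5989 : ∀ i, i < 5989 → P i := stepQ 5988 Q5988 (allL N5988 (tt N4737 F45216) (tt N5988 F45217) (tt N7473 (iv F64387)) (tt N7041 (iv F203363)) (tt N4728 F45218) (tt N6948 (iv F61064)) (tt N7479 (iv F64429)) (tt N5988 F45219) (tt N4726 (iv D10124)) (tt N7480 D14717))
theorem Q5990 : ∀ i, i < 5990 → P i := stepQ 5989 Q5989 (allL N5989 (tt N4738 F45220) (tt N5989 F45221) (tt N7474 (iv F64391)) (tt N4730 F45222) (tt N7478 (iv F64423)) (tt N7396 (iv F64088)) (tt N5989 F45223) (tt N4727 (iv D10125)) (tt N7481 D14718) (tt N4755 F45224))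
theorem Q5991 : ∀ i, i < 5991 → P i := stepQ 5990 Q5990 (allL N5990 (tt N4739 F45225) (tt N5990 F45226) (tt N7475 (iv F64396)) (tt N5990 F45227) (tt N7479 (iv F64428)) (tt N7397 (iv F64093)) (tt N4728 F45228) (tt N7481 (iv F64444)) (tt N4727 (iv D10126)) (tt N7482 D14719))
theorem Q5992 : ∀ i, i < 5992 → P i := stepQ 5991 Q5991 (allL N5991 (tt N4740 F45229) (tt N5991 F45230) (tt N7476 (iv F64404)) (tt N5991 F45231) (tt N7480 (iv F64437)) (tt N4729 F45232) (tt N7482 (iv F64448)) (tt N5991 F45233) (tt N4757 F45234) (tt N4728 (iv D10127)))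
theorem Q5993 : ∀ i, i < 5993 → P i := stepQ 5992 Q5992 (allL N5992 (tt N7048 (iv F202439)) (tt N7257 (iv F63493)) (tt N4784 F45235) (tt N4731 (iv D10128)) (tt N5133 F45236) (tt N6952 (iv F61081)) (tt N7483 D14720) (tt N5992 F45237) (tt N7484 D14721) (tt N4758 F45238))
theorem Q5994 : ∀ i, i < 5994 → P i := stepQ 5993 Q5993 (allL N5993 (tt N7472 (iv F64382)) (tt N7258 (iv F63498)) (tt N4736 F45239) (tt N7483 (iv F64451)) (tt N4732 F45240) (tt N7485 D14722) (tt N4731 (iv D10129)) (tt N7486 D14723) (tt N7487 D14724) (tt N4759 F45241))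
theorem Q5995 : ∀ i, i < 5995 → P i := stepQ 5994 Q5994 (allL N5994 (tt N7473 (iv F64386)) (tt N7259 (iv F63502)) (tt N4737 F45242) (tt N7488 D14725) (tt N4733 F45243) (tt N6954 (iv F61089)) (tt N7487 (iv F64465)) (tt N5994 F45244) (tt N4731 (iv D10130)) (tt N7489 D14726))
theorem Q5996 : ∀ i, i < 5996 → P i := stepQ 5995 Q5995 (allL N5995 (tt N7474 (iv F64390)) (tt N7260 (iv F63506)) (tt N4738 F45245) (tt N5136 F45246) (tt N7486 (iv F64460)) (tt N7402 (iv F64110)) (tt N5995 F45247) (tt N4732 (iv D10131)) (tt N7490 D14727) (tt N4761 F45248))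
theorem Q5997 : ∀ i, i < 5997 → P i := stepQ 5996 Q5996 (allL N5996 (tt N7475 (iv F64395)) (tt N7261 (iv F63511)) (tt N4739 F45249) (tt N7491 D14728) (tt N7487 (iv F64464)) (tt N7403 (iv F64113)) (tt N4733 F45250) (tt N7490 (iv F64473)) (tt N4732 (iv D10132)) (tt N7492 D14729))
theorem Q5998 : ∀ i, i < 5998 → P i := stepQ 5997 Q5997 (allL N5997 (tt N7280 F202049) (tt N4751 (iv F202340)) (tt N5997 F45251) (tt N4733 (iv D10133)) (tt N7493 D14730) (tt N4734 F45252) (tt N7491 (iv F64475)) (tt N5997 F45253) (tt N4748 F202050) (tt N7494 D14731))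
theorem Q5999 : ∀ i, i < 5999 → P i := stepQ 5998 Q5998 (allL N5998 (tt N7476 (iv F64403)) (tt N7262 (iv F63518)) (tt N4740 F45255) (tt N7494 (iv F64484)) (tt N7489 (iv F64468)) (tt N4735 F45256) (tt N7492 (iv F64478)) (tt N5998 F45257) (tt N4764 F45258) (tt N4733 (iv D10134)))
theorem Q6000 : ∀ i, i < 6000 → P i := stepQ 5999 Q5999 (allL N5999 (tt N7281 F202051) (tt N4752 (iv F202342)) (tt N5999 F45262) (tt N4735 F45263) (tt N6979 (iv F202443)) (tt N7494 (iv F64485)) (tt N7406 (iv F64126)) (tt N5999 F45264) (tt N7289 F202045) (tt N4734 (iv D10136)))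
theorem Q6001 : ∀ i, i < 6001 → P i := stepQ 6000 Q6000 (allL N6000 (tt N7477 (iv F64416)) (tt N4741 F45265) (tt N7485 (iv F64457)) (tt N4787 F45266) (tt N7407 (iv F64129)) (tt N4736 (iv D10137)) (tt N6961 (iv F61111)) (tt N7495 D14735) (tt N7496 D14736) (tt N4767 F45267))
theorem Q6002 : ∀ i, i < 6002 → P i := stepQ 6001 Q6001 (allL N6001 (tt N7478 (iv F64420)) (tt N4742 F45268) (tt N7486 (iv F64459)) (tt N4788 F45269) (tt N4738 F45270) (tt N7495 (iv F64499)) (tt N6001 F45271) (tt N4736 (iv D10138)) (tt N7497 D14737) (tt N4768 F45272))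
theorem Q6003 : ∀ i, i < 6003 → P i := stepQ 6002 Q6002 (allL N6002 (tt N7479 (iv F64426)) (tt N4743 F45273) (tt N7487 (iv F64463)) (tt N7498 D14738) (tt N4739 F45274) (tt N7496 (iv F64502)) (tt N4737 F45275) (tt N7497 (iv F64506)) (tt N4736 (iv D10139)) (tt N7499 D14739))
theorem Q6004 : ∀ i, i < 6004 → P i := stepQ 6003 Q6003 (allL N6003 (tt N7041 (iv F203362)) (tt N4744 F45276) (tt N7500 D14740) (tt N4737 (iv D10140)) (tt N6003 F45277) (tt N6964 (iv F61122)) (tt N7498 (iv F64509)) (tt N6003 F45278) (tt N4790 F45279) (tt N7501 D14741))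
theorem Q6005 : ∀ i, i < 6005 → P i := stepQ 6004 Q6004 (allL N6004 (tt N7480 (iv F64435)) (tt N4745 F45280) (tt N7489 (iv F64467)) (tt N7501 (iv F64519)) (tt N4740 F45281) (tt N6965 (iv F61127)) (tt N7499 (iv F64513)) (tt N6004 F45282) (tt N4771 F45283) (tt N4737 (iv D10141)))
theorem Q6006 : ∀ i, i < 6006 → P i := stepQ 6005 Q6005 (allL N6005 (tt N7481 (iv F64440)) (tt N4746 F45284) (tt N7490 (iv F64471)) (tt N6005 F45285) (tt N7497 (iv F64504)) (tt N7412 (iv F64146)) (tt N6005 F45286) (tt N4739 F45287) (tt N4738 (iv D10142)) (tt N7502 D14742))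
theorem Q6007 : ∀ i, i < 6007 → P i := stepQ 6006 Q6006 (allL N6006 (tt N7482 (iv F64445)) (tt N4747 F45288) (tt N7492 (iv F64477)) (tt N6006 F45289) (tt N7499 (iv F64512)) (tt N7413 (iv F64150)) (tt N4740 F45290) (tt N7502 (iv F64525)) (tt N4773 F45291) (tt N4739 (iv D10143)))
theorem Q6008 : ∀ i, i < 6008 → P i := stepQ 6007 Q6007 (allL N6007 (tt N6007 F45292) (tt N7495 (iv F64497)) (tt N7270 (iv F63554)) (tt N4792 F45293) (tt N7414 (iv F64155)) (tt N4742 F45294) (tt N7503 D14743) (tt N4741 (iv D10144)) (tt N7504 D14744) (tt N4774 F45295))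
theorem Q6009 : ∀ i, i < 6009 → P i := stepQ 6008 Q6008 (allL N6008 (tt N6008 F45296) (tt N7496 (iv F64501)) (tt N7271 (iv F63559)) (tt N7505 D14745) (tt N7415 (iv F64159)) (tt N4743 F45297) (tt N6969 (iv F61142)) (tt N7504 (iv F64533)) (tt N4741 (iv D10145)) (tt N7506 D14746))
theorem Q6010 : ∀ i, i < 6010 → P i := stepQ 6009 Q6009 (allL N6009 (tt N6009 F45298) (tt N7497 (iv F64503)) (tt N7272 (iv F63562)) (tt N7507 D14747) (tt N4746 F45299) (tt N7504 (iv F64532)) (tt N6009 F45300) (tt N4743 F45301) (tt N4742 (iv D10146)) (tt N7508 D14748))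
theorem Q6011 : ∀ i, i < 6011 → P i := stepQ 6010 Q6010 (allL N6010 (tt N6010 F45302) (tt N7498 (iv F64507)) (tt N7509 D14749) (tt N4743 (iv D10147)) (tt N6010 F45303) (tt N7505 (iv F64535)) (tt N4744 F45304) (tt N7507 (iv F64543)) (tt N4795 F45305) (tt N7510 D14750))
theorem Q6012 : ∀ i, i < 6012 → P i := stepQ 6011 Q6011 (allL N6011 (tt N6011 F45306) (tt N7499 (iv F64511)) (tt N7274 (iv F63570)) (tt N7510 (iv F64555)) (tt N4747 F45307) (tt N7506 (iv F64538)) (tt N4745 F45308) (tt N7508 (iv F64548)) (tt N4778 F45309) (tt N4743 (iv D10148)))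
theorem Q6013 : ∀ i, i < 6013 → P i := stepQ 6012 Q6012 (allL N6012 (tt N6012 F45310) (tt N7511 D14751) (tt N4744 (iv D10149)) (tt N7275 (iv F63575)) (tt N6012 F45311) (tt N6973 (iv F61155)) (tt N7509 (iv F64552)) (tt N6012 F45312) (tt N4797 F45313) (tt N7512 D14752))
theorem Q6014 : ∀ i, i < 6014 → P i := stepQ 6013 Q6013 (allL N6013 (tt N6013 F45314) (tt N7501 (iv F64518)) (tt N7512 (iv F64562)) (tt N4745 F45315) (tt N6013 F45316) (tt N6974 (iv F61160)) (tt N7510 (iv F64557)) (tt N6013 F45317) (tt N7513 D14753) (tt N4744 (iv D10150)))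
theorem Q6015 : ∀ i, i < 6015 → P i := stepQ 6014 Q6014 (allL N6014 (tt N6014 F45318) (tt N7502 (iv F64522)) (tt N7277 (iv F63582)) (tt N6014 F45319) (tt N7508 (iv F64546)) (tt N7421 (iv F64180)) (tt N6014 F45320) (tt N4747 F45321) (tt N4781 F45322) (tt N4746 (iv D10151)))
theorem Q6016 : ∀ i, i < 6016 → P i := stepQ 6015 Q6015 (allL N6015 (tt N7278 (iv F63586)) (tt N4749 F45323) (tt N6015 F45324) (tt N7514 D14754) (tt N4748 (iv D10152)) (tt N6976 (iv F61168)) (tt N7515 D14755) (tt N6015 F45325) (tt N7493 (iv F202451)) (tt N7470 (iv F64361)))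
theorem Q6017 : ∀ i, i < 6017 → P i := stepQ 6016 Q6016 (allL N6016 (tt N7279 (iv F63590)) (tt N4750 F45326) (tt N6016 F45327) (tt N5137 F201861) (tt N7515 (iv F64575)) (tt N7423 (iv F64188)) (tt N4748 (iv D10153)) (tt N7516 D14757) (tt N7491 (iv F202298)) (tt N7471 (iv F64365)))
theorem Q6018 : ∀ i, i < 6018 → P i := stepQ 6017 Q6017 (allL N6017 (tt N4758 F45339) (tt N7514 (iv F64570)) (tt N4800 F45340) (tt N4749 (iv D10157)) (tt N5149 F45341) (tt N6980 (iv F61187)) (tt N7517 D14764) (tt N6017 F45342) (tt N7518 D14765) (tt N7048 F202791))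
theorem Q6019 : ∀ i, i < 6019 → P i := stepQ 6018 Q6018 (allL N6018 (tt N4759 F45343) (tt N7515 (iv F64573)) (tt N4753 F45344) (tt N7517 (iv F64607)) (tt N4750 F45345) (tt N7519 D14766) (tt N4749 (iv D10158)) (tt N7520 D14767) (tt N7521 D14768) (tt N7472 (iv F64385)))
theorem Q6020 : ∀ i, i < 6020 → P i := stepQ 6019 Q6019 (allL N6019 (tt N4760 F45346) (tt N7493 F202792) (tt N4754 F45347) (tt N7522 D14769) (tt N4751 F45348) (tt N6982 (iv F61195)) (tt N7521 (iv F64622)) (tt N6019 F45349) (tt N4749 (iv D10159)) (tt N7523 D14770))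
theorem Q6021 : ∀ i, i < 6021 → P i := stepQ 6020 Q6020 (allL N6020 (tt N4761 F45350) (tt N7516 (iv F64580)) (tt N4755 F45351) (tt N5151 F45352) (tt N7520 (iv F64617)) (tt N7427 (iv F64210)) (tt N6020 F45353) (tt N4750 (iv D10160)) (tt N7524 D14771) (tt N7474 (iv F64394)))
theorem Q6022 : ∀ i, i < 6022 → P i := stepQ 6021 Q6021 (allL N6021 (tt N4762 F45354) (tt N7491 F202615) (tt N4756 F45355) (tt N7261 F202616) (tt N7521 (iv F64621)) (tt N7428 (iv F64213)) (tt N4751 F45356) (tt N7524 (iv F64632)) (tt N4750 (iv D10161)) (tt N7525 D14773))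
theorem Q6023 : ∀ i, i < 6023 → P i := stepQ 6022 Q6022 (allL N6022 (tt N4764 F45362) (tt N7494 F202793) (tt N4757 F45363) (tt N7262 F202794) (tt N7523 (iv F64627)) (tt N4752 F45364) (tt N7525 (iv F64639)) (tt N6022 F45365) (tt N7476 (iv F64407)) (tt N4751 (iv D10163)))
theorem Q6024 : ∀ i, i < 6024 → P i := stepQ 6023 Q6023 (allL N6023 (tt N4767 F45374) (tt N6023 F45375) (tt N7519 (iv F64614)) (tt N4803 F45376) (tt N7430 (iv F64233)) (tt N4753 (iv D10166)) (tt N6988 (iv F61225)) (tt N7526 D14779) (tt N7527 D14780) (tt N7477 (iv F64419)))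
theorem Q6025 : ∀ i, i < 6025 → P i := stepQ 6024 Q6024 (allL N6024 (tt N4768 F45377) (tt N6024 F45378) (tt N7520 (iv F64616)) (tt N4804 F45379) (tt N4755 F45380) (tt N7526 (iv F64664)) (tt N6024 F45381) (tt N4753 (iv D10167)) (tt N7528 D14781) (tt N7478 (iv F64425)))
theorem Q6026 : ∀ i, i < 6026 → P i := stepQ 6025 Q6025 (allL N6025 (tt N4769 F45382) (tt N6025 F45383) (tt N7521 (iv F64620)) (tt N7529 D14782) (tt N4756 F45384) (tt N7527 (iv F64667)) (tt N4754 F45385) (tt N7528 (iv F64672)) (tt N4753 (iv D10168)) (tt N7530 D14783))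
theorem Q6027 : ∀ i, i < 6027 → P i := stepQ 6026 Q6026 (allL N6026 (tt N4770 F45386) (tt N6026 F45387) (tt N7531 D14784) (tt N4754 (iv D10169)) (tt N4899 F45388) (tt N6991 (iv F61238)) (tt N7529 (iv F64676)) (tt N6026 F45389) (tt N4806 F45390) (tt N7532 D14785))
theorem Q6028 : ∀ i, i < 6028 → P i := stepQ 6027 Q6027 (allL N6027 (tt N4771 F45391) (tt N6027 F45392) (tt N7523 (iv F64626)) (tt N7532 (iv F64688)) (tt N4757 F45393) (tt N6992 (iv F61244)) (tt N7530 (iv F64681)) (tt N6027 F45394) (tt N7480 (iv F64439)) (tt N4754 (iv D10170)))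
theorem Q6029 : ∀ i, i < 6029 → P i := stepQ 6028 Q6028 (allL N6028 (tt N4772 F45395) (tt N6028 F45396) (tt N7524 (iv F64630)) (tt N4901 F45397) (tt N7528 (iv F64670)) (tt N7435 (iv F64252)) (tt N6028 F45398) (tt N4756 F45399) (tt N4755 (iv D10171)) (tt N7533 D14786))
theorem Q6030 : ∀ i, i < 6030 → P i := stepQ 6029 Q6029 (allL N6029 (tt N4773 F45400) (tt N6029 F45401) (tt N7525 (iv F64638)) (tt N4902 F45402) (tt N7530 (iv F64680)) (tt N7436 (iv F64257)) (tt N4757 F45403) (tt N7533 (iv F64695)) (tt N7482 (iv F64449)) (tt N4756 (iv D10172)))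
theorem Q6031 : ∀ i, i < 6031 → P i := stepQ 6030 Q6030 (allL N6030 (tt N7517 (iv F64605)) (tt N7297 (iv F63672)) (tt N4808 F45404) (tt N4759 F45405) (tt N5154 F45406) (tt N7534 D14787) (tt N4758 (iv D10173)) (tt N7535 D14788) (tt N7536 D14789) (tt N7483 (iv F64453)))
theorem Q6032 : ∀ i, i < 6032 → P i := stepQ 6031 Q6031 (allL N6031 (tt N7518 (iv F64609)) (tt N7298 (iv F63676)) (tt N4809 F45407) (tt N7537 D14790) (tt N5155 F45408) (tt N6996 (iv F61260)) (tt N7536 (iv F64704)) (tt N6031 F45409) (tt N4758 (iv D10174)) (tt N7538 D14791))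
theorem Q6033 : ∀ i, i < 6033 → P i := stepQ 6032 Q6032 (allL N6032 (tt N7519 (iv F64613)) (tt N7299 (iv F63680)) (tt N4767 F45410) (tt N7534 (iv F64697)) (tt N7439 (iv F64265)) (tt N4759 (iv D10175)) (tt N6997 (iv F61263)) (tt N7539 D14792) (tt N7540 D14793) (tt N7485 (iv F64458)))
theorem Q6034 : ∀ i, i < 6034 → P i := stepQ 6033 Q6033 (allL N6033 (tt N7520 (iv F64615)) (tt N7300 (iv F63682)) (tt N4768 F45411) (tt N7535 (iv F64699)) (tt N4761 F45412) (tt N7539 (iv F64711)) (tt N6033 F45413) (tt N4759 (iv D10176)) (tt N7541 D14794) (tt N7486 (iv F64462)))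
theorem Q6035 : ∀ i, i < 6035 → P i := stepQ 6034 Q6034 (allL N6034 (tt N7521 (iv F64619)) (tt N7301 (iv F63686)) (tt N4769 F45414) (tt N7542 D14795) (tt N4762 F45415) (tt N7540 (iv F64713)) (tt N4760 F45416) (tt N7541 (iv F64717)) (tt N4759 (iv D10177)) (tt N7543 D14796))
theorem Q6036 : ∀ i, i < 6036 → P i := stepQ 6035 Q6035 (allL N6035 (tt N7522 (iv F64623)) (tt N7302 (iv F63690)) (tt N7544 D14797) (tt N4760 (iv D10178)) (tt N7545 D14798) (tt N7000 (iv F61270)) (tt N7542 (iv F64718)) (tt N6035 F45417) (tt N7537 (iv F64706)) (tt N7546 D14799))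
theorem Q6037 : ∀ i, i < 6037 → P i := stepQ 6036 Q6036 (allL N6036 (tt N7523 (iv F64625)) (tt N7303 (iv F63692)) (tt N4771 F45418) (tt N7546 (iv F64726)) (tt N4764 F45419) (tt N7001 (iv F61274)) (tt N7543 (iv F64721)) (tt N6036 F45420) (tt N7489 (iv F64470)) (tt N4760 (iv D10179)))
theorem Q6038 : ∀ i, i < 6038 → P i := stepQ 6037 Q6037 (allL N6037 (tt N7524 (iv F64629)) (tt N7304 (iv F63696)) (tt N4772 F45421) (tt N7547 D14800) (tt N7541 (iv F64715)) (tt N7444 (iv F64274)) (tt N6037 F45422) (tt N4762 F45423) (tt N4761 (iv D10180)) (tt N7548 D14801))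
theorem Q6039 : ∀ i, i < 6039 → P i := stepQ 6038 Q6038 (allL N6038 (tt N7261 F202610) (tt N7305 (iv F63700)) (tt N4909 F45424) (tt N4762 (iv D10181)) (tt N7549 D14802) (tt N7445 (iv F64277)) (tt N4763 F45425) (tt N7547 (iv F64730)) (tt N5161 F45426) (tt N7550 D14803))
theorem Q6040 : ∀ i, i < 6040 → P i := stepQ 6039 Q6039 (allL N6039 (tt N7525 (iv F64637)) (tt N7306 (iv F63704)) (tt N4773 F45427) (tt N7550 (iv F64739)) (tt N7543 (iv F64720)) (tt N7446 (iv F64281)) (tt N4764 F45428) (tt N7548 (iv F64734)) (tt N7492 (iv F64479)) (tt N4762 (iv D10182)))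
theorem Q6041 : ∀ i, i < 6041 → P i := stepQ 6040 Q6040 (allL N6040 (tt N7259 F202799) (tt N7307 (iv F63707)) (tt N4911 F45429) (tt N7545 (iv F64724)) (tt N4763 (iv D10183)) (tt N7551 D14804) (tt N7549 (iv F64736)) (tt N6040 F45430) (tt N5162 F45431) (tt N7552 D14805))
theorem Q6042 : ∀ i, i < 6042 → P i := stepQ 6041 Q6041 (allL N6041 (tt N7262 F202800) (tt N7308 (iv F63711)) (tt N4912 F45432) (tt N4764 F45433) (tt N7552 (iv F64746)) (tt N4766 F45434) (tt N7550 (iv F64740)) (tt N6041 F45435) (tt N7288 F202801) (tt N4763 (iv D10184)))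
theorem Q6043 : ∀ i, i < 6043 → P i := stepQ 6042 Q6042 (allL N6042 (tt N6736 F202805) (tt N7309 (iv F63716)) (tt N4913 F45436) (tt N7007 (iv F61292)) (tt N7551 (iv F64742)) (tt N4765 (iv D10185)) (tt N7553 D14807) (tt N6042 F45437) (tt N5163 F45438) (tt N7554 D14808))
theorem Q6044 : ∀ i, i < 6044 → P i := stepQ 6043 Q6043 (allL N6043 (tt N6738 F202806) (tt N7310 (iv F63720)) (tt N4914 F45439) (tt N7008 (iv F61296)) (tt N4766 F45440) (tt N7554 (iv F64755)) (tt N7450 (iv F64292)) (tt N6043 F45441) (tt N6757 F202807) (tt N4765 (iv D10186)))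
theorem Q6045 : ∀ i, i < 6045 → P i := stepQ 6044 Q6044 (allL N6044 (tt N7526 (iv F64661)) (tt N4774 F45445) (tt N7539 (iv F64710)) (tt N4815 F45446) (tt N7451 (iv F64298)) (tt N4768 F45447) (tt N7555 D14810) (tt N4767 (iv D10188)) (tt N7556 D14811) (tt N7495 (iv F64500)))
theorem Q6046 : ∀ i, i < 6046 → P i := stepQ 6045 Q6045 (allL N6045 (tt N7527 (iv F64665)) (tt N4775 F45448) (tt N7540 (iv F64712)) (tt N7557 D14812) (tt N7452 (iv F64301)) (tt N4769 F45449) (tt N7011 (iv F61307)) (tt N7556 (iv F64766)) (tt N4767 (iv D10189)) (tt N7558 D14813))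
theorem Q6047 : ∀ i, i < 6047 → P i := stepQ 6046 Q6046 (allL N6046 (tt N7528 (iv F64668)) (tt N4776 F45450) (tt N7541 (iv F64714)) (tt N7559 D14814) (tt N4772 F45451) (tt N7556 (iv F64765)) (tt N6046 F45452) (tt N4769 F45453) (tt N4768 (iv D10190)) (tt N7560 D14815))
theorem Q6048 : ∀ i, i < 6048 → P i := stepQ 6047 Q6047 (allL N6047 (tt N7529 (iv F64673)) (tt N4777 F45454) (tt N7561 D14816) (tt N4769 (iv D10191)) (tt N4918 F45455) (tt N7557 (iv F64768)) (tt N4770 F45456) (tt N7559 (iv F64775)) (tt N4818 F45457) (tt N7562 D14817))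
theorem Q6049 : ∀ i, i < 6049 → P i := stepQ 6048 Q6048 (allL N6048 (tt N7530 (iv F64678)) (tt N4778 F45458) (tt N7543 (iv F64719)) (tt N7562 (iv F64785)) (tt N4773 F45459) (tt N7558 (iv F64771)) (tt N4771 F45460) (tt N7560 (iv F64780)) (tt N7499 (iv F64514)) (tt N4769 (iv D10192)))
theorem Q6050 : ∀ i, i < 6050 → P i := stepQ 6049 Q6049 (allL N6049 (tt N7531 (iv F64682)) (tt N7563 D14818) (tt N4770 (iv D10193)) (tt N7544 (iv F64722)) (tt N4920 F45461) (tt N7015 (iv F61320)) (tt N7561 (iv F64782)) (tt N6049 F45462) (tt N4820 F45463) (tt N7564 D14819))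
theorem Q6051 : ∀ i, i < 6051 → P i := stepQ 6050 Q6050 (allL N6050 (tt N7532 (iv F64686)) (tt N4780 F45464) (tt N7564 (iv F64792)) (tt N4771 F45465) (tt N4921 F45466) (tt N7016 (iv F61326)) (tt N7562 (iv F64787)) (tt N6050 F45467) (tt N7565 D14820) (tt N4770 (iv D10194)))
theorem Q6052 : ∀ i, i < 6052 → P i := stepQ 6051 Q6051 (allL N6051 (tt N7533 (iv F64691)) (tt N4781 F45468) (tt N7548 (iv F64732)) (tt N4922 F45469) (tt N7560 (iv F64778)) (tt N7458 (iv F64320)) (tt N6051 F45470) (tt N4773 F45471) (tt N7502 (iv F64526)) (tt N4772 (iv D10195)))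
theorem Q6053 : ∀ i, i < 6053 → P i := stepQ 6052 Q6052 (allL N6052 (tt N6052 F45472) (tt N7555 (iv F64761)) (tt N7319 (iv F63756)) (tt N4823 F45473) (tt N7459 (iv F64324)) (tt N6052 F45474) (tt N4774 (iv D10196)) (tt N7018 (iv F61335)) (tt N7566 D14821) (tt N7503 (iv F64530)))
theorem Q6054 : ∀ i, i < 6054 → P i := stepQ 6053 Q6053 (allL N6053 (tt N6053 F45475) (tt N7556 (iv F64764)) (tt N7320 (iv F63760)) (tt N7567 D14822) (tt N7460 (iv F64326)) (tt N4776 F45476) (tt N7566 (iv F64801)) (tt N4775 F45477) (tt N4774 (iv D10197)) (tt N7568 D14823))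
theorem Q6055 : ∀ i, i < 6055 → P i := stepQ 6054 Q6054 (allL N6054 (tt N6054 F45478) (tt N7557 (iv F64767)) (tt N7569 D14824) (tt N4775 (iv D10198)) (tt N7570 D14825) (tt N4777 F45479) (tt N7020 (iv F61341)) (tt N7567 (iv F64804)) (tt N4825 F45480) (tt N7571 D14826))
theorem Q6056 : ∀ i, i < 6056 → P i := stepQ 6055 Q6055 (allL N6055 (tt N6055 F45481) (tt N7558 (iv F64770)) (tt N7322 (iv F63767)) (tt N7571 (iv F64816)) (tt N7462 (iv F64333)) (tt N4778 F45482) (tt N7021 (iv F61345)) (tt N7568 (iv F64808)) (tt N7506 (iv F64539)) (tt N4775 (iv D10199)))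
theorem Q6057 : ∀ i, i < 6057 → P i := stepQ 6056 Q6056 (allL N6056 (tt N6056 F45483) (tt N7559 (iv F64772)) (tt N7572 D14827) (tt N4776 (iv D10200)) (tt N4927 F45484) (tt N7567 (iv F64803)) (tt N6056 F45485) (tt N4777 F45486) (tt N4827 F45487) (tt N7573 D14828))
theorem Q6058 : ∀ i, i < 6058 → P i := stepQ 6057 Q6057 (allL N6057 (tt N6057 F45488) (tt N7560 (iv F64777)) (tt N7324 (iv F63775)) (tt N7573 (iv F64824)) (tt N4781 F45489) (tt N7568 (iv F64807)) (tt N6057 F45490) (tt N4778 F45491) (tt N7508 (iv F64549)) (tt N4776 (iv D10201)))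
theorem Q6059 : ∀ i, i < 6059 → P i := stepQ 6058 Q6058 (allL N6058 (tt N6058 F45492) (tt N7574 D14829) (tt N4777 (iv D10202)) (tt N7325 (iv F63780)) (tt N4929 F45493) (tt N7569 (iv F64810)) (tt N4779 F45494) (tt N7572 (iv F64821)) (tt N4829 F45495) (tt N7575 D14830))
theorem Q6060 : ∀ i, i < 6060 → P i := stepQ 6059 Q6059 (allL N6059 (tt N6059 F45496) (tt N7562 (iv F64784)) (tt N7575 (iv F64832)) (tt N4778 F45497) (tt N4930 F45498) (tt N7571 (iv F64817)) (tt N4780 F45499) (tt N7573 (iv F64827)) (tt N7576 D14831) (tt N4777 (iv D10203)))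
theorem Q6061 : ∀ i, i < 6061 → P i := stepQ 6060 Q6060 (allL N6060 (tt N7577 D14832) (tt N4779 (iv D10204)) (tt N7563 (iv F64788)) (tt N7327 (iv F63788)) (tt N4931 F45500) (tt N7026 (iv F61364)) (tt N7574 (iv F64829)) (tt N6060 F45501) (tt N4831 F45502) (tt N7578 D14833))
theorem Q6062 : ∀ i, i < 6062 → P i := stepQ 6061 Q6061 (allL N6061 (tt N6061 F45503) (tt N7578 (iv F64843)) (tt N4780 F45504) (tt N7328 (iv F63794)) (tt N4932 F45505) (tt N7027 (iv F61370)) (tt N7575 (iv F64834)) (tt N6061 F45506) (tt N7579 D14834) (tt N4779 (iv D10205)))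
theorem Q6063 : ∀ i, i < 6063 → P i := stepQ 6062 Q6062 (allL N6062 (tt N6062 F45507) (tt N7565 (iv F64795)) (tt N7579 (iv F64847)) (tt N7513 (iv F64566)) (tt N4933 F45508) (tt N7028 (iv F61374)) (tt N7576 (iv F64837)) (tt N6062 F45509) (tt N4780 (iv D10206)) (tt N4833 F45510))
theorem Q6064 : ∀ i, i < 6064 → P i := stepQ 6063 Q6063 (allL N6063 (tt N4787 F45581) (tt N6063 F45582) (tt N7045 (iv F203939)) (tt N7477 (iv F64418)) (tt N6063 F45583) (tt N4782 (iv D10221)) (tt N7038 (iv F61746)) (tt N7580 D14859) (tt N7042 (iv F203943)) (tt N4803 F45584))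
theorem Q6065 : ∀ i, i < 6065 → P i := stepQ 6064 Q6064 (allL N6064 (tt N4788 F45585) (tt N6064 F45586) (tt N7046 (iv F203908)) (tt N7478 (iv F64422)) (tt N4783 F45587) (tt N7580 (iv F64971)) (tt N6064 F45588) (tt N4782 (iv D10222)) (tt N7043 (iv F203915)) (tt N4804 F45589))
theorem Q6066 : ∀ i, i < 6066 → P i := stepQ 6065 Q6065 (allL N6065 (tt N7047 (iv F203180)) (tt N6065 F45615) (tt N7483 (iv F64450)) (tt N4785 F45616) (tt N5172 F45617) (tt N7581 D14867) (tt N4784 (iv D10228)) (tt N7582 D14868) (tt N7583 D14869) (tt N4808 F45618))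
theorem Q6067 : ∀ i, i < 6067 → P i := stepQ 6066 Q6066 (allL N6066 (tt N6964 (iv F203369)) (tt N6066 F45619) (tt N7484 (iv F64454)) (tt N6948 (iv F203356)) (tt N5173 F45620) (tt N7041 (iv F61783)) (tt N7583 (iv F65016)) (tt N6066 F45621) (tt N4784 (iv D10229)) (tt N7584 D14871))
theorem Q6068 : ∀ i, i < 6068 → P i := stepQ 6067 Q6067 (allL N6067 (tt N7045 (iv F203938)) (tt N6067 F45622) (tt N4787 F45623) (tt N7581 (iv F65007)) (tt N6067 F45624) (tt N4785 (iv D10230)) (tt N7042 (iv F61788)) (tt N7585 D14872) (tt N7038 (iv F203941)) (tt N4810 F45625))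
theorem Q6069 : ∀ i, i < 6069 → P i := stepQ 6068 Q6068 (allL N6068 (tt N7046 (iv F203907)) (tt N6068 F45626) (tt N4788 F45627) (tt N7582 (iv F65010)) (tt N4786 F45628) (tt N7585 (iv F65027)) (tt N6068 F45629) (tt N4785 (iv D10231)) (tt N7039 (iv F204038)) (tt N4811 F45630))
theorem Q6070 : ∀ i, i < 6070 → P i := stepQ 6069 Q6069 (allL N6069 (tt N7580 (iv F64968)) (tt N4792 F45677) (tt N7585 (iv F65025)) (tt N7495 (iv F64498)) (tt N6069 F45678) (tt N4788 F45679) (tt N7586 D14888) (tt N4787 (iv D10242)) (tt N7587 D14889) (tt N4815 F45680))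
theorem Q6071 : ∀ i, i < 6071 → P i := stepQ 6070 Q6070 (allL N6070 (tt N7042 (iv F203942)) (tt N4793 F45681) (tt N7038 (iv F203940)) (tt N7588 D14890) (tt N6070 F45682) (tt N4789 F45683) (tt N7045 (iv F61850)) (tt N7587 (iv F65101)) (tt N4787 (iv D10243)) (tt N7062 (iv F204040)))
theorem Q6072 : ∀ i, i < 6072 → P i := stepQ 6071 Q6071 (allL N6071 (tt N7043 (iv F203914)) (tt N4794 F45684) (tt N7039 (iv F204037)) (tt N7589 D14892) (tt N4791 F45685) (tt N7587 (iv F65100)) (tt N6071 F45686) (tt N4789 F45687) (tt N4788 (iv D10244)) (tt N7063 (iv F204043)))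
theorem Q6073 : ∀ i, i < 6073 → P i := stepQ 6072 Q6072 (allL N6072 (tt N7040 F203776) (tt N4795 F45688) (tt N7590 D14894) (tt N4789 (iv D10245)) (tt N6072 F45689) (tt N7588 (iv F65103)) (tt N4790 F45690) (tt N7589 (iv F65111)) (tt N7498 (iv F64510)) (tt N7060 (iv F203981)))
theorem Q6074 : ∀ i, i < 6074 → P i := stepQ 6073 Q6073 (allL N6073 (tt N6952 F202928) (tt N7591 D14896) (tt N4790 (iv D10247)) (tt N6942 F202929) (tt N6073 F45695) (tt N7048 (iv F61861)) (tt N7590 (iv F65118)) (tt N6073 F45696) (tt N7500 (iv F64517)) (tt N6980 (iv F203234)))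
theorem Q6075 : ∀ i, i < 6075 → P i := stepQ 6074 Q6074 (allL N6074 (tt N6074 F45707) (tt N7586 (iv F65094)) (tt N6074 F45708) (tt N7503 (iv F64528)) (tt N6074 F45709) (tt N6074 F45710) (tt N4792 (iv D10250)) (tt N7049 (iv F61876)) (tt N7592 D14899) (tt N4823 F45711))
theorem Q6076 : ∀ i, i < 6076 → P i := stepQ 6075 Q6075 (allL N6075 (tt N6075 F45712) (tt N7587 (iv F65098)) (tt N6075 F45713) (tt N7593 D14900) (tt N6075 F45714) (tt N4794 F45715) (tt N7592 (iv F65137)) (tt N4793 F45716) (tt N4792 (iv D10251)) (tt N7594 D14901))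
theorem Q6077 : ∀ i, i < 6077 → P i := stepQ 6076 Q6076 (allL N6076 (tt N6076 F45717) (tt N7588 (iv F65102)) (tt N7595 D14902) (tt N4793 (iv D10252)) (tt N7596 D14903) (tt N4795 F45718) (tt N7051 (iv F61885)) (tt N7593 (iv F65140)) (tt N7505 (iv F64536)) (tt N7597 D14904))
theorem Q6078 : ∀ i, i < 6078 → P i := stepQ 6077 Q6077 (allL N6077 (tt N6077 F45719) (tt N7062 (iv F204039)) (tt N6077 F45720) (tt N7597 (iv F65154)) (tt N6077 F45721) (tt N4796 F45722) (tt N7052 (iv F61890)) (tt N7594 (iv F65145)) (tt N4826 F45723) (tt N4793 (iv D10253)))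
theorem Q6079 : ∀ i, i < 6079 → P i := stepQ 6078 Q6078 (allL N6078 (tt N6078 F45724) (tt N7589 (iv F65108)) (tt N7598 D14905) (tt N4794 (iv D10254)) (tt N6078 F45725) (tt N7593 (iv F65139)) (tt N6078 F45726) (tt N4795 F45727) (tt N7507 (iv F64544)) (tt N7599 D14906))
theorem Q6080 : ∀ i, i < 6080 → P i := stepQ 6079 Q6079 (allL N6079 (tt N6079 F45728) (tt N7063 (iv F204042)) (tt N6079 F45729) (tt N7599 (iv F65162)) (tt N4799 F45730) (tt N7594 (iv F65144)) (tt N6079 F45731) (tt N4796 F45732) (tt N4828 F45733) (tt N4794 (iv D10255)))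
theorem Q6081 : ∀ i, i < 6081 → P i := stepQ 6080 Q6080 (allL N6080 (tt N6080 F45734) (tt N7600 D14907) (tt N4795 (iv D10256)) (tt N6080 F45735) (tt N6080 F45736) (tt N7595 (iv F65149)) (tt N4797 F45737) (tt N7598 (iv F65160)) (tt N7509 (iv F64553)) (tt N7601 D14908))
theorem Q6082 : ∀ i, i < 6082 → P i := stepQ 6081 Q6081 (allL N6081 (tt N6081 F45738) (tt N7060 (iv F203980)) (tt N7601 (iv F65170)) (tt N4796 F45739) (tt N6081 F45740) (tt N7597 (iv F65155)) (tt N4798 F45741) (tt N7599 (iv F65165)) (tt N7602 D14909) (tt N4795 (iv D10257)))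
theorem Q6083 : ∀ i, i < 6083 → P i := stepQ 6082 Q6082 (allL N6082 (tt N7603 D14910) (tt N4797 (iv D10258)) (tt N7591 (iv F65123)) (tt N6082 F45742) (tt N6082 F45743) (tt N7057 (iv F61908)) (tt N7600 (iv F65168)) (tt N6082 F45744) (tt N7511 (iv F64560)) (tt N7604 D14911))
theorem Q6084 : ∀ i, i < 6084 → P i := stepQ 6083 Q6083 (allL N6083 (tt N6083 F45745) (tt N7604 (iv F65182)) (tt N4798 F45746) (tt N6083 F45747) (tt N6083 F45748) (tt N7058 (iv F61913)) (tt N7601 (iv F65173)) (tt N6083 F45749) (tt N7605 D14912) (tt N4797 (iv D10259)))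
theorem Q6085 : ∀ i, i < 6085 → P i := stepQ 6084 Q6084 (allL N6084 (tt N6084 F45750) (tt N7061 (iv F203983)) (tt N7605 (iv F65187)) (tt N4833 F45751) (tt N6084 F45752) (tt N7059 (iv F61917)) (tt N7602 (iv F65177)) (tt N6084 F45753) (tt N4798 (iv D10260)) (tt N7513 (iv F64569)))
theorem Q6086 : ∀ i, i < 6086 → P i := stepQ 6085 Q6085 (allL N6085 (tt N4808 F45785) (tt N7056 (iv F203892)) (tt N7517 (iv F64606)) (tt N4801 F45786) (tt N5192 F45787) (tt N7606 D14923) (tt N4800 (iv D10267)) (tt N7607 D14924) (tt N7608 D14925) (tt N7047 F203534))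
theorem Q6087 : ∀ i, i < 6087 → P i := stepQ 6086 Q6086 (allL N6086 (tt N4809 F45788) (tt N7059 (iv F203985)) (tt N7518 (iv F64610)) (tt N7089 (iv F203988)) (tt N5193 F45789) (tt N7061 (iv F61973)) (tt N7608 (iv F65246)) (tt N6086 F45790) (tt N4800 (iv D10268)) (tt N7609 D14927))
theorem Q6088 : ∀ i, i < 6088 → P i := stepQ 6087 Q6087 (allL N6087 (tt N4810 F45791) (tt N7052 F204094) (tt N4803 F45792) (tt N7606 (iv F65239)) (tt N6087 F45793) (tt N4801 (iv D10269)) (tt N7062 (iv F61978)) (tt N7610 D14928) (tt N7082 (iv F204304)) (tt N7045 F204095))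
theorem Q6089 : ∀ i, i < 6089 → P i := stepQ 6088 Q6088 (allL N6088 (tt N4811 F45794) (tt N7054 (iv F203901)) (tt N4804 F45795) (tt N7607 (iv F65241)) (tt N4802 F45796) (tt N7610 (iv F65257)) (tt N6088 F45797) (tt N4801 (iv D10270)) (tt N7084 (iv F203906)) (tt N7046 (iv F203909)))
theorem Q6090 : ∀ i, i < 6090 → P i := stepQ 6089 Q6089 (allL N6089 (tt N4815 F45820) (tt N6089 F45821) (tt N7610 (iv F65255)) (tt N7526 (iv F64663)) (tt N6089 F45822) (tt N4804 F45823) (tt N7611 D14936) (tt N4803 (iv D10276)) (tt N7612 D14937) (tt N7580 (iv F64972)))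
theorem Q6091 : ∀ i, i < 6091 → P i := stepQ 6090 Q6090 (allL N6090 (tt N4816 F45824) (tt N6090 F45825) (tt N7082 (iv F204303)) (tt N7613 D14938) (tt N6090 F45826) (tt N4805 F45827) (tt N7065 (iv F62033)) (tt N7612 (iv F65296)) (tt N4803 (iv D10277)) (tt N7075 (iv F204309)))
theorem Q6092 : ∀ i, i < 6092 → P i := stepQ 6091 Q6091 (allL N6091 (tt N4817 F45828) (tt N6091 F45829) (tt N7084 (iv F203905)) (tt N7614 D14940) (tt N4807 F45830) (tt N7612 (iv F65295)) (tt N6091 F45831) (tt N4805 F45832) (tt N4804 (iv D10278)) (tt N7076 (iv F203913)))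
theorem Q6093 : ∀ i, i < 6093 → P i := stepQ 6092 Q6092 (allL N6092 (tt N4818 F45833) (tt N6092 F45834) (tt N7615 D14942) (tt N4805 (iv D10279)) (tt N4937 F45835) (tt N7613 (iv F65299)) (tt N4806 F45836) (tt N7614 (iv F65308)) (tt N7529 (iv F64677)) (tt N7077 (iv F204299)))
theorem Q6094 : ∀ i, i < 6094 → P i := stepQ 6093 Q6093 (allL N6093 (tt N4820 F45841) (tt N7616 D14944) (tt N4806 (iv D10281)) (tt N7088 (iv F204357)) (tt N4939 F45842) (tt N7068 (iv F62049)) (tt N7615 (iv F65316)) (tt N6093 F45843) (tt N7531 (iv F64685)) (tt N7078 (iv F204359)))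
theorem Q6095 : ∀ i, i < 6095 → P i := stepQ 6094 Q6094 (allL N6094 (tt N7606 (iv F65238)) (tt N6094 F45855) (tt N7534 (iv F64696)) (tt N4810 F45856) (tt N7617 D14947) (tt N4808 (iv D10284)) (tt N7069 (iv F62065)) (tt N7618 D14948) (tt N7619 D14949) (tt N7581 (iv F65008)))
theorem Q6096 : ∀ i, i < 6096 → P i := stepQ 6095 Q6095 (allL N6095 (tt N7607 (iv F65240)) (tt N6095 F45857) (tt N7535 (iv F64698)) (tt N4811 F45858) (tt N5198 F45859) (tt N7618 (iv F65338)) (tt N6095 F45860) (tt N4808 (iv D10285)) (tt N7620 D14950) (tt N7582 (iv F65013)))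
theorem Q6097 : ∀ i, i < 6097 → P i := stepQ 6096 Q6096 (allL N6096 (tt N7608 (iv F65244)) (tt N6096 F45861) (tt N7536 (iv F64702)) (tt N7621 D14951) (tt N5199 F45862) (tt N7619 (iv F65340)) (tt N4809 F45863) (tt N7620 (iv F65344)) (tt N4808 (iv D10286)) (tt N7622 D14952))
theorem Q6098 : ∀ i, i < 6098 → P i := stepQ 6097 Q6097 (allL N6097 (tt N7089 (iv F203987)) (tt N6097 F45864) (tt N7623 D14953) (tt N4809 (iv D10287)) (tt N6097 F45865) (tt N7072 (iv F62074)) (tt N7621 (iv F65347)) (tt N6097 F45866) (tt N4813 F45867) (tt N7624 D14954))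
theorem Q6099 : ∀ i, i < 6099 → P i := stepQ 6098 Q6098 (allL N6098 (tt N7609 (iv F65251)) (tt N6098 F45868) (tt N7538 (iv F64707)) (tt N7624 (iv F65356)) (tt N5200 F45869) (tt N7073 (iv F62079)) (tt N7622 (iv F65351)) (tt N6098 F45870) (tt N7584 (iv F65023)) (tt N4809 (iv D10288)))
theorem Q6100 : ∀ i, i < 6100 → P i := stepQ 6099 Q6099 (allL N6099 (tt N7610 (iv F65254)) (tt N6099 F45871) (tt N4815 F45872) (tt N7618 (iv F65337)) (tt N6099 F45873) (tt N4811 F45874) (tt N7625 D14955) (tt N4810 (iv D10289)) (tt N7626 D14956) (tt N7585 (iv F65028)))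
theorem Q6101 : ∀ i, i < 6101 → P i := stepQ 6100 Q6100 (allL N6100 (tt N7082 (iv F204302)) (tt N6100 F45875) (tt N4816 F45876) (tt N7627 D14957) (tt N6100 F45877) (tt N4812 F45878) (tt N7075 (iv F62089)) (tt N7626 (iv F65367)) (tt N4810 (iv D10290)) (tt N7065 (iv F204307)))
theorem Q6102 : ∀ i, i < 6102 → P i := stepQ 6101 Q6101 (allL N6101 (tt N7084 (iv F203904)) (tt N6101 F45879) (tt N4817 F45880) (tt N7628 D14959) (tt N4814 F45881) (tt N7626 (iv F65366)) (tt N6101 F45882) (tt N4812 F45883) (tt N4811 (iv D10291)) (tt N7066 (iv F204072)))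
theorem Q6103 : ∀ i, i < 6103 → P i := stepQ 6102 Q6102 (allL N6102 (tt N7086 (iv F204305)) (tt N6102 F45884) (tt N7629 D14961) (tt N4812 (iv D10292)) (tt N6102 F45885) (tt N7627 (iv F65369)) (tt N4813 F45886) (tt N7628 (iv F65377)) (tt N7621 (iv F65348)) (tt N7067 (iv F204351)))
theorem Q6104 : ∀ i, i < 6104 → P i := stepQ 6103 Q6103 (allL N6103 (tt N7088 (iv F204356)) (tt N7630 D14963) (tt N4813 (iv D10294)) (tt N4820 F45891) (tt N6103 F45892) (tt N7078 (iv F62102)) (tt N7629 (iv F65385)) (tt N6103 F45893) (tt N7623 (iv F65354)) (tt N7068 (iv F204353)))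
theorem Q6105 : ∀ i, i < 6105 → P i := stepQ 6104 Q6104 (allL N6104 (tt N7611 (iv F65288)) (tt N4823 F45904) (tt N7625 (iv F65360)) (tt N7555 (iv F64762)) (tt N6104 F45905) (tt N6104 F45906) (tt N4815 (iv D10297)) (tt N7079 (iv F62145)) (tt N7631 D14966) (tt N7586 (iv F65097)))
theorem Q6106 : ∀ i, i < 6106 → P i := stepQ 6105 Q6105 (allL N6105 (tt N7612 (iv F65292)) (tt N4824 F45907) (tt N7626 (iv F65364)) (tt N7632 D14967) (tt N6105 F45908) (tt N4817 F45909) (tt N7631 (iv F65404)) (tt N4816 F45910) (tt N4815 (iv D10298)) (tt N7633 D14968))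
theorem Q6107 : ∀ i, i < 6107 → P i := stepQ 6106 Q6106 (allL N6106 (tt N7613 (iv F65297)) (tt N4825 F45911) (tt N7634 D14969) (tt N4816 (iv D10299)) (tt N7635 D14970) (tt N4818 F45912) (tt N7081 (iv F62152)) (tt N7632 (iv F65407)) (tt N7557 (iv F64769)) (tt N7636 D14971))
theorem Q6108 : ∀ i, i < 6108 → P i := stepQ 6107 Q6107 (allL N6107 (tt N7075 (iv F204308)) (tt N4826 F45913) (tt N7065 (iv F204306)) (tt N7636 (iv F65417)) (tt N6107 F45914) (tt N4819 F45915) (tt N7082 (iv F62156)) (tt N7633 (iv F65411)) (tt N7062 F204189) (tt N4816 (iv D10300)))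
theorem Q6109 : ∀ i, i < 6109 → P i := stepQ 6108 Q6108 (allL N6108 (tt N7614 (iv F65304)) (tt N4827 F45916) (tt N7637 D14972) (tt N4817 (iv D10301)) (tt N4946 F45917) (tt N7632 (iv F65406)) (tt N6108 F45918) (tt N4818 F45919) (tt N7559 (iv F64776)) (tt N7638 D14973))
theorem Q6110 : ∀ i, i < 6110 → P i := stepQ 6109 Q6109 (allL N6109 (tt N7076 F204115) (tt N4828 F45920) (tt N7066 F204116) (tt N7638 (iv F65423)) (tt N4822 F45921) (tt N7633 (iv F65410)) (tt N6109 F45922) (tt N4819 F45923) (tt N7063 F204117) (tt N4817 (iv D10302)))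
theorem Q6111 : ∀ i, i < 6111 → P i := stepQ 6110 Q6110 (allL N6110 (tt N7615 (iv F65314)) (tt N7639 D14974) (tt N4818 (iv D10303)) (tt N7629 (iv F65383)) (tt N4948 F45924) (tt N7634 (iv F65412)) (tt N4820 F45925) (tt N7637 (iv F65421)) (tt N7561 (iv F64783)) (tt N7640 D14975))
theorem Q6112 : ∀ i, i < 6112 → P i := stepQ 6111 Q6111 (allL N6111 (tt N7077 (iv F204298)) (tt N4830 F45926) (tt N7640 (iv F65430)) (tt N4819 F45927) (tt N4949 F45928) (tt N7636 (iv F65418)) (tt N4821 F45929) (tt N7638 (iv F65426)) (tt N7641 D14976) (tt N4818 (iv D10304)))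
theorem Q6113 : ∀ i, i < 6113 → P i := stepQ 6112 Q6112 (allL N6112 (tt N7642 D14977) (tt N4820 (iv D10305)) (tt N4831 F45930) (tt N7630 (iv F65391)) (tt N4950 F45931) (tt N7087 (iv F62173)) (tt N7639 (iv F65429)) (tt N6112 F45932) (tt N7563 (iv F64791)) (tt N7643 D14978))
theorem Q6114 : ∀ i, i < 6114 → P i := stepQ 6113 Q6113 (allL N6113 (tt N7078 (iv F204358)) (tt N7643 (iv F65439)) (tt N4821 F45933) (tt N7068 (iv F204352)) (tt N4951 F45934) (tt N7088 (iv F62177)) (tt N7640 (iv F65432)) (tt N6113 F45935) (tt N7644 D14979) (tt N4820 (iv D10306)))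
theorem Q6115 : ∀ i, i < 6115 → P i := stepQ 6114 Q6114 (allL N6114 (tt N7072 F204190) (tt N4833 F45936) (tt N7644 (iv F65443)) (tt N7061 F204191) (tt N4952 F45937) (tt N7089 (iv F62181)) (tt N7641 (iv F65435)) (tt N6114 F45938) (tt N4821 (iv D10307)) (tt N7565 (iv F64798)))
theorem Q6116 : ∀ i, i < 6116 → P i := stepQ 6115 Q6115 (allL N6115 (tt N6115 F45939) (tt N7631 (iv F65401)) (tt N6115 F45940) (tt N7645 D14980) (tt N6115 F45941) (tt N6115 F45942) (tt N4824 F45943) (tt N7090 (iv F62188)) (tt N4823 (iv D10308)) (tt N7646 D14981))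
theorem Q6117 : ∀ i, i < 6117 → P i := stepQ 6116 Q6116 (allL N6116 (tt N6116 F45944) (tt N7632 (iv F65405)) (tt N7647 D14982) (tt N4824 (iv D10309)) (tt N7648 D14983) (tt N4827 F45945) (tt N7645 (iv F65448)) (tt N4825 F45946) (tt N7567 (iv F64805)) (tt N7649 D14984))
theorem Q6118 : ∀ i, i < 6118 → P i := stepQ 6117 Q6117 (allL N6117 (tt N6117 F45947) (tt N7633 (iv F65408)) (tt N6117 F45948) (tt N7649 (iv F65463)) (tt N6117 F45949) (tt N4828 F45950) (tt N7646 (iv F65453)) (tt N4826 F45951) (tt N7594 (iv F65146)) (tt N4824 (iv D10310)))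
theorem Q6119 : ∀ i, i < 6119 → P i := stepQ 6118 Q6118 (allL N6118 (tt N6118 F45952) (tt N7650 D14985) (tt N4825 (iv D10311)) (tt N6118 F45953) (tt N7649 (iv F204614)) (tt N4829 F45954) (tt N7093 (iv F62200)) (tt N7647 (iv F65457)) (tt N7569 (iv F64811)) (tt N7648 (iv F204608)))
theorem Q6120 : ∀ i, i < 6120 → P i := stepQ 6119 Q6119 (allL N6119 (tt N6119 F45955) (tt N7635 (iv F65413)) (tt N7649 (iv F204613)) (tt N6119 F45956) (tt N4825 (iv D10312)) (tt N4955 F45957) (tt N7094 (iv F62204)) (tt N7648 (iv F65461)) (tt N7570 (iv F64814)) (tt N7647 F204578))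
theorem Q6121 : ∀ i, i < 6121 → P i := stepQ 6120 Q6120 (allL N6120 (tt N6120 F45958) (tt N7636 (iv F65416)) (tt N7648 (iv F204606)) (tt N4826 F45959) (tt N7647 F204575) (tt N4830 F45960) (tt N7095 (iv F62208)) (tt N7649 (iv F65465)) (tt N7651 D14989) (tt N4825 (iv D10313)))
theorem Q6122 : ∀ i, i < 6122 → P i := stepQ 6121 Q6121 (allL N6121 (tt N6121 F45961) (tt N7652 D14990) (tt N4827 (iv D10314)) (tt N6121 F45962) (tt N4956 (iv F204620)) (tt N7647 (iv F65456)) (tt N6121 F45964) (tt N4829 F45965) (tt N7572 (iv F64822)) (tt N4955 (iv F204621)))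
theorem Q6123 : ∀ i, i < 6123 → P i := stepQ 6122 Q6122 (allL N6122 (tt N6122 F45966) (tt N7638 (iv F65422)) (tt N4955 F204671) (tt N4828 F45967) (tt N4954 (iv F204734)) (tt N7649 (iv F65464)) (tt N6122 F45969) (tt N4830 F45970) (tt N7653 D14992) (tt N4827 (iv D10315)))
theorem Q6124 : ∀ i, i < 6124 → P i := stepQ 6123 Q6123 (allL N6123 (tt N7654 D14993) (tt N4829 (iv D10316)) (tt N7639 (iv F65427)) (tt N6123 F45971) (tt N4957 F45972) (tt N7650 (iv F65467)) (tt N4831 F45973) (tt N7652 (iv F65484)) (tt N7574 (iv F64830)) (tt N7655 D14994))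
theorem Q6125 : ∀ i, i < 6125 → P i := stepQ 6124 Q6124 (allL N6124 (tt N6124 F45974) (tt N7655 (iv F65499)) (tt N4830 F45975) (tt N6124 F45976) (tt N4953 (iv F204725)) (tt N7648 F204661) (tt N4832 F45978) (tt N4955 F204662) (tt N7656 D14995) (tt N4829 (iv D10317)))
theorem Q6126 : ∀ i, i < 6126 → P i := stepQ 6125 Q6125 (allL N6125 (tt N6125 F45979) (tt N7641 (iv F65433)) (tt N7656 (iv F65504)) (tt N7602 (iv F65175)) (tt N4958 F45980) (tt N7651 (iv F65480)) (tt N4833 F45981) (tt N7653 (iv F65494)) (tt N4830 (iv D10318)) (tt N7576 (iv F64838)))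
theorem Q6127 : ∀ i, i < 6127 → P i := stepQ 6126 Q6126 (allL N6126 (tt N4831 (iv D10319)) (tt N6126 F45982) (tt N7642 (iv F65436)) (tt N6126 F45983) (tt N4959 F45984) (tt N7101 (iv F62233)) (tt N7654 (iv F65498)) (tt N6126 F45985) (tt N7577 (iv F64842)) (tt N7657 D14996))
theorem Q6128 : ∀ i, i < 6128 → P i := stepQ 6127 Q6127 (allL N6127 (tt N7657 (iv F65507)) (tt N4832 F45986) (tt N7643 (iv F65440)) (tt N6127 F45987) (tt N4960 F45988) (tt N7102 (iv F62238)) (tt N7655 (iv F65502)) (tt N6127 F45989) (tt N7658 D14997) (tt N4831 (iv D10320)))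
theorem Q6129 : ∀ i, i < 6129 → P i := stepQ 6128 Q6128 (allL N6128 (tt N6128 F45990) (tt N7658 (iv F65512)) (tt N4833 F45991) (tt N7659 D14998) (tt N4961 F45992) (tt N7103 (iv F62243)) (tt N7656 (iv F65506)) (tt N6128 F45993) (tt N4832 (iv D10321)) (tt N7579 (iv F64850)))
theorem Q6130 : ∀ i, i < 6130 → P i := stepQ 6129 Q6129 (allL N6129 (tt N4841 F46006) (tt N6578 (iv F205180)) (tt N4836 F46007) (tt N6576 (iv F205187)) (tt N4834 (iv D10324)) (tt N6129 F46008) (tt N6574 (iv F205174)) (tt N4858 F46009) (tt N7660 D15006) (tt N6129 F46010))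
theorem Q6131 : ∀ i, i < 6131 → P i := stepQ 6130 Q6130 (allL N6130 (tt N4842 F46011) (tt N6577 (iv F205352)) (tt N4837 F46012) (tt N5203 F46013) (tt N6574 F205242) (tt N6130 F46014) (tt N4834 (iv D10325)) (tt N6588 F205243) (tt N7661 D15008) (tt N6130 F46015))
theorem Q6132 : ∀ i, i < 6132 → P i := stepQ 6131 Q6131 (allL N6131 (tt N4843 F46016) (tt N7158 F201905) (tt N4838 F46017) (tt N7164 F201906) (tt N7660 (iv F65559)) (tt N4835 F46018) (tt N7661 (iv F65571)) (tt N4860 F46019) (tt N4834 (iv D10326)) (tt N7662 D15010))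
theorem Q6133 : ∀ i, i < 6133 → P i := stepQ 6132 Q6132 (allL N6132 (tt N4845 F46024) (tt N7159 F202067) (tt N4839 F46025) (tt N7165 F202068) (tt N6132 F46026) (tt N7662 (iv F65578)) (tt N6132 F46027) (tt N4861 F46028) (tt N6132 F46029) (tt N4835 (iv D10328)))
theorem Q6134 : ∀ i, i < 6134 → P i := stepQ 6133 Q6133 (allL N6133 (tt N4846 F46030) (tt N6133 F46031) (tt N6574 (iv F205173)) (tt N6133 F46032) (tt N4837 F46033) (tt N6573 (iv F205169)) (tt N4836 (iv D10329)) (tt N6586 F205092) (tt N7663 D15015) (tt N6133 F46034))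
theorem Q6135 : ∀ i, i < 6135 → P i := stepQ 6134 Q6134 (allL N6134 (tt N4847 F46035) (tt N6134 F46036) (tt N7660 (iv F65558)) (tt N7664 D15016) (tt N4838 F46037) (tt N6134 F46038) (tt N7663 (iv F65605)) (tt N4863 F46039) (tt N4836 (iv D10330)) (tt N7665 D15017))
theorem Q6136 : ∀ i, i < 6136 → P i := stepQ 6135 Q6135 (allL N6135 (tt N4848 F46040) (tt N6135 F46041) (tt N6588 (iv F205162)) (tt N4840 F46042) (tt N6586 F205085) (tt N6135 F46043) (tt N4864 F46044) (tt N4837 (iv D10331)) (tt N7666 D15018) (tt N6135 F46045))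
theorem Q6137 : ∀ i, i < 6137 → P i := stepQ 6136 Q6136 (allL N6136 (tt N4849 F46046) (tt N6136 F46047) (tt N7661 (iv F65569)) (tt N7363 (iv F63956)) (tt N7663 (iv F65604)) (tt N6136 F46048) (tt N4838 F46049) (tt N7666 (iv F65621)) (tt N4837 (iv D10332)) (tt N7667 D15019))
theorem Q6138 : ∀ i, i < 6138 → P i := stepQ 6137 Q6137 (allL N6137 (tt N4850 F46050) (tt N6137 F46051) (tt N7662 (iv F65577)) (tt N7364 (iv F63961)) (tt N7665 (iv F65613)) (tt N4839 F46052) (tt N7667 (iv F65625)) (tt N4866 F46053) (tt N6137 F46054) (tt N4838 (iv D10333)))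
theorem Q6139 : ∀ i, i < 6139 → P i := stepQ 6138 Q6138 (allL N6138 (tt N6576 (iv F205186)) (tt N6138 F46055) (tt N6138 F46056) (tt N4841 (iv D10334)) (tt N5206 F46057) (tt N6138 F46058) (tt N6572 (iv F205224)) (tt N4867 F46059) (tt N6684 (iv F205227)) (tt N6138 F46060))
theorem Q6140 : ∀ i, i < 6140 → P i := stepQ 6139 Q6139 (allL N6139 (tt N6574 (iv F205172)) (tt N6139 F46061) (tt N4846 F46062) (tt N6572 (iv F205223)) (tt N4842 F46063) (tt N6571 (iv F205219)) (tt N4841 (iv D10335)) (tt N6583 F205138) (tt N7668 D15024) (tt N6139 F46064))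
theorem Q6141 : ∀ i, i < 6141 → P i := stepQ 6140 Q6140 (allL N6140 (tt N7660 (iv F65557)) (tt N6140 F46065) (tt N4847 F46066) (tt N7669 D15025) (tt N4843 F46067) (tt N6140 F46068) (tt N7668 (iv F65650)) (tt N4869 F46069) (tt N4841 (iv D10336)) (tt N7670 D15026))
theorem Q6142 : ∀ i, i < 6142 → P i := stepQ 6141 Q6141 (allL N6141 (tt N6588 (iv F205161)) (tt N6141 F46070) (tt N4848 F46071) (tt N5209 F46072) (tt N6583 F205086) (tt N6141 F46073) (tt N4870 F46074) (tt N4842 (iv D10337)) (tt N7671 D15027) (tt N6141 F46075))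
theorem Q6143 : ∀ i, i < 6143 → P i := stepQ 6142 Q6142 (allL N6142 (tt N7661 (iv F65568)) (tt N6142 F46076) (tt N4849 F46077) (tt N7672 D15028) (tt N7668 (iv F65649)) (tt N6142 F46078) (tt N4843 F46079) (tt N7671 (iv F65664)) (tt N4842 (iv D10338)) (tt N7673 D15029))
theorem Q6144 : ∀ i, i < 6144 → P i := stepQ 6143 Q6143 (allL N6143 (tt N7164 F201772) (tt N6143 F46080) (tt N7370 (iv F63979)) (tt N4843 (iv D10339)) (tt N7674 D15030) (tt N4844 F46081) (tt N7672 (iv F65667)) (tt N4872 F46082) (tt N5211 F46083) (tt N7675 D15031))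
theorem Q6145 : ∀ i, i < 6145 → P i := stepQ 6144 Q6144 (allL N6144 (tt N7662 (iv F65576)) (tt N6144 F46084) (tt N4850 F46085) (tt N7675 (iv F65678)) (tt N7670 (iv F65656)) (tt N4845 F46086) (tt N7673 (iv F65672)) (tt N4873 F46087) (tt N6144 F46088) (tt N4843 (iv D10340)))
theorem Q6146 : ∀ i, i < 6146 → P i := stepQ 6145 Q6145 (allL N6145 (tt N6674 F201968) (tt N6145 F46089) (tt N7372 (iv F63986)) (tt N6145 F46090) (tt N4844 (iv D10341)) (tt N7676 D15032) (tt N6145 F46091) (tt N4874 F46092) (tt N5212 F46093) (tt N7677 D15033))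
theorem Q6147 : ∀ i, i < 6147 → P i := stepQ 6146 Q6146 (allL N6146 (tt N7165 F201969) (tt N6146 F46094) (tt N7373 (iv F63990)) (tt N4845 F46095) (tt N7677 (iv F65687)) (tt N7675 (iv F65679)) (tt N6146 F46096) (tt N4875 F46097) (tt N7178 F201970) (tt N4844 (iv D10342)))
theorem Q6148 : ∀ i, i < 6148 → P i := stepQ 6147 Q6147 (allL N6147 (tt N6573 (iv F205168)) (tt N4851 F46098) (tt N6571 (iv F205218)) (tt N6147 F46099) (tt N6147 F46100) (tt N4846 (iv D10343)) (tt N6147 F46101) (tt N6582 F205136) (tt N7678 D15036) (tt N6147 F46102))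
theorem Q6149 : ∀ i, i < 6149 → P i := stepQ 6148 Q6148 (allL N6148 (tt N6586 (iv F205030)) (tt N4852 F46103) (tt N6583 (iv F205065)) (tt N6148 F46104) (tt N4848 F46105) (tt N6582 (iv F205062)) (tt N4877 F46106) (tt N4846 (iv D10344)) (tt N7679 D15037) (tt N6148 F46107))
theorem Q6150 : ∀ i, i < 6150 → P i := stepQ 6149 Q6149 (allL N6149 (tt N7663 (iv F65602)) (tt N4853 F46108) (tt N7668 (iv F65648)) (tt N7680 D15038) (tt N4849 F46109) (tt N7678 (iv F65702)) (tt N4847 F46110) (tt N7679 (iv F65707)) (tt N4846 (iv D10345)) (tt N7681 D15039))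
theorem Q6151 : ∀ i, i < 6151 → P i := stepQ 6150 Q6150 (allL N6150 (tt N7664 (iv F65606)) (tt N4854 F46111) (tt N7682 D15040) (tt N4847 (iv D10346)) (tt N7377 (iv F64005)) (tt N6150 F46112) (tt N7680 (iv F65709)) (tt N4879 F46113) (tt N6150 F46114) (tt N7683 D15041))
theorem Q6152 : ∀ i, i < 6152 → P i := stepQ 6151 Q6151 (allL N6151 (tt N7665 (iv F65611)) (tt N4855 F46115) (tt N7670 (iv F65655)) (tt N7683 (iv F65719)) (tt N4850 F46116) (tt N6151 F46117) (tt N7681 (iv F65713)) (tt N4880 F46118) (tt N6151 F46119) (tt N4847 (iv D10347)))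
theorem Q6153 : ∀ i, i < 6153 → P i := stepQ 6152 Q6152 (allL N6152 (tt N7666 (iv F65617)) (tt N4856 F46120) (tt N7671 (iv F65661)) (tt N7379 (iv F64012)) (tt N7679 (iv F65705)) (tt N6152 F46121) (tt N4881 F46122) (tt N4849 F46123) (tt N4848 (iv D10348)) (tt N7684 D15042))
theorem Q6154 : ∀ i, i < 6154 → P i := stepQ 6153 Q6153 (allL N6153 (tt N7667 (iv F65622)) (tt N4857 F46124) (tt N7673 (iv F65670)) (tt N7380 (iv F64017)) (tt N7681 (iv F65712)) (tt N6153 F46125) (tt N4850 F46126) (tt N7684 (iv F65725)) (tt N6153 F46127) (tt N4849 (iv D10349)))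
theorem Q6155 : ∀ i, i < 6155 → P i := stepQ 6154 Q6154 (allL N6154 (tt N6154 F46128) (tt N6582 F205087) (tt N6154 F46129) (tt N6154 F46130) (tt N6154 F46131) (tt N4852 F46132) (tt N6598 F205088) (tt N4851 (iv D10350)) (tt N7685 D15044) (tt N6154 F46133))
theorem Q6156 : ∀ i, i < 6156 → P i := stepQ 6155 Q6155 (allL N6155 (tt N6155 F46134) (tt N7678 (iv F65700)) (tt N6155 F46135) (tt N7686 D15045) (tt N6155 F46136) (tt N4853 F46137) (tt N6155 F46138) (tt N7685 (iv F65738)) (tt N4851 (iv D10351)) (tt N7687 D15046))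
theorem Q6157 : ∀ i, i < 6157 → P i := stepQ 6156 Q6156 (allL N6156 (tt N6156 F46139) (tt N7679 (iv F65704)) (tt N6156 F46140) (tt N7688 D15047) (tt N4856 F46141) (tt N7685 (iv F65737)) (tt N4885 F46142) (tt N4853 F46143) (tt N4852 (iv D10352)) (tt N7689 D15048))
theorem Q6158 : ∀ i, i < 6158 → P i := stepQ 6157 Q6157 (allL N6157 (tt N6157 F46144) (tt N7680 (iv F65708)) (tt N7690 D15049) (tt N4853 (iv D10353)) (tt N7384 (iv F64032)) (tt N7686 (iv F65740)) (tt N4854 F46145) (tt N7688 (iv F65751)) (tt N6157 F46146) (tt N7691 D15050))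
theorem Q6159 : ∀ i, i < 6159 → P i := stepQ 6158 Q6158 (allL N6158 (tt N6158 F46147) (tt N7681 (iv F65711)) (tt N6158 F46148) (tt N7691 (iv F65764)) (tt N4857 F46149) (tt N7687 (iv F65746)) (tt N4855 F46150) (tt N7689 (iv F65757)) (tt N6158 F46151) (tt N4853 (iv D10354)))
theorem Q6160 : ∀ i, i < 6160 → P i := stepQ 6159 Q6159 (allL N6159 (tt N6159 F46152) (tt N7692 D15051) (tt N4854 (iv D10355)) (tt N6159 F46153) (tt N7386 (iv F64039)) (tt N6159 F46154) (tt N7690 (iv F65761)) (tt N4888 F46155) (tt N6159 F46156) (tt N7693 D15052))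
theorem Q6161 : ∀ i, i < 6161 → P i := stepQ 6160 Q6160 (allL N6160 (tt N6160 F46157) (tt N7683 (iv F65718)) (tt N7693 (iv F65771)) (tt N4855 F46158) (tt N7387 (iv F64044)) (tt N6160 F46159) (tt N7691 (iv F65765)) (tt N4889 F46160) (tt N7694 D15053) (tt N4854 (iv D10356)))
theorem Q6162 : ∀ i, i < 6162 → P i := stepQ 6161 Q6161 (allL N6161 (tt N6161 F46161) (tt N7684 (iv F65722)) (tt N6161 F46162) (tt N7388 (iv F64047)) (tt N7689 (iv F65755)) (tt N6161 F46163) (tt N4890 F46164) (tt N4857 F46165) (tt N6161 F46166) (tt N4856 (iv D10357)))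
theorem Q6163 : ∀ i, i < 6163 → P i := stepQ 6162 Q6162 (allL N6162 (tt N4867 F46192) (tt N6581 (iv F205176)) (tt N6162 F46193) (tt N4858 (iv D10363)) (tt N5213 F46194) (tt N6162 F46195) (tt N6592 F205103) (tt N6576 (iv F205188)) (tt N6691 (iv F205190)) (tt N6162 F46196))
theorem Q6164 : ∀ i, i < 6164 → P i := stepQ 6163 Q6163 (allL N6163 (tt N4868 F46197) (tt N6595 (iv F205032)) (tt N4862 F46198) (tt N6592 (iv F205038)) (tt N4859 F46199) (tt N6613 F204990) (tt N4858 (iv D10364)) (tt N6589 (iv F205029)) (tt N7695 D15068) (tt N6163 F46200))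
theorem Q6165 : ∀ i, i < 6165 → P i := stepQ 6164 Q6164 (allL N6164 (tt N4869 F46201) (tt N7197 F202755) (tt N4863 F46202) (tt N7696 D15069) (tt N4860 F46203) (tt N6164 F46204) (tt N7695 (iv F65849)) (tt N7660 (iv F65561)) (tt N4858 (iv D10365)) (tt N7697 D15070))
theorem Q6166 : ∀ i, i < 6166 → P i := stepQ 6165 Q6165 (allL N6165 (tt N4870 F46205) (tt N6593 (iv F205158)) (tt N4864 F46206) (tt N5215 F46207) (tt N6589 F205084) (tt N4893 F46208) (tt N6588 (iv F205163)) (tt N4859 (iv D10366)) (tt N7698 D15071) (tt N6165 F46209))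
theorem Q6167 : ∀ i, i < 6167 → P i := stepQ 6166 Q6166 (allL N6166 (tt N4871 F46210) (tt N7198 F202589) (tt N4865 F46211) (tt N7207 F202590) (tt N7695 (iv F65848)) (tt N4894 F46212) (tt N4860 F46213) (tt N7698 (iv F65860)) (tt N4859 (iv D10367)) (tt N7699 D15073))
theorem Q6168 : ∀ i, i < 6168 → P i := stepQ 6167 Q6167 (allL N6167 (tt N4873 F46217) (tt N7199 F202756) (tt N4866 F46218) (tt N7208 F202757) (tt N7697 (iv F65854)) (tt N4861 F46219) (tt N7699 (iv F65868)) (tt N7662 (iv F65579)) (tt N6167 F46220) (tt N4860 (iv D10369)))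
theorem Q6169 : ∀ i, i < 6169 → P i := stepQ 6168 Q6168 (allL N6168 (tt N4876 F46228) (tt N6168 F46229) (tt N6613 (iv F204948)) (tt N6168 F46230) (tt N4896 F46231) (tt N4862 (iv D10372)) (tt N6168 F46232) (tt N6607 (iv F204945)) (tt N7700 D15080) (tt N6168 F46233))
theorem Q6170 : ∀ i, i < 6170 → P i := stepQ 6169 Q6169 (allL N6169 (tt N4877 F46234) (tt N6169 F46235) (tt N6589 (iv F205028)) (tt N6169 F46236) (tt N4864 F46237) (tt N6607 F204987) (tt N6586 (iv F205031)) (tt N4862 (iv D10373)) (tt N7701 D15081) (tt N6169 F46238))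
theorem Q6171 : ∀ i, i < 6171 → P i := stepQ 6170 Q6170 (allL N6170 (tt N4878 F46239) (tt N6170 F46240) (tt N7695 (iv F65847)) (tt N7702 D15082) (tt N4865 F46241) (tt N7700 (iv F65895)) (tt N4863 F46242) (tt N7701 (iv F65900)) (tt N4862 (iv D10374)) (tt N7703 D15083))
theorem Q6172 : ∀ i, i < 6172 → P i := stepQ 6171 Q6171 (allL N6171 (tt N4879 F46243) (tt N6171 F46244) (tt N7704 D15084) (tt N4863 (iv D10375)) (tt N7433 (iv F64244)) (tt N6171 F46245) (tt N7702 (iv F65903)) (tt N7664 (iv F65609)) (tt N6171 F46246) (tt N7705 D15085))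
theorem Q6173 : ∀ i, i < 6173 → P i := stepQ 6172 Q6172 (allL N6172 (tt N4880 F46247) (tt N6172 F46248) (tt N7697 (iv F65853)) (tt N7705 (iv F65915)) (tt N4866 F46249) (tt N6172 F46250) (tt N7703 (iv F65908)) (tt N7665 (iv F65615)) (tt N6172 F46251) (tt N4863 (iv D10376)))
theorem Q6174 : ∀ i, i < 6174 → P i := stepQ 6173 Q6173 (allL N6173 (tt N4881 F46252) (tt N6173 F46253) (tt N7698 (iv F65858)) (tt N7435 (iv F64251)) (tt N7701 (iv F65899)) (tt N4901 F46254) (tt N7666 (iv F65620)) (tt N4865 F46255) (tt N4864 (iv D10377)) (tt N7706 D15086))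
theorem Q6175 : ∀ i, i < 6175 → P i := stepQ 6174 Q6174 (allL N6174 (tt N4882 F46256) (tt N6174 F46257) (tt N7699 (iv F65866)) (tt N7436 (iv F64256)) (tt N7703 (iv F65907)) (tt N4902 F46258) (tt N4866 F46259) (tt N7706 (iv F65920)) (tt N6174 F46260) (tt N4865 (iv D10378)))
theorem Q6176 : ∀ i, i < 6176 → P i := stepQ 6175 Q6175 (allL N6175 (tt N6592 (iv F205037)) (tt N6175 F46261) (tt N6175 F46262) (tt N4868 F46263) (tt N5217 F46264) (tt N6605 F205008) (tt N4867 (iv D10379)) (tt N6585 (iv F205064)) (tt N6716 (iv F205067)) (tt N6175 F46265))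
theorem Q6177 : ∀ i, i < 6177 → P i := stepQ 6176 Q6176 (allL N6176 (tt N6691 (iv F205189)) (tt N6176 F46266) (tt N6176 F46267) (tt N7707 D15090) (tt N5218 F46268) (tt N6176 F46269) (tt N6716 F205140) (tt N6684 (iv F205226)) (tt N4867 (iv D10380)) (tt N7708 D15091))
theorem Q6178 : ∀ i, i < 6178 → P i := stepQ 6177 Q6177 (allL N6177 (tt N6613 (iv F204947)) (tt N6177 F46270) (tt N4876 F46271) (tt N6605 (iv F204969)) (tt N4903 F46272) (tt N4868 (iv D10381)) (tt N6177 F46273) (tt N6602 (iv F204968)) (tt N7709 D15093) (tt N6177 F46274))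
theorem Q6179 : ∀ i, i < 6179 → P i := stepQ 6178 Q6178 (allL N6178 (tt N6589 (iv F205027)) (tt N6178 F46275) (tt N4877 F46276) (tt N6585 (iv F205063)) (tt N4870 F46277) (tt N6602 F205007) (tt N6583 (iv F205066)) (tt N4868 (iv D10382)) (tt N7710 D15094) (tt N6178 F46278))
theorem Q6180 : ∀ i, i < 6180 → P i := stepQ 6179 Q6179 (allL N6179 (tt N7695 (iv F65846)) (tt N6179 F46279) (tt N4878 F46280) (tt N7711 D15095) (tt N4871 F46281) (tt N7709 (iv F65953)) (tt N4869 F46282) (tt N7710 (iv F65958)) (tt N4868 (iv D10383)) (tt N7712 D15096))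
theorem Q6181 : ∀ i, i < 6181 → P i := stepQ 6180 Q6180 (allL N6180 (tt N7696 (iv F65850)) (tt N6180 F46283) (tt N7713 D15097) (tt N4869 (iv D10384)) (tt N7714 D15098) (tt N6180 F46284) (tt N7711 (iv F65960)) (tt N7669 (iv F65653)) (tt N7707 (iv F65939)) (tt N7715 D15099))
theorem Q6182 : ∀ i, i < 6182 → P i := stepQ 6181 Q6181 (allL N6181 (tt N7697 (iv F65852)) (tt N6181 F46285) (tt N4880 F46286) (tt N7715 (iv F65971)) (tt N4873 F46287) (tt N6181 F46288) (tt N7712 (iv F65964)) (tt N7670 (iv F65658)) (tt N6181 F46289) (tt N4869 (iv D10385)))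
theorem Q6183 : ∀ i, i < 6183 → P i := stepQ 6182 Q6182 (allL N6182 (tt N7698 (iv F65857)) (tt N6182 F46290) (tt N4881 F46291) (tt N7716 D15100) (tt N7710 (iv F65957)) (tt N4908 F46292) (tt N7671 (iv F65663)) (tt N4871 F46293) (tt N4870 (iv D10386)) (tt N7717 D15101))
theorem Q6184 : ∀ i, i < 6184 → P i := stepQ 6183 Q6183 (allL N6183 (tt N7207 F202584) (tt N6183 F46294) (tt N7445 (iv F64276)) (tt N4871 (iv D10387)) (tt N7718 D15102) (tt N4909 F46295) (tt N4872 F46296) (tt N7716 (iv F65975)) (tt N5223 F46297) (tt N7719 D15103))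
theorem Q6185 : ∀ i, i < 6185 → P i := stepQ 6184 Q6184 (allL N6184 (tt N7699 (iv F65865)) (tt N6184 F46298) (tt N4882 F46299) (tt N7719 (iv F65986)) (tt N7712 (iv F65963)) (tt N4910 F46300) (tt N4873 F46301) (tt N7717 (iv F65980)) (tt N6184 F46302) (tt N4871 (iv D10388)))
theorem Q6186 : ∀ i, i < 6186 → P i := stepQ 6185 Q6185 (allL N6185 (tt N7205 F202685) (tt N6185 F46303) (tt N7447 (iv F64283)) (tt N7714 (iv F65969)) (tt N4872 (iv D10389)) (tt N7720 D15104) (tt N7718 (iv F65983)) (tt N7674 (iv F65675)) (tt N5224 F46304) (tt N7721 D15105))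
theorem Q6187 : ∀ i, i < 6187 → P i := stepQ 6186 Q6186 (allL N6186 (tt N7208 F202686) (tt N6186 F46305) (tt N7448 (iv F64285)) (tt N4873 F46306) (tt N7721 (iv F65993)) (tt N4875 F46307) (tt N7719 (iv F65988)) (tt N7675 (iv F65680)) (tt N7227 F202687) (tt N4872 (iv D10390)))
theorem Q6188 : ∀ i, i < 6188 → P i := stepQ 6187 Q6187 (allL N6187 (tt N6701 F202808) (tt N6187 F46308) (tt N7449 (iv F64288)) (tt N6187 F46309) (tt N7720 (iv F65990)) (tt N4874 (iv D10391)) (tt N7722 D15107) (tt N7676 (iv F65683)) (tt N5225 F46310) (tt N7723 D15108))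
theorem Q6189 : ∀ i, i < 6189 → P i := stepQ 6188 Q6188 (allL N6188 (tt N6702 F202809) (tt N6188 F46311) (tt N7450 (iv F64290)) (tt N6188 F46312) (tt N4875 F46313) (tt N7723 (iv F66004)) (tt N4914 F46314) (tt N7677 (iv F65689)) (tt N6715 F202810) (tt N4874 (iv D10392)))
theorem Q6190 : ∀ i, i < 6190 → P i := stepQ 6189 Q6189 (allL N6189 (tt N6607 (iv F204943)) (tt N4883 F46319) (tt N6602 (iv F204966)) (tt N6189 F46320) (tt N4915 F46321) (tt N4877 F46322) (tt N6599 (iv F204965)) (tt N4876 (iv D10394)) (tt N7724 D15111) (tt N6189 F46323))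
theorem Q6191 : ∀ i, i < 6191 → P i := stepQ 6190 Q6190 (allL N6190 (tt N7700 (iv F65892)) (tt N4884 F46324) (tt N7709 (iv F65951)) (tt N7725 D15112) (tt N4916 F46325) (tt N4878 F46326) (tt N6190 F46327) (tt N7724 (iv F66017)) (tt N4876 (iv D10395)) (tt N7726 D15113))
theorem Q6192 : ∀ i, i < 6192 → P i := stepQ 6191 Q6191 (allL N6191 (tt N7701 (iv F65897)) (tt N4885 F46328) (tt N7710 (iv F65956)) (tt N7727 D15114) (tt N4881 F46329) (tt N7724 (iv F66016)) (tt N7679 (iv F65706)) (tt N4878 F46330) (tt N4877 (iv D10396)) (tt N7728 D15115))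
theorem Q6193 : ∀ i, i < 6193 → P i := stepQ 6192 Q6192 (allL N6192 (tt N7702 (iv F65901)) (tt N4886 F46331) (tt N7729 D15116) (tt N4878 (iv D10397)) (tt N7454 (iv F64307)) (tt N7725 (iv F66019)) (tt N4879 F46332) (tt N7727 (iv F66028)) (tt N6192 F46333) (tt N7730 D15117))
theorem Q6194 : ∀ i, i < 6194 → P i := stepQ 6193 Q6193 (allL N6193 (tt N7703 (iv F65905)) (tt N4887 F46334) (tt N7712 (iv F65962)) (tt N7730 (iv F66037)) (tt N4882 F46335) (tt N7726 (iv F66024)) (tt N4880 F46336) (tt N7728 (iv F66032)) (tt N6193 F46337) (tt N4878 (iv D10398)))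
theorem Q6195 : ∀ i, i < 6195 → P i := stepQ 6194 Q6194 (allL N6194 (tt N7704 (iv F65910)) (tt N7731 D15118) (tt N4879 (iv D10399)) (tt N7713 (iv F65966)) (tt N7456 (iv F64313)) (tt N6194 F46338) (tt N7729 (iv F66034)) (tt N7682 (iv F65716)) (tt N6194 F46339) (tt N7732 D15119))
theorem Q6196 : ∀ i, i < 6196 → P i := stepQ 6195 Q6195 (allL N6195 (tt N7705 (iv F65913)) (tt N4889 F46340) (tt N7732 (iv F66042)) (tt N4880 F46341) (tt N7457 (iv F64317)) (tt N6195 F46342) (tt N7730 (iv F66038)) (tt N7683 (iv F65721)) (tt N7733 D15120) (tt N4879 (iv D10400)))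
theorem Q6197 : ∀ i, i < 6197 → P i := stepQ 6196 Q6196 (allL N6196 (tt N7706 (iv F65917)) (tt N4890 F46343) (tt N7717 (iv F65978)) (tt N7458 (iv F64319)) (tt N7728 (iv F66031)) (tt N4922 F46344) (tt N7684 (iv F65724)) (tt N4882 F46345) (tt N6196 F46346) (tt N4881 (iv D10401)))
theorem Q6198 : ∀ i, i < 6198 → P i := stepQ 6197 Q6197 (allL N6197 (tt N6197 F46347) (tt N6599 F204982) (tt N6197 F46348) (tt N6197 F46349) (tt N4923 F46350) (tt N6598 (iv F205021)) (tt N4883 (iv D10402)) (tt N6197 F46351) (tt N7734 D15121) (tt N6197 F46352))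
theorem Q6199 : ∀ i, i < 6199 → P i := stepQ 6198 Q6198 (allL N6198 (tt N6198 F46353) (tt N7724 (iv F66014)) (tt N6198 F46354) (tt N7735 D15122) (tt N4924 F46355) (tt N4885 F46356) (tt N7734 (iv F66051)) (tt N4884 F46357) (tt N4883 (iv D10403)) (tt N7736 D15123))
theorem Q6200 : ∀ i, i < 6200 → P i := stepQ 6199 Q6199 (allL N6199 (tt N6199 F46358) (tt N7725 (iv F66018)) (tt N7737 D15124) (tt N4884 (iv D10404)) (tt N7738 D15125) (tt N4886 F46359) (tt N6199 F46360) (tt N7735 (iv F66055)) (tt N6199 F46361) (tt N7739 D15126))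
theorem Q6201 : ∀ i, i < 6201 → P i := stepQ 6200 Q6200 (allL N6200 (tt N6200 F46362) (tt N7726 (iv F66022)) (tt N6200 F46363) (tt N7739 (iv F66073)) (tt N4926 F46364) (tt N4887 F46365) (tt N6200 F46366) (tt N7736 (iv F66061)) (tt N6200 F46367) (tt N4884 (iv D10405)))
theorem Q6202 : ∀ i, i < 6202 → P i := stepQ 6201 Q6201 (allL N6201 (tt N6201 F46368) (tt N7727 (iv F66027)) (tt N7740 D15127) (tt N4885 (iv D10406)) (tt N7463 (iv F64336)) (tt N7735 (iv F66054)) (tt N7688 (iv F65750)) (tt N4886 F46369) (tt N6201 F46370) (tt N7741 D15128))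
theorem Q6203 : ∀ i, i < 6203 → P i := stepQ 6202 Q6202 (allL N6202 (tt N6202 F46371) (tt N7728 (iv F66030)) (tt N6202 F46372) (tt N7741 (iv F66081)) (tt N4890 F46373) (tt N7736 (iv F66060)) (tt N7689 (iv F65756)) (tt N4887 F46374) (tt N6202 F46375) (tt N4885 (iv D10407)))
theorem Q6204 : ∀ i, i < 6204 → P i := stepQ 6203 Q6203 (allL N6203 (tt N6203 F46376) (tt N7742 D15129) (tt N4886 (iv D10408)) (tt N6203 F46377) (tt N7465 (iv F64343)) (tt N7737 (iv F66065)) (tt N4888 F46378) (tt N7740 (iv F66078)) (tt N6203 F46379) (tt N7743 D15130))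
theorem Q6205 : ∀ i, i < 6205 → P i := stepQ 6204 Q6204 (allL N6204 (tt N6204 F46380) (tt N7730 (iv F66036)) (tt N7743 (iv F66087)) (tt N4887 F46381) (tt N7466 (iv F64348)) (tt N7739 (iv F66074)) (tt N4889 F46382) (tt N7741 (iv F66082)) (tt N7744 D15131) (tt N4886 (iv D10409)))
theorem Q6206 : ∀ i, i < 6206 → P i := stepQ 6205 Q6205 (allL N6205 (tt N7745 D15132) (tt N4888 (iv D10410)) (tt N7731 (iv F66039)) (tt N6205 F46383) (tt N7467 (iv F64350)) (tt N6205 F46384) (tt N7742 (iv F66084)) (tt N7692 (iv F65768)) (tt N6205 F46385) (tt N7746 D15133))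
theorem Q6207 : ∀ i, i < 6207 → P i := stepQ 6206 Q6206 (allL N6206 (tt N6206 F46386) (tt N7746 (iv F66098)) (tt N4889 F46387) (tt N6206 F46388) (tt N7468 (iv F64354)) (tt N6206 F46389) (tt N7743 (iv F66089)) (tt N7693 (iv F65774)) (tt N7747 D15134) (tt N4888 (iv D10411)))
theorem Q6208 : ∀ i, i < 6208 → P i := stepQ 6207 Q6207 (allL N6207 (tt N6207 F46390) (tt N7733 (iv F66044)) (tt N7747 (iv F66102)) (tt N6207 F46391) (tt N7469 (iv F64356)) (tt N6207 F46392) (tt N7744 (iv F66092)) (tt N7694 (iv F65778)) (tt N4889 (iv D10412)) (tt N6207 F46393))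
theorem Q6209 : ∀ i, i < 6209 → P i := stepQ 6208 Q6208 (allL N6208 (tt N4903 F46440) (tt N6617 (iv F204946)) (tt N4896 F46441) (tt N6208 F46442) (tt N6613 (iv F204949)) (tt N4891 (iv D10422)) (tt N6208 F46443) (tt N6611 (iv F204942)) (tt N7748 D15152) (tt N6208 F46444))
theorem Q6210 : ∀ i, i < 6210 → P i := stepQ 6209 Q6209 (allL N6209 (tt N4904 F46445) (tt N6616 (iv F205019)) (tt N4897 F46446) (tt N6209 F46447) (tt N4893 F46448) (tt N6611 F204981) (tt N6209 F46449) (tt N4891 (iv D10423)) (tt N7749 D15153) (tt N6209 F46450))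
theorem Q6211 : ∀ i, i < 6211 → P i := stepQ 6210 Q6210 (allL N6210 (tt N4905 F46451) (tt N7252 F203490) (tt N4898 F46452) (tt N7750 D15154) (tt N4894 F46453) (tt N7748 (iv F66193)) (tt N4892 F46454) (tt N7749 (iv F66199)) (tt N4891 (iv D10424)) (tt N7751 D15155))
theorem Q6212 : ∀ i, i < 6212 → P i := stepQ 6211 Q6211 (allL N6211 (tt N4906 F46455) (tt N7253 F203690) (tt N7752 D15156) (tt N4892 (iv D10425)) (tt N7266 F203691) (tt N6211 F46456) (tt N7750 (iv F66201)) (tt N6211 F46457) (tt N6211 F46458) (tt N7753 D15158))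
theorem Q6213 : ∀ i, i < 6213 → P i := stepQ 6212 Q6212 (allL N6212 (tt N4907 F46459) (tt N7254 F203692) (tt N4900 F46460) (tt N7753 (iv F66218)) (tt N4895 F46461) (tt N6212 F46462) (tt N7751 (iv F66206)) (tt N6212 F46463) (tt N6212 F46464) (tt N4892 (iv D10426)))
theorem Q6214 : ∀ i, i < 6214 → P i := stepQ 6213 Q6213 (allL N6213 (tt N4908 F46465) (tt N7255 F202587) (tt N4901 F46466) (tt N7268 F202588) (tt N7749 (iv F66197)) (tt N7698 (iv F65859)) (tt N6213 F46467) (tt N4894 F46468) (tt N4893 (iv D10427)) (tt N7754 D15160))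
theorem Q6215 : ∀ i, i < 6215 → P i := stepQ 6214 Q6214 (allL N6214 (tt N4910 F46472) (tt N7256 F203491) (tt N4902 F46473) (tt N7269 F203492) (tt N7751 (iv F66205)) (tt N7699 (iv F65867)) (tt N4895 F46474) (tt N7754 (iv F66228)) (tt N6214 F46475) (tt N4894 (iv D10429)))
theorem Q6216 : ∀ i, i < 6216 → P i := stepQ 6215 Q6215 (allL N6215 (tt N4915 F46495) (tt N6215 F46496) (tt N6611 (iv F204941)) (tt N4934 F46497) (tt N6607 (iv F204944)) (tt N4897 F46498) (tt N6606 (iv F204939)) (tt N4896 (iv D10435)) (tt N7755 D15170) (tt N6215 F46499))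
theorem Q6217 : ∀ i, i < 6217 → P i := stepQ 6216 Q6216 (allL N6216 (tt N4916 F46500) (tt N6216 F46501) (tt N7748 (iv F66192)) (tt N7756 D15171) (tt N7700 (iv F65894)) (tt N4898 F46502) (tt N6216 F46503) (tt N7755 (iv F66268)) (tt N4896 (iv D10436)) (tt N7757 D15172))
theorem Q6218 : ∀ i, i < 6218 → P i := stepQ 6217 Q6217 (allL N6217 (tt N4917 F46504) (tt N6217 F46505) (tt N7749 (iv F66196)) (tt N7758 D15173) (tt N4901 F46506) (tt N7755 (iv F66267)) (tt N6217 F46507) (tt N4898 F46508) (tt N4897 (iv D10437)) (tt N7759 D15174))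
theorem Q6219 : ∀ i, i < 6219 → P i := stepQ 6218 Q6218 (allL N6218 (tt N4918 F46509) (tt N6218 F46510) (tt N7760 D15175) (tt N4898 (iv D10438)) (tt N7529 (iv F64675)) (tt N7756 (iv F66271)) (tt N4899 F46511) (tt N7758 (iv F66282)) (tt N4937 F46512) (tt N7761 D15176))
theorem Q6220 : ∀ i, i < 6220 → P i := stepQ 6219 Q6219 (allL N6219 (tt N4919 F46513) (tt N6219 F46514) (tt N7751 (iv F66204)) (tt N7761 (iv F66295)) (tt N4902 F46515) (tt N7757 (iv F66276)) (tt N4900 F46516) (tt N7759 (iv F66288)) (tt N6219 F46517) (tt N4898 (iv D10439)))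
theorem Q6221 : ∀ i, i < 6221 → P i := stepQ 6220 Q6220 (allL N6220 (tt N4920 F46518) (tt N7762 D15177) (tt N4899 (iv D10440)) (tt N7752 (iv F66209)) (tt N7531 (iv F64683)) (tt N6220 F46519) (tt N7760 (iv F66291)) (tt N6220 F46520) (tt N4939 F46521) (tt N7763 D15178))
theorem Q6222 : ∀ i, i < 6222 → P i := stepQ 6221 Q6221 (allL N6221 (tt N4921 F46522) (tt N6221 F46523) (tt N7763 (iv F66302)) (tt N4900 F46524) (tt N7532 (iv F64689)) (tt N6221 F46525) (tt N7761 (iv F66296)) (tt N6221 F46526) (tt N7764 D15179) (tt N4899 (iv D10441)))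
theorem Q6223 : ∀ i, i < 6223 → P i := stepQ 6222 Q6222 (allL N6222 (tt N4922 F46527) (tt N6222 F46528) (tt N7754 (iv F66226)) (tt N7533 (iv F64693)) (tt N7759 (iv F66286)) (tt N7706 (iv F65919)) (tt N6222 F46529) (tt N4902 F46530) (tt N6222 F46531) (tt N4901 (iv D10442)))
theorem Q6224 : ∀ i, i < 6224 → P i := stepQ 6223 Q6223 (allL N6223 (tt N6611 (iv F204940)) (tt N6223 F46532) (tt N4915 F46533) (tt N6223 F46534) (tt N6602 (iv F204967)) (tt N4904 F46535) (tt N6601 (iv F204963)) (tt N4903 (iv D10443)) (tt N7765 D15181) (tt N6223 F46536))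
theorem Q6225 : ∀ i, i < 6225 → P i := stepQ 6224 Q6224 (allL N6224 (tt N7748 (iv F66191)) (tt N6224 F46537) (tt N4916 F46538) (tt N7766 D15182) (tt N7709 (iv F65952)) (tt N4905 F46539) (tt N6224 F46540) (tt N7765 (iv F66320)) (tt N4903 (iv D10444)) (tt N7767 D15183))
theorem Q6226 : ∀ i, i < 6226 → P i := stepQ 6225 Q6225 (allL N6225 (tt N7749 (iv F66195)) (tt N6225 F46541) (tt N4917 F46542) (tt N7768 D15184) (tt N4908 F46543) (tt N7765 (iv F66319)) (tt N6225 F46544) (tt N4905 F46545) (tt N4904 (iv D10445)) (tt N7769 D15185))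
theorem Q6227 : ∀ i, i < 6227 → P i := stepQ 6226 Q6226 (allL N6226 (tt N7750 (iv F66200)) (tt N6226 F46546) (tt N7770 D15186) (tt N4905 (iv D10446)) (tt N7771 D15187) (tt N7766 (iv F66322)) (tt N4906 F46547) (tt N7768 (iv F66332)) (tt N6226 F46548) (tt N7772 D15188))
theorem Q6228 : ∀ i, i < 6228 → P i := stepQ 6227 Q6227 (allL N6227 (tt N7751 (iv F66203)) (tt N6227 F46549) (tt N4919 F46550) (tt N7772 (iv F66348)) (tt N4910 F46551) (tt N7767 (iv F66327)) (tt N4907 F46552) (tt N7769 (iv F66338)) (tt N6227 F46553) (tt N4905 (iv D10447)))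
theorem Q6229 : ∀ i, i < 6229 → P i := stepQ 6228 Q6228 (allL N6228 (tt N7752 (iv F66208)) (tt N7773 D15189) (tt N4906 (iv D10448)) (tt N4920 F46554) (tt N7774 D15190) (tt N6228 F46555) (tt N7770 (iv F66341)) (tt N6228 F46556) (tt N6228 F46557) (tt N7775 D15191))
theorem Q6230 : ∀ i, i < 6230 → P i := stepQ 6229 Q6229 (allL N6229 (tt N7266 F203668) (tt N6229 F46558) (tt N7774 (iv F66355)) (tt N4911 F46559) (tt N4906 (iv D10449)) (tt N7776 D15192) (tt N7771 (iv F66345)) (tt N6229 F46560) (tt N6229 F46561) (tt N7777 D15193))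
theorem Q6231 : ∀ i, i < 6231 → P i := stepQ 6230 Q6230 (allL N6230 (tt N7753 (iv F66217)) (tt N6230 F46562) (tt N7775 (iv F66358)) (tt N4907 F46563) (tt N7777 (iv F66369)) (tt N6230 F46564) (tt N7772 (iv F66349)) (tt N6230 F46565) (tt N7778 D15194) (tt N4906 (iv D10450)))
theorem Q6232 : ∀ i, i < 6232 → P i := stepQ 6231 Q6231 (allL N6231 (tt N7268 F202583) (tt N6231 F46566) (tt N7547 (iv F64728)) (tt N4908 (iv D10451)) (tt N7779 D15195) (tt N7716 (iv F65974)) (tt N6231 F46567) (tt N4909 F46568) (tt N5228 F46569) (tt N7780 D15196))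
theorem Q6233 : ∀ i, i < 6233 → P i := stepQ 6232 Q6232 (allL N6232 (tt N7754 (iv F66225)) (tt N6232 F46570) (tt N4922 F46571) (tt N7780 (iv F66381)) (tt N7769 (iv F66336)) (tt N7717 (iv F65979)) (tt N6232 F46572) (tt N4910 F46573) (tt N6232 F46574) (tt N4908 (iv D10452)))
theorem Q6234 : ∀ i, i < 6234 → P i := stepQ 6233 Q6233 (allL N6233 (tt N7265 F203480) (tt N6233 F46575) (tt N7549 (iv F64735)) (tt N7771 (iv F66344)) (tt N4909 (iv D10453)) (tt N7781 D15197) (tt N4911 F46576) (tt N7779 (iv F66378)) (tt N5229 F46577) (tt N7782 D15198))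
theorem Q6235 : ∀ i, i < 6235 → P i := stepQ 6234 Q6234 (allL N6234 (tt N7269 F203484) (tt N6234 F46578) (tt N7550 (iv F64738)) (tt N4910 F46579) (tt N7782 (iv F66387)) (tt N7719 (iv F65987)) (tt N4912 F46580) (tt N7780 (iv F66383)) (tt N7296 F203485) (tt N4909 (iv D10454)))
theorem Q6236 : ∀ i, i < 6236 → P i := stepQ 6235 Q6235 (allL N6235 (tt N6740 F203669) (tt N6235 F46581) (tt N7551 (iv F64741)) (tt N7776 (iv F66363)) (tt N4913 F46582) (tt N4911 (iv D10455)) (tt N7783 D15200) (tt N6235 F46583) (tt N5230 F46584) (tt N7784 D15201))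
theorem Q6237 : ∀ i, i < 6237 → P i := stepQ 6236 Q6236 (allL N6236 (tt N7267 F203670) (tt N6236 F46585) (tt N7552 (iv F64745)) (tt N7777 (iv F66368)) (tt N4912 F46586) (tt N7784 (iv F66398)) (tt N7782 (iv F66388)) (tt N6236 F46587) (tt N7294 F203671) (tt N4911 (iv D10456)))
theorem Q6238 : ∀ i, i < 6238 → P i := stepQ 6237 Q6237 (allL N6237 (tt N6742 F203675) (tt N6237 F46593) (tt N7553 (iv F64752)) (tt N6237 F46594) (tt N7783 (iv F66394)) (tt N7722 (iv F66000)) (tt N4913 (iv D10458)) (tt N7785 D15203) (tt N5231 F46595) (tt N7786 D15204))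
theorem Q6239 : ∀ i, i < 6239 → P i := stepQ 6238 Q6238 (allL N6238 (tt N6743 F203676) (tt N6238 F46596) (tt N7554 (iv F64754)) (tt N6238 F46597) (tt N7784 (iv F66397)) (tt N4914 F46598) (tt N7786 (iv F66410)) (tt N6238 F46599) (tt N6762 F203677) (tt N4913 (iv D10459)))
theorem Q6240 : ∀ i, i < 6240 → P i := stepQ 6239 Q6239 (allL N6239 (tt N6606 (iv F204937)) (tt N4923 F46604) (tt N6601 (iv F204962)) (tt N4942 F46605) (tt N6599 (iv F204964)) (tt N6239 F46606) (tt N4915 (iv D10461)) (tt N6239 F46607) (tt N7787 D15207) (tt N6239 F46608))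
theorem Q6241 : ∀ i, i < 6241 → P i := stepQ 6240 Q6240 (allL N6240 (tt N7755 (iv F66265)) (tt N4924 F46609) (tt N7765 (iv F66318)) (tt N7788 D15208) (tt N7724 (iv F66015)) (tt N4917 F46610) (tt N7787 (iv F66422)) (tt N4916 F46611) (tt N4915 (iv D10462)) (tt N7789 D15209))
theorem Q6242 : ∀ i, i < 6242 → P i := stepQ 6241 Q6241 (allL N6241 (tt N7756 (iv F66269)) (tt N4925 F46612) (tt N7790 D15210) (tt N4916 (iv D10463)) (tt N7791 D15211) (tt N4918 F46613) (tt N6241 F46614) (tt N7788 (iv F66426)) (tt N4944 F46615) (tt N7792 D15212))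
theorem Q6243 : ∀ i, i < 6243 → P i := stepQ 6242 Q6242 (allL N6242 (tt N7757 (iv F66274)) (tt N4926 F46616) (tt N7767 (iv F66326)) (tt N7792 (iv F66439)) (tt N7726 (iv F66023)) (tt N4919 F46617) (tt N6242 F46618) (tt N7789 (iv F66430)) (tt N6242 F46619) (tt N4916 (iv D10464)))
theorem Q6244 : ∀ i, i < 6244 → P i := stepQ 6243 Q6243 (allL N6243 (tt N7758 (iv F66279)) (tt N4927 F46620) (tt N7793 D15213) (tt N4917 (iv D10465)) (tt N7559 (iv F64773)) (tt N7788 (iv F66425)) (tt N6243 F46621) (tt N4918 F46622) (tt N4946 F46623) (tt N7794 D15214))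
theorem Q6245 : ∀ i, i < 6245 → P i := stepQ 6244 Q6244 (allL N6244 (tt N7759 (iv F66284)) (tt N4928 F46624) (tt N7769 (iv F66335)) (tt N7794 (iv F66446)) (tt N4922 F46625) (tt N7789 (iv F66429)) (tt N6244 F46626) (tt N4919 F46627) (tt N6244 F46628) (tt N4917 (iv D10466)))
theorem Q6246 : ∀ i, i < 6246 → P i := stepQ 6245 Q6245 (allL N6245 (tt N7760 (iv F66290)) (tt N7795 D15215) (tt N4918 (iv D10467)) (tt N7770 (iv F66340)) (tt N7561 (iv F64781)) (tt N7790 (iv F66432)) (tt N4920 F46629) (tt N7793 (iv F66443)) (tt N4948 F46630) (tt N7796 D15216))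
theorem Q6247 : ∀ i, i < 6247 → P i := stepQ 6246 Q6246 (allL N6246 (tt N7761 (iv F66293)) (tt N4930 F46631) (tt N7796 (iv F66452)) (tt N4919 F46632) (tt N7562 (iv F64786)) (tt N7792 (iv F66440)) (tt N4921 F46633) (tt N7794 (iv F66448)) (tt N7797 D15217) (tt N4918 (iv D10468)))
theorem Q6248 : ∀ i, i < 6248 → P i := stepQ 6247 Q6247 (allL N6247 (tt N7798 D15218) (tt N4920 (iv D10469)) (tt N4931 F46634) (tt N7773 (iv F66351)) (tt N7563 (iv F64789)) (tt N6247 F46635) (tt N7795 (iv F66450)) (tt N6247 F46636) (tt N4950 F46637) (tt N7799 D15219))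
theorem Q6249 : ∀ i, i < 6249 → P i := stepQ 6248 Q6248 (allL N6248 (tt N7763 (iv F66301)) (tt N7799 (iv F66462)) (tt N4921 F46638) (tt N7775 (iv F66359)) (tt N7564 (iv F64793)) (tt N6248 F46639) (tt N7796 (iv F66453)) (tt N6248 F46640) (tt N7800 D15220) (tt N4920 (iv D10470)))
theorem Q6250 : ∀ i, i < 6250 → P i := stepQ 6249 Q6249 (allL N6249 (tt N7764 (iv F66305)) (tt N4933 F46641) (tt N7800 (iv F66466)) (tt N6249 F46642) (tt N7565 (iv F64796)) (tt N6249 F46643) (tt N7797 (iv F66456)) (tt N6249 F46644) (tt N4921 (iv D10471)) (tt N4952 F46645))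
theorem Q6251 : ∀ i, i < 6251 → P i := stepQ 6250 Q6250 (allL N6250 (tt N6250 F46646) (tt N7787 (iv F66420)) (tt N6250 F46647) (tt N4961 F204911) (tt N7734 (iv F66050)) (tt N6250 F46648) (tt N4924 F46649) (tt N6250 F46650) (tt N4923 (iv D10472)) (tt N7801 D15222))
theorem Q6252 : ∀ i, i < 6252 → P i := stepQ 6251 Q6251 (allL N6251 (tt N6251 F46651) (tt N7788 (iv F66424)) (tt N4958 F204803) (tt N4924 (iv D10473)) (tt N7656 F204804) (tt N4927 F46652) (tt N4961 (iv F204852)) (tt N4925 F46653) (tt N4953 F46654) (tt N7802 D15225))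
theorem Q6253 : ∀ i, i < 6253 → P i := stepQ 6252 Q6252 (allL N6252 (tt N6252 F46655) (tt N7789 (iv F66428)) (tt N6252 F46656) (tt N7802 (iv F66490)) (tt N7736 (iv F66059)) (tt N4928 F46657) (tt N7801 (iv F66478)) (tt N4926 F46658) (tt N6252 F46659) (tt N4924 (iv D10474)))
theorem Q6254 : ∀ i, i < 6254 → P i := stepQ 6253 Q6253 (allL N6253 (tt N6253 F46660) (tt N7803 D15226) (tt N4925 (iv D10475)) (tt N6253 F46661) (tt N7653 F204814) (tt N4929 F46662) (tt N6253 F46663) (tt N4958 F204815) (tt N4954 F46664) (tt N7804 D15228))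
theorem Q6255 : ∀ i, i < 6255 → P i := stepQ 6254 Q6254 (allL N6254 (tt N6254 F46665) (tt N7791 (iv F66435)) (tt N7653 (iv F204737)) (tt N7738 (iv F66069)) (tt N4925 (iv D10476)) (tt N7570 (iv F64813)) (tt N6254 F46666) (tt N7656 (iv F204728)) (tt N4955 F46667) (tt N7805 D15229))
theorem Q6256 : ∀ i, i < 6256 → P i := stepQ 6255 Q6255 (allL N6255 (tt N6255 F46668) (tt N7792 (iv F66438)) (tt N7804 (iv F66502)) (tt N4926 F46669) (tt N7805 (iv F66507)) (tt N4930 F46670) (tt N6255 F46671) (tt N7802 (iv F66492)) (tt N7806 D15230) (tt N4925 (iv D10477)))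
theorem Q6257 : ∀ i, i < 6257 → P i := stepQ 6256 Q6256 (allL N6256 (tt N6256 F46672) (tt N7807 D15231) (tt N4927 (iv D10478)) (tt N6256 F46673) (tt N7572 (iv F64819)) (tt N4958 (iv F204745)) (tt N6256 F46674) (tt N4929 F46675) (tt N4956 F204683) (tt N7806 (iv F204748)))
theorem Q6258 : ∀ i, i < 6258 → P i := stepQ 6257 Q6257 (allL N6257 (tt N6257 F46677) (tt N7794 (iv F66445)) (tt N7806 F204813) (tt N4928 F46678) (tt N7573 (iv F64825)) (tt N7802 (iv F66491)) (tt N6257 F46679) (tt N4930 F46680) (tt N7804 (iv F204869)) (tt N4927 (iv D10479)))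
theorem Q6259 : ∀ i, i < 6259 → P i := stepQ 6258 Q6258 (allL N6258 (tt N7808 D15234) (tt N4929 (iv D10480)) (tt N7795 (iv F66449)) (tt N6258 F46681) (tt N7574 (iv F64828)) (tt N7803 (iv F66494)) (tt N4931 F46682) (tt N7807 (iv F66516)) (tt N4957 F46683) (tt N7809 D15235))
theorem Q6260 : ∀ i, i < 6260 → P i := stepQ 6259 Q6259 (allL N6259 (tt N6259 F46684) (tt N7809 (iv F66532)) (tt N4930 F46685) (tt N6259 F46686) (tt N7575 (iv F64833)) (tt N7804 (iv F66504)) (tt N4932 F46687) (tt N7806 F204828) (tt N7802 (iv F204857)) (tt N4929 (iv D10481)))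
theorem Q6261 : ∀ i, i < 6261 → P i := stepQ 6260 Q6260 (allL N6260 (tt N6260 F46688) (tt N7797 (iv F66454)) (tt N7802 (iv F204855)) (tt N6260 F46689) (tt N7576 (iv F64836)) (tt N7806 (iv F66511)) (tt N4933 F46690) (tt N7804 (iv F204868)) (tt N4930 (iv D10482)) (tt N4958 F46691))
theorem Q6262 : ∀ i, i < 6262 → P i := stepQ 6261 Q6261 (allL N6261 (tt N4931 (iv D10483)) (tt N6261 F46692) (tt N7798 (iv F66458)) (tt N6261 F46693) (tt N7577 (iv F64840)) (tt N6261 F46694) (tt N7808 (iv F66530)) (tt N6261 F46695) (tt N4959 F46696) (tt N7810 D15237))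
theorem Q6263 : ∀ i, i < 6263 → P i := stepQ 6262 Q6262 (allL N6262 (tt N7810 (iv F66539)) (tt N4932 F46697) (tt N7799 (iv F66463)) (tt N6262 F46698) (tt N7578 (iv F64844)) (tt N6262 F46699) (tt N7809 (iv F66534)) (tt N6262 F46700) (tt N7811 D15238) (tt N4931 (iv D10484)))
theorem Q6264 : ∀ i, i < 6264 → P i := stepQ 6263 Q6263 (allL N6263 (tt N6263 F46701) (tt N7811 (iv F66544)) (tt N4933 F46702) (tt N7801 (iv F204933)) (tt N7579 (iv F64848)) (tt N6263 F46703) (tt N7802 F204912) (tt N6263 F46704) (tt N4932 (iv D10485)) (tt N4961 F46705))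
theorem Q6265 : ∀ i, i < 6265 → P i := stepQ 6264 Q6264 (allL N6264 (tt N4942 F46706) (tt N6264 F46707) (tt N6264 F46708) (tt N6606 (iv F204938)) (tt N6264 F46709) (tt N6264 F46710) (tt N4934 (iv D10486)) (tt N6264 F46711) (tt N4963 F204916) (tt N6264 F46712))
theorem Q6266 : ∀ i, i < 6266 → P i := stepQ 6265 Q6265 (allL N6265 (tt N4943 F46713) (tt N6265 F46714) (tt N6265 F46715) (tt N7812 D15241) (tt N6265 F46716) (tt N4936 F46717) (tt N4963 (iv F204898)) (tt N4935 F46718) (tt N4934 (iv D10487)) (tt N4962 F204839))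
theorem Q6267 : ∀ i, i < 6267 → P i := stepQ 6266 Q6266 (allL N6266 (tt N4944 F46719) (tt N6266 F46720) (tt N7813 D15243) (tt N4935 (iv D10488)) (tt N7814 D15244) (tt N4937 F46721) (tt N6266 F46722) (tt N7812 (iv F66564)) (tt N7756 (iv F66273)) (tt N7815 D15245))
theorem Q6268 : ∀ i, i < 6268 → P i := stepQ 6267 Q6267 (allL N6267 (tt N4945 F46723) (tt N6267 F46724) (tt N6267 F46725) (tt N7815 (iv F66582)) (tt N6267 F46726) (tt N4938 F46727) (tt N6267 F46728) (tt N4962 (iv F204777)) (tt N6267 F46729) (tt N4935 (iv D10489)))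
theorem Q6269 : ∀ i, i < 6269 → P i := stepQ 6268 Q6268 (allL N6268 (tt N4946 F46730) (tt N6268 F46731) (tt N7816 D15246) (tt N4936 (iv D10490)) (tt N7614 (iv F65306)) (tt N7812 (iv F66563)) (tt N6268 F46732) (tt N4937 F46733) (tt N7758 (iv F66283)) (tt N7817 D15247))
theorem Q6270 : ∀ i, i < 6270 → P i := stepQ 6269 Q6269 (allL N6269 (tt N4947 F46734) (tt N6269 F46735) (tt N6269 F46736) (tt N7817 (iv F66591)) (tt N4941 F46737) (tt N4962 F204838) (tt N6269 F46738) (tt N4938 F46739) (tt N6269 F46740) (tt N4936 (iv D10491)))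
theorem Q6271 : ∀ i, i < 6271 → P i := stepQ 6270 Q6270 (allL N6270 (tt N4948 F46741) (tt N7818 D15248) (tt N4937 (iv D10492)) (tt N6270 F46742) (tt N7615 (iv F65315)) (tt N7813 (iv F66574)) (tt N4939 F46743) (tt N7816 (iv F66588)) (tt N7760 (iv F66292)) (tt N7819 D15249))
theorem Q6272 : ∀ i, i < 6272 → P i := stepQ 6271 Q6271 (allL N6271 (tt N4949 F46744) (tt N6271 F46745) (tt N7819 (iv F66598)) (tt N4938 F46746) (tt N7077 F204385) (tt N7815 (iv F66583)) (tt N4940 F46747) (tt N7817 (iv F66593)) (tt N7820 D15250) (tt N4937 (iv D10493)))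
theorem Q6273 : ∀ i, i < 6273 → P i := stepQ 6272 Q6272 (allL N6272 (tt N7821 D15251) (tt N4939 (iv D10494)) (tt N6272 F46748) (tt N6272 F46749) (tt N7616 (iv F65323)) (tt N6272 F46750) (tt N7818 (iv F66596)) (tt N6272 F46751) (tt N7762 (iv F66300)) (tt N7822 D15252))
theorem Q6274 : ∀ i, i < 6274 → P i := stepQ 6273 Q6273 (allL N6273 (tt N4951 F46752) (tt N7822 (iv F66610)) (tt N4940 F46753) (tt N6273 F46754) (tt N7078 F204464) (tt N6273 F46755) (tt N7819 (iv F66600)) (tt N6273 F46756) (tt N7823 D15253) (tt N4939 (iv D10495)))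
theorem Q6275 : ∀ i, i < 6275 → P i := stepQ 6274 Q6274 (allL N6274 (tt N4952 F46757) (tt N6274 F46758) (tt N7823 (iv F66616)) (tt N6274 F46759) (tt N7072 F204214) (tt N6274 F46760) (tt N7820 (iv F66604)) (tt N6274 F46761) (tt N4940 (iv D10496)) (tt N7764 (iv F66310)))
theorem Q6276 : ∀ i, i < 6276 → P i := stepQ 6275 Q6275 (allL N6275 (tt N7812 (iv F66561)) (tt N4953 F46768) (tt N7824 D15256) (tt N4943 (iv D10498)) (tt N7655 F204716) (tt N4946 F46769) (tt N4960 (iv F204792)) (tt N4944 F46770) (tt N7788 (iv F66427)) (tt N4957 F204717))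
theorem Q6277 : ∀ i, i < 6277 → P i := stepQ 6276 Q6276 (allL N6276 (tt N7813 (iv F66572)) (tt N7825 D15259) (tt N4944 (iv D10500)) (tt N6276 F46777) (tt N7826 D15260) (tt N4948 F46778) (tt N6276 F46779) (tt N7824 (iv F66632)) (tt N7790 (iv F66434)) (tt N7827 D15261))
theorem Q6278 : ∀ i, i < 6278 → P i := stepQ 6277 Q6277 (allL N6277 (tt N7814 (iv F66576)) (tt N4955 F46780) (tt N7826 (iv F66644)) (tt N6277 F46781) (tt N4944 (iv D10501)) (tt N7635 (iv F65415)) (tt N6277 F46782) (tt N7655 (iv F204642)) (tt N7791 (iv F66437)) (tt N7652 F204597))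
theorem Q6279 : ∀ i, i < 6279 → P i := stepQ 6278 Q6278 (allL N6278 (tt N7815 (iv F66580)) (tt N4956 F46783) (tt N7827 (iv F66646)) (tt N4945 F46784) (tt N7652 F204596) (tt N4949 F46785) (tt N6278 F46786) (tt N4957 (iv F204639)) (tt N7807 (iv F204640)) (tt N4944 (iv D10502)))
theorem Q6280 : ∀ i, i < 6280 → P i := stepQ 6279 Q6279 (allL N6279 (tt N7816 (iv F66585)) (tt N7827 F204694) (tt N4946 (iv D10503)) (tt N6279 F46787) (tt N7637 (iv F65419)) (tt N7824 (iv F66631)) (tt N6279 F46788) (tt N4948 F46789) (tt N7793 (iv F66444)) (tt N7825 (iv F204767)))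
theorem Q6281 : ∀ i, i < 6281 → P i := stepQ 6280 Q6280 (allL N6280 (tt N7817 (iv F66589)) (tt N4954 (iv F204733)) (tt N7825 (iv F204764)) (tt N4947 F46791) (tt N7638 (iv F65424)) (tt N4957 F204709) (tt N6280 F46792) (tt N4949 F46793) (tt N7803 (iv F204790)) (tt N4946 (iv D10504)))
theorem Q6282 : ∀ i, i < 6282 → P i := stepQ 6281 Q6281 (allL N6281 (tt N7828 D15267) (tt N4948 (iv D10505)) (tt N4957 F46794) (tt N6281 F46795) (tt N7639 (iv F65428)) (tt N7825 (iv F66642)) (tt N4950 F46796) (tt N7827 F204701) (tt N7795 (iv F66451)) (tt N7824 (iv F204761)))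
theorem Q6283 : ∀ i, i < 6283 → P i := stepQ 6282 Q6282 (allL N6282 (tt N7819 (iv F66597)) (tt N7824 (iv F204759)) (tt N4949 F46797) (tt N6282 F46798) (tt N7640 (iv F65431)) (tt N7827 (iv F66648)) (tt N4951 F46799) (tt N7825 (iv F204766)) (tt N7829 D15269) (tt N4948 (iv D10506)))
theorem Q6284 : ∀ i, i < 6284 → P i := stepQ 6283 Q6283 (allL N6283 (tt N7820 (iv F66601)) (tt N4958 F46800) (tt N7829 (iv F66677)) (tt N6283 F46801) (tt N7641 (iv F65434)) (tt N7807 F204710) (tt N4952 F46802) (tt N7803 (iv F204789)) (tt N4949 (iv D10507)) (tt N7797 (iv F66457)))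
theorem Q6285 : ∀ i, i < 6285 → P i := stepQ 6284 Q6284 (allL N6284 (tt N4950 (iv D10508)) (tt N7821 (iv F66605)) (tt N4959 F46803) (tt N6284 F46804) (tt N7642 (iv F65437)) (tt N6284 F46805) (tt N7828 (iv F66672)) (tt N6284 F46806) (tt N7798 (iv F66461)) (tt N7830 D15270))
theorem Q6286 : ∀ i, i < 6286 → P i := stepQ 6285 Q6285 (allL N6285 (tt N7830 (iv F66679)) (tt N4951 F46807) (tt N4960 F46808) (tt N6285 F46809) (tt N7643 (iv F65441)) (tt N6285 F46810) (tt N7824 F204833) (tt N6285 F46811) (tt N7831 D15271) (tt N4950 (iv D10509)))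
theorem Q6287 : ∀ i, i < 6287 → P i := stepQ 6286 Q6286 (allL N6286 (tt N7823 (iv F66615)) (tt N7831 (iv F66684)) (tt N4952 F46812) (tt N7832 D15272) (tt N7644 (iv F65444)) (tt N6286 F46813) (tt N7829 (iv F66678)) (tt N6286 F46814) (tt N4951 (iv D10510)) (tt N7800 (iv F66469)))
theorem Q6288 : ∀ i, i < 6288 → P i := stepQ 6287 Q6287 (allL N6287 (tt N4957 (iv D10524)) (tt N6287 F46868) (tt N7828 (iv F66670)) (tt N4962 F46869) (tt N7654 (iv F65497)) (tt N7817 (iv F204778)) (tt N4959 F46870) (tt N7815 F204703) (tt N7808 (iv F66531)) (tt N7812 (iv F204781)))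
theorem Q6289 : ∀ i, i < 6289 → P i := stepQ 6288 Q6288 (allL N6288 (tt N4960 F46877) (tt N6288 F46878) (tt N7830 (iv F66680)) (tt N4963 F46879) (tt N7657 (iv F65510)) (tt N6288 F46880) (tt N7812 F204843) (tt N6288 F46881) (tt N7833 D15294) (tt N4959 (iv D10527)))
theorem Q6290 : ∀ i, i < 6290 → P i := stepQ 6289 Q6289 (allL N6289 (tt N7833 (iv F66772)) (tt N4961 F46882) (tt N7831 (iv F66685)) (tt N7787 (iv F204906)) (tt N7658 (iv F65513)) (tt N6289 F46883) (tt N7788 F204848) (tt N6289 F46884) (tt N4960 (iv D10528)) (tt N7811 (iv F66547)))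
theorem Q6291 : ∀ i, i < 6291 → P i := stepQ 6290 Q6290 (allL N6290 (tt N5260 F47013) (tt N6290 F47014) (tt N6290 F47015) (tt N7834 D15330) (tt N4965 F47016) (tt N6290 F47017) (tt N6290 F47018) (tt N6290 F47019) (tt N4964 (iv D10554)) (tt N6290 F195446))
theorem Q6292 : ∀ i, i < 6292 → P i := stepQ 6291 Q6291 (allL N6291 (tt N5261 F47020) (tt N6291 F47021) (tt N6291 F47022) (tt N6291 F47023) (tt N4966 F47024) (tt N6291 F47025) (tt N6291 F47026) (tt N6291 F47027) (tt N6291 F195398) (tt N4964 (iv D10555)))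
theorem Q6293 : ∀ i, i < 6293 → P i := stepQ 6292 Q6292 (allL N6292 (tt N5262 F47095) (tt N6538 F206278) (tt N6292 F195299) (tt N6292 F47096) (tt N4967 (iv D10567)) (tt N6540 F206279) (tt N6292 F47097) (tt N6292 F47098) (tt N6292 F47099) (tt N6292 F47100))
theorem Q6294 : ∀ i, i < 6294 → P i := stepQ 6293 Q6293 (allL N6293 (tt N5263 F47111) (tt N6541 F206261) (tt N6293 F195109) (tt N4969 F47112) (tt N6540 (iv F206274)) (tt N4968 (iv D10570)) (tt N6544 F206262) (tt N6293 F47113) (tt N6293 F47114) (tt N6293 F47115))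
theorem Q6295 : ∀ i, i < 6295 → P i := stepQ 6294 Q6294 (allL N6294 (tt N5264 F47137) (tt N6545 F206083) (tt N5244 (iv F201584)) (tt N6544 (iv F206227)) (tt N6294 F47138) (tt N4978 F47139) (tt N4969 (iv D10575)) (tt N5254 (iv F201580)) (tt N4973 F47140) (tt N6294 F47141))
theorem Q6296 : ∀ i, i < 6296 → P i := stepQ 6295 Q6295 (allL N6295 (tt N4976 F195576) (tt N4971 F47147) (tt N7107 (iv F195613)) (tt N4970 (iv D10577)) (tt N6295 F47148) (tt N4974 F195577) (tt N4979 F47149) (tt N6295 F47150) (tt N6295 F195079) (tt N4975 F47151))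
theorem Q6297 : ∀ i, i < 6297 → P i := stepQ 6296 Q6296 (allL N6296 (tt N4975 (iv F195526)) (tt N4972 F47152) (tt N7105 (iv F62319)) (tt N4974 (iv F195529)) (tt N6296 F47153) (tt N4970 (iv D10578)) (tt N4984 (iv F195528)) (tt N6296 F47154) (tt N5234 (iv F202329)) (tt N4976 F47155))
theorem Q6298 : ∀ i, i < 6298 → P i := stepQ 6297 Q6297 (allL N6297 (tt N7105 F195556) (tt N6297 F47187) (tt N4975 (iv D10585)) (tt N7108 (iv F62355)) (tt N6297 F47188) (tt N5238 (iv F202332)) (tt N4986 F47189) (tt N6297 F47190) (tt N5237 (iv F202335)) (tt N7107 (iv F195614)))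
theorem Q6299 : ∀ i, i < 6299 → P i := stepQ 6298 Q6298 (allL N6298 (tt N5266 F47306) (tt N6546 F206081) (tt N6298 F194796) (tt N4978 F47307) (tt N6298 F47308) (tt N6544 (iv F206228)) (tt N4977 (iv D10609)) (tt N6548 F206082) (tt N6298 F47309) (tt N6298 F47310))
theorem Q6300 : ∀ i, i < 6300 → P i := stepQ 6299 Q6299 (allL N6299 (tt N5267 F47336) (tt N6549 F205735) (tt N5227 (iv F201577)) (tt N6548 (iv F205969)) (tt N5008 F47337) (tt N5254 (iv F201579)) (tt N4991 F47338) (tt N4978 (iv D10616)) (tt N4983 F47339) (tt N6299 F47340))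
theorem Q6301 : ∀ i, i < 6301 → P i := stepQ 6300 Q6300 (allL N6300 (tt N5243 F201739) (tt N6300 F47351) (tt N4979 (iv D10619)) (tt N7113 (iv F62469)) (tt N6300 F47352) (tt N7120 (iv F195804)) (tt N7107 F195685) (tt N4992 F47353) (tt N6300 F195077) (tt N4986 F47354))
theorem Q6302 : ∀ i, i < 6302 → P i := stepQ 6301 Q6301 (allL N6301 (tt N4989 F195736) (tt N4981 F47355) (tt N7120 (iv F195803)) (tt N4980 F47356) (tt N5018 (iv F195840)) (tt N4979 (iv D10620)) (tt N4985 F195737) (tt N4993 F47357) (tt N6301 F194758) (tt N4987 F47358))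
theorem Q6303 : ∀ i, i < 6303 → P i := stepQ 6302 Q6302 (allL N6302 (tt N4987 (iv F195635)) (tt N4982 F47362) (tt N7116 (iv F62479)) (tt N4985 (iv F195641)) (tt N5011 F47363) (tt N4984 F195579) (tt N4980 (iv D10622)) (tt N4999 (iv F195640)) (tt N5204 (iv F201492)) (tt N4989 F47364))
theorem Q6304 : ∀ i, i < 6304 → P i := stepQ 6303 Q6303 (allL N6303 (tt N4986 F47389) (tt N6561 (iv F205979)) (tt N4984 (iv D10628)) (tt N6644 (iv F205990)) (tt N6303 F47390) (tt N7116 (iv F195618)) (tt N7105 F195564) (tt N4998 F47391) (tt N6558 F205748) (tt N5243 F201750))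
theorem Q6305 : ∀ i, i < 6305 → P i := stepQ 6304 Q6304 (allL N6304 (tt N4988 F47396) (tt N5244 F201921) (tt N6558 F205745) (tt N6304 F47398) (tt N6304 F47399) (tt N5204 F201922) (tt N5234 (iv F202328)) (tt N5000 F47400) (tt N4984 (iv D10630)) (tt N6304 F195272))
theorem Q6306 : ∀ i, i < 6306 → P i := stepQ 6305 Q6305 (allL N6305 (tt N7116 F195683) (tt N6305 F47405) (tt N4987 F47406) (tt N7121 (iv F62522)) (tt N5210 F201090) (tt N4986 (iv D10632)) (tt N5208 (iv F201494)) (tt N5002 F47407) (tt N5207 (iv F201496)) (tt N7120 (iv F195805)))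
theorem Q6307 : ∀ i, i < 6307 → P i := stepQ 6306 Q6306 (allL N6306 (tt N6558 (iv F205625)) (tt N6306 F47408) (tt N4988 F47409) (tt N6557 F205460) (tt N6306 F47410) (tt N5207 F201923) (tt N5237 (iv F202334)) (tt N5003 F47411) (tt N4986 (iv D10633)) (tt N6306 F195280))
theorem Q6308 : ∀ i, i < 6308 → P i := stepQ 6307 Q6307 (allL N6307 (tt N5269 F47563) (tt N6550 F205734) (tt N6307 F194420) (tt N4991 F47564) (tt N6307 F47565) (tt N6307 F47566) (tt N6548 (iv F205970)) (tt N4990 (iv D10667)) (tt N6307 F47567) (tt N6307 F47568))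
theorem Q6309 : ∀ i, i < 6309 → P i := stepQ 6308 Q6308 (allL N6308 (tt N5226 F201610) (tt N6308 F47628) (tt N4993 F47629) (tt N7131 (iv F62671)) (tt N7179 (iv F196136)) (tt N4992 (iv D10683)) (tt N7143 (iv F196144)) (tt N7120 F195950) (tt N6308 F194764) (tt N5002 F47630))
theorem Q6310 : ∀ i, i < 6310 → P i := stepQ 6309 Q6309 (allL N6309 (tt N5025 F196023) (tt N4995 F47635) (tt N7179 (iv F196135)) (tt N5028 F47636) (tt N4993 (iv D10685)) (tt N6309 F47637) (tt N5039 (iv F196186)) (tt N5018 F196024) (tt N6309 F194384) (tt N5004 F47638))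
theorem Q6311 : ∀ i, i < 6311 → P i := stepQ 6310 Q6310 (allL N6310 (tt N5007 F196029) (tt N4996 F47639) (tt N7143 (iv F196143)) (tt N4994 F47640) (tt N5039 (iv F196185)) (tt N6310 F47641) (tt N4993 (iv D10686)) (tt N5001 F196030) (tt N6310 F194389) (tt N5005 F47642))
theorem Q6312 : ∀ i, i < 6312 → P i := stepQ 6311 Q6311 (allL N6311 (tt N5005 (iv F195842)) (tt N4997 F47649) (tt N7137 (iv F62689)) (tt N5001 (iv F195861)) (tt N5030 F47650) (tt N6311 F47651) (tt N4999 F195743) (tt N4994 (iv D10689)) (tt N5216 (iv F201598)) (tt N5007 F47652))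
theorem Q6313 : ∀ i, i < 6313 → P i := stepQ 6312 Q6312 (allL N6312 (tt N5002 F47679) (tt N6569 (iv F205619)) (tt N4999 F47680) (tt N6665 (iv F205629)) (tt N7166 (iv F195813)) (tt N4998 (iv D10696)) (tt N7137 (iv F195814)) (tt N7116 F195708) (tt N6565 F205456) (tt N5226 F201599))
theorem Q6314 : ∀ i, i < 6314 → P i := stepQ 6313 Q6313 (allL N6313 (tt N5004 F47685) (tt N5014 F195741) (tt N7166 (iv F195812)) (tt N5036 F47687) (tt N4999 (iv D10698)) (tt N6313 F47688) (tt N5030 (iv F195857)) (tt N5011 F195742) (tt N5205 (iv F201420)) (tt N5025 (iv F195859)))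
theorem Q6315 : ∀ i, i < 6315 → P i := stepQ 6314 Q6314 (allL N6314 (tt N5006 F47693) (tt N5227 F201602) (tt N6565 F205452) (tt N6314 F47695) (tt N5205 F201603) (tt N5000 F47696) (tt N5216 F201604) (tt N5204 F201605) (tt N4999 (iv D10700)) (tt N6314 F195071))
theorem Q6316 : ∀ i, i < 6316 → P i := stepQ 6315 Q6315 (allL N6315 (tt N7166 F195945) (tt N6315 F47707) (tt N5004 F47708) (tt N7835 D15556) (tt N5002 (iv D10703)) (tt N6315 F47709) (tt N5222 (iv F201476)) (tt N5210 F201087) (tt N5209 (iv F201488)) (tt N7179 (iv F196137)))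
theorem Q6317 : ∀ i, i < 6317 → P i := stepQ 6316 Q6316 (allL N6316 (tt N7137 F195948) (tt N6316 F47710) (tt N5005 F47711) (tt N7145 (iv F62749)) (tt N5222 F201594) (tt N6316 F47712) (tt N5002 (iv D10704)) (tt N5220 F201595) (tt N5219 (iv F202025)) (tt N7143 (iv F196145)))
theorem Q6318 : ∀ i, i < 6318 → P i := stepQ 6317 Q6317 (allL N6317 (tt N6565 (iv F205354)) (tt N6317 F47713) (tt N5006 F47714) (tt N6564 F205244) (tt N5209 F201608) (tt N5003 F47715) (tt N5219 (iv F202024)) (tt N5207 F201609) (tt N5002 (iv D10705)) (tt N6317 F195085))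
theorem Q6319 : ∀ i, i < 6319 → P i := stepQ 6318 Q6318 (allL N6318 (tt N5100 (iv F200708)) (tt N5085 F47881) (tt N5010 F47882) (tt N7160 (iv F62885)) (tt N7836 D15615) (tt N5009 (iv D10742)) (tt N7837 D15616) (tt N5027 F47883) (tt N5094 (iv F200703)) (tt N5019 F47884))
theorem Q6320 : ∀ i, i < 6320 → P i := stepQ 6319 Q6319 (allL N6319 (tt N5022 F196026) (tt N5012 F47890) (tt N7836 (iv F68241)) (tt N5018 F196027) (tt N5010 (iv D10744)) (tt N6319 F47891) (tt N5016 F196028) (tt N5028 F47892) (tt N5095 F200464) (tt N5021 F47893))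
theorem Q6321 : ∀ i, i < 6321 → P i := stepQ 6320 Q6320 (allL N6320 (tt N5021 (iv F195839)) (tt N5013 F47894) (tt N7837 (iv F68246)) (tt N5011 F47895) (tt N5016 (iv F195860)) (tt N6320 F47896) (tt N5010 (iv D10745)) (tt N5036 (iv F195858)) (tt N5096 F200458) (tt N5022 F47897))
theorem Q6322 : ∀ i, i < 6322 → P i := stepQ 6321 Q6321 (allL N6321 (tt N5086 (iv F200307)) (tt N5015 (iv D10754)) (tt N5024 F200480) (tt N7172 (iv F62936)) (tt N6321 F47936) (tt N7838 D15632) (tt N6321 F47937) (tt N5033 F47938) (tt N5082 (iv F200309)) (tt N5020 F200481))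
theorem Q6323 : ∀ i, i < 6323 → P i := stepQ 6322 Q6322 (allL N6322 (tt N5019 F47939) (tt N7838 (iv F68315)) (tt N5016 F47940) (tt N7173 (iv F62941)) (tt N7837 F196037) (tt N5015 (iv D10755)) (tt N7836 (iv F196190)) (tt N5034 F47941) (tt N7839 D15636) (tt N5100 (iv F200711)))
theorem Q6324 : ∀ i, i < 6324 → P i := stepQ 6323 Q6323 (allL N6323 (tt N5020 F47942) (tt N5082 (iv F200308)) (tt N5017 F47943) (tt N7330 (iv F200408)) (tt N6323 F47944) (tt N7839 (iv F68333)) (tt N6323 F47945) (tt N5035 F47946) (tt N5015 (iv D10756)) (tt N5086 (iv F200306)))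
theorem Q6325 : ∀ i, i < 6325 → P i := stepQ 6324 Q6324 (allL N6324 (tt N5023 F47955) (tt N5093 F200186) (tt N7839 (iv F68332)) (tt N6324 F47957) (tt N5096 (iv F200400)) (tt N5017 F47958) (tt N5095 (iv F200401)) (tt N5038 F47959) (tt N5016 (iv D10759)) (tt N5089 (iv F200292)))
theorem Q6326 : ∀ i, i < 6326 → P i := stepQ 6325 Q6325 (allL N6325 (tt N7837 F196025) (tt N5098 F47971) (tt N5021 F47972) (tt N7840 D15644) (tt N5019 (iv D10762)) (tt N6325 F47973) (tt N5100 (iv F200710)) (tt N5040 F47974) (tt N5099 F200450) (tt N7836 (iv F68244)))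
theorem Q6327 : ∀ i, i < 6327 → P i := stepQ 6326 Q6326 (allL N6326 (tt N7836 (iv F196189)) (tt N5099 F47975) (tt N5022 F47976) (tt N7181 (iv F62975)) (tt N5100 (iv F200709)) (tt N6326 F47977) (tt N5019 (iv D10763)) (tt N5124 (iv F200723)) (tt N5098 F200451) (tt N7837 (iv F68248)))
theorem Q6328 : ∀ i, i < 6328 → P i := stepQ 6327 Q6327 (allL N6327 (tt N7839 (iv F68331)) (tt N5100 F47978) (tt N5023 F47979) (tt N7841 D15649) (tt N5099 F200452) (tt N5020 F47980) (tt N5098 F200453) (tt N5042 F47981) (tt N5019 (iv D10764)) (tt N7838 (iv F200706)))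
theorem Q6329 : ∀ i, i < 6329 → P i := stepQ 6328 Q6328 (allL N6328 (tt N7330 F200479) (tt N5101 F47982) (tt N6328 F47983) (tt N5020 (iv D10765)) (tt N7842 D15651) (tt N7841 (iv F68388)) (tt N6328 F47984) (tt N5043 F47985) (tt N7183 (iv F62985)) (tt N7172 (iv F200767)))
theorem Q6330 : ∀ i, i < 6330 → P i := stepQ 6329 Q6329 (allL N6329 (tt N5089 (iv F200291)) (tt N5026 F48005) (tt N7838 (iv F200704)) (tt N6329 F48006) (tt N5088 F200467) (tt N5024 F48007) (tt N5087 F200468) (tt N5048 F48008) (tt N5083 F200469) (tt N5023 (iv D10771)))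
theorem Q6331 : ∀ i, i < 6331 → P i := stepQ 6330 Q6330 (allL N6330 (tt N5124 F201054) (tt N5106 F48186) (tt N5028 F48187) (tt N7843 D15721) (tt N5027 (iv D10814)) (tt N6330 F48188) (tt N7844 D15722) (tt N7836 (iv F68243)) (tt N5118 F201055) (tt N5040 F48189))
theorem Q6332 : ∀ i, i < 6332 → P i := stepQ 6331 Q6331 (allL N6331 (tt N5126 (iv F201425)) (tt N5107 F48190) (tt N5029 F48191) (tt N7201 (iv F63144)) (tt N7844 (iv F68686)) (tt N5052 F48192) (tt N5027 (iv D10815)) (tt N7845 D15724) (tt N5119 (iv F201415)) (tt N5041 F48193))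
theorem Q6333 : ∀ i, i < 6333 → P i := stepQ 6332 Q6332 (allL N6332 (tt N5046 F196459) (tt N5031 F48204) (tt N7844 (iv F68685)) (tt N5039 F196460) (tt N5029 F48205) (tt N5063 (iv F196716)) (tt N5028 (iv D10819)) (tt N5037 F196461) (tt N5120 (iv F200729)) (tt N5044 F48206))
theorem Q6334 : ∀ i, i < 6334 → P i := stepQ 6333 Q6333 (allL N6333 (tt N5044 (iv F196184)) (tt N5032 F48210) (tt N7845 (iv F68693)) (tt N5030 F48211) (tt N5037 (iv F196210)) (tt N5054 F48212) (tt N5036 F196034) (tt N5029 (iv D10821)) (tt N5121 (iv F200684)) (tt N5046 F48213))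
theorem Q6335 : ∀ i, i < 6335 → P i := stepQ 6334 Q6334 (allL N6334 (tt N5108 (iv F200721)) (tt N5034 F48250) (tt N5048 F201042) (tt N7216 (iv F63201)) (tt N7846 D15745) (tt N5033 (iv D10831)) (tt N7847 D15746) (tt N7838 (iv F68317)) (tt N5102 (iv F200720)) (tt N5042 F201043))
theorem Q6336 : ∀ i, i < 6336 → P i := stepQ 6335 Q6335 (allL N6335 (tt N5040 F48257) (tt N7846 (iv F68768)) (tt N5036 F48258) (tt N7848 D15750) (tt N5034 (iv D10833)) (tt N6335 F48259) (tt N7845 (iv F196209)) (tt N7837 F196035) (tt N7849 D15752) (tt N5124 F201022))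
theorem Q6337 : ∀ i, i < 6337 → P i := stepQ 6336 Q6336 (allL N6336 (tt N5041 F48260) (tt N7847 (iv F68772)) (tt N5037 F48261) (tt N7219 (iv F63210)) (tt N7845 F196477) (tt N5059 F48262) (tt N5034 (iv D10834)) (tt N7844 (iv F196719)) (tt N7850 D15754) (tt N5126 (iv F201428)))
theorem Q6338 : ∀ i, i < 6338 → P i := stepQ 6337 Q6337 (allL N6337 (tt N5042 F48263) (tt N5102 (iv F200719)) (tt N5038 F48264) (tt N7389 (iv F200981)) (tt N7849 (iv F68794)) (tt N5035 F48265) (tt N7850 (iv F68802)) (tt N7839 (iv F68334)) (tt N5034 (iv D10835)) (tt N5108 (iv F200707)))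
theorem Q6339 : ∀ i, i < 6339 → P i := stepQ 6338 Q6338 (allL N6338 (tt N5045 F48276) (tt N5115 F200435) (tt N7849 (iv F68793)) (tt N5097 (iv F200929)) (tt N5038 F48278) (tt N6338 F48279) (tt N5121 (iv F200683)) (tt N5096 F200583) (tt N5036 (iv D10839)) (tt N5110 (iv F200689)))
theorem Q6340 : ∀ i, i < 6340 → P i := stepQ 6339 Q6339 (allL N6339 (tt N5047 F48284) (tt N5117 F200637) (tt N7850 (iv F68800)) (tt N6339 F48286) (tt N5121 (iv F200682)) (tt N5064 F48287) (tt N5038 F48288) (tt N5120 (iv F200728)) (tt N5037 (iv D10841)) (tt N5112 (iv F200830)))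
theorem Q6341 : ∀ i, i < 6341 → P i := stepQ 6340 Q6340 (allL N6340 (tt N7848 (iv F68787)) (tt N5122 F48293) (tt N7835 (iv F67976)) (tt N5040 (iv D10843)) (tt N7228 (iv F63242)) (tt N6340 F48294) (tt N7851 D15766) (tt N7840 (iv F68369)) (tt N7852 D15767) (tt N7843 (iv F68683)))
theorem Q6342 : ∀ i, i < 6342 → P i := stepQ 6341 Q6341 (allL N6341 (tt N7845 F196458) (tt N5123 F48295) (tt N5044 F48296) (tt N7851 (iv F68847)) (tt N5041 F48297) (tt N5160 (iv F201435)) (tt N5040 (iv D10844)) (tt N5126 (iv F201427)) (tt N5125 F201041) (tt N7844 (iv F68687)))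
theorem Q6343 : ∀ i, i < 6343 → P i := stepQ 6342 Q6342 (allL N6342 (tt N7849 (iv F68792)) (tt N5124 F48298) (tt N5045 F48299) (tt N7368 (iv F200973)) (tt N5042 F48300) (tt N6342 F48301) (tt N5125 (iv F200972)) (tt N5099 F200631) (tt N5040 (iv D10845)) (tt N7846 (iv F200699)))
theorem Q6344 : ∀ i, i < 6344 → P i := stepQ 6343 Q6343 (allL N6343 (tt N7844 (iv F196718)) (tt N5125 F48302) (tt N5046 F48303) (tt N7231 (iv F63251)) (tt N5126 (iv F201426)) (tt N5068 F48304) (tt N5124 F201030) (tt N5041 (iv D10846)) (tt N5123 F201031) (tt N7845 (iv F68695)))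
theorem Q6345 : ∀ i, i < 6345 → P i := stepQ 6344 Q6344 (allL N6344 (tt N7850 (iv F68799)) (tt N5126 F48305) (tt N5047 F48306) (tt N7853 D15774) (tt N5125 F201061) (tt N5069 F48307) (tt N5042 F48308) (tt N5123 F201062) (tt N5041 (iv D10847)) (tt N7847 (iv F201424)))
theorem Q6346 : ∀ i, i < 6346 → P i := stepQ 6345 Q6345 (allL N6345 (tt N7389 F201063) (tt N5127 F48309) (tt N6345 F48310) (tt N5042 (iv D10848)) (tt N7854 D15776) (tt N5043 F48311) (tt N7853 (iv F68874)) (tt N7841 (iv F68389)) (tt N7233 (iv F63260)) (tt N7216 (iv F201442)))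
theorem Q6347 : ∀ i, i < 6347 → P i := stepQ 6346 Q6346 (allL N6346 (tt N6855 F201123) (tt N5128 F48315) (tt N6346 F48316) (tt N6346 F48317) (tt N5043 (iv D10850)) (tt N7855 D15778) (tt N5071 F48318) (tt N7842 (iv F68398)) (tt N7235 (iv F63267)) (tt N6709 (iv F201536)))
theorem Q6348 : ∀ i, i < 6348 → P i := stepQ 6347 Q6347 (allL N6347 (tt N5110 (iv F200687)) (tt N5049 F48334) (tt N7846 (iv F200698)) (tt N5090 (iv F200779)) (tt N5048 F48335) (tt N6347 F48336) (tt N5111 (iv F200825)) (tt N5088 F200508) (tt N5103 (iv F200815)) (tt N5045 (iv D10856)))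
theorem Q6349 : ∀ i, i < 6349 → P i := stepQ 6348 Q6348 (allL N6348 (tt N5112 (iv F200829)) (tt N5050 F48341) (tt N7847 (iv F201423)) (tt N6348 F48342) (tt N5111 F201084) (tt N5078 F48343) (tt N5048 F48344) (tt N5109 F201085) (tt N5104 F201086) (tt N5047 (iv D10858)))
theorem Q6350 : ∀ i, i < 6350 → P i := stepQ 6349 Q6349 (allL N6349 (tt N5159 (iv F202381)) (tt N5133 F48614) (tt N6349 F48615) (tt N5051 (iv D10920)) (tt N7257 (iv F63495)) (tt N6349 F48616) (tt N7856 D15882) (tt N6349 F48617) (tt N7857 D15883) (tt N5065 F48618))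
theorem Q6351 : ∀ i, i < 6351 → P i := stepQ 6350 Q6350 (allL N6350 (tt N5158 (iv F202287)) (tt N5134 F48619) (tt N5053 F48620) (tt N7856 (iv F69331)) (tt N5052 F48621) (tt N7858 D15884) (tt N5051 (iv D10921)) (tt N7859 D15885) (tt N5150 (iv F202284)) (tt N5066 F48622))
theorem Q6352 : ∀ i, i < 6352 → P i := stepQ 6351 Q6351 (allL N6351 (tt N5160 (iv F201434)) (tt N5136 F48628) (tt N5054 F48629) (tt N7260 (iv F63508)) (tt N7859 (iv F69343)) (tt N7845 (iv F68694)) (tt N6351 F48630) (tt N5052 (iv D10923)) (tt N5151 (iv F201413)) (tt N5068 F48631))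
theorem Q6353 : ∀ i, i < 6353 → P i := stepQ 6352 Q6352 (allL N6352 (tt N5073 F197152) (tt N5055 F48649) (tt N7858 (iv F69338)) (tt N6352 F48650) (tt N5063 F197153) (tt N5053 (iv D10929)) (tt N6352 F48651) (tt N5061 F197154) (tt N5152 (iv F201482)) (tt N5072 F48652))
theorem Q6354 : ∀ i, i < 6354 → P i := stepQ 6353 Q6353 (allL N6353 (tt N5072 (iv F196715)) (tt N5056 F48653) (tt N7859 (iv F69342)) (tt N6353 F48654) (tt N5054 F48655) (tt N5061 (iv F196762)) (tt N6353 F48656) (tt N5053 (iv D10930)) (tt N5153 (iv F201417)) (tt N5073 F48657))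
theorem Q6355 : ∀ i, i < 6355 → P i := stepQ 6354 Q6354 (allL N6354 (tt N5135 (iv F201652)) (tt N5058 F48713) (tt N5076 F201989) (tt N7860 D15916) (tt N5057 (iv D10944)) (tt N6354 F48715) (tt N7861 D15917) (tt N6354 F48716) (tt N5129 (iv F201651)) (tt N5067 F201990))
theorem Q6356 : ∀ i, i < 6356 → P i := stepQ 6355 Q6355 (allL N6355 (tt N5137 (iv F201459)) (tt N5059 F48718) (tt N5078 F201843) (tt N7279 (iv F63593)) (tt N7861 (iv F69471)) (tt N7847 (iv F68774)) (tt N5057 (iv D10945)) (tt N7862 D15919) (tt N5130 (iv F201458)) (tt N5069 F201844))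
theorem Q6357 : ∀ i, i < 6357 → P i := stepQ 6356 Q6356 (allL N6356 (tt N5065 F48733) (tt N7860 (iv F69465)) (tt N6356 F48734) (tt N5058 (iv D10949)) (tt N7282 (iv F63609)) (tt N6356 F48735) (tt N7863 D15926) (tt N6356 F48736) (tt N7864 D15927) (tt N5159 (iv F202382)))
theorem Q6358 : ∀ i, i < 6358 → P i := stepQ 6357 Q6357 (allL N6357 (tt N5066 F48737) (tt N7861 (iv F69469)) (tt N5061 F48738) (tt N7863 (iv F69509)) (tt N5059 F48739) (tt N7859 F197167) (tt N5058 (iv D10950)) (tt N7858 (iv F197469)) (tt N7865 D15930) (tt N5158 (iv F202290)))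
theorem Q6359 : ∀ i, i < 6359 → P i := stepQ 6358 Q6358 (allL N6358 (tt N5067 F48740) (tt N5129 (iv F201650)) (tt N5062 F48741) (tt N7866 D15931) (tt N5060 F48742) (tt N6358 F48743) (tt N7865 (iv F69524)) (tt N6358 F48744) (tt N5058 (iv D10951)) (tt N5135 (iv F201640)))
theorem Q6360 : ∀ i, i < 6360 → P i := stepQ 6359 Q6359 (allL N6359 (tt N5068 F48745) (tt N7862 (iv F69479)) (tt N5063 F48746) (tt N7285 (iv F63620)) (tt N7858 (iv F197468)) (tt N7844 F197150) (tt N6359 F48747) (tt N5059 (iv D10952)) (tt N7867 D15933) (tt N5160 (iv F201436)))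
theorem Q6361 : ∀ i, i < 6361 → P i := stepQ 6360 Q6360 (allL N6360 (tt N5069 F48748) (tt N5130 (iv F201457)) (tt N5064 F48749) (tt N7471 (iv F201699)) (tt N7865 (iv F69523)) (tt N7850 (iv F68801)) (tt N5060 F48750) (tt N7867 (iv F69536)) (tt N5059 (iv D10953)) (tt N5137 (iv F201445)))
theorem Q6362 : ∀ i, i < 6362 → P i := stepQ 6361 Q6361 (allL N6361 (tt N5074 F48776) (tt N5146 F201341) (tt N7865 (iv F69522)) (tt N5196 (iv F201700)) (tt N5064 F48778) (tt N5153 (iv F201416)) (tt N5062 F48779) (tt N5152 (iv F201481)) (tt N5061 (iv D10960)) (tt N5140 (iv F201634)))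
theorem Q6363 : ∀ i, i < 6363 → P i := stepQ 6362 Q6362 (allL N6362 (tt N5075 F48780) (tt N5147 F201356) (tt N7868 D15946) (tt N5062 (iv D10961)) (tt N6362 F48782) (tt N6362 F48783) (tt N5196 (iv F201701)) (tt N6362 F48784) (tt N6362 F48785) (tt N5141 (iv F201659)))
theorem Q6364 : ∀ i, i < 6364 → P i := stepQ 6363 Q6363 (allL N6363 (tt N5077 F48791) (tt N5148 F201078) (tt N7867 (iv F69534)) (tt N6363 F48793) (tt N5152 (iv F201480)) (tt N5120 F201079) (tt N6363 F48794) (tt N5064 F48795) (tt N5063 (iv D10963)) (tt N5142 (iv F201479)))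
theorem Q6365 : ∀ i, i < 6365 → P i := stepQ 6364 Q6364 (allL N6364 (tt N7863 (iv F69507)) (tt N5154 F48800) (tt N6364 F48801) (tt N5066 F48802) (tt N7297 (iv F63675)) (tt N7869 D15949) (tt N5065 (iv D10965)) (tt N7870 D15950) (tt N7871 D15951) (tt N7856 (iv F69332)))
theorem Q6366 : ∀ i, i < 6366 → P i := stepQ 6365 Q6365 (allL N6365 (tt N7864 (iv F69510)) (tt N5155 F48803) (tt N6365 F48804) (tt N7872 D15952) (tt N7298 (iv F63678)) (tt N6365 F48805) (tt N7871 (iv F69611)) (tt N6365 F48806) (tt N5065 (iv D10966)) (tt N7873 D15953))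
theorem Q6367 : ∀ i, i < 6367 → P i := stepQ 6366 Q6366 (allL N6366 (tt N7859 F197149) (tt N5156 F48807) (tt N5072 F48808) (tt N7869 (iv F69603)) (tt N5160 F201852) (tt N5066 (iv D10967)) (tt N6366 F48809) (tt N5158 (iv F202289)) (tt N5157 F201853) (tt N7858 (iv F69340)))
theorem Q6368 : ∀ i, i < 6368 → P i := stepQ 6367 Q6367 (allL N6367 (tt N7858 (iv F197467)) (tt N5157 F48810) (tt N5073 F48811) (tt N7870 (iv F69607)) (tt N5068 F48812) (tt N5158 (iv F202288)) (tt N6367 F48813) (tt N5066 (iv D10968)) (tt N5156 F201838) (tt N7859 (iv F69345)))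
theorem Q6369 : ∀ i, i < 6369 → P i := stepQ 6368 Q6368 (allL N6368 (tt N7865 (iv F69521)) (tt N5158 F48814) (tt N5074 F48815) (tt N7874 D15957) (tt N5069 F48816) (tt N5157 F201887) (tt N5067 F48817) (tt N5156 F201888) (tt N5066 (iv D10969)) (tt N7861 (iv F202286)))
theorem Q6370 : ∀ i, i < 6370 → P i := stepQ 6369 Q6369 (allL N6369 (tt N7866 (iv F69525)) (tt N5159 F48818) (tt N7875 D15959) (tt N5067 (iv D10970)) (tt N7876 D15960) (tt N6369 F48819) (tt N7874 (iv F69633)) (tt N6369 F48820) (tt N7872 (iv F69615)) (tt N7860 (iv F202393)))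
theorem Q6371 : ∀ i, i < 6371 → P i := stepQ 6370 Q6370 (allL N6370 (tt N7867 (iv F69533)) (tt N5160 F48826) (tt N5077 F48827) (tt N7877 D15962) (tt N5156 (iv F201692)) (tt N5123 F201328) (tt N6370 F48828) (tt N5069 F48829) (tt N5068 (iv D10972)) (tt N7862 (iv F201444)))
theorem Q6372 : ∀ i, i < 6372 → P i := stepQ 6371 Q6371 (allL N6371 (tt N7471 F201889) (tt N5161 F48830) (tt N6371 F48831) (tt N5069 (iv D10973)) (tt N7878 D15964) (tt N7853 (iv F68873)) (tt N5070 F48832) (tt N7877 (iv F69652)) (tt N7305 (iv F63703)) (tt N7279 (iv F202272)))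
theorem Q6373 : ∀ i, i < 6373 → P i := stepQ 6372 Q6372 (allL N6372 (tt N7470 F201991) (tt N5162 F48836) (tt N6372 F48837) (tt N7876 (iv F69643)) (tt N5070 (iv D10975)) (tt N7879 D15966) (tt N7878 (iv F69659)) (tt N6372 F48838) (tt N7307 (iv F63710)) (tt N7278 (iv F202367)))
theorem Q6374 : ∀ i, i < 6374 → P i := stepQ 6373 Q6373 (allL N6373 (tt N6940 F201992) (tt N5163 F48844) (tt N6373 F48845) (tt N6373 F48846) (tt N7879 (iv F69666)) (tt N5071 (iv D10977)) (tt N7880 D15969) (tt N6373 F48847) (tt N7309 (iv F63719)) (tt N6751 (iv F202366)))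
theorem Q6375 : ∀ i, i < 6375 → P i := stepQ 6374 Q6374 (allL N6374 (tt N5140 (iv F201633)) (tt N5079 F48870) (tt N7861 (iv F202285)) (tt N5179 (iv F202326)) (tt N5078 F48871) (tt N5139 F201918) (tt N5076 F48872) (tt N5138 F201919) (tt N5131 F201920) (tt N5074 (iv D10984)))
theorem Q6376 : ∀ i, i < 6376 → P i := stepQ 6375 Q6375 (allL N6375 (tt N7868 (iv F69585)) (tt N6375 F48873) (tt N5075 (iv D10985)) (tt N7875 (iv F69639)) (tt N6375 F48874) (tt N6375 F48875) (tt N5201 (iv F202325)) (tt N6375 F48876) (tt N6375 F48877) (tt N7881 D15980))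
theorem Q6377 : ∀ i, i < 6377 → P i := stepQ 6376 Q6376 (allL N6376 (tt N5141 (iv F201658)) (tt N5080 F48878) (tt N7881 (iv F69720)) (tt N5076 F48879) (tt N6376 F48880) (tt N6376 F48881) (tt N5179 (iv F202327)) (tt N6376 F48882) (tt N5170 (iv F201706)) (tt N5075 (iv D10986)))
theorem Q6378 : ∀ i, i < 6378 → P i := stepQ 6377 Q6377 (allL N6377 (tt N5142 (iv F201478)) (tt N5081 F48883) (tt N7862 (iv F201443)) (tt N6377 F48884) (tt N5138 (iv F201636)) (tt N5109 F201237) (tt N6377 F48885) (tt N5078 F48886) (tt N5132 (iv F201419)) (tt N5077 (iv D10987)))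
theorem Q6379 : ∀ i, i < 6379 → P i := stepQ 6378 Q6378 (allL N6378 (tt N5085 F48932) (tt N7839 F200449) (tt N5083 F48933) (tt N7331 (iv F63808)) (tt N7882 D15991) (tt N5082 (iv D10997)) (tt N7883 D15992) (tt N5102 F48934) (tt N7838 (iv F200705)) (tt N5094 F48935))
theorem Q6380 : ∀ i, i < 6380 → P i := stepQ 6379 Q6379 (allL N6379 (tt N5087 F48941) (tt N5092 F200454) (tt N7882 (iv F69774)) (tt N6379 F48943) (tt N5083 (iv D10999)) (tt N6379 F48944) (tt N5089 F200455) (tt N5103 F48945) (tt N5088 F200456) (tt N5095 F48946))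
theorem Q6381 : ∀ i, i < 6381 → P i := stepQ 6380 Q6380 (allL N6380 (tt N5088 F48947) (tt N5091 F200437) (tt N7883 (iv F69779)) (tt N5084 F48949) (tt N5089 F200438) (tt N6380 F48950) (tt N5083 (iv D11000)) (tt N5110 (iv F200690)) (tt N5087 F200439) (tt N5096 F48951))
theorem Q6382 : ∀ i, i < 6382 → P i := stepQ 6381 Q6381 (allL N6381 (tt N5090 F48964) (tt N5114 F200436) (tt N7337 (iv F63838)) (tt N5110 F201029) (tt N6381 F48966) (tt N6381 F48967) (tt N5105 F48968) (tt N5084 (iv D11003)) (tt N6381 F48969) (tt N5097 F48970))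
theorem Q6383 : ∀ i, i < 6383 → P i := stepQ 6382 Q6382 (allL N6382 (tt N7882 (iv F69773)) (tt N7836 (iv F68240)) (tt N5087 F48971) (tt N7884 D16001) (tt N5085 (iv D11004)) (tt N6382 F48972) (tt N7838 F196465) (tt N5106 F48973) (tt N7883 (iv F200693)) (tt N5098 F48974))
theorem Q6384 : ∀ i, i < 6384 → P i := stepQ 6383 Q6383 (allL N6383 (tt N7883 (iv F69778)) (tt N7837 (iv F68245)) (tt N5088 F48975) (tt N7339 (iv F63848)) (tt N7838 (iv F196215)) (tt N6383 F48976) (tt N5085 (iv D11005)) (tt N7846 (iv F196212)) (tt N7882 (iv F200701)) (tt N5099 F48977))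
theorem Q6385 : ∀ i, i < 6385 → P i := stepQ 6384 Q6384 (allL N6384 (tt N7838 F200448) (tt N5094 (iv F200702)) (tt N5089 F48978) (tt N7355 (iv F200722)) (tt N7883 (iv F200692)) (tt N5086 F48979) (tt N7882 (iv F200700)) (tt N5108 F48980) (tt N5085 (iv D11006)) (tt N7839 F200443))
theorem Q6386 : ∀ i, i < 6386 → P i := stepQ 6385 Q6385 (allL N6385 (tt N5098 F49052) (tt N7883 F196464) (tt N5095 F49053) (tt N7885 D16030) (tt N5094 (iv D11023)) (tt N6385 F49054) (tt N7839 F200634) (tt N5118 F49055) (tt N7836 (iv F200712)) (tt N7882 (iv F69777)))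
theorem Q6387 : ∀ i, i < 6387 → P i := stepQ 6386 Q6386 (allL N6386 (tt N5099 F49056) (tt N7882 (iv F196724)) (tt N5096 F49057) (tt N7357 (iv F63926)) (tt N7839 F200633) (tt N6386 F49058) (tt N5094 (iv D11024)) (tt N7849 (iv F200691)) (tt N7837 (iv F200697)) (tt N7883 (iv F69781)))
theorem Q6388 : ∀ i, i < 6388 → P i := stepQ 6387 Q6387 (allL N6387 (tt N7885 (iv F69945)) (tt N7840 (iv F68367)) (tt N6387 F49096) (tt N5098 (iv D11033)) (tt N7365 (iv F63965)) (tt N6387 F49097) (tt N7841 (iv F200725)) (tt N5122 F49098) (tt N7886 D16047) (tt N7884 (iv F69826)))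
theorem Q6389 : ∀ i, i < 6389 → P i := stepQ 6388 Q6388 (allL N6388 (tt N7160 F201051) (tt N7841 (iv F68386)) (tt N5211 F49111) (tt N5100 (iv D11038)) (tt N7887 D16056) (tt N5101 F49112) (tt N7840 F201052) (tt N5127 F49113) (tt N7370 (iv F63982)) (tt N7173 F201053))
theorem Q6390 : ∀ i, i < 6390 → P i := stepQ 6389 Q6389 (allL N6389 (tt N6672 F201115) (tt N7842 (iv F68394)) (tt N5212 F49117) (tt N6389 F49118) (tt N5101 (iv D11040)) (tt N7888 D16058) (tt N6389 F49119) (tt N5128 F49120) (tt N7372 (iv F63989)) (tt N6681 F201116))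
theorem Q6391 : ∀ i, i < 6391 → P i := stepQ 6390 Q6390 (allL N6390 (tt N5106 F49195) (tt N7849 F201016) (tt N5103 F49196) (tt N7889 D16085) (tt N5102 (iv D11059)) (tt N6390 F49197) (tt N7890 D16086) (tt N7882 (iv F69776)) (tt N7846 F201017) (tt N5118 F49198))
theorem Q6392 : ∀ i, i < 6392 → P i := stepQ 6391 Q6391 (allL N6391 (tt N5107 F49199) (tt N7850 F201058) (tt N5104 F49200) (tt N7391 (iv F64063)) (tt N7890 (iv F70171)) (tt N5130 F49201) (tt N5102 (iv D11060)) (tt N7891 D16088) (tt N7847 F201059) (tt N5119 F49202))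
theorem Q6393 : ∀ i, i < 6393 → P i := stepQ 6392 Q6392 (allL N6392 (tt N5109 F49214) (tt N5116 F201080) (tt N7890 (iv F70170)) (tt N6392 F49216) (tt N5104 F49217) (tt N5142 (iv F201483)) (tt N5103 (iv D11064)) (tt N5112 F201081) (tt N5111 F201082) (tt N5120 F49218))
theorem Q6394 : ∀ i, i < 6394 → P i := stepQ 6393 Q6393 (allL N6393 (tt N5111 F49223) (tt N5113 F201012) (tt N7891 (iv F70178)) (tt N5105 F49225) (tt N5112 F201013) (tt N5132 F49226) (tt N5110 F201014) (tt N5104 (iv D11066)) (tt N5109 F201015) (tt N5121 F49227))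
theorem Q6395 : ∀ i, i < 6395 → P i := stepQ 6394 Q6394 (allL N6394 (tt N7889 (iv F70165)) (tt N7843 (iv F68681)) (tt N6394 F49238) (tt N5106 (iv D11069)) (tt N7399 (iv F64101)) (tt N6394 F49239) (tt N7892 D16101) (tt N7884 (iv F69825)) (tt N7893 D16102) (tt N5122 F49240))
theorem Q6396 : ∀ i, i < 6396 → P i := stepQ 6395 Q6395 (allL N6395 (tt N7890 (iv F70169)) (tt N7844 (iv F68684)) (tt N5109 F49241) (tt N7892 (iv F70237)) (tt N5107 F49242) (tt N7862 (iv F197464)) (tt N5106 (iv D11070)) (tt N7847 F197157) (tt N7891 (iv F201409)) (tt N5123 F49243))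
theorem Q6397 : ∀ i, i < 6397 → P i := stepQ 6396 Q6396 (allL N6396 (tt N7846 F201026) (tt N5118 F201027) (tt N5110 F49244) (tt N7894 D16106) (tt N5108 F49245) (tt N6396 F49246) (tt N7891 (iv F201408)) (tt N7883 F201028) (tt N5106 (iv D11071)) (tt N7849 F201023))
theorem Q6398 : ∀ i, i < 6398 → P i := stepQ 6397 Q6397 (allL N6397 (tt N7891 (iv F70177)) (tt N7845 (iv F68692)) (tt N5111 F49247) (tt N7402 (iv F64109)) (tt N7847 (iv F196765)) (tt N5136 F49248) (tt N7846 F196476) (tt N5107 (iv D11072)) (tt N7890 (iv F201411)) (tt N5125 F49249))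
theorem Q6399 : ∀ i, i < 6399 → P i := stepQ 6398 Q6398 (allL N6398 (tt N7847 F201060) (tt N5119 (iv F201414)) (tt N5112 F49250) (tt N7423 (iv F201446)) (tt N7891 (iv F201407)) (tt N5137 F49251) (tt N5108 F49252) (tt N7890 (iv F201410)) (tt N5107 (iv D11073)) (tt N7850 F201047))
theorem Q6400 : ∀ i, i < 6400 → P i := stepQ 6399 Q6399 (allL N6399 (tt N5122 F49341) (tt N7894 (iv F201365)) (tt N6399 F49342) (tt N5118 (iv D11098)) (tt N7424 (iv F64200)) (tt N6399 F49343) (tt N7895 D16145) (tt N7885 (iv F69948)) (tt N7896 D16146) (tt N7889 (iv F70168)))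
theorem Q6401 : ∀ i, i < 6401 → P i := stepQ 6400 Q6400 (allL N6400 (tt N5123 F49344) (tt N7891 F197156) (tt N5120 F49345) (tt N7895 (iv F70389)) (tt N5119 F49346) (tt N7867 (iv F201454)) (tt N5118 (iv D11099)) (tt N7850 F201056) (tt N7844 F201057) (tt N7890 (iv F70172)))
theorem Q6402 : ∀ i, i < 6402 → P i := stepQ 6401 Q6401 (allL N6401 (tt N5125 F49351) (tt N7890 (iv F197475)) (tt N5121 F49352) (tt N7427 (iv F64209)) (tt N7850 F201019) (tt N5151 F49353) (tt N7849 F201020) (tt N5119 (iv D11101)) (tt N7845 F201021) (tt N7891 (iv F70180)))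
theorem Q6403 : ∀ i, i < 6403 → P i := stepQ 6402 Q6402 (allL N6402 (tt N7895 (iv F70387)) (tt N7851 (iv F68846)) (tt N6402 F49404) (tt N5123 F49405) (tt N7437 (iv F64261)) (tt N7877 (iv F201691)) (tt N5122 (iv D11114)) (tt N7853 (iv F201461)) (tt N7897 D16170) (tt N7892 (iv F70238)))
theorem Q6404 : ∀ i, i < 6404 → P i := stepQ 6403 Q6403 (allL N6403 (tt N7896 (iv F70390)) (tt N7852 (iv F68848)) (tt N6403 F49406) (tt N7898 D16171) (tt N7438 (iv F64263)) (tt N6403 F49407) (tt N7897 (iv F70482)) (tt N7886 (iv F70023)) (tt N5122 (iv D11115)) (tt N7899 D16172))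
theorem Q6405 : ∀ i, i < 6405 → P i := stepQ 6404 Q6404 (allL N6404 (tt N7843 (iv F201399)) (tt N7368 F201008) (tt N7187 (iv F201330)) (tt N5124 (iv D11119)) (tt N7900 D16179) (tt N6404 F49416) (tt N7231 (iv F201363)) (tt N7181 F201009) (tt N7898 (iv F70484)) (tt N7848 (iv F201362)))
theorem Q6406 : ∀ i, i < 6406 → P i := stepQ 6405 Q6405 (allL N6405 (tt N7201 F201821) (tt N7853 (iv F68871)) (tt N5223 F49423) (tt N5126 (iv D11122)) (tt N7901 D16183) (tt N5161 F49424) (tt N5127 F49425) (tt N7851 F201822) (tt N7445 (iv F64279)) (tt N7219 F201823))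
theorem Q6407 : ∀ i, i < 6407 → P i := stepQ 6406 Q6406 (allL N6406 (tt N7200 F201789) (tt N7854 (iv F68879)) (tt N5224 F49429) (tt N7900 (iv F70503)) (tt N5127 (iv D11124)) (tt N7902 D16185) (tt N7901 (iv F70513)) (tt N7887 (iv F70050)) (tt N7447 (iv F64284)) (tt N7218 F201790))
theorem Q6408 : ∀ i, i < 6408 → P i := stepQ 6407 Q6407 (allL N6407 (tt N6697 F201979) (tt N7855 (iv F68885)) (tt N5225 F49433) (tt N6407 F49434) (tt N7902 (iv F70519)) (tt N5128 (iv D11126)) (tt N7903 D16188) (tt N7888 (iv F70057)) (tt N7449 (iv F64289)) (tt N6710 F201980))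
theorem Q6409 : ∀ i, i < 6409 → P i := stepQ 6408 Q6408 (allL N6408 (tt N5133 F49532) (tt N7866 F202060) (tt N5164 F49533) (tt N5129 (iv D11153)) (tt N7048 (iv F202441)) (tt N6408 F49534) (tt N7904 D16225) (tt N6408 F49535) (tt N7905 D16226) (tt N5149 F49536))
theorem Q6410 : ∀ i, i < 6410 → P i := stepQ 6409 Q6409 (allL N6409 (tt N5134 F49537) (tt N7865 F201884) (tt N5131 F49538) (tt N7904 (iv F70668)) (tt N5130 F49539) (tt N7906 D16227) (tt N5129 (iv D11154)) (tt N7907 D16228) (tt N7861 F201885) (tt N5150 F49540))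
theorem Q6411 : ∀ i, i < 6411 → P i := stepQ 6410 Q6410 (allL N6410 (tt N5136 F49546) (tt N7867 F201825) (tt N5132 F49547) (tt N7474 (iv F64392)) (tt N7907 (iv F70680)) (tt N7891 (iv F70179)) (tt N6410 F49548) (tt N5130 (iv D11156)) (tt N7862 F201826) (tt N5151 F49549))
theorem Q6412 : ∀ i, i < 6412 → P i := stepQ 6411 Q6411 (allL N6411 (tt N5138 F49570) (tt N5144 F201912) (tt N7906 (iv F70675)) (tt N5167 F49572) (tt N5142 F201913) (tt N5131 (iv D11162)) (tt N6411 F49573) (tt N5140 F201914) (tt N5139 F201915) (tt N5152 F49574))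
theorem Q6413 : ∀ i, i < 6413 → P i := stepQ 6412 Q6412 (allL N6412 (tt N5139 F49575) (tt N5143 F201827) (tt N7907 (iv F70679)) (tt N5168 F49577) (tt N5132 F49578) (tt N5140 F201828) (tt N6412 F49579) (tt N5131 (iv D11163)) (tt N5138 F201829) (tt N5153 F49580))
theorem Q6414 : ∀ i, i < 6414 → P i := stepQ 6413 Q6413 (allL N6413 (tt N7904 (iv F70666)) (tt N7856 (iv F69329)) (tt N5172 F49607) (tt N5134 F49608) (tt N7483 (iv F64452)) (tt N7908 D16248) (tt N5133 (iv D11169)) (tt N7909 D16249) (tt N7910 D16250) (tt N5154 F49609))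
theorem Q6415 : ∀ i, i < 6415 → P i := stepQ 6414 Q6414 (allL N6414 (tt N7905 (iv F70670)) (tt N7857 (iv F69333)) (tt N5173 F49610) (tt N7911 D16251) (tt N7484 (iv F64455)) (tt N6414 F49611) (tt N7910 (iv F70779)) (tt N6414 F49612) (tt N5133 (iv D11170)) (tt N7912 D16252))
theorem Q6416 : ∀ i, i < 6416 → P i := stepQ 6415 Q6415 (allL N6415 (tt N7906 (iv F70674)) (tt N7858 (iv F69337)) (tt N5138 F49613) (tt N7908 (iv F70771)) (tt N7862 F197944) (tt N5134 (iv D11171)) (tt N6415 F49614) (tt N7861 F197945) (tt N7907 (iv F202279)) (tt N5156 F49615))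
theorem Q6417 : ∀ i, i < 6417 → P i := stepQ 6416 Q6416 (allL N6416 (tt N7907 (iv F70678)) (tt N7859 (iv F69341)) (tt N5139 F49616) (tt N7909 (iv F70775)) (tt N5136 F49617) (tt N7861 (iv F197508)) (tt N6416 F49618) (tt N5134 (iv D11172)) (tt N7906 (iv F202277)) (tt N5157 F49619))
theorem Q6418 : ∀ i, i < 6418 → P i := stepQ 6417 Q6417 (allL N6417 (tt N7861 F201886) (tt N5150 (iv F202283)) (tt N5140 F49620) (tt N7913 D16256) (tt N5137 F49621) (tt N7907 (iv F202278)) (tt N5135 F49622) (tt N7906 (iv F202276)) (tt N5134 (iv D11173)) (tt N7865 F201860))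
theorem Q6419 : ∀ i, i < 6419 → P i := stepQ 6418 Q6418 (allL N6418 (tt N7860 F202061) (tt N5149 (iv F202377)) (tt N7914 D16258) (tt N5135 (iv D11174)) (tt N7514 (iv F202448)) (tt N6418 F49623) (tt N7913 (iv F70797)) (tt N6418 F49624) (tt N7911 (iv F70782)) (tt N7866 F202048))
theorem Q6420 : ∀ i, i < 6420 → P i := stepQ 6419 Q6419 (allL N6419 (tt N7862 F201830) (tt N5151 F201831) (tt N5142 F49630) (tt N7516 (iv F202281)) (tt N7906 (iv F202275)) (tt N7890 F201832) (tt N6419 F49631) (tt N5137 F49632) (tt N5136 (iv D11176)) (tt N7867 F201824))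
theorem Q6421 : ∀ i, i < 6421 → P i := stepQ 6420 Q6420 (allL N6420 (tt N5179 F202043) (tt N5145 F49665) (tt N7915 D16277) (tt N5140 (iv D11187)) (tt N6420 F49666) (tt N5168 (iv F202280)) (tt N5141 F49667) (tt N5167 (iv F202324)) (tt N5182 F49668) (tt N5196 F202044))
theorem Q6422 : ∀ i, i < 6422 → P i := stepQ 6421 Q6421 (allL N6421 (tt N7881 F202074) (tt N5282 (iv F202474)) (tt N5141 (iv D11189)) (tt N7914 (iv F70802)) (tt N6421 F49673) (tt N6421 F49674) (tt N7915 (iv F70868)) (tt N6421 F49675) (tt N5183 F49676) (tt N7868 F202075))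
theorem Q6423 : ∀ i, i < 6423 → P i := stepQ 6422 Q6422 (allL N6422 (tt N5154 F49766) (tt N7913 F202719) (tt N5192 F49767) (tt N5150 F49768) (tt N7517 (iv F64608)) (tt N7916 D16312) (tt N5149 (iv D11212)) (tt N7917 D16313) (tt N7918 D16314) (tt N7904 (iv F70669)))
theorem Q6424 : ∀ i, i < 6424 → P i := stepQ 6423 Q6423 (allL N6423 (tt N5155 F49769) (tt N7911 F202844) (tt N5193 F49770) (tt N7857 F202845) (tt N7518 (iv F64611)) (tt N6423 F49771) (tt N7918 (iv F71012)) (tt N6423 F49772) (tt N5149 (iv D11213)) (tt N7919 D16316))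
theorem Q6425 : ∀ i, i < 6425 → P i := stepQ 6424 Q6424 (allL N6424 (tt N5156 F49773) (tt N7907 F197941) (tt N5152 F49774) (tt N7916 (iv F71004)) (tt N7867 F201876) (tt N5150 (iv D11214)) (tt N6424 F49775) (tt N7865 F201877) (tt N7858 F201878) (tt N7906 (iv F70677)))
theorem Q6426 : ∀ i, i < 6426 → P i := stepQ 6425 Q6425 (allL N6425 (tt N5157 F49776) (tt N7906 (iv F198290)) (tt N5153 F49777) (tt N7917 (iv F71008)) (tt N5151 F49778) (tt N7865 F201833) (tt N6425 F49779) (tt N5150 (iv D11215)) (tt N7859 F201834) (tt N7907 (iv F70682)))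
theorem Q6427 : ∀ i, i < 6427 → P i := stepQ 6426 Q6426 (allL N6426 (tt N7916 (iv F71002)) (tt N7869 (iv F69601)) (tt N5197 F49848) (tt N5156 F49849) (tt N7920 D16338) (tt N5154 (iv D11232)) (tt N6426 F49850) (tt N7874 (iv F202317)) (tt N7921 D16340) (tt N7908 (iv F70773)))
theorem Q6428 : ∀ i, i < 6428 → P i := stepQ 6427 Q6427 (allL N6427 (tt N7917 (iv F71006)) (tt N7870 (iv F69605)) (tt N5198 F49851) (tt N5157 F49852) (tt N7535 (iv F64700)) (tt N7874 (iv F202316)) (tt N6427 F49853) (tt N5154 (iv D11233)) (tt N7922 D16341) (tt N7909 (iv F70777)))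
theorem Q6429 : ∀ i, i < 6429 → P i := stepQ 6428 Q6428 (allL N6428 (tt N7918 (iv F71010)) (tt N7871 (iv F69609)) (tt N5199 F49854) (tt N7923 D16342) (tt N7536 (iv F64703)) (tt N7921 (iv F71116)) (tt N5155 F49855) (tt N7922 (iv F71120)) (tt N5154 (iv D11234)) (tt N7924 D16343))
theorem Q6430 : ∀ i, i < 6430 → P i := stepQ 6429 Q6429 (allL N6429 (tt N7857 F202849) (tt N7872 (iv F69612)) (tt N6429 F49856) (tt N5155 (iv D11235)) (tt N7925 D16344) (tt N6429 F49857) (tt N7923 (iv F71122)) (tt N6429 F49858) (tt N5159 F49859) (tt N7926 D16345))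
theorem Q6431 : ∀ i, i < 6431 → P i := stepQ 6430 Q6430 (allL N6430 (tt N7919 (iv F71018)) (tt N7873 (iv F69616)) (tt N5200 F49860) (tt N7926 (iv F71130)) (tt N7538 (iv F64708)) (tt N6430 F49861) (tt N7924 (iv F71125)) (tt N6430 F49862) (tt N7912 (iv F70786)) (tt N5155 (iv D11236)))
theorem Q6432 : ∀ i, i < 6432 → P i := stepQ 6431 Q6431 (allL N6431 (tt N7856 F202721) (tt N7874 (iv F69632)) (tt N6431 F49872) (tt N5158 (iv D11240)) (tt N7927 D16352) (tt N7870 F202722) (tt N5159 F49873) (tt N7869 F202723) (tt N7923 (iv F71123)) (tt N7863 F202724))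
theorem Q6433 : ∀ i, i < 6433 → P i := stepQ 6432 Q6432 (allL N6432 (tt N7257 F202835) (tt N7876 (iv F69642)) (tt N6432 F49877) (tt N5162 F49878) (tt N5159 (iv D11242)) (tt N7928 D16354) (tt N7927 (iv F71154)) (tt N6432 F49879) (tt N7925 (iv F71128)) (tt N7282 F202836))
theorem Q6434 : ∀ i, i < 6434 → P i := stepQ 6433 Q6433 (allL N6433 (tt N7260 F201845) (tt N7877 (iv F69649)) (tt N5228 F49884) (tt N5160 (iv D11244)) (tt N7929 D16357) (tt N7851 F201846) (tt N6433 F49885) (tt N5161 F49886) (tt N7547 (iv F64731)) (tt N7285 F201847))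
theorem Q6435 : ∀ i, i < 6435 → P i := stepQ 6434 Q6434 (allL N6434 (tt N7258 F202711) (tt N7878 (iv F69657)) (tt N5229 F49890) (tt N7927 (iv F71153)) (tt N5161 (iv D11246)) (tt N7930 D16359) (tt N5162 F49891) (tt N7929 (iv F71171)) (tt N7549 (iv F64737)) (tt N7283 F202712))
theorem Q6436 : ∀ i, i < 6436 → P i := stepQ 6435 Q6435 (allL N6435 (tt N6734 F202831) (tt N7879 (iv F69664)) (tt N5230 F49895) (tt N7928 (iv F71159)) (tt N5163 F49896) (tt N5162 (iv D11248)) (tt N7931 D16362) (tt N6435 F49897) (tt N7551 (iv F64744)) (tt N6753 F202832))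
theorem Q6437 : ∀ i, i < 6437 → P i := stepQ 6436 Q6436 (allL N6436 (tt N6735 F202833) (tt N7880 (iv F69676)) (tt N5231 F49904) (tt N6436 F49905) (tt N7931 (iv F71183)) (tt N7903 (iv F70526)) (tt N5163 (iv D11251)) (tt N7932 D16365) (tt N7553 (iv F64753)) (tt N6754 F202834))
theorem Q6438 : ∀ i, i < 6438 → P i := stepQ 6437 Q6437 (allL N6437 (tt N5172 F49985) (tt N7036 (iv F203190)) (tt N7904 (iv F70667)) (tt N5165 F49986) (tt N7047 (iv F203181)) (tt N7933 D16385) (tt N5164 (iv D11268)) (tt N7934 D16386) (tt N7935 D16387) (tt N5192 F49987))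
theorem Q6439 : ∀ i, i < 6439 → P i := stepQ 6438 Q6438 (allL N6438 (tt N5173 F49988) (tt N6936 (iv F203376)) (tt N7905 (iv F70671)) (tt N6929 (iv F203378)) (tt N6964 (iv F203370)) (tt N6438 F49989) (tt N7935 (iv F71294)) (tt N6438 F49990) (tt N5164 (iv D11269)) (tt N7936 D16389))
theorem Q6440 : ∀ i, i < 6440 → P i := stepQ 6439 Q6439 (allL N6439 (tt N5174 F49991) (tt N7034 (iv F203220)) (tt N5167 F49992) (tt N7933 (iv F71286)) (tt N6439 F49993) (tt N5165 (iv D11270)) (tt N6439 F49994) (tt N7915 F202778) (tt N7031 (iv F203226)) (tt N5194 F49995))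
theorem Q6441 : ∀ i, i < 6441 → P i := stepQ 6440 Q6440 (allL N6440 (tt N5175 F49996) (tt N7035 (iv F203157)) (tt N5168 F49997) (tt N7934 (iv F71290)) (tt N5166 F49998) (tt N7915 F202715) (tt N6440 F49999) (tt N5165 (iv D11271)) (tt N7032 (iv F203163)) (tt N5195 F50000))
theorem Q6442 : ∀ i, i < 6442 → P i := stepQ 6441 Q6441 (allL N6441 (tt N5180 F50035) (tt N5186 F202779) (tt N7031 (iv F203225)) (tt N5181 F202780) (tt N6441 F50037) (tt N5169 F50038) (tt N6441 F50039) (tt N5182 F202781) (tt N5167 (iv D11279)) (tt N6441 F50040))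
theorem Q6443 : ∀ i, i < 6443 → P i := stepQ 6442 Q6442 (allL N6442 (tt N5181 F50041) (tt N5185 F202716) (tt N7032 (iv F203162)) (tt N5180 F202717) (tt N5171 F50043) (tt N5182 F202718) (tt N6442 F50044) (tt N5169 F50045) (tt N5168 (iv D11280)) (tt N6442 F50046))
theorem Q6444 : ∀ i, i < 6444 → P i := stepQ 6443 Q6443 (allL N6443 (tt N5182 F50047) (tt N5184 F202554) (tt N7937 D16404) (tt N5169 (iv D11281)) (tt N6443 F50049) (tt N5181 F202555) (tt N5170 F50050) (tt N5180 F202556) (tt N5179 F202557) (tt N6443 F50051))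
theorem Q6445 : ∀ i, i < 6445 → P i := stepQ 6444 Q6444 (allL N6444 (tt N5183 F50052) (tt N6444 F193616) (tt N5170 (iv D11282)) (tt N6923 (iv F202578)) (tt N6444 F50053) (tt N6444 F50054) (tt N7937 (iv F71377)) (tt N6444 F50055) (tt N7881 F202181) (tt N6444 F50056))
theorem Q6446 : ∀ i, i < 6446 → P i := stepQ 6445 Q6445 (allL N6445 (tt N7933 (iv F71285)) (tt N6445 F50057) (tt N7908 (iv F70770)) (tt N5174 F50058) (tt N7938 D16406) (tt N5172 (iv D11283)) (tt N6445 F50059) (tt N7939 D16407) (tt N7940 D16408) (tt N5197 F50060))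
theorem Q6447 : ∀ i, i < 6447 → P i := stepQ 6446 Q6446 (allL N6446 (tt N7934 (iv F71289)) (tt N6446 F50061) (tt N7909 (iv F70774)) (tt N5175 F50062) (tt N7582 (iv F65011)) (tt N7939 (iv F71390)) (tt N6446 F50063) (tt N5172 (iv D11284)) (tt N7941 D16409) (tt N5198 F50064))
theorem Q6448 : ∀ i, i < 6448 → P i := stepQ 6447 Q6447 (allL N6447 (tt N7935 (iv F71293)) (tt N6447 F50065) (tt N7910 (iv F70778)) (tt N7942 D16410) (tt N7583 (iv F65015)) (tt N7940 (iv F71393)) (tt N5173 F50066) (tt N7941 (iv F71397)) (tt N5172 (iv D11285)) (tt N7943 D16411))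
theorem Q6449 : ∀ i, i < 6449 → P i := stepQ 6448 Q6448 (allL N6448 (tt N6929 (iv F203377)) (tt N6448 F50067) (tt N7944 D16412) (tt N5173 (iv D11286)) (tt N6920 (iv F203357)) (tt N6448 F50068) (tt N7942 (iv F71399)) (tt N6448 F50069) (tt N5177 F50070) (tt N7945 D16414))
theorem Q6450 : ∀ i, i < 6450 → P i := stepQ 6449 Q6449 (allL N6449 (tt N7936 (iv F71299)) (tt N6449 F50071) (tt N7912 (iv F70783)) (tt N7945 (iv F71411)) (tt N7584 (iv F65021)) (tt N6449 F50072) (tt N7943 (iv F71402)) (tt N6449 F50073) (tt N5200 F50074) (tt N5173 (iv D11287)))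
theorem Q6451 : ∀ i, i < 6451 → P i := stepQ 6450 Q6450 (allL N6450 (tt N7915 (iv F202437)) (tt N6450 F50075) (tt N5179 F50076) (tt N7939 (iv F71389)) (tt N6450 F50077) (tt N5175 F50078) (tt N7881 F202782) (tt N5174 (iv D11288)) (tt N7937 (iv F203035)) (tt N5201 F50079))
theorem Q6452 : ∀ i, i < 6452 → P i := stepQ 6451 Q6451 (allL N6451 (tt N7031 (iv F203224)) (tt N6451 F50080) (tt N5180 F50081) (tt N7946 D16417) (tt N6451 F50082) (tt N5176 F50083) (tt N6451 F50084) (tt N7937 (iv F203034)) (tt N5174 (iv D11289)) (tt N6451 F50085))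
theorem Q6453 : ∀ i, i < 6453 → P i := stepQ 6452 Q6452 (allL N6452 (tt N7032 (iv F203161)) (tt N6452 F50086) (tt N5181 F50087) (tt N7947 D16418) (tt N5178 F50088) (tt N7937 (iv F203033)) (tt N6452 F50089) (tt N5176 F50090) (tt N5175 (iv D11290)) (tt N6452 F50091))
theorem Q6454 : ∀ i, i < 6454 → P i := stepQ 6453 Q6453 (allL N6453 (tt N6928 (iv F203352)) (tt N6453 F50092) (tt N7948 D16419) (tt N5176 (iv D11291)) (tt N6919 (iv F203353)) (tt N7946 (iv F71428)) (tt N5177 F50093) (tt N7947 (iv F71433)) (tt N7942 (iv F71400)) (tt N6453 F50094))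
theorem Q6455 : ∀ i, i < 6455 → P i := stepQ 6454 Q6454 (allL N6454 (tt N6923 F202978) (tt N7949 D16421) (tt N5177 (iv D11292)) (tt N5183 F50095) (tt N6917 (iv F203421)) (tt N6454 F50096) (tt N7948 (iv F71436)) (tt N6454 F50097) (tt N7944 (iv F71406)) (tt N6454 F50098))
theorem Q6456 : ∀ i, i < 6456 → P i := stepQ 6455 Q6455 (allL N6455 (tt N7937 (iv F71375)) (tt N7033 (iv F203347)) (tt N5182 (iv D11302)) (tt N7948 (iv F71435)) (tt N6455 F50142) (tt N7032 (iv F203153)) (tt N5183 F50143) (tt N7031 (iv F203219)) (tt N7915 (iv F70869)) (tt N6455 F50144))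
theorem Q6457 : ∀ i, i < 6457 → P i := stepQ 6456 Q6456 (allL N6456 (tt N6456 F193321) (tt N5183 (iv D11303)) (tt N5188 F50145) (tt N7949 (iv F71443)) (tt N6456 F50146) (tt N6456 F50147) (tt N7033 (iv F203349)) (tt N6456 F50148) (tt N5282 F202980) (tt N6456 F50149))
theorem Q6458 : ∀ i, i < 6458 → P i := stepQ 6457 Q6457 (allL N6457 (tt N5280 F202917) (tt N7030 (iv F203344)) (tt N5185 (iv D11306)) (tt N6457 F50162) (tt N5278 F202918) (tt N5187 F50163) (tt N6457 F50164) (tt N5277 F202919) (tt N5276 F202920) (tt N6457 F50165))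
theorem Q6459 : ∀ i, i < 6459 → P i := stepQ 6458 Q6458 (allL N6458 (tt N5279 F202914) (tt N7029 (iv F203340)) (tt N5186 (iv D11308)) (tt N6458 F50172) (tt N6458 F50173) (tt N5277 F202915) (tt N6458 F50174) (tt N5187 F50175) (tt N5275 F202916) (tt N6458 F50176))
theorem Q6460 : ∀ i, i < 6460 → P i := stepQ 6459 Q6459 (allL N6459 (tt N6459 F193324) (tt N5187 (iv D11309)) (tt N7033 (iv F203348)) (tt N6459 F50177) (tt N6459 F50178) (tt N7030 (iv F203345)) (tt N5188 F50179) (tt N7029 (iv F203341)) (tt N5283 F202921) (tt N6459 F50180))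
theorem Q6461 : ∀ i, i < 6461 → P i := stepQ 6460 Q6460 (allL N6460 (tt N6460 F50187) (tt N7914 F202960) (tt N5189 (iv D11311)) (tt N5282 F50188) (tt N7058 (iv F203392)) (tt N6460 F50189) (tt N7950 D16442) (tt N6460 F50190) (tt N7951 D16443) (tt N7037 F202961))
theorem Q6462 : ∀ i, i < 6462 → P i := stepQ 6461 Q6461 (allL N6461 (tt N6461 F50191) (tt N5192 F50192) (tt N7950 (iv F71541)) (tt N5190 F50193) (tt N7056 (iv F203893)) (tt N7952 D16444) (tt N5189 (iv D11312)) (tt N7953 D16445) (tt N7954 D16446) (tt N7036 F203549))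
theorem Q6463 : ∀ i, i < 6463 → P i := stepQ 6462 Q6462 (allL N6462 (tt N6462 F50194) (tt N5193 F50195) (tt N7951 (iv F71544)) (tt N6462 F50196) (tt N7059 (iv F203986)) (tt N6462 F50197) (tt N7954 (iv F71558)) (tt N6462 F50198) (tt N5189 (iv D11313)) (tt N7955 D16447))
theorem Q6464 : ∀ i, i < 6464 → P i := stepQ 6463 Q6463 (allL N6463 (tt N6463 F50199) (tt N5194 F50200) (tt N5284 F50201) (tt N7952 (iv F71549)) (tt N6463 F50202) (tt N5190 (iv D11314)) (tt N6463 F50203) (tt N7956 D16448) (tt N6463 F50204) (tt N7034 (iv F203223)))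
theorem Q6465 : ∀ i, i < 6465 → P i := stepQ 6464 Q6464 (allL N6464 (tt N6464 F50205) (tt N5195 F50206) (tt N5285 F50207) (tt N7953 (iv F71553)) (tt N5191 F50208) (tt N7956 (iv F71568)) (tt N6464 F50209) (tt N5190 (iv D11315)) (tt N6464 F50210) (tt N7035 (iv F203160)))
theorem Q6466 : ∀ i, i < 6466 → P i := stepQ 6465 Q6465 (allL N6465 (tt N5197 F50211) (tt N7952 (iv F71548)) (tt N7916 (iv F71003)) (tt N5194 F50212) (tt N7957 D16449) (tt N5192 (iv D11316)) (tt N6465 F50213) (tt N7958 D16450) (tt N7959 D16451) (tt N7933 (iv F71288)))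
theorem Q6467 : ∀ i, i < 6467 → P i := stepQ 6466 Q6466 (allL N6466 (tt N5198 F50214) (tt N7953 (iv F71552)) (tt N7917 (iv F71007)) (tt N5195 F50215) (tt N7607 (iv F65242)) (tt N7958 (iv F71575)) (tt N6466 F50216) (tt N5192 (iv D11317)) (tt N7960 D16452) (tt N7934 (iv F71292)))
theorem Q6468 : ∀ i, i < 6468 → P i := stepQ 6467 Q6467 (allL N6467 (tt N5199 F50217) (tt N7954 (iv F71556)) (tt N7918 (iv F71011)) (tt N6467 F50218) (tt N7608 (iv F65245)) (tt N7959 (iv F71578)) (tt N5193 F50219) (tt N7960 (iv F71583)) (tt N5192 (iv D11318)) (tt N7961 D16453))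
theorem Q6469 : ∀ i, i < 6469 → P i := stepQ 6468 Q6468 (allL N6468 (tt N5200 F50220) (tt N7955 (iv F71560)) (tt N7919 (iv F71019)) (tt N6468 F50221) (tt N7609 (iv F65252)) (tt N6468 F50222) (tt N7961 (iv F71586)) (tt N6468 F50223) (tt N7936 (iv F71302)) (tt N5193 (iv D11319)))
theorem Q6470 : ∀ i, i < 6470 → P i := stepQ 6469 Q6469 (allL N6469 (tt N5201 F50224) (tt N7956 (iv F71565)) (tt N5196 F50225) (tt N7958 (iv F71574)) (tt N6469 F50226) (tt N5195 F50227) (tt N7868 F202154) (tt N5194 (iv D11320)) (tt N6469 F50228) (tt N7915 (iv F202438)))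
theorem Q6471 : ∀ i, i < 6471 → P i := stepQ 6470 Q6470 (allL N6470 (tt N7957 (iv F71570)) (tt N6470 F50235) (tt N7920 (iv F71110)) (tt N6470 F50236) (tt N5197 (iv D11322)) (tt N7617 (iv F65335)) (tt N6470 F50237) (tt N7962 D16455) (tt N7963 D16456) (tt N7938 (iv F71387)))
theorem Q6472 : ∀ i, i < 6472 → P i := stepQ 6471 Q6471 (allL N6471 (tt N7958 (iv F71573)) (tt N6471 F50238) (tt N7874 F202768) (tt N5201 F50239) (tt N7962 (iv F71595)) (tt N5198 F50240) (tt N7875 F202769) (tt N5197 (iv D11323)) (tt N7964 D16458) (tt N7939 (iv F71391)))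
theorem Q6473 : ∀ i, i < 6473 → P i := stepQ 6472 Q6472 (allL N6472 (tt N7959 (iv F71576)) (tt N6472 F50241) (tt N7921 (iv F71115)) (tt N6472 F50242) (tt N7963 (iv F71597)) (tt N5199 F50243) (tt N6472 F50244) (tt N7964 (iv F71606)) (tt N5197 (iv D11324)) (tt N7965 D16459))
theorem Q6474 : ∀ i, i < 6474 → P i := stepQ 6473 Q6473 (allL N6473 (tt N7960 (iv F71580)) (tt N6473 F50245) (tt N7922 (iv F71118)) (tt N6473 F50246) (tt N7620 (iv F65342)) (tt N7964 (iv F71605)) (tt N6473 F50247) (tt N5199 F50248) (tt N5198 (iv D11325)) (tt N7966 D16460))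
theorem Q6475 : ∀ i, i < 6475 → P i := stepQ 6474 Q6474 (allL N6474 (tt N7961 (iv F71584)) (tt N6474 F50249) (tt N7924 (iv F71124)) (tt N6474 F50250) (tt N7622 (iv F65350)) (tt N7965 (iv F71609)) (tt N5200 F50251) (tt N7966 (iv F71614)) (tt N7943 (iv F71403)) (tt N5199 (iv D11326)))
theorem Q6476 : ∀ i, i < 6476 → P i := stepQ 6475 Q6475 (allL N6475 (tt N5206 F50285) (tt N6562 (iv F205362)) (tt N6475 F50286) (tt N5202 (iv D11333)) (tt N6576 F205264) (tt N5232 F50287) (tt N6559 (iv F205360)) (tt N5213 F50288) (tt N6645 (iv F205379)) (tt N6475 F50289))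
theorem Q6477 : ∀ i, i < 6477 → P i := stepQ 6476 Q6476 (allL N6476 (tt N5207 F50290) (tt N6560 (iv F205616)) (tt N5204 F50291) (tt N6559 F205454) (tt N5203 F50292) (tt N6558 (iv F205626)) (tt N5202 (iv D11334)) (tt N6565 F205455) (tt N7116 F201752) (tt N6476 F50293))
theorem Q6478 : ∀ i, i < 6478 → P i := stepQ 6477 Q6477 (allL N6477 (tt N5209 F50299) (tt N6567 (iv F205350)) (tt N5205 F50300) (tt N6588 F205241) (tt N6565 (iv F205355)) (tt N6477 F50301) (tt N5215 F50302) (tt N5203 (iv D11336)) (tt N7166 F201754) (tt N6477 F50303))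
theorem Q6479 : ∀ i, i < 6479 → P i := stepQ 6478 Q6478 (allL N6478 (tt N6559 (iv F205359)) (tt N6478 F50361) (tt N6478 F50362) (tt N5207 F50363) (tt N6572 F205326) (tt N6557 (iv F205422)) (tt N5206 (iv D11349)) (tt N6564 F205327) (tt N6641 (iv F205424)) (tt N6478 F50364))
theorem Q6480 : ∀ i, i < 6480 → P i := stepQ 6479 Q6479 (allL N6479 (tt N6645 (iv F205377)) (tt N6479 F50365) (tt N6479 F50366) (tt N7967 D16497) (tt N6684 F205330) (tt N5236 F50367) (tt N6641 (iv F205423)) (tt N5218 F50368) (tt N5206 (iv D11350)) (tt N7968 D16498))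
theorem Q6481 : ∀ i, i < 6481 → P i := stepQ 6480 Q6480 (allL N6480 (tt N7114 F201740) (tt N6480 F50383) (tt N7123 F201741) (tt N5208 (iv D11354)) (tt N7969 D16505) (tt N5239 F50384) (tt N7121 F201742) (tt N5221 F50385) (tt N7967 (iv F71785)) (tt N7119 F201743))
theorem Q6482 : ∀ i, i < 6482 → P i := stepQ 6481 Q6481 (allL N6481 (tt N7163 F201068) (tt N6481 F50397) (tt N7840 F201069) (tt N5210 (iv D11357)) (tt N7970 D16509) (tt N6481 F50398) (tt N5211 F50399) (tt N7835 (iv F201462)) (tt N7672 (iv F65668)) (tt N7176 (iv F201329)))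
theorem Q6483 : ∀ i, i < 6483 → P i := stepQ 6482 Q6482 (allL N6482 (tt N7162 F201780) (tt N6482 F50405) (tt N7887 (iv F70049)) (tt N7969 (iv F71818)) (tt N5211 (iv D11359)) (tt N7971 D16511) (tt N7970 (iv F71835)) (tt N5224 F50406) (tt N7674 (iv F65676)) (tt N7175 F201781))
theorem Q6484 : ∀ i, i < 6484 → P i := stepQ 6483 Q6483 (allL N6483 (tt N6673 F201983) (tt N6483 F50411) (tt N7888 (iv F70055)) (tt N5242 F50412) (tt N7971 (iv F71841)) (tt N5212 (iv D11361)) (tt N7972 D16514) (tt N5225 F50413) (tt N7676 (iv F65684)) (tt N6682 F201984))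
theorem Q6485 : ∀ i, i < 6485 → P i := stepQ 6484 Q6484 (allL N6484 (tt N5217 F50547) (tt N6570 (iv F205175)) (tt N6484 F50548) (tt N5214 F50549) (tt N6592 F205102) (tt N6484 F50550) (tt N5213 (iv D11392)) (tt N6566 (iv F205171)) (tt N6666 (iv F205185)) (tt N6484 F50551))
theorem Q6486 : ∀ i, i < 6486 → P i := stepQ 6485 Q6485 (allL N6485 (tt N5218 F50552) (tt N6650 (iv F205364)) (tt N6485 F50553) (tt N7135 F202419) (tt N6691 F205265) (tt N5245 F50554) (tt N6666 F205266) (tt N6645 (iv F205378)) (tt N5213 (iv D11393)) (tt N7973 D16561))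
theorem Q6487 : ∀ i, i < 6487 → P i := stepQ 6486 Q6486 (allL N6486 (tt N5219 F50555) (tt N6568 (iv F205347)) (tt N5216 F50556) (tt N6566 F205240) (tt N5215 F50557) (tt N6486 F50558) (tt N6565 (iv F205356)) (tt N5214 (iv D11394)) (tt N7137 F201765) (tt N6486 F50559))
theorem Q6488 : ∀ i, i < 6488 → P i := stepQ 6487 Q6487 (allL N6487 (tt N6566 (iv F205170)) (tt N6487 F50625) (tt N6487 F50626) (tt N5219 F50627) (tt N6585 F205137) (tt N6487 F50628) (tt N6564 (iv F205220)) (tt N5217 (iv D11412)) (tt N6661 (iv F205222)) (tt N6487 F50629))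
theorem Q6489 : ∀ i, i < 6489 → P i := stepQ 6488 Q6488 (allL N6488 (tt N6666 (iv F205184)) (tt N6488 F50630) (tt N6488 F50631) (tt N7974 D16586) (tt N6716 F205139) (tt N6488 F50632) (tt N5218 F50633) (tt N6661 (iv F205221)) (tt N5217 (iv D11413)) (tt N7975 D16587))
theorem Q6490 : ∀ i, i < 6490 → P i := stepQ 6489 Q6489 (allL N6489 (tt N7135 F202413) (tt N6489 F50634) (tt N7976 D16588) (tt N5218 (iv D11414)) (tt N7977 D16589) (tt N5246 F50635) (tt N7974 (iv F72142)) (tt N7967 (iv F71784)) (tt N5221 F50636) (tt N7978 D16590))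
theorem Q6491 : ∀ i, i < 6491 → P i := stepQ 6490 Q6490 (allL N6490 (tt N7973 (iv F72049)) (tt N6490 F50637) (tt N6490 F50638) (tt N7978 (iv F72155)) (tt N7708 (iv F65942)) (tt N5247 F50639) (tt N7975 (iv F72147)) (tt N7968 (iv F71789)) (tt N6490 F50640) (tt N5218 (iv D11415)))
theorem Q6492 : ∀ i, i < 6492 → P i := stepQ 6491 Q6491 (allL N6491 (tt N7134 F201760) (tt N6491 F50646) (tt N7148 F201761) (tt N5220 (iv D11417)) (tt N7979 D16594) (tt N6491 F50647) (tt N5221 F50648) (tt N7145 F201762) (tt N7974 (iv F72143)) (tt N7142 F201763))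
theorem Q6493 : ∀ i, i < 6493 → P i := stepQ 6492 Q6492 (allL N6492 (tt N7131 (iv F202014)) (tt N6671 (iv F205984)) (tt N5221 (iv D11419)) (tt N5226 F50655) (tt N7980 D16597) (tt N5248 F50656) (tt N7148 F201747) (tt N7123 F201748) (tt N7976 (iv F72151)) (tt N6665 F205757))
theorem Q6494 : ∀ i, i < 6494 → P i := stepQ 6493 Q6493 (allL N6493 (tt N7133 F202409) (tt N6493 F50657) (tt N7980 (iv F72179)) (tt N5224 F50658) (tt N5221 (iv D11420)) (tt N7981 D16599) (tt N7979 (iv F72171)) (tt N7969 (iv F71819)) (tt N7977 (iv F72153)) (tt N7141 F202410))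
theorem Q6495 : ∀ i, i < 6495 → P i := stepQ 6494 Q6494 (allL N6494 (tt N7206 F201711) (tt N6494 F50662) (tt N7851 F201712) (tt N5222 (iv D11422)) (tt N7982 D16602) (tt N5228 F50663) (tt N7835 F201713) (tt N5223 F50664) (tt N7716 (iv F65976)) (tt N7225 F201714))
theorem Q6496 : ∀ i, i < 6496 → P i := stepQ 6495 Q6495 (allL N6495 (tt N7204 F202494) (tt N6495 F50670) (tt N7901 (iv F70512)) (tt N7979 (iv F72170)) (tt N5223 (iv D11424)) (tt N7983 D16604) (tt N5224 F50671) (tt N7982 (iv F72193)) (tt N7718 (iv F65984)) (tt N7223 F202495))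
theorem Q6497 : ∀ i, i < 6497 → P i := stepQ 6496 Q6496 (allL N6496 (tt N6699 F202698) (tt N6496 F50676) (tt N7902 (iv F70518)) (tt N7981 (iv F72184)) (tt N5225 F50677) (tt N5224 (iv D11426)) (tt N7984 D16607) (tt N7971 (iv F71842)) (tt N7720 (iv F65991)) (tt N6712 F202699))
theorem Q6498 : ∀ i, i < 6498 → P i := stepQ 6497 Q6497 (allL N6497 (tt N6700 F202852) (tt N6497 F50683) (tt N7903 (iv F70524)) (tt N5251 F50684) (tt N7984 (iv F72208)) (tt N5231 F50685) (tt N5225 (iv D11429)) (tt N7985 D16610) (tt N7722 (iv F66001)) (tt N6713 F202853))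
theorem Q6499 : ∀ i, i < 6499 → P i := stepQ 6498 Q6498 (allL N6498 (tt N7264 F202579) (tt N6498 F50835) (tt N7929 (iv F71169)) (tt N6498 F50836) (tt N5228 (iv D11468)) (tt N7986 D16660) (tt N6498 F50837) (tt N5229 F50838) (tt N7779 (iv F66379)) (tt N7291 F202580))
theorem Q6500 : ∀ i, i < 6500 → P i := stepQ 6499 Q6499 (allL N6499 (tt N7263 F203438) (tt N6499 F50843) (tt N7930 (iv F71176)) (tt N6499 F50844) (tt N7983 (iv F72199)) (tt N5229 (iv D11470)) (tt N7987 D16663) (tt N7986 (iv F72409)) (tt N7781 (iv F66385)) (tt N7290 F203439))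
theorem Q6501 : ∀ i, i < 6501 → P i := stepQ 6500 Q6500 (allL N6500 (tt N6739 F203686) (tt N6500 F50852) (tt N7931 (iv F71182)) (tt N6500 F50853) (tt N5231 F50854) (tt N7987 (iv F72421)) (tt N5230 (iv D11473)) (tt N7988 D16666) (tt N7783 (iv F66395)) (tt N6758 F203687))
theorem Q6502 : ∀ i, i < 6502 → P i := stepQ 6501 Q6501 (allL N6501 (tt N6741 F203688) (tt N6501 F50863) (tt N7932 (iv F71191)) (tt N5255 F50864) (tt N7988 (iv F72430)) (tt N7985 (iv F72216)) (tt N6501 F50865) (tt N5231 (iv D11476)) (tt N7785 (iv F66407)) (tt N6760 F203689))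
theorem Q6503 : ∀ i, i < 6503 → P i := stepQ 6502 Q6502 (allL N6502 (tt N5235 F50925) (tt N6555 (iv F205649)) (tt N6502 F50926) (tt N5233 F50927) (tt N6502 F50928) (tt N6553 (iv F205636)) (tt N5232 (iv D11489)) (tt N6502 F50929) (tt N6629 (iv F205675)) (tt N6502 F50930))
theorem Q6504 : ∀ i, i < 6504 → P i := stepQ 6503 Q6503 (allL N6503 (tt N5236 F50931) (tt N6632 (iv F205651)) (tt N6503 F50932) (tt N7115 F202873) (tt N6503 F50933) (tt N6645 F205499) (tt N6629 (iv F205674)) (tt N5245 F50934) (tt N5232 (iv D11490)) (tt N7989 D16694))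
theorem Q6505 : ∀ i, i < 6505 → P i := stepQ 6504 Q6504 (allL N6504 (tt N5237 F50935) (tt N6554 (iv F205977)) (tt N5234 F50936) (tt N6553 F205746) (tt N6504 F50937) (tt N5233 (iv D11491)) (tt N6558 F205747) (tt N6504 F50938) (tt N7105 F202655) (tt N6504 F50939))
theorem Q6506 : ∀ i, i < 6506 → P i := stepQ 6505 Q6505 (allL N6505 (tt N6553 (iv F205635)) (tt N6505 F51014) (tt N6505 F51015) (tt N5237 F51016) (tt N6552 (iv F205720)) (tt N5235 (iv D11507)) (tt N6557 F205590) (tt N6505 F51017) (tt N6627 (iv F205722)) (tt N6505 F51018))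
theorem Q6507 : ∀ i, i < 6507 → P i := stepQ 6506 Q6506 (allL N6506 (tt N6629 (iv F205673)) (tt N6506 F51019) (tt N6506 F51020) (tt N7990 D16718) (tt N6506 F51021) (tt N6627 (iv F205721)) (tt N5236 F51022) (tt N6506 F51023) (tt N5235 (iv D11508)) (tt N7991 D16719))
theorem Q6508 : ∀ i, i < 6508 → P i := stepQ 6507 Q6507 (allL N6507 (tt N7115 F202637) (tt N6507 F51024) (tt N7992 D16720) (tt N5236 (iv D11509)) (tt N7993 D16721) (tt N7967 (iv F71783)) (tt N7990 (iv F72677)) (tt N5246 F51025) (tt N5239 F51026) (tt N7994 D16722))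
theorem Q6509 : ∀ i, i < 6509 → P i := stepQ 6508 Q6508 (allL N6508 (tt N7989 (iv F72562)) (tt N6508 F51027) (tt N6508 F51028) (tt N7994 (iv F72694)) (tt N6508 F51029) (tt N7968 (iv F71788)) (tt N7991 (iv F72683)) (tt N5247 F51030) (tt N6508 F51031) (tt N5236 (iv D11510)))
theorem Q6510 : ∀ i, i < 6510 → P i := stepQ 6509 Q6509 (allL N6509 (tt N7104 F202633) (tt N6509 F51037) (tt N7109 F202634) (tt N5238 (iv D11512)) (tt N7995 D16726) (tt N7108 F202635) (tt N5239 F51038) (tt N6509 F51039) (tt N7990 (iv F72679)) (tt N7106 F202636))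
theorem Q6511 : ∀ i, i < 6511 → P i := stepQ 6510 Q6510 (allL N6510 (tt N7113 (iv F202211)) (tt N6649 (iv F206233)) (tt N5239 (iv D11514)) (tt N5243 F51046) (tt N7125 F206101) (tt N7123 F201745) (tt N7109 (iv F202218)) (tt N5248 F51047) (tt N7992 (iv F72688)) (tt N6644 F206102))
theorem Q6512 : ∀ i, i < 6512 → P i := stepQ 6511 Q6511 (allL N6511 (tt N6634 F202631) (tt N6511 F51048) (tt N7125 (iv F206077)) (tt N5241 F51049) (tt N5239 (iv D11515)) (tt N7996 D16731) (tt N7995 (iv F72710)) (tt N5249 F51050) (tt N7993 (iv F72692)) (tt N6640 F202632))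
theorem Q6513 : ∀ i, i < 6513 → P i := stepQ 6512 Q6512 (allL N6512 (tt N6623 F202981) (tt N6512 F51054) (tt N6512 F51055) (tt N7995 (iv F72709)) (tt N5240 (iv D11517)) (tt N7991 F205964) (tt N5241 F51056) (tt N6512 F51057) (tt N6512 F51058) (tt N6627 F202982))
theorem Q6514 : ∀ i, i < 6514 → P i := stepQ 6513 Q6513 (allL N6513 (tt N6635 F202856) (tt N6513 F51065) (tt N6513 F51066) (tt N7996 (iv F72726)) (tt N5242 F51067) (tt N5241 (iv D11519)) (tt N7968 F205592) (tt N5250 F51068) (tt N6513 F51069) (tt N6641 F202857))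
theorem Q6515 : ∀ i, i < 6515 → P i := stepQ 6514 Q6514 (allL N6514 (tt N6675 F202858) (tt N6514 F51080) (tt N6514 F51081) (tt N7972 (iv F71851)) (tt N7968 (iv F205428)) (tt N6514 F51082) (tt N5242 (iv D11522)) (tt N7708 F205334) (tt N6514 F51083) (tt N6684 F202859))
theorem Q6516 : ∀ i, i < 6516 → P i := stepQ 6515 Q6515 (allL N6515 (tt N5247 F51228) (tt N7130 F203320) (tt N6515 F51229) (tt N7136 F203321) (tt N6515 F51230) (tt N7973 (iv F72051)) (tt N6515 F51231) (tt N7989 (iv F72565)) (tt N6515 F51232) (tt N5245 (iv D11554)))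
theorem Q6517 : ∀ i, i < 6517 → P i := stepQ 6516 Q6516 (allL N6516 (tt N7132 (iv F202898)) (tt N6658 (iv F206236)) (tt N5246 (iv D11567)) (tt N6516 F51282) (tt N7136 F206103) (tt N7976 (iv F72150)) (tt N6516 F51283) (tt N7992 (iv F72687)) (tt N5248 F51284) (tt N6653 F206104))
theorem Q6518 : ∀ i, i < 6518 → P i := stepQ 6517 Q6517 (allL N6517 (tt N6653 F203313) (tt N6517 F51285) (tt N7136 (iv F206041)) (tt N6517 F51286) (tt N5246 (iv D11568)) (tt N7997 D16804) (tt N6517 F51287) (tt N7993 (iv F72691)) (tt N5249 F51288) (tt N7132 (iv F206001)))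
theorem Q6519 : ∀ i, i < 6519 → P i := stepQ 6518 Q6518 (allL N6518 (tt N7136 F203314) (tt N6518 F51289) (tt N6653 F206110) (tt N5247 F51290) (tt N7132 F206111) (tt N7978 (iv F72156)) (tt N6518 F51291) (tt N7994 (iv F72695)) (tt N6651 F206112) (tt N5246 (iv D11569)))
theorem Q6520 : ∀ i, i < 6520 → P i := stepQ 6519 Q6519 (allL N6519 (tt N6652 F203305) (tt N6519 F51301) (tt N7150 (iv F205728)) (tt N5250 F51302) (tt N7981 (iv F72185)) (tt N5249 (iv D11573)) (tt N7998 D16813) (tt N7996 (iv F72727)) (tt N7997 (iv F73045)) (tt N6660 F203306))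
theorem Q6521 : ∀ i, i < 6521 → P i := stepQ 6520 Q6520 (allL N6520 (tt N6654 F203737) (tt N6520 F51310) (tt N6520 F51311) (tt N7998 (iv F73074)) (tt N5251 F51312) (tt N6520 F51313) (tt N5250 (iv D11576)) (tt N7975 F205329) (tt N6520 F51314) (tt N6661 F203738))
theorem Q6522 : ∀ i, i < 6522 → P i := stepQ 6521 Q6521 (allL N6521 (tt N6703 F203739) (tt N6521 F51324) (tt N6521 F51325) (tt N7985 (iv F72215)) (tt N7975 (iv F205225)) (tt N5255 F51326) (tt N7708 (iv F205229)) (tt N5251 (iv D11579)) (tt N6521 F51327) (tt N6716 F203740))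
theorem Q6523 : ∀ i, i < 6523 → P i := stepQ 6522 Q6522 (allL N6522 (tt N6522 F51438) (tt N6522 F51439) (tt N5258 F51440) (tt N7999 D16850) (tt N5256 (iv D11604)) (tt N6522 F51441) (tt N6522 F51442) (tt N6522 F51443) (tt N8000 D16851) (tt N5286 F204285))
theorem Q6524 : ∀ i, i < 6524 → P i := stepQ 6523 Q6523 (allL N6523 (tt N6523 F51444) (tt N6523 F51445) (tt N5259 F51446) (tt N8001 D16853) (tt N8000 (iv F73256)) (tt N5257 F51447) (tt N6523 F51448) (tt N6523 F51449) (tt N5256 (iv D11605)) (tt N6523 F195454))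
theorem Q6525 : ∀ i, i < 6525 → P i := stepQ 6524 Q6524 (allL N6524 (tt N6524 F51457) (tt N6524 F51458) (tt N6524 F51459) (tt N5257 (iv D11607)) (tt N8002 D16856) (tt N8001 (iv F73271)) (tt N5265 F51460) (tt N6524 F51461) (tt N6524 F51462) (tt N6524 F195456))
theorem Q6526 : ∀ i, i < 6526 → P i := stepQ 6525 Q6525 (allL N6525 (tt N6525 F51475) (tt N5260 F51476) (tt N8000 (iv F73254)) (tt N8003 D16860) (tt N5259 F51477) (tt N6525 F51478) (tt N6525 F51479) (tt N6525 F51480) (tt N5258 (iv D11610)) (tt N6525 F195455))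
theorem Q6527 : ∀ i, i < 6527 → P i := stepQ 6526 Q6526 (allL N6526 (tt N7834 (iv F66956)) (tt N8003 (iv F73314)) (tt N8004 D16878) (tt N5260 (iv D11622)) (tt N6526 F51546) (tt N6526 F51547) (tt N6526 F51548) (tt N6526 F51549) (tt N6526 F51550) (tt N6526 F195458))
theorem Q6528 : ∀ i, i < 6528 → P i := stepQ 6527 Q6527 (allL N6527 (tt N6540 F206276) (tt N6527 F51637) (tt N6527 F195266) (tt N6527 F51638) (tt N5263 F51639) (tt N5262 (iv D11642)) (tt N6543 F206277) (tt N6527 F51640) (tt N6527 F51641) (tt N6527 F51642))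
theorem Q6529 : ∀ i, i < 6529 → P i := stepQ 6528 Q6528 (allL N6528 (tt N6544 F206260) (tt N6528 F51662) (tt N6528 F195059) (tt N5264 F51663) (tt N6543 (iv F206273)) (tt N5266 F51664) (tt N5263 (iv D11647)) (tt N5270 (iv F195470)) (tt N6528 F51665) (tt N6528 F51666))
theorem Q6530 : ∀ i, i < 6530 → P i := stepQ 6529 Q6529 (allL N6529 (tt N6529 F51819) (tt N6529 F51820) (tt N6529 F51821) (tt N6529 F51822) (tt N5265 (iv D11682)) (tt N8005 D16969) (tt N8002 (iv F73292)) (tt N5268 F51823) (tt N6529 F51824) (tt N6529 F195457))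
theorem Q6531 : ∀ i, i < 6531 → P i := stepQ 6530 Q6530 (allL N6530 (tt N6548 F206079) (tt N6530 F51990) (tt N6530 F194745) (tt N5267 F51991) (tt N6530 F51992) (tt N5270 F195479) (tt N5269 F51993) (tt N5266 (iv D11720)) (tt N6530 F51994) (tt N6530 F51995))
theorem Q6532 : ∀ i, i < 6532 → P i := stepQ 6531 Q6531 (allL N6531 (tt N6531 F52191) (tt N6531 F52192) (tt N6531 F52193) (tt N6531 F52194) (tt N6531 F52195) (tt N5268 (iv D11773)) (tt N8006 D17106) (tt N8005 (iv F73829)) (tt N6531 F52196) (tt N6531 F195459))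
theorem Q6533 : ∀ i, i < 6533 → P i := stepQ 6532 Q6532 (allL N6532 (tt N6532 F55920) (tt N7868 F202176) (tt N5271 (iv D12736)) (tt N7037 (iv F202571)) (tt N6532 F55921) (tt N6532 F55922) (tt N7956 F199189) (tt N6532 F55923) (tt N6532 F194591) (tt N5282 F55924))
theorem Q6534 : ∀ i, i < 6534 → P i := stepQ 6533 Q6533 (allL N6533 (tt N6533 F55925) (tt N5274 F55926) (tt N7956 (iv F199012)) (tt N5272 F55927) (tt N6533 F55928) (tt N5285 F198806) (tt N5271 (iv D12737)) (tt N5284 F198807) (tt N6533 F194626) (tt N5283 F55929))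
theorem Q6535 : ∀ i, i < 6535 → P i := stepQ 6534 Q6534 (allL N6534 (tt N6534 F55935) (tt N5275 F55936) (tt N7034 (iv F203221)) (tt N5285 F198844) (tt N6534 F55937) (tt N5272 (iv D12739)) (tt N6534 F55938) (tt N5283 F198845) (tt N7029 (iv F203339)) (tt N5284 F55939))
theorem Q6536 : ∀ i, i < 6536 → P i := stepQ 6535 Q6535 (allL N6535 (tt N6535 F55940) (tt N5276 F55941) (tt N7035 (iv F203158)) (tt N5284 (iv F198614)) (tt N5273 F55942) (tt N5283 (iv F198673)) (tt N6535 F55943) (tt N5272 (iv D12740)) (tt N7030 (iv F203343)) (tt N5285 F55944))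
theorem Q6537 : ∀ i, i < 6537 → P i := stepQ 6536 Q6536 (allL N6536 (tt N6536 F56251) (tt N7915 F202922) (tt N5283 F56252) (tt N7950 (iv F71542)) (tt N6536 F56253) (tt N7035 (iv F203159)) (tt N5282 (iv D12806)) (tt N7034 (iv F203222)) (tt N7033 (iv F203346)) (tt N7956 (iv F199013)))
theorem Q6538 : ∀ i, i < 6538 → P i := stepQ 6537 Q6537 (allL N6537 (tt N6537 F58522) (tt N6537 F199695) (tt N6537 F58523) (tt N5286 (iv D13333)) (tt N6537 F58524) (tt N6537 F58525) (tt N6537 F58526) (tt N6537 F58527) (tt N8007 D19372) (tt N7999 (iv F204380)))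
theorem Q6539 : ∀ i, i < 6539 → P i := stepQ 6538 Q6538 (allL N6538 (tt N6538 F59101) (tt N6292 (iv F206278)) (tt N5287 (iv D13463)) (tt N6538 F59102) (tt N5688 F206275) (tt N5288 F59103) (tt N6538 F59104) (tt N6538 F59105) (tt N6538 F59106) (tt N6538 F59107))
theorem Q6540 : ∀ i, i < 6540 → P i := stepQ 6539 Q6539 (allL N6539 (tt N6539 F59108) (tt N6539 F59109) (tt N5688 (iv F206265)) (tt N6539 F59110) (tt N5287 (iv D13464)) (tt N5689 F206247) (tt N6539 F59111) (tt N6539 F59112) (tt N6539 F59113) (tt N6539 F59114))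
theorem Q6541 : ∀ i, i < 6541 → P i := stepQ 6540 Q6540 (allL N6540 (tt N6527 (iv F206276)) (tt N5288 (iv D13465)) (tt N6540 F59115) (tt N6540 F59116) (tt N6293 F206274) (tt N6292 (iv F206279)) (tt N5290 F59117) (tt N6540 F59118) (tt N6540 F59119) (tt N6540 F59120))
theorem Q6542 : ∀ i, i < 6542 → P i := stepQ 6541 Q6541 (allL N6541 (tt N6541 F59121) (tt N6293 (iv F206261)) (tt N5289 F59122) (tt N5692 F206229) (tt N5288 (iv D13466)) (tt N5690 F206230) (tt N5291 F59123) (tt N6541 F59124) (tt N6541 F59125) (tt N6541 F59126))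
theorem Q6543 : ∀ i, i < 6543 → P i := stepQ 6542 Q6542 (allL N6542 (tt N6542 F59127) (tt N6542 F59128) (tt N5690 (iv F206117)) (tt N5300 F59129) (tt N5689 (iv F206118)) (tt N5289 (iv D13467)) (tt N5703 F206011) (tt N6542 F59130) (tt N6542 F59131) (tt N6542 F59132))
theorem Q6544 : ∀ i, i < 6544 → P i := stepQ 6543 Q6543 (allL N6543 (tt N5290 (iv D13468)) (tt N6543 F59133) (tt N6543 F59134) (tt N6543 F59135) (tt N6528 F206273) (tt N6543 F59136) (tt N6527 (iv F206277)) (tt N5293 F59137) (tt N6543 F59138) (tt N6543 F59139))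
theorem Q6545 : ∀ i, i < 6545 → P i := stepQ 6544 Q6544 (allL N6544 (tt N6528 (iv F206260)) (tt N5291 F59140) (tt N6544 F59141) (tt N6294 F206227) (tt N5290 (iv D13469)) (tt N6298 F206228) (tt N6293 (iv F206262)) (tt N5294 F59142) (tt N6544 F59143) (tt N6544 F59144))
theorem Q6546 : ∀ i, i < 6546 → P i := stepQ 6545 Q6545 (allL N6545 (tt N6545 F59145) (tt N6294 (iv F206083)) (tt N5303 F59146) (tt N5291 (iv D13470)) (tt N6545 F59147) (tt N5707 F205974) (tt N5692 (iv F206085)) (tt N5295 F59148) (tt N5696 (iv F206087)) (tt N6545 F59149))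
theorem Q6547 : ∀ i, i < 6547 → P i := stepQ 6546 Q6546 (allL N6546 (tt N6546 F59150) (tt N6298 (iv F206081)) (tt N5292 F59151) (tt N5707 F205972) (tt N6546 F59152) (tt N5291 (iv D13471)) (tt N5704 F205973) (tt N5296 F59153) (tt N6546 F59154) (tt N6546 F59155))
theorem Q6548 : ∀ i, i < 6548 → P i := stepQ 6547 Q6547 (allL N6547 (tt N6547 F59156) (tt N6547 F59157) (tt N5704 (iv F205773)) (tt N5305 F59158) (tt N6547 F59159) (tt N5703 (iv F205775)) (tt N5292 (iv D13472)) (tt N5726 F205642) (tt N6547 F59160) (tt N6547 F59161))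
theorem Q6549 : ∀ i, i < 6549 → P i := stepQ 6548 Q6548 (allL N6548 (tt N6530 (iv F206079)) (tt N5296 F59172) (tt N6548 F59173) (tt N6299 F205969) (tt N6548 F59174) (tt N5294 (iv D13475)) (tt N6307 F205970) (tt N6298 (iv F206082)) (tt N6548 F59175) (tt N6548 F59176))
theorem Q6550 : ∀ i, i < 6550 → P i := stepQ 6549 Q6549 (allL N6549 (tt N6549 F59177) (tt N6299 (iv F205735)) (tt N5309 F59178) (tt N5296 F59179) (tt N5757 F205614) (tt N5295 (iv D13476)) (tt N5731 F205615) (tt N5707 (iv F205737)) (tt N5713 (iv F205739)) (tt N6549 F59180))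
theorem Q6551 : ∀ i, i < 6551 → P i := stepQ 6550 Q6550 (allL N6550 (tt N6550 F59186) (tt N6307 (iv F205734)) (tt N5297 F59187) (tt N5731 F205612) (tt N6550 F59188) (tt N6550 F59189) (tt N5296 (iv D13478)) (tt N5727 F205613) (tt N6550 F59190) (tt N6550 F59191))
theorem Q6552 : ∀ i, i < 6552 → P i := stepQ 6551 Q6551 (allL N6551 (tt N6551 F59192) (tt N6551 F59193) (tt N5727 (iv F205465)) (tt N5312 F59194) (tt N6551 F59195) (tt N6551 F59196) (tt N5726 (iv F205467)) (tt N5297 (iv D13479)) (tt N6551 F59197) (tt N6551 F59198))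
theorem Q6553 : ∀ i, i < 6553 → P i := stepQ 6552 Q6552 (allL N6552 (tt N5298 (iv D13480)) (tt N6552 F59199) (tt N6552 F59200) (tt N6552 F59201) (tt N6505 F205720) (tt N6552 F59202) (tt N5301 F59203) (tt N6552 F59204) (tt N5350 F59205) (tt N6552 F59206))
theorem Q6554 : ∀ i, i < 6554 → P i := stepQ 6553 Q6553 (allL N6553 (tt N6505 F205635) (tt N5299 F59207) (tt N6553 F59208) (tt N6504 (iv F205746)) (tt N5298 (iv D13481)) (tt N6502 F205636) (tt N5302 F59209) (tt N6553 F59210) (tt N5351 F59211) (tt N6553 F59212))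
theorem Q6555 : ∀ i, i < 6555 → P i := stepQ 6554 Q6554 (allL N6554 (tt N6554 F59213) (tt N6504 F205977) (tt N5692 (iv F206084)) (tt N5299 (iv D13482)) (tt N6554 F59214) (tt N5691 F205978) (tt N5303 F59215) (tt N6554 F59216) (tt N5695 (iv F206089)) (tt N6554 F59217))
theorem Q6556 : ∀ i, i < 6556 → P i := stepQ 6555 Q6555 (allL N6555 (tt N6555 F59218) (tt N6502 F205649) (tt N5300 F59219) (tt N5691 (iv F205777)) (tt N6555 F59220) (tt N5299 (iv D13483)) (tt N5705 F205650) (tt N6555 F59221) (tt N5353 F59222) (tt N6555 F59223))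
theorem Q6557 : ∀ i, i < 6557 → P i := stepQ 6556 Q6556 (allL N6556 (tt N6556 F59224) (tt N6556 F59225) (tt N5705 F205643) (tt N5703 (iv F205774)) (tt N6556 F59226) (tt N5305 F59227) (tt N5300 (iv D13484)) (tt N5725 F205644) (tt N5354 F59228) (tt N6556 F59229))
theorem Q6558 : ∀ i, i < 6558 → P i := stepQ 6557 Q6557 (allL N6557 (tt N5302 F59230) (tt N6557 F59231) (tt N6557 F59232) (tt N6306 (iv F205460)) (tt N5301 (iv D13485)) (tt N6478 F205422) (tt N6505 (iv F205590)) (tt N5306 F59233) (tt N5359 F59234) (tt N6557 F59235))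
theorem Q6559 : ∀ i, i < 6559 → P i := stepQ 6558 Q6558 (allL N6558 (tt N6306 F205625) (tt N5303 F59236) (tt N6304 (iv F205745)) (tt N5302 (iv D13486)) (tt N6558 F59237) (tt N6476 F205626) (tt N6504 (iv F205747)) (tt N5307 F59238) (tt N6303 (iv F205748)) (tt N6558 F59239))
theorem Q6560 : ∀ i, i < 6560 → P i := stepQ 6559 Q6559 (allL N6559 (tt N6478 F205359) (tt N5304 F59240) (tt N6559 F59241) (tt N6476 (iv F205454)) (tt N5315 F59242) (tt N5302 (iv D13487)) (tt N6475 F205360) (tt N5308 F59243) (tt N5361 F59244) (tt N6559 F59245))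
theorem Q6561 : ∀ i, i < 6561 → P i := stepQ 6560 Q6560 (allL N6560 (tt N6560 F59246) (tt N6476 F205616) (tt N5707 (iv F205736)) (tt N5304 F59247) (tt N5756 F205617) (tt N5303 (iv D13488)) (tt N5706 F205618) (tt N5309 F59248) (tt N5712 (iv F205742)) (tt N6560 F59249))
theorem Q6562 : ∀ i, i < 6562 → P i := stepQ 6561 Q6561 (allL N6561 (tt N6561 F59250) (tt N6303 F205979) (tt N5696 (iv F206086)) (tt N5363 F59251) (tt N6561 F59252) (tt N5712 F205980) (tt N5695 (iv F206088)) (tt N5310 F59253) (tt N5303 (iv D13489)) (tt N5702 (iv F206090)))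
theorem Q6563 : ∀ i, i < 6563 → P i := stepQ 6562 Q6562 (allL N6562 (tt N6562 F59254) (tt N6475 F205362) (tt N5305 F59255) (tt N5706 (iv F205469)) (tt N5318 F59256) (tt N5705 (iv F205471)) (tt N5304 (iv D13490)) (tt N5728 F205363) (tt N5364 F59257) (tt N6562 F59258))
theorem Q6564 : ∀ i, i < 6564 → P i := stepQ 6563 Q6563 (allL N6563 (tt N6563 F59259) (tt N6563 F59260) (tt N5728 F205361) (tt N5726 (iv F205466)) (tt N5319 F59261) (tt N5725 (iv F205468)) (tt N5312 F59262) (tt N5305 (iv D13491)) (tt N5365 F59263) (tt N6563 F59264))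
theorem Q6565 : ∀ i, i < 6565 → P i := stepQ 6564 Q6564 (allL N6564 (tt N5308 F59270) (tt N6564 F59271) (tt N6564 F59272) (tt N6317 (iv F205244)) (tt N5321 F59273) (tt N5306 (iv D13493)) (tt N6487 F205220) (tt N6478 (iv F205327)) (tt N5373 F59274) (tt N6564 F59275))
theorem Q6566 : ∀ i, i < 6566 → P i := stepQ 6565 Q6565 (allL N6565 (tt N6317 F205354) (tt N5309 F59280) (tt N6314 (iv F205452)) (tt N5308 F59281) (tt N6477 F205355) (tt N5307 (iv D13495)) (tt N6486 F205356) (tt N6476 (iv F205455)) (tt N6312 (iv F205456)) (tt N6565 F59282))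
theorem Q6567 : ∀ i, i < 6567 → P i := stepQ 6566 Q6566 (allL N6566 (tt N6487 F205170) (tt N5311 F59287) (tt N6566 F59288) (tt N6486 (iv F205240)) (tt N5325 F59289) (tt N6566 F59290) (tt N5308 (iv D13497)) (tt N6484 F205171) (tt N5377 F59291) (tt N6566 F59292))
theorem Q6568 : ∀ i, i < 6568 → P i := stepQ 6567 Q6567 (allL N6567 (tt N6567 F59293) (tt N6477 F205350) (tt N5757 (iv F205447)) (tt N5326 F59294) (tt N5309 (iv D13498)) (tt N6567 F59295) (tt N5787 F205351) (tt N5756 (iv F205450)) (tt N5766 (iv F205451)) (tt N6567 F59296))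
theorem Q6569 : ∀ i, i < 6569 → P i := stepQ 6568 Q6568 (allL N6568 (tt N6568 F59297) (tt N6486 F205347) (tt N5731 (iv F205446)) (tt N5311 F59298) (tt N5787 F205348) (tt N6568 F59299) (tt N5309 (iv D13499)) (tt N5730 F205349) (tt N5740 (iv F205448)) (tt N6568 F59300))
theorem Q6570 : ∀ i, i < 6570 → P i := stepQ 6569 Q6569 (allL N6569 (tt N6569 F59301) (tt N6312 F205619) (tt N5713 (iv F205738)) (tt N5380 F59302) (tt N5766 F205620) (tt N5310 F59303) (tt N5740 F205621) (tt N5712 (iv F205741)) (tt N5309 (iv D13500)) (tt N5724 (iv F205743)))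
theorem Q6571 : ∀ i, i < 6571 → P i := stepQ 6570 Q6570 (allL N6570 (tt N6570 F59309) (tt N6484 F205175) (tt N5312 F59310) (tt N5730 (iv F205245)) (tt N5330 F59311) (tt N6570 F59312) (tt N5728 (iv F205247)) (tt N5311 (iv D13502)) (tt N5382 F59313) (tt N6570 F59314))
theorem Q6572 : ∀ i, i < 6572 → P i := stepQ 6571 Q6571 (allL N6571 (tt N5314 F59315) (tt N6571 F59316) (tt N6147 F205218) (tt N5313 (iv D13503)) (tt N6571 F59317) (tt N6139 F205219) (tt N6571 F59318) (tt N5320 F59319) (tt N8008 D19613) (tt N6571 F59320))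
theorem Q6573 : ∀ i, i < 6573 → P i := stepQ 6572 Q6572 (allL N6572 (tt N5315 F59321) (tt N6572 F59322) (tt N6572 F59323) (tt N6139 F205223) (tt N6478 (iv F205326)) (tt N5313 (iv D13504)) (tt N6138 F205224) (tt N5321 F59324) (tt N5390 F59325) (tt N6572 F59326))
theorem Q6574 : ∀ i, i < 6574 → P i := stepQ 6573 Q6573 (allL N6573 (tt N6147 F205168) (tt N6573 F59327) (tt N5314 (iv D13505)) (tt N6573 F59328) (tt N6573 F59329) (tt N6133 F205169) (tt N6573 F59330) (tt N5322 F59331) (tt N8009 D19616) (tt N6573 F59332))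
theorem Q6575 : ∀ i, i < 6575 → P i := stepQ 6574 Q6574 (allL N6574 (tt N6139 F205172) (tt N5316 F59333) (tt N6133 F205173) (tt N5315 F59334) (tt N6130 (iv F205242)) (tt N5314 (iv D13506)) (tt N6129 F205174) (tt N5323 F59335) (tt N8010 D19619) (tt N6574 F59336))
theorem Q6576 : ∀ i, i < 6576 → P i := stepQ 6575 Q6575 (allL N6575 (tt N8008 (iv F84637)) (tt N5317 F59337) (tt N8009 (iv F84655)) (tt N5393 F59338) (tt N6575 F59339) (tt N8010 (iv F84669)) (tt N6575 F59340) (tt N5324 F59341) (tt N5314 (iv D13507)) (tt N8011 D19620))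
theorem Q6577 : ∀ i, i < 6577 → P i := stepQ 6576 Q6576 (allL N6576 (tt N6138 F205186) (tt N5318 F59342) (tt N6576 F59343) (tt N6129 F205187) (tt N6475 (iv F205264)) (tt N6576 F59344) (tt N5315 (iv D13508)) (tt N6162 F205188) (tt N5394 F59345) (tt N6576 F59346))
theorem Q6578 : ∀ i, i < 6578 → P i := stepQ 6577 Q6577 (allL N6577 (tt N6577 F59347) (tt N6130 F205352) (tt N6577 F59348) (tt N5756 (iv F205449)) (tt N5316 (iv D13509)) (tt N6577 F59349) (tt N5754 F205353) (tt N5326 F59350) (tt N8012 D19623) (tt N6577 F59351))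
theorem Q6579 : ∀ i, i < 6579 → P i := stepQ 6578 Q6578 (allL N6578 (tt N6578 F59352) (tt N6129 F205180) (tt N6578 F59353) (tt N5318 F59354) (tt N5754 (iv F205248)) (tt N6578 F59355) (tt N5316 (iv D13510)) (tt N5783 F205181) (tt N8013 D19625) (tt N6578 F59356))
theorem Q6580 : ∀ i, i < 6580 → P i := stepQ 6579 Q6579 (allL N6579 (tt N6579 F59357) (tt N8010 (iv F84667)) (tt N6579 F59358) (tt N5397 F59359) (tt N8012 (iv F84689)) (tt N5317 F59360) (tt N8013 (iv F84702)) (tt N5328 F59361) (tt N5316 (iv D13511)) (tt N8014 D19626))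
theorem Q6581 : ∀ i, i < 6581 → P i := stepQ 6580 Q6580 (allL N6580 (tt N6580 F59362) (tt N8011 (iv F84671)) (tt N6580 F59363) (tt N5398 F59364) (tt N6580 F59365) (tt N8014 (iv F84706)) (tt N6580 F59366) (tt N5329 F59367) (tt N6580 F59368) (tt N5317 (iv D13512)))
theorem Q6582 : ∀ i, i < 6582 → P i := stepQ 6581 Q6581 (allL N6581 (tt N6581 F59369) (tt N6162 F205176) (tt N5319 F59370) (tt N5783 F205177) (tt N5728 (iv F205246)) (tt N6581 F59371) (tt N5330 F59372) (tt N5318 (iv D13513)) (tt N5399 F59373) (tt N6581 F59374))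
theorem Q6583 : ∀ i, i < 6583 → P i := stepQ 6582 Q6582 (allL N6582 (tt N5322 F59375) (tt N6154 (iv F205087)) (tt N5320 (iv D13514)) (tt N6582 F59376) (tt N6582 F59377) (tt N6148 F205062) (tt N5331 F59378) (tt N6147 (iv F205136)) (tt N8015 D19629) (tt N6582 F59379))
theorem Q6584 : ∀ i, i < 6584 → P i := stepQ 6583 Q6583 (allL N6583 (tt N5323 F59380) (tt N6583 F59381) (tt N6148 F205065) (tt N5321 F59382) (tt N6141 (iv F205086)) (tt N5320 (iv D13515)) (tt N6178 F205066) (tt N6139 (iv F205138)) (tt N8016 D19632) (tt N6583 F59383))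
theorem Q6585 : ∀ i, i < 6585 → P i := stepQ 6584 Q6584 (allL N6584 (tt N5324 F59384) (tt N6584 F59385) (tt N8015 (iv F84720)) (tt N5411 F59386) (tt N6584 F59387) (tt N8016 (iv F84735)) (tt N5333 F59388) (tt N8008 (iv F84642)) (tt N5320 (iv D13516)) (tt N8017 D19633))
theorem Q6586 : ∀ i, i < 6586 → P i := stepQ 6585 Q6585 (allL N6585 (tt N5325 F59389) (tt N6585 F59390) (tt N6585 F59391) (tt N6178 F205063) (tt N6487 (iv F205137)) (tt N5334 F59392) (tt N5321 (iv D13517)) (tt N6175 F205064) (tt N5412 F59393) (tt N6585 F59394))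
theorem Q6587 : ∀ i, i < 6587 → P i := stepQ 6586 Q6586 (allL N6586 (tt N6148 F205030) (tt N6586 F59395) (tt N5323 F59396) (tt N6586 F59397) (tt N6135 (iv F205085)) (tt N5322 (iv D13518)) (tt N6169 F205031) (tt N6133 (iv F205092)) (tt N8018 D19637) (tt N6586 F59398))
theorem Q6588 : ∀ i, i < 6588 → P i := stepQ 6587 Q6587 (allL N6587 (tt N8015 (iv F84719)) (tt N6587 F59399) (tt N5324 F59400) (tt N8019 D19638) (tt N6587 F59401) (tt N8018 (iv F84759)) (tt N5336 F59402) (tt N8009 (iv F84658)) (tt N5322 (iv D13519)) (tt N8020 D19639))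
theorem Q6589 : ∀ i, i < 6589 → P i := stepQ 6588 Q6588 (allL N6588 (tt N6141 F205161) (tt N5326 F59403) (tt N6135 F205162) (tt N6477 (iv F205241)) (tt N5323 (iv D13520)) (tt N6588 F59404) (tt N6165 F205163) (tt N6130 (iv F205243)) (tt N8021 D19641) (tt N6588 F59405))
theorem Q6590 : ∀ i, i < 6590 → P i := stepQ 6589 Q6589 (allL N6589 (tt N6178 F205027) (tt N5327 F59406) (tt N6169 F205028) (tt N5325 F59407) (tt N6165 (iv F205084)) (tt N5338 F59408) (tt N5323 (iv D13521)) (tt N6163 F205029) (tt N8022 D19643) (tt N6589 F59409))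
theorem Q6591 : ∀ i, i < 6591 → P i := stepQ 6590 Q6590 (allL N6590 (tt N8016 (iv F84732)) (tt N5328 F59410) (tt N8018 (iv F84758)) (tt N5417 F59411) (tt N8021 (iv F84773)) (tt N5324 F59412) (tt N8022 (iv F84782)) (tt N8010 (iv F84670)) (tt N5323 (iv D13522)) (tt N8023 D19644))
theorem Q6592 : ∀ i, i < 6592 → P i := stepQ 6591 Q6591 (allL N6591 (tt N8017 (iv F84736)) (tt N5329 F59413) (tt N8020 (iv F84765)) (tt N5418 F59414) (tt N6591 F59415) (tt N8023 (iv F84785)) (tt N5340 F59416) (tt N8011 (iv F84675)) (tt N6591 F59417) (tt N5324 (iv D13523)))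
theorem Q6593 : ∀ i, i < 6593 → P i := stepQ 6592 Q6592 (allL N6592 (tt N6175 F205037) (tt N5330 F59418) (tt N6592 F59419) (tt N6163 F205038) (tt N6484 (iv F205102)) (tt N5341 F59420) (tt N6162 (iv F205103)) (tt N5325 (iv D13524)) (tt N5419 F59421) (tt N6592 F59422))
theorem Q6594 : ∀ i, i < 6594 → P i := stepQ 6593 Q6593 (allL N6593 (tt N6593 F59423) (tt N6165 F205158) (tt N6593 F59424) (tt N5787 (iv F205239)) (tt N5327 F59425) (tt N5827 F205159) (tt N5326 (iv D13525)) (tt N5784 F205160) (tt N8024 D19647) (tt N6593 F59426))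
theorem Q6595 : ∀ i, i < 6595 → P i := stepQ 6594 Q6594 (allL N6594 (tt N6594 F59427) (tt N8021 (iv F84772)) (tt N6594 F59428) (tt N8025 D19648) (tt N5328 F59429) (tt N6594 F59430) (tt N8024 (iv F84799)) (tt N8012 (iv F84691)) (tt N5326 (iv D13526)) (tt N8026 D19649))
theorem Q6596 : ∀ i, i < 6596 → P i := stepQ 6595 Q6595 (allL N6595 (tt N6595 F59431) (tt N6163 F205032) (tt N6595 F59432) (tt N5330 F59433) (tt N5784 (iv F205093)) (tt N5344 F59434) (tt N5783 (iv F205094)) (tt N5327 (iv D13527)) (tt N8027 D19650) (tt N6595 F59435))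
theorem Q6597 : ∀ i, i < 6597 → P i := stepQ 6596 Q6596 (allL N6596 (tt N6596 F59436) (tt N8022 (iv F84779)) (tt N6596 F59437) (tt N5423 F59438) (tt N8024 (iv F84798)) (tt N5345 F59439) (tt N5328 F59440) (tt N8027 (iv F84812)) (tt N5327 (iv D13528)) (tt N8028 D19651))
theorem Q6598 : ∀ i, i < 6598 → P i := stepQ 6597 Q6597 (allL N6597 (tt N6597 F59441) (tt N8023 (iv F84783)) (tt N6597 F59442) (tt N5424 F59443) (tt N8026 (iv F84805)) (tt N5329 F59444) (tt N8028 (iv F84817)) (tt N8014 (iv F84707)) (tt N6597 F59445) (tt N5328 (iv D13529)))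
theorem Q6599 : ∀ i, i < 6599 → P i := stepQ 6598 Q6598 (allL N6598 (tt N6598 F59446) (tt N5331 (iv D13530)) (tt N6598 F59447) (tt N6598 F59448) (tt N6598 F59449) (tt N6197 F205021) (tt N6154 (iv F205088)) (tt N6598 F59450) (tt N8029 D19653) (tt N6598 F59451))
theorem Q6600 : ∀ i, i < 6600 → P i := stepQ 6599 Q6599 (allL N6599 (tt N5335 F59452) (tt N6197 (iv F204982)) (tt N5332 F59453) (tt N6599 F59454) (tt N6239 F204964) (tt N5331 (iv D13531)) (tt N6189 F204965) (tt N6599 F59455) (tt N8030 D19656) (tt N6599 F59456))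
theorem Q6601 : ∀ i, i < 6601 → P i := stepQ 6600 Q6600 (allL N6600 (tt N5336 F59457) (tt N8029 (iv F84826)) (tt N5333 F59458) (tt N8031 D19657) (tt N6600 F59459) (tt N8030 (iv F84841)) (tt N8015 (iv F84722)) (tt N6600 F59460) (tt N5331 (iv D13532)) (tt N8032 D19658))
theorem Q6602 : ∀ i, i < 6602 → P i := stepQ 6601 Q6601 (allL N6601 (tt N5337 F59461) (tt N6601 F59462) (tt N6239 F204962) (tt N6601 F59463) (tt N5332 (iv D13533)) (tt N6601 F59464) (tt N6223 F204963) (tt N6601 F59465) (tt N8033 D19660) (tt N6601 F59466))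
theorem Q6603 : ∀ i, i < 6603 → P i := stepQ 6602 Q6602 (allL N6602 (tt N5338 F59467) (tt N6602 F59468) (tt N6189 F204966) (tt N5334 F59469) (tt N6223 F204967) (tt N6178 (iv F205007)) (tt N5332 (iv D13534)) (tt N6177 F204968) (tt N8034 D19662) (tt N6602 F59470))
theorem Q6604 : ∀ i, i < 6604 → P i := stepQ 6603 Q6603 (allL N6603 (tt N5339 F59471) (tt N6603 F59472) (tt N8030 (iv F84840)) (tt N5442 F59473) (tt N8033 (iv F84859)) (tt N5333 F59474) (tt N8034 (iv F84870)) (tt N6603 F59475) (tt N5332 (iv D13535)) (tt N8035 D19663))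
theorem Q6605 : ∀ i, i < 6605 → P i := stepQ 6604 Q6604 (allL N6604 (tt N5340 F59476) (tt N6604 F59477) (tt N8032 (iv F84848)) (tt N5443 F59478) (tt N6604 F59479) (tt N8035 (iv F84874)) (tt N8017 (iv F84740)) (tt N6604 F59480) (tt N6604 F59481) (tt N5333 (iv D13536)))
theorem Q6606 : ∀ i, i < 6606 → P i := stepQ 6605 Q6605 (allL N6605 (tt N5341 F59482) (tt N6605 F59483) (tt N6605 F59484) (tt N6177 F204969) (tt N6605 F59485) (tt N6175 (iv F205008)) (tt N6605 F59486) (tt N5334 (iv D13537)) (tt N5444 F59487) (tt N6605 F59488))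
theorem Q6607 : ∀ i, i < 6607 → P i := stepQ 6606 Q6606 (allL N6606 (tt N6239 F204937) (tt N6606 F59489) (tt N5337 F59490) (tt N6264 F204938) (tt N5335 (iv D13538)) (tt N6606 F59491) (tt N6215 F204939) (tt N6606 F59492) (tt N8036 D19666) (tt N6606 F59493))
theorem Q6608 : ∀ i, i < 6608 → P i := stepQ 6607 Q6607 (allL N6607 (tt N6189 F204943) (tt N6607 F59494) (tt N5338 F59495) (tt N6607 F59496) (tt N6215 F204944) (tt N6169 (iv F204987)) (tt N5335 (iv D13539)) (tt N6168 F204945) (tt N8037 D19668) (tt N6607 F59497))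
theorem Q6609 : ∀ i, i < 6609 → P i := stepQ 6608 Q6608 (allL N6608 (tt N8030 (iv F84839)) (tt N6608 F59498) (tt N5339 F59499) (tt N8038 D19669) (tt N8036 (iv F84889)) (tt N5336 F59500) (tt N8037 (iv F84899)) (tt N6608 F59501) (tt N5335 (iv D13540)) (tt N8039 D19670))
theorem Q6610 : ∀ i, i < 6610 → P i := stepQ 6609 Q6609 (allL N6609 (tt N8031 (iv F84843)) (tt N6609 F59502) (tt N5448 F59503) (tt N5336 (iv D13541)) (tt N8040 D19671) (tt N8038 (iv F84902)) (tt N8019 (iv F84762)) (tt N6609 F59504) (tt N6609 F59505) (tt N8041 D19672))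
theorem Q6611 : ∀ i, i < 6611 → P i := stepQ 6610 Q6610 (allL N6610 (tt N8032 (iv F84847)) (tt N6610 F59506) (tt N5340 F59507) (tt N8041 (iv F84917)) (tt N6610 F59508) (tt N8039 (iv F84907)) (tt N8020 (iv F84767)) (tt N6610 F59509) (tt N6610 F59510) (tt N5336 (iv D13542)))
theorem Q6612 : ∀ i, i < 6612 → P i := stepQ 6611 Q6611 (allL N6611 (tt N6223 F204940) (tt N5342 F59511) (tt N6215 F204941) (tt N6611 F59512) (tt N5338 F59513) (tt N6209 (iv F204981)) (tt N5337 (iv D13543)) (tt N6208 F204942) (tt N8042 D19675) (tt N6611 F59514))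
theorem Q6613 : ∀ i, i < 6613 → P i := stepQ 6612 Q6612 (allL N6612 (tt N8033 (iv F84857)) (tt N5343 F59515) (tt N8036 (iv F84888)) (tt N8043 D19676) (tt N5339 F59516) (tt N6612 F59517) (tt N8042 (iv F84930)) (tt N6612 F59518) (tt N5337 (iv D13544)) (tt N8044 D19677))
theorem Q6614 : ∀ i, i < 6614 → P i := stepQ 6613 Q6613 (allL N6613 (tt N6177 F204947) (tt N5344 F59519) (tt N6168 F204948) (tt N5341 F59520) (tt N6208 F204949) (tt N6163 (iv F204990)) (tt N6613 F59521) (tt N5338 (iv D13545)) (tt N8045 D19678) (tt N6613 F59522))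
theorem Q6615 : ∀ i, i < 6615 → P i := stepQ 6614 Q6614 (allL N6614 (tt N8034 (iv F84867)) (tt N5345 F59523) (tt N8037 (iv F84898)) (tt N5453 F59524) (tt N8042 (iv F84929)) (tt N8022 (iv F84781)) (tt N5339 F59525) (tt N8045 (iv F84944)) (tt N5338 (iv D13546)) (tt N8046 D19679))
theorem Q6616 : ∀ i, i < 6616 → P i := stepQ 6615 Q6615 (allL N6615 (tt N8035 (iv F84871)) (tt N5346 F59526) (tt N8039 (iv F84906)) (tt N5454 F59527) (tt N8044 (iv F84937)) (tt N5340 F59528) (tt N8046 (iv F84947)) (tt N6615 F59529) (tt N6615 F59530) (tt N5339 (iv D13547)))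
theorem Q6617 : ∀ i, i < 6617 → P i := stepQ 6616 Q6616 (allL N6616 (tt N6616 F59531) (tt N6209 F205019) (tt N6616 F59532) (tt N6616 F59533) (tt N5827 (iv F205083)) (tt N5342 (iv D13548)) (tt N6616 F59534) (tt N5825 F205020) (tt N8047 D19681) (tt N6616 F59535))
theorem Q6618 : ∀ i, i < 6618 → P i := stepQ 6617 Q6617 (allL N6617 (tt N6617 F59536) (tt N6208 F204946) (tt N6617 F59537) (tt N6617 F59538) (tt N5344 F59539) (tt N5825 (iv F204988)) (tt N6617 F59540) (tt N5342 (iv D13549)) (tt N8048 D19682) (tt N6617 F59541))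
theorem Q6619 : ∀ i, i < 6619 → P i := stepQ 6618 Q6618 (allL N6618 (tt N6618 F59542) (tt N8042 (iv F84928)) (tt N6618 F59543) (tt N8049 D19683) (tt N5345 F59544) (tt N8047 (iv F84956)) (tt N5343 F59545) (tt N8048 (iv F84962)) (tt N5342 (iv D13550)) (tt N8050 D19684))
theorem Q6620 : ∀ i, i < 6620 → P i := stepQ 6619 Q6619 (allL N6619 (tt N6619 F59546) (tt N8043 (iv F84931)) (tt N8051 D19685) (tt N5343 (iv D13551)) (tt N5458 F59547) (tt N6619 F59548) (tt N8049 (iv F84965)) (tt N6619 F59549) (tt N6619 F59550) (tt N8052 D19686))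
theorem Q6621 : ∀ i, i < 6621 → P i := stepQ 6620 Q6620 (allL N6620 (tt N6620 F59551) (tt N8044 (iv F84936)) (tt N6620 F59552) (tt N8052 (iv F84979)) (tt N5346 F59553) (tt N6620 F59554) (tt N8050 (iv F84970)) (tt N6620 F59555) (tt N6620 F59556) (tt N5343 (iv D13552)))
theorem Q6622 : ∀ i, i < 6622 → P i := stepQ 6621 Q6621 (allL N6621 (tt N6621 F59557) (tt N8045 (iv F84941)) (tt N6621 F59558) (tt N5460 F59559) (tt N8048 (iv F84960)) (tt N8027 (iv F84811)) (tt N6621 F59560) (tt N5345 F59561) (tt N5344 (iv D13553)) (tt N8053 D19687))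
theorem Q6623 : ∀ i, i < 6623 → P i := stepQ 6622 Q6622 (allL N6622 (tt N6622 F59562) (tt N8046 (iv F84945)) (tt N6622 F59563) (tt N5461 F59564) (tt N8050 (iv F84969)) (tt N8028 (iv F84816)) (tt N5346 F59565) (tt N8053 (iv F84987)) (tt N6622 F59566) (tt N5345 (iv D13554)))
theorem Q6624 : ∀ i, i < 6624 → P i := stepQ 6623 Q6623 (allL N6623 (tt N6512 (iv F202981)) (tt N5348 F59575) (tt N6623 F59576) (tt N8054 D19689) (tt N5347 (iv D13556)) (tt N8055 D19690) (tt N5355 F59577) (tt N6623 F59578) (tt N6623 F59579) (tt N5351 F59580))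
theorem Q6625 : ∀ i, i < 6625 → P i := stepQ 6624 Q6624 (allL N6624 (tt N6624 F59581) (tt N8054 (iv F84996)) (tt N6624 F59582) (tt N5348 (iv D13557)) (tt N5694 F59583) (tt N8056 D19691) (tt N5356 F59584) (tt N6624 F59585) (tt N8057 D19692) (tt N5352 F59586))
theorem Q6626 : ∀ i, i < 6626 → P i := stepQ 6625 Q6625 (allL N6625 (tt N6625 F59587) (tt N8055 (iv F85001)) (tt N5349 F59588) (tt N8056 (iv F85009)) (tt N6625 F59589) (tt N5348 (iv D13558)) (tt N8058 D19693) (tt N6625 F59590) (tt N6625 F59591) (tt N5353 F59592))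
theorem Q6627 : ∀ i, i < 6627 → P i := stepQ 6626 Q6626 (allL N6626 (tt N6626 F59593) (tt N6626 F59594) (tt N8058 (iv F85019)) (tt N6626 F59595) (tt N6626 F59596) (tt N5358 F59597) (tt N5349 (iv D13559)) (tt N8059 D19694) (tt N6626 F59598) (tt N5354 F59599))
theorem Q6628 : ∀ i, i < 6628 → P i := stepQ 6627 Q6627 (allL N6627 (tt N5351 F59600) (tt N6627 F59601) (tt N6627 F59602) (tt N8060 D19695) (tt N5350 (iv D13560)) (tt N6506 F205721) (tt N5359 F59603) (tt N6627 F59604) (tt N6505 F205722) (tt N6512 (iv F202982)))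
theorem Q6629 : ∀ i, i < 6629 → P i := stepQ 6628 Q6628 (allL N6628 (tt N8060 (iv F85032)) (tt N5352 F59605) (tt N8061 D19697) (tt N5351 (iv D13561)) (tt N5698 F59606) (tt N8062 D19698) (tt N5360 F59607) (tt N6628 F59608) (tt N8063 D19699) (tt N8054 (iv F85000)))
theorem Q6630 : ∀ i, i < 6630 → P i := stepQ 6629 Q6629 (allL N6629 (tt N6506 F205673) (tt N5353 F59609) (tt N6629 F59610) (tt N8062 (iv F85048)) (tt N6629 F59611) (tt N5351 (iv D13562)) (tt N6503 F205674) (tt N6629 F59612) (tt N6502 F205675) (tt N8055 (iv F85006)))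
theorem Q6631 : ∀ i, i < 6631 → P i := stepQ 6630 Q6630 (allL N6630 (tt N6630 F59613) (tt N8062 (iv F85047)) (tt N6630 F59614) (tt N5353 F59615) (tt N8057 (iv F206120)) (tt N5352 (iv D13563)) (tt N5711 F206014) (tt N6630 F59616) (tt N5694 (iv F206119)) (tt N8056 (iv F85011)))
theorem Q6632 : ∀ i, i < 6632 → P i := stepQ 6631 Q6631 (allL N6631 (tt N6631 F59617) (tt N8063 (iv F85050)) (tt N6631 F59618) (tt N5695 F206231) (tt N5701 F59619) (tt N5694 F206232) (tt N5363 F59620) (tt N6631 F59621) (tt N5352 (iv D13564)) (tt N5700 (iv F206264)))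
theorem Q6633 : ∀ i, i < 6633 → P i := stepQ 6632 Q6632 (allL N6632 (tt N6632 F59622) (tt N6503 F205651) (tt N5354 F59623) (tt N5711 (iv F205781)) (tt N6632 F59624) (tt N5364 F59625) (tt N5353 (iv D13565)) (tt N5729 F205652) (tt N5705 F205653) (tt N8058 (iv F85023)))
theorem Q6634 : ∀ i, i < 6634 → P i := stepQ 6633 Q6633 (allL N6633 (tt N6633 F59626) (tt N6633 F59627) (tt N5729 F205645) (tt N6633 F59628) (tt N6633 F59629) (tt N5365 F59630) (tt N6633 F59631) (tt N5354 (iv D13566)) (tt N5725 F205646) (tt N8059 (iv F85031)))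
theorem Q6635 : ∀ i, i < 6635 → P i := stepQ 6634 Q6634 (allL N6634 (tt N6511 (iv F202631)) (tt N5356 F59638) (tt N8064 D19708) (tt N5355 (iv D13568)) (tt N5708 F59639) (tt N8065 D19709) (tt N8054 (iv F84998)) (tt N5366 F59640) (tt N8066 D19710) (tt N5360 F59641))
theorem Q6636 : ∀ i, i < 6636 → P i := stepQ 6635 Q6635 (allL N6635 (tt N6513 (iv F202856)) (tt N5357 F59642) (tt N6635 F59643) (tt N8065 (iv F85099)) (tt N5384 F59644) (tt N5355 (iv D13569)) (tt N8067 D19711) (tt N5367 F59645) (tt N6635 F59646) (tt N5361 F59647))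
theorem Q6637 : ∀ i, i < 6637 → P i := stepQ 6636 Q6636 (allL N6636 (tt N6636 F59648) (tt N8065 (iv F85098)) (tt N6636 F59649) (tt N5357 F59650) (tt N8068 D19712) (tt N5356 (iv D13570)) (tt N8069 D19713) (tt N5368 F59651) (tt N8070 D19714) (tt N5362 F59652))
theorem Q6638 : ∀ i, i < 6638 → P i := stepQ 6637 Q6637 (allL N6637 (tt N6637 F59653) (tt N8066 (iv F85102)) (tt N6637 F59654) (tt N6637 F59655) (tt N5711 F59656) (tt N8070 (iv F85124)) (tt N8057 (iv F85016)) (tt N5369 F59657) (tt N5356 (iv D13571)) (tt N8071 D19715))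
theorem Q6639 : ∀ i, i < 6639 → P i := stepQ 6638 Q6638 (allL N6638 (tt N6638 F59658) (tt N8067 (iv F85106)) (tt N5358 F59659) (tt N8069 (iv F85119)) (tt N5387 F59660) (tt N8058 (iv F85021)) (tt N5357 (iv D13572)) (tt N8072 D19716) (tt N6638 F59661) (tt N5364 F59662))
theorem Q6640 : ∀ i, i < 6640 → P i := stepQ 6639 Q6639 (allL N6639 (tt N6639 F59663) (tt N6639 F59664) (tt N8072 (iv F85133)) (tt N6639 F59665) (tt N5388 F59666) (tt N8059 (iv F85028)) (tt N5371 F59667) (tt N5358 (iv D13573)) (tt N6639 F59668) (tt N5365 F59669))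
theorem Q6641 : ∀ i, i < 6641 → P i := stepQ 6640 Q6640 (allL N6640 (tt N5360 F59670) (tt N6640 F59671) (tt N5718 (iv F205965)) (tt N5359 (iv D13574)) (tt N5714 F59672) (tt N8073 D19718) (tt N8060 (iv F85035)) (tt N5372 F59673) (tt N5716 (iv F205759)) (tt N6511 (iv F202632)))
theorem Q6642 : ∀ i, i < 6642 → P i := stepQ 6641 Q6641 (allL N6641 (tt N5361 F59674) (tt N6641 F59675) (tt N6641 F59676) (tt N8073 (iv F85144)) (tt N5390 F59677) (tt N5359 (iv D13575)) (tt N6479 F205423) (tt N5373 F59678) (tt N6478 F205424) (tt N6513 (iv F202857)))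
theorem Q6643 : ∀ i, i < 6643 → P i := stepQ 6642 Q6642 (allL N6642 (tt N5718 F205998) (tt N6642 F59679) (tt N5360 (iv D13576)) (tt N6642 F59680) (tt N5716 F59681) (tt N8074 D19721) (tt N8061 (iv F85045)) (tt N5374 F59682) (tt N5714 F205999) (tt N8064 (iv F85097)))
theorem Q6644 : ∀ i, i < 6644 → P i := stepQ 6643 Q6643 (allL N6643 (tt N8073 (iv F85142)) (tt N5362 F59683) (tt N8074 (iv F85155)) (tt N5361 F59684) (tt N8075 D19723) (tt N5360 (iv D13577)) (tt N8076 D19724) (tt N5375 F59685) (tt N8077 D19725) (tt N8065 (iv F85101)))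
theorem Q6645 : ∀ i, i < 6645 → P i := stepQ 6644 Q6644 (allL N6644 (tt N5716 F205988) (tt N5363 F59686) (tt N5714 F205989) (tt N6303 F205990) (tt N5718 F59687) (tt N8077 (iv F85169)) (tt N8063 (iv F85052)) (tt N5376 F59688) (tt N5360 (iv D13578)) (tt N6510 (iv F206102)))
theorem Q6646 : ∀ i, i < 6646 → P i := stepQ 6645 Q6645 (allL N6645 (tt N6479 F205377) (tt N5364 F59689) (tt N6645 F59690) (tt N8076 (iv F85167)) (tt N5394 F59691) (tt N6503 (iv F205499)) (tt N5361 (iv D13579)) (tt N6485 F205378) (tt N6475 F205379) (tt N8067 (iv F85110)))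
theorem Q6647 : ∀ i, i < 6647 → P i := stepQ 6646 Q6646 (allL N6646 (tt N6646 F59692) (tt N8075 (iv F85162)) (tt N6646 F59693) (tt N5395 F59694) (tt N5362 (iv D13580)) (tt N5720 F59695) (tt N8078 D19728) (tt N5378 F59696) (tt N8079 D19729) (tt N8068 (iv F85116)))
theorem Q6648 : ∀ i, i < 6648 → P i := stepQ 6647 Q6647 (allL N6647 (tt N6647 F59697) (tt N8076 (iv F85166)) (tt N6647 F59698) (tt N5364 F59699) (tt N8078 (iv F85181)) (tt N5711 (iv F205782)) (tt N5362 (iv D13581)) (tt N5738 F205655) (tt N5710 (iv F205778)) (tt N8069 (iv F85120)))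
theorem Q6649 : ∀ i, i < 6649 → P i := stepQ 6648 Q6648 (allL N6648 (tt N6648 F59700) (tt N8077 (iv F85168)) (tt N6648 F59701) (tt N5712 F205982) (tt N8079 (iv F85184)) (tt N5363 F59702) (tt N5710 F205983) (tt N5380 F59703) (tt N5362 (iv D13582)) (tt N5721 (iv F206094)))
theorem Q6650 : ∀ i, i < 6650 → P i := stepQ 6649 Q6649 (allL N6649 (tt N6649 F59704) (tt N6510 F206233) (tt N6649 F59705) (tt N5702 F206234) (tt N5723 F59706) (tt N5721 F206235) (tt N5700 (iv F206263)) (tt N5381 F59707) (tt N8071 (iv F85131)) (tt N5363 (iv D13583)))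
theorem Q6651 : ∀ i, i < 6651 → P i := stepQ 6650 Q6650 (allL N6650 (tt N6650 F59708) (tt N6485 F205364) (tt N5365 F59709) (tt N5738 (iv F205473)) (tt N5399 F59710) (tt N5729 (iv F205472)) (tt N5382 F59711) (tt N5364 (iv D13584)) (tt N5728 F205365) (tt N8072 (iv F85137)))
theorem Q6652 : ∀ i, i < 6652 → P i := stepQ 6651 Q6651 (allL N6651 (tt N5747 F206000) (tt N6651 F59723) (tt N5366 (iv D13587)) (tt N6651 F59724) (tt N5732 F59725) (tt N8080 D19737) (tt N6651 F59726) (tt N8064 (iv F85096)) (tt N6518 (iv F206112)) (tt N5374 F59727))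
theorem Q6653 : ∀ i, i < 6653 → P i := stepQ 6652 Q6652 (allL N6652 (tt N6519 (iv F203305)) (tt N5368 F59728) (tt N8080 (iv F85220)) (tt N5367 F59729) (tt N8081 D19739) (tt N5366 (iv D13588)) (tt N8082 D19740) (tt N8065 (iv F85100)) (tt N8083 D19741) (tt N5375 F59730))
theorem Q6654 : ∀ i, i < 6654 → P i := stepQ 6653 Q6653 (allL N6653 (tt N6517 (iv F203313)) (tt N5369 F59731) (tt N6518 (iv F206110)) (tt N6653 F59732) (tt N5734 F59733) (tt N8083 (iv F85237)) (tt N6653 F59734) (tt N8066 (iv F85105)) (tt N5366 (iv D13589)) (tt N6516 (iv F206104)))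
theorem Q6655 : ∀ i, i < 6655 → P i := stepQ 6654 Q6654 (allL N6654 (tt N6520 (iv F203737)) (tt N5370 F59735) (tt N6654 F59736) (tt N8082 (iv F85232)) (tt N5403 F59737) (tt N6654 F59738) (tt N5367 (iv D13590)) (tt N8084 D19743) (tt N6654 F59739) (tt N5377 F59740))
theorem Q6656 : ∀ i, i < 6656 → P i := stepQ 6655 Q6655 (allL N6655 (tt N6655 F59741) (tt N8081 (iv F85227)) (tt N6655 F59742) (tt N5404 F59743) (tt N5368 (iv D13591)) (tt N5736 F59744) (tt N8085 D19744) (tt N8068 (iv F85115)) (tt N8086 D19745) (tt N5378 F59745))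
theorem Q6657 : ∀ i, i < 6657 → P i := stepQ 6656 Q6656 (allL N6656 (tt N6656 F59746) (tt N8082 (iv F85231)) (tt N6656 F59747) (tt N5370 F59748) (tt N8085 (iv F85252)) (tt N6656 F59749) (tt N5368 (iv D13592)) (tt N8087 D19746) (tt N8088 D19747) (tt N5379 F59750))
theorem Q6658 : ∀ i, i < 6658 → P i := stepQ 6657 Q6657 (allL N6657 (tt N6657 F59751) (tt N8083 (iv F85235)) (tt N6657 F59752) (tt N6657 F59753) (tt N8086 (iv F85256)) (tt N5369 F59754) (tt N8088 (iv F85267)) (tt N8070 (iv F85125)) (tt N5368 (iv D13593)) (tt N8089 D19748))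
theorem Q6659 : ∀ i, i < 6659 → P i := stepQ 6658 Q6658 (allL N6658 (tt N6658 F59755) (tt N6516 F206236) (tt N6658 F59756) (tt N6658 F59757) (tt N5739 F59758) (tt N8089 (iv F85271)) (tt N6658 F59759) (tt N8071 (iv F85130)) (tt N5381 F59760) (tt N5369 (iv D13594)))
theorem Q6660 : ∀ i, i < 6660 → P i := stepQ 6659 Q6659 (allL N6659 (tt N6659 F59761) (tt N8084 (iv F85243)) (tt N5371 F59762) (tt N8087 (iv F85260)) (tt N5408 F59763) (tt N6659 F59764) (tt N8072 (iv F85135)) (tt N5370 (iv D13595)) (tt N6659 F59765) (tt N5382 F59766))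
theorem Q6661 : ∀ i, i < 6661 → P i := stepQ 6660 Q6660 (allL N6660 (tt N5375 F59771) (tt N6660 F59772) (tt N5746 (iv F205593)) (tt N5373 F59773) (tt N8090 D19752) (tt N5372 (iv D13597)) (tt N8091 D19753) (tt N8073 (iv F85145)) (tt N5743 (iv F205461)) (tt N6519 (iv F203306)))
theorem Q6662 : ∀ i, i < 6662 → P i := stepQ 6661 Q6661 (allL N6661 (tt N5377 F59778) (tt N6661 F59779) (tt N6661 F59780) (tt N8091 (iv F85291)) (tt N5412 F59781) (tt N6661 F59782) (tt N5373 (iv D13599)) (tt N6488 F205221) (tt N6487 F205222) (tt N6520 (iv F203738)))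
theorem Q6663 : ∀ i, i < 6663 → P i := stepQ 6662 Q6662 (allL N6662 (tt N5746 F205637) (tt N6662 F59783) (tt N5375 F59784) (tt N6662 F59785) (tt N8092 D19757) (tt N5374 (iv D13600)) (tt N8093 D19758) (tt N8074 (iv F85157)) (tt N5741 (iv F205756)) (tt N8080 (iv F85222)))
theorem Q6664 : ∀ i, i < 6664 → P i := stepQ 6663 Q6663 (allL N6663 (tt N8090 (iv F85285)) (tt N5378 F59790) (tt N8092 (iv F85306)) (tt N5415 F59791) (tt N5375 (iv D13602)) (tt N5744 F59792) (tt N8094 D19762) (tt N8075 (iv F85165)) (tt N8095 D19763) (tt N8081 (iv F85230)))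
theorem Q6665 : ∀ i, i < 6665 → P i := stepQ 6664 Q6664 (allL N6664 (tt N8091 (iv F85289)) (tt N5379 F59793) (tt N8093 (iv F85309)) (tt N5377 F59794) (tt N8094 (iv F85324)) (tt N6664 F59795) (tt N5375 (iv D13603)) (tt N8096 D19764) (tt N8097 D19765) (tt N8082 (iv F85234)))
theorem Q6666 : ∀ i, i < 6666 → P i := stepQ 6665 Q6665 (allL N6665 (tt N5743 F205628) (tt N5380 F59796) (tt N5741 (iv F205755)) (tt N6312 F205629) (tt N8095 (iv F85326)) (tt N5376 F59797) (tt N8097 (iv F85333)) (tt N8077 (iv F85170)) (tt N5375 (iv D13604)) (tt N6492 (iv F205757)))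
theorem Q6667 : ∀ i, i < 6667 → P i := stepQ 6666 Q6666 (allL N6666 (tt N6488 F205184) (tt N5382 F59801) (tt N6666 F59802) (tt N8096 (iv F85329)) (tt N5419 F59803) (tt N6666 F59804) (tt N6485 (iv F205266)) (tt N5377 (iv D13606)) (tt N6484 F205185) (tt N8084 (iv F85248)))
theorem Q6668 : ∀ i, i < 6668 → P i := stepQ 6667 Q6667 (allL N6667 (tt N6667 F59805) (tt N8094 (iv F85322)) (tt N6667 F59806) (tt N5420 F59807) (tt N5379 F59808) (tt N8098 D19767) (tt N5378 (iv D13607)) (tt N8099 D19768) (tt N8100 D19769) (tt N8085 (iv F85253)))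
theorem Q6669 : ∀ i, i < 6669 → P i := stepQ 6668 Q6668 (allL N6668 (tt N6668 F59809) (tt N8095 (iv F85325)) (tt N6668 F59810) (tt N8101 D19770) (tt N5380 F59811) (tt N5750 F59812) (tt N8100 (iv F85348)) (tt N8079 (iv F85186)) (tt N5378 (iv D13608)) (tt N8102 D19771))
theorem Q6670 : ∀ i, i < 6670 → P i := stepQ 6669 Q6669 (allL N6669 (tt N6669 F59813) (tt N8096 (iv F85328)) (tt N6669 F59814) (tt N5382 F59815) (tt N8099 (iv F85344)) (tt N6669 F59816) (tt N5738 (iv F205474)) (tt N5379 (iv D13609)) (tt N5737 (iv F205470)) (tt N8087 (iv F85262)))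
theorem Q6671 : ∀ i, i < 6671 → P i := stepQ 6670 Q6670 (allL N6670 (tt N6670 F59817) (tt N8097 (iv F85331)) (tt N6670 F59818) (tt N5740 F205622) (tt N8100 (iv F85347)) (tt N6670 F59819) (tt N5380 F59820) (tt N5737 F205623) (tt N5379 (iv D13610)) (tt N5751 (iv F205744)))
theorem Q6672 : ∀ i, i < 6672 → P i := stepQ 6671 Q6671 (allL N6671 (tt N6671 F59821) (tt N6492 F205984) (tt N6671 F59822) (tt N5724 F205985) (tt N8102 (iv F85354)) (tt N5381 F59823) (tt N5751 F205986) (tt N5721 (iv F206093)) (tt N8089 (iv F85272)) (tt N5380 (iv D13611)))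
theorem Q6673 : ∀ i, i < 6673 → P i := stepQ 6672 Q6672 (allL N6672 (tt N6389 (iv F201115)) (tt N5471 F59836) (tt N5383 (iv D13614)) (tt N6672 F59837) (tt N5758 F59838) (tt N8103 D19778) (tt N6672 F59839) (tt N5400 F59840) (tt N8104 D19779) (tt N5391 F59841))
theorem Q6674 : ∀ i, i < 6674 → P i := stepQ 6673 Q6673 (allL N6673 (tt N6483 (iv F201983)) (tt N5385 F59842) (tt N8103 (iv F85388)) (tt N5384 F59843) (tt N8105 D19780) (tt N5383 (iv D13615)) (tt N8106 D19781) (tt N5401 F59844) (tt N8107 D19782) (tt N5392 F59845))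
theorem Q6675 : ∀ i, i < 6675 → P i := stepQ 6674 Q6674 (allL N6674 (tt N6145 (iv F201968)) (tt N5386 F59846) (tt N8104 (iv F85393)) (tt N6674 F59847) (tt N5760 F59848) (tt N8107 (iv F85407)) (tt N6674 F59849) (tt N5402 F59850) (tt N5383 (iv D13616)) (tt N8108 D19783))
theorem Q6676 : ∀ i, i < 6676 → P i := stepQ 6675 Q6675 (allL N6675 (tt N6514 (iv F202858)) (tt N5387 F59851) (tt N6675 F59852) (tt N8106 (iv F85402)) (tt N8067 (iv F85108)) (tt N6675 F59853) (tt N5384 (iv D13617)) (tt N8109 D19784) (tt N6675 F59854) (tt N5394 F59855))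
theorem Q6677 : ∀ i, i < 6677 → P i := stepQ 6676 Q6676 (allL N6676 (tt N6676 F59856) (tt N8105 (iv F85397)) (tt N5475 F59857) (tt N8068 (iv F85113)) (tt N5385 (iv D13618)) (tt N5762 F59858) (tt N8110 D19785) (tt N5404 F59859) (tt N8111 D19786) (tt N5395 F59860))
theorem Q6678 : ∀ i, i < 6678 → P i := stepQ 6677 Q6677 (allL N6677 (tt N6677 F59861) (tt N8106 (iv F85401)) (tt N5476 F59862) (tt N5387 F59863) (tt N8110 (iv F85423)) (tt N6677 F59864) (tt N5385 (iv D13619)) (tt N8112 D19787) (tt N8113 D19788) (tt N5396 F59865))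
theorem Q6679 : ∀ i, i < 6679 → P i := stepQ 6678 Q6678 (allL N6678 (tt N6678 F59866) (tt N8107 (iv F85405)) (tt N5477 F59867) (tt N6678 F59868) (tt N8111 (iv F85427)) (tt N5386 F59869) (tt N8113 (iv F85440)) (tt N5406 F59870) (tt N5385 (iv D13620)) (tt N8114 D19789))
theorem Q6680 : ∀ i, i < 6680 → P i := stepQ 6679 Q6679 (allL N6679 (tt N6679 F59871) (tt N8108 (iv F85409)) (tt N5478 F59872) (tt N6679 F59873) (tt N5765 F59874) (tt N8114 (iv F85444)) (tt N6679 F59875) (tt N5407 F59876) (tt N5398 F59877) (tt N5386 (iv D13621)))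
theorem Q6681 : ∀ i, i < 6681 → P i := stepQ 6680 Q6680 (allL N6680 (tt N6680 F59878) (tt N8109 (iv F85415)) (tt N5388 F59879) (tt N8112 (iv F85432)) (tt N8072 (iv F85134)) (tt N6680 F59880) (tt N5408 F59881) (tt N5387 (iv D13622)) (tt N6680 F59882) (tt N5399 F59883))
theorem Q6682 : ∀ i, i < 6682 → P i := stepQ 6681 Q6681 (allL N6681 (tt N5391 F59884) (tt N8115 D19790) (tt N5389 (iv D13623)) (tt N6681 F59885) (tt N5767 F59886) (tt N8116 D19791) (tt N6681 F59887) (tt N5409 F59888) (tt N8117 D19792) (tt N6389 (iv F201116)))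
theorem Q6683 : ∀ i, i < 6683 → P i := stepQ 6682 Q6682 (allL N6682 (tt N5392 F59889) (tt N6682 F59890) (tt N8116 (iv F85454)) (tt N5390 F59891) (tt N8118 D19793) (tt N5389 (iv D13624)) (tt N8119 D19794) (tt N5410 F59892) (tt N8120 D19795) (tt N6483 (iv F201984)))
theorem Q6684 : ∀ i, i < 6684 → P i := stepQ 6683 Q6683 (allL N6683 (tt N5393 F59893) (tt N6683 F59894) (tt N8117 (iv F85458)) (tt N8008 (iv F84639)) (tt N5769 F59895) (tt N8120 (iv F85472)) (tt N6683 F59896) (tt N5411 F59897) (tt N5389 (iv D13625)) (tt N8121 D19796))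
theorem Q6685 : ∀ i, i < 6685 → P i := stepQ 6684 Q6684 (allL N6684 (tt N5394 F59898) (tt N6684 F59899) (tt N6684 F59900) (tt N8119 (iv F85468)) (tt N6479 (iv F205330)) (tt N6684 F59901) (tt N5390 (iv D13626)) (tt N6176 F205226) (tt N6138 F205227) (tt N6514 (iv F202859)))
theorem Q6686 : ∀ i, i < 6686 → P i := stepQ 6685 Q6685 (allL N6685 (tt N8116 (iv F85453)) (tt N5484 F59902) (tt N5392 F59903) (tt N6685 F59904) (tt N8122 D19798) (tt N5391 (iv D13627)) (tt N8123 D19799) (tt N5413 F59905) (tt N8124 D19800) (tt N8103 (iv F85391)))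
theorem Q6687 : ∀ i, i < 6687 → P i := stepQ 6686 Q6686 (allL N6686 (tt N8117 (iv F85457)) (tt N5485 F59906) (tt N5393 F59907) (tt N8125 D19801) (tt N5772 F59908) (tt N8124 (iv F85494)) (tt N6686 F59909) (tt N5414 F59910) (tt N5391 (iv D13628)) (tt N8126 D19802))
theorem Q6688 : ∀ i, i < 6688 → P i := stepQ 6687 Q6687 (allL N6687 (tt N8118 (iv F85462)) (tt N5395 F59911) (tt N8122 (iv F85485)) (tt N8075 (iv F85163)) (tt N5392 (iv D13629)) (tt N5773 F59912) (tt N8127 D19803) (tt N5415 F59913) (tt N8128 D19804) (tt N8105 (iv F85400)))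
theorem Q6689 : ∀ i, i < 6689 → P i := stepQ 6688 Q6688 (allL N6688 (tt N8119 (iv F85466)) (tt N5396 F59914) (tt N8123 (iv F85489)) (tt N5394 F59915) (tt N8127 (iv F85506)) (tt N6688 F59916) (tt N5392 (iv D13630)) (tt N8129 D19805) (tt N8130 D19806) (tt N8106 (iv F85404)))
theorem Q6690 : ∀ i, i < 6690 → P i := stepQ 6689 Q6689 (allL N6689 (tt N8120 (iv F85470)) (tt N5397 F59917) (tt N8124 (iv F85493)) (tt N8010 (iv F84668)) (tt N8128 (iv F85508)) (tt N5393 F59918) (tt N8130 (iv F85517)) (tt N5417 F59919) (tt N5392 (iv D13631)) (tt N8131 D19807))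
theorem Q6691 : ∀ i, i < 6691 → P i := stepQ 6690 Q6690 (allL N6690 (tt N8121 (iv F85474)) (tt N5398 F59920) (tt N8126 (iv F85501)) (tt N8011 (iv F84672)) (tt N5776 F59921) (tt N8131 (iv F85519)) (tt N6690 F59922) (tt N5418 F59923) (tt N8108 (iv F85414)) (tt N5393 (iv D13632)))
theorem Q6692 : ∀ i, i < 6692 → P i := stepQ 6691 Q6691 (allL N6691 (tt N6176 F205189) (tt N5399 F59924) (tt N6691 F59925) (tt N8129 (iv F85512)) (tt N6485 (iv F205265)) (tt N6691 F59926) (tt N5419 F59927) (tt N5394 (iv D13633)) (tt N6162 F205190) (tt N8109 (iv F85420)))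
theorem Q6693 : ∀ i, i < 6693 → P i := stepQ 6692 Q6692 (allL N6692 (tt N6692 F59928) (tt N8127 (iv F85505)) (tt N5491 F59929) (tt N8078 (iv F85180)) (tt N5396 F59930) (tt N8132 D19808) (tt N5395 (iv D13634)) (tt N8133 D19809) (tt N8134 D19810) (tt N8110 (iv F85424)))
theorem Q6694 : ∀ i, i < 6694 → P i := stepQ 6693 Q6693 (allL N6693 (tt N6693 F59931) (tt N8128 (iv F85507)) (tt N5492 F59932) (tt N8135 D19811) (tt N5397 F59933) (tt N5779 F59934) (tt N8134 (iv F85532)) (tt N5421 F59935) (tt N5395 (iv D13635)) (tt N8136 D19812))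
theorem Q6695 : ∀ i, i < 6695 → P i := stepQ 6694 Q6694 (allL N6694 (tt N6694 F59936) (tt N8129 (iv F85511)) (tt N5493 F59937) (tt N5399 F59938) (tt N8133 (iv F85527)) (tt N6694 F59939) (tt N5422 F59940) (tt N5396 (iv D13636)) (tt N8137 D19813) (tt N8112 (iv F85435)))
theorem Q6696 : ∀ i, i < 6696 → P i := stepQ 6695 Q6695 (allL N6695 (tt N6695 F59941) (tt N8130 (iv F85515)) (tt N5494 F59942) (tt N8013 (iv F84700)) (tt N8134 (iv F85531)) (tt N6695 F59943) (tt N5397 F59944) (tt N8137 (iv F85545)) (tt N5396 (iv D13637)) (tt N8138 D19814))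
theorem Q6697 : ∀ i, i < 6697 → P i := stepQ 6696 Q6696 (allL N6696 (tt N6696 F59945) (tt N8131 (iv F85518)) (tt N5495 F59946) (tt N8014 (iv F84705)) (tt N8136 (iv F85538)) (tt N5398 F59947) (tt N8138 (iv F85549)) (tt N5424 F59948) (tt N8114 (iv F85446)) (tt N5397 (iv D13638)))
theorem Q6698 : ∀ i, i < 6698 → P i := stepQ 6697 Q6697 (allL N6697 (tt N6407 (iv F201979)) (tt N5511 F59969) (tt N5401 F59970) (tt N6697 F59971) (tt N8139 D19823) (tt N5400 (iv D13643)) (tt N8140 D19824) (tt N8103 (iv F85390)) (tt N8141 D19825) (tt N5413 F59972))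
theorem Q6699 : ∀ i, i < 6699 → P i := stepQ 6698 Q6698 (allL N6698 (tt N5965 (iv F201939)) (tt N5512 F59973) (tt N5402 F59974) (tt N8142 D19826) (tt N5789 F59975) (tt N8141 (iv F85600)) (tt N5426 F59976) (tt N8104 (iv F85396)) (tt N5400 (iv D13644)) (tt N8143 D19827))
theorem Q6700 : ∀ i, i < 6700 → P i := stepQ 6699 Q6699 (allL N6699 (tt N6496 (iv F202698)) (tt N5404 F59977) (tt N8139 (iv F85590)) (tt N8081 (iv F85228)) (tt N5401 (iv D13645)) (tt N5790 F59978) (tt N8144 D19828) (tt N8105 (iv F85399)) (tt N8145 D19829) (tt N5415 F59979))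
theorem Q6701 : ∀ i, i < 6701 → P i := stepQ 6700 Q6700 (allL N6700 (tt N6497 (iv F202852)) (tt N5405 F59980) (tt N8140 (iv F85594)) (tt N5403 F59981) (tt N8144 (iv F85611)) (tt N5428 F59982) (tt N5401 (iv D13646)) (tt N8146 D19830) (tt N8147 D19831) (tt N5416 F59983))
theorem Q6702 : ∀ i, i < 6702 → P i := stepQ 6701 Q6701 (allL N6701 (tt N6187 (iv F202808)) (tt N5406 F59984) (tt N8141 (iv F85599)) (tt N6701 F59985) (tt N8145 (iv F85614)) (tt N5402 F59986) (tt N8147 (iv F85623)) (tt N8107 (iv F85408)) (tt N5401 (iv D13647)) (tt N8148 D19832))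
theorem Q6703 : ∀ i, i < 6703 → P i := stepQ 6702 Q6702 (allL N6702 (tt N6188 (iv F202809)) (tt N5407 F59987) (tt N8143 (iv F85606)) (tt N6702 F59988) (tt N5793 F59989) (tt N8148 (iv F85626)) (tt N5430 F59990) (tt N8108 (iv F85413)) (tt N5418 F59991) (tt N5402 (iv D13648)))
theorem Q6704 : ∀ i, i < 6704 → P i := stepQ 6703 Q6703 (allL N6703 (tt N6521 (iv F203739)) (tt N5408 F59992) (tt N6703 F59993) (tt N8146 (iv F85617)) (tt N8084 (iv F85245)) (tt N5431 F59994) (tt N8109 (iv F85418)) (tt N5403 (iv D13649)) (tt N6703 F59995) (tt N5419 F59996))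
theorem Q6705 : ∀ i, i < 6705 → P i := stepQ 6704 Q6704 (allL N6704 (tt N6704 F59997) (tt N8144 (iv F85610)) (tt N5518 F59998) (tt N8085 (iv F85251)) (tt N5405 F59999) (tt N8149 D19833) (tt N5404 (iv D13650)) (tt N8150 D19834) (tt N8151 D19835) (tt N5420 F60000))
theorem Q6706 : ∀ i, i < 6706 → P i := stepQ 6705 Q6705 (allL N6705 (tt N6705 F60001) (tt N8145 (iv F85613)) (tt N5519 F60002) (tt N8152 D19836) (tt N5406 F60003) (tt N5796 F60004) (tt N8151 (iv F85640)) (tt N8111 (iv F85429)) (tt N5404 (iv D13651)) (tt N8153 D19837))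
theorem Q6707 : ∀ i, i < 6707 → P i := stepQ 6706 Q6706 (allL N6706 (tt N6706 F60005) (tt N8146 (iv F85616)) (tt N5520 F60006) (tt N5408 F60007) (tt N8150 (iv F85635)) (tt N5434 F60008) (tt N8112 (iv F85434)) (tt N5405 (iv D13652)) (tt N8154 D19838) (tt N5422 F60009))
theorem Q6708 : ∀ i, i < 6708 → P i := stepQ 6707 Q6707 (allL N6707 (tt N6707 F60010) (tt N8147 (iv F85620)) (tt N5521 F60011) (tt N6707 F60012) (tt N8151 (iv F85639)) (tt N5435 F60013) (tt N5406 F60014) (tt N8154 (iv F85653)) (tt N5405 (iv D13653)) (tt N8155 D19839))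
theorem Q6709 : ∀ i, i < 6709 → P i := stepQ 6708 Q6708 (allL N6708 (tt N6708 F60015) (tt N8148 (iv F85624)) (tt N5522 F60016) (tt N6708 F60017) (tt N8153 (iv F85646)) (tt N5407 F60018) (tt N8155 (iv F85658)) (tt N8114 (iv F85445)) (tt N5424 F60019) (tt N5406 (iv D13654)))
theorem Q6710 : ∀ i, i < 6710 → P i := stepQ 6709 Q6709 (allL N6709 (tt N5523 F60020) (tt N5409 (iv D13655)) (tt N6709 F60021) (tt N6709 F60022) (tt N5800 F60023) (tt N8156 D19840) (tt N5437 F60024) (tt N8115 (iv F85452)) (tt N8157 D19841) (tt N6346 F201536))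
theorem Q6711 : ∀ i, i < 6711 → P i := stepQ 6710 Q6710 (allL N6710 (tt N5413 F60025) (tt N8156 (iv F85661)) (tt N5410 F60026) (tt N6710 F60027) (tt N8158 D19842) (tt N5409 (iv D13656)) (tt N8159 D19843) (tt N8116 (iv F85456)) (tt N8160 D19844) (tt N6407 (iv F201980)))
theorem Q6712 : ∀ i, i < 6712 → P i := stepQ 6711 Q6711 (allL N6711 (tt N5414 F60028) (tt N8157 (iv F85665)) (tt N5411 F60029) (tt N8161 D19845) (tt N5802 F60030) (tt N8160 (iv F85678)) (tt N5439 F60031) (tt N8117 (iv F85461)) (tt N5409 (iv D13657)) (tt N8162 D19846))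
theorem Q6713 : ∀ i, i < 6713 → P i := stepQ 6712 Q6712 (allL N6712 (tt N5415 F60032) (tt N6712 F60033) (tt N8158 (iv F85670)) (tt N8090 (iv F85287)) (tt N5410 (iv D13658)) (tt N5803 F60034) (tt N8163 D19847) (tt N8118 (iv F85465)) (tt N8164 D19848) (tt N6496 (iv F202699)))
theorem Q6714 : ∀ i, i < 6714 → P i := stepQ 6713 Q6713 (allL N6713 (tt N5416 F60035) (tt N6713 F60036) (tt N8159 (iv F85673)) (tt N5412 F60037) (tt N8163 (iv F85688)) (tt N5441 F60038) (tt N5410 (iv D13659)) (tt N8165 D19849) (tt N8166 D19850) (tt N6497 (iv F202853)))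
theorem Q6715 : ∀ i, i < 6715 → P i := stepQ 6714 Q6714 (allL N6714 (tt N5417 F60039) (tt N6714 F60040) (tt N8160 (iv F85677)) (tt N8016 (iv F84734)) (tt N8164 (iv F85691)) (tt N5411 F60041) (tt N8166 (iv F85700)) (tt N8120 (iv F85473)) (tt N5410 (iv D13660)) (tt N8167 D19851))
theorem Q6716 : ∀ i, i < 6716 → P i := stepQ 6715 Q6715 (allL N6715 (tt N5418 F60042) (tt N6715 F60043) (tt N8162 (iv F85683)) (tt N8017 (iv F84738)) (tt N5806 F60044) (tt N8167 (iv F85703)) (tt N5443 F60045) (tt N8121 (iv F85478)) (tt N6188 (iv F202810)) (tt N5411 (iv D13661)))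
theorem Q6717 : ∀ i, i < 6717 → P i := stepQ 6716 Q6716 (allL N6716 (tt N5419 F60046) (tt N6716 F60047) (tt N6716 F60048) (tt N8165 (iv F85695)) (tt N6488 (iv F205139)) (tt N5444 F60049) (tt N6176 (iv F205140)) (tt N5412 (iv D13662)) (tt N6175 F205067) (tt N6521 (iv F203740)))
theorem Q6718 : ∀ i, i < 6718 → P i := stepQ 6717 Q6717 (allL N6717 (tt N8158 (iv F85669)) (tt N5531 F60050) (tt N5415 F60051) (tt N8168 D19852) (tt N5413 (iv D13663)) (tt N5808 F60052) (tt N8169 D19853) (tt N8122 (iv F85487)) (tt N8170 D19854) (tt N8139 (iv F85592)))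
theorem Q6719 : ∀ i, i < 6719 → P i := stepQ 6718 Q6718 (allL N6718 (tt N8159 (iv F85672)) (tt N5532 F60053) (tt N5416 F60054) (tt N6718 F60055) (tt N8169 (iv F85709)) (tt N5446 F60056) (tt N5413 (iv D13664)) (tt N8171 D19855) (tt N8172 D19856) (tt N8140 (iv F85597)))
theorem Q6720 : ∀ i, i < 6720 → P i := stepQ 6719 Q6719 (allL N6719 (tt N8160 (iv F85676)) (tt N5533 F60057) (tt N5417 F60058) (tt N8173 D19857) (tt N8170 (iv F85712)) (tt N5414 F60059) (tt N8172 (iv F85721)) (tt N8124 (iv F85495)) (tt N5413 (iv D13665)) (tt N8174 D19858))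
theorem Q6721 : ∀ i, i < 6721 → P i := stepQ 6720 Q6720 (allL N6720 (tt N8161 (iv F85679)) (tt N5534 F60060) (tt N8019 (iv F84761)) (tt N5414 (iv D13666)) (tt N8175 D19859) (tt N8173 (iv F85723)) (tt N5448 F60061) (tt N8125 (iv F85498)) (tt N6720 F60062) (tt N8176 D19860))
theorem Q6722 : ∀ i, i < 6722 → P i := stepQ 6721 Q6721 (allL N6721 (tt N8162 (iv F85682)) (tt N5535 F60063) (tt N5418 F60064) (tt N8176 (iv F85733)) (tt N5812 F60065) (tt N8174 (iv F85727)) (tt N5449 F60066) (tt N8126 (iv F85504)) (tt N8143 (iv F85609)) (tt N5414 (iv D13667)))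
theorem Q6723 : ∀ i, i < 6723 → P i := stepQ 6722 Q6722 (allL N6722 (tt N8163 (iv F85686)) (tt N5420 F60067) (tt N8169 (iv F85708)) (tt N8094 (iv F85323)) (tt N5416 F60068) (tt N8177 D19861) (tt N5415 (iv D13668)) (tt N8178 D19862) (tt N8179 D19863) (tt N8144 (iv F85612)))
theorem Q6724 : ∀ i, i < 6724 → P i := stepQ 6723 Q6723 (allL N6723 (tt N8164 (iv F85689)) (tt N5421 F60069) (tt N8170 (iv F85711)) (tt N8180 D19864) (tt N5417 F60070) (tt N5814 F60071) (tt N8179 (iv F85742)) (tt N8128 (iv F85510)) (tt N5415 (iv D13669)) (tt N8181 D19865))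
theorem Q6725 : ∀ i, i < 6725 → P i := stepQ 6724 Q6724 (allL N6724 (tt N8165 (iv F85693)) (tt N5422 F60072) (tt N8171 (iv F85715)) (tt N5419 F60073) (tt N8178 (iv F85739)) (tt N5452 F60074) (tt N8129 (iv F85514)) (tt N5416 (iv D13670)) (tt N8182 D19866) (tt N8146 (iv F85619)))
theorem Q6726 : ∀ i, i < 6726 → P i := stepQ 6725 Q6725 (allL N6725 (tt N8166 (iv F85697)) (tt N5423 F60075) (tt N8172 (iv F85719)) (tt N8022 (iv F84780)) (tt N8179 (iv F85741)) (tt N5453 F60076) (tt N5417 F60077) (tt N8182 (iv F85750)) (tt N5416 (iv D13671)) (tt N8183 D19867))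
theorem Q6727 : ∀ i, i < 6727 → P i := stepQ 6726 Q6726 (allL N6726 (tt N8167 (iv F85701)) (tt N5424 F60078) (tt N8174 (iv F85726)) (tt N8023 (iv F84784)) (tt N8181 (iv F85746)) (tt N5418 F60079) (tt N8183 (iv F85753)) (tt N8131 (iv F85520)) (tt N8148 (iv F85627)) (tt N5417 (iv D13672)))
theorem Q6728 : ∀ i, i < 6728 → P i := stepQ 6727 Q6727 (allL N6727 (tt N6727 F60080) (tt N8177 (iv F85735)) (tt N5541 F60081) (tt N8098 (iv F85338)) (tt N5455 F60082) (tt N5420 (iv D13673)) (tt N5818 F60083) (tt N8184 D19868) (tt N8185 D19869) (tt N8149 (iv F85632)))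
theorem Q6729 : ∀ i, i < 6729 → P i := stepQ 6728 Q6728 (allL N6728 (tt N6728 F60084) (tt N8178 (iv F85738)) (tt N5542 F60085) (tt N8099 (iv F85343)) (tt N5422 F60086) (tt N8184 (iv F85757)) (tt N8133 (iv F85528)) (tt N5420 (iv D13674)) (tt N8186 D19870) (tt N8150 (iv F85636)))
theorem Q6730 : ∀ i, i < 6730 → P i := stepQ 6729 Q6729 (allL N6729 (tt N6729 F60087) (tt N8179 (iv F85740)) (tt N5543 F60088) (tt N8187 D19871) (tt N5423 F60089) (tt N8185 (iv F85761)) (tt N5421 F60090) (tt N8186 (iv F85766)) (tt N5420 (iv D13675)) (tt N8188 D19872))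
theorem Q6731 : ∀ i, i < 6731 → P i := stepQ 6730 Q6730 (allL N6730 (tt N6730 F60091) (tt N8180 (iv F85743)) (tt N8189 D19873) (tt N5421 (iv D13676)) (tt N8025 (iv F84801)) (tt N5821 F60092) (tt N8187 (iv F85768)) (tt N8135 (iv F85535)) (tt N8101 (iv F85351)) (tt N8190 D19874))
theorem Q6732 : ∀ i, i < 6732 → P i := stepQ 6731 Q6731 (allL N6731 (tt N6731 F60093) (tt N8181 (iv F85745)) (tt N5545 F60094) (tt N8190 (iv F85777)) (tt N5424 F60095) (tt N5822 F60096) (tt N8188 (iv F85772)) (tt N8136 (iv F85540)) (tt N8153 (iv F85648)) (tt N5421 (iv D13677)))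
theorem Q6733 : ∀ i, i < 6733 → P i := stepQ 6732 Q6732 (allL N6732 (tt N6732 F60097) (tt N8182 (iv F85748)) (tt N5546 F60098) (tt N8027 (iv F84810)) (tt N8186 (iv F85765)) (tt N5460 F60099) (tt N8137 (iv F85544)) (tt N5423 F60100) (tt N5422 (iv D13678)) (tt N8191 D19875))
theorem Q6734 : ∀ i, i < 6734 → P i := stepQ 6733 Q6733 (allL N6733 (tt N6733 F60101) (tt N8183 (iv F85751)) (tt N5547 F60102) (tt N8028 (iv F84815)) (tt N8188 (iv F85771)) (tt N5461 F60103) (tt N5424 F60104) (tt N8191 (iv F85782)) (tt N8155 (iv F85659)) (tt N5423 (iv D13679)))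
theorem Q6735 : ∀ i, i < 6735 → P i := stepQ 6734 Q6734 (allL N6734 (tt N6435 (iv F202831)) (tt N5572 F60148) (tt N5427 F60149) (tt N8192 D19888) (tt N5425 (iv D13688)) (tt N5830 F60150) (tt N8193 D19889) (tt N6734 F60151) (tt N8194 D19890) (tt N5445 F60152))
theorem Q6736 : ∀ i, i < 6736 → P i := stepQ 6735 Q6735 (allL N6735 (tt N6436 (iv F202833)) (tt N5573 F60153) (tt N5428 F60154) (tt N6735 F60155) (tt N8193 (iv F85849)) (tt N8140 (iv F85596)) (tt N5425 (iv D13689)) (tt N8195 D19891) (tt N8196 D19892) (tt N5446 F60156))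
theorem Q6737 : ∀ i, i < 6737 → P i := stepQ 6736 Q6736 (allL N6736 (tt N6042 (iv F202805)) (tt N5574 F60157) (tt N5429 F60158) (tt N8197 D19893) (tt N8194 (iv F85853)) (tt N5426 F60159) (tt N8196 (iv F85863)) (tt N6736 F60160) (tt N5425 (iv D13690)) (tt N8198 D19894))
theorem Q6738 : ∀ i, i < 6738 → P i := stepQ 6737 Q6737 (allL N6737 (tt N5608 (iv F202795)) (tt N5575 F60161) (tt N6737 F60162) (tt N5426 (iv D13691)) (tt N5594 (iv F202788)) (tt N8197 (iv F85866)) (tt N8142 (iv F85603)) (tt N6737 F60163) (tt N6737 F60164) (tt N8199 D19896))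
theorem Q6739 : ∀ i, i < 6739 → P i := stepQ 6738 Q6738 (allL N6738 (tt N6043 (iv F202806)) (tt N5576 F60165) (tt N5430 F60166) (tt N8199 (iv F85881)) (tt N5833 F60167) (tt N8198 (iv F85871)) (tt N8143 (iv F85608)) (tt N6738 F60168) (tt N5449 F60169) (tt N5426 (iv D13692)))
theorem Q6740 : ∀ i, i < 6740 → P i := stepQ 6739 Q6739 (allL N6739 (tt N6500 (iv F203686)) (tt N5432 F60170) (tt N8193 (iv F85848)) (tt N6739 F60171) (tt N5428 F60172) (tt N8200 D19897) (tt N5427 (iv D13693)) (tt N8201 D19898) (tt N8202 D19899) (tt N5450 F60173))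
theorem Q6741 : ∀ i, i < 6741 → P i := stepQ 6740 Q6740 (allL N6740 (tt N6235 (iv F203669)) (tt N5433 F60174) (tt N8194 (iv F85852)) (tt N8203 D19900) (tt N5429 F60175) (tt N5835 F60176) (tt N8202 (iv F85894)) (tt N6740 F60177) (tt N5427 (iv D13694)) (tt N8204 D19901))
theorem Q6742 : ∀ i, i < 6742 → P i := stepQ 6741 Q6741 (allL N6741 (tt N6501 (iv F203688)) (tt N5434 F60178) (tt N8195 (iv F85857)) (tt N5431 F60179) (tt N8201 (iv F85889)) (tt N8146 (iv F85618)) (tt N6741 F60180) (tt N5428 (iv D13695)) (tt N8205 D19902) (tt N5452 F60181))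
theorem Q6743 : ∀ i, i < 6743 → P i := stepQ 6742 Q6742 (allL N6742 (tt N6237 (iv F203675)) (tt N5435 F60182) (tt N8196 (iv F85862)) (tt N6742 F60183) (tt N8202 (iv F85893)) (tt N8147 (iv F85622)) (tt N5429 F60184) (tt N8205 (iv F85908)) (tt N5428 (iv D13696)) (tt N8206 D19903))
theorem Q6744 : ∀ i, i < 6744 → P i := stepQ 6743 Q6743 (allL N6743 (tt N6238 (iv F203676)) (tt N5436 F60185) (tt N8198 (iv F85870)) (tt N6743 F60186) (tt N8204 (iv F85901)) (tt N5430 F60187) (tt N8206 (iv F85911)) (tt N6743 F60188) (tt N5454 F60189) (tt N5429 (iv D13697)))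
theorem Q6745 : ∀ i, i < 6745 → P i := stepQ 6744 Q6744 (allL N6744 (tt N6744 F60190) (tt N8200 (iv F85883)) (tt N5582 F60191) (tt N6744 F60192) (tt N8149 (iv F85630)) (tt N5432 (iv D13698)) (tt N5839 F60193) (tt N8207 D19904) (tt N8208 D19905) (tt N5455 F60194))
theorem Q6746 : ∀ i, i < 6746 → P i := stepQ 6745 Q6745 (allL N6745 (tt N6745 F60195) (tt N8201 (iv F85887)) (tt N5583 F60196) (tt N6745 F60197) (tt N5434 F60198) (tt N8207 (iv F85916)) (tt N6745 F60199) (tt N5432 (iv D13699)) (tt N8209 D19906) (tt N5456 F60200))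
theorem Q6747 : ∀ i, i < 6747 → P i := stepQ 6746 Q6746 (allL N6746 (tt N6746 F60201) (tt N8202 (iv F85892)) (tt N5584 F60202) (tt N8210 D19907) (tt N5435 F60203) (tt N8208 (iv F85920)) (tt N5433 F60204) (tt N8209 (iv F85926)) (tt N5432 (iv D13700)) (tt N8211 D19908))
theorem Q6748 : ∀ i, i < 6748 → P i := stepQ 6747 Q6747 (allL N6747 (tt N6747 F60205) (tt N8203 (iv F85895)) (tt N8212 D19909) (tt N5433 (iv D13701)) (tt N6747 F60206) (tt N5842 F60207) (tt N8210 (iv F85929)) (tt N6747 F60208) (tt N6747 F60209) (tt N8213 D19910))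
theorem Q6749 : ∀ i, i < 6749 → P i := stepQ 6748 Q6748 (allL N6748 (tt N6748 F60210) (tt N8204 (iv F85900)) (tt N5586 F60211) (tt N8213 (iv F85943)) (tt N5436 F60212) (tt N5843 F60213) (tt N8211 (iv F85934)) (tt N6748 F60214) (tt N5459 F60215) (tt N5433 (iv D13702)))
theorem Q6750 : ∀ i, i < 6750 → P i := stepQ 6749 Q6749 (allL N6749 (tt N6749 F60216) (tt N8205 (iv F85905)) (tt N5587 F60217) (tt N6749 F60218) (tt N8209 (iv F85924)) (tt N8154 (iv F85652)) (tt N6749 F60219) (tt N5435 F60220) (tt N5434 (iv D13703)) (tt N8214 D19911))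
theorem Q6751 : ∀ i, i < 6751 → P i := stepQ 6750 Q6750 (allL N6750 (tt N6750 F60221) (tt N8206 (iv F85909)) (tt N5588 F60222) (tt N6750 F60223) (tt N8211 (iv F85933)) (tt N8155 (iv F85657)) (tt N5436 F60224) (tt N8214 (iv F85951)) (tt N5461 F60225) (tt N5435 (iv D13704)))
theorem Q6752 : ∀ i, i < 6752 → P i := stepQ 6751 Q6751 (allL N6751 (tt N5589 F60226) (tt N5438 F60227) (tt N6751 F60228) (tt N6751 F60229) (tt N8215 D19912) (tt N5437 (iv D13705)) (tt N8216 D19913) (tt N6751 F60230) (tt N8217 D19914) (tt N6373 F202366))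
theorem Q6753 : ∀ i, i < 6753 → P i := stepQ 6752 Q6752 (allL N6752 (tt N5590 F60231) (tt N5439 F60232) (tt N6752 F60233) (tt N8218 D19915) (tt N5847 F60234) (tt N8217 (iv F85965)) (tt N8157 (iv F85668)) (tt N6752 F60235) (tt N5437 (iv D13706)) (tt N8219 D19916))
theorem Q6754 : ∀ i, i < 6754 → P i := stepQ 6753 Q6753 (allL N6753 (tt N5445 F60236) (tt N8215 (iv F85954)) (tt N5440 F60237) (tt N8220 D19917) (tt N5438 (iv D13707)) (tt N5848 F60238) (tt N8221 D19918) (tt N6753 F60239) (tt N8222 D19919) (tt N6435 (iv F202832)))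
theorem Q6755 : ∀ i, i < 6755 → P i := stepQ 6754 Q6754 (allL N6754 (tt N5446 F60240) (tt N8216 (iv F85959)) (tt N5441 F60241) (tt N6754 F60242) (tt N8221 (iv F85983)) (tt N8159 (iv F85675)) (tt N5438 (iv D13708)) (tt N8223 D19920) (tt N8224 D19921) (tt N6436 (iv F202834)))
theorem Q6756 : ∀ i, i < 6756 → P i := stepQ 6755 Q6755 (allL N6755 (tt N5447 F60243) (tt N8217 (iv F85963)) (tt N5442 F60244) (tt N8225 D19922) (tt N8222 (iv F85986)) (tt N5439 F60245) (tt N8224 (iv F85995)) (tt N6755 F60246) (tt N5438 (iv D13709)) (tt N8226 D19923))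
theorem Q6757 : ∀ i, i < 6757 → P i := stepQ 6756 Q6756 (allL N6756 (tt N5448 F60247) (tt N8218 (iv F85968)) (tt N8031 (iv F84844)) (tt N5439 (iv D13710)) (tt N8227 D19924) (tt N8225 (iv F85997)) (tt N8161 (iv F85680)) (tt N6756 F60248) (tt N6756 F60249) (tt N8228 D19925))
theorem Q6758 : ∀ i, i < 6758 → P i := stepQ 6757 Q6757 (allL N6757 (tt N5449 F60250) (tt N8219 (iv F85972)) (tt N5443 F60251) (tt N8228 (iv F86009)) (tt N5852 F60252) (tt N8226 (iv F86002)) (tt N8162 (iv F85685)) (tt N6757 F60253) (tt N6043 (iv F202807)) (tt N5439 (iv D13711)))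
theorem Q6759 : ∀ i, i < 6759 → P i := stepQ 6758 Q6758 (allL N6758 (tt N5450 F60254) (tt N6758 F60255) (tt N8221 (iv F85982)) (tt N6758 F60256) (tt N5441 F60257) (tt N8229 D19926) (tt N5440 (iv D13712)) (tt N8230 D19927) (tt N8231 D19928) (tt N6500 (iv F203687)))
theorem Q6760 : ∀ i, i < 6760 → P i := stepQ 6759 Q6759 (allL N6759 (tt N5451 F60258) (tt N6759 F60259) (tt N8222 (iv F85985)) (tt N8232 D19929) (tt N5442 F60260) (tt N5854 F60261) (tt N8231 (iv F86023)) (tt N6759 F60262) (tt N5440 (iv D13713)) (tt N8233 D19930))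
theorem Q6761 : ∀ i, i < 6761 → P i := stepQ 6760 Q6760 (allL N6760 (tt N5452 F60263) (tt N6760 F60264) (tt N8223 (iv F85990)) (tt N5444 F60265) (tt N8230 (iv F86018)) (tt N8165 (iv F85696)) (tt N6760 F60266) (tt N5441 (iv D13714)) (tt N8234 D19931) (tt N6501 (iv F203689)))
theorem Q6762 : ∀ i, i < 6762 → P i := stepQ 6761 Q6761 (allL N6761 (tt N5453 F60267) (tt N6761 F60268) (tt N8224 (iv F85994)) (tt N8034 (iv F84869)) (tt N8231 (iv F86022)) (tt N8166 (iv F85699)) (tt N5442 F60269) (tt N8234 (iv F86037)) (tt N5441 (iv D13715)) (tt N8235 D19932))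
theorem Q6763 : ∀ i, i < 6763 → P i := stepQ 6762 Q6762 (allL N6762 (tt N5454 F60270) (tt N6762 F60271) (tt N8226 (iv F86001)) (tt N8035 (iv F84873)) (tt N8233 (iv F86031)) (tt N5443 F60272) (tt N8235 (iv F86040)) (tt N6762 F60273) (tt N6238 (iv F203677)) (tt N5442 (iv D13716)))
theorem Q6764 : ∀ i, i < 6764 → P i := stepQ 6763 Q6763 (allL N6763 (tt N8220 (iv F85976)) (tt N5601 F60274) (tt N6763 F60275) (tt N5445 (iv D13717)) (tt N6763 F60276) (tt N5858 F60277) (tt N8236 D19933) (tt N6763 F60278) (tt N8237 D19934) (tt N8192 (iv F85846)))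
theorem Q6765 : ∀ i, i < 6765 → P i := stepQ 6764 Q6764 (allL N6764 (tt N8221 (iv F85981)) (tt N5602 F60279) (tt N5450 F60280) (tt N8236 (iv F86043)) (tt N5446 F60281) (tt N8238 D19935) (tt N5445 (iv D13718)) (tt N8239 D19936) (tt N8240 D19937) (tt N8193 (iv F85850)))
theorem Q6766 : ∀ i, i < 6766 → P i := stepQ 6765 Q6765 (allL N6765 (tt N8222 (iv F85984)) (tt N5603 F60282) (tt N5451 F60283) (tt N8241 D19938) (tt N5447 F60284) (tt N5860 F60285) (tt N8240 (iv F86060)) (tt N6765 F60286) (tt N5445 (iv D13719)) (tt N8242 D19939))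
theorem Q6767 : ∀ i, i < 6767 → P i := stepQ 6766 Q6766 (allL N6766 (tt N8223 (iv F85989)) (tt N5604 F60287) (tt N5452 F60288) (tt N6766 F60289) (tt N8239 (iv F86055)) (tt N8171 (iv F85717)) (tt N6766 F60290) (tt N5446 (iv D13720)) (tt N8243 D19940) (tt N8195 (iv F85860)))
theorem Q6768 : ∀ i, i < 6768 → P i := stepQ 6767 Q6767 (allL N6767 (tt N8224 (iv F85993)) (tt N5605 F60291) (tt N5453 F60292) (tt N8244 D19941) (tt N8240 (iv F86059)) (tt N8172 (iv F85720)) (tt N5447 F60293) (tt N8243 (iv F86072)) (tt N5446 (iv D13721)) (tt N8245 D19942))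
theorem Q6769 : ∀ i, i < 6769 → P i := stepQ 6768 Q6768 (allL N6768 (tt N8225 (iv F85996)) (tt N5606 F60294) (tt N8038 (iv F84901)) (tt N5447 (iv D13722)) (tt N8246 D19943) (tt N5448 F60295) (tt N8244 (iv F86074)) (tt N6768 F60296) (tt N6768 F60297) (tt N8247 D19944))
theorem Q6770 : ∀ i, i < 6770 → P i := stepQ 6769 Q6769 (allL N6769 (tt N8226 (iv F86000)) (tt N5607 F60298) (tt N5454 F60299) (tt N8247 (iv F86083)) (tt N8242 (iv F86066)) (tt N5449 F60300) (tt N8245 (iv F86078)) (tt N6769 F60301) (tt N8198 (iv F85873)) (tt N5447 (iv D13723)))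
theorem Q6771 : ∀ i, i < 6771 → P i := stepQ 6770 Q6770 (allL N6770 (tt N8227 (iv F86004)) (tt N5608 F60302) (tt N8040 (iv F84911)) (tt N5865 F60303) (tt N5448 (iv D13724)) (tt N8248 D19945) (tt N8175 (iv F85730)) (tt N6770 F60304) (tt N6770 F60305) (tt N8249 D19946))
theorem Q6772 : ∀ i, i < 6772 → P i := stepQ 6771 Q6771 (allL N6771 (tt N8228 (iv F86008)) (tt N5609 F60306) (tt N8041 (iv F84916)) (tt N5449 F60307) (tt N8249 (iv F86092)) (tt N8247 (iv F86084)) (tt N8176 (iv F85734)) (tt N6771 F60308) (tt N8250 D19947) (tt N5448 (iv D13725)))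
theorem Q6773 : ∀ i, i < 6773 → P i := stepQ 6772 Q6772 (allL N6772 (tt N8229 (iv F86011)) (tt N5455 F60309) (tt N8238 (iv F86051)) (tt N6772 F60310) (tt N8177 (iv F85736)) (tt N5450 (iv D13726)) (tt N5867 F60311) (tt N8251 D19948) (tt N8252 D19949) (tt N8200 (iv F85886)))
theorem Q6774 : ∀ i, i < 6774 → P i := stepQ 6773 Q6773 (allL N6773 (tt N8230 (iv F86015)) (tt N5456 F60312) (tt N8239 (iv F86054)) (tt N6773 F60313) (tt N5452 F60314) (tt N8251 (iv F86099)) (tt N6773 F60315) (tt N5450 (iv D13727)) (tt N8253 D19950) (tt N8201 (iv F85891)))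
theorem Q6775 : ∀ i, i < 6775 → P i := stepQ 6774 Q6774 (allL N6774 (tt N8231 (iv F86020)) (tt N5457 F60316) (tt N8240 (iv F86058)) (tt N8254 D19951) (tt N5453 F60317) (tt N8252 (iv F86101)) (tt N5451 F60318) (tt N8253 (iv F86106)) (tt N5450 (iv D13728)) (tt N8255 D19952))
theorem Q6776 : ∀ i, i < 6776 → P i := stepQ 6775 Q6775 (allL N6775 (tt N8232 (iv F86024)) (tt N5458 F60319) (tt N8256 D19953) (tt N5451 (iv D13729)) (tt N8043 (iv F84932)) (tt N5870 F60320) (tt N8254 (iv F86108)) (tt N6775 F60321) (tt N6775 F60322) (tt N8257 D19954))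
theorem Q6777 : ∀ i, i < 6777 → P i := stepQ 6776 Q6776 (allL N6776 (tt N8233 (iv F86029)) (tt N5459 F60323) (tt N8242 (iv F86065)) (tt N8257 (iv F86117)) (tt N5454 F60324) (tt N5871 F60325) (tt N8255 (iv F86112)) (tt N6776 F60326) (tt N8204 (iv F85904)) (tt N5451 (iv D13730)))
theorem Q6778 : ∀ i, i < 6778 → P i := stepQ 6777 Q6777 (allL N6777 (tt N8234 (iv F86034)) (tt N5460 F60327) (tt N8243 (iv F86070)) (tt N8045 (iv F84942)) (tt N8253 (iv F86104)) (tt N8182 (iv F85749)) (tt N6777 F60328) (tt N5453 F60329) (tt N5452 (iv D13731)) (tt N8258 D19955))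
theorem Q6779 : ∀ i, i < 6779 → P i := stepQ 6778 Q6778 (allL N6778 (tt N8235 (iv F86038)) (tt N5461 F60330) (tt N8245 (iv F86077)) (tt N8046 (iv F84946)) (tt N8255 (iv F86111)) (tt N8183 (iv F85752)) (tt N5454 F60331) (tt N8258 (iv F86122)) (tt N8206 (iv F85912)) (tt N5453 (iv D13732)))
theorem Q6780 : ∀ i, i < 6780 → P i := stepQ 6779 Q6779 (allL N6779 (tt N6779 F60332) (tt N8251 (iv F86097)) (tt N5617 F60333) (tt N6779 F60334) (tt N8184 (iv F85756)) (tt N5456 F60335) (tt N8259 D19956) (tt N5455 (iv D13733)) (tt N8260 D19957) (tt N8207 (iv F85917)))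
theorem Q6781 : ∀ i, i < 6781 → P i := stepQ 6780 Q6780 (allL N6780 (tt N6780 F60336) (tt N8252 (iv F86100)) (tt N5618 F60337) (tt N8261 D19958) (tt N8185 (iv F85760)) (tt N5457 F60338) (tt N5875 F60339) (tt N8260 (iv F86131)) (tt N5455 (iv D13734)) (tt N8262 D19959))
theorem Q6782 : ∀ i, i < 6782 → P i := stepQ 6781 Q6781 (allL N6781 (tt N6781 F60340) (tt N8253 (iv F86103)) (tt N5619 F60341) (tt N8263 D19960) (tt N5460 F60342) (tt N8260 (iv F86130)) (tt N6781 F60343) (tt N5457 F60344) (tt N5456 (iv D13735)) (tt N8264 D19961))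
theorem Q6783 : ∀ i, i < 6783 → P i := stepQ 6782 Q6782 (allL N6782 (tt N6782 F60345) (tt N8254 (iv F86107)) (tt N8265 D19962) (tt N5457 (iv D13736)) (tt N8049 (iv F84964)) (tt N8261 (iv F86133)) (tt N5458 F60346) (tt N8263 (iv F86142)) (tt N6782 F60347) (tt N8266 D19963))
theorem Q6784 : ∀ i, i < 6784 → P i := stepQ 6783 Q6783 (allL N6783 (tt N6783 F60348) (tt N8255 (iv F86110)) (tt N5621 F60349) (tt N8266 (iv F86154)) (tt N5461 F60350) (tt N8262 (iv F86138)) (tt N5459 F60351) (tt N8264 (iv F86148)) (tt N8211 (iv F85935)) (tt N5457 (iv D13737)))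
theorem Q6785 : ∀ i, i < 6785 → P i := stepQ 6784 Q6784 (allL N6784 (tt N6784 F60352) (tt N8267 D19964) (tt N5458 (iv D13738)) (tt N5622 F60353) (tt N8051 (iv F84974)) (tt N5879 F60354) (tt N8265 (iv F86151)) (tt N6784 F60355) (tt N6784 F60356) (tt N8268 D19965))
theorem Q6786 : ∀ i, i < 6786 → P i := stepQ 6785 Q6785 (allL N6785 (tt N6785 F60357) (tt N8257 (iv F86116)) (tt N8268 (iv F86161)) (tt N5459 F60358) (tt N8052 (iv F84980)) (tt N5880 F60359) (tt N8266 (iv F86155)) (tt N6785 F60360) (tt N8269 D19966) (tt N5458 (iv D13739)))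
theorem Q6787 : ∀ i, i < 6787 → P i := stepQ 6786 Q6786 (allL N6786 (tt N6786 F60361) (tt N8258 (iv F86120)) (tt N5624 F60362) (tt N8053 (iv F84985)) (tt N8264 (iv F86146)) (tt N8191 (iv F85781)) (tt N6786 F60363) (tt N5461 F60364) (tt N8214 (iv F85952)) (tt N5460 (iv D13740)))
theorem Q6788 : ∀ i, i < 6788 → P i := stepQ 6787 Q6787 (allL N6787 (tt N5463 F60365) (tt N6787 F60366) (tt N8270 D19967) (tt N5462 (iv D13741)) (tt N6787 F60367) (tt N8271 D19968) (tt N6787 F60368) (tt N5496 F60369) (tt N8272 D19969) (tt N6787 F60370))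
theorem Q6789 : ∀ i, i < 6789 → P i := stepQ 6788 Q6788 (allL N6788 (tt N5464 F60371) (tt N6788 F60372) (tt N6788 F60373) (tt N8271 (iv F86177)) (tt N6788 F60374) (tt N5462 (iv D13742)) (tt N8273 D19970) (tt N5497 F60375) (tt N5470 F60376) (tt N6788 F60377))
theorem Q6790 : ∀ i, i < 6790 → P i := stepQ 6789 Q6789 (allL N6789 (tt N8270 (iv F86169)) (tt N6789 F60378) (tt N5463 (iv D13743)) (tt N6789 F60379) (tt N6789 F60380) (tt N8274 D19971) (tt N6789 F60381) (tt N5498 F60382) (tt N8275 D19972) (tt N6789 F60383))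
theorem Q6791 : ∀ i, i < 6791 → P i := stepQ 6790 Q6790 (allL N6790 (tt N8271 (iv F86175)) (tt N5465 F60384) (tt N8274 (iv F86194)) (tt N5464 F60385) (tt N8276 D19973) (tt N5463 (iv D13744)) (tt N8277 D19974) (tt N5499 F60386) (tt N8278 D19975) (tt N6790 F60387))
theorem Q6792 : ∀ i, i < 6792 → P i := stepQ 6791 Q6791 (allL N6791 (tt N8272 (iv F86180)) (tt N5466 F60388) (tt N8275 (iv F86199)) (tt N5473 F60389) (tt N6791 F60390) (tt N8278 (iv F86214)) (tt N6791 F60391) (tt N5500 F60392) (tt N5463 (iv D13745)) (tt N8279 D19976))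
theorem Q6793 : ∀ i, i < 6793 → P i := stepQ 6792 Q6792 (allL N6792 (tt N8273 (iv F86186)) (tt N5467 F60393) (tt N6792 F60394) (tt N8277 (iv F86209)) (tt N6792 F60395) (tt N6792 F60396) (tt N5464 (iv D13746)) (tt N8280 D19977) (tt N5474 F60397) (tt N6792 F60398))
theorem Q6794 : ∀ i, i < 6794 → P i := stepQ 6793 Q6793 (allL N6793 (tt N6793 F60399) (tt N8276 (iv F86203)) (tt N6793 F60400) (tt N6793 F60401) (tt N5465 (iv D13747)) (tt N6793 F60402) (tt N8281 D19978) (tt N5502 F60403) (tt N8282 D19979) (tt N6793 F60404))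
theorem Q6795 : ∀ i, i < 6795 → P i := stepQ 6794 Q6794 (allL N6794 (tt N6794 F60405) (tt N8277 (iv F86208)) (tt N6794 F60406) (tt N5467 F60407) (tt N8281 (iv F86232)) (tt N6794 F60408) (tt N5465 (iv D13748)) (tt N8283 D19980) (tt N8284 D19981) (tt N6794 F60409))
theorem Q6796 : ∀ i, i < 6796 → P i := stepQ 6795 Q6795 (allL N6795 (tt N6795 F60410) (tt N8278 (iv F86212)) (tt N6795 F60411) (tt N5477 F60412) (tt N8282 (iv F86236)) (tt N5466 F60413) (tt N8284 (iv F86249)) (tt N5504 F60414) (tt N5465 (iv D13749)) (tt N8285 D19982))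
theorem Q6797 : ∀ i, i < 6797 → P i := stepQ 6796 Q6796 (allL N6796 (tt N6796 F60415) (tt N8279 (iv F86216)) (tt N6796 F60416) (tt N5478 F60417) (tt N6796 F60418) (tt N8285 (iv F86253)) (tt N6796 F60419) (tt N5505 F60420) (tt N6796 F60421) (tt N5466 (iv D13750)))
theorem Q6798 : ∀ i, i < 6798 → P i := stepQ 6797 Q6797 (allL N6797 (tt N6797 F60422) (tt N8280 (iv F86222)) (tt N5468 F60423) (tt N8283 (iv F86241)) (tt N6797 F60424) (tt N6797 F60425) (tt N5506 F60426) (tt N5467 (iv D13751)) (tt N5479 F60427) (tt N6797 F60428))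
theorem Q6799 : ∀ i, i < 6799 → P i := stepQ 6798 Q6798 (allL N6798 (tt N5471 F60429) (tt N8286 D19983) (tt N5469 (iv D13752)) (tt N6798 F60430) (tt N5882 F60431) (tt N8287 D19984) (tt N6798 F60432) (tt N5507 F60433) (tt N8288 D19985) (tt N5480 F60434))
theorem Q6800 : ∀ i, i < 6800 → P i := stepQ 6799 Q6799 (allL N6799 (tt N5472 F60435) (tt N6799 F60436) (tt N8287 (iv F86263)) (tt N5470 F60437) (tt N8289 D19986) (tt N5469 (iv D13753)) (tt N8290 D19987) (tt N5508 F60438) (tt N8291 D19988) (tt N5481 F60439))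
theorem Q6801 : ∀ i, i < 6801 → P i := stepQ 6800 Q6800 (allL N6800 (tt N5473 F60440) (tt N6800 F60441) (tt N8288 (iv F86268)) (tt N8272 (iv F86182)) (tt N5884 F60442) (tt N8291 (iv F86285)) (tt N6800 F60443) (tt N5509 F60444) (tt N5469 (iv D13754)) (tt N8292 D19989))
theorem Q6802 : ∀ i, i < 6802 → P i := stepQ 6801 Q6801 (allL N6801 (tt N5474 F60445) (tt N6801 F60446) (tt N6801 F60447) (tt N8290 (iv F86280)) (tt N6801 F60448) (tt N6801 F60449) (tt N5470 (iv D13755)) (tt N8293 D19990) (tt N8273 (iv F86191)) (tt N5483 F60450))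
theorem Q6803 : ∀ i, i < 6803 → P i := stepQ 6802 Q6802 (allL N6802 (tt N8287 (iv F86262)) (tt N8103 (iv F85387)) (tt N5472 F60451) (tt N6802 F60452) (tt N8294 D19991) (tt N5471 (iv D13756)) (tt N8295 D19992) (tt N5511 F60453) (tt N8296 D19993) (tt N5484 F60454))
theorem Q6804 : ∀ i, i < 6804 → P i := stepQ 6803 Q6803 (allL N6803 (tt N8288 (iv F86267)) (tt N8104 (iv F85392)) (tt N5473 F60455) (tt N8297 D19994) (tt N5887 F60456) (tt N8296 (iv F86309)) (tt N6803 F60457) (tt N5512 F60458) (tt N5471 (iv D13757)) (tt N8298 D19995))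
theorem Q6805 : ∀ i, i < 6805 → P i := stepQ 6804 Q6804 (allL N6804 (tt N8289 (iv F86272)) (tt N5475 F60459) (tt N8294 (iv F86300)) (tt N6804 F60460) (tt N5472 (iv D13758)) (tt N5888 F60461) (tt N8299 D19996) (tt N5513 F60462) (tt N8300 D19997) (tt N5486 F60463))
theorem Q6806 : ∀ i, i < 6806 → P i := stepQ 6805 Q6805 (allL N6805 (tt N8290 (iv F86278)) (tt N5476 F60464) (tt N8295 (iv F86304)) (tt N5474 F60465) (tt N8299 (iv F86321)) (tt N6805 F60466) (tt N5472 (iv D13759)) (tt N8301 D19998) (tt N8302 D19999) (tt N5487 F60467))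
theorem Q6807 : ∀ i, i < 6807 → P i := stepQ 6806 Q6806 (allL N6806 (tt N8291 (iv F86283)) (tt N5477 F60468) (tt N8296 (iv F86308)) (tt N8278 (iv F86213)) (tt N8300 (iv F86324)) (tt N5473 F60469) (tt N8302 (iv F86334)) (tt N5515 F60470) (tt N5472 (iv D13760)) (tt N8303 D20000))
theorem Q6808 : ∀ i, i < 6808 → P i := stepQ 6807 Q6807 (allL N6807 (tt N8292 (iv F86287)) (tt N5478 F60471) (tt N8298 (iv F86314)) (tt N8279 (iv F86217)) (tt N5891 F60472) (tt N8303 (iv F86336)) (tt N6807 F60473) (tt N5516 F60474) (tt N5489 F60475) (tt N5473 (iv D13761)))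
theorem Q6809 : ∀ i, i < 6809 → P i := stepQ 6808 Q6808 (allL N6808 (tt N8293 (iv F86293)) (tt N5479 F60476) (tt N6808 F60477) (tt N8301 (iv F86328)) (tt N6808 F60478) (tt N6808 F60479) (tt N5517 F60480) (tt N5474 (iv D13762)) (tt N8280 (iv F86227)) (tt N5490 F60481))
theorem Q6810 : ∀ i, i < 6810 → P i := stepQ 6809 Q6809 (allL N6809 (tt N6809 F60482) (tt N8299 (iv F86319)) (tt N8110 (iv F85422)) (tt N6809 F60483) (tt N5476 F60484) (tt N8304 D20001) (tt N5475 (iv D13763)) (tt N8305 D20002) (tt N8306 D20003) (tt N5491 F60485))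
theorem Q6811 : ∀ i, i < 6811 → P i := stepQ 6810 Q6810 (allL N6810 (tt N6810 F60486) (tt N8300 (iv F86323)) (tt N8111 (iv F85426)) (tt N8307 D20004) (tt N5477 F60487) (tt N5894 F60488) (tt N8306 (iv F86351)) (tt N5519 F60489) (tt N5475 (iv D13764)) (tt N8308 D20005))
theorem Q6812 : ∀ i, i < 6812 → P i := stepQ 6811 Q6811 (allL N6811 (tt N6811 F60490) (tt N8301 (iv F86327)) (tt N8112 (iv F85431)) (tt N5479 F60491) (tt N8305 (iv F86346)) (tt N6811 F60492) (tt N5520 F60493) (tt N5476 (iv D13765)) (tt N8309 D20006) (tt N5493 F60494))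
theorem Q6813 : ∀ i, i < 6813 → P i := stepQ 6812 Q6812 (allL N6812 (tt N6812 F60495) (tt N8302 (iv F86332)) (tt N8113 (iv F85437)) (tt N8284 (iv F86247)) (tt N8306 (iv F86350)) (tt N6812 F60496) (tt N5477 F60497) (tt N8309 (iv F86364)) (tt N5476 (iv D13766)) (tt N8310 D20007))
theorem Q6814 : ∀ i, i < 6814 → P i := stepQ 6813 Q6813 (allL N6813 (tt N6813 F60498) (tt N8303 (iv F86335)) (tt N8114 (iv F85442)) (tt N8285 (iv F86252)) (tt N8308 (iv F86357)) (tt N5478 F60499) (tt N8310 (iv F86367)) (tt N5522 F60500) (tt N5495 F60501) (tt N5477 (iv D13767)))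
theorem Q6815 : ∀ i, i < 6815 → P i := stepQ 6814 Q6814 (allL N6814 (tt N8115 (iv F85447)) (tt N5480 (iv D13768)) (tt N6814 F60502) (tt N6814 F60503) (tt N5898 F60504) (tt N8311 D20008) (tt N6814 F60505) (tt N5523 F60506) (tt N8312 D20009) (tt N8286 (iv F86261)))
theorem Q6816 : ∀ i, i < 6816 → P i := stepQ 6815 Q6815 (allL N6815 (tt N5484 F60507) (tt N8311 (iv F86369)) (tt N5481 F60508) (tt N6815 F60509) (tt N8313 D20010) (tt N5480 (iv D13769)) (tt N8314 D20011) (tt N5524 F60510) (tt N8315 D20012) (tt N8287 (iv F86266)))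
theorem Q6817 : ∀ i, i < 6817 → P i := stepQ 6816 Q6816 (allL N6816 (tt N5485 F60511) (tt N8312 (iv F86373)) (tt N5482 F60512) (tt N8316 D20013) (tt N5900 F60513) (tt N8315 (iv F86388)) (tt N6816 F60514) (tt N5525 F60515) (tt N5480 (iv D13770)) (tt N8317 D20014))
theorem Q6818 : ∀ i, i < 6818 → P i := stepQ 6817 Q6817 (allL N6817 (tt N5486 F60516) (tt N6817 F60517) (tt N8313 (iv F86379)) (tt N6817 F60518) (tt N5481 (iv D13771)) (tt N5901 F60519) (tt N8318 D20015) (tt N5526 F60520) (tt N8319 D20016) (tt N8289 (iv F86277)))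
theorem Q6819 : ∀ i, i < 6819 → P i := stepQ 6818 Q6818 (allL N6818 (tt N5487 F60521) (tt N6818 F60522) (tt N8314 (iv F86383)) (tt N5483 F60523) (tt N8318 (iv F86403)) (tt N6818 F60524) (tt N5481 (iv D13772)) (tt N8320 D20017) (tt N8321 D20018) (tt N8290 (iv F86282)))
theorem Q6820 : ∀ i, i < 6820 → P i := stepQ 6819 Q6819 (allL N6819 (tt N5488 F60525) (tt N6819 F60526) (tt N8315 (iv F86387)) (tt N6819 F60527) (tt N8319 (iv F86406)) (tt N5482 F60528) (tt N8321 (iv F86418)) (tt N5528 F60529) (tt N5481 (iv D13773)) (tt N8322 D20019))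
theorem Q6821 : ∀ i, i < 6821 → P i := stepQ 6820 Q6820 (allL N6820 (tt N5489 F60530) (tt N6820 F60531) (tt N8317 (iv F86396)) (tt N6820 F60532) (tt N5904 F60533) (tt N8322 (iv F86422)) (tt N6820 F60534) (tt N5529 F60535) (tt N8292 (iv F86292)) (tt N5482 (iv D13774)))
theorem Q6822 : ∀ i, i < 6822 → P i := stepQ 6821 Q6821 (allL N6821 (tt N5490 F60536) (tt N6821 F60537) (tt N6821 F60538) (tt N8320 (iv F86411)) (tt N6821 F60539) (tt N6821 F60540) (tt N5530 F60541) (tt N5483 (iv D13775)) (tt N6821 F60542) (tt N8293 (iv F86299)))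
theorem Q6823 : ∀ i, i < 6823 → P i := stepQ 6822 Q6822 (allL N6822 (tt N8313 (iv F86378)) (tt N8122 (iv F85484)) (tt N5486 F60543) (tt N8323 D20020) (tt N5484 (iv D13776)) (tt N5906 F60544) (tt N8324 D20021) (tt N5531 F60545) (tt N8325 D20022) (tt N8294 (iv F86303)))
theorem Q6824 : ∀ i, i < 6824 → P i := stepQ 6823 Q6823 (allL N6823 (tt N8314 (iv F86382)) (tt N8123 (iv F85488)) (tt N5487 F60546) (tt N6823 F60547) (tt N8324 (iv F86429)) (tt N6823 F60548) (tt N5484 (iv D13777)) (tt N8326 D20023) (tt N8327 D20024) (tt N8295 (iv F86307)))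
theorem Q6825 : ∀ i, i < 6825 → P i := stepQ 6824 Q6824 (allL N6824 (tt N8315 (iv F86386)) (tt N8124 (iv F85492)) (tt N5488 F60549) (tt N8328 D20025) (tt N8325 (iv F86431)) (tt N5485 F60550) (tt N8327 (iv F86440)) (tt N5533 F60551) (tt N5484 (iv D13778)) (tt N8329 D20026))
theorem Q6826 : ∀ i, i < 6826 → P i := stepQ 6825 Q6825 (allL N6825 (tt N8316 (iv F86390)) (tt N8125 (iv F85496)) (tt N6825 F60552) (tt N5485 (iv D13779)) (tt N8330 D20027) (tt N8328 (iv F86442)) (tt N6825 F60553) (tt N5534 F60554) (tt N6825 F60555) (tt N8331 D20028))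
theorem Q6827 : ∀ i, i < 6827 → P i := stepQ 6826 Q6826 (allL N6826 (tt N8317 (iv F86395)) (tt N8126 (iv F85500)) (tt N5489 F60556) (tt N8331 (iv F86454)) (tt N5910 F60557) (tt N8329 (iv F86446)) (tt N6826 F60558) (tt N5535 F60559) (tt N8298 (iv F86318)) (tt N5485 (iv D13780)))
theorem Q6828 : ∀ i, i < 6828 → P i := stepQ 6827 Q6827 (allL N6827 (tt N8318 (iv F86400)) (tt N5491 F60560) (tt N8324 (iv F86428)) (tt N6827 F60561) (tt N5487 F60562) (tt N8332 D20029) (tt N5486 (iv D13781)) (tt N8333 D20030) (tt N8334 D20031) (tt N8299 (iv F86322)))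
theorem Q6829 : ∀ i, i < 6829 → P i := stepQ 6828 Q6828 (allL N6828 (tt N8319 (iv F86404)) (tt N5492 F60563) (tt N8325 (iv F86430)) (tt N8335 D20032) (tt N5488 F60564) (tt N5912 F60565) (tt N8334 (iv F86467)) (tt N5537 F60566) (tt N5486 (iv D13782)) (tt N8336 D20033))
theorem Q6830 : ∀ i, i < 6830 → P i := stepQ 6829 Q6829 (allL N6829 (tt N8320 (iv F86409)) (tt N5493 F60567) (tt N8326 (iv F86434)) (tt N5490 F60568) (tt N8333 (iv F86463)) (tt N6829 F60569) (tt N5538 F60570) (tt N5487 (iv D13783)) (tt N8337 D20034) (tt N8301 (iv F86331)))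
theorem Q6831 : ∀ i, i < 6831 → P i := stepQ 6830 Q6830 (allL N6830 (tt N8321 (iv F86414)) (tt N5494 F60571) (tt N8327 (iv F86438)) (tt N6830 F60572) (tt N8334 (iv F86466)) (tt N6830 F60573) (tt N5488 F60574) (tt N8337 (iv F86481)) (tt N5487 (iv D13784)) (tt N8338 D20035))
theorem Q6832 : ∀ i, i < 6832 → P i := stepQ 6831 Q6831 (allL N6831 (tt N8322 (iv F86419)) (tt N5495 F60575) (tt N8329 (iv F86445)) (tt N6831 F60576) (tt N8336 (iv F86474)) (tt N5489 F60577) (tt N8338 (iv F86485)) (tt N5540 F60578) (tt N8303 (iv F86338)) (tt N5488 (iv D13785)))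
theorem Q6833 : ∀ i, i < 6833 → P i := stepQ 6832 Q6832 (allL N6832 (tt N6832 F60579) (tt N8332 (iv F86457)) (tt N8132 (iv F85522)) (tt N6832 F60580) (tt N6832 F60581) (tt N5491 (iv D13786)) (tt N5916 F60582) (tt N8339 D20036) (tt N8340 D20037) (tt N8304 (iv F86343)))
theorem Q6834 : ∀ i, i < 6834 → P i := stepQ 6833 Q6833 (allL N6833 (tt N6833 F60583) (tt N8333 (iv F86461)) (tt N8133 (iv F85526)) (tt N6833 F60584) (tt N5493 F60585) (tt N8339 (iv F86489)) (tt N5542 F60586) (tt N5491 (iv D13787)) (tt N8341 D20038) (tt N8305 (iv F86348)))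
theorem Q6835 : ∀ i, i < 6835 → P i := stepQ 6834 Q6834 (allL N6834 (tt N6834 F60587) (tt N8334 (iv F86465)) (tt N8134 (iv F85530)) (tt N8342 D20039) (tt N5494 F60588) (tt N8340 (iv F86492)) (tt N5492 F60589) (tt N8341 (iv F86497)) (tt N5491 (iv D13788)) (tt N8343 D20040))
theorem Q6836 : ∀ i, i < 6836 → P i := stepQ 6835 Q6835 (allL N6835 (tt N6835 F60590) (tt N8335 (iv F86468)) (tt N8344 D20041) (tt N5492 (iv D13789)) (tt N6835 F60591) (tt N5919 F60592) (tt N8342 (iv F86500)) (tt N5544 F60593) (tt N6835 F60594) (tt N8345 D20042))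
theorem Q6837 : ∀ i, i < 6837 → P i := stepQ 6836 Q6836 (allL N6836 (tt N6836 F60595) (tt N8336 (iv F86473)) (tt N8136 (iv F85537)) (tt N8345 (iv F86511)) (tt N5495 F60596) (tt N5920 F60597) (tt N8343 (iv F86504)) (tt N5545 F60598) (tt N8308 (iv F86360)) (tt N5492 (iv D13790)))
theorem Q6838 : ∀ i, i < 6838 → P i := stepQ 6837 Q6837 (allL N6837 (tt N6837 F60599) (tt N8337 (iv F86477)) (tt N8137 (iv F85542)) (tt N6837 F60600) (tt N8341 (iv F86495)) (tt N6837 F60601) (tt N5546 F60602) (tt N5494 F60603) (tt N5493 (iv D13791)) (tt N8346 D20043))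
theorem Q6839 : ∀ i, i < 6839 → P i := stepQ 6838 Q6838 (allL N6838 (tt N6838 F60604) (tt N8338 (iv F86482)) (tt N8138 (iv F85547)) (tt N6838 F60605) (tt N8343 (iv F86503)) (tt N6838 F60606) (tt N5495 F60607) (tt N8346 (iv F86519)) (tt N8310 (iv F86368)) (tt N5494 (iv D13792)))
theorem Q6840 : ∀ i, i < 6840 → P i := stepQ 6839 Q6839 (allL N6839 (tt N5498 F60608) (tt N8347 D20044) (tt N5496 (iv D13793)) (tt N6839 F60609) (tt N6839 F60610) (tt N8348 D20045) (tt N5548 F60611) (tt N8270 (iv F86173)) (tt N8349 D20046) (tt N6839 F60612))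
theorem Q6841 : ∀ i, i < 6841 → P i := stepQ 6840 Q6840 (allL N6840 (tt N5499 F60613) (tt N6840 F60614) (tt N8348 (iv F86527)) (tt N5497 F60615) (tt N8350 D20047) (tt N5496 (iv D13794)) (tt N8351 D20048) (tt N8271 (iv F86178)) (tt N8352 D20049) (tt N6840 F60616))
theorem Q6842 : ∀ i, i < 6842 → P i := stepQ 6841 Q6841 (allL N6841 (tt N5500 F60617) (tt N6841 F60618) (tt N8349 (iv F86531)) (tt N5509 F60619) (tt N6841 F60620) (tt N8352 (iv F86547)) (tt N5550 F60621) (tt N8272 (iv F86185)) (tt N5496 (iv D13795)) (tt N8353 D20050))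
theorem Q6843 : ∀ i, i < 6843 → P i := stepQ 6842 Q6842 (allL N6842 (tt N5501 F60622) (tt N6842 F60623) (tt N6842 F60624) (tt N8351 (iv F86541)) (tt N6842 F60625) (tt N5551 F60626) (tt N5497 (iv D13796)) (tt N8354 D20051) (tt N5510 F60627) (tt N6842 F60628))
theorem Q6844 : ∀ i, i < 6844 → P i := stepQ 6843 Q6843 (allL N6843 (tt N8348 (iv F86526)) (tt N6843 F60629) (tt N5499 F60630) (tt N6843 F60631) (tt N8355 D20052) (tt N5498 (iv D13797)) (tt N8356 D20053) (tt N8274 (iv F86196)) (tt N8357 D20054) (tt N6843 F60632))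
theorem Q6845 : ∀ i, i < 6845 → P i := stepQ 6844 Q6844 (allL N6844 (tt N8349 (iv F86530)) (tt N6844 F60633) (tt N5500 F60634) (tt N8358 D20055) (tt N6844 F60635) (tt N8357 (iv F86572)) (tt N5553 F60636) (tt N8275 (iv F86202)) (tt N5498 (iv D13798)) (tt N8359 D20056))
theorem Q6846 : ∀ i, i < 6846 → P i := stepQ 6845 Q6845 (allL N6845 (tt N8350 (iv F86534)) (tt N5502 F60637) (tt N8355 (iv F86562)) (tt N6845 F60638) (tt N5499 (iv D13799)) (tt N6845 F60639) (tt N8360 D20057) (tt N8276 (iv F86206)) (tt N8361 D20058) (tt N6845 F60640))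
theorem Q6847 : ∀ i, i < 6847 → P i := stepQ 6846 Q6846 (allL N6846 (tt N8351 (iv F86539)) (tt N5503 F60641) (tt N8356 (iv F86566)) (tt N5501 F60642) (tt N8360 (iv F86584)) (tt N5555 F60643) (tt N5499 (iv D13800)) (tt N8362 D20059) (tt N8363 D20060) (tt N6846 F60644))
theorem Q6848 : ∀ i, i < 6848 → P i := stepQ 6847 Q6847 (allL N6847 (tt N8352 (iv F86544)) (tt N5504 F60645) (tt N8357 (iv F86571)) (tt N5515 F60646) (tt N8361 (iv F86587)) (tt N5500 F60647) (tt N8363 (iv F86596)) (tt N8278 (iv F86215)) (tt N5499 (iv D13801)) (tt N8364 D20061))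
theorem Q6849 : ∀ i, i < 6849 → P i := stepQ 6848 Q6848 (allL N6848 (tt N8353 (iv F86548)) (tt N5505 F60648) (tt N8359 (iv F86578)) (tt N5516 F60649) (tt N6848 F60650) (tt N8364 (iv F86599)) (tt N5557 F60651) (tt N8279 (iv F86220)) (tt N6848 F60652) (tt N5500 (iv D13802)))
theorem Q6850 : ∀ i, i < 6850 → P i := stepQ 6849 Q6849 (allL N6849 (tt N8354 (iv F86554)) (tt N5506 F60653) (tt N6849 F60654) (tt N8362 (iv F86590)) (tt N6849 F60655) (tt N5558 F60656) (tt N8280 (iv F86226)) (tt N5501 (iv D13803)) (tt N5517 F60657) (tt N6849 F60658))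
theorem Q6851 : ∀ i, i < 6851 → P i := stepQ 6850 Q6850 (allL N6850 (tt N6850 F60659) (tt N8360 (iv F86582)) (tt N6850 F60660) (tt N6850 F60661) (tt N5503 F60662) (tt N8365 D20062) (tt N5502 (iv D13804)) (tt N8366 D20063) (tt N8367 D20064) (tt N6850 F60663))
theorem Q6852 : ∀ i, i < 6852 → P i := stepQ 6851 Q6851 (allL N6851 (tt N6851 F60664) (tt N8361 (iv F86586)) (tt N6851 F60665) (tt N8368 D20065) (tt N5504 F60666) (tt N6851 F60667) (tt N8367 (iv F86615)) (tt N8282 (iv F86238)) (tt N5502 (iv D13805)) (tt N8369 D20066))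
theorem Q6853 : ∀ i, i < 6853 → P i := stepQ 6852 Q6852 (allL N6852 (tt N6852 F60668) (tt N8362 (iv F86589)) (tt N6852 F60669) (tt N5506 F60670) (tt N8366 (iv F86610)) (tt N5561 F60671) (tt N8283 (iv F86243)) (tt N5503 (iv D13806)) (tt N8370 D20067) (tt N6852 F60672))
theorem Q6854 : ∀ i, i < 6854 → P i := stepQ 6853 Q6853 (allL N6853 (tt N6853 F60673) (tt N8363 (iv F86593)) (tt N6853 F60674) (tt N5521 F60675) (tt N8367 (iv F86614)) (tt N5562 F60676) (tt N5504 F60677) (tt N8370 (iv F86629)) (tt N5503 (iv D13807)) (tt N8371 D20068))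
theorem Q6855 : ∀ i, i < 6855 → P i := stepQ 6854 Q6854 (allL N6854 (tt N6854 F60678) (tt N8364 (iv F86597)) (tt N6854 F60679) (tt N5522 F60680) (tt N8369 (iv F86622)) (tt N5505 F60681) (tt N8371 (iv F86634)) (tt N8285 (iv F86254)) (tt N6854 F60682) (tt N5504 (iv D13808)))
theorem Q6856 : ∀ i, i < 6856 → P i := stepQ 6855 Q6855 (allL N6855 (tt N6346 (iv F201123)) (tt N5507 (iv D13809)) (tt N6855 F60683) (tt N6855 F60684) (tt N5923 F60685) (tt N8372 D20069) (tt N5564 F60686) (tt N8286 (iv F86260)) (tt N8373 D20070) (tt N5523 F60687))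
theorem Q6857 : ∀ i, i < 6857 → P i := stepQ 6856 Q6856 (allL N6856 (tt N5511 F60688) (tt N8372 (iv F86636)) (tt N5508 F60689) (tt N6856 F60690) (tt N8374 D20071) (tt N5507 (iv D13810)) (tt N8375 D20072) (tt N8287 (iv F86265)) (tt N8376 D20073) (tt N5524 F60691))
theorem Q6858 : ∀ i, i < 6858 → P i := stepQ 6857 Q6857 (allL N6857 (tt N5512 F60692) (tt N8373 (iv F86640)) (tt N5509 F60693) (tt N8377 D20074) (tt N5925 F60694) (tt N8376 (iv F86655)) (tt N5566 F60695) (tt N8288 (iv F86271)) (tt N5507 (iv D13811)) (tt N8378 D20075))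
theorem Q6859 : ∀ i, i < 6859 → P i := stepQ 6858 Q6858 (allL N6858 (tt N5513 F60696) (tt N6858 F60697) (tt N8374 (iv F86645)) (tt N6858 F60698) (tt N5508 (iv D13812)) (tt N5926 F60699) (tt N8379 D20076) (tt N8289 (iv F86276)) (tt N8380 D20077) (tt N5526 F60700))
theorem Q6860 : ∀ i, i < 6860 → P i := stepQ 6859 Q6859 (allL N6859 (tt N5514 F60701) (tt N6859 F60702) (tt N8375 (iv F86649)) (tt N5510 F60703) (tt N8379 (iv F86667)) (tt N5568 F60704) (tt N5508 (iv D13813)) (tt N8381 D20078) (tt N8382 D20079) (tt N5527 F60705))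
theorem Q6861 : ∀ i, i < 6861 → P i := stepQ 6860 Q6860 (allL N6860 (tt N5515 F60706) (tt N6860 F60707) (tt N8376 (iv F86654)) (tt N8352 (iv F86546)) (tt N8380 (iv F86671)) (tt N5509 F60708) (tt N8382 (iv F86681)) (tt N8291 (iv F86286)) (tt N5508 (iv D13814)) (tt N8383 D20080))
theorem Q6862 : ∀ i, i < 6862 → P i := stepQ 6861 Q6861 (allL N6861 (tt N5516 F60709) (tt N6861 F60710) (tt N8378 (iv F86660)) (tt N8353 (iv F86550)) (tt N5929 F60711) (tt N8383 (iv F86684)) (tt N5570 F60712) (tt N8292 (iv F86291)) (tt N5529 F60713) (tt N5509 (iv D13815)))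
theorem Q6863 : ∀ i, i < 6863 → P i := stepQ 6862 Q6862 (allL N6862 (tt N5517 F60714) (tt N6862 F60715) (tt N6862 F60716) (tt N8381 (iv F86675)) (tt N6862 F60717) (tt N5571 F60718) (tt N8293 (iv F86298)) (tt N5510 (iv D13816)) (tt N8354 (iv F86559)) (tt N5530 F60719))
theorem Q6864 : ∀ i, i < 6864 → P i := stepQ 6863 Q6863 (allL N6863 (tt N8374 (iv F86644)) (tt N8139 (iv F85589)) (tt N5513 F60720) (tt N8384 D20081) (tt N5511 (iv D13817)) (tt N5931 F60721) (tt N8385 D20082) (tt N8294 (iv F86302)) (tt N8386 D20083) (tt N5531 F60722))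
theorem Q6865 : ∀ i, i < 6865 → P i := stepQ 6864 Q6864 (allL N6864 (tt N8375 (iv F86648)) (tt N8140 (iv F85593)) (tt N5514 F60723) (tt N6864 F60724) (tt N8385 (iv F86691)) (tt N5573 F60725) (tt N5511 (iv D13818)) (tt N8387 D20084) (tt N8388 D20085) (tt N5532 F60726))
theorem Q6866 : ∀ i, i < 6866 → P i := stepQ 6865 Q6865 (allL N6865 (tt N8376 (iv F86653)) (tt N8141 (iv F85598)) (tt N5515 F60727) (tt N8389 D20086) (tt N8386 (iv F86694)) (tt N5512 F60728) (tt N8388 (iv F86702)) (tt N8296 (iv F86310)) (tt N5511 (iv D13819)) (tt N8390 D20087))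
theorem Q6867 : ∀ i, i < 6867 → P i := stepQ 6866 Q6866 (allL N6866 (tt N8377 (iv F86656)) (tt N8142 (iv F85601)) (tt N8358 (iv F86574)) (tt N5512 (iv D13820)) (tt N8391 D20088) (tt N8389 (iv F86703)) (tt N5575 F60729) (tt N8297 (iv F86312)) (tt N6866 F60730) (tt N8392 D20089))
theorem Q6868 : ∀ i, i < 6868 → P i := stepQ 6867 Q6867 (allL N6867 (tt N8378 (iv F86659)) (tt N8143 (iv F85605)) (tt N5516 F60731) (tt N8392 (iv F86711)) (tt N5935 F60732) (tt N8390 (iv F86706)) (tt N5576 F60733) (tt N8298 (iv F86317)) (tt N5535 F60734) (tt N5512 (iv D13821)))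
theorem Q6869 : ∀ i, i < 6869 → P i := stepQ 6868 Q6868 (allL N6868 (tt N8379 (iv F86664)) (tt N5518 F60735) (tt N8385 (iv F86690)) (tt N6868 F60736) (tt N5514 F60737) (tt N8393 D20090) (tt N5513 (iv D13822)) (tt N8394 D20091) (tt N8395 D20092) (tt N5536 F60738))
theorem Q6870 : ∀ i, i < 6870 → P i := stepQ 6869 Q6869 (allL N6869 (tt N8380 (iv F86669)) (tt N5519 F60739) (tt N8386 (iv F86693)) (tt N8396 D20093) (tt N5515 F60740) (tt N5937 F60741) (tt N8395 (iv F86724)) (tt N8300 (iv F86326)) (tt N5513 (iv D13823)) (tt N8397 D20094))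
theorem Q6871 : ∀ i, i < 6871 → P i := stepQ 6870 Q6870 (allL N6870 (tt N8381 (iv F86673)) (tt N5520 F60742) (tt N8387 (iv F86696)) (tt N5517 F60743) (tt N8394 (iv F86720)) (tt N5579 F60744) (tt N8301 (iv F86330)) (tt N5514 (iv D13824)) (tt N8398 D20095) (tt N5538 F60745))
theorem Q6872 : ∀ i, i < 6872 → P i := stepQ 6871 Q6871 (allL N6871 (tt N8382 (iv F86678)) (tt N5521 F60746) (tt N8388 (iv F86700)) (tt N8363 (iv F86594)) (tt N8395 (iv F86723)) (tt N5580 F60747) (tt N5515 F60748) (tt N8398 (iv F86734)) (tt N5514 (iv D13825)) (tt N8399 D20096))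
theorem Q6873 : ∀ i, i < 6873 → P i := stepQ 6872 Q6872 (allL N6872 (tt N8383 (iv F86682)) (tt N5522 F60749) (tt N8390 (iv F86705)) (tt N8364 (iv F86598)) (tt N8397 (iv F86729)) (tt N5516 F60750) (tt N8399 (iv F86737)) (tt N8303 (iv F86337)) (tt N5540 F60751) (tt N5515 (iv D13826)))
theorem Q6874 : ∀ i, i < 6874 → P i := stepQ 6873 Q6873 (allL N6873 (tt N6873 F60752) (tt N8393 (iv F86713)) (tt N8149 (iv F85629)) (tt N6873 F60753) (tt N5582 F60754) (tt N5518 (iv D13827)) (tt N5941 F60755) (tt N8400 D20097) (tt N8401 D20098) (tt N5541 F60756))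
theorem Q6875 : ∀ i, i < 6875 → P i := stepQ 6874 Q6874 (allL N6874 (tt N6874 F60757) (tt N8394 (iv F86718)) (tt N8150 (iv F85634)) (tt N6874 F60758) (tt N5520 F60759) (tt N8400 (iv F86742)) (tt N8305 (iv F86347)) (tt N5518 (iv D13828)) (tt N8402 D20099) (tt N5542 F60760))
theorem Q6876 : ∀ i, i < 6876 → P i := stepQ 6875 Q6875 (allL N6875 (tt N6875 F60761) (tt N8395 (iv F86722)) (tt N8151 (iv F85638)) (tt N8403 D20100) (tt N5521 F60762) (tt N8401 (iv F86746)) (tt N5519 F60763) (tt N8402 (iv F86750)) (tt N5518 (iv D13829)) (tt N8404 D20101))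
theorem Q6877 : ∀ i, i < 6877 → P i := stepQ 6876 Q6876 (allL N6876 (tt N6876 F60764) (tt N8396 (iv F86725)) (tt N8405 D20102) (tt N5519 (iv D13830)) (tt N8368 (iv F86617)) (tt N5944 F60765) (tt N8403 (iv F86752)) (tt N8307 (iv F86354)) (tt N6876 F60766) (tt N8406 D20103))
theorem Q6878 : ∀ i, i < 6878 → P i := stepQ 6877 Q6877 (allL N6877 (tt N6877 F60767) (tt N8397 (iv F86728)) (tt N8153 (iv F85645)) (tt N8406 (iv F86762)) (tt N5522 F60768) (tt N5945 F60769) (tt N8404 (iv F86756)) (tt N8308 (iv F86359)) (tt N5545 F60770) (tt N5519 (iv D13831)))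
theorem Q6879 : ∀ i, i < 6879 → P i := stepQ 6878 Q6878 (allL N6878 (tt N6878 F60771) (tt N8398 (iv F86732)) (tt N8154 (iv F85650)) (tt N8370 (iv F86627)) (tt N8402 (iv F86749)) (tt N5587 F60772) (tt N8309 (iv F86363)) (tt N5521 F60773) (tt N5520 (iv D13832)) (tt N8407 D20104))
theorem Q6880 : ∀ i, i < 6880 → P i := stepQ 6879 Q6879 (allL N6879 (tt N6879 F60774) (tt N8399 (iv F86735)) (tt N8155 (iv F85655)) (tt N8371 (iv F86632)) (tt N8404 (iv F86755)) (tt N5588 F60775) (tt N5522 F60776) (tt N8407 (iv F86766)) (tt N5547 F60777) (tt N5521 (iv D13833)))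
theorem Q6881 : ∀ i, i < 6881 → P i := stepQ 6880 Q6880 (allL N6880 (tt N8156 (iv F85660)) (tt N5524 F60778) (tt N6880 F60779) (tt N6880 F60780) (tt N8408 D20105) (tt N5523 (iv D13834)) (tt N8409 D20106) (tt N8311 (iv F86372)) (tt N8410 D20107) (tt N8372 (iv F86639)))
theorem Q6882 : ∀ i, i < 6882 → P i := stepQ 6881 Q6881 (allL N6881 (tt N8157 (iv F85664)) (tt N5525 F60781) (tt N6881 F60782) (tt N8391 (iv F202053)) (tt N5934 F201644) (tt N8410 (iv F86777)) (tt N5590 F60784) (tt N8312 (iv F86377)) (tt N5523 (iv D13835)) (tt N8411 D20109))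
theorem Q6883 : ∀ i, i < 6883 → P i := stepQ 6882 Q6882 (allL N6882 (tt N5531 F60785) (tt N8408 (iv F86768)) (tt N5526 F60786) (tt N8412 D20110) (tt N5524 (iv D13836)) (tt N5949 F60787) (tt N8413 D20111) (tt N8313 (iv F86381)) (tt N8414 D20112) (tt N8374 (iv F86647)))
theorem Q6884 : ∀ i, i < 6884 → P i := stepQ 6883 Q6883 (allL N6883 (tt N5532 F60788) (tt N8409 (iv F86771)) (tt N5527 F60789) (tt N6883 F60790) (tt N8413 (iv F86791)) (tt N5592 F60791) (tt N5524 (iv D13837)) (tt N8415 D20113) (tt N8416 D20114) (tt N8375 (iv F86652)))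
theorem Q6885 : ∀ i, i < 6885 → P i := stepQ 6884 Q6884 (allL N6884 (tt N5533 F60792) (tt N8410 (iv F86775)) (tt N5528 F60793) (tt N8417 D20115) (tt N8414 (iv F86794)) (tt N5525 F60794) (tt N8416 (iv F86803)) (tt N8315 (iv F86389)) (tt N5524 (iv D13838)) (tt N8418 D20116))
theorem Q6886 : ∀ i, i < 6886 → P i := stepQ 6885 Q6885 (allL N6885 (tt N5534 F60795) (tt N8391 F202338) (tt N6885 F60796) (tt N5525 (iv D13839)) (tt N8142 F202339) (tt N8417 (iv F86806)) (tt N5594 F60797) (tt N8316 (iv F86393)) (tt N6885 F60798) (tt N8419 D20118))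
theorem Q6887 : ∀ i, i < 6887 → P i := stepQ 6886 Q6886 (allL N6886 (tt N5535 F60799) (tt N8411 (iv F86781)) (tt N5529 F60800) (tt N8419 (iv F86818)) (tt N5952 F60801) (tt N8418 (iv F86810)) (tt N5595 F60802) (tt N8317 (iv F86399)) (tt N8378 (iv F86663)) (tt N5525 (iv D13840)))
theorem Q6888 : ∀ i, i < 6888 → P i := stepQ 6887 Q6887 (allL N6887 (tt N5536 F60803) (tt N6887 F60804) (tt N8413 (iv F86790)) (tt N6887 F60805) (tt N5527 F60806) (tt N8420 D20119) (tt N5526 (iv D13841)) (tt N8421 D20120) (tt N8422 D20121) (tt N8379 (iv F86668)))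
theorem Q6889 : ∀ i, i < 6889 → P i := stepQ 6888 Q6888 (allL N6888 (tt N5537 F60807) (tt N6888 F60808) (tt N8414 (iv F86793)) (tt N8423 D20122) (tt N5528 F60809) (tt N5954 F60810) (tt N8422 (iv F86832)) (tt N8319 (iv F86408)) (tt N5526 (iv D13842)) (tt N8424 D20123))
theorem Q6890 : ∀ i, i < 6890 → P i := stepQ 6889 Q6889 (allL N6889 (tt N5538 F60811) (tt N6889 F60812) (tt N8415 (iv F86797)) (tt N5530 F60813) (tt N8421 (iv F86828)) (tt N5598 F60814) (tt N8320 (iv F86413)) (tt N5527 (iv D13843)) (tt N8425 D20124) (tt N8381 (iv F86677)))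
theorem Q6891 : ∀ i, i < 6891 → P i := stepQ 6890 Q6890 (allL N6890 (tt N5539 F60815) (tt N6890 F60816) (tt N8416 (iv F86801)) (tt N6890 F60817) (tt N8422 (iv F86831)) (tt N5599 F60818) (tt N5528 F60819) (tt N8425 (iv F86846)) (tt N5527 (iv D13844)) (tt N8426 D20125))
theorem Q6892 : ∀ i, i < 6892 → P i := stepQ 6891 Q6891 (allL N6891 (tt N5540 F60820) (tt N6891 F60821) (tt N8418 (iv F86809)) (tt N6891 F60822) (tt N8424 (iv F86840)) (tt N5529 F60823) (tt N8426 (iv F86851)) (tt N8322 (iv F86423)) (tt N8383 (iv F86685)) (tt N5528 (iv D13845)))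
theorem Q6893 : ∀ i, i < 6893 → P i := stepQ 6892 Q6892 (allL N6892 (tt N8412 (iv F86785)) (tt N8168 (iv F85704)) (tt N6892 F60824) (tt N5531 (iv D13846)) (tt N6892 F60825) (tt N5958 F60826) (tt N8427 D20126) (tt N8323 (iv F86427)) (tt N8428 D20127) (tt N8384 (iv F86689)))
theorem Q6894 : ∀ i, i < 6894 → P i := stepQ 6893 Q6893 (allL N6893 (tt N8413 (iv F86789)) (tt N8169 (iv F85707)) (tt N5536 F60827) (tt N8427 (iv F86853)) (tt N5532 F60828) (tt N8429 D20128) (tt N5531 (iv D13847)) (tt N8430 D20129) (tt N8431 D20130) (tt N8385 (iv F86692)))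
theorem Q6895 : ∀ i, i < 6895 → P i := stepQ 6894 Q6894 (allL N6894 (tt N8414 (iv F86792)) (tt N8170 (iv F85710)) (tt N5537 F60829) (tt N8432 D20131) (tt N5533 F60830) (tt N5960 F60831) (tt N8431 (iv F86865)) (tt N8325 (iv F86433)) (tt N5531 (iv D13848)) (tt N8433 D20132))
theorem Q6896 : ∀ i, i < 6896 → P i := stepQ 6895 Q6895 (allL N6895 (tt N8415 (iv F86796)) (tt N8171 (iv F85714)) (tt N5538 F60832) (tt N6895 F60833) (tt N8430 (iv F86862)) (tt N5604 F60834) (tt N8326 (iv F86437)) (tt N5532 (iv D13849)) (tt N8434 D20133) (tt N8387 (iv F86699)))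
theorem Q6897 : ∀ i, i < 6897 → P i := stepQ 6896 Q6896 (allL N6896 (tt N8416 (iv F86800)) (tt N8172 (iv F85718)) (tt N5539 F60835) (tt N8435 D20134) (tt N8431 (iv F86864)) (tt N5605 F60836) (tt N5533 F60837) (tt N8434 (iv F86872)) (tt N5532 (iv D13850)) (tt N8436 D20135))
theorem Q6898 : ∀ i, i < 6898 → P i := stepQ 6897 Q6897 (allL N6897 (tt N8417 (iv F86804)) (tt N8173 (iv F85722)) (tt N6897 F60838) (tt N5533 (iv D13851)) (tt N8437 D20136) (tt N5534 F60839) (tt N8435 (iv F86875)) (tt N8328 (iv F86443)) (tt N6897 F60840) (tt N8438 D20137))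
theorem Q6899 : ∀ i, i < 6899 → P i := stepQ 6898 Q6898 (allL N6898 (tt N8418 (iv F86808)) (tt N8174 (iv F85725)) (tt N5540 F60841) (tt N8438 (iv F86883)) (tt N8433 (iv F86868)) (tt N5535 F60842) (tt N8436 (iv F86879)) (tt N8329 (iv F86447)) (tt N8390 (iv F86707)) (tt N5533 (iv D13852)))
theorem Q6900 : ∀ i, i < 6900 → P i := stepQ 6899 Q6899 (allL N6899 (tt N8142 F202344) (tt N8175 (iv F85728)) (tt N6899 F60843) (tt N5965 F60844) (tt N5534 (iv D13853)) (tt N8439 D20138) (tt N5608 F60845) (tt N8330 (iv F86451)) (tt N6899 F60846) (tt N8440 D20139))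
theorem Q6901 : ∀ i, i < 6901 → P i := stepQ 6900 Q6900 (allL N6900 (tt N8419 (iv F86816)) (tt N8176 (iv F85732)) (tt N6900 F60847) (tt N5535 F60848) (tt N8440 (iv F86890)) (tt N8438 (iv F86884)) (tt N5609 F60849) (tt N8331 (iv F86456)) (tt N8441 D20140) (tt N5534 (iv D13854)))
theorem Q6902 : ∀ i, i < 6902 → P i := stepQ 6901 Q6901 (allL N6901 (tt N8420 (iv F86820)) (tt N5541 F60850) (tt N8429 (iv F86858)) (tt N6901 F60851) (tt N5610 F60852) (tt N5536 (iv D13855)) (tt N5967 F60853) (tt N8442 D20141) (tt N8443 D20142) (tt N8393 (iv F86717)))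
theorem Q6903 : ∀ i, i < 6903 → P i := stepQ 6902 Q6902 (allL N6902 (tt N8421 (iv F86825)) (tt N5542 F60854) (tt N8430 (iv F86861)) (tt N6902 F60855) (tt N5538 F60856) (tt N8442 (iv F86898)) (tt N8333 (iv F86464)) (tt N5536 (iv D13856)) (tt N8444 D20143) (tt N8394 (iv F86721)))
theorem Q6904 : ∀ i, i < 6904 → P i := stepQ 6903 Q6903 (allL N6903 (tt N8422 (iv F86829)) (tt N5543 F60857) (tt N8431 (iv F86863)) (tt N8445 D20144) (tt N5539 F60858) (tt N8443 (iv F86901)) (tt N5537 F60859) (tt N8444 (iv F86905)) (tt N5536 (iv D13857)) (tt N8446 D20145))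
theorem Q6905 : ∀ i, i < 6905 → P i := stepQ 6904 Q6904 (allL N6904 (tt N8423 (iv F86833)) (tt N5544 F60860) (tt N8447 D20146) (tt N5537 (iv D13858)) (tt N6904 F60861) (tt N5970 F60862) (tt N8445 (iv F86908)) (tt N8335 (iv F86471)) (tt N6904 F60863) (tt N8448 D20147))
theorem Q6906 : ∀ i, i < 6906 → P i := stepQ 6905 Q6905 (allL N6905 (tt N8424 (iv F86838)) (tt N5545 F60864) (tt N8433 (iv F86867)) (tt N8448 (iv F86917)) (tt N5540 F60865) (tt N5971 F60866) (tt N8446 (iv F86912)) (tt N8336 (iv F86476)) (tt N8397 (iv F86731)) (tt N5537 (iv D13859)))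
theorem Q6907 : ∀ i, i < 6907 → P i := stepQ 6906 Q6906 (allL N6906 (tt N8425 (iv F86842)) (tt N5546 F60867) (tt N8434 (iv F86870)) (tt N6906 F60868) (tt N8444 (iv F86904)) (tt N5615 F60869) (tt N8337 (iv F86480)) (tt N5539 F60870) (tt N5538 (iv D13860)) (tt N8449 D20148))
theorem Q6908 : ∀ i, i < 6908 → P i := stepQ 6907 Q6907 (allL N6907 (tt N8426 (iv F86847)) (tt N5547 F60871) (tt N8436 (iv F86877)) (tt N6907 F60872) (tt N8446 (iv F86911)) (tt N5616 F60873) (tt N5540 F60874) (tt N8449 (iv F86923)) (tt N8399 (iv F86738)) (tt N5539 (iv D13861)))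
theorem Q6909 : ∀ i, i < 6909 → P i := stepQ 6908 Q6908 (allL N6908 (tt N6908 F60875) (tt N8442 (iv F86895)) (tt N8184 (iv F85755)) (tt N6908 F60876) (tt N5617 F60877) (tt N5542 F60878) (tt N8450 D20149) (tt N5541 (iv D13862)) (tt N8451 D20150) (tt N8400 (iv F86743)))
theorem Q6910 : ∀ i, i < 6910 → P i := stepQ 6909 Q6909 (allL N6909 (tt N6909 F60879) (tt N8443 (iv F86899)) (tt N8185 (iv F85759)) (tt N8452 D20151) (tt N5618 F60880) (tt N5543 F60881) (tt N5975 F60882) (tt N8451 (iv F86931)) (tt N5541 (iv D13863)) (tt N8453 D20152))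
theorem Q6911 : ∀ i, i < 6911 → P i := stepQ 6910 Q6910 (allL N6910 (tt N6910 F60883) (tt N8444 (iv F86903)) (tt N8186 (iv F85764)) (tt N8454 D20153) (tt N5546 F60884) (tt N8451 (iv F86930)) (tt N8341 (iv F86496)) (tt N5543 F60885) (tt N5542 (iv D13864)) (tt N8455 D20154))
theorem Q6912 : ∀ i, i < 6912 → P i := stepQ 6911 Q6911 (allL N6911 (tt N6911 F60886) (tt N8445 (iv F86906)) (tt N8456 D20155) (tt N5543 (iv D13865)) (tt N6911 F60887) (tt N8452 (iv F86933)) (tt N5544 F60888) (tt N8454 (iv F86942)) (tt N6911 F60889) (tt N8457 D20156))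
theorem Q6913 : ∀ i, i < 6913 → P i := stepQ 6912 Q6912 (allL N6912 (tt N6912 F60890) (tt N8446 (iv F86910)) (tt N8188 (iv F85770)) (tt N8457 (iv F86952)) (tt N5547 F60891) (tt N8453 (iv F86938)) (tt N5545 F60892) (tt N8455 (iv F86946)) (tt N8404 (iv F86757)) (tt N5543 (iv D13866)))
theorem Q6914 : ∀ i, i < 6914 → P i := stepQ 6913 Q6913 (allL N6913 (tt N6913 F60893) (tt N8458 D20157) (tt N5544 (iv D13867)) (tt N8189 (iv F85774)) (tt N6913 F60894) (tt N5979 F60895) (tt N8456 (iv F86949)) (tt N8344 (iv F86508)) (tt N6913 F60896) (tt N8459 D20158))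
theorem Q6915 : ∀ i, i < 6915 → P i := stepQ 6914 Q6914 (allL N6914 (tt N6914 F60897) (tt N8448 (iv F86916)) (tt N8459 (iv F86959)) (tt N5545 F60898) (tt N6914 F60899) (tt N5980 F60900) (tt N8457 (iv F86954)) (tt N8345 (iv F86514)) (tt N8460 D20159) (tt N5544 (iv D13868)))
theorem Q6916 : ∀ i, i < 6916 → P i := stepQ 6915 Q6915 (allL N6915 (tt N6915 F60901) (tt N8449 (iv F86920)) (tt N8191 (iv F85780)) (tt N6915 F60902) (tt N8455 (iv F86945)) (tt N5624 F60903) (tt N8346 (iv F86518)) (tt N5547 F60904) (tt N8407 (iv F86767)) (tt N5546 (iv D13869)))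
theorem Q6917 : ∀ i, i < 6917 → P i := stepQ 6916 Q6916 (allL N6916 (tt N6916 F60905) (tt N5548 (iv D13870)) (tt N6916 F60906) (tt N6916 F60907) (tt N6916 F60908) (tt N8461 D20160) (tt N8347 (iv F86524)) (tt N6916 F60909) (tt N8462 D20161) (tt N6916 F60910))
theorem Q6918 : ∀ i, i < 6918 → P i := stepQ 6917 Q6917 (allL N6917 (tt N5552 F60911) (tt N8461 (iv F86967)) (tt N5549 F60912) (tt N6917 F60913) (tt N6454 F203421) (tt N5548 (iv D13871)) (tt N8463 D20163) (tt N6917 F60914) (tt N8464 D20164) (tt N6917 F60915))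
theorem Q6919 : ∀ i, i < 6919 → P i := stepQ 6918 Q6918 (allL N6918 (tt N5553 F60916) (tt N8462 (iv F86973)) (tt N5550 F60917) (tt N8465 D20165) (tt N6918 F60918) (tt N8464 (iv F86988)) (tt N8349 (iv F86533)) (tt N6918 F60919) (tt N5548 (iv D13872)) (tt N8466 D20166))
theorem Q6920 : ∀ i, i < 6920 → P i := stepQ 6919 Q6919 (allL N6919 (tt N5555 F60926) (tt N6919 F60927) (tt N8463 (iv F86983)) (tt N5551 F60928) (tt N6453 F203353) (tt N8351 (iv F86542)) (tt N5549 (iv D13874)) (tt N8467 D20169) (tt N8468 D20170) (tt N6919 F60929))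
theorem Q6921 : ∀ i, i < 6921 → P i := stepQ 6920 Q6920 (allL N6920 (tt N5556 F60930) (tt N6920 F60931) (tt N8464 (iv F86987)) (tt N5569 F60932) (tt N6448 F203357) (tt N5550 F60933) (tt N8468 (iv F87017)) (tt N6920 F60934) (tt N5549 (iv D13875)) (tt N8469 D20171))
theorem Q6922 : ∀ i, i < 6922 → P i := stepQ 6921 Q6921 (allL N6921 (tt N5557 F60935) (tt N6921 F60936) (tt N8466 (iv F86995)) (tt N5570 F60937) (tt N6921 F60938) (tt N8469 (iv F87021)) (tt N8353 (iv F86552)) (tt N6921 F60939) (tt N6921 F60940) (tt N5550 (iv D13876)))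
theorem Q6923 : ∀ i, i < 6923 → P i := stepQ 6922 Q6922 (allL N6922 (tt N5558 F60941) (tt N6922 F60942) (tt N6922 F60943) (tt N8467 (iv F87011)) (tt N5628 F60944) (tt N8354 (iv F86558)) (tt N6922 F60945) (tt N5551 (iv D13877)) (tt N5571 F60946) (tt N6922 F60947))
theorem Q6924 : ∀ i, i < 6924 → P i := stepQ 6923 Q6923 (allL N6923 (tt N6454 (iv F202978)) (tt N6923 F60948) (tt N5554 F60949) (tt N6444 F202578) (tt N5552 (iv D13878)) (tt N6923 F60950) (tt N8470 D20173) (tt N6923 F60951) (tt N8471 D20174) (tt N6923 F60952))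
theorem Q6925 : ∀ i, i < 6925 → P i := stepQ 6924 Q6924 (allL N6924 (tt N8463 (iv F86982)) (tt N6924 F60953) (tt N5555 F60954) (tt N6924 F60955) (tt N8470 (iv F87032)) (tt N8356 (iv F86568)) (tt N5552 (iv D13879)) (tt N8472 D20175) (tt N8473 D20176) (tt N6924 F60956))
theorem Q6926 : ∀ i, i < 6926 → P i := stepQ 6925 Q6925 (allL N6925 (tt N8464 (iv F86986)) (tt N6925 F60957) (tt N5556 F60958) (tt N8474 D20177) (tt N8471 (iv F87036)) (tt N5553 F60959) (tt N8473 (iv F87046)) (tt N6925 F60960) (tt N5552 (iv D13880)) (tt N8475 D20178))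
theorem Q6927 : ∀ i, i < 6927 → P i := stepQ 6926 Q6926 (allL N6926 (tt N8465 (iv F86990)) (tt N6926 F60961) (tt N5575 F60962) (tt N5553 (iv D13881)) (tt N8476 D20179) (tt N8474 (iv F87049)) (tt N8358 (iv F86575)) (tt N6926 F60963) (tt N6926 F60964) (tt N8477 D20180))
theorem Q6928 : ∀ i, i < 6928 → P i := stepQ 6927 Q6927 (allL N6927 (tt N8466 (iv F86994)) (tt N6927 F60965) (tt N5557 F60966) (tt N8477 (iv F87064)) (tt N6927 F60967) (tt N8475 (iv F87054)) (tt N8359 (iv F86580)) (tt N6927 F60968) (tt N6927 F60969) (tt N5553 (iv D13882)))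
theorem Q6929 : ∀ i, i < 6929 → P i := stepQ 6928 Q6928 (allL N6928 (tt N6453 F203352) (tt N5559 F60970) (tt N8470 (iv F87031)) (tt N5629 F60971) (tt N5555 F60972) (tt N8478 D20181) (tt N5554 (iv D13883)) (tt N8479 D20182) (tt N8480 D20183) (tt N6928 F60973))
theorem Q6930 : ∀ i, i < 6930 → P i := stepQ 6929 Q6929 (allL N6929 (tt N6448 F203377) (tt N5560 F60974) (tt N8471 (iv F87035)) (tt N6438 F203378) (tt N5556 F60975) (tt N6929 F60976) (tt N8480 (iv F87077)) (tt N6929 F60977) (tt N5554 (iv D13884)) (tt N8481 D20185))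
theorem Q6931 : ∀ i, i < 6931 → P i := stepQ 6930 Q6930 (allL N6930 (tt N8467 (iv F87009)) (tt N5561 F60978) (tt N8472 (iv F87040)) (tt N5558 F60979) (tt N8479 (iv F87072)) (tt N8362 (iv F86591)) (tt N6930 F60980) (tt N5555 (iv D13885)) (tt N8482 D20186) (tt N6930 F60981))
theorem Q6932 : ∀ i, i < 6932 → P i := stepQ 6931 Q6931 (allL N6931 (tt N8468 (iv F87014)) (tt N5562 F60982) (tt N8473 (iv F87045)) (tt N5580 F60983) (tt N8480 (iv F87076)) (tt N8363 (iv F86595)) (tt N5556 F60984) (tt N8482 (iv F87091)) (tt N5555 (iv D13886)) (tt N8483 D20187))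
theorem Q6933 : ∀ i, i < 6933 → P i := stepQ 6932 Q6932 (allL N6932 (tt N8469 (iv F87018)) (tt N5563 F60985) (tt N8475 (iv F87053)) (tt N5581 F60986) (tt N8481 (iv F87084)) (tt N5557 F60987) (tt N8483 (iv F87094)) (tt N6932 F60988) (tt N6932 F60989) (tt N5556 (iv D13887)))
theorem Q6934 : ∀ i, i < 6934 → P i := stepQ 6933 Q6933 (allL N6933 (tt N6933 F60990) (tt N8478 (iv F87066)) (tt N6933 F60991) (tt N5631 F60992) (tt N8365 (iv F86604)) (tt N5559 (iv D13888)) (tt N6933 F60993) (tt N8484 D20188) (tt N8485 D20189) (tt N6933 F60994))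
theorem Q6935 : ∀ i, i < 6935 → P i := stepQ 6934 Q6934 (allL N6934 (tt N6934 F60995) (tt N8479 (iv F87070)) (tt N6934 F60996) (tt N5632 F60997) (tt N5561 F60998) (tt N8484 (iv F87099)) (tt N6934 F60999) (tt N5559 (iv D13889)) (tt N8486 D20190) (tt N6934 F61000))
theorem Q6936 : ∀ i, i < 6936 → P i := stepQ 6935 Q6935 (allL N6935 (tt N6935 F61001) (tt N8480 (iv F87075)) (tt N6935 F61002) (tt N8487 D20191) (tt N5562 F61003) (tt N8485 (iv F87103)) (tt N5560 F61004) (tt N8486 (iv F87109)) (tt N5559 (iv D13890)) (tt N8488 D20192))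
theorem Q6937 : ∀ i, i < 6937 → P i := stepQ 6936 Q6936 (allL N6936 (tt N6936 F61005) (tt N6438 F203376) (tt N8489 D20193) (tt N5560 (iv D13891)) (tt N5585 F61006) (tt N6936 F61007) (tt N8487 (iv F87112)) (tt N6936 F61008) (tt N5634 F61009) (tt N8490 D20194))
theorem Q6938 : ∀ i, i < 6938 → P i := stepQ 6937 Q6937 (allL N6937 (tt N6937 F61010) (tt N8481 (iv F87083)) (tt N6937 F61011) (tt N8490 (iv F87126)) (tt N5563 F61012) (tt N6937 F61013) (tt N8488 (iv F87117)) (tt N6937 F61014) (tt N6937 F61015) (tt N5560 (iv D13892)))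
theorem Q6939 : ∀ i, i < 6939 → P i := stepQ 6938 Q6938 (allL N6938 (tt N6938 F61016) (tt N8482 (iv F87088)) (tt N6938 F61017) (tt N5587 F61018) (tt N8486 (iv F87107)) (tt N8370 (iv F86628)) (tt N6938 F61019) (tt N5562 F61020) (tt N5561 (iv D13893)) (tt N8491 D20195))
theorem Q6940 : ∀ i, i < 6940 → P i := stepQ 6939 Q6939 (allL N6939 (tt N6939 F61021) (tt N8483 (iv F87092)) (tt N6939 F61022) (tt N5588 F61023) (tt N8488 (iv F87116)) (tt N8371 (iv F86633)) (tt N5563 F61024) (tt N8491 (iv F87134)) (tt N6939 F61025) (tt N5562 (iv D13894)))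
theorem Q6941 : ∀ i, i < 6941 → P i := stepQ 6940 Q6940 (allL N6940 (tt N6373 (iv F201992)) (tt N5565 F61026) (tt N6940 F61027) (tt N6940 F61028) (tt N8492 D20196) (tt N5564 (iv D13895)) (tt N8493 D20197) (tt N6940 F61029) (tt N8494 D20198) (tt N5589 F61030))
theorem Q6942 : ∀ i, i < 6942 → P i := stepQ 6941 Q6941 (allL N6941 (tt N5865 (iv F201942)) (tt N5566 F61031) (tt N6941 F61032) (tt N8227 (iv F202161)) (tt N5851 F201703) (tt N8494 (iv F87147)) (tt N8373 (iv F86643)) (tt N6941 F61034) (tt N5564 (iv D13896)) (tt N8495 D20200))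
theorem Q6943 : ∀ i, i < 6943 → P i := stepQ 6942 Q6942 (allL N6942 (tt N5572 F61035) (tt N8492 (iv F87136)) (tt N5567 F61036) (tt N6073 (iv F202929)) (tt N5565 (iv D13897)) (tt N5983 F61037) (tt N8496 D20202) (tt N6942 F61038) (tt N8497 D20203) (tt N5591 F61039))
theorem Q6944 : ∀ i, i < 6944 → P i := stepQ 6943 Q6943 (allL N6943 (tt N5573 F61040) (tt N8493 (iv F87141)) (tt N5568 F61041) (tt N6943 F61042) (tt N8496 (iv F87165)) (tt N8375 (iv F86651)) (tt N5565 (iv D13898)) (tt N8498 D20204) (tt N8499 D20205) (tt N5592 F61043))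
theorem Q6945 : ∀ i, i < 6945 → P i := stepQ 6944 Q6944 (allL N6944 (tt N5574 F61044) (tt N8494 (iv F87145)) (tt N5569 F61045) (tt N8500 D20206) (tt N8497 (iv F87169)) (tt N5566 F61046) (tt N8499 (iv F87179)) (tt N6944 F61047) (tt N5565 (iv D13899)) (tt N8501 D20207))
theorem Q6946 : ∀ i, i < 6946 → P i := stepQ 6945 Q6945 (allL N6945 (tt N5575 F61048) (tt N8227 F202456) (tt N8465 (iv F86991)) (tt N5566 (iv D13900)) (tt N8218 F202457) (tt N8500 (iv F87181)) (tt N8377 (iv F86657)) (tt N6945 F61049) (tt N6945 F61050) (tt N8502 D20209))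
theorem Q6947 : ∀ i, i < 6947 → P i := stepQ 6946 Q6946 (allL N6946 (tt N5576 F61051) (tt N8495 (iv F87152)) (tt N5570 F61052) (tt N8502 (iv F87194)) (tt N5986 F61053) (tt N8501 (iv F87186)) (tt N8378 (iv F86662)) (tt N6946 F61054) (tt N5595 F61055) (tt N5566 (iv D13901)))
theorem Q6948 : ∀ i, i < 6948 → P i := stepQ 6947 Q6947 (allL N6947 (tt N5577 F61056) (tt N6947 F61057) (tt N8496 (iv F87164)) (tt N5636 F61058) (tt N5568 F61059) (tt N8503 D20210) (tt N5567 (iv D13902)) (tt N8504 D20211) (tt N8505 D20212) (tt N5596 F61060))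
theorem Q6949 : ∀ i, i < 6949 → P i := stepQ 6948 Q6948 (allL N6948 (tt N5578 F61061) (tt N6948 F61062) (tt N8497 (iv F87168)) (tt N6066 F203356) (tt N5569 F61063) (tt N5988 F61064) (tt N8505 (iv F87210)) (tt N6948 F61065) (tt N5567 (iv D13903)) (tt N8506 D20214))
theorem Q6950 : ∀ i, i < 6950 → P i := stepQ 6949 Q6949 (allL N6949 (tt N5579 F61066) (tt N6949 F61067) (tt N8498 (iv F87173)) (tt N5571 F61068) (tt N8504 (iv F87204)) (tt N8381 (iv F86676)) (tt N6949 F61069) (tt N5568 (iv D13904)) (tt N8507 D20215) (tt N5598 F61070))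
theorem Q6951 : ∀ i, i < 6951 → P i := stepQ 6950 Q6950 (allL N6950 (tt N5580 F61071) (tt N6950 F61072) (tt N8499 (iv F87178)) (tt N8468 (iv F87016)) (tt N8505 (iv F87209)) (tt N8382 (iv F86680)) (tt N5569 F61073) (tt N8507 (iv F87225)) (tt N5568 (iv D13905)) (tt N8508 D20216))
theorem Q6952 : ∀ i, i < 6952 → P i := stepQ 6951 Q6951 (allL N6951 (tt N5581 F61074) (tt N6951 F61075) (tt N8501 (iv F87185)) (tt N8469 (iv F87020)) (tt N8506 (iv F87218)) (tt N5570 F61076) (tt N8508 (iv F87228)) (tt N6951 F61077) (tt N5600 F61078) (tt N5569 (iv D13906)))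
theorem Q6953 : ∀ i, i < 6953 → P i := stepQ 6952 Q6952 (allL N6952 (tt N6073 (iv F202928)) (tt N8192 (iv F85841)) (tt N5638 F61079) (tt N5572 (iv D13907)) (tt N6952 F61080) (tt N5992 F61081) (tt N8509 D20217) (tt N6952 F61082) (tt N8510 D20218) (tt N5601 F61083))
theorem Q6954 : ∀ i, i < 6954 → P i := stepQ 6953 Q6953 (allL N6953 (tt N8496 (iv F87163)) (tt N8193 (iv F85847)) (tt N5577 F61084) (tt N8509 (iv F87231)) (tt N5573 F61085) (tt N8511 D20219) (tt N5572 (iv D13908)) (tt N8512 D20220) (tt N8513 D20221) (tt N5602 F61086))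
theorem Q6955 : ∀ i, i < 6955 → P i := stepQ 6954 Q6954 (allL N6954 (tt N8497 (iv F87167)) (tt N8194 (iv F85851)) (tt N5578 F61087) (tt N8514 D20222) (tt N5574 F61088) (tt N5994 F61089) (tt N8513 (iv F87247)) (tt N6954 F61090) (tt N5572 (iv D13909)) (tt N8515 D20223))
theorem Q6956 : ∀ i, i < 6956 → P i := stepQ 6955 Q6955 (allL N6955 (tt N8498 (iv F87172)) (tt N8195 (iv F85856)) (tt N5579 F61091) (tt N6955 F61092) (tt N8512 (iv F87242)) (tt N8387 (iv F86698)) (tt N6955 F61093) (tt N5573 (iv D13910)) (tt N8516 D20224) (tt N5604 F61094))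
theorem Q6957 : ∀ i, i < 6957 → P i := stepQ 6956 Q6956 (allL N6956 (tt N8499 (iv F87177)) (tt N8196 (iv F85861)) (tt N5580 F61095) (tt N8517 D20225) (tt N8513 (iv F87246)) (tt N8388 (iv F86701)) (tt N5574 F61096) (tt N8516 (iv F87257)) (tt N5573 (iv D13911)) (tt N8518 D20226))
theorem Q6958 : ∀ i, i < 6958 → P i := stepQ 6957 Q6957 (allL N6957 (tt N8500 (iv F87180)) (tt N8197 (iv F85864)) (tt N8474 (iv F87048)) (tt N5574 (iv D13912)) (tt N8519 D20227) (tt N5575 F61097) (tt N8517 (iv F87258)) (tt N6957 F61098) (tt N6957 F61099) (tt N8520 D20228))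
theorem Q6959 : ∀ i, i < 6959 → P i := stepQ 6958 Q6958 (allL N6958 (tt N8501 (iv F87184)) (tt N8198 (iv F85869)) (tt N5581 F61100) (tt N8520 (iv F87265)) (tt N8515 (iv F87251)) (tt N5576 F61101) (tt N8518 (iv F87261)) (tt N6958 F61102) (tt N5607 F61103) (tt N5574 (iv D13913)))
theorem Q6960 : ∀ i, i < 6960 → P i := stepQ 6959 Q6959 (allL N6959 (tt N8218 F202444) (tt N5594 (iv F202787)) (tt N8476 (iv F87058)) (tt N5590 F202445) (tt N5575 (iv D13914)) (tt N8521 D20229) (tt N8391 (iv F86709)) (tt N6959 F61105) (tt N6959 F61106) (tt N8522 D20230))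
theorem Q6961 : ∀ i, i < 6961 → P i := stepQ 6960 Q6960 (allL N6960 (tt N8502 (iv F87193)) (tt N8199 (iv F85879)) (tt N8477 (iv F87063)) (tt N5576 F61107) (tt N8522 (iv F87272)) (tt N8520 (iv F87266)) (tt N8392 (iv F86712)) (tt N6960 F61108) (tt N8523 D20231) (tt N5575 (iv D13915)))
theorem Q6962 : ∀ i, i < 6962 → P i := stepQ 6961 Q6961 (allL N6961 (tt N8503 (iv F87196)) (tt N5582 F61109) (tt N8511 (iv F87238)) (tt N5641 F61110) (tt N8393 (iv F86715)) (tt N5577 (iv D13916)) (tt N6000 F61111) (tt N8524 D20232) (tt N8525 D20233) (tt N5610 F61112))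
theorem Q6963 : ∀ i, i < 6963 → P i := stepQ 6962 Q6962 (allL N6962 (tt N8504 (iv F87201)) (tt N5583 F61113) (tt N8512 (iv F87241)) (tt N5642 F61114) (tt N5579 F61115) (tt N8524 (iv F87279)) (tt N6962 F61116) (tt N5577 (iv D13917)) (tt N8526 D20234) (tt N5611 F61117))
theorem Q6964 : ∀ i, i < 6964 → P i := stepQ 6963 Q6963 (allL N6963 (tt N8505 (iv F87207)) (tt N5584 F61118) (tt N8513 (iv F87245)) (tt N8527 D20235) (tt N5580 F61119) (tt N8525 (iv F87282)) (tt N5578 F61120) (tt N8526 (iv F87287)) (tt N5577 (iv D13918)) (tt N8528 D20236))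
theorem Q6965 : ∀ i, i < 6965 → P i := stepQ 6964 Q6964 (allL N6964 (tt N6066 F203369) (tt N5585 F61121) (tt N8529 D20237) (tt N5578 (iv D13919)) (tt N6438 F203370) (tt N6003 F61122) (tt N8527 (iv F87289)) (tt N6964 F61123) (tt N5644 F61124) (tt N8530 D20238))
theorem Q6966 : ∀ i, i < 6966 → P i := stepQ 6965 Q6965 (allL N6965 (tt N8506 (iv F87216)) (tt N5586 F61125) (tt N8515 (iv F87250)) (tt N8530 (iv F87299)) (tt N5581 F61126) (tt N6004 F61127) (tt N8528 (iv F87293)) (tt N6965 F61128) (tt N5614 F61129) (tt N5578 (iv D13920)))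
theorem Q6967 : ∀ i, i < 6967 → P i := stepQ 6966 Q6966 (allL N6966 (tt N8507 (iv F87222)) (tt N5587 F61130) (tt N8516 (iv F87255)) (tt N8482 (iv F87089)) (tt N8526 (iv F87285)) (tt N8398 (iv F86733)) (tt N6966 F61131) (tt N5580 F61132) (tt N5579 (iv D13921)) (tt N8531 D20239))
theorem Q6968 : ∀ i, i < 6968 → P i := stepQ 6967 Q6967 (allL N6967 (tt N8508 (iv F87226)) (tt N5588 F61133) (tt N8518 (iv F87260)) (tt N8483 (iv F87093)) (tt N8528 (iv F87292)) (tt N8399 (iv F86736)) (tt N5581 F61134) (tt N8531 (iv F87304)) (tt N5616 F61135) (tt N5580 (iv D13922)))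
theorem Q6969 : ∀ i, i < 6969 → P i := stepQ 6968 Q6968 (allL N6968 (tt N6968 F61136) (tt N8524 (iv F87277)) (tt N8207 (iv F85914)) (tt N5646 F61137) (tt N8400 (iv F86741)) (tt N5583 F61138) (tt N8532 D20240) (tt N5582 (iv D13923)) (tt N8533 D20241) (tt N5617 F61139))
theorem Q6970 : ∀ i, i < 6970 → P i := stepQ 6969 Q6969 (allL N6969 (tt N6969 F61140) (tt N8525 (iv F87281)) (tt N8208 (iv F85919)) (tt N8534 D20242) (tt N8401 (iv F86745)) (tt N5584 F61141) (tt N6008 F61142) (tt N8533 (iv F87313)) (tt N5582 (iv D13924)) (tt N8535 D20243))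
theorem Q6971 : ∀ i, i < 6971 → P i := stepQ 6970 Q6970 (allL N6970 (tt N6970 F61143) (tt N8526 (iv F87284)) (tt N8209 (iv F85923)) (tt N8536 D20244) (tt N5587 F61144) (tt N8533 (iv F87312)) (tt N6970 F61145) (tt N5584 F61146) (tt N5583 (iv D13925)) (tt N8537 D20245))
theorem Q6972 : ∀ i, i < 6972 → P i := stepQ 6971 Q6971 (allL N6971 (tt N6971 F61147) (tt N8527 (iv F87288)) (tt N8538 D20246) (tt N5584 (iv D13926)) (tt N8487 (iv F87111)) (tt N8534 (iv F87315)) (tt N5585 F61148) (tt N8536 (iv F87324)) (tt N5649 F61149) (tt N8539 D20247))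
theorem Q6973 : ∀ i, i < 6973 → P i := stepQ 6972 Q6972 (allL N6972 (tt N6972 F61150) (tt N8528 (iv F87291)) (tt N8211 (iv F85932)) (tt N8539 (iv F87335)) (tt N5588 F61151) (tt N8535 (iv F87319)) (tt N5586 F61152) (tt N8537 (iv F87329)) (tt N5621 F61153) (tt N5584 (iv D13927)))
theorem Q6974 : ∀ i, i < 6974 → P i := stepQ 6973 Q6973 (allL N6973 (tt N6973 F61154) (tt N8540 D20248) (tt N5585 (iv D13928)) (tt N8212 (iv F85937)) (tt N8489 (iv F87121)) (tt N6012 F61155) (tt N8538 (iv F87332)) (tt N6973 F61156) (tt N5651 F61157) (tt N8541 D20249))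
theorem Q6975 : ∀ i, i < 6975 → P i := stepQ 6974 Q6974 (allL N6974 (tt N6974 F61158) (tt N8530 (iv F87298)) (tt N8541 (iv F87341)) (tt N5586 F61159) (tt N8490 (iv F87127)) (tt N6013 F61160) (tt N8539 (iv F87336)) (tt N6974 F61161) (tt N8542 D20250) (tt N5585 (iv D13929)))
theorem Q6976 : ∀ i, i < 6976 → P i := stepQ 6975 Q6975 (allL N6975 (tt N6975 F61162) (tt N8531 (iv F87302)) (tt N8214 (iv F85948)) (tt N8491 (iv F87132)) (tt N8537 (iv F87327)) (tt N8407 (iv F86765)) (tt N6975 F61163) (tt N5588 F61164) (tt N5624 F61165) (tt N5587 (iv D13930)))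
theorem Q6977 : ∀ i, i < 6977 → P i := stepQ 6976 Q6976 (allL N6976 (tt N8215 (iv F85953)) (tt N5591 F61166) (tt N6976 F61167) (tt N8543 D20251) (tt N5589 (iv D13931)) (tt N6015 F61168) (tt N8544 D20252) (tt N6976 F61169) (tt N8545 D20253) (tt N8492 (iv F87140)))
theorem Q6978 : ∀ i, i < 6978 → P i := stepQ 6977 Q6977 (allL N6977 (tt N8216 (iv F85958)) (tt N5592 F61170) (tt N6977 F61171) (tt N6977 F61172) (tt N8544 (iv F87355)) (tt N8409 (iv F86774)) (tt N5589 (iv D13932)) (tt N8546 D20254) (tt N8547 D20255) (tt N8493 (iv F87144)))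
theorem Q6979 : ∀ i, i < 6979 → P i := stepQ 6978 Q6978 (allL N6978 (tt N8217 (iv F85962)) (tt N5593 F61173) (tt N6978 F61174) (tt N8521 (iv F202940)) (tt N8545 (iv F87358)) (tt N5590 F61175) (tt N8547 (iv F87367)) (tt N6978 F61176) (tt N5589 (iv D13933)) (tt N8548 D20257))
theorem Q6980 : ∀ i, i < 6980 → P i := stepQ 6979 Q6979 (allL N6979 (tt N8219 (iv F85971)) (tt N5595 F61180) (tt N6979 F61181) (tt N8522 (iv F202937)) (tt N5999 F202443) (tt N8548 (iv F87374)) (tt N8411 (iv F86784)) (tt N6979 F61183) (tt N8495 (iv F87156)) (tt N5590 (iv D13935)))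
theorem Q6981 : ∀ i, i < 6981 → P i := stepQ 6980 Q6980 (allL N6980 (tt N5601 F61184) (tt N8543 (iv F87349)) (tt N5654 F61185) (tt N5591 (iv D13936)) (tt N6980 F61186) (tt N6017 F61187) (tt N8549 D20261) (tt N6980 F61188) (tt N8550 D20262) (tt N6073 F203234))
theorem Q6982 : ∀ i, i < 6982 → P i := stepQ 6981 Q6981 (allL N6981 (tt N5602 F61189) (tt N8544 (iv F87353)) (tt N5596 F61190) (tt N8549 (iv F87389)) (tt N5592 F61191) (tt N8551 D20263) (tt N5591 (iv D13937)) (tt N8552 D20264) (tt N8553 D20265) (tt N8496 (iv F87166)))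
theorem Q6983 : ∀ i, i < 6983 → P i := stepQ 6982 Q6982 (allL N6982 (tt N5603 F61192) (tt N8545 (iv F87356)) (tt N5597 F61193) (tt N8554 D20266) (tt N5593 F61194) (tt N6019 F61195) (tt N8553 (iv F87406)) (tt N6982 F61196) (tt N5591 (iv D13938)) (tt N8555 D20267))
theorem Q6984 : ∀ i, i < 6984 → P i := stepQ 6983 Q6983 (allL N6983 (tt N5604 F61197) (tt N8546 (iv F87361)) (tt N5598 F61198) (tt N6983 F61199) (tt N8552 (iv F87401)) (tt N8415 (iv F86799)) (tt N6983 F61200) (tt N5592 (iv D13939)) (tt N8556 D20268) (tt N8498 (iv F87176)))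
theorem Q6985 : ∀ i, i < 6985 → P i := stepQ 6984 Q6984 (allL N6984 (tt N5605 F61201) (tt N8547 (iv F87365)) (tt N5599 F61202) (tt N8557 D20269) (tt N8553 (iv F87405)) (tt N8416 (iv F86802)) (tt N5593 F61203) (tt N8556 (iv F87418)) (tt N5592 (iv D13940)) (tt N8558 D20270))
theorem Q6986 : ∀ i, i < 6986 → P i := stepQ 6985 Q6985 (allL N6985 (tt N5606 F61204) (tt N8521 F203235) (tt N6985 F61205) (tt N5593 (iv D13941)) (tt N8559 D20271) (tt N5594 F61206) (tt N8557 (iv F87421)) (tt N6985 F61207) (tt N6985 F61208) (tt N8560 D20272))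
theorem Q6987 : ∀ i, i < 6987 → P i := stepQ 6986 Q6986 (allL N6986 (tt N5607 F61209) (tt N8548 (iv F87372)) (tt N5600 F61210) (tt N8560 (iv F87432)) (tt N8555 (iv F87412)) (tt N5595 F61211) (tt N8558 (iv F87425)) (tt N6986 F61212) (tt N8501 (iv F87188)) (tt N5593 (iv D13942)))
theorem Q6988 : ∀ i, i < 6988 → P i := stepQ 6987 Q6987 (allL N6987 (tt N5609 F61218) (tt N8522 F203236) (tt N6987 F61219) (tt N5595 F61220) (tt N8199 F203237) (tt N8560 (iv F87433)) (tt N8419 (iv F86819)) (tt N6987 F61221) (tt N8561 D20275) (tt N5594 (iv D13944)))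
theorem Q6989 : ∀ i, i < 6989 → P i := stepQ 6988 Q6988 (allL N6988 (tt N5610 F61222) (tt N6988 F61223) (tt N8551 (iv F87397)) (tt N5657 F61224) (tt N8420 (iv F86823)) (tt N5596 (iv D13945)) (tt N6023 F61225) (tt N8562 D20276) (tt N8563 D20277) (tt N8503 (iv F87200)))
theorem Q6990 : ∀ i, i < 6990 → P i := stepQ 6989 Q6989 (allL N6989 (tt N5611 F61226) (tt N6989 F61227) (tt N8552 (iv F87400)) (tt N5658 F61228) (tt N5598 F61229) (tt N8562 (iv F87452)) (tt N6989 F61230) (tt N5596 (iv D13946)) (tt N8564 D20278) (tt N8504 (iv F87206)))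
theorem Q6991 : ∀ i, i < 6991 → P i := stepQ 6990 Q6990 (allL N6990 (tt N5612 F61231) (tt N6990 F61232) (tt N8553 (iv F87404)) (tt N8565 D20279) (tt N5599 F61233) (tt N8563 (iv F87455)) (tt N5597 F61234) (tt N8564 (iv F87461)) (tt N5596 (iv D13947)) (tt N8566 D20280))
theorem Q6992 : ∀ i, i < 6992 → P i := stepQ 6991 Q6991 (allL N6991 (tt N5613 F61235) (tt N6991 F61236) (tt N8567 D20281) (tt N5597 (iv D13948)) (tt N6991 F61237) (tt N6026 F61238) (tt N8565 (iv F87465)) (tt N6991 F61239) (tt N5660 F61240) (tt N8568 D20282))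
theorem Q6993 : ∀ i, i < 6993 → P i := stepQ 6992 Q6992 (allL N6992 (tt N5614 F61241) (tt N6992 F61242) (tt N8555 (iv F87411)) (tt N8568 (iv F87478)) (tt N5600 F61243) (tt N6027 F61244) (tt N8566 (iv F87470)) (tt N6992 F61245) (tt N8506 (iv F87221)) (tt N5597 (iv D13949)))
theorem Q6994 : ∀ i, i < 6994 → P i := stepQ 6993 Q6993 (allL N6993 (tt N5615 F61246) (tt N6993 F61247) (tt N8556 (iv F87416)) (tt N6993 F61248) (tt N8564 (iv F87459)) (tt N8425 (iv F86845)) (tt N6993 F61249) (tt N5599 F61250) (tt N5598 (iv D13950)) (tt N8569 D20283))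
theorem Q6995 : ∀ i, i < 6995 → P i := stepQ 6994 Q6994 (allL N6994 (tt N5616 F61251) (tt N6994 F61252) (tt N8558 (iv F87424)) (tt N6994 F61253) (tt N8566 (iv F87469)) (tt N8426 (iv F86850)) (tt N5600 F61254) (tt N8569 (iv F87486)) (tt N8508 (iv F87229)) (tt N5599 (iv D13951)))
theorem Q6996 : ∀ i, i < 6996 → P i := stepQ 6995 Q6995 (allL N6995 (tt N8549 (iv F87387)) (tt N8236 (iv F86041)) (tt N5662 F61255) (tt N5602 F61256) (tt N6995 F61257) (tt N8570 D20284) (tt N5601 (iv D13952)) (tt N8571 D20285) (tt N8572 D20286) (tt N8509 (iv F87233)))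
theorem Q6997 : ∀ i, i < 6997 → P i := stepQ 6996 Q6996 (allL N6996 (tt N8550 (iv F87391)) (tt N8237 (iv F86045)) (tt N5663 F61258) (tt N8573 D20287) (tt N6996 F61259) (tt N6031 F61260) (tt N8572 (iv F87496)) (tt N6996 F61261) (tt N5601 (iv D13953)) (tt N8574 D20288))
theorem Q6998 : ∀ i, i < 6998 → P i := stepQ 6997 Q6997 (allL N6997 (tt N8551 (iv F87396)) (tt N8238 (iv F86050)) (tt N5610 F61262) (tt N8570 (iv F87488)) (tt N8429 (iv F86859)) (tt N5602 (iv D13954)) (tt N6032 F61263) (tt N8575 D20289) (tt N8576 D20290) (tt N8511 (iv F87240)))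
theorem Q6999 : ∀ i, i < 6999 → P i := stepQ 6998 Q6998 (allL N6998 (tt N8552 (iv F87399)) (tt N8239 (iv F86053)) (tt N5611 F61264) (tt N8571 (iv F87491)) (tt N5604 F61265) (tt N8575 (iv F87505)) (tt N6998 F61266) (tt N5602 (iv D13955)) (tt N8577 D20291) (tt N8512 (iv F87244)))
theorem Q7000 : ∀ i, i < 7000 → P i := stepQ 6999 Q6999 (allL N6999 (tt N8553 (iv F87403)) (tt N8240 (iv F86057)) (tt N5612 F61267) (tt N8578 D20292) (tt N5605 F61268) (tt N8576 (iv F87507)) (tt N5603 F61269) (tt N8577 (iv F87512)) (tt N5602 (iv D13956)) (tt N8579 D20293))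
theorem Q7001 : ∀ i, i < 7001 → P i := stepQ 7000 Q7000 (allL N7000 (tt N8554 (iv F87407)) (tt N8241 (iv F86061)) (tt N8580 D20294) (tt N5603 (iv D13957)) (tt N8581 D20295) (tt N6035 F61270) (tt N8578 (iv F87513)) (tt N7000 F61271) (tt N8573 (iv F87499)) (tt N8582 D20296))
theorem Q7002 : ∀ i, i < 7002 → P i := stepQ 7001 Q7001 (allL N7001 (tt N8555 (iv F87410)) (tt N8242 (iv F86064)) (tt N5614 F61272) (tt N8582 (iv F87522)) (tt N5607 F61273) (tt N6036 F61274) (tt N8579 (iv F87516)) (tt N7001 F61275) (tt N8515 (iv F87254)) (tt N5603 (iv D13958)))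
theorem Q7003 : ∀ i, i < 7003 → P i := stepQ 7002 Q7002 (allL N7002 (tt N8556 (iv F87415)) (tt N8243 (iv F86069)) (tt N5615 F61276) (tt N8583 D20297) (tt N8577 (iv F87510)) (tt N8434 (iv F86871)) (tt N7002 F61277) (tt N5605 F61278) (tt N5604 (iv D13959)) (tt N8584 D20298))
theorem Q7004 : ∀ i, i < 7004 → P i := stepQ 7003 Q7003 (allL N7003 (tt N8557 (iv F87419)) (tt N8244 (iv F86073)) (tt N7003 F61279) (tt N5605 (iv D13960)) (tt N8585 D20299) (tt N8435 (iv F86874)) (tt N5606 F61280) (tt N8583 (iv F87527)) (tt N7003 F61281) (tt N8586 D20300))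
theorem Q7005 : ∀ i, i < 7005 → P i := stepQ 7004 Q7004 (allL N7004 (tt N8558 (iv F87423)) (tt N8245 (iv F86076)) (tt N5616 F61282) (tt N8586 (iv F87536)) (tt N8579 (iv F87515)) (tt N8436 (iv F86878)) (tt N5607 F61283) (tt N8584 (iv F87531)) (tt N8518 (iv F87262)) (tt N5605 (iv D13961)))
theorem Q7006 : ∀ i, i < 7006 → P i := stepQ 7005 Q7005 (allL N7005 (tt N8559 (iv F87426)) (tt N8246 (iv F86079)) (tt N7005 F61284) (tt N8581 (iv F87520)) (tt N5606 (iv D13962)) (tt N8587 D20301) (tt N8585 (iv F87533)) (tt N7005 F61285) (tt N7005 F61286) (tt N8588 D20302))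
theorem Q7007 : ∀ i, i < 7007 → P i := stepQ 7006 Q7006 (allL N7006 (tt N8560 (iv F87430)) (tt N8247 (iv F86082)) (tt N7006 F61287) (tt N5607 F61288) (tt N8588 (iv F87543)) (tt N5609 F61289) (tt N8586 (iv F87537)) (tt N7006 F61290) (tt N8589 D20303) (tt N5606 (iv D13963)))
theorem Q7008 : ∀ i, i < 7008 → P i := stepQ 7007 Q7007 (allL N7007 (tt N8197 F203242) (tt N8248 (iv F86086)) (tt N7007 F61291) (tt N6042 F61292) (tt N8587 (iv F87539)) (tt N5608 (iv D13964)) (tt N8590 D20304) (tt N7007 F61293) (tt N7007 F61294) (tt N8591 D20305))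
theorem Q7009 : ∀ i, i < 7009 → P i := stepQ 7008 Q7008 (allL N7008 (tt N8199 F203243) (tt N8249 (iv F86090)) (tt N7008 F61295) (tt N6043 F61296) (tt N5609 F61297) (tt N8591 (iv F87554)) (tt N8440 (iv F86891)) (tt N7008 F61298) (tt N8592 D20306) (tt N5608 (iv D13965)))
theorem Q7010 : ∀ i, i < 7010 → P i := stepQ 7009 Q7009 (allL N7009 (tt N8561 (iv F87445)) (tt N8250 (iv F86094)) (tt N7009 F61299) (tt N8523 (iv F87274)) (tt N8592 (iv F87557)) (tt N8589 (iv F87546)) (tt N8441 (iv F86893)) (tt N7009 F61300) (tt N5609 (iv D13966)) (tt N7009 F61301))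
theorem Q7011 : ∀ i, i < 7011 → P i := stepQ 7010 Q7010 (allL N7010 (tt N8562 (iv F87449)) (tt N5617 F61302) (tt N8575 (iv F87504)) (tt N5669 F61303) (tt N8442 (iv F86897)) (tt N5611 F61304) (tt N8593 D20307) (tt N5610 (iv D13967)) (tt N8594 D20308) (tt N8524 (iv F87280)))
theorem Q7012 : ∀ i, i < 7012 → P i := stepQ 7011 Q7011 (allL N7011 (tt N8563 (iv F87453)) (tt N5618 F61305) (tt N8576 (iv F87506)) (tt N8595 D20309) (tt N8443 (iv F86900)) (tt N5612 F61306) (tt N6045 F61307) (tt N8594 (iv F87566)) (tt N5610 (iv D13968)) (tt N8596 D20310))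
theorem Q7013 : ∀ i, i < 7013 → P i := stepQ 7012 Q7012 (allL N7012 (tt N8564 (iv F87457)) (tt N5619 F61308) (tt N8577 (iv F87509)) (tt N8597 D20311) (tt N5615 F61309) (tt N8594 (iv F87565)) (tt N7012 F61310) (tt N5612 F61311) (tt N5611 (iv D13969)) (tt N8598 D20312))
theorem Q7014 : ∀ i, i < 7014 → P i := stepQ 7013 Q7013 (allL N7013 (tt N8565 (iv F87462)) (tt N5620 F61312) (tt N8599 D20313) (tt N5612 (iv D13970)) (tt N7013 F61313) (tt N8595 (iv F87568)) (tt N5613 F61314) (tt N8597 (iv F87577)) (tt N5672 F61315) (tt N8600 D20314))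
theorem Q7015 : ∀ i, i < 7015 → P i := stepQ 7014 Q7014 (allL N7014 (tt N8566 (iv F87467)) (tt N5621 F61316) (tt N8579 (iv F87514)) (tt N8600 (iv F87587)) (tt N5616 F61317) (tt N8596 (iv F87572)) (tt N5614 F61318) (tt N8598 (iv F87582)) (tt N8528 (iv F87294)) (tt N5612 (iv D13971)))
theorem Q7016 : ∀ i, i < 7016 → P i := stepQ 7015 Q7015 (allL N7015 (tt N8567 (iv F87471)) (tt N8601 D20315) (tt N5613 (iv D13972)) (tt N8580 (iv F87517)) (tt N7015 F61319) (tt N6049 F61320) (tt N8599 (iv F87584)) (tt N7015 F61321) (tt N5674 F61322) (tt N8602 D20316))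
theorem Q7017 : ∀ i, i < 7017 → P i := stepQ 7016 Q7016 (allL N7016 (tt N8568 (iv F87476)) (tt N5623 F61323) (tt N8602 (iv F87595)) (tt N5614 F61324) (tt N7016 F61325) (tt N6050 F61326) (tt N8600 (iv F87589)) (tt N7016 F61327) (tt N8603 D20317) (tt N5613 (iv D13973)))
theorem Q7018 : ∀ i, i < 7018 → P i := stepQ 7017 Q7017 (allL N7017 (tt N8569 (iv F87482)) (tt N5624 F61328) (tt N8584 (iv F87529)) (tt N7017 F61329) (tt N8598 (iv F87580)) (tt N8449 (iv F86922)) (tt N7017 F61330) (tt N5616 F61331) (tt N8531 (iv F87305)) (tt N5615 (iv D13974)))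
theorem Q7019 : ∀ i, i < 7019 → P i := stepQ 7018 Q7018 (allL N7018 (tt N7018 F61332) (tt N8593 (iv F87560)) (tt N8259 (iv F86124)) (tt N5677 F61333) (tt N8450 (iv F86926)) (tt N7018 F61334) (tt N5617 (iv D13975)) (tt N6052 F61335) (tt N8604 D20318) (tt N8532 (iv F87310)))
theorem Q7020 : ∀ i, i < 7020 → P i := stepQ 7019 Q7019 (allL N7019 (tt N7019 F61336) (tt N8594 (iv F87564)) (tt N8260 (iv F86129)) (tt N8605 D20319) (tt N8451 (iv F86929)) (tt N5619 F61337) (tt N8604 (iv F87606)) (tt N5618 F61338) (tt N5617 (iv D13976)) (tt N8606 D20320))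
theorem Q7021 : ∀ i, i < 7021 → P i := stepQ 7020 Q7020 (allL N7020 (tt N7020 F61339) (tt N8595 (iv F87567)) (tt N8607 D20321) (tt N5618 (iv D13977)) (tt N8608 D20322) (tt N5620 F61340) (tt N6054 F61341) (tt N8605 (iv F87610)) (tt N5679 F61342) (tt N8609 D20323))
theorem Q7022 : ∀ i, i < 7022 → P i := stepQ 7021 Q7021 (allL N7021 (tt N7021 F61343) (tt N8596 (iv F87571)) (tt N8262 (iv F86137)) (tt N8609 (iv F87624)) (tt N8453 (iv F86937)) (tt N5621 F61344) (tt N6055 F61345) (tt N8606 (iv F87614)) (tt N8535 (iv F87321)) (tt N5618 (iv D13978)))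
theorem Q7023 : ∀ i, i < 7023 → P i := stepQ 7022 Q7022 (allL N7022 (tt N7022 F61346) (tt N8597 (iv F87574)) (tt N8610 D20324) (tt N5619 (iv D13979)) (tt N7022 F61347) (tt N8605 (iv F87609)) (tt N7022 F61348) (tt N5620 F61349) (tt N5681 F61350) (tt N8611 D20325))
theorem Q7024 : ∀ i, i < 7024 → P i := stepQ 7023 Q7023 (allL N7023 (tt N7023 F61351) (tt N8598 (iv F87579)) (tt N8264 (iv F86145)) (tt N8611 (iv F87633)) (tt N5624 F61352) (tt N8606 (iv F87613)) (tt N7023 F61353) (tt N5621 F61354) (tt N8537 (iv F87330)) (tt N5619 (iv D13980)))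
theorem Q7025 : ∀ i, i < 7025 → P i := stepQ 7024 Q7024 (allL N7024 (tt N7024 F61355) (tt N8612 D20326) (tt N5620 (iv D13981)) (tt N8265 (iv F86150)) (tt N7024 F61356) (tt N8607 (iv F87616)) (tt N5622 F61357) (tt N8610 (iv F87630)) (tt N5683 F61358) (tt N8613 D20327))
theorem Q7026 : ∀ i, i < 7026 → P i := stepQ 7025 Q7025 (allL N7025 (tt N7025 F61359) (tt N8600 (iv F87586)) (tt N8613 (iv F87641)) (tt N5621 F61360) (tt N7025 F61361) (tt N8609 (iv F87625)) (tt N5623 F61362) (tt N8611 (iv F87636)) (tt N8614 D20328) (tt N5620 (iv D13982)))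
theorem Q7027 : ∀ i, i < 7027 → P i := stepQ 7026 Q7026 (allL N7026 (tt N8615 D20329) (tt N5622 (iv D13983)) (tt N8601 (iv F87590)) (tt N8267 (iv F86156)) (tt N7026 F61363) (tt N6060 F61364) (tt N8612 (iv F87638)) (tt N7026 F61365) (tt N5685 F61366) (tt N8616 D20330))
theorem Q7028 : ∀ i, i < 7028 → P i := stepQ 7027 Q7027 (allL N7027 (tt N7027 F61367) (tt N8616 (iv F87653)) (tt N5623 F61368) (tt N8268 (iv F86162)) (tt N7027 F61369) (tt N6061 F61370) (tt N8613 (iv F87643)) (tt N7027 F61371) (tt N8617 D20331) (tt N5622 (iv D13984)))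
theorem Q7029 : ∀ i, i < 7029 → P i := stepQ 7028 Q7028 (allL N7028 (tt N7028 F61372) (tt N8603 (iv F87599)) (tt N8617 (iv F87658)) (tt N8542 (iv F87345)) (tt N7028 F61373) (tt N6062 F61374) (tt N8614 (iv F87646)) (tt N7028 F61375) (tt N5623 (iv D13985)) (tt N5687 F61376))
theorem Q7030 : ∀ i, i < 7030 → P i := stepQ 7029 Q7029 (allL N7029 (tt N7029 F61472) (tt N6458 F203340) (tt N5631 F61473) (tt N7029 F61474) (tt N7029 F61475) (tt N5626 (iv D14004)) (tt N7029 F61476) (tt N6459 F203341) (tt N6534 F203339) (tt N7029 F61477))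
theorem Q7031 : ∀ i, i < 7031 → P i := stepQ 7030 Q7030 (allL N7030 (tt N7030 F61478) (tt N6457 F203344) (tt N5632 F61479) (tt N7030 F61480) (tt N5627 F61481) (tt N6459 F203345) (tt N7030 F61482) (tt N5626 (iv D14005)) (tt N6535 F203343) (tt N7030 F61483))
theorem Q7032 : ∀ i, i < 7032 → P i := stepQ 7031 Q7031 (allL N7031 (tt N6451 F203224) (tt N5631 F61608) (tt N6441 F203225) (tt N8478 (iv F87067)) (tt N7031 F61609) (tt N5629 (iv D14032)) (tt N7031 F61610) (tt N6455 F203219) (tt N6439 F203226) (tt N7031 F61611))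
theorem Q7033 : ∀ i, i < 7033 → P i := stepQ 7032 Q7032 (allL N7032 (tt N6452 F203161) (tt N5632 F61612) (tt N6442 F203162) (tt N8479 (iv F87071)) (tt N5630 F61613) (tt N6455 F203153) (tt N7032 F61614) (tt N5629 (iv D14033)) (tt N6440 F203163) (tt N7032 F61615))
theorem Q7034 : ∀ i, i < 7034 → P i := stepQ 7033 Q7033 (allL N7033 (tt N7033 F61638) (tt N6455 F203347) (tt N6459 F203348) (tt N8484 (iv F87098)) (tt N7033 F61639) (tt N5632 F61640) (tt N6456 F203349) (tt N5631 (iv D14039)) (tt N6536 F203346) (tt N7033 F61641))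
theorem Q7035 : ∀ i, i < 7035 → P i := stepQ 7034 Q7034 (allL N7034 (tt N7034 F61642) (tt N6439 F203220) (tt N6534 F203221) (tt N8618 D20414) (tt N7034 F61643) (tt N5633 F61644) (tt N7034 F61645) (tt N6536 F203222) (tt N5631 (iv D14040)) (tt N6463 F203223))
theorem Q7036 : ∀ i, i < 7036 → P i := stepQ 7035 Q7035 (allL N7035 (tt N7035 F61646) (tt N6440 F203157) (tt N6535 F203158) (tt N8619 D20416) (tt N5635 F61647) (tt N6536 F203159) (tt N7035 F61648) (tt N5633 F61649) (tt N5632 (iv D14041)) (tt N6464 F203160))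
theorem Q7037 : ∀ i, i < 7037 → P i := stepQ 7036 Q7036 (allL N7036 (tt N7036 F61650) (tt N6437 F203190) (tt N8620 D20418) (tt N5633 (iv D14042)) (tt N5649 F61651) (tt N8618 (iv F88055)) (tt N5634 F61652) (tt N8619 (iv F88065)) (tt N8487 (iv F87113)) (tt N6461 (iv F203549)))
theorem Q7038 : ∀ i, i < 7038 → P i := stepQ 7037 Q7037 (allL N7037 (tt N7037 F61657) (tt N8621 D20420) (tt N5634 (iv D14044)) (tt N6532 F202571) (tt N5651 F61658) (tt N7037 F61659) (tt N8620 (iv F88073)) (tt N7037 F61660) (tt N8489 (iv F87124)) (tt N6460 (iv F202961)))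
theorem Q7039 : ∀ i, i < 7039 → P i := stepQ 7038 Q7038 (allL N7038 (tt N5641 F61743) (tt N7038 F61744) (tt N6070 F203940) (tt N8503 (iv F87198)) (tt N7038 F61745) (tt N5636 (iv D14061)) (tt N6063 F61746) (tt N8622 D20448) (tt N6067 F203941) (tt N5657 F61747))
theorem Q7040 : ∀ i, i < 7040 → P i := stepQ 7039 Q7039 (allL N7039 (tt N5642 F61748) (tt N7039 F61749) (tt N6071 F204037) (tt N8504 (iv F87203)) (tt N5637 F61750) (tt N8622 (iv F88216)) (tt N7039 F61751) (tt N5636 (iv D14062)) (tt N6068 F204038) (tt N5658 F61752))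
theorem Q7041 : ∀ i, i < 7041 → P i := stepQ 7040 Q7040 (allL N7040 (tt N6072 (iv F203776)) (tt N7040 F61777) (tt N8509 (iv F87230)) (tt N5639 F61778) (tt N7040 F61779) (tt N8623 D20456) (tt N5638 (iv D14068)) (tt N8624 D20457) (tt N8625 D20458) (tt N5662 F61780))
theorem Q7042 : ∀ i, i < 7042 → P i := stepQ 7041 Q7041 (allL N7041 (tt N6003 F203362) (tt N7041 F61781) (tt N8510 (iv F87234)) (tt N5988 F203363) (tt N7041 F61782) (tt N6066 F61783) (tt N8625 (iv F88261)) (tt N7041 F61784) (tt N5638 (iv D14069)) (tt N8626 D20460))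
theorem Q7043 : ∀ i, i < 7043 → P i := stepQ 7042 Q7042 (allL N7042 (tt N6070 F203942) (tt N7042 F61785) (tt N5641 F61786) (tt N8623 (iv F88251)) (tt N7042 F61787) (tt N5639 (iv D14070)) (tt N6067 F61788) (tt N8627 D20461) (tt N6063 F203943) (tt N5664 F61789))
theorem Q7044 : ∀ i, i < 7044 → P i := stepQ 7043 Q7043 (allL N7043 (tt N6071 F203914) (tt N7043 F61790) (tt N5642 F61791) (tt N8624 (iv F88255)) (tt N5640 F61792) (tt N8627 (iv F88274)) (tt N7043 F61793) (tt N5639 (iv D14071)) (tt N6064 F203915) (tt N5665 F61794))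
theorem Q7045 : ∀ i, i < 7045 → P i := stepQ 7044 Q7044 (allL N7044 (tt N8622 (iv F88213)) (tt N5646 F61843) (tt N8627 (iv F88272)) (tt N8524 (iv F87278)) (tt N7044 F61844) (tt N5642 F61845) (tt N8628 D20479) (tt N5641 (iv D14083)) (tt N8629 D20480) (tt N5669 F61846))
theorem Q7046 : ∀ i, i < 7046 → P i := stepQ 7045 Q7045 (allL N7045 (tt N6067 F203938) (tt N5647 F61847) (tt N6063 F203939) (tt N8630 D20481) (tt N7045 F61848) (tt N5643 F61849) (tt N6070 F61850) (tt N8629 (iv F88355)) (tt N5641 (iv D14084)) (tt N6087 (iv F204095)))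
theorem Q7047 : ∀ i, i < 7047 → P i := stepQ 7046 Q7046 (allL N7046 (tt N6068 F203907) (tt N5648 F61851) (tt N6064 F203908) (tt N8631 D20483) (tt N5645 F61852) (tt N8629 (iv F88354)) (tt N7046 F61853) (tt N5643 F61854) (tt N5642 (iv D14085)) (tt N6088 F203909))
theorem Q7048 : ∀ i, i < 7048 → P i := stepQ 7047 Q7047 (allL N7047 (tt N6065 F203180) (tt N5649 F61855) (tt N8632 D20485) (tt N5643 (iv D14086)) (tt N6437 F203181) (tt N8630 (iv F88357)) (tt N5644 F61856) (tt N8631 (iv F88366)) (tt N8527 (iv F87290)) (tt N6085 (iv F203534)))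
theorem Q7049 : ∀ i, i < 7049 → P i := stepQ 7048 Q7048 (allL N7048 (tt N5992 F202439) (tt N8633 D20487) (tt N5644 (iv D14088)) (tt N5983 F202440) (tt N6408 F202441) (tt N6073 F61861) (tt N8632 (iv F88372)) (tt N7048 F61862) (tt N8529 (iv F87297)) (tt N6017 (iv F202791)))
theorem Q7050 : ∀ i, i < 7050 → P i := stepQ 7049 Q7049 (allL N7049 (tt N7049 F61872) (tt N8628 (iv F88347)) (tt N7049 F61873) (tt N8532 (iv F87307)) (tt N7049 F61874) (tt N7049 F61875) (tt N5646 (iv D14091)) (tt N6074 F61876) (tt N8634 D20490) (tt N5677 F61877))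
theorem Q7051 : ∀ i, i < 7051 → P i := stepQ 7050 Q7050 (allL N7050 (tt N7050 F61878) (tt N8629 (iv F88352)) (tt N7050 F61879) (tt N8635 D20491) (tt N7050 F61880) (tt N5648 F61881) (tt N8634 (iv F88390)) (tt N5647 F61882) (tt N5646 (iv D14092)) (tt N8636 D20492))
theorem Q7052 : ∀ i, i < 7052 → P i := stepQ 7051 Q7051 (allL N7051 (tt N7051 F61883) (tt N8630 (iv F88356)) (tt N8637 D20493) (tt N5647 (iv D14093)) (tt N8638 D20494) (tt N5649 F61884) (tt N6076 F61885) (tt N8635 (iv F88394)) (tt N8534 (iv F87317)) (tt N8639 D20495))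
theorem Q7053 : ∀ i, i < 7053 → P i := stepQ 7052 Q7052 (allL N7052 (tt N7052 F61886) (tt N6087 (iv F204094)) (tt N7052 F61887) (tt N8639 (iv F88409)) (tt N7052 F61888) (tt N5650 F61889) (tt N6077 F61890) (tt N8636 (iv F88399)) (tt N5680 F61891) (tt N5647 (iv D14094)))
theorem Q7054 : ∀ i, i < 7054 → P i := stepQ 7053 Q7053 (allL N7053 (tt N7053 F61892) (tt N8631 (iv F88364)) (tt N8640 D20496) (tt N5648 (iv D14095)) (tt N8619 (iv F88063)) (tt N8635 (iv F88393)) (tt N7053 F61893) (tt N5649 F61894) (tt N8536 (iv F87325)) (tt N8641 D20497))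
theorem Q7055 : ∀ i, i < 7055 → P i := stepQ 7054 Q7054 (allL N7054 (tt N7054 F61895) (tt N6088 F203901) (tt N7054 F61896) (tt N8641 (iv F88417)) (tt N5653 F61897) (tt N8636 (iv F88398)) (tt N7054 F61898) (tt N5650 F61899) (tt N5682 F61900) (tt N5648 (iv D14096)))
theorem Q7056 : ∀ i, i < 7056 → P i := stepQ 7055 Q7055 (allL N7055 (tt N7055 F61901) (tt N8642 D20498) (tt N5649 (iv D14097)) (tt N7055 F61902) (tt N8620 (iv F88072)) (tt N8637 (iv F88403)) (tt N5651 F61903) (tt N8640 (iv F88415)) (tt N8538 (iv F87333)) (tt N8643 D20499))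
theorem Q7057 : ∀ i, i < 7057 → P i := stepQ 7056 Q7056 (allL N7056 (tt N7056 F61904) (tt N6085 F203892) (tt N8643 (iv F88423)) (tt N5650 F61905) (tt N6461 F203893) (tt N8639 (iv F88410)) (tt N5652 F61906) (tt N8641 (iv F88419)) (tt N8644 D20500) (tt N5649 (iv D14098)))
theorem Q7058 : ∀ i, i < 7058 → P i := stepQ 7057 Q7057 (allL N7057 (tt N8645 D20501) (tt N5651 (iv D14099)) (tt N8633 (iv F88376)) (tt N7057 F61907) (tt N8621 (iv F88078)) (tt N6082 F61908) (tt N8642 (iv F88421)) (tt N7057 F61909) (tt N8540 (iv F87339)) (tt N8646 D20502))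
theorem Q7059 : ∀ i, i < 7059 → P i := stepQ 7058 Q7058 (allL N7058 (tt N7058 F61910) (tt N8646 (iv F88433)) (tt N5652 F61911) (tt N7058 F61912) (tt N6460 F203392) (tt N6083 F61913) (tt N8643 (iv F88425)) (tt N7058 F61914) (tt N8647 D20503) (tt N5651 (iv D14100)))
theorem Q7060 : ∀ i, i < 7060 → P i := stepQ 7059 Q7059 (allL N7059 (tt N7059 F61915) (tt N6086 F203985) (tt N8647 (iv F88438)) (tt N5687 F61916) (tt N6462 F203986) (tt N6084 F61917) (tt N8644 (iv F88428)) (tt N7059 F61918) (tt N5652 (iv D14101)) (tt N8542 (iv F87348)))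
theorem Q7061 : ∀ i, i < 7061 → P i := stepQ 7060 Q7060 (allL N7060 (tt N5662 F61968) (tt N6081 F203980) (tt N8549 (iv F87388)) (tt N5655 F61969) (tt N7060 F61970) (tt N8648 D20520) (tt N5654 (iv D14111)) (tt N8649 D20521) (tt N8650 D20522) (tt N6072 F203981))
theorem Q7062 : ∀ i, i < 7062 → P i := stepQ 7061 Q7061 (allL N7061 (tt N5663 F61971) (tt N6084 F203983) (tt N8550 (iv F87392)) (tt N6114 (iv F204191)) (tt N7061 F61972) (tt N6086 F61973) (tt N8650 (iv F88534)) (tt N7061 F61974) (tt N5654 (iv D14112)) (tt N8651 D20524))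
theorem Q7063 : ∀ i, i < 7063 → P i := stepQ 7062 Q7062 (allL N7062 (tt N5664 F61975) (tt N6077 F204039) (tt N5657 F61976) (tt N8648 (iv F88526)) (tt N7062 F61977) (tt N5655 (iv D14113)) (tt N6087 F61978) (tt N8652 D20525) (tt N6107 (iv F204189)) (tt N6070 F204040))
theorem Q7064 : ∀ i, i < 7064 → P i := stepQ 7063 Q7063 (allL N7063 (tt N5665 F61979) (tt N6079 F204042) (tt N5658 F61980) (tt N8649 (iv F88529)) (tt N5656 F61981) (tt N8652 (iv F88546)) (tt N7063 F61982) (tt N5655 (iv D14114)) (tt N6109 (iv F204117)) (tt N6071 F204043))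
theorem Q7065 : ∀ i, i < 7065 → P i := stepQ 7064 Q7064 (allL N7064 (tt N5669 F62025) (tt N7064 F62026) (tt N8652 (iv F88544)) (tt N8562 (iv F87451)) (tt N7064 F62027) (tt N5658 F62028) (tt N8653 D20539) (tt N5657 (iv D14124)) (tt N8654 D20540) (tt N8622 (iv F88217)))
theorem Q7066 : ∀ i, i < 7066 → P i := stepQ 7065 Q7065 (allL N7065 (tt N5670 F62029) (tt N7065 F62030) (tt N6107 F204306) (tt N8655 D20541) (tt N7065 F62031) (tt N5659 F62032) (tt N6090 F62033) (tt N8654 (iv F88614)) (tt N5657 (iv D14125)) (tt N6100 F204307))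
theorem Q7067 : ∀ i, i < 7067 → P i := stepQ 7066 Q7066 (allL N7066 (tt N5671 F62034) (tt N7066 F62035) (tt N6109 (iv F204116)) (tt N8656 D20543) (tt N5661 F62036) (tt N8654 (iv F88613)) (tt N7066 F62037) (tt N5659 F62038) (tt N5658 (iv D14126)) (tt N6101 F204072))
theorem Q7068 : ∀ i, i < 7068 → P i := stepQ 7067 Q7067 (allL N7067 (tt N5672 F62039) (tt N7067 F62040) (tt N8657 D20545) (tt N5659 (iv D14127)) (tt N7067 F62041) (tt N8655 (iv F88617)) (tt N5660 F62042) (tt N8656 (iv F88628)) (tt N8565 (iv F87466)) (tt N6102 F204351))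
theorem Q7069 : ∀ i, i < 7069 → P i := stepQ 7068 Q7068 (allL N7068 (tt N5674 F62047) (tt N8658 D20547) (tt N5660 (iv D14129)) (tt N6113 F204352) (tt N7068 F62048) (tt N6093 F62049) (tt N8657 (iv F88636)) (tt N7068 F62050) (tt N8567 (iv F87475)) (tt N6103 F204353))
theorem Q7070 : ∀ i, i < 7070 → P i := stepQ 7069 Q7069 (allL N7069 (tt N8648 (iv F88525)) (tt N7069 F62063) (tt N8570 (iv F87487)) (tt N5664 F62064) (tt N8659 D20550) (tt N5662 (iv D14132)) (tt N6094 F62065) (tt N8660 D20551) (tt N8661 D20552) (tt N8623 (iv F88253)))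
theorem Q7071 : ∀ i, i < 7071 → P i := stepQ 7070 Q7070 (allL N7070 (tt N8649 (iv F88528)) (tt N7070 F62066) (tt N8571 (iv F87490)) (tt N5665 F62067) (tt N7070 F62068) (tt N8660 (iv F88662)) (tt N7070 F62069) (tt N5662 (iv D14133)) (tt N8662 D20553) (tt N8624 (iv F88258)))
theorem Q7072 : ∀ i, i < 7072 → P i := stepQ 7071 Q7071 (allL N7071 (tt N8650 (iv F88532)) (tt N7071 F62070) (tt N8572 (iv F87494)) (tt N8663 D20554) (tt N7071 F62071) (tt N8661 (iv F88664)) (tt N5663 F62072) (tt N8662 (iv F88669)) (tt N5662 (iv D14134)) (tt N8664 D20555))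
theorem Q7073 : ∀ i, i < 7073 → P i := stepQ 7072 Q7072 (allL N7072 (tt N6114 (iv F204190)) (tt N7072 F62073) (tt N8665 D20556) (tt N5663 (iv D14135)) (tt N6274 (iv F204214)) (tt N6097 F62074) (tt N8663 (iv F88671)) (tt N7072 F62075) (tt N5667 F62076) (tt N8666 D20558))
theorem Q7074 : ∀ i, i < 7074 → P i := stepQ 7073 Q7073 (allL N7073 (tt N8651 (iv F88539)) (tt N7073 F62077) (tt N8574 (iv F87500)) (tt N8666 (iv F88685)) (tt N7073 F62078) (tt N6098 F62079) (tt N8664 (iv F88675)) (tt N7073 F62080) (tt N8626 (iv F88270)) (tt N5663 (iv D14136)))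
theorem Q7075 : ∀ i, i < 7075 → P i := stepQ 7074 Q7074 (allL N7074 (tt N8652 (iv F88543)) (tt N7074 F62081) (tt N5669 F62082) (tt N8660 (iv F88661)) (tt N7074 F62083) (tt N5665 F62084) (tt N8667 D20559) (tt N5664 (iv D14137)) (tt N8668 D20560) (tt N8627 (iv F88275)))
theorem Q7076 : ∀ i, i < 7076 → P i := stepQ 7075 Q7075 (allL N7075 (tt N6107 F204308) (tt N7075 F62085) (tt N5670 F62086) (tt N8669 D20561) (tt N7075 F62087) (tt N5666 F62088) (tt N6100 F62089) (tt N8668 (iv F88697)) (tt N5664 (iv D14138)) (tt N6090 F204309))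
theorem Q7077 : ∀ i, i < 7077 → P i := stepQ 7076 Q7076 (allL N7076 (tt N6109 (iv F204115)) (tt N7076 F62090) (tt N5671 F62091) (tt N8670 D20563) (tt N5668 F62092) (tt N8668 (iv F88696)) (tt N7076 F62093) (tt N5666 F62094) (tt N5665 (iv D14139)) (tt N6091 F203913))
theorem Q7078 : ∀ i, i < 7078 → P i := stepQ 7077 Q7077 (allL N7077 (tt N6111 F204298) (tt N7077 F62095) (tt N8671 D20565) (tt N5666 (iv D14140)) (tt N6271 (iv F204385)) (tt N8669 (iv F88699)) (tt N5667 F62096) (tt N8670 (iv F88708)) (tt N8663 (iv F88672)) (tt N6092 F204299))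
theorem Q7079 : ∀ i, i < 7079 → P i := stepQ 7078 Q7078 (allL N7078 (tt N6113 F204358) (tt N8672 D20568) (tt N5667 (iv D14142)) (tt N5674 F62101) (tt N6273 (iv F204464)) (tt N6103 F62102) (tt N8671 (iv F88715)) (tt N7078 F62103) (tt N8665 (iv F88678)) (tt N6093 F204359))
theorem Q7080 : ∀ i, i < 7080 → P i := stepQ 7079 Q7079 (allL N7079 (tt N8653 (iv F88605)) (tt N5677 F62142) (tt N8667 (iv F88689)) (tt N8593 (iv F87561)) (tt N7079 F62143) (tt N7079 F62144) (tt N5669 (iv D14151)) (tt N6104 F62145) (tt N8673 D20579) (tt N8628 (iv F88351)))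
theorem Q7081 : ∀ i, i < 7081 → P i := stepQ 7080 Q7080 (allL N7080 (tt N8654 (iv F88610)) (tt N5678 F62146) (tt N8668 (iv F88694)) (tt N8674 D20580) (tt N7080 F62147) (tt N5671 F62148) (tt N8673 (iv F88776)) (tt N5670 F62149) (tt N5669 (iv D14152)) (tt N8675 D20581))
theorem Q7082 : ∀ i, i < 7082 → P i := stepQ 7081 Q7081 (allL N7081 (tt N8655 (iv F88615)) (tt N5679 F62150) (tt N8676 D20582) (tt N5670 (iv D14153)) (tt N8677 D20583) (tt N5672 F62151) (tt N6106 F62152) (tt N8674 (iv F88780)) (tt N8595 (iv F87570)) (tt N8678 D20584))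
theorem Q7083 : ∀ i, i < 7083 → P i := stepQ 7082 Q7082 (allL N7082 (tt N6100 F204302) (tt N5680 F62153) (tt N6090 F204303) (tt N8678 (iv F88792)) (tt N7082 F62154) (tt N5673 F62155) (tt N6107 F62156) (tt N8675 (iv F88784)) (tt N6087 F204304) (tt N5670 (iv D14154)))
theorem Q7084 : ∀ i, i < 7084 → P i := stepQ 7083 Q7083 (allL N7083 (tt N8656 (iv F88624)) (tt N5681 F62157) (tt N8679 D20585) (tt N5671 (iv D14155)) (tt N7083 F62158) (tt N8674 (iv F88779)) (tt N7083 F62159) (tt N5672 F62160) (tt N8597 (iv F87578)) (tt N8680 D20586))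
theorem Q7085 : ∀ i, i < 7085 → P i := stepQ 7084 Q7084 (allL N7084 (tt N6101 F203904) (tt N5682 F62161) (tt N6091 F203905) (tt N8680 (iv F88799)) (tt N5676 F62162) (tt N8675 (iv F88783)) (tt N7084 F62163) (tt N5673 F62164) (tt N6088 F203906) (tt N5671 (iv D14156)))
theorem Q7086 : ∀ i, i < 7086 → P i := stepQ 7085 Q7085 (allL N7085 (tt N8657 (iv F88634)) (tt N8681 D20587) (tt N5672 (iv D14157)) (tt N8671 (iv F88714)) (tt N7085 F62165) (tt N8676 (iv F88785)) (tt N5674 F62166) (tt N8679 (iv F88797)) (tt N8599 (iv F87585)) (tt N8682 D20588))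
theorem Q7087 : ∀ i, i < 7087 → P i := stepQ 7086 Q7086 (allL N7086 (tt N6102 F204305) (tt N5684 F62167) (tt N8682 (iv F88806)) (tt N5673 F62168) (tt N7086 F62169) (tt N8678 (iv F88793)) (tt N5675 F62170) (tt N8680 (iv F88802)) (tt N8683 D20589) (tt N5672 (iv D14158)))
theorem Q7088 : ∀ i, i < 7088 → P i := stepQ 7087 Q7087 (allL N7087 (tt N8684 D20590) (tt N5674 (iv D14159)) (tt N5685 F62171) (tt N8672 (iv F88723)) (tt N7087 F62172) (tt N6112 F62173) (tt N8681 (iv F88805)) (tt N7087 F62174) (tt N8601 (iv F87594)) (tt N8685 D20591))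
theorem Q7089 : ∀ i, i < 7089 → P i := stepQ 7088 Q7088 (allL N7088 (tt N6103 F204356) (tt N8685 (iv F88816)) (tt N5675 F62175) (tt N6093 F204357) (tt N7088 F62176) (tt N6113 F62177) (tt N8682 (iv F88808)) (tt N7088 F62178) (tt N8686 D20592) (tt N5674 (iv D14160)))
theorem Q7090 : ∀ i, i < 7090 → P i := stepQ 7089 Q7089 (allL N7089 (tt N6097 F203987) (tt N5687 F62179) (tt N8686 (iv F88821)) (tt N6086 F203988) (tt N7089 F62180) (tt N6114 F62181) (tt N8683 (iv F88811)) (tt N7089 F62182) (tt N5675 (iv D14161)) (tt N8603 (iv F87603)))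
theorem Q7091 : ∀ i, i < 7091 → P i := stepQ 7090 Q7090 (allL N7090 (tt N7090 F62183) (tt N8673 (iv F88773)) (tt N7090 F62184) (tt N8687 D20593) (tt N7090 F62185) (tt N7090 F62186) (tt N5678 F62187) (tt N6115 F62188) (tt N5677 (iv D14162)) (tt N8688 D20594))
theorem Q7092 : ∀ i, i < 7092 → P i := stepQ 7091 Q7091 (allL N7091 (tt N7091 F62189) (tt N8674 (iv F88778)) (tt N8689 D20595) (tt N5678 (iv D14163)) (tt N8690 D20596) (tt N5681 F62190) (tt N8687 (iv F88827)) (tt N5679 F62191) (tt N8605 (iv F87611)) (tt N8691 D20597))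
theorem Q7093 : ∀ i, i < 7093 → P i := stepQ 7092 Q7092 (allL N7092 (tt N7092 F62192) (tt N8675 (iv F88781)) (tt N7092 F62193) (tt N8691 (iv F88844)) (tt N7092 F62194) (tt N5682 F62195) (tt N8688 (iv F88833)) (tt N5680 F62196) (tt N8636 (iv F88400)) (tt N5678 (iv D14164)))
theorem Q7094 : ∀ i, i < 7094 → P i := stepQ 7093 Q7093 (allL N7093 (tt N7093 F62197) (tt N8692 D20598) (tt N5679 (iv D14165)) (tt N7093 F62198) (tt N8693 D20599) (tt N5683 F62199) (tt N6118 F62200) (tt N8689 (iv F88838)) (tt N8607 (iv F87618)) (tt N8694 D20600))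
theorem Q7095 : ∀ i, i < 7095 → P i := stepQ 7094 Q7094 (allL N7094 (tt N7094 F62201) (tt N8677 (iv F88787)) (tt N8693 (iv F88851)) (tt N7094 F62202) (tt N5679 (iv D14166)) (tt N7094 F62203) (tt N6119 F62204) (tt N8690 (iv F88842)) (tt N8608 (iv F87622)) (tt N8695 D20601))
theorem Q7096 : ∀ i, i < 7096 → P i := stepQ 7095 Q7095 (allL N7095 (tt N7095 F62205) (tt N8678 (iv F88791)) (tt N8694 (iv F88855)) (tt N5680 F62206) (tt N8695 (iv F88861)) (tt N5684 F62207) (tt N6120 F62208) (tt N8691 (iv F88846)) (tt N8696 D20602) (tt N5679 (iv D14167)))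
theorem Q7097 : ∀ i, i < 7097 → P i := stepQ 7096 Q7096 (allL N7096 (tt N7096 F62209) (tt N8697 D20603) (tt N5681 (iv D14168)) (tt N7096 F62210) (tt N7096 F62211) (tt N8689 (iv F88837)) (tt N7096 F62212) (tt N5683 F62213) (tt N8610 (iv F87631)) (tt N8698 D20604))
theorem Q7098 : ∀ i, i < 7098 → P i := stepQ 7097 Q7097 (allL N7097 (tt N7097 F62214) (tt N8680 (iv F88798)) (tt N8698 (iv F88872)) (tt N5682 F62215) (tt N7097 F62216) (tt N8691 (iv F88845)) (tt N7097 F62217) (tt N5684 F62218) (tt N8699 D20605) (tt N5681 (iv D14169)))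
theorem Q7099 : ∀ i, i < 7099 → P i := stepQ 7098 Q7098 (allL N7098 (tt N8700 D20606) (tt N5683 (iv D14170)) (tt N8681 (iv F88803)) (tt N7098 F62219) (tt N7098 F62220) (tt N8692 (iv F88848)) (tt N5685 F62221) (tt N8697 (iv F88870)) (tt N8612 (iv F87639)) (tt N8701 D20607))
theorem Q7100 : ∀ i, i < 7100 → P i := stepQ 7099 Q7099 (allL N7099 (tt N7099 F62222) (tt N8701 (iv F88885)) (tt N5684 F62223) (tt N7099 F62224) (tt N7099 F62225) (tt N8694 (iv F88857)) (tt N5686 F62226) (tt N8698 (iv F88876)) (tt N8702 D20608) (tt N5683 (iv D14171)))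
theorem Q7101 : ∀ i, i < 7101 → P i := stepQ 7100 Q7100 (allL N7100 (tt N7100 F62227) (tt N8683 (iv F88809)) (tt N8702 (iv F88890)) (tt N8644 (iv F88427)) (tt N7100 F62228) (tt N8696 (iv F88865)) (tt N5687 F62229) (tt N8699 (iv F88880)) (tt N5684 (iv D14172)) (tt N8614 (iv F87647)))
theorem Q7102 : ∀ i, i < 7102 → P i := stepQ 7101 Q7101 (allL N7101 (tt N5685 (iv D14173)) (tt N7101 F62230) (tt N8684 (iv F88812)) (tt N7101 F62231) (tt N7101 F62232) (tt N6126 F62233) (tt N8700 (iv F88884)) (tt N7101 F62234) (tt N8615 (iv F87652)) (tt N8703 D20609))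
theorem Q7103 : ∀ i, i < 7103 → P i := stepQ 7102 Q7102 (allL N7102 (tt N8703 (iv F88893)) (tt N5686 F62235) (tt N8685 (iv F88817)) (tt N7102 F62236) (tt N7102 F62237) (tt N6127 F62238) (tt N8701 (iv F88888)) (tt N7102 F62239) (tt N8704 D20610) (tt N5685 (iv D14174)))
theorem Q7104 : ∀ i, i < 7104 → P i := stepQ 7103 Q7103 (allL N7103 (tt N7103 F62240) (tt N8704 (iv F88899)) (tt N5687 F62241) (tt N8705 D20611) (tt N7103 F62242) (tt N6128 F62243) (tt N8702 (iv F88892)) (tt N7103 F62244) (tt N5686 (iv D14175)) (tt N8617 (iv F87662)))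
theorem Q7105 : ∀ i, i < 7105 → P i := stepQ 7104 Q7104 (allL N7104 (tt N6509 (iv F202633)) (tt N5694 F62314) (tt N8706 D20629) (tt N5693 (iv D14187)) (tt N8054 (iv F84997)) (tt N8063 (iv F206100)) (tt N5708 F62315) (tt N7104 F62316) (tt N8062 F206029) (tt N5698 F62317))
theorem Q7106 : ∀ i, i < 7106 → P i := stepQ 7105 Q7105 (allL N7105 (tt N6297 (iv F195556)) (tt N5695 F62318) (tt N6296 F62319) (tt N8063 (iv F206099)) (tt N7105 F62320) (tt N5693 (iv D14188)) (tt N6303 (iv F195564)) (tt N7105 F62321) (tt N6504 (iv F202655)) (tt N5699 F62322))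
theorem Q7107 : ∀ i, i < 7107 → P i := stepQ 7106 Q7106 (allL N7106 (tt N5698 F62344) (tt N7106 F62345) (tt N8063 (iv F206098)) (tt N5697 (iv D14193)) (tt N8060 (iv F85034)) (tt N8706 (iv F195689)) (tt N5714 F62346) (tt N7106 F62347) (tt N8061 (iv F206107)) (tt N6509 (iv F202636)))
theorem Q7108 : ∀ i, i < 7108 → P i := stepQ 7107 Q7107 (allL N7107 (tt N5699 F62348) (tt N7107 F62349) (tt N6295 F195613) (tt N8706 (iv F195688)) (tt N7107 F62351) (tt N5697 (iv D14194)) (tt N6300 (iv F195685)) (tt N7107 F62352) (tt N7107 F62353) (tt N6297 F195614))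
theorem Q7109 : ∀ i, i < 7109 → P i := stepQ 7108 Q7108 (allL N7108 (tt N8063 (iv F206097)) (tt N7108 F62354) (tt N5698 (iv D14195)) (tt N6297 F62355) (tt N8061 (iv F85044)) (tt N6509 (iv F202635)) (tt N5716 F62356) (tt N7108 F62357) (tt N8060 F205997) (tt N8706 (iv F89012)))
theorem Q7110 : ∀ i, i < 7110 → P i := stepQ 7109 Q7109 (allL N7109 (tt N8706 (iv F195687)) (tt N5700 F62358) (tt N6509 (iv F202634)) (tt N5699 F62359) (tt N8707 D20644) (tt N5698 (iv D14196)) (tt N6510 F202218) (tt N7109 F62360) (tt N8708 D20646) (tt N8063 F206240))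
theorem Q7111 : ∀ i, i < 7111 → P i := stepQ 7110 Q7110 (allL N7110 (tt N8061 (iv F206106)) (tt N5701 F62361) (tt N8060 F206075) (tt N7110 F62362) (tt N8063 (iv F85051)) (tt N8708 (iv F89085)) (tt N5718 F62363) (tt N7110 F62364) (tt N5698 (iv D14197)) (tt N8707 (iv F206155)))
theorem Q7112 : ∀ i, i < 7112 → P i := stepQ 7111 Q7111 (allL N7111 (tt N7111 F62370) (tt N8707 (iv F89077)) (tt N7111 F62371) (tt N7111 F62372) (tt N5700 (iv D14199)) (tt N8057 F206250) (tt N5723 F206252) (tt N7111 F62373) (tt N8056 F206251) (tt N5701 F206253))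
theorem Q7113 : ∀ i, i < 7113 → P i := stepQ 7112 Q7112 (allL N7112 (tt N7112 F62378) (tt N8708 (iv F89083)) (tt N7112 F62379) (tt N7112 F62380) (tt N8056 F206256) (tt N5701 F62381) (tt N8071 F206257) (tt N7112 F62382) (tt N5700 (iv D14201)) (tt N8057 F206258))
theorem Q7114 : ∀ i, i < 7114 → P i := stepQ 7113 Q7113 (allL N7113 (tt N6510 F202211) (tt N7113 F62468) (tt N5708 (iv D14218)) (tt N6300 F62469) (tt N8064 (iv F85095)) (tt N8709 D20676) (tt N8706 (iv F89010)) (tt N5732 F62470) (tt N8710 D20677) (tt N5716 F62471))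
theorem Q7115 : ∀ i, i < 7115 → P i := stepQ 7114 Q7114 (allL N7114 (tt N6480 (iv F201740)) (tt N5710 F62472) (tt N8709 (iv F89228)) (tt N5709 F62473) (tt N8711 D20678) (tt N5708 (iv D14219)) (tt N8077 (iv F205754)) (tt N5733 F62474) (tt N8076 F205672) (tt N5717 F62475))
theorem Q7116 : ∀ i, i < 7116 → P i := stepQ 7115 Q7115 (allL N7115 (tt N6507 (iv F202637)) (tt N5711 F62476) (tt N8710 (iv F89233)) (tt N6503 (iv F202873)) (tt N8066 (iv F85104)) (tt N8076 F205676) (tt N8062 (iv F205854)) (tt N5734 F62477) (tt N5708 (iv D14220)) (tt N8712 D20681))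
theorem Q7117 : ∀ i, i < 7117 → P i := stepQ 7116 Q7116 (allL N7116 (tt N6305 (iv F195683)) (tt N5712 F62478) (tt N6302 F62479) (tt N8077 (iv F205753)) (tt N5761 F62480) (tt N6303 F195618) (tt N5709 (iv D14221)) (tt N6312 (iv F195708)) (tt N6476 (iv F201752)) (tt N5719 F62481))
theorem Q7118 : ∀ i, i < 7118 → P i := stepQ 7117 Q7117 (allL N7117 (tt N7117 F62482) (tt N8711 (iv F89235)) (tt N7117 F62483) (tt N5762 F62484) (tt N5710 (iv D14222)) (tt N8068 (iv F85114)) (tt N8079 F206012) (tt N5736 F62485) (tt N8078 F206013) (tt N5720 F62486))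
theorem Q7119 : ∀ i, i < 7119 → P i := stepQ 7118 Q7118 (allL N7118 (tt N7118 F62495) (tt N8712 (iv F89245)) (tt N7118 F62496) (tt N8058 F206015) (tt N8071 (iv F85129)) (tt N8069 F206016) (tt N8056 (iv F206122)) (tt N5739 F62497) (tt N5723 F62498) (tt N5711 (iv D14225)))
theorem Q7120 : ∀ i, i < 7120 → P i := stepQ 7119 Q7119 (allL N7119 (tt N5717 F62507) (tt N7119 F62508) (tt N8077 F205993) (tt N5715 F62509) (tt N8713 D20691) (tt N5714 (iv D14228)) (tt N8709 (iv F195955)) (tt N5741 F62510) (tt N8074 F205994) (tt N6480 (iv F201743)))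
theorem Q7121 : ∀ i, i < 7121 → P i := stepQ 7120 Q7120 (allL N7120 (tt N5719 F62515) (tt N7120 F62516) (tt N6301 F195803) (tt N8709 (iv F195954)) (tt N5770 F62518) (tt N6300 F195804) (tt N5715 (iv D14230)) (tt N6308 (iv F195950)) (tt N7120 F62519) (tt N6305 F195805))
theorem Q7122 : ∀ i, i < 7122 → P i := stepQ 7121 Q7121 (allL N7121 (tt N8077 (iv F205752)) (tt N7121 F62520) (tt N5717 F62521) (tt N6305 F62522) (tt N8714 D20696) (tt N5716 (iv D14231)) (tt N6480 (iv F201742)) (tt N5743 F62523) (tt N8073 F205634) (tt N8709 (iv F89231)))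
theorem Q7123 : ∀ i, i < 7123 → P i := stepQ 7122 Q7122 (allL N7122 (tt N8713 (iv F89286)) (tt N5720 F62527) (tt N8714 (iv F89309)) (tt N5773 F62528) (tt N5717 (iv D14233)) (tt N8075 (iv F85164)) (tt N8715 D20701) (tt N5744 F62529) (tt N8716 D20702) (tt N8711 (iv F89238)))
theorem Q7124 : ∀ i, i < 7124 → P i := stepQ 7123 Q7123 (allL N7123 (tt N8709 (iv F195953)) (tt N5721 F62530) (tt N6480 (iv F201741)) (tt N5719 F62531) (tt N8715 (iv F89327)) (tt N6510 (iv F201745)) (tt N5717 (iv D14234)) (tt N6492 (iv F201748)) (tt N8717 D20704) (tt N8077 F205995))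
theorem Q7125 : ∀ i, i < 7125 → P i := stepQ 7124 Q7124 (allL N7124 (tt N8074 (iv F205764)) (tt N5722 F62532) (tt N8073 F205724) (tt N7124 F62533) (tt N8716 (iv F89329)) (tt N5718 F62534) (tt N8717 (iv F89336)) (tt N5746 F62535) (tt N5717 (iv D14235)) (tt N8718 D20705))
theorem Q7126 : ∀ i, i < 7126 → P i := stepQ 7125 Q7125 (allL N7125 (tt N8064 (iv F206108)) (tt N5723 F62536) (tt N6511 F206077) (tt N7125 F62537) (tt N6510 (iv F206101)) (tt N8718 (iv F89339)) (tt N8707 (iv F206154)) (tt N5747 F62538) (tt N8712 (iv F89247)) (tt N5718 (iv D14236)))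
theorem Q7127 : ∀ i, i < 7127 → P i := stepQ 7126 Q7126 (allL N7126 (tt N7126 F62544) (tt N8715 (iv F89325)) (tt N7126 F62545) (tt N5778 F62546) (tt N5721 F62547) (tt N8719 D20706) (tt N5720 (iv D14238)) (tt N8102 F206068) (tt N8720 D20708) (tt N8079 F206069))
theorem Q7128 : ∀ i, i < 7128 → P i := stepQ 7127 Q7127 (allL N7127 (tt N7127 F62548) (tt N8716 (iv F89328)) (tt N7127 F62549) (tt N8721 D20709) (tt N5722 F62550) (tt N8079 (iv F85185)) (tt N8720 (iv F89352)) (tt N5750 F62551) (tt N5720 (iv D14239)) (tt N8719 (iv F206128)))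
theorem Q7129 : ∀ i, i < 7129 → P i := stepQ 7128 Q7128 (allL N7128 (tt N7128 F62556) (tt N8717 (iv F89334)) (tt N7128 F62557) (tt N7128 F62558) (tt N8720 (iv F89351)) (tt N8071 F206237) (tt N5722 F62559) (tt N8089 F206238) (tt N5721 (iv D14241)) (tt N8070 F206239))
theorem Q7130 : ∀ i, i < 7130 → P i := stepQ 7129 Q7129 (allL N7129 (tt N7129 F62560) (tt N8718 (iv F89337)) (tt N7129 F62561) (tt N7129 F62562) (tt N8719 (iv F206126)) (tt N5723 F62563) (tt N8070 (iv F206113)) (tt N5753 F62564) (tt N8069 F206020) (tt N5722 (iv D14242)))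
theorem Q7131 : ∀ i, i < 7131 → P i := stepQ 7130 Q7130 (allL N7130 (tt N7130 F62641) (tt N6515 (iv F203320)) (tt N8059 (iv F205776)) (tt N5739 F62642) (tt N7130 F62643) (tt N8072 F205654) (tt N7130 F62644) (tt N8058 (iv F205784)) (tt N7130 F62645) (tt N5729 (iv D14259)))
theorem Q7132 : ∀ i, i < 7132 → P i := stepQ 7131 Q7131 (allL N7131 (tt N6492 F202014) (tt N7131 F62669) (tt N5733 F62670) (tt N6308 F62671) (tt N8722 D20748) (tt N5732 (iv D14265)) (tt N8723 D20749) (tt N8709 (iv F89230)) (tt N8724 D20750) (tt N5743 F62672))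
theorem Q7133 : ∀ i, i < 7133 → P i := stepQ 7132 Q7132 (allL N7132 (tt N6516 F202898) (tt N7132 F62673) (tt N5734 F62674) (tt N7132 F195184) (tt N6518 (iv F206111)) (tt N8724 (iv F89537)) (tt N7132 F62675) (tt N8710 (iv F89234)) (tt N5732 (iv D14266)) (tt N6517 F206001))
theorem Q7134 : ∀ i, i < 7134 → P i := stepQ 7133 Q7133 (allL N7133 (tt N6493 (iv F202409)) (tt N5736 F62676) (tt N8722 (iv F89528)) (tt N5790 F62677) (tt N5733 (iv D14267)) (tt N8081 (iv F85229)) (tt N8725 D20753) (tt N8711 (iv F89237)) (tt N8726 D20754) (tt N5744 F62678))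
theorem Q7135 : ∀ i, i < 7135 → P i := stepQ 7134 Q7134 (allL N7134 (tt N6491 (iv F201760)) (tt N5737 F62679) (tt N8723 (iv F89531)) (tt N5735 F62680) (tt N8725 (iv F89547)) (tt N7134 F62681) (tt N5733 (iv D14268)) (tt N8097 (iv F205459)) (tt N8096 F205376) (tt N5745 F62682))
theorem Q7136 : ∀ i, i < 7136 → P i := stepQ 7135 Q7135 (allL N7135 (tt N6489 (iv F202413)) (tt N5738 F62683) (tt N8724 (iv F89536)) (tt N6485 (iv F202419)) (tt N8726 (iv F89550)) (tt N5734 F62684) (tt N8096 F205380) (tt N8076 (iv F205501)) (tt N5733 (iv D14269)) (tt N8727 D20757))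
theorem Q7137 : ∀ i, i < 7137 → P i := stepQ 7136 Q7136 (allL N7136 (tt N6518 (iv F203314)) (tt N5739 F62685) (tt N6517 F206041) (tt N6515 (iv F203321)) (tt N6516 (iv F206103)) (tt N8727 (iv F89559)) (tt N7136 F62686) (tt N8712 (iv F89246)) (tt N5747 F62687) (tt N5734 (iv D14270)))
theorem Q7138 : ∀ i, i < 7138 → P i := stepQ 7137 Q7137 (allL N7137 (tt N6316 (iv F195948)) (tt N5740 F62688) (tt N6311 F62689) (tt N8097 (iv F205458)) (tt N5794 F62690) (tt N7137 F62691) (tt N6312 F195814) (tt N5735 (iv D14271)) (tt N6486 (iv F201765)) (tt N5748 F62692))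
theorem Q7139 : ∀ i, i < 7139 → P i := stepQ 7138 Q7138 (allL N7138 (tt N7138 F62693) (tt N8725 (iv F89545)) (tt N7138 F62694) (tt N5795 F62695) (tt N5737 F62696) (tt N8728 D20758) (tt N5736 (iv D14272)) (tt N8100 F205647) (tt N8099 F205648) (tt N5749 F62697))
theorem Q7140 : ∀ i, i < 7140 → P i := stepQ 7139 Q7139 (allL N7139 (tt N7139 F62698) (tt N8726 (iv F89549)) (tt N7139 F62699) (tt N8133 F205656) (tt N5738 F62700) (tt N8086 (iv F85257)) (tt N8099 F205657) (tt N8078 (iv F205785)) (tt N5736 (iv D14273)) (tt N8729 D20762))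
theorem Q7141 : ∀ i, i < 7141 → P i := stepQ 7140 Q7140 (allL N7140 (tt N7140 F62710) (tt N8727 (iv F89558)) (tt N7140 F62711) (tt N8072 F205658) (tt N8729 (iv F89579)) (tt N5739 F62712) (tt N8087 F205659) (tt N8069 (iv F205786)) (tt N5753 F62713) (tt N5738 (iv D14276)))
theorem Q7142 : ∀ i, i < 7142 → P i := stepQ 7141 Q7141 (allL N7141 (tt N5744 F62724) (tt N7141 F62725) (tt N8095 F205713) (tt N5803 F62726) (tt N5741 (iv D14280)) (tt N8090 (iv F85288)) (tt N8730 D20772) (tt N8713 (iv F89289)) (tt N8092 F205714) (tt N6493 (iv F202410)))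
theorem Q7143 : ∀ i, i < 7143 → P i := stepQ 7142 Q7142 (allL N7142 (tt N5745 F62727) (tt N7142 F62728) (tt N8097 F205630) (tt N5742 F62729) (tt N8730 (iv F89617)) (tt N7142 F62730) (tt N5741 (iv D14281)) (tt N8723 (iv F196384)) (tt N8093 F205631) (tt N6491 (iv F201763)))
theorem Q7144 : ∀ i, i < 7144 → P i := stepQ 7143 Q7143 (allL N7143 (tt N5748 F62739) (tt N7143 F62740) (tt N6310 F196143) (tt N8723 (iv F196383)) (tt N5807 F62742) (tt N7143 F62743) (tt N6308 F196144) (tt N5742 (iv D14284)) (tt N7143 F62744) (tt N6316 F196145))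
theorem Q7145 : ∀ i, i < 7145 → P i := stepQ 7144 Q7144 (allL N7144 (tt N8095 (iv F205580)) (tt N7144 F62745) (tt N5744 F62746) (tt N8731 D20777) (tt N5743 (iv D14285)) (tt N8092 (iv F85307)) (tt N8732 D20778) (tt N8714 (iv F89310)) (tt N8090 (iv F205594)) (tt N8722 (iv F89529)))
theorem Q7146 : ∀ i, i < 7146 → P i := stepQ 7145 Q7145 (allL N7145 (tt N8097 (iv F205457)) (tt N7145 F62747) (tt N5745 F62748) (tt N6316 F62749) (tt N8732 (iv F89639)) (tt N7145 F62750) (tt N5743 (iv D14286)) (tt N6491 (iv F201762)) (tt N8091 F205358) (tt N8723 (iv F89534)))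
theorem Q7147 : ∀ i, i < 7147 → P i := stepQ 7146 Q7146 (allL N7146 (tt N8730 (iv F89614)) (tt N5749 F62761) (tt N8732 (iv F89638)) (tt N5813 F62762) (tt N5745 F62763) (tt N8733 D20786) (tt N5744 (iv D14290)) (tt N8734 D20787) (tt N8735 D20788) (tt N8725 (iv F89548)))
theorem Q7148 : ∀ i, i < 7148 → P i := stepQ 7147 Q7147 (allL N7147 (tt N8092 F205715) (tt N5750 F62764) (tt N8090 F205716) (tt N8736 D20789) (tt N5746 F62765) (tt N8095 (iv F85327)) (tt N8735 (iv F89674)) (tt N8716 (iv F89330)) (tt N5744 (iv D14291)) (tt N8737 D20790))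
theorem Q7149 : ∀ i, i < 7149 → P i := stepQ 7148 Q7148 (allL N7148 (tt N8723 (iv F196382)) (tt N5751 F62766) (tt N6491 (iv F201761)) (tt N5748 F62767) (tt N8734 (iv F89671)) (tt N7148 F62768) (tt N6492 (iv F201747)) (tt N5745 (iv D14292)) (tt N8738 D20791) (tt N8097 F205632))
theorem Q7150 : ∀ i, i < 7150 → P i := stepQ 7149 Q7149 (allL N7149 (tt N8093 (iv F205464)) (tt N5752 F62769) (tt N8091 F205425) (tt N7149 F62770) (tt N8735 (iv F89673)) (tt N7149 F62771) (tt N5746 F62772) (tt N8738 (iv F89683)) (tt N5745 (iv D14293)) (tt N8739 D20792))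
theorem Q7151 : ∀ i, i < 7151 → P i := stepQ 7150 Q7150 (allL N7150 (tt N8080 (iv F205765)) (tt N5753 F62773) (tt N6519 F205728) (tt N7150 F62774) (tt N8737 (iv F89679)) (tt N5747 F62775) (tt N8739 (iv F89687)) (tt N8718 (iv F89340)) (tt N8727 (iv F89560)) (tt N5746 (iv D14294)))
theorem Q7152 : ∀ i, i < 7152 → P i := stepQ 7151 Q7151 (allL N7151 (tt N7151 F62776) (tt N8733 (iv F89666)) (tt N7151 F62777) (tt N5818 F62778) (tt N7151 F62779) (tt N5749 (iv D14295)) (tt N8098 (iv F85340)) (tt N8740 D20793) (tt N8741 D20794) (tt N8728 (iv F89565)))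
theorem Q7153 : ∀ i, i < 7153 → P i := stepQ 7152 Q7152 (allL N7152 (tt N7152 F62780) (tt N8734 (iv F89669)) (tt N7152 F62781) (tt N5819 F62782) (tt N5751 F62783) (tt N8740 (iv F89692)) (tt N8102 (iv F205929)) (tt N5749 (iv D14296)) (tt N8742 D20795) (tt N8100 F205706))
theorem Q7154 : ∀ i, i < 7154 → P i := stepQ 7153 Q7153 (allL N7153 (tt N7153 F62784) (tt N8735 (iv F89672)) (tt N7153 F62785) (tt N8743 D20796) (tt N5752 F62786) (tt N8741 (iv F89696)) (tt N5750 F62787) (tt N8742 (iv F89700)) (tt N5749 (iv D14297)) (tt N8744 D20797))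
theorem Q7155 : ∀ i, i < 7155 → P i := stepQ 7154 Q7154 (allL N7154 (tt N7154 F62788) (tt N8736 (iv F89675)) (tt N8745 D20798) (tt N5750 (iv D14298)) (tt N7154 F62789) (tt N8101 (iv F85350)) (tt N8743 (iv F89703)) (tt N8721 (iv F89355)) (tt N5821 F62790) (tt N8746 D20799))
theorem Q7156 : ∀ i, i < 7156 → P i := stepQ 7155 Q7155 (allL N7155 (tt N7155 F62791) (tt N8737 (iv F89678)) (tt N7155 F62792) (tt N8746 (iv F89714)) (tt N5753 F62793) (tt N8102 (iv F85355)) (tt N8744 (iv F89708)) (tt N8719 (iv F206127)) (tt N8729 (iv F89580)) (tt N5750 (iv D14299)))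
theorem Q7157 : ∀ i, i < 7157 → P i := stepQ 7156 Q7156 (allL N7156 (tt N7156 F62794) (tt N8738 (iv F89680)) (tt N7156 F62795) (tt N7156 F62796) (tt N8742 (iv F89699)) (tt N7156 F62797) (tt N8089 (iv F206096)) (tt N5752 F62798) (tt N5751 (iv D14300)) (tt N8088 F205987))
theorem Q7158 : ∀ i, i < 7158 → P i := stepQ 7157 Q7157 (allL N7157 (tt N7157 F62799) (tt N8739 (iv F89684)) (tt N7157 F62800) (tt N7157 F62801) (tt N8744 (iv F89707)) (tt N7157 F62802) (tt N5753 F62803) (tt N8088 (iv F205763)) (tt N8087 F205660) (tt N5752 (iv D14301)))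
theorem Q7159 : ∀ i, i < 7159 → P i := stepQ 7158 Q7158 (allL N7158 (tt N7158 F62846) (tt N6131 (iv F201905)) (tt N7158 F62847) (tt N5764 F62848) (tt N8013 F205366) (tt N5755 F62849) (tt N8012 F205367) (tt N5785 F62850) (tt N5754 (iv D14310)) (tt N8747 D20816))
theorem Q7160 : ∀ i, i < 7160 → P i := stepQ 7159 Q7159 (allL N7159 (tt N7159 F62851) (tt N6132 (iv F202067)) (tt N7159 F62852) (tt N5765 F62853) (tt N7159 F62854) (tt N8747 (iv F89801)) (tt N7159 F62855) (tt N5786 F62856) (tt N7159 F62857) (tt N5755 (iv D14311)))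
theorem Q7161 : ∀ i, i < 7161 → P i := stepQ 7160 Q7160 (allL N7160 (tt N6388 (iv F201051)) (tt N5886 F62883) (tt N5759 F62884) (tt N6318 F62885) (tt N8748 D20825) (tt N5758 (iv D14317)) (tt N8749 D20826) (tt N5788 F62886) (tt N8750 D20827) (tt N5771 F62887))
theorem Q7162 : ∀ i, i < 7162 → P i := stepQ 7161 Q7161 (allL N7161 (tt N5909 (iv F201108)) (tt N5887 F62888) (tt N5760 F62889) (tt N5900 (iv F201105)) (tt N8104 (iv F85394)) (tt N8750 (iv F89854)) (tt N7161 F62890) (tt N5789 F62891) (tt N5758 (iv D14318)) (tt N8751 D20829))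
theorem Q7163 : ∀ i, i < 7163 → P i := stepQ 7162 Q7162 (allL N7162 (tt N6482 (iv F201780)) (tt N5762 F62892) (tt N8748 (iv F89844)) (tt N8711 (iv F89236)) (tt N5759 (iv D14319)) (tt N8105 (iv F85398)) (tt N8752 D20830) (tt N5790 F62893) (tt N8753 D20831) (tt N5773 F62894))
theorem Q7164 : ∀ i, i < 7164 → P i := stepQ 7163 Q7163 (allL N7163 (tt N6481 (iv F201068)) (tt N5763 F62895) (tt N8749 (iv F89848)) (tt N5761 F62896) (tt N8752 (iv F89866)) (tt N7163 F62897) (tt N5759 (iv D14320)) (tt N8754 D20832) (tt N8755 D20833) (tt N5774 F62898))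
theorem Q7165 : ∀ i, i < 7165 → P i := stepQ 7164 Q7164 (allL N7164 (tt N6143 (iv F201772)) (tt N5764 F62899) (tt N8750 (iv F89853)) (tt N6131 (iv F201906)) (tt N8753 (iv F89869)) (tt N5760 F62900) (tt N8755 (iv F89878)) (tt N5792 F62901) (tt N5759 (iv D14321)) (tt N8756 D20834))
theorem Q7166 : ∀ i, i < 7166 → P i := stepQ 7165 Q7165 (allL N7165 (tt N6146 (iv F201969)) (tt N5765 F62902) (tt N8751 (iv F89861)) (tt N6132 (iv F202068)) (tt N8108 (iv F85411)) (tt N8756 (iv F89880)) (tt N7165 F62903) (tt N5793 F62904) (tt N5776 F62905) (tt N5760 (iv D14322)))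
theorem Q7167 : ∀ i, i < 7167 → P i := stepQ 7166 Q7166 (allL N7166 (tt N6315 (iv F195945)) (tt N5766 F62906) (tt N6313 F195812) (tt N8754 (iv F89872)) (tt N6312 F195813) (tt N7166 F62908) (tt N5794 F62909) (tt N5761 (iv D14323)) (tt N6477 (iv F201754)) (tt N5777 F62910))
theorem Q7168 : ∀ i, i < 7168 → P i := stepQ 7167 Q7167 (allL N7167 (tt N7167 F62911) (tt N8752 (iv F89865)) (tt N5893 F62912) (tt N8079 (iv F205924)) (tt N5763 F62913) (tt N8721 (iv F205922)) (tt N5762 (iv D14324)) (tt N8101 F205700) (tt N8135 F205701) (tt N5778 F62914))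
theorem Q7169 : ∀ i, i < 7169 → P i := stepQ 7168 Q7168 (allL N7168 (tt N7168 F62915) (tt N8753 (iv F89868)) (tt N5894 F62916) (tt N8134 F205662) (tt N5764 F62917) (tt N8111 (iv F85428)) (tt N8135 F205663) (tt N5796 F62918) (tt N5762 (iv D14325)) (tt N8757 D20839))
theorem Q7170 : ∀ i, i < 7170 → P i := stepQ 7169 Q7169 (allL N7169 (tt N7169 F62919) (tt N8754 (iv F89871)) (tt N5895 F62920) (tt N5766 F62921) (tt N8101 (iv F205550)) (tt N7169 F62922) (tt N5797 F62923) (tt N5763 (iv D14326)) (tt N8025 F205411) (tt N5780 F62924))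
theorem Q7171 : ∀ i, i < 7171 → P i := stepQ 7170 Q7170 (allL N7170 (tt N7170 F62925) (tt N8755 (iv F89876)) (tt N5896 F62926) (tt N8012 F205409) (tt N8135 (iv F205549)) (tt N7170 F62927) (tt N5764 F62928) (tt N8025 F205410) (tt N5763 (iv D14327)) (tt N8758 D20841))
theorem Q7172 : ∀ i, i < 7172 → P i := stepQ 7171 Q7171 (allL N7171 (tt N7171 F62929) (tt N8756 (iv F89879)) (tt N5897 F62930) (tt N8747 (iv F89800)) (tt N8757 (iv F89900)) (tt N5765 F62931) (tt N8758 (iv F89911)) (tt N5799 F62932) (tt N5782 F62933) (tt N5764 (iv D14328)))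
theorem Q7173 : ∀ i, i < 7173 → P i := stepQ 7172 Q7172 (allL N7172 (tt N5898 F62934) (tt N5767 (iv D14329)) (tt N7172 F62935) (tt N6321 F62936) (tt N8115 (iv F85450)) (tt N8759 D20842) (tt N7172 F62937) (tt N5800 F62938) (tt N8760 D20843) (tt N6328 F200767))
theorem Q7174 : ∀ i, i < 7174 → P i := stepQ 7173 Q7173 (allL N7173 (tt N5771 F62939) (tt N8759 (iv F89914)) (tt N5768 F62940) (tt N6322 F62941) (tt N8761 D20844) (tt N5767 (iv D14330)) (tt N8762 D20845) (tt N5801 F62942) (tt N8763 D20846) (tt N6388 (iv F201053)))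
theorem Q7175 : ∀ i, i < 7175 → P i := stepQ 7174 Q7174 (allL N7174 (tt N5772 F62943) (tt N8760 (iv F89919)) (tt N5769 F62944) (tt N8764 D20847) (tt N8117 (iv F85459)) (tt N8763 (iv F89932)) (tt N7174 F62945) (tt N5802 F62946) (tt N5767 (iv D14331)) (tt N8765 D20848))
theorem Q7176 : ∀ i, i < 7176 → P i := stepQ 7175 Q7175 (allL N7175 (tt N5773 F62947) (tt N7175 F62948) (tt N8761 (iv F89924)) (tt N8713 (iv F89288)) (tt N5768 (iv D14332)) (tt N8118 (iv F85464)) (tt N8766 D20849) (tt N5803 F62949) (tt N8767 D20850) (tt N6482 (iv F201781)))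
theorem Q7177 : ∀ i, i < 7177 → P i := stepQ 7176 Q7176 (allL N7176 (tt N5774 F62950) (tt N7176 F62951) (tt N8762 (iv F89927)) (tt N5770 F62952) (tt N8766 (iv F89945)) (tt N7176 F62953) (tt N5768 (iv D14333)) (tt N8768 D20851) (tt N8769 D20852) (tt N6481 F201329))
theorem Q7178 : ∀ i, i < 7178 → P i := stepQ 7177 Q7177 (allL N7177 (tt N5775 F62954) (tt N7177 F62955) (tt N8763 (iv F89931)) (tt N7177 F62956) (tt N8767 (iv F89948)) (tt N5769 F62957) (tt N8769 (iv F89959)) (tt N5805 F62958) (tt N5768 (iv D14334)) (tt N8770 D20853))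
theorem Q7179 : ∀ i, i < 7179 → P i := stepQ 7178 Q7178 (allL N7178 (tt N5776 F62959) (tt N7178 F62960) (tt N8765 (iv F89940)) (tt N7178 F62961) (tt N8121 (iv F85476)) (tt N8770 (iv F89963)) (tt N7178 F62962) (tt N5806 F62963) (tt N6146 (iv F201970)) (tt N5769 (iv D14335)))
theorem Q7180 : ∀ i, i < 7180 → P i := stepQ 7179 Q7179 (allL N7179 (tt N5777 F62964) (tt N7179 F62965) (tt N6309 F196135) (tt N8768 (iv F89952)) (tt N6308 F196136) (tt N7179 F62967) (tt N5807 F62968) (tt N5770 (iv D14336)) (tt N7179 F62969) (tt N6315 F196137))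
theorem Q7181 : ∀ i, i < 7181 → P i := stepQ 7180 Q7180 (allL N7180 (tt N8761 (iv F89923)) (tt N5906 F62970) (tt N5773 F62971) (tt N8771 D20854) (tt N5771 (iv D14337)) (tt N8122 (iv F85486)) (tt N8772 D20855) (tt N5808 F62972) (tt N8773 D20856) (tt N8748 (iv F89846)))
theorem Q7182 : ∀ i, i < 7182 → P i := stepQ 7181 Q7181 (allL N7181 (tt N8762 (iv F89926)) (tt N5907 F62973) (tt N5774 F62974) (tt N6326 F62975) (tt N8772 (iv F89970)) (tt N7181 F62976) (tt N5771 (iv D14338)) (tt N6404 (iv F201009)) (tt N8774 D20858) (tt N8749 (iv F89851)))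
theorem Q7183 : ∀ i, i < 7183 → P i := stepQ 7182 Q7182 (allL N7182 (tt N8763 (iv F89930)) (tt N5908 F62977) (tt N5775 F62978) (tt N8775 D20859) (tt N8773 (iv F89973)) (tt N5772 F62979) (tt N8774 (iv F89983)) (tt N5810 F62980) (tt N5771 (iv D14339)) (tt N8776 D20860))
theorem Q7184 : ∀ i, i < 7184 → P i := stepQ 7183 Q7183 (allL N7183 (tt N8764 (iv F89934)) (tt N5909 F62981) (tt N7183 F62982) (tt N5772 (iv D14340)) (tt N8777 D20861) (tt N8775 (iv F89986)) (tt N7183 F62983) (tt N5811 F62984) (tt N6328 F62985) (tt N8778 D20862))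
theorem Q7185 : ∀ i, i < 7185 → P i := stepQ 7184 Q7184 (allL N7184 (tt N8765 (iv F89939)) (tt N5910 F62986) (tt N5776 F62987) (tt N8778 (iv F90000)) (tt N8126 (iv F85502)) (tt N8776 (iv F89991)) (tt N7184 F62988) (tt N5812 F62989) (tt N8751 (iv F89864)) (tt N5772 (iv D14341)))
theorem Q7186 : ∀ i, i < 7186 → P i := stepQ 7185 Q7185 (allL N7185 (tt N8766 (iv F89943)) (tt N5778 F62990) (tt N8772 (iv F89969)) (tt N8715 (iv F89326)) (tt N5774 F62991) (tt N8779 D20863) (tt N5773 (iv D14342)) (tt N8780 D20864) (tt N8781 D20865) (tt N8752 (iv F89867)))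
theorem Q7187 : ∀ i, i < 7187 → P i := stepQ 7186 Q7186 (allL N7186 (tt N8767 (iv F89946)) (tt N5779 F62992) (tt N8773 (iv F89972)) (tt N8782 D20866) (tt N5775 F62993) (tt N8128 (iv F85509)) (tt N8781 (iv F90010)) (tt N5814 F62994) (tt N5773 (iv D14343)) (tt N8783 D20867))
theorem Q7188 : ∀ i, i < 7188 → P i := stepQ 7187 Q7187 (allL N7187 (tt N8768 (iv F89950)) (tt N5780 F62995) (tt N6404 F201330) (tt N5777 F62996) (tt N8780 (iv F90006)) (tt N7187 F62997) (tt N5815 F62998) (tt N5774 (iv D14344)) (tt N8784 D20868) (tt N8754 (iv F89875)))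
theorem Q7189 : ∀ i, i < 7189 → P i := stepQ 7188 Q7188 (allL N7188 (tt N8769 (iv F89955)) (tt N5781 F62999) (tt N8774 (iv F89981)) (tt N7188 F63000) (tt N8781 (iv F90009)) (tt N7188 F63001) (tt N5775 F63002) (tt N8784 (iv F90021)) (tt N5774 (iv D14345)) (tt N8785 D20869))
theorem Q7190 : ∀ i, i < 7190 → P i := stepQ 7189 Q7189 (allL N7189 (tt N8770 (iv F89960)) (tt N5782 F63003) (tt N8776 (iv F89990)) (tt N7189 F63004) (tt N8783 (iv F90015)) (tt N5776 F63005) (tt N8785 (iv F90025)) (tt N5817 F63006) (tt N8756 (iv F89882)) (tt N5775 (iv D14346)))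
theorem Q7191 : ∀ i, i < 7191 → P i := stepQ 7190 Q7190 (allL N7190 (tt N7190 F63007) (tt N8779 (iv F90003)) (tt N5916 F63008) (tt N8719 (iv F89343)) (tt N7190 F63009) (tt N5778 (iv D14347)) (tt N8132 (iv F85524)) (tt N8746 F206063) (tt N8786 D20871) (tt N8721 F206064))
theorem Q7192 : ∀ i, i < 7192 → P i := stepQ 7191 Q7191 (allL N7191 (tt N7191 F63010) (tt N8780 (iv F90005)) (tt N5917 F63011) (tt N8102 (iv F205928)) (tt N5780 F63012) (tt N8746 (iv F205923)) (tt N5819 F63013) (tt N5778 (iv D14348)) (tt N8787 D20872) (tt N8101 F205703))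
theorem Q7193 : ∀ i, i < 7193 → P i := stepQ 7192 Q7192 (allL N7192 (tt N7192 F63014) (tt N8781 (iv F90008)) (tt N5918 F63015) (tt N8788 D20873) (tt N5781 F63016) (tt N8786 (iv F90033)) (tt N5779 F63017) (tt N8787 (iv F90038)) (tt N5778 (iv D14349)) (tt N8789 D20874))
theorem Q7194 : ∀ i, i < 7194 → P i := stepQ 7193 Q7193 (allL N7193 (tt N7193 F63018) (tt N8782 (iv F90011)) (tt N8790 D20875) (tt N5779 (iv D14350)) (tt N7193 F63019) (tt N8135 (iv F85534)) (tt N8788 (iv F90041)) (tt N5821 F63020) (tt N8721 (iv F89356)) (tt N8791 D20876))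
theorem Q7195 : ∀ i, i < 7195 → P i := stepQ 7194 Q7194 (allL N7194 (tt N7194 F63021) (tt N8783 (iv F90014)) (tt N5920 F63022) (tt N8791 (iv F90051)) (tt N5782 F63023) (tt N8136 (iv F85539)) (tt N8789 (iv F90045)) (tt N5822 F63024) (tt N8757 (iv F89902)) (tt N5779 (iv D14351)))
theorem Q7196 : ∀ i, i < 7196 → P i := stepQ 7195 Q7195 (allL N7195 (tt N7195 F63025) (tt N8784 (iv F90017)) (tt N5921 F63026) (tt N7195 F63027) (tt N8787 (iv F90036)) (tt N7195 F63028) (tt N5823 F63029) (tt N5781 F63030) (tt N5780 (iv D14352)) (tt N8792 D20877))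
theorem Q7197 : ∀ i, i < 7197 → P i := stepQ 7196 Q7196 (allL N7196 (tt N7196 F63031) (tt N8785 (iv F90022)) (tt N5922 F63032) (tt N7196 F63033) (tt N8789 (iv F90044)) (tt N7196 F63034) (tt N5782 F63035) (tt N8792 (iv F90059)) (tt N8758 (iv F89912)) (tt N5781 (iv D14353)))
theorem Q7198 : ∀ i, i < 7198 → P i := stepQ 7197 Q7197 (allL N7197 (tt N7197 F63088) (tt N6164 (iv F202755)) (tt N7197 F63089) (tt N8137 (iv F205254)) (tt N5785 F63090) (tt N7197 F63091) (tt N8027 F205182) (tt N8013 (iv F205252)) (tt N5783 (iv D14366)) (tt N8793 D20900))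
theorem Q7199 : ∀ i, i < 7199 → P i := stepQ 7198 Q7198 (allL N7198 (tt N7198 F63097) (tt N6166 (iv F202589)) (tt N7198 F63098) (tt N5798 F63099) (tt N8027 F205178) (tt N5828 F63100) (tt N5785 F63101) (tt N8024 F205179) (tt N5784 (iv D14368)) (tt N8794 D20902))
theorem Q7200 : ∀ i, i < 7200 → P i := stepQ 7199 Q7199 (allL N7199 (tt N7199 F63102) (tt N6167 (iv F202756)) (tt N7199 F63103) (tt N5799 F63104) (tt N8793 (iv F90156)) (tt N5786 F63105) (tt N8794 (iv F90168)) (tt N8747 (iv F89802)) (tt N7199 F63106) (tt N5785 (iv D14369)))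
theorem Q7201 : ∀ i, i < 7201 → P i := stepQ 7200 Q7200 (allL N7200 (tt N6406 (iv F201789)) (tt N5931 F63139) (tt N5790 F63140) (tt N8795 D20915) (tt N5788 (iv D14378)) (tt N8139 (iv F85591)) (tt N8796 D20916) (tt N8748 (iv F89845)) (tt N8797 D20917) (tt N5808 F63141))
theorem Q7202 : ∀ i, i < 7202 → P i := stepQ 7201 Q7201 (allL N7201 (tt N6405 (iv F201821)) (tt N5932 F63142) (tt N5791 F63143) (tt N6331 F63144) (tt N8796 (iv F90222)) (tt N5831 F63145) (tt N5788 (iv D14379)) (tt N8798 D20918) (tt N8799 D20919) (tt N5809 F63146))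
theorem Q7203 : ∀ i, i < 7203 → P i := stepQ 7202 Q7202 (allL N7202 (tt N5963 (iv F201771)) (tt N5933 F63147) (tt N5792 F63148) (tt N5951 (iv F201768)) (tt N8797 (iv F90226)) (tt N5789 F63149) (tt N8799 (iv F90235)) (tt N8750 (iv F89855)) (tt N5788 (iv D14380)) (tt N8800 D20921))
theorem Q7204 : ∀ i, i < 7204 → P i := stepQ 7203 Q7203 (allL N7203 (tt N5966 (iv F201940)) (tt N5935 F63153) (tt N5793 F63154) (tt N5952 (iv F201936)) (tt N8143 (iv F85607)) (tt N8800 (iv F90241)) (tt N5833 F63155) (tt N8751 (iv F89863)) (tt N5812 F63156) (tt N5789 (iv D14382)))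
theorem Q7205 : ∀ i, i < 7205 → P i := stepQ 7204 Q7204 (allL N7204 (tt N6495 (iv F202494)) (tt N5795 F63157) (tt N8796 (iv F90221)) (tt N8725 (iv F89546)) (tt N5791 F63158) (tt N8801 D20924) (tt N5790 (iv D14383)) (tt N8802 D20925) (tt N8803 D20926) (tt N5813 F63159))
theorem Q7206 : ∀ i, i < 7206 → P i := stepQ 7205 Q7205 (allL N7205 (tt N6185 (iv F202685)) (tt N5796 F63160) (tt N8797 (iv F90225)) (tt N8804 D20927) (tt N5792 F63161) (tt N8145 (iv F85615)) (tt N8803 (iv F90257)) (tt N8753 (iv F89870)) (tt N5790 (iv D14384)) (tt N8805 D20928))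
theorem Q7207 : ∀ i, i < 7207 → P i := stepQ 7206 Q7206 (allL N7206 (tt N6494 (iv F201711)) (tt N5797 F63162) (tt N8798 (iv F90228)) (tt N5794 F63163) (tt N8802 (iv F90253)) (tt N5836 F63164) (tt N8754 (iv F89874)) (tt N5791 (iv D14385)) (tt N8806 D20929) (tt N5815 F63165))
theorem Q7208 : ∀ i, i < 7208 → P i := stepQ 7207 Q7207 (allL N7207 (tt N6183 (iv F202584)) (tt N5798 F63166) (tt N8799 (iv F90233)) (tt N6166 (iv F202590)) (tt N8803 (iv F90256)) (tt N5837 F63167) (tt N5792 F63168) (tt N8806 (iv F90264)) (tt N5791 (iv D14386)) (tt N8807 D20930))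
theorem Q7209 : ∀ i, i < 7209 → P i := stepQ 7208 Q7208 (allL N7208 (tt N6186 (iv F202686)) (tt N5799 F63169) (tt N8800 (iv F90240)) (tt N6167 (iv F202757)) (tt N8805 (iv F90260)) (tt N5793 F63170) (tt N8807 (iv F90267)) (tt N8756 (iv F89881)) (tt N5817 F63171) (tt N5792 (iv D14387)))
theorem Q7210 : ∀ i, i < 7210 → P i := stepQ 7209 Q7209 (allL N7209 (tt N7209 F63172) (tt N8801 (iv F90249)) (tt N5941 F63173) (tt N8728 (iv F89563)) (tt N5839 F63174) (tt N5795 (iv D14388)) (tt N8149 (iv F85631)) (tt N8808 D20931) (tt N8809 D20932) (tt N5818 F63175))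
theorem Q7211 : ∀ i, i < 7211 → P i := stepQ 7210 Q7210 (allL N7210 (tt N7210 F63176) (tt N8802 (iv F90252)) (tt N5942 F63177) (tt N8100 (iv F205552)) (tt N5797 F63178) (tt N8808 (iv F90272)) (tt N8101 (iv F205551)) (tt N5795 (iv D14389)) (tt N8187 F205406) (tt N5819 F63179))
theorem Q7212 : ∀ i, i < 7212 → P i := stepQ 7211 Q7211 (allL N7211 (tt N7211 F63180) (tt N8803 (iv F90255)) (tt N5943 F63181) (tt N8186 F205368) (tt N5798 F63182) (tt N8809 (iv F90277)) (tt N5796 F63183) (tt N8187 F205369) (tt N5795 (iv D14390)) (tt N8810 D20935))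
theorem Q7213 : ∀ i, i < 7213 → P i := stepQ 7212 Q7212 (allL N7212 (tt N7212 F63184) (tt N8804 (iv F90258)) (tt N8341 (iv F205484)) (tt N5796 (iv D14391)) (tt N8137 F205372) (tt N8152 (iv F85643)) (tt N8186 F205373) (tt N8134 (iv F205483)) (tt N8133 (iv F205476)) (tt N8811 D20937))
theorem Q7214 : ∀ i, i < 7214 → P i := stepQ 7213 Q7213 (allL N7213 (tt N7213 F63185) (tt N8805 (iv F90259)) (tt N5945 F63186) (tt N8811 (iv F90292)) (tt N5799 F63187) (tt N8153 (iv F85647)) (tt N8810 (iv F90287)) (tt N8757 (iv F89901)) (tt N5822 F63188) (tt N5796 (iv D14392)))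
theorem Q7215 : ∀ i, i < 7215 → P i := stepQ 7214 Q7214 (allL N7214 (tt N7214 F63189) (tt N8806 (iv F90262)) (tt N5946 F63190) (tt N8024 F205200) (tt N8187 (iv F205298)) (tt N5844 F63191) (tt N8025 (iv F205299)) (tt N5798 F63192) (tt N5797 (iv D14393)) (tt N8812 D20938))
theorem Q7216 : ∀ i, i < 7216 → P i := stepQ 7215 Q7215 (allL N7215 (tt N7215 F63193) (tt N8807 (iv F90265)) (tt N5947 F63194) (tt N8794 (iv F90166)) (tt N8810 (iv F90286)) (tt N5845 F63195) (tt N5799 F63196) (tt N8812 (iv F90296)) (tt N5824 F63197) (tt N5798 (iv D14394)))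
theorem Q7217 : ∀ i, i < 7217 → P i := stepQ 7216 Q7216 (allL N7216 (tt N5948 F63198) (tt N5801 F63199) (tt N7216 F63200) (tt N6334 F63201) (tt N8813 D20939) (tt N5800 (iv D14395)) (tt N8814 D20940) (tt N8759 (iv F89917)) (tt N8815 D20941) (tt N6345 F201442))
theorem Q7218 : ∀ i, i < 7218 → P i := stepQ 7217 Q7217 (allL N7217 (tt N5934 (iv F201241)) (tt N5802 F63203) (tt N7217 F63204) (tt N5925 (iv F201245)) (tt N8157 (iv F85667)) (tt N8815 (iv F90309)) (tt N5847 F63205) (tt N8760 (iv F89922)) (tt N5800 (iv D14396)) (tt N8816 D20943))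
theorem Q7219 : ∀ i, i < 7219 → P i := stepQ 7218 Q7218 (allL N7218 (tt N5808 F63206) (tt N8813 (iv F90299)) (tt N5803 F63207) (tt N8817 D20944) (tt N5801 (iv D14397)) (tt N8158 (iv F85671)) (tt N8818 D20945) (tt N8761 (iv F89925)) (tt N8819 D20946) (tt N6406 (iv F201790)))
theorem Q7220 : ∀ i, i < 7220 → P i := stepQ 7219 Q7219 (allL N7219 (tt N5809 F63208) (tt N8814 (iv F90302)) (tt N5804 F63209) (tt N6336 F63210) (tt N8818 (iv F90322)) (tt N5849 F63211) (tt N5801 (iv D14398)) (tt N8820 D20947) (tt N8821 D20948) (tt N6405 (iv F201823)))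
theorem Q7221 : ∀ i, i < 7221 → P i := stepQ 7220 Q7220 (allL N7220 (tt N5810 F63212) (tt N8815 (iv F90307)) (tt N5805 F63213) (tt N8822 D20949) (tt N8819 (iv F90325)) (tt N5802 F63214) (tt N8821 (iv F90333)) (tt N8763 (iv F89933)) (tt N5801 (iv D14399)) (tt N8823 D20950))
theorem Q7222 : ∀ i, i < 7222 → P i := stepQ 7221 Q7221 (allL N7221 (tt N5811 F63215) (tt N5925 (iv F201244)) (tt N7221 F63216) (tt N5802 (iv D14400)) (tt N8373 (iv F201349)) (tt N8822 (iv F90336)) (tt N5851 F63217) (tt N8764 (iv F89937)) (tt N5923 F200988) (tt N8824 D20952))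
theorem Q7223 : ∀ i, i < 7223 → P i := stepQ 7222 Q7222 (allL N7222 (tt N5812 F63219) (tt N8816 (iv F90315)) (tt N5806 F63220) (tt N8824 (iv F90347)) (tt N8162 (iv F85684)) (tt N8823 (iv F90340)) (tt N5852 F63221) (tt N8765 (iv F89942)) (tt N5966 (iv F201941)) (tt N5802 (iv D14401)))
theorem Q7224 : ∀ i, i < 7224 → P i := stepQ 7223 Q7223 (allL N7223 (tt N5813 F63222) (tt N7223 F63223) (tt N8818 (iv F90321)) (tt N8730 (iv F89616)) (tt N5804 F63224) (tt N8825 D20953) (tt N5803 (iv D14402)) (tt N8826 D20954) (tt N8827 D20955) (tt N6495 (iv F202495)))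
theorem Q7225 : ∀ i, i < 7225 → P i := stepQ 7224 Q7224 (allL N7224 (tt N5814 F63225) (tt N7224 F63226) (tt N8819 (iv F90324)) (tt N8828 D20956) (tt N5805 F63227) (tt N8164 (iv F85692)) (tt N8827 (iv F90358)) (tt N8767 (iv F89949)) (tt N5803 (iv D14403)) (tt N8829 D20957))
theorem Q7226 : ∀ i, i < 7226 → P i := stepQ 7225 Q7225 (allL N7225 (tt N5815 F63228) (tt N7225 F63229) (tt N8820 (iv F90327)) (tt N5807 F63230) (tt N8826 (iv F90354)) (tt N5855 F63231) (tt N8768 (iv F89954)) (tt N5804 (iv D14404)) (tt N8830 D20958) (tt N6494 (iv F201714)))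
theorem Q7227 : ∀ i, i < 7227 → P i := stepQ 7226 Q7226 (allL N7226 (tt N5816 F63232) (tt N7226 F63233) (tt N8821 (iv F90331)) (tt N7226 F63234) (tt N8827 (iv F90357)) (tt N5856 F63235) (tt N5805 F63236) (tt N8830 (iv F90369)) (tt N5804 (iv D14405)) (tt N8831 D20959))
theorem Q7228 : ∀ i, i < 7228 → P i := stepQ 7227 Q7227 (allL N7227 (tt N5817 F63237) (tt N7227 F63238) (tt N8823 (iv F90339)) (tt N7227 F63239) (tt N8829 (iv F90364)) (tt N5806 F63240) (tt N8831 (iv F90374)) (tt N8770 (iv F89964)) (tt N6186 (iv F202687)) (tt N5805 (iv D14406)))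
theorem Q7229 : ∀ i, i < 7229 → P i := stepQ 7228 Q7228 (allL N7228 (tt N8817 (iv F90318)) (tt N5958 F63241) (tt N8731 (iv F89635)) (tt N5808 (iv D14407)) (tt N6340 F63242) (tt N8168 (iv F85706)) (tt N8832 D20960) (tt N8771 (iv F89967)) (tt N8833 D20961) (tt N8795 (iv F90219)))
theorem Q7230 : ∀ i, i < 7230 → P i := stepQ 7229 Q7229 (allL N7229 (tt N8818 (iv F90320)) (tt N5959 F63243) (tt N5813 F63244) (tt N8832 (iv F90376)) (tt N5809 F63245) (tt N8834 D20962) (tt N5808 (iv D14408)) (tt N8835 D20963) (tt N8836 D20964) (tt N8796 (iv F90223)))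
theorem Q7231 : ∀ i, i < 7231 → P i := stepQ 7230 Q7230 (allL N7230 (tt N8819 (iv F90323)) (tt N5960 F63246) (tt N5814 F63247) (tt N8837 D20965) (tt N5810 F63248) (tt N8170 (iv F85713)) (tt N8836 (iv F90389)) (tt N8773 (iv F89974)) (tt N5808 (iv D14409)) (tt N8838 D20966))
theorem Q7232 : ∀ i, i < 7232 → P i := stepQ 7231 Q7231 (allL N7231 (tt N8820 (iv F90326)) (tt N5961 F63249) (tt N5815 F63250) (tt N6343 F63251) (tt N8835 (iv F90385)) (tt N5861 F63252) (tt N6404 F201363) (tt N5809 (iv D14410)) (tt N8839 D20967) (tt N8798 (iv F90231)))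
theorem Q7233 : ∀ i, i < 7233 → P i := stepQ 7232 Q7232 (allL N7232 (tt N8821 (iv F90330)) (tt N5962 F63253) (tt N5816 F63254) (tt N8840 D20968) (tt N8836 (iv F90388)) (tt N5862 F63255) (tt N5810 F63256) (tt N8839 (iv F90397)) (tt N5809 (iv D14411)) (tt N8841 D20969))
theorem Q7234 : ∀ i, i < 7234 → P i := stepQ 7233 Q7233 (allL N7233 (tt N8822 (iv F90334)) (tt N5963 F63257) (tt N7233 F63258) (tt N5810 (iv D14412)) (tt N8842 D20970) (tt N5811 F63259) (tt N8840 (iv F90401)) (tt N8775 (iv F89987)) (tt N6345 F63260) (tt N8843 D20971))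
theorem Q7235 : ∀ i, i < 7235 → P i := stepQ 7234 Q7234 (allL N7234 (tt N8823 (iv F90338)) (tt N5964 F63261) (tt N5817 F63262) (tt N8843 (iv F90412)) (tt N8838 (iv F90393)) (tt N5812 F63263) (tt N8841 (iv F90406)) (tt N8776 (iv F89992)) (tt N8800 (iv F90242)) (tt N5810 (iv D14413)))
theorem Q7236 : ∀ i, i < 7236 → P i := stepQ 7235 Q7235 (allL N7235 (tt N8373 F201509) (tt N5965 F63264) (tt N7235 F63265) (tt N8175 (iv F85729)) (tt N5811 (iv D14414)) (tt N8844 D20972) (tt N5865 F63266) (tt N8777 (iv F89996)) (tt N6346 F63267) (tt N8845 D20973))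
theorem Q7237 : ∀ i, i < 7237 → P i := stepQ 7236 Q7236 (allL N7236 (tt N8824 (iv F90345)) (tt N5966 F63268) (tt N7236 F63269) (tt N5812 F63270) (tt N8845 (iv F90419)) (tt N8843 (iv F90413)) (tt N5866 F63271) (tt N8778 (iv F90002)) (tt N8816 F201510) (tt N5811 (iv D14415)))
theorem Q7238 : ∀ i, i < 7238 → P i := stepQ 7237 Q7237 (allL N7237 (tt N8825 (iv F90349)) (tt N5818 F63272) (tt N8834 (iv F90381)) (tt N8733 (iv F89667)) (tt N5867 F63273) (tt N5813 (iv D14416)) (tt N8177 (iv F85737)) (tt N8846 D20975) (tt N8847 D20976) (tt N8801 (iv F90251)))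
theorem Q7239 : ∀ i, i < 7239 → P i := stepQ 7238 Q7238 (allL N7238 (tt N8826 (iv F90352)) (tt N5819 F63274) (tt N8835 (iv F90384)) (tt N8734 (iv F89670)) (tt N5815 F63275) (tt N8846 (iv F90427)) (tt N8780 (iv F90007)) (tt N5813 (iv D14417)) (tt N8848 D20977) (tt N8802 (iv F90254)))
theorem Q7240 : ∀ i, i < 7240 → P i := stepQ 7239 Q7239 (allL N7239 (tt N8827 (iv F90355)) (tt N5820 F63276) (tt N8836 (iv F90387)) (tt N8849 D20978) (tt N5816 F63277) (tt N8847 (iv F90430)) (tt N5814 F63278) (tt N8848 (iv F90433)) (tt N5813 (iv D14418)) (tt N8850 D20979))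
theorem Q7241 : ∀ i, i < 7241 → P i := stepQ 7240 Q7240 (allL N7240 (tt N8828 (iv F90359)) (tt N5821 F63279) (tt N8851 D20980) (tt N5814 (iv D14419)) (tt N7240 F63280) (tt N8180 (iv F85744)) (tt N8849 (iv F90436)) (tt N8782 (iv F90013)) (tt N8736 (iv F89677)) (tt N8852 D20981))
theorem Q7242 : ∀ i, i < 7242 → P i := stepQ 7241 Q7241 (allL N7241 (tt N8829 (iv F90362)) (tt N5822 F63281) (tt N8838 (iv F90392)) (tt N8852 (iv F90442)) (tt N5817 F63282) (tt N8181 (iv F85747)) (tt N8850 (iv F90439)) (tt N8783 (iv F90016)) (tt N8805 (iv F90261)) (tt N5814 (iv D14420)))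
theorem Q7243 : ∀ i, i < 7243 → P i := stepQ 7242 Q7242 (allL N7242 (tt N8830 (iv F90365)) (tt N5823 F63283) (tt N8839 (iv F90395)) (tt N7242 F63284) (tt N8848 (iv F90432)) (tt N5872 F63285) (tt N8784 (iv F90020)) (tt N5816 F63286) (tt N5815 (iv D14421)) (tt N8853 D20982))
theorem Q7244 : ∀ i, i < 7244 → P i := stepQ 7243 Q7243 (allL N7243 (tt N8831 (iv F90370)) (tt N5824 F63287) (tt N8841 (iv F90404)) (tt N7243 F63288) (tt N8850 (iv F90438)) (tt N5873 F63289) (tt N5817 F63290) (tt N8853 (iv F90447)) (tt N8807 (iv F90268)) (tt N5816 (iv D14422)))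
theorem Q7245 : ∀ i, i < 7245 → P i := stepQ 7244 Q7244 (allL N7244 (tt N7244 F63291) (tt N8846 (iv F90425)) (tt N5974 F63292) (tt N8740 (iv F89690)) (tt N5874 F63293) (tt N5819 F63294) (tt N8854 D20983) (tt N5818 (iv D14423)) (tt N8855 D20984) (tt N8808 (iv F90273)))
theorem Q7246 : ∀ i, i < 7246 → P i := stepQ 7245 Q7245 (allL N7245 (tt N7245 F63295) (tt N8847 (iv F90428)) (tt N5975 F63296) (tt N8856 D20985) (tt N5875 F63297) (tt N5820 F63298) (tt N8185 (iv F85762)) (tt N8855 (iv F90455)) (tt N5818 (iv D14424)) (tt N8857 D20986))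
theorem Q7247 : ∀ i, i < 7247 → P i := stepQ 7246 Q7246 (allL N7246 (tt N7246 F63299) (tt N8848 (iv F90431)) (tt N5976 F63300) (tt N8858 D20987) (tt N5823 F63301) (tt N8855 (iv F90454)) (tt N8787 (iv F90037)) (tt N5820 F63302) (tt N5819 (iv D14425)) (tt N8859 D20988))
theorem Q7248 : ∀ i, i < 7248 → P i := stepQ 7247 Q7247 (allL N7247 (tt N7247 F63303) (tt N8849 (iv F90434)) (tt N8860 D20989) (tt N5820 (iv D14426)) (tt N7247 F63304) (tt N8856 (iv F90457)) (tt N5821 F63305) (tt N8858 (iv F90464)) (tt N8743 (iv F89704)) (tt N8861 D20990))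
theorem Q7249 : ∀ i, i < 7249 → P i := stepQ 7248 Q7248 (allL N7248 (tt N7248 F63306) (tt N8850 (iv F90437)) (tt N5978 F63307) (tt N8861 (iv F90474)) (tt N5824 F63308) (tt N8857 (iv F90461)) (tt N5822 F63309) (tt N8859 (iv F90468)) (tt N8810 (iv F90288)) (tt N5820 (iv D14427)))
theorem Q7250 : ∀ i, i < 7250 → P i := stepQ 7249 Q7249 (allL N7249 (tt N7249 F63310) (tt N8862 D20991) (tt N5821 (iv D14428)) (tt N5979 F63311) (tt N7249 F63312) (tt N8189 (iv F85775)) (tt N8860 (iv F90472)) (tt N8790 (iv F90049)) (tt N8745 (iv F89712)) (tt N8863 D20992))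
theorem Q7251 : ∀ i, i < 7251 → P i := stepQ 7250 Q7250 (allL N7250 (tt N7250 F63313) (tt N8852 (iv F90441)) (tt N8863 (iv F90480)) (tt N5822 F63314) (tt N7250 F63315) (tt N8190 (iv F85778)) (tt N8861 (iv F90476)) (tt N8791 (iv F90053)) (tt N8864 D20993) (tt N5821 (iv D14429)))
theorem Q7252 : ∀ i, i < 7252 → P i := stepQ 7251 Q7251 (allL N7251 (tt N7251 F63316) (tt N8853 (iv F90444)) (tt N5981 F63317) (tt N7251 F63318) (tt N8859 (iv F90467)) (tt N5881 F63319) (tt N8792 (iv F90058)) (tt N5824 F63320) (tt N8812 (iv F90297)) (tt N5823 (iv D14430)))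
theorem Q7253 : ∀ i, i < 7253 → P i := stepQ 7252 Q7252 (allL N7252 (tt N7252 F63417) (tt N6210 (iv F203490)) (tt N7252 F63418) (tt N8865 D21025) (tt N5828 F63419) (tt N8048 F205033) (tt N5826 F63420) (tt N8047 F205034) (tt N5825 (iv D14451)) (tt N8866 D21026))
theorem Q7254 : ∀ i, i < 7254 → P i := stepQ 7253 Q7253 (allL N7253 (tt N7253 F63421) (tt N6211 (iv F203690)) (tt N8867 D21027) (tt N5826 (iv D14452)) (tt N5842 F63422) (tt N7253 F63423) (tt N8865 (iv F90631)) (tt N7253 F63424) (tt N7253 F63425) (tt N8868 D21028))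
theorem Q7255 : ∀ i, i < 7255 → P i := stepQ 7254 Q7254 (allL N7254 (tt N7254 F63426) (tt N6212 (iv F203692)) (tt N7254 F63427) (tt N8868 (iv F90645)) (tt N5829 F63428) (tt N7254 F63429) (tt N8866 (iv F90636)) (tt N7254 F63430) (tt N7254 F63431) (tt N5826 (iv D14453)))
theorem Q7256 : ∀ i, i < 7256 → P i := stepQ 7255 Q7255 (allL N7255 (tt N7255 F63432) (tt N6213 (iv F202587)) (tt N7255 F63433) (tt N5844 F63434) (tt N8047 F205049) (tt N8024 (iv F205116)) (tt N7255 F63435) (tt N5828 F63436) (tt N5827 (iv D14454)) (tt N8869 D21029))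
theorem Q7257 : ∀ i, i < 7257 → P i := stepQ 7256 Q7256 (allL N7256 (tt N7256 F63437) (tt N6214 (iv F203491)) (tt N7256 F63438) (tt N5845 F63439) (tt N8866 (iv F90635)) (tt N8794 (iv F90167)) (tt N5829 F63440) (tt N8869 (iv F90653)) (tt N7256 F63441) (tt N5828 (iv D14455)))
theorem Q7258 : ∀ i, i < 7258 → P i := stepQ 7257 Q7257 (allL N7257 (tt N6432 (iv F202835)) (tt N5992 F63493) (tt N7257 F63494) (tt N5830 (iv D14468)) (tt N6349 F63495) (tt N8192 (iv F85844)) (tt N8870 D21051) (tt N7257 F63496) (tt N8871 D21052) (tt N5858 F63497))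
theorem Q7259 : ∀ i, i < 7259 → P i := stepQ 7258 Q7258 (allL N7258 (tt N6434 (iv F202711)) (tt N5993 F63498) (tt N5834 F63499) (tt N8870 (iv F90748)) (tt N5831 F63500) (tt N8872 D21053) (tt N5830 (iv D14469)) (tt N8873 D21054) (tt N8874 D21055) (tt N5859 F63501))
theorem Q7260 : ∀ i, i < 7260 → P i := stepQ 7259 Q7259 (allL N7259 (tt N6040 (iv F202799)) (tt N5994 F63502) (tt N5835 F63503) (tt N8875 D21056) (tt N5832 F63504) (tt N8194 (iv F85854)) (tt N8874 (iv F90766)) (tt N7259 F63505) (tt N5830 (iv D14470)) (tt N8876 D21057))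
theorem Q7261 : ∀ i, i < 7261 → P i := stepQ 7260 Q7260 (allL N7260 (tt N6433 (iv F201845)) (tt N5995 F63506) (tt N5836 F63507) (tt N6351 F63508) (tt N8873 (iv F90760)) (tt N8798 (iv F90230)) (tt N7260 F63509) (tt N5831 (iv D14471)) (tt N8877 D21058) (tt N5861 F63510))
theorem Q7262 : ∀ i, i < 7262 → P i := stepQ 7261 Q7261 (allL N7261 (tt N6038 (iv F202610)) (tt N5996 F63511) (tt N5837 F63512) (tt N6021 (iv F202616)) (tt N8874 (iv F90765)) (tt N8799 (iv F90234)) (tt N5832 F63513) (tt N8877 (iv F90777)) (tt N5831 (iv D14472)) (tt N8878 D21060))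
theorem Q7263 : ∀ i, i < 7263 → P i := stepQ 7262 Q7262 (allL N7262 (tt N6041 (iv F202800)) (tt N5998 F63518) (tt N5838 F63519) (tt N6022 (iv F202794)) (tt N8876 (iv F90771)) (tt N5833 F63520) (tt N8878 (iv F90783)) (tt N7262 F63521) (tt N5864 F63522) (tt N5832 (iv D14474)))
theorem Q7264 : ∀ i, i < 7264 → P i := stepQ 7263 Q7263 (allL N7263 (tt N6499 (iv F203438)) (tt N5839 F63529) (tt N8872 (iv F90756)) (tt N7263 F63530) (tt N8801 (iv F90250)) (tt N5834 (iv D14477)) (tt N8200 (iv F85885)) (tt N8879 D21066) (tt N8880 D21067) (tt N5867 F63531))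
theorem Q7265 : ∀ i, i < 7265 → P i := stepQ 7264 Q7264 (allL N7264 (tt N6498 (iv F202579)) (tt N5840 F63532) (tt N8873 (iv F90759)) (tt N7264 F63533) (tt N5836 F63534) (tt N8879 (iv F90804)) (tt N7264 F63535) (tt N5834 (iv D14478)) (tt N8881 D21068) (tt N5868 F63536))
theorem Q7266 : ∀ i, i < 7266 → P i := stepQ 7265 Q7265 (allL N7265 (tt N6233 (iv F203480)) (tt N5841 F63537) (tt N8874 (iv F90764)) (tt N8882 D21069) (tt N5837 F63538) (tt N8880 (iv F90807)) (tt N5835 F63539) (tt N8881 (iv F90811)) (tt N5834 (iv D14479)) (tt N8883 D21070))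
theorem Q7267 : ∀ i, i < 7267 → P i := stepQ 7266 Q7266 (allL N7266 (tt N6229 (iv F203668)) (tt N5842 F63540) (tt N8884 D21071) (tt N5835 (iv D14480)) (tt N6211 (iv F203691)) (tt N8203 (iv F85897)) (tt N8882 (iv F90813)) (tt N7266 F63541) (tt N7266 F63542) (tt N8885 D21072))
theorem Q7268 : ∀ i, i < 7268 → P i := stepQ 7267 Q7267 (allL N7267 (tt N6236 (iv F203670)) (tt N5843 F63543) (tt N8876 (iv F90770)) (tt N8885 (iv F90822)) (tt N5838 F63544) (tt N8204 (iv F85902)) (tt N8883 (iv F90817)) (tt N7267 F63545) (tt N5871 F63546) (tt N5835 (iv D14481)))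
theorem Q7269 : ∀ i, i < 7269 → P i := stepQ 7268 Q7268 (allL N7268 (tt N6231 (iv F202583)) (tt N5844 F63547) (tt N8877 (iv F90775)) (tt N6213 (iv F202588)) (tt N8881 (iv F90809)) (tt N8806 (iv F90263)) (tt N7268 F63548) (tt N5837 F63549) (tt N5836 (iv D14482)) (tt N8886 D21073))
theorem Q7270 : ∀ i, i < 7270 → P i := stepQ 7269 Q7269 (allL N7269 (tt N6234 (iv F203484)) (tt N5845 F63550) (tt N8878 (iv F90782)) (tt N6214 (iv F203492)) (tt N8883 (iv F90816)) (tt N8807 (iv F90266)) (tt N5838 F63551) (tt N8886 (iv F90826)) (tt N5873 F63552) (tt N5837 (iv D14483)))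
theorem Q7271 : ∀ i, i < 7271 → P i := stepQ 7270 Q7270 (allL N7270 (tt N7270 F63553) (tt N8879 (iv F90802)) (tt N6007 F63554) (tt N7270 F63555) (tt N8808 (iv F90271)) (tt N5840 F63556) (tt N8887 D21074) (tt N5839 (iv D14484)) (tt N8888 D21075) (tt N5874 F63557))
theorem Q7272 : ∀ i, i < 7272 → P i := stepQ 7271 Q7271 (allL N7271 (tt N7271 F63558) (tt N8880 (iv F90806)) (tt N6008 F63559) (tt N8889 D21076) (tt N8809 (iv F90276)) (tt N5841 F63560) (tt N8208 (iv F85921)) (tt N8888 (iv F90836)) (tt N5839 (iv D14485)) (tt N8890 D21077))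
theorem Q7273 : ∀ i, i < 7273 → P i := stepQ 7272 Q7272 (allL N7272 (tt N7272 F63561) (tt N8881 (iv F90808)) (tt N6009 F63562) (tt N8891 D21078) (tt N5844 F63563) (tt N8888 (iv F90835)) (tt N7272 F63564) (tt N5841 F63565) (tt N5840 (iv D14486)) (tt N8892 D21079))
theorem Q7274 : ∀ i, i < 7274 → P i := stepQ 7273 Q7273 (allL N7273 (tt N7273 F63566) (tt N8882 (iv F90812)) (tt N8893 D21080) (tt N5841 (iv D14487)) (tt N8865 (iv F90630)) (tt N8889 (iv F90838)) (tt N5842 F63567) (tt N8891 (iv F90846)) (tt N7273 F63568) (tt N8894 D21081))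
theorem Q7275 : ∀ i, i < 7275 → P i := stepQ 7274 Q7274 (allL N7274 (tt N7274 F63569) (tt N8883 (iv F90815)) (tt N6011 F63570) (tt N8894 (iv F90859)) (tt N5845 F63571) (tt N8890 (iv F90842)) (tt N5843 F63572) (tt N8892 (iv F90852)) (tt N5878 F63573) (tt N5841 (iv D14488)))
theorem Q7276 : ∀ i, i < 7276 → P i := stepQ 7275 Q7275 (allL N7275 (tt N7275 F63574) (tt N8895 D21082) (tt N5842 (iv D14489)) (tt N6012 F63575) (tt N8867 (iv F90640)) (tt N8212 (iv F85939)) (tt N8893 (iv F90856)) (tt N7275 F63576) (tt N7275 F63577) (tt N8896 D21083))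
theorem Q7277 : ∀ i, i < 7277 → P i := stepQ 7276 Q7276 (allL N7276 (tt N7276 F63578) (tt N8885 (iv F90821)) (tt N8896 (iv F90865)) (tt N5843 F63579) (tt N8868 (iv F90646)) (tt N8213 (iv F85945)) (tt N8894 (iv F90860)) (tt N7276 F63580) (tt N8897 D21084) (tt N5842 (iv D14490)))
theorem Q7278 : ∀ i, i < 7278 → P i := stepQ 7277 Q7277 (allL N7277 (tt N7277 F63581) (tt N8886 (iv F90824)) (tt N6014 F63582) (tt N8869 (iv F90651)) (tt N8892 (iv F90850)) (tt N8812 (iv F90295)) (tt N7277 F63583) (tt N5845 F63584) (tt N5881 F63585) (tt N5844 (iv D14491)))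
theorem Q7279 : ∀ i, i < 7279 → P i := stepQ 7278 Q7278 (allL N7278 (tt N6015 F63586) (tt N5848 F63587) (tt N7278 F63588) (tt N8898 D21085) (tt N5846 (iv D14492)) (tt N8215 (iv F85956)) (tt N8899 D21086) (tt N7278 F63589) (tt N8900 D21087) (tt N6372 F202367))
theorem Q7280 : ∀ i, i < 7280 → P i := stepQ 7279 Q7279 (allL N7279 (tt N6016 F63590) (tt N5849 F63591) (tt N7279 F63592) (tt N6355 F63593) (tt N8899 (iv F90879)) (tt N8814 (iv F90305)) (tt N5846 (iv D14493)) (tt N8901 D21088) (tt N8902 D21089) (tt N6371 F202272))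
theorem Q7281 : ∀ i, i < 7281 → P i := stepQ 7280 Q7280 (allL N7280 (tt N5997 (iv F202049)) (tt N5850 F63595) (tt N7280 F63596) (tt N5985 (iv F202057)) (tt N8900 (iv F90883)) (tt N5847 F63597) (tt N8902 (iv F90893)) (tt N7280 F63598) (tt N5846 (iv D14494)) (tt N8903 D21091))
theorem Q7282 : ∀ i, i < 7282 → P i := stepQ 7281 Q7281 (allL N7281 (tt N5999 (iv F202051)) (tt N5852 F63604) (tt N7281 F63605) (tt N5986 (iv F202059)) (tt N8219 (iv F85974)) (tt N8903 (iv F90902)) (tt N8816 (iv F90317)) (tt N7281 F63606) (tt N5866 (iv F201943)) (tt N5847 (iv D14496)))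
theorem Q7283 : ∀ i, i < 7283 → P i := stepQ 7282 Q7282 (allL N7282 (tt N5858 F63607) (tt N8898 (iv F90873)) (tt N7282 F63608) (tt N5848 (iv D14497)) (tt N6356 F63609) (tt N8220 (iv F85979)) (tt N8904 D21095) (tt N7282 F63610) (tt N8905 D21096) (tt N6432 (iv F202836)))
theorem Q7284 : ∀ i, i < 7284 → P i := stepQ 7283 Q7283 (allL N7283 (tt N5859 F63611) (tt N8899 (iv F90877)) (tt N5853 F63612) (tt N8904 (iv F90919)) (tt N5849 F63613) (tt N8906 D21097) (tt N5848 (iv D14498)) (tt N8907 D21098) (tt N8908 D21099) (tt N6434 (iv F202712)))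
theorem Q7285 : ∀ i, i < 7285 → P i := stepQ 7284 Q7284 (allL N7284 (tt N5860 F63614) (tt N8900 (iv F90881)) (tt N5854 F63615) (tt N8909 D21100) (tt N5850 F63616) (tt N8222 (iv F85987)) (tt N8908 (iv F90934)) (tt N7284 F63617) (tt N5848 (iv D14499)) (tt N8910 D21101))
theorem Q7286 : ∀ i, i < 7286 → P i := stepQ 7285 Q7285 (allL N7285 (tt N5861 F63618) (tt N8901 (iv F90886)) (tt N5855 F63619) (tt N6359 F63620) (tt N8907 (iv F90929)) (tt N8820 (iv F90329)) (tt N7285 F63621) (tt N5849 (iv D14500)) (tt N8911 D21102) (tt N6433 (iv F201847)))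
theorem Q7287 : ∀ i, i < 7287 → P i := stepQ 7286 Q7286 (allL N7286 (tt N5862 F63622) (tt N8902 (iv F90891)) (tt N5856 F63623) (tt N8912 D21103) (tt N8908 (iv F90933)) (tt N8821 (iv F90332)) (tt N5850 F63624) (tt N8911 (iv F90944)) (tt N5849 (iv D14501)) (tt N8913 D21104))
theorem Q7288 : ∀ i, i < 7288 → P i := stepQ 7287 Q7287 (allL N7287 (tt N5863 F63625) (tt N5985 (iv F202056)) (tt N7287 F63626) (tt N5850 (iv D14502)) (tt N8914 D21105) (tt N5851 F63627) (tt N8912 (iv F90947)) (tt N7287 F63628) (tt N5982 F201702) (tt N8915 D21106))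
theorem Q7289 : ∀ i, i < 7289 → P i := stepQ 7288 Q7288 (allL N7288 (tt N5864 F63630) (tt N8903 (iv F90900)) (tt N5857 F63631) (tt N8915 (iv F90958)) (tt N8910 (iv F90939)) (tt N5852 F63632) (tt N8913 (iv F90951)) (tt N7288 F63633) (tt N6041 (iv F202801)) (tt N5850 (iv D14503)))
theorem Q7290 : ∀ i, i < 7290 → P i := stepQ 7289 Q7289 (allL N7289 (tt N5866 F63638) (tt N5986 (iv F202058)) (tt N7289 F63639) (tt N5852 F63640) (tt N8495 (iv F202163)) (tt N8915 (iv F90959)) (tt N8824 (iv F90348)) (tt N7289 F63641) (tt N5999 (iv F202045)) (tt N5851 (iv D14505)))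
theorem Q7291 : ∀ i, i < 7291 → P i := stepQ 7290 Q7290 (allL N7290 (tt N5867 F63642) (tt N7290 F63643) (tt N8906 (iv F90926)) (tt N7290 F63644) (tt N8825 (iv F90351)) (tt N5853 (iv D14506)) (tt N8229 (iv F86014)) (tt N8916 D21110) (tt N8917 D21111) (tt N6499 (iv F203439)))
theorem Q7292 : ∀ i, i < 7292 → P i := stepQ 7291 Q7291 (allL N7291 (tt N5868 F63645) (tt N7291 F63646) (tt N8907 (iv F90928)) (tt N7291 F63647) (tt N5855 F63648) (tt N8916 (iv F90976)) (tt N7291 F63649) (tt N5853 (iv D14507)) (tt N8918 D21112) (tt N6498 (iv F202580)))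
theorem Q7293 : ∀ i, i < 7293 → P i := stepQ 7292 Q7292 (allL N7292 (tt N5869 F63650) (tt N7292 F63651) (tt N8908 (iv F90932)) (tt N8919 D21113) (tt N5856 F63652) (tt N8917 (iv F90979)) (tt N5854 F63653) (tt N8918 (iv F90984)) (tt N5853 (iv D14508)) (tt N8920 D21114))
theorem Q7294 : ∀ i, i < 7294 → P i := stepQ 7293 Q7293 (allL N7293 (tt N5870 F63654) (tt N7293 F63655) (tt N8921 D21115) (tt N5854 (iv D14509)) (tt N7293 F63656) (tt N8232 (iv F86026)) (tt N8919 (iv F90988)) (tt N7293 F63657) (tt N7293 F63658) (tt N8922 D21116))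
theorem Q7295 : ∀ i, i < 7295 → P i := stepQ 7294 Q7294 (allL N7294 (tt N5871 F63659) (tt N7294 F63660) (tt N8910 (iv F90938)) (tt N8922 (iv F91000)) (tt N5857 F63661) (tt N8233 (iv F86032)) (tt N8920 (iv F90993)) (tt N7294 F63662) (tt N6236 (iv F203671)) (tt N5854 (iv D14510)))
theorem Q7296 : ∀ i, i < 7296 → P i := stepQ 7295 Q7295 (allL N7295 (tt N5872 F63663) (tt N7295 F63664) (tt N8911 (iv F90942)) (tt N7295 F63665) (tt N8918 (iv F90982)) (tt N8830 (iv F90368)) (tt N7295 F63666) (tt N5856 F63667) (tt N5855 (iv D14511)) (tt N8923 D21117))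
theorem Q7297 : ∀ i, i < 7297 → P i := stepQ 7296 Q7296 (allL N7296 (tt N5873 F63668) (tt N7296 F63669) (tt N8913 (iv F90950)) (tt N7296 F63670) (tt N8920 (iv F90992)) (tt N8831 (iv F90373)) (tt N5857 F63671) (tt N8923 (iv F91007)) (tt N6234 (iv F203485)) (tt N5856 (iv D14512)))
theorem Q7298 : ∀ i, i < 7298 → P i := stepQ 7297 Q7297 (allL N7297 (tt N8904 (iv F90917)) (tt N6030 F63672) (tt N7297 F63673) (tt N5859 F63674) (tt N6364 F63675) (tt N8924 D21118) (tt N5858 (iv D14513)) (tt N8925 D21119) (tt N8926 D21120) (tt N8870 (iv F90750)))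
theorem Q7299 : ∀ i, i < 7299 → P i := stepQ 7298 Q7298 (allL N7298 (tt N8905 (iv F90921)) (tt N6031 F63676) (tt N7298 F63677) (tt N8927 D21121) (tt N6365 F63678) (tt N8237 (iv F86048)) (tt N8926 (iv F91019)) (tt N7298 F63679) (tt N5858 (iv D14514)) (tt N8928 D21122))
theorem Q7300 : ∀ i, i < 7300 → P i := stepQ 7299 Q7299 (allL N7299 (tt N8906 (iv F90925)) (tt N6032 F63680) (tt N5867 F63681) (tt N8924 (iv F91010)) (tt N8834 (iv F90382)) (tt N5859 (iv D14515)) (tt N8238 (iv F86052)) (tt N8929 D21123) (tt N8930 D21124) (tt N8872 (iv F90757)))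
theorem Q7301 : ∀ i, i < 7301 → P i := stepQ 7300 Q7300 (allL N7300 (tt N8907 (iv F90927)) (tt N6033 F63682) (tt N5868 F63683) (tt N8925 (iv F91013)) (tt N5861 F63684) (tt N8929 (iv F91029)) (tt N7300 F63685) (tt N5859 (iv D14516)) (tt N8931 D21125) (tt N8873 (iv F90762)))
theorem Q7302 : ∀ i, i < 7302 → P i := stepQ 7301 Q7301 (allL N7301 (tt N8908 (iv F90931)) (tt N6034 F63686) (tt N5869 F63687) (tt N8932 D21126) (tt N5862 F63688) (tt N8930 (iv F91032)) (tt N5860 F63689) (tt N8931 (iv F91037)) (tt N5859 (iv D14517)) (tt N8933 D21127))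
theorem Q7303 : ∀ i, i < 7303 → P i := stepQ 7302 Q7302 (allL N7302 (tt N8909 (iv F90935)) (tt N6035 F63690) (tt N8934 D21128) (tt N5860 (iv D14518)) (tt N8935 D21129) (tt N8241 (iv F86062)) (tt N8932 (iv F91039)) (tt N7302 F63691) (tt N8927 (iv F91022)) (tt N8936 D21130))
theorem Q7304 : ∀ i, i < 7304 → P i := stepQ 7303 Q7303 (allL N7303 (tt N8910 (iv F90937)) (tt N6036 F63692) (tt N5871 F63693) (tt N8936 (iv F91050)) (tt N5864 F63694) (tt N8242 (iv F86067)) (tt N8933 (iv F91043)) (tt N7303 F63695) (tt N8876 (iv F90773)) (tt N5860 (iv D14519)))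
theorem Q7305 : ∀ i, i < 7305 → P i := stepQ 7304 Q7304 (allL N7304 (tt N8911 (iv F90941)) (tt N6037 F63696) (tt N5872 F63697) (tt N8937 D21131) (tt N8931 (iv F91035)) (tt N8839 (iv F90396)) (tt N7304 F63698) (tt N5862 F63699) (tt N5861 (iv D14520)) (tt N8938 D21132))
theorem Q7306 : ∀ i, i < 7306 → P i := stepQ 7305 Q7305 (allL N7305 (tt N8912 (iv F90945)) (tt N6038 F63700) (tt N7305 F63701) (tt N5862 (iv D14521)) (tt N8939 D21133) (tt N8840 (iv F90400)) (tt N5863 F63702) (tt N8937 (iv F91055)) (tt N6371 F63703) (tt N8940 D21134))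
theorem Q7307 : ∀ i, i < 7307 → P i := stepQ 7306 Q7306 (allL N7306 (tt N8913 (iv F90949)) (tt N6039 F63704) (tt N5873 F63705) (tt N8940 (iv F91067)) (tt N8933 (iv F91042)) (tt N8841 (iv F90405)) (tt N5864 F63706) (tt N8938 (iv F91060)) (tt N8878 (iv F90784)) (tt N5862 (iv D14522)))
theorem Q7308 : ∀ i, i < 7308 → P i := stepQ 7307 Q7307 (allL N7307 (tt N8914 (iv F90952)) (tt N6040 F63707) (tt N7307 F63708) (tt N8935 (iv F91047)) (tt N5863 (iv D14523)) (tt N8941 D21135) (tt N8939 (iv F91063)) (tt N7307 F63709) (tt N6372 F63710) (tt N8942 D21136))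
theorem Q7309 : ∀ i, i < 7309 → P i := stepQ 7308 Q7308 (allL N7308 (tt N8915 (iv F90956)) (tt N6041 F63711) (tt N7308 F63712) (tt N5864 F63713) (tt N8942 (iv F91076)) (tt N5866 F63714) (tt N8940 (iv F91068)) (tt N7308 F63715) (tt N8903 F202356) (tt N5863 (iv D14524)))
theorem Q7310 : ∀ i, i < 7310 → P i := stepQ 7309 Q7309 (allL N7309 (tt N8494 F202357) (tt N6042 F63716) (tt N7309 F63717) (tt N8248 (iv F86087)) (tt N8941 (iv F91071)) (tt N5865 (iv D14525)) (tt N8943 D21138) (tt N7309 F63718) (tt N6373 F63719) (tt N8944 D21139))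
theorem Q7311 : ∀ i, i < 7311 → P i := stepQ 7310 Q7310 (allL N7310 (tt N8495 F202358) (tt N6043 F63720) (tt N7310 F63721) (tt N8249 (iv F86091)) (tt N5866 F63722) (tt N8944 (iv F91088)) (tt N8845 (iv F90420)) (tt N7310 F63723) (tt N8219 F202359) (tt N5865 (iv D14526)))
theorem Q7312 : ∀ i, i < 7312 → P i := stepQ 7311 Q7311 (allL N7311 (tt N8916 (iv F90973)) (tt N5874 F63728) (tt N8929 (iv F91028)) (tt N7311 F63729) (tt N8846 (iv F90426)) (tt N5868 F63730) (tt N8945 D21141) (tt N5867 (iv D14528)) (tt N8946 D21142) (tt N8879 (iv F90805)))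
theorem Q7313 : ∀ i, i < 7313 → P i := stepQ 7312 Q7312 (allL N7312 (tt N8917 (iv F90977)) (tt N5875 F63731) (tt N8930 (iv F91031)) (tt N8947 D21143) (tt N8847 (iv F90429)) (tt N5869 F63732) (tt N8252 (iv F86102)) (tt N8946 (iv F91100)) (tt N5867 (iv D14529)) (tt N8948 D21144))
theorem Q7314 : ∀ i, i < 7314 → P i := stepQ 7313 Q7313 (allL N7313 (tt N8918 (iv F90980)) (tt N5876 F63733) (tt N8931 (iv F91034)) (tt N8949 D21145) (tt N5872 F63734) (tt N8946 (iv F91099)) (tt N7313 F63735) (tt N5869 F63736) (tt N5868 (iv D14530)) (tt N8950 D21146))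
theorem Q7315 : ∀ i, i < 7315 → P i := stepQ 7314 Q7314 (allL N7314 (tt N8919 (iv F90985)) (tt N5877 F63737) (tt N8951 D21147) (tt N5869 (iv D14531)) (tt N7314 F63738) (tt N8947 (iv F91102)) (tt N5870 F63739) (tt N8949 (iv F91109)) (tt N7314 F63740) (tt N8952 D21148))
theorem Q7316 : ∀ i, i < 7316 → P i := stepQ 7315 Q7315 (allL N7315 (tt N8920 (iv F90990)) (tt N5878 F63741) (tt N8933 (iv F91041)) (tt N8952 (iv F91119)) (tt N5873 F63742) (tt N8948 (iv F91105)) (tt N5871 F63743) (tt N8950 (iv F91114)) (tt N8883 (iv F90818)) (tt N5869 (iv D14532)))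
theorem Q7317 : ∀ i, i < 7317 → P i := stepQ 7316 Q7316 (allL N7316 (tt N8921 (iv F90994)) (tt N8953 D21149) (tt N5870 (iv D14533)) (tt N8934 (iv F91044)) (tt N7316 F63744) (tt N8256 (iv F86113)) (tt N8951 (iv F91116)) (tt N7316 F63745) (tt N7316 F63746) (tt N8954 D21150))
theorem Q7318 : ∀ i, i < 7318 → P i := stepQ 7317 Q7317 (allL N7317 (tt N8922 (iv F90998)) (tt N5880 F63747) (tt N8954 (iv F91126)) (tt N5871 F63748) (tt N7317 F63749) (tt N8257 (iv F86118)) (tt N8952 (iv F91121)) (tt N7317 F63750) (tt N8955 D21151) (tt N5870 (iv D14534)))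
theorem Q7319 : ∀ i, i < 7319 → P i := stepQ 7318 Q7318 (allL N7318 (tt N8923 (iv F91003)) (tt N5881 F63751) (tt N8938 (iv F91058)) (tt N7318 F63752) (tt N8950 (iv F91112)) (tt N8853 (iv F90446)) (tt N7318 F63753) (tt N5873 F63754) (tt N8886 (iv F90827)) (tt N5872 (iv D14535)))
theorem Q7320 : ∀ i, i < 7320 → P i := stepQ 7319 Q7319 (allL N7319 (tt N7319 F63755) (tt N8945 (iv F91095)) (tt N6052 F63756) (tt N7319 F63757) (tt N8854 (iv F90450)) (tt N7319 F63758) (tt N5874 (iv D14536)) (tt N8259 (iv F86127)) (tt N8956 D21152) (tt N8887 (iv F90832)))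
theorem Q7321 : ∀ i, i < 7321 → P i := stepQ 7320 Q7320 (allL N7320 (tt N7320 F63759) (tt N8946 (iv F91098)) (tt N6053 F63760) (tt N8957 D21153) (tt N8855 (iv F90453)) (tt N5876 F63761) (tt N8956 (iv F91136)) (tt N5875 F63762) (tt N5874 (iv D14537)) (tt N8958 D21154))
theorem Q7322 : ∀ i, i < 7322 → P i := stepQ 7321 Q7321 (allL N7321 (tt N7321 F63763) (tt N8947 (iv F91101)) (tt N8959 D21155) (tt N5875 (iv D14538)) (tt N8960 D21156) (tt N5877 F63764) (tt N8261 (iv F86134)) (tt N8957 (iv F91139)) (tt N7321 F63765) (tt N8961 D21157))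
theorem Q7323 : ∀ i, i < 7323 → P i := stepQ 7322 Q7322 (allL N7322 (tt N7322 F63766) (tt N8948 (iv F91104)) (tt N6055 F63767) (tt N8961 (iv F91153)) (tt N8857 (iv F90460)) (tt N5878 F63768) (tt N8262 (iv F86139)) (tt N8958 (iv F91144)) (tt N8890 (iv F90843)) (tt N5875 (iv D14539)))
theorem Q7324 : ∀ i, i < 7324 → P i := stepQ 7323 Q7323 (allL N7323 (tt N7323 F63769) (tt N8949 (iv F91106)) (tt N8962 D21158) (tt N5876 (iv D14540)) (tt N7323 F63770) (tt N8957 (iv F91138)) (tt N7323 F63771) (tt N5877 F63772) (tt N7323 F63773) (tt N8963 D21159))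
theorem Q7325 : ∀ i, i < 7325 → P i := stepQ 7324 Q7324 (allL N7324 (tt N7324 F63774) (tt N8950 (iv F91111)) (tt N6057 F63775) (tt N8963 (iv F91162)) (tt N5881 F63776) (tt N8958 (iv F91143)) (tt N7324 F63777) (tt N5878 F63778) (tt N8892 (iv F90853)) (tt N5876 (iv D14541)))
theorem Q7326 : ∀ i, i < 7326 → P i := stepQ 7325 Q7325 (allL N7325 (tt N7325 F63779) (tt N8964 D21160) (tt N5877 (iv D14542)) (tt N6058 F63780) (tt N7325 F63781) (tt N8959 (iv F91147)) (tt N5879 F63782) (tt N8962 (iv F91159)) (tt N7325 F63783) (tt N8965 D21161))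
theorem Q7327 : ∀ i, i < 7327 → P i := stepQ 7326 Q7326 (allL N7326 (tt N7326 F63784) (tt N8952 (iv F91118)) (tt N8965 (iv F91171)) (tt N5878 F63785) (tt N7326 F63786) (tt N8961 (iv F91154)) (tt N5880 F63787) (tt N8963 (iv F91165)) (tt N8966 D21162) (tt N5877 (iv D14543)))
theorem Q7328 : ∀ i, i < 7328 → P i := stepQ 7327 Q7327 (allL N7327 (tt N8967 D21163) (tt N5879 (iv D14544)) (tt N8953 (iv F91122)) (tt N6060 F63788) (tt N7327 F63789) (tt N8267 (iv F86157)) (tt N8964 (iv F91168)) (tt N7327 F63790) (tt N7327 F63791) (tt N8968 D21164))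
theorem Q7329 : ∀ i, i < 7329 → P i := stepQ 7328 Q7328 (allL N7328 (tt N7328 F63792) (tt N8968 (iv F91184)) (tt N5880 F63793) (tt N6061 F63794) (tt N7328 F63795) (tt N8268 (iv F86163)) (tt N8965 (iv F91174)) (tt N7328 F63796) (tt N8969 D21165) (tt N5879 (iv D14545)))
theorem Q7330 : ∀ i, i < 7330 → P i := stepQ 7329 Q7329 (allL N7329 (tt N7329 F63797) (tt N8955 (iv F91129)) (tt N8969 (iv F91189)) (tt N8897 (iv F90869)) (tt N7329 F63798) (tt N8269 (iv F86166)) (tt N8966 (iv F91177)) (tt N7329 F63799) (tt N5880 (iv D14546)) (tt N7329 F63800))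
theorem Q7331 : ∀ i, i < 7331 → P i := stepQ 7330 Q7330 (allL N7330 (tt N6328 (iv F200479)) (tt N5882 (iv D14547)) (tt N7330 F63801) (tt N6323 F200408) (tt N8286 (iv F86258)) (tt N8970 D21166) (tt N7330 F63803) (tt N5923 F63804) (tt N8764 (iv F200642)) (tt N5898 F63805))
theorem Q7332 : ∀ i, i < 7332 → P i := stepQ 7331 Q7331 (allL N7331 (tt N5886 F63806) (tt N8970 (iv F91193)) (tt N5883 F63807) (tt N6378 F63808) (tt N8971 D21168) (tt N5882 (iv D14548)) (tt N8972 D21169) (tt N5924 F63809) (tt N8973 D21170) (tt N5899 F63810))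
theorem Q7333 : ∀ i, i < 7333 → P i := stepQ 7332 Q7332 (allL N7332 (tt N5887 F63811) (tt N8764 F200856) (tt N5884 F63812) (tt N8760 (iv F200987)) (tt N8288 (iv F86269)) (tt N8973 (iv F91213)) (tt N7332 F63813) (tt N5925 F63814) (tt N5882 (iv D14549)) (tt N8974 D21172))
theorem Q7334 : ∀ i, i < 7334 → P i := stepQ 7333 Q7333 (allL N7333 (tt N5888 F63815) (tt N7333 F63816) (tt N8971 (iv F91203)) (tt N7333 F63817) (tt N5883 (iv D14550)) (tt N8289 (iv F86275)) (tt N8975 D21173) (tt N5926 F63818) (tt N8976 D21174) (tt N5901 F63819))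
theorem Q7335 : ∀ i, i < 7335 → P i := stepQ 7334 Q7334 (allL N7334 (tt N5889 F63820) (tt N7334 F63821) (tt N8972 (iv F91207)) (tt N5885 F63822) (tt N8975 (iv F91228)) (tt N7334 F63823) (tt N5883 (iv D14551)) (tt N8977 D21175) (tt N8978 D21176) (tt N5902 F63824))
theorem Q7336 : ∀ i, i < 7336 → P i := stepQ 7335 Q7335 (allL N7335 (tt N5890 F63825) (tt N7335 F63826) (tt N8973 (iv F91212)) (tt N7335 F63827) (tt N8976 (iv F91232)) (tt N5884 F63828) (tt N8978 (iv F91244)) (tt N5928 F63829) (tt N5883 (iv D14552)) (tt N8979 D21177))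
theorem Q7337 : ∀ i, i < 7337 → P i := stepQ 7336 Q7336 (allL N7336 (tt N5891 F63830) (tt N7336 F63831) (tt N8974 (iv F91221)) (tt N7336 F63832) (tt N8292 (iv F86289)) (tt N8979 (iv F91248)) (tt N7336 F63833) (tt N5929 F63834) (tt N5904 F63835) (tt N5884 (iv D14553)))
theorem Q7338 : ∀ i, i < 7338 → P i := stepQ 7337 Q7337 (allL N7337 (tt N5892 F63836) (tt N7337 F63837) (tt N6381 F63838) (tt N8977 (iv F91236)) (tt N7337 F63839) (tt N7337 F63840) (tt N5930 F63841) (tt N5885 (iv D14554)) (tt N7337 F63842) (tt N5905 F63843))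
theorem Q7339 : ∀ i, i < 7339 → P i := stepQ 7338 Q7338 (allL N7338 (tt N8971 (iv F91202)) (tt N8748 (iv F89843)) (tt N5888 F63844) (tt N8980 D21178) (tt N5886 (iv D14555)) (tt N8294 (iv F86301)) (tt N8981 D21179) (tt N5931 F63845) (tt N8982 D21180) (tt N5906 F63846))
theorem Q7340 : ∀ i, i < 7340 → P i := stepQ 7339 Q7339 (allL N7339 (tt N8972 (iv F91206)) (tt N8749 (iv F89847)) (tt N5889 F63847) (tt N6383 F63848) (tt N8981 (iv F91256)) (tt N7339 F63849) (tt N5886 (iv D14556)) (tt N8983 D21181) (tt N8984 D21182) (tt N5907 F63850))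
theorem Q7341 : ∀ i, i < 7341 → P i := stepQ 7340 Q7340 (allL N7340 (tt N8973 (iv F91211)) (tt N8750 (iv F89852)) (tt N5890 F63851) (tt N8985 D21183) (tt N8982 (iv F91259)) (tt N5887 F63852) (tt N8984 (iv F91268)) (tt N5933 F63853) (tt N5886 (iv D14557)) (tt N8986 D21184))
theorem Q7342 : ∀ i, i < 7342 → P i := stepQ 7341 Q7341 (allL N7341 (tt N8760 (iv F200986)) (tt N5900 (iv F201104)) (tt N7341 F63854) (tt N5887 (iv D14558)) (tt N8312 (iv F201249)) (tt N8985 (iv F91270)) (tt N7341 F63855) (tt N5934 F63856) (tt N5898 F200855) (tt N8987 D21186))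
theorem Q7343 : ∀ i, i < 7343 → P i := stepQ 7342 Q7342 (allL N7342 (tt N8974 (iv F91220)) (tt N8751 (iv F89860)) (tt N5891 F63858) (tt N8987 (iv F91282)) (tt N8298 (iv F86315)) (tt N8986 (iv F91274)) (tt N7342 F63859) (tt N5935 F63860) (tt N5910 F63861) (tt N5887 (iv D14559)))
theorem Q7344 : ∀ i, i < 7344 → P i := stepQ 7343 Q7343 (allL N7343 (tt N8975 (iv F91225)) (tt N5893 F63862) (tt N8981 (iv F91255)) (tt N7343 F63863) (tt N5889 F63864) (tt N8988 D21187) (tt N5888 (iv D14560)) (tt N8989 D21188) (tt N8990 D21189) (tt N5911 F63865))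
theorem Q7345 : ∀ i, i < 7345 → P i := stepQ 7344 Q7344 (allL N7344 (tt N8976 (iv F91230)) (tt N5894 F63866) (tt N8982 (iv F91258)) (tt N8991 D21190) (tt N5890 F63867) (tt N8300 (iv F86325)) (tt N8990 (iv F91296)) (tt N5937 F63868) (tt N5888 (iv D14561)) (tt N8992 D21191))
theorem Q7346 : ∀ i, i < 7346 → P i := stepQ 7345 Q7345 (allL N7345 (tt N8977 (iv F91234)) (tt N5895 F63869) (tt N8983 (iv F91261)) (tt N5892 F63870) (tt N8989 (iv F91291)) (tt N7345 F63871) (tt N5938 F63872) (tt N5889 (iv D14562)) (tt N8993 D21192) (tt N5913 F63873))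
theorem Q7347 : ∀ i, i < 7347 → P i := stepQ 7346 Q7346 (allL N7346 (tt N8978 (iv F91240)) (tt N5896 F63874) (tt N8984 (iv F91266)) (tt N7346 F63875) (tt N8990 (iv F91295)) (tt N7346 F63876) (tt N5890 F63877) (tt N8993 (iv F91309)) (tt N5889 (iv D14563)) (tt N8994 D21193))
theorem Q7348 : ∀ i, i < 7348 → P i := stepQ 7347 Q7347 (allL N7347 (tt N8979 (iv F91245)) (tt N5897 F63878) (tt N8986 (iv F91273)) (tt N7347 F63879) (tt N8992 (iv F91302)) (tt N5891 F63880) (tt N8994 (iv F91313)) (tt N5940 F63881) (tt N5915 F63882) (tt N5890 (iv D14564)))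
theorem Q7349 : ∀ i, i < 7349 → P i := stepQ 7348 Q7348 (allL N7348 (tt N7348 F63883) (tt N8988 (iv F91285)) (tt N8721 F206054) (tt N7348 F63884) (tt N7348 F63885) (tt N5893 (iv D14565)) (tt N8304 (iv F86342)) (tt N8745 F206055) (tt N8790 F206056) (tt N5916 F63886))
theorem Q7350 : ∀ i, i < 7350 → P i := stepQ 7349 Q7349 (allL N7349 (tt N7349 F63887) (tt N8989 (iv F91289)) (tt N8101 F205696) (tt N7349 F63888) (tt N5895 F63889) (tt N8745 (iv F205917)) (tt N5942 F63890) (tt N5893 (iv D14566)) (tt N8189 F205697) (tt N5917 F63891))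
theorem Q7351 : ∀ i, i < 7351 → P i := stepQ 7350 Q7350 (allL N7350 (tt N7350 F63892) (tt N8990 (iv F91294)) (tt N8135 F205694) (tt N8344 (iv F205902)) (tt N5896 F63893) (tt N8790 (iv F205916)) (tt N5894 F63894) (tt N8189 F205695) (tt N5893 (iv D14567)) (tt N8995 D21198))
theorem Q7352 : ∀ i, i < 7352 → P i := stepQ 7351 Q7351 (allL N7351 (tt N7351 F63895) (tt N8991 (iv F91297)) (tt N8342 F206021) (tt N5894 (iv D14568)) (tt N7351 F63896) (tt N8307 (iv F86353)) (tt N8344 F206022) (tt N5944 F63897) (tt N7351 F63898) (tt N8996 D21200))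
theorem Q7353 : ∀ i, i < 7353 → P i := stepQ 7352 Q7352 (allL N7352 (tt N7352 F63899) (tt N8992 (iv F91301)) (tt N8757 (iv F89899)) (tt N8996 (iv F91340)) (tt N5897 F63900) (tt N8308 (iv F86358)) (tt N8995 (iv F91333)) (tt N5945 F63901) (tt N5920 F63902) (tt N5894 (iv D14569)))
theorem Q7354 : ∀ i, i < 7354 → P i := stepQ 7353 Q7353 (allL N7353 (tt N7353 F63903) (tt N8993 (iv F91305)) (tt N8025 F205408) (tt N7353 F63904) (tt N8189 (iv F205546)) (tt N7353 F63905) (tt N5946 F63906) (tt N5896 F63907) (tt N5895 (iv D14570)) (tt N8997 D21201))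
theorem Q7355 : ∀ i, i < 7355 → P i := stepQ 7354 Q7354 (allL N7354 (tt N7354 F63908) (tt N8994 (iv F91310)) (tt N8758 (iv F89909)) (tt N7354 F63909) (tt N8995 (iv F91332)) (tt N7354 F63910) (tt N5897 F63911) (tt N8997 (iv F91347)) (tt N5922 F63912) (tt N5896 (iv D14571)))
theorem Q7356 : ∀ i, i < 7356 → P i := stepQ 7355 Q7355 (allL N7355 (tt N8759 (iv F89913)) (tt N5899 F63913) (tt N7355 F63914) (tt N6384 F200722) (tt N8998 D21202) (tt N5898 (iv D14572)) (tt N8999 D21203) (tt N5948 F63916) (tt N8985 (iv F201065)) (tt N8970 (iv F91197)))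
theorem Q7357 : ∀ i, i < 7357 → P i := stepQ 7356 Q7356 (allL N7356 (tt N5906 F63921) (tt N8998 (iv F91349)) (tt N5901 F63922) (tt N9000 D21207) (tt N5899 (iv D14574)) (tt N8313 (iv F86380)) (tt N9001 D21208) (tt N5949 F63923) (tt N9002 D21209) (tt N8971 (iv F91205)))
theorem Q7358 : ∀ i, i < 7358 → P i := stepQ 7357 Q7357 (allL N7357 (tt N5907 F63924) (tt N8999 (iv F91352)) (tt N5902 F63925) (tt N6386 F63926) (tt N9001 (iv F91374)) (tt N7357 F63927) (tt N5899 (iv D14575)) (tt N9003 D21210) (tt N9004 D21211) (tt N8972 (iv F91210)))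
theorem Q7359 : ∀ i, i < 7359 → P i := stepQ 7358 Q7358 (allL N7358 (tt N5908 F63928) (tt N8985 F201385) (tt N5903 F63929) (tt N8750 F201386) (tt N9002 (iv F91377)) (tt N5900 F63930) (tt N9004 (iv F91387)) (tt N5951 F63931) (tt N5899 (iv D14576)) (tt N9005 D21213))
theorem Q7360 : ∀ i, i < 7360 → P i := stepQ 7359 Q7359 (allL N7359 (tt N5910 F63937) (tt N8987 F201518) (tt N5904 F63938) (tt N8751 F201519) (tt N8317 (iv F86397)) (tt N9005 (iv F91395)) (tt N7359 F63939) (tt N5952 F63940) (tt N8974 (iv F91224)) (tt N5900 (iv D14578)))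
theorem Q7361 : ∀ i, i < 7361 → P i := stepQ 7360 Q7360 (allL N7360 (tt N5911 F63941) (tt N7360 F63942) (tt N9001 (iv F91373)) (tt N7360 F63943) (tt N5902 F63944) (tt N9006 D21216) (tt N5901 (iv D14579)) (tt N9007 D21217) (tt N9008 D21218) (tt N8975 (iv F91229)))
theorem Q7362 : ∀ i, i < 7362 → P i := stepQ 7361 Q7361 (allL N7361 (tt N5912 F63945) (tt N7361 F63946) (tt N9002 (iv F91376)) (tt N9009 D21219) (tt N5903 F63947) (tt N8319 (iv F86407)) (tt N9008 (iv F91419)) (tt N5954 F63948) (tt N5901 (iv D14580)) (tt N9010 D21220))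
theorem Q7363 : ∀ i, i < 7363 → P i := stepQ 7362 Q7362 (allL N7362 (tt N5913 F63949) (tt N7362 F63950) (tt N9003 (iv F91380)) (tt N5905 F63951) (tt N9007 (iv F91414)) (tt N7362 F63952) (tt N5955 F63953) (tt N5902 (iv D14581)) (tt N9011 D21221) (tt N8977 (iv F91239)))
theorem Q7364 : ∀ i, i < 7364 → P i := stepQ 7363 Q7363 (allL N7363 (tt N5914 F63954) (tt N7363 F63955) (tt N9004 (iv F91385)) (tt N6136 F63956) (tt N9008 (iv F91418)) (tt N7363 F63957) (tt N5903 F63958) (tt N9011 (iv F91434)) (tt N5902 (iv D14582)) (tt N9012 D21222))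
theorem Q7365 : ∀ i, i < 7365 → P i := stepQ 7364 Q7364 (allL N7364 (tt N5915 F63959) (tt N7364 F63960) (tt N9005 (iv F91394)) (tt N6137 F63961) (tt N9010 (iv F91427)) (tt N5904 F63962) (tt N9012 (iv F91439)) (tt N5957 F63963) (tt N8979 (iv F91250)) (tt N5903 (iv D14583)))
theorem Q7366 : ∀ i, i < 7366 → P i := stepQ 7365 Q7365 (allL N7365 (tt N9000 (iv F91368)) (tt N8771 (iv F89965)) (tt N7365 F63964) (tt N5906 (iv D14584)) (tt N6387 F63965) (tt N8323 (iv F86426)) (tt N9013 D21223) (tt N5958 F63966) (tt N9014 D21224) (tt N8980 (iv F91254)))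
theorem Q7367 : ∀ i, i < 7367 → P i := stepQ 7366 Q7366 (allL N7366 (tt N9001 (iv F91372)) (tt N8772 (iv F89968)) (tt N5911 F63967) (tt N9013 (iv F91441)) (tt N5907 F63968) (tt N9015 D21225) (tt N5906 (iv D14585)) (tt N9016 D21226) (tt N9017 D21227) (tt N8981 (iv F91257)))
theorem Q7368 : ∀ i, i < 7368 → P i := stepQ 7367 Q7367 (allL N7367 (tt N9002 (iv F91375)) (tt N8773 (iv F89971)) (tt N5912 F63969) (tt N9018 D21228) (tt N5908 F63970) (tt N8325 (iv F86432)) (tt N9017 (iv F91453)) (tt N5960 F63971) (tt N5906 (iv D14586)) (tt N9019 D21229))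
theorem Q7369 : ∀ i, i < 7369 → P i := stepQ 7368 Q7368 (allL N7368 (tt N9003 (iv F91379)) (tt N6404 (iv F201008)) (tt N5913 F63972) (tt N6342 F200973) (tt N9016 (iv F91449)) (tt N7368 F63974) (tt N5961 F63975) (tt N5907 (iv D14587)) (tt N9020 D21230) (tt N8983 (iv F91265)))
theorem Q7370 : ∀ i, i < 7370 → P i := stepQ 7369 Q7369 (allL N7369 (tt N9004 (iv F91384)) (tt N8774 (iv F89980)) (tt N5914 F63976) (tt N9021 D21231) (tt N9017 (iv F91452)) (tt N7369 F63977) (tt N5908 F63978) (tt N9020 (iv F91461)) (tt N5907 (iv D14588)) (tt N9022 D21232))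
theorem Q7371 : ∀ i, i < 7371 → P i := stepQ 7370 Q7370 (allL N7370 (tt N8750 F201387) (tt N8775 (iv F89984)) (tt N6143 F63979) (tt N5908 (iv D14589)) (tt N9023 D21233) (tt N5909 F63980) (tt N9021 (iv F91464)) (tt N5963 F63981) (tt N6388 F63982) (tt N9024 D21234))
theorem Q7372 : ∀ i, i < 7372 → P i := stepQ 7371 Q7371 (allL N7371 (tt N9005 (iv F91393)) (tt N8776 (iv F89989)) (tt N5915 F63983) (tt N9024 (iv F91473)) (tt N9019 (iv F91456)) (tt N5910 F63984) (tt N9022 (iv F91468)) (tt N5964 F63985) (tt N8986 (iv F91276)) (tt N5908 (iv D14590)))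
theorem Q7373 : ∀ i, i < 7373 → P i := stepQ 7372 Q7372 (allL N7372 (tt N8104 F201523) (tt N8777 (iv F89993)) (tt N6145 F63986) (tt N8330 (iv F86449)) (tt N5909 (iv D14591)) (tt N9025 D21235) (tt N7372 F63987) (tt N5965 F63988) (tt N6389 F63989) (tt N9026 D21236))
theorem Q7374 : ∀ i, i < 7374 → P i := stepQ 7373 Q7373 (allL N7373 (tt N8751 F201524) (tt N8778 (iv F89998)) (tt N6146 F63990) (tt N5910 F63991) (tt N9026 (iv F91480)) (tt N9024 (iv F91474)) (tt N7373 F63992) (tt N5966 F63993) (tt N8765 F201525) (tt N5909 (iv D14592)))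
theorem Q7375 : ∀ i, i < 7375 → P i := stepQ 7374 Q7374 (allL N7374 (tt N9006 (iv F91407)) (tt N5916 F63994) (tt N9015 (iv F91446)) (tt N7374 F63995) (tt N7374 F63996) (tt N5911 (iv D14593)) (tt N8332 (iv F86460)) (tt N9027 D21238) (tt N9028 D21239) (tt N8988 (iv F91288)))
theorem Q7376 : ∀ i, i < 7376 → P i := stepQ 7375 Q7375 (allL N7375 (tt N9007 (iv F91411)) (tt N5917 F63997) (tt N9016 (iv F91448)) (tt N7375 F63998) (tt N5913 F63999) (tt N9027 (iv F91490)) (tt N5968 F64000) (tt N5911 (iv D14594)) (tt N9029 D21240) (tt N8989 (iv F91293)))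
theorem Q7377 : ∀ i, i < 7377 → P i := stepQ 7376 Q7376 (allL N7376 (tt N9008 (iv F91416)) (tt N5918 F64001) (tt N9017 (iv F91451)) (tt N9030 D21241) (tt N5914 F64002) (tt N9028 (iv F91493)) (tt N5912 F64003) (tt N9029 (iv F91497)) (tt N5911 (iv D14595)) (tt N9031 D21242))
theorem Q7378 : ∀ i, i < 7378 → P i := stepQ 7377 Q7377 (allL N7377 (tt N9009 (iv F91420)) (tt N5919 F64004) (tt N9032 D21243) (tt N5912 (iv D14596)) (tt N6150 F64005) (tt N8335 (iv F86470)) (tt N9030 (iv F91500)) (tt N5970 F64006) (tt N7377 F64007) (tt N9033 D21244))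
theorem Q7379 : ∀ i, i < 7379 → P i := stepQ 7378 Q7378 (allL N7378 (tt N9010 (iv F91425)) (tt N5920 F64008) (tt N9019 (iv F91455)) (tt N9033 (iv F91509)) (tt N5915 F64009) (tt N8336 (iv F86475)) (tt N9031 (iv F91504)) (tt N5971 F64010) (tt N8992 (iv F91304)) (tt N5912 (iv D14597)))
theorem Q7380 : ∀ i, i < 7380 → P i := stepQ 7379 Q7379 (allL N7379 (tt N9011 (iv F91429)) (tt N5921 F64011) (tt N9020 (iv F91458)) (tt N6152 F64012) (tt N9029 (iv F91495)) (tt N7379 F64013) (tt N5972 F64014) (tt N5914 F64015) (tt N5913 (iv D14598)) (tt N9034 D21245))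
theorem Q7381 : ∀ i, i < 7381 → P i := stepQ 7380 Q7380 (allL N7380 (tt N9012 (iv F91435)) (tt N5922 F64016) (tt N9022 (iv F91466)) (tt N6153 F64017) (tt N9031 (iv F91503)) (tt N7380 F64018) (tt N5915 F64019) (tt N9034 (iv F91516)) (tt N8994 (iv F91314)) (tt N5914 (iv D14599)))
theorem Q7382 : ∀ i, i < 7382 → P i := stepQ 7381 Q7381 (allL N7381 (tt N7381 F64020) (tt N9027 (iv F91487)) (tt N8746 F206058) (tt N7381 F64021) (tt N7381 F64022) (tt N5917 F64023) (tt N9035 D21246) (tt N5916 (iv D14600)) (tt N9036 D21247) (tt N8745 F206059))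
theorem Q7383 : ∀ i, i < 7383 → P i := stepQ 7382 Q7382 (allL N7382 (tt N7382 F64024) (tt N9028 (iv F91491)) (tt N8786 (iv F90031)) (tt N9037 D21248) (tt N7382 F64025) (tt N5918 F64026) (tt N8340 (iv F86493)) (tt N9036 (iv F91524)) (tt N5916 (iv D14601)) (tt N9038 D21249))
theorem Q7384 : ∀ i, i < 7384 → P i := stepQ 7383 Q7383 (allL N7383 (tt N7383 F64027) (tt N9029 (iv F91494)) (tt N8787 (iv F90035)) (tt N9039 D21250) (tt N5921 F64028) (tt N9036 (iv F91523)) (tt N5976 F64029) (tt N5918 F64030) (tt N5917 (iv D14602)) (tt N9040 D21251))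
theorem Q7385 : ∀ i, i < 7385 → P i := stepQ 7384 Q7384 (allL N7384 (tt N7384 F64031) (tt N9030 (iv F91498)) (tt N9041 D21252) (tt N5918 (iv D14603)) (tt N6157 F64032) (tt N9037 (iv F91526)) (tt N5919 F64033) (tt N9039 (iv F91534)) (tt N7384 F64034) (tt N9042 D21253))
theorem Q7386 : ∀ i, i < 7386 → P i := stepQ 7385 Q7385 (allL N7385 (tt N7385 F64035) (tt N9031 (iv F91502)) (tt N8789 (iv F90043)) (tt N9042 (iv F91545)) (tt N5922 F64036) (tt N9038 (iv F91530)) (tt N5920 F64037) (tt N9040 (iv F91539)) (tt N8995 (iv F91334)) (tt N5918 (iv D14604)))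
theorem Q7387 : ∀ i, i < 7387 → P i := stepQ 7386 Q7386 (allL N7386 (tt N7386 F64038) (tt N9043 D21254) (tt N5919 (iv D14605)) (tt N8790 (iv F90047)) (tt N6159 F64039) (tt N8344 (iv F86507)) (tt N9041 (iv F91542)) (tt N5979 F64040) (tt N7386 F64041) (tt N9044 D21255))
theorem Q7388 : ∀ i, i < 7388 → P i := stepQ 7387 Q7387 (allL N7387 (tt N7387 F64042) (tt N9033 (iv F91508)) (tt N9044 (iv F91552)) (tt N5920 F64043) (tt N6160 F64044) (tt N8345 (iv F86513)) (tt N9042 (iv F91547)) (tt N5980 F64045) (tt N9045 D21256) (tt N5919 (iv D14606)))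
theorem Q7389 : ∀ i, i < 7389 → P i := stepQ 7388 Q7388 (allL N7388 (tt N7388 F64046) (tt N9034 (iv F91512)) (tt N8792 (iv F90055)) (tt N6161 F64047) (tt N9040 (iv F91537)) (tt N7388 F64048) (tt N5981 F64049) (tt N5922 F64050) (tt N8997 (iv F91348)) (tt N5921 (iv D14607)))
theorem Q7390 : ∀ i, i < 7390 → P i := stepQ 7389 Q7389 (allL N7389 (tt N6345 (iv F201063)) (tt N5924 F64051) (tt N7389 F64052) (tt N6337 F200981) (tt N9046 D21257) (tt N5923 (iv D14608)) (tt N9047 D21258) (tt N8970 (iv F91196)) (tt N8822 (iv F201333)) (tt N5948 F64054))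
theorem Q7391 : ∀ i, i < 7391 → P i := stepQ 7390 Q7390 (allL N7390 (tt N5931 F64058) (tt N9046 (iv F91559)) (tt N5926 F64059) (tt N9048 D21262) (tt N5924 (iv D14610)) (tt N8374 (iv F86646)) (tt N9049 D21263) (tt N8971 (iv F91204)) (tt N9050 D21264) (tt N5949 F64060))
theorem Q7392 : ∀ i, i < 7392 → P i := stepQ 7391 Q7391 (allL N7391 (tt N5932 F64061) (tt N9047 (iv F91562)) (tt N5927 F64062) (tt N6391 F64063) (tt N9049 (iv F91583)) (tt N5984 F64064) (tt N5924 (iv D14611)) (tt N9051 D21265) (tt N9052 D21266) (tt N5950 F64065))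
theorem Q7393 : ∀ i, i < 7393 → P i := stepQ 7392 Q7392 (allL N7392 (tt N5933 F64066) (tt N8822 F201455) (tt N5928 F64067) (tt N8815 F201456) (tt N9050 (iv F91587)) (tt N5925 F64068) (tt N9052 (iv F91596)) (tt N8973 (iv F91214)) (tt N5924 (iv D14612)) (tt N9053 D21268))
theorem Q7394 : ∀ i, i < 7394 → P i := stepQ 7393 Q7393 (allL N7393 (tt N5935 F64073) (tt N8824 F201648) (tt N5929 F64074) (tt N8816 F201649) (tt N8378 (iv F86661)) (tt N9053 (iv F91603)) (tt N5986 F64075) (tt N8974 (iv F91223)) (tt N5952 F64076) (tt N5925 (iv D14614)))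
theorem Q7395 : ∀ i, i < 7395 → P i := stepQ 7394 Q7394 (allL N7394 (tt N5936 F64077) (tt N7394 F64078) (tt N9049 (iv F91582)) (tt N7394 F64079) (tt N5927 F64080) (tt N9054 D21271) (tt N5926 (iv D14615)) (tt N9055 D21272) (tt N9056 D21273) (tt N5953 F64081))
theorem Q7396 : ∀ i, i < 7396 → P i := stepQ 7395 Q7395 (allL N7395 (tt N5937 F64082) (tt N7395 F64083) (tt N9050 (iv F91586)) (tt N9057 D21274) (tt N5928 F64084) (tt N8380 (iv F86672)) (tt N9056 (iv F91626)) (tt N8976 (iv F91233)) (tt N5926 (iv D14616)) (tt N9058 D21275))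
theorem Q7397 : ∀ i, i < 7397 → P i := stepQ 7396 Q7396 (allL N7396 (tt N5938 F64085) (tt N7396 F64086) (tt N9051 (iv F91589)) (tt N5930 F64087) (tt N9055 (iv F91621)) (tt N5989 F64088) (tt N8977 (iv F91238)) (tt N5927 (iv D14617)) (tt N9059 D21276) (tt N5955 F64089))
theorem Q7398 : ∀ i, i < 7398 → P i := stepQ 7397 Q7397 (allL N7397 (tt N5939 F64090) (tt N7397 F64091) (tt N9052 (iv F91594)) (tt N7397 F64092) (tt N9056 (iv F91625)) (tt N5990 F64093) (tt N5928 F64094) (tt N9059 (iv F91639)) (tt N5927 (iv D14618)) (tt N9060 D21277))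
theorem Q7399 : ∀ i, i < 7399 → P i := stepQ 7398 Q7398 (allL N7398 (tt N5940 F64095) (tt N7398 F64096) (tt N9053 (iv F91602)) (tt N7398 F64097) (tt N9058 (iv F91633)) (tt N5929 F64098) (tt N9060 (iv F91644)) (tt N8979 (iv F91249)) (tt N5957 F64099) (tt N5928 (iv D14619)))
theorem Q7400 : ∀ i, i < 7400 → P i := stepQ 7399 Q7399 (allL N7399 (tt N9048 (iv F91577)) (tt N8795 (iv F90217)) (tt N7399 F64100) (tt N5931 (iv D14620)) (tt N6394 F64101) (tt N8384 (iv F86688)) (tt N9061 D21278) (tt N8980 (iv F91253)) (tt N9062 D21279) (tt N5958 F64102))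
theorem Q7401 : ∀ i, i < 7401 → P i := stepQ 7400 Q7400 (allL N7400 (tt N9049 (iv F91581)) (tt N8796 (iv F90220)) (tt N5936 F64103) (tt N9061 (iv F91647)) (tt N5932 F64104) (tt N9063 D21280) (tt N5931 (iv D14621)) (tt N9064 D21281) (tt N9065 D21282) (tt N5959 F64105))
theorem Q7402 : ∀ i, i < 7402 → P i := stepQ 7401 Q7401 (allL N7401 (tt N9050 (iv F91585)) (tt N8797 (iv F90224)) (tt N5937 F64106) (tt N9066 D21283) (tt N5933 F64107) (tt N8386 (iv F86695)) (tt N9065 (iv F91660)) (tt N8982 (iv F91260)) (tt N5931 (iv D14622)) (tt N9067 D21284))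
theorem Q7403 : ∀ i, i < 7403 → P i := stepQ 7402 Q7402 (allL N7402 (tt N9051 (iv F91588)) (tt N8798 (iv F90227)) (tt N5938 F64108) (tt N6397 F64109) (tt N9064 (iv F91656)) (tt N5995 F64110) (tt N8983 (iv F91264)) (tt N5932 (iv D14623)) (tt N9068 D21285) (tt N5961 F64111))
theorem Q7404 : ∀ i, i < 7404 → P i := stepQ 7403 Q7403 (allL N7403 (tt N9052 (iv F91593)) (tt N8799 (iv F90232)) (tt N5939 F64112) (tt N9069 D21286) (tt N9065 (iv F91659)) (tt N5996 F64113) (tt N5933 F64114) (tt N9068 (iv F91666)) (tt N5932 (iv D14624)) (tt N9070 D21287))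
theorem Q7405 : ∀ i, i < 7405 → P i := stepQ 7404 Q7404 (allL N7404 (tt N8815 F201449) (tt N5951 (iv F201767)) (tt N7404 F64115) (tt N5933 (iv D14625)) (tt N9071 D21288) (tt N5934 F64116) (tt N9069 (iv F91669)) (tt N8985 (iv F91271)) (tt N5948 F201450) (tt N9072 D21289))
theorem Q7406 : ∀ i, i < 7406 → P i := stepQ 7405 Q7405 (allL N7405 (tt N9053 (iv F91601)) (tt N8800 (iv F90239)) (tt N5940 F64118) (tt N9072 (iv F91678)) (tt N9067 (iv F91662)) (tt N5935 F64119) (tt N9070 (iv F91673)) (tt N8986 (iv F91275)) (tt N5964 F64120) (tt N5933 (iv D14626)))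
theorem Q7407 : ∀ i, i < 7407 → P i := stepQ 7406 Q7406 (allL N7406 (tt N8816 F201645) (tt N5952 (iv F201935)) (tt N7406 F64124) (tt N5935 F64125) (tt N8411 (iv F202047)) (tt N9072 (iv F91679)) (tt N5999 F64126) (tt N8987 (iv F91284)) (tt N8824 F201639) (tt N5934 (iv D14628)))
theorem Q7408 : ∀ i, i < 7408 → P i := stepQ 7407 Q7407 (allL N7407 (tt N9054 (iv F91613)) (tt N5941 F64127) (tt N9063 (iv F91652)) (tt N7407 F64128) (tt N6000 F64129) (tt N5936 (iv D14629)) (tt N8393 (iv F86716)) (tt N9073 D21293) (tt N9074 D21294) (tt N5967 F64130))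
theorem Q7409 : ∀ i, i < 7409 → P i := stepQ 7408 Q7408 (allL N7408 (tt N9055 (iv F91618)) (tt N5942 F64131) (tt N9064 (iv F91655)) (tt N7408 F64132) (tt N5938 F64133) (tt N9073 (iv F91692)) (tt N8989 (iv F91292)) (tt N5936 (iv D14630)) (tt N9075 D21295) (tt N5968 F64134))
theorem Q7410 : ∀ i, i < 7410 → P i := stepQ 7409 Q7409 (allL N7409 (tt N9056 (iv F91623)) (tt N5943 F64135) (tt N9065 (iv F91658)) (tt N9076 D21296) (tt N5939 F64136) (tt N9074 (iv F91696)) (tt N5937 F64137) (tt N9075 (iv F91699)) (tt N5936 (iv D14631)) (tt N9077 D21297))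
theorem Q7411 : ∀ i, i < 7411 → P i := stepQ 7410 Q7410 (allL N7410 (tt N9057 (iv F91627)) (tt N5944 F64138) (tt N9078 D21298) (tt N5937 (iv D14632)) (tt N7410 F64139) (tt N8396 (iv F86726)) (tt N9076 (iv F91702)) (tt N8991 (iv F91299)) (tt N7410 F64140) (tt N9079 D21299))
theorem Q7412 : ∀ i, i < 7412 → P i := stepQ 7411 Q7411 (allL N7411 (tt N9058 (iv F91631)) (tt N5945 F64141) (tt N9067 (iv F91661)) (tt N9079 (iv F91711)) (tt N5940 F64142) (tt N8397 (iv F86730)) (tt N9077 (iv F91706)) (tt N8992 (iv F91303)) (tt N5971 F64143) (tt N5937 (iv D14633)))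
theorem Q7413 : ∀ i, i < 7413 → P i := stepQ 7412 Q7412 (allL N7412 (tt N9059 (iv F91635)) (tt N5946 F64144) (tt N9068 (iv F91664)) (tt N7412 F64145) (tt N9075 (iv F91698)) (tt N6005 F64146) (tt N8993 (iv F91308)) (tt N5939 F64147) (tt N5938 (iv D14634)) (tt N9080 D21300))
theorem Q7414 : ∀ i, i < 7414 → P i := stepQ 7413 Q7413 (allL N7413 (tt N9060 (iv F91640)) (tt N5947 F64148) (tt N9070 (iv F91671)) (tt N7413 F64149) (tt N9077 (iv F91705)) (tt N6006 F64150) (tt N5940 F64151) (tt N9080 (iv F91716)) (tt N5973 F64152) (tt N5939 (iv D14635)))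
theorem Q7415 : ∀ i, i < 7415 → P i := stepQ 7414 Q7414 (allL N7414 (tt N7414 F64153) (tt N9073 (iv F91689)) (tt N8808 (iv F90270)) (tt N7414 F64154) (tt N6007 F64155) (tt N5942 F64156) (tt N9081 D21301) (tt N5941 (iv D14636)) (tt N9082 D21302) (tt N5974 F64157))
theorem Q7416 : ∀ i, i < 7416 → P i := stepQ 7415 Q7415 (allL N7415 (tt N7415 F64158) (tt N9074 (iv F91694)) (tt N8809 (iv F90275)) (tt N9083 D21303) (tt N6008 F64159) (tt N5943 F64160) (tt N8401 (iv F86747)) (tt N9082 (iv F91725)) (tt N5941 (iv D14637)) (tt N9084 D21304))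
theorem Q7417 : ∀ i, i < 7417 → P i := stepQ 7416 Q7416 (allL N7416 (tt N7416 F64161) (tt N9075 (iv F91697)) (tt N8187 F205405) (tt N8456 (iv F205545)) (tt N5946 F64162) (tt N9082 (iv F91724)) (tt N8189 (iv F205547)) (tt N5943 F64163) (tt N5942 (iv D14638)) (tt N9085 D21306))
theorem Q7418 : ∀ i, i < 7418 → P i := stepQ 7417 Q7417 (allL N7417 (tt N7417 F64164) (tt N9076 (iv F91700)) (tt N8454 F205664) (tt N5943 (iv D14639)) (tt N7417 F64165) (tt N9083 (iv F91727)) (tt N5944 F64166) (tt N8456 F205665) (tt N7417 F64167) (tt N9086 D21308))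
theorem Q7419 : ∀ i, i < 7419 → P i := stepQ 7418 Q7418 (allL N7418 (tt N7418 F64168) (tt N9077 (iv F91704)) (tt N8810 (iv F90285)) (tt N9086 (iv F91746)) (tt N5947 F64169) (tt N9084 (iv F91731)) (tt N5945 F64170) (tt N9085 (iv F91739)) (tt N5978 F64171) (tt N5943 (iv D14640)))
theorem Q7420 : ∀ i, i < 7420 → P i := stepQ 7419 Q7419 (allL N7419 (tt N7419 F64172) (tt N9087 D21309) (tt N5944 (iv D14641)) (tt N8341 F205668) (tt N7419 F64173) (tt N8405 (iv F86759)) (tt N8454 F205669) (tt N8342 (iv F205814)) (tt N7419 F64174) (tt N9088 D21310))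
theorem Q7421 : ∀ i, i < 7421 → P i := stepQ 7420 Q7420 (allL N7420 (tt N7420 F64175) (tt N9079 (iv F91710)) (tt N9088 (iv F91752)) (tt N5945 F64176) (tt N7420 F64177) (tt N8406 (iv F86763)) (tt N9086 (iv F91748)) (tt N8996 (iv F91342)) (tt N9089 D21311) (tt N5944 (iv D14642)))
theorem Q7422 : ∀ i, i < 7422 → P i := stepQ 7421 Q7421 (allL N7421 (tt N7421 F64178) (tt N9080 (iv F91713)) (tt N8812 (iv F90294)) (tt N7421 F64179) (tt N9085 (iv F91738)) (tt N6014 F64180) (tt N8997 (iv F91346)) (tt N5947 F64181) (tt N5981 F64182) (tt N5946 (iv D14643)))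
theorem Q7423 : ∀ i, i < 7423 → P i := stepQ 7422 Q7422 (allL N7422 (tt N8813 (iv F90298)) (tt N5949 F64183) (tt N7422 F64184) (tt N9090 D21312) (tt N5948 (iv D14644)) (tt N8408 (iv F86770)) (tt N9091 D21313) (tt N8998 (iv F91351)) (tt N9071 (iv F201868)) (tt N9046 (iv F91561)))
theorem Q7424 : ∀ i, i < 7424 → P i := stepQ 7423 Q7423 (allL N7423 (tt N8814 (iv F90301)) (tt N5950 F64185) (tt N7423 F64186) (tt N6398 F201446) (tt N9091 (iv F91762)) (tt N6016 F64188) (tt N5948 (iv D14645)) (tt N9092 D21315) (tt N9069 (iv F201863)) (tt N9047 (iv F91566)))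
theorem Q7425 : ∀ i, i < 7425 → P i := stepQ 7424 Q7424 (allL N7424 (tt N5958 F64198) (tt N9090 (iv F91758)) (tt N7424 F64199) (tt N5949 (iv D14649)) (tt N6399 F64200) (tt N8412 (iv F86788)) (tt N9093 D21322) (tt N9000 (iv F91371)) (tt N9094 D21323) (tt N9048 (iv F91580)))
theorem Q7426 : ∀ i, i < 7426 → P i := stepQ 7425 Q7425 (allL N7425 (tt N5959 F64201) (tt N9091 (iv F91760)) (tt N5953 F64202) (tt N9093 (iv F91792)) (tt N5950 F64203) (tt N9095 D21324) (tt N5949 (iv D14650)) (tt N9096 D21325) (tt N9097 D21326) (tt N9049 (iv F91584)))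
theorem Q7427 : ∀ i, i < 7427 → P i := stepQ 7426 Q7426 (allL N7426 (tt N5960 F64204) (tt N9071 F202245) (tt N5954 F64205) (tt N9098 D21327) (tt N5951 F64206) (tt N8414 (iv F86795)) (tt N9097 (iv F91806)) (tt N9002 (iv F91378)) (tt N5949 (iv D14651)) (tt N9099 D21328))
theorem Q7428 : ∀ i, i < 7428 → P i := stepQ 7427 Q7427 (allL N7427 (tt N5961 F64207) (tt N9092 (iv F91766)) (tt N5955 F64208) (tt N6401 F64209) (tt N9096 (iv F91802)) (tt N6020 F64210) (tt N9003 (iv F91383)) (tt N5950 (iv D14652)) (tt N9100 D21329) (tt N9051 (iv F91592)))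
theorem Q7429 : ∀ i, i < 7429 → P i := stepQ 7428 Q7428 (allL N7428 (tt N5962 F64211) (tt N9069 F202209) (tt N5956 F64212) (tt N8799 F202210) (tt N9097 (iv F91805)) (tt N6021 F64213) (tt N5951 F64214) (tt N9100 (iv F91814)) (tt N5950 (iv D14653)) (tt N9101 D21331))
theorem Q7430 : ∀ i, i < 7430 → P i := stepQ 7429 Q7429 (allL N7429 (tt N5964 F64219) (tt N9072 F202246) (tt N5957 F64220) (tt N8800 F202247) (tt N9099 (iv F91810)) (tt N5952 F64221) (tt N9101 (iv F91823)) (tt N9005 (iv F91396)) (tt N9053 (iv F91604)) (tt N5951 (iv D14655)))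
theorem Q7431 : ∀ i, i < 7431 → P i := stepQ 7430 Q7430 (allL N7430 (tt N5967 F64230) (tt N7430 F64231) (tt N9095 (iv F91798)) (tt N7430 F64232) (tt N6023 F64233) (tt N5953 (iv D14658)) (tt N8420 (iv F86824)) (tt N9102 D21337) (tt N9103 D21338) (tt N9054 (iv F91617)))
theorem Q7432 : ∀ i, i < 7432 → P i := stepQ 7431 Q7431 (allL N7431 (tt N5968 F64234) (tt N7431 F64235) (tt N9096 (iv F91801)) (tt N7431 F64236) (tt N5955 F64237) (tt N9102 (iv F91846)) (tt N9007 (iv F91415)) (tt N5953 (iv D14659)) (tt N9104 D21339) (tt N9055 (iv F91622)))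
theorem Q7433 : ∀ i, i < 7433 → P i := stepQ 7432 Q7432 (allL N7432 (tt N5969 F64238) (tt N7432 F64239) (tt N9097 (iv F91804)) (tt N9105 D21340) (tt N5956 F64240) (tt N9103 (iv F91850)) (tt N5954 F64241) (tt N9104 (iv F91854)) (tt N5953 (iv D14660)) (tt N9106 D21341))
theorem Q7434 : ∀ i, i < 7434 → P i := stepQ 7433 Q7433 (allL N7433 (tt N5970 F64242) (tt N7433 F64243) (tt N9107 D21342) (tt N5954 (iv D14661)) (tt N6171 F64244) (tt N8423 (iv F86836)) (tt N9105 (iv F91858)) (tt N9009 (iv F91423)) (tt N7433 F64245) (tt N9108 D21343))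
theorem Q7435 : ∀ i, i < 7435 → P i := stepQ 7434 Q7434 (allL N7434 (tt N5971 F64246) (tt N7434 F64247) (tt N9099 (iv F91809)) (tt N9108 (iv F91869)) (tt N5957 F64248) (tt N8424 (iv F86841)) (tt N9106 (iv F91863)) (tt N9010 (iv F91428)) (tt N9058 (iv F91634)) (tt N5954 (iv D14662)))
theorem Q7436 : ∀ i, i < 7436 → P i := stepQ 7435 Q7435 (allL N7435 (tt N5972 F64249) (tt N7435 F64250) (tt N9100 (iv F91812)) (tt N6173 F64251) (tt N9104 (iv F91853)) (tt N6028 F64252) (tt N9011 (iv F91433)) (tt N5956 F64253) (tt N5955 (iv D14663)) (tt N9109 D21344))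
theorem Q7437 : ∀ i, i < 7437 → P i := stepQ 7436 Q7436 (allL N7436 (tt N5973 F64254) (tt N7436 F64255) (tt N9101 (iv F91821)) (tt N6174 F64256) (tt N9106 (iv F91862)) (tt N6029 F64257) (tt N5957 F64258) (tt N9109 (iv F91875)) (tt N9060 (iv F91645)) (tt N5956 (iv D14664)))
theorem Q7438 : ∀ i, i < 7438 → P i := stepQ 7437 Q7437 (allL N7437 (tt N9093 (iv F91790)) (tt N8832 (iv F90375)) (tt N7437 F64259) (tt N5959 F64260) (tt N6402 F64261) (tt N9110 D21345) (tt N5958 (iv D14665)) (tt N9111 D21346) (tt N9112 D21347) (tt N9061 (iv F91649)))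
theorem Q7439 : ∀ i, i < 7439 → P i := stepQ 7438 Q7438 (allL N7438 (tt N9094 (iv F91794)) (tt N8833 (iv F90378)) (tt N7438 F64262) (tt N9113 D21348) (tt N6403 F64263) (tt N8428 (iv F86857)) (tt N9112 (iv F91883)) (tt N9014 (iv F91445)) (tt N5958 (iv D14666)) (tt N9114 D21349))
theorem Q7440 : ∀ i, i < 7440 → P i := stepQ 7439 Q7439 (allL N7439 (tt N9095 (iv F91797)) (tt N8834 (iv F90380)) (tt N5967 F64264) (tt N9110 (iv F91877)) (tt N6032 F64265) (tt N5959 (iv D14667)) (tt N8429 (iv F86860)) (tt N9115 D21350) (tt N9116 D21351) (tt N9063 (iv F91654)))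
theorem Q7441 : ∀ i, i < 7441 → P i := stepQ 7440 Q7440 (allL N7440 (tt N9096 (iv F91800)) (tt N8835 (iv F90383)) (tt N5968 F64266) (tt N9111 (iv F91879)) (tt N5961 F64267) (tt N9115 (iv F91889)) (tt N9016 (iv F91450)) (tt N5959 (iv D14668)) (tt N9117 D21352) (tt N9064 (iv F91657)))
theorem Q7442 : ∀ i, i < 7442 → P i := stepQ 7441 Q7441 (allL N7441 (tt N9097 (iv F91803)) (tt N8836 (iv F90386)) (tt N5969 F64268) (tt N9118 D21353) (tt N5962 F64269) (tt N9116 (iv F91892)) (tt N5960 F64270) (tt N9117 (iv F91895)) (tt N5959 (iv D14669)) (tt N9119 D21354))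
theorem Q7443 : ∀ i, i < 7443 → P i := stepQ 7442 Q7442 (allL N7442 (tt N9098 (iv F91807)) (tt N8837 (iv F90390)) (tt N9120 D21355) (tt N5960 (iv D14670)) (tt N9121 D21356) (tt N8432 (iv F86866)) (tt N9118 (iv F91896)) (tt N9018 (iv F91454)) (tt N9113 (iv F91884)) (tt N9122 D21357))
theorem Q7444 : ∀ i, i < 7444 → P i := stepQ 7443 Q7443 (allL N7443 (tt N9099 (iv F91808)) (tt N8838 (iv F90391)) (tt N5971 F64271) (tt N9122 (iv F91902)) (tt N5964 F64272) (tt N8433 (iv F86869)) (tt N9119 (iv F91899)) (tt N9019 (iv F91457)) (tt N9067 (iv F91663)) (tt N5960 (iv D14671)))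
theorem Q7445 : ∀ i, i < 7445 → P i := stepQ 7444 Q7444 (allL N7444 (tt N9100 (iv F91811)) (tt N8839 (iv F90394)) (tt N5972 F64273) (tt N9123 D21358) (tt N9117 (iv F91894)) (tt N6037 F64274) (tt N9020 (iv F91460)) (tt N5962 F64275) (tt N5961 (iv D14672)) (tt N9124 D21359))
theorem Q7446 : ∀ i, i < 7446 → P i := stepQ 7445 Q7445 (allL N7445 (tt N8799 F202205) (tt N8840 (iv F90398)) (tt N6183 F64276) (tt N5962 (iv D14673)) (tt N9125 D21360) (tt N6038 F64277) (tt N5963 F64278) (tt N9123 (iv F91905)) (tt N6405 F64279) (tt N9126 D21361))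
theorem Q7447 : ∀ i, i < 7447 → P i := stepQ 7446 Q7446 (allL N7446 (tt N9101 (iv F91820)) (tt N8841 (iv F90403)) (tt N5973 F64280) (tt N9126 (iv F91914)) (tt N9119 (iv F91898)) (tt N6039 F64281) (tt N5964 F64282) (tt N9124 (iv F91909)) (tt N9070 (iv F91674)) (tt N5962 (iv D14674)))
theorem Q7448 : ∀ i, i < 7448 → P i := stepQ 7447 Q7447 (allL N7447 (tt N8797 F202249) (tt N8842 (iv F90407)) (tt N6185 F64283) (tt N9121 (iv F91901)) (tt N5963 (iv D14675)) (tt N9127 D21362) (tt N9125 (iv F91911)) (tt N9023 (iv F91470)) (tt N6406 F64284) (tt N9128 D21363))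
theorem Q7449 : ∀ i, i < 7449 → P i := stepQ 7448 Q7448 (allL N7448 (tt N8800 F202250) (tt N8843 (iv F90410)) (tt N6186 F64285) (tt N5964 F64286) (tt N9128 (iv F91921)) (tt N5966 F64287) (tt N9126 (iv F91916)) (tt N9024 (iv F91475)) (tt N8823 F202251) (tt N5963 (iv D14676)))
theorem Q7450 : ∀ i, i < 7450 → P i := stepQ 7449 Q7449 (allL N7449 (tt N8141 F202353) (tt N8844 (iv F90414)) (tt N6187 F64288) (tt N8439 (iv F86886)) (tt N9127 (iv F91918)) (tt N5965 (iv D14677)) (tt N9129 D21365) (tt N9025 (iv F91477)) (tt N6407 F64289) (tt N9130 D21366))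
theorem Q7451 : ∀ i, i < 7451 → P i := stepQ 7450 Q7450 (allL N7450 (tt N8143 F202354) (tt N8845 (iv F90417)) (tt N6188 F64290) (tt N8440 (iv F86889)) (tt N5966 F64291) (tt N9130 (iv F91929)) (tt N6043 F64292) (tt N9026 (iv F91482)) (tt N8162 F202355) (tt N5965 (iv D14678)))
theorem Q7452 : ∀ i, i < 7452 → P i := stepQ 7451 Q7451 (allL N7451 (tt N9102 (iv F91842)) (tt N5974 F64296) (tt N9115 (iv F91887)) (tt N7451 F64297) (tt N6044 F64298) (tt N5968 F64299) (tt N9131 D21368) (tt N5967 (iv D14680)) (tt N9132 D21369) (tt N9073 (iv F91693)))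
theorem Q7453 : ∀ i, i < 7453 → P i := stepQ 7452 Q7452 (allL N7452 (tt N9103 (iv F91847)) (tt N5975 F64300) (tt N9116 (iv F91890)) (tt N9133 D21370) (tt N6045 F64301) (tt N5969 F64302) (tt N8443 (iv F86902)) (tt N9132 (iv F91940)) (tt N5967 (iv D14681)) (tt N9134 D21371))
theorem Q7454 : ∀ i, i < 7454 → P i := stepQ 7453 Q7453 (allL N7453 (tt N9104 (iv F91851)) (tt N5976 F64303) (tt N9117 (iv F91893)) (tt N9135 D21372) (tt N5972 F64304) (tt N9132 (iv F91939)) (tt N9029 (iv F91496)) (tt N5969 F64305) (tt N5968 (iv D14682)) (tt N9136 D21373))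
theorem Q7455 : ∀ i, i < 7455 → P i := stepQ 7454 Q7454 (allL N7454 (tt N9105 (iv F91855)) (tt N5977 F64306) (tt N9137 D21374) (tt N5969 (iv D14683)) (tt N6192 F64307) (tt N9133 (iv F91942)) (tt N5970 F64308) (tt N9135 (iv F91949)) (tt N7454 F64309) (tt N9138 D21375))
theorem Q7456 : ∀ i, i < 7456 → P i := stepQ 7455 Q7455 (allL N7455 (tt N9106 (iv F91860)) (tt N5978 F64310) (tt N9119 (iv F91897)) (tt N9138 (iv F91958)) (tt N5973 F64311) (tt N9134 (iv F91946)) (tt N5971 F64312) (tt N9136 (iv F91953)) (tt N9077 (iv F91707)) (tt N5969 (iv D14684)))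
theorem Q7457 : ∀ i, i < 7457 → P i := stepQ 7456 Q7456 (allL N7456 (tt N9107 (iv F91864)) (tt N9139 D21376) (tt N5970 (iv D14685)) (tt N9120 (iv F91900)) (tt N6194 F64313) (tt N8447 (iv F86914)) (tt N9137 (iv F91955)) (tt N9032 (iv F91506)) (tt N7456 F64314) (tt N9140 D21377))
theorem Q7458 : ∀ i, i < 7458 → P i := stepQ 7457 Q7457 (allL N7457 (tt N9108 (iv F91867)) (tt N5980 F64315) (tt N9140 (iv F91964)) (tt N5971 F64316) (tt N6195 F64317) (tt N8448 (iv F86919)) (tt N9138 (iv F91960)) (tt N9033 (iv F91511)) (tt N9141 D21378) (tt N5970 (iv D14686)))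
theorem Q7459 : ∀ i, i < 7459 → P i := stepQ 7458 Q7458 (allL N7458 (tt N9109 (iv F91871)) (tt N5981 F64318) (tt N9124 (iv F91907)) (tt N6196 F64319) (tt N9136 (iv F91952)) (tt N6051 F64320) (tt N9034 (iv F91515)) (tt N5973 F64321) (tt N9080 (iv F91717)) (tt N5972 (iv D14687)))
theorem Q7460 : ∀ i, i < 7460 → P i := stepQ 7459 Q7459 (allL N7459 (tt N7459 F64322) (tt N9131 (iv F91934)) (tt N8854 (iv F90449)) (tt N7459 F64323) (tt N6052 F64324) (tt N9035 (iv F91520)) (tt N5974 (iv D14688)) (tt N8450 (iv F86927)) (tt N9142 D21379) (tt N9081 (iv F91721)))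
theorem Q7461 : ∀ i, i < 7461 → P i := stepQ 7460 Q7460 (allL N7460 (tt N7460 F64325) (tt N9132 (iv F91937)) (tt N8855 (iv F90452)) (tt N9143 D21380) (tt N6053 F64326) (tt N5976 F64327) (tt N9142 (iv F91971)) (tt N5975 F64328) (tt N5974 (iv D14689)) (tt N9144 D21381))
theorem Q7462 : ∀ i, i < 7462 → P i := stepQ 7461 Q7461 (allL N7461 (tt N7461 F64329) (tt N9133 (iv F91941)) (tt N9145 D21382) (tt N5975 (iv D14690)) (tt N9146 D21383) (tt N5977 F64330) (tt N8452 (iv F86934)) (tt N9143 (iv F91974)) (tt N7461 F64331) (tt N9147 D21384))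
theorem Q7463 : ∀ i, i < 7463 → P i := stepQ 7462 Q7462 (allL N7462 (tt N7462 F64332) (tt N9134 (iv F91944)) (tt N8857 (iv F90459)) (tt N9147 (iv F91988)) (tt N6055 F64333) (tt N5978 F64334) (tt N8453 (iv F86939)) (tt N9144 (iv F91979)) (tt N9084 (iv F91732)) (tt N5975 (iv D14691)))
theorem Q7464 : ∀ i, i < 7464 → P i := stepQ 7463 Q7463 (allL N7463 (tt N7463 F64335) (tt N9135 (iv F91947)) (tt N9148 D21385) (tt N5976 (iv D14692)) (tt N6201 F64336) (tt N9143 (iv F91973)) (tt N9039 (iv F91533)) (tt N5977 F64337) (tt N7463 F64338) (tt N9149 D21386))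
theorem Q7465 : ∀ i, i < 7465 → P i := stepQ 7464 Q7464 (allL N7464 (tt N7464 F64339) (tt N9136 (iv F91951)) (tt N8859 (iv F90466)) (tt N9149 (iv F91995)) (tt N5981 F64340) (tt N9144 (iv F91978)) (tt N9040 (iv F91538)) (tt N5978 F64341) (tt N9085 (iv F91740)) (tt N5976 (iv D14693)))
theorem Q7466 : ∀ i, i < 7466 → P i := stepQ 7465 Q7465 (allL N7465 (tt N7465 F64342) (tt N9150 D21387) (tt N5977 (iv D14694)) (tt N8860 (iv F90470)) (tt N6203 F64343) (tt N9145 (iv F91981)) (tt N5979 F64344) (tt N9148 (iv F91992)) (tt N7465 F64345) (tt N9151 D21388))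
theorem Q7467 : ∀ i, i < 7467 → P i := stepQ 7466 Q7466 (allL N7466 (tt N7466 F64346) (tt N9138 (iv F91957)) (tt N9151 (iv F92002)) (tt N5978 F64347) (tt N6204 F64348) (tt N9147 (iv F91989)) (tt N5980 F64349) (tt N9149 (iv F91997)) (tt N9152 D21389) (tt N5977 (iv D14695)))
theorem Q7468 : ∀ i, i < 7468 → P i := stepQ 7467 Q7467 (allL N7467 (tt N9153 D21390) (tt N5979 (iv D14696)) (tt N9139 (iv F91961)) (tt N8862 (iv F90477)) (tt N6205 F64350) (tt N8458 (iv F86956)) (tt N9150 (iv F91999)) (tt N9043 (iv F91549)) (tt N7467 F64351) (tt N9154 D21391))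
theorem Q7469 : ∀ i, i < 7469 → P i := stepQ 7468 Q7468 (allL N7468 (tt N7468 F64352) (tt N9154 (iv F92012)) (tt N5980 F64353) (tt N8863 (iv F90481)) (tt N6206 F64354) (tt N8459 (iv F86961)) (tt N9151 (iv F92004)) (tt N9044 (iv F91554)) (tt N9155 D21392) (tt N5979 (iv D14697)))
theorem Q7470 : ∀ i, i < 7470 → P i := stepQ 7469 Q7469 (allL N7469 (tt N7469 F64355) (tt N9141 (iv F91966)) (tt N9155 (iv F92015)) (tt N9089 (iv F91755)) (tt N6207 F64356) (tt N8460 (iv F86964)) (tt N9152 (iv F92007)) (tt N9045 (iv F91557)) (tt N5980 (iv D14698)) (tt N7469 F64357))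
theorem Q7471 : ∀ i, i < 7471 → P i := stepQ 7470 Q7470 (allL N7470 (tt N6372 (iv F201991)) (tt N5983 F64358) (tt N7470 F64359) (tt N8633 (iv F202175)) (tt N5982 (iv D14699)) (tt N8492 (iv F87138)) (tt N9156 D21394) (tt N7470 F64360) (tt N8914 (iv F202162)) (tt N6015 F64361))
theorem Q7472 : ∀ i, i < 7472 → P i := stepQ 7471 Q7471 (allL N7471 (tt N6371 (iv F201889)) (tt N5984 F64362) (tt N7471 F64363) (tt N6360 F201699) (tt N9156 (iv F92024)) (tt N9047 (iv F91565)) (tt N5982 (iv D14700)) (tt N9157 D21396) (tt N8912 (iv F202124)) (tt N6016 F64365))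
theorem Q7473 : ∀ i, i < 7473 → P i := stepQ 7472 Q7472 (allL N7472 (tt N5993 F64382) (tt N9156 (iv F92022)) (tt N5987 F64383) (tt N8632 (iv F202730)) (tt N5984 F64384) (tt N9158 D21405) (tt N5983 (iv D14705)) (tt N9159 D21406) (tt N9160 D21407) (tt N6018 F64385))
theorem Q7474 : ∀ i, i < 7474 → P i := stepQ 7473 Q7473 (allL N7473 (tt N5994 F64386) (tt N8914 F202458) (tt N5988 F64387) (tt N9161 D21408) (tt N5985 F64388) (tt N8497 (iv F87170)) (tt N9160 (iv F92077)) (tt N7473 F64389) (tt N5983 (iv D14706)) (tt N9162 D21409))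
theorem Q7475 : ∀ i, i < 7475 → P i := stepQ 7474 Q7474 (allL N7474 (tt N5995 F64390) (tt N9157 (iv F92030)) (tt N5989 F64391) (tt N6410 F64392) (tt N9159 (iv F92071)) (tt N9051 (iv F91591)) (tt N7474 F64393) (tt N5984 (iv D14707)) (tt N9163 D21410) (tt N6020 F64394))
theorem Q7476 : ∀ i, i < 7476 → P i := stepQ 7475 Q7475 (allL N7475 (tt N5996 F64395) (tt N8912 F202309) (tt N5990 F64396) (tt N8902 F202310) (tt N9160 (iv F92076)) (tt N9052 (iv F91595)) (tt N5985 F64397) (tt N9163 (iv F92088)) (tt N5984 (iv D14708)) (tt N9164 D21412))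
theorem Q7477 : ∀ i, i < 7477 → P i := stepQ 7476 Q7476 (allL N7476 (tt N5998 F64403) (tt N8915 F202459) (tt N5991 F64404) (tt N8903 F202460) (tt N9162 (iv F92082)) (tt N5986 F64405) (tt N9164 (iv F92095)) (tt N7476 F64406) (tt N6022 F64407) (tt N5985 (iv D14710)))
theorem Q7478 : ∀ i, i < 7478 → P i := stepQ 7477 Q7477 (allL N7477 (tt N6000 F64416) (tt N7477 F64417) (tt N9158 (iv F92067)) (tt N6063 F64418) (tt N9054 (iv F91616)) (tt N5987 (iv D14713)) (tt N8503 (iv F87199)) (tt N9165 D21418) (tt N9166 D21419) (tt N6023 F64419))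
theorem Q7479 : ∀ i, i < 7479 → P i := stepQ 7478 Q7478 (allL N7478 (tt N6001 F64420) (tt N7478 F64421) (tt N9159 (iv F92070)) (tt N6064 F64422) (tt N5989 F64423) (tt N9165 (iv F92122)) (tt N7478 F64424) (tt N5987 (iv D14714)) (tt N9167 D21420) (tt N6024 F64425))
theorem Q7480 : ∀ i, i < 7480 → P i := stepQ 7479 Q7479 (allL N7479 (tt N6002 F64426) (tt N7479 F64427) (tt N9160 (iv F92075)) (tt N8625 (iv F203586)) (tt N5990 F64428) (tt N9166 (iv F92126)) (tt N5988 F64429) (tt N9167 (iv F92131)) (tt N5987 (iv D14715)) (tt N9168 D21422))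
theorem Q7481 : ∀ i, i < 7481 → P i := stepQ 7480 Q7480 (allL N7480 (tt N6004 F64435) (tt N7480 F64436) (tt N9162 (iv F92081)) (tt N8626 (iv F203806)) (tt N5991 F64437) (tt N8506 (iv F87219)) (tt N9168 (iv F92140)) (tt N7480 F64438) (tt N6027 F64439) (tt N5988 (iv D14717)))
theorem Q7482 : ∀ i, i < 7482 → P i := stepQ 7481 Q7481 (allL N7481 (tt N6005 F64440) (tt N7481 F64441) (tt N9163 (iv F92086)) (tt N7481 F64442) (tt N9167 (iv F92129)) (tt N9059 (iv F91638)) (tt N7481 F64443) (tt N5990 F64444) (tt N5989 (iv D14718)) (tt N9169 D21425))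
theorem Q7483 : ∀ i, i < 7483 → P i := stepQ 7482 Q7482 (allL N7482 (tt N6006 F64445) (tt N7482 F64446) (tt N9164 (iv F92094)) (tt N7482 F64447) (tt N9168 (iv F92139)) (tt N9060 (iv F91643)) (tt N5991 F64448) (tt N9169 (iv F92155)) (tt N6029 F64449) (tt N5990 (iv D14719)))
theorem Q7484 : ∀ i, i < 7484 → P i := stepQ 7483 Q7483 (allL N7483 (tt N8632 (iv F202729)) (tt N8870 (iv F90746)) (tt N6065 F64450) (tt N5993 F64451) (tt N6413 F64452) (tt N9170 D21426) (tt N5992 (iv D14720)) (tt N9171 D21427) (tt N9172 D21428) (tt N6030 F64453))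
theorem Q7485 : ∀ i, i < 7485 → P i := stepQ 7484 Q7484 (allL N7484 (tt N8529 (iv F202932)) (tt N8871 (iv F90751)) (tt N6066 F64454) (tt N9173 D21429) (tt N6414 F64455) (tt N8510 (iv F87236)) (tt N9172 (iv F92167)) (tt N7484 F64456) (tt N5992 (iv D14721)) (tt N9174 D21430))
theorem Q7486 : ∀ i, i < 7486 → P i := stepQ 7485 Q7485 (allL N7485 (tt N9158 (iv F92066)) (tt N8872 (iv F90755)) (tt N6000 F64457) (tt N9170 (iv F92158)) (tt N9063 (iv F91653)) (tt N5993 (iv D14722)) (tt N8511 (iv F87239)) (tt N9175 D21431) (tt N9176 D21432) (tt N6032 F64458))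
theorem Q7487 : ∀ i, i < 7487 → P i := stepQ 7486 Q7486 (allL N7486 (tt N9159 (iv F92069)) (tt N8873 (iv F90758)) (tt N6001 F64459) (tt N9171 (iv F92161)) (tt N5995 F64460) (tt N9175 (iv F92175)) (tt N7486 F64461) (tt N5993 (iv D14723)) (tt N9177 D21433) (tt N6033 F64462))
theorem Q7488 : ∀ i, i < 7488 → P i := stepQ 7487 Q7487 (allL N7487 (tt N9160 (iv F92074)) (tt N8874 (iv F90763)) (tt N6002 F64463) (tt N9178 D21434) (tt N5996 F64464) (tt N9176 (iv F92178)) (tt N5994 F64465) (tt N9177 (iv F92182)) (tt N5993 (iv D14724)) (tt N9179 D21435))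
theorem Q7489 : ∀ i, i < 7489 → P i := stepQ 7488 Q7488 (allL N7488 (tt N9161 (iv F92078)) (tt N8875 (iv F90767)) (tt N9180 D21436) (tt N5994 (iv D14725)) (tt N9181 D21437) (tt N8514 (iv F87248)) (tt N9178 (iv F92183)) (tt N7488 F64466) (tt N9173 (iv F92169)) (tt N9182 D21438))
theorem Q7490 : ∀ i, i < 7490 → P i := stepQ 7489 Q7489 (allL N7489 (tt N9162 (iv F92080)) (tt N8876 (iv F90769)) (tt N6004 F64467) (tt N9182 (iv F92192)) (tt N5998 F64468) (tt N8515 (iv F87252)) (tt N9179 (iv F92186)) (tt N7489 F64469) (tt N6036 F64470) (tt N5994 (iv D14726)))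
theorem Q7491 : ∀ i, i < 7491 → P i := stepQ 7490 Q7490 (allL N7490 (tt N9163 (iv F92085)) (tt N8877 (iv F90774)) (tt N6005 F64471) (tt N9183 D21439) (tt N9177 (iv F92180)) (tt N9068 (iv F91665)) (tt N7490 F64472) (tt N5996 F64473) (tt N5995 (iv D14727)) (tt N9184 D21440))
theorem Q7492 : ∀ i, i < 7492 → P i := stepQ 7491 Q7491 (allL N7491 (tt N8902 F202297) (tt N6021 (iv F202615)) (tt N7491 F64474) (tt N5996 (iv D14728)) (tt N9185 D21441) (tt N9069 (iv F91668)) (tt N5997 F64475) (tt N9183 (iv F92196)) (tt N6016 F202298) (tt N9186 D21442))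
theorem Q7493 : ∀ i, i < 7493 → P i := stepQ 7492 Q7492 (allL N7492 (tt N9164 (iv F92093)) (tt N8878 (iv F90781)) (tt N6006 F64477) (tt N9186 (iv F92206)) (tt N9179 (iv F92185)) (tt N9070 (iv F91672)) (tt N5998 F64478) (tt N9184 (iv F92200)) (tt N6039 F64479) (tt N5996 (iv D14729)))
theorem Q7494 : ∀ i, i < 7494 → P i := stepQ 7493 Q7493 (allL N7493 (tt N8900 F202450) (tt N6019 (iv F202792)) (tt N7493 F64480) (tt N9181 (iv F92190)) (tt N5997 (iv D14730)) (tt N8545 (iv F202941)) (tt N9185 (iv F92203)) (tt N7493 F64481) (tt N6015 F202451) (tt N9187 D21444))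
theorem Q7495 : ∀ i, i < 7495 → P i := stepQ 7494 Q7494 (allL N7494 (tt N8903 F202452) (tt N6022 (iv F202793)) (tt N7494 F64483) (tt N5998 F64484) (tt N9187 (iv F92213)) (tt N5999 F64485) (tt N9186 (iv F92207)) (tt N7494 F64486) (tt N8915 F202442) (tt N5997 (iv D14731)))
theorem Q7496 : ∀ i, i < 7496 → P i := stepQ 7495 Q7495 (allL N7495 (tt N9165 (iv F92119)) (tt N6007 F64497) (tt N9175 (iv F92174)) (tt N6069 F64498) (tt N9073 (iv F91691)) (tt N6001 F64499) (tt N9188 D21449) (tt N6000 (iv D14735)) (tt N9189 D21450) (tt N6044 F64500))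
theorem Q7497 : ∀ i, i < 7497 → P i := stepQ 7496 Q7496 (allL N7496 (tt N9166 (iv F92124)) (tt N6008 F64501) (tt N9176 (iv F92177)) (tt N9190 D21451) (tt N9074 (iv F91695)) (tt N6002 F64502) (tt N8525 (iv F87283)) (tt N9189 (iv F92235)) (tt N6000 (iv D14736)) (tt N9191 D21452))
theorem Q7498 : ∀ i, i < 7498 → P i := stepQ 7497 Q7497 (allL N7497 (tt N9167 (iv F92127)) (tt N6009 F64503) (tt N9177 (iv F92179)) (tt N9192 D21453) (tt N6005 F64504) (tt N9189 (iv F92234)) (tt N7497 F64505) (tt N6002 F64506) (tt N6001 (iv D14737)) (tt N9193 D21454))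
theorem Q7499 : ∀ i, i < 7499 → P i := stepQ 7498 Q7498 (allL N7498 (tt N8625 (iv F203585)) (tt N6010 F64507) (tt N9194 D21455) (tt N6002 (iv D14738)) (tt N7498 F64508) (tt N9190 (iv F92237)) (tt N6003 F64509) (tt N9192 (iv F92245)) (tt N6072 F64510) (tt N9195 D21456))
theorem Q7500 : ∀ i, i < 7500 → P i := stepQ 7499 Q7499 (allL N7499 (tt N9168 (iv F92137)) (tt N6011 F64511) (tt N9179 (iv F92184)) (tt N9195 (iv F92256)) (tt N6006 F64512) (tt N9191 (iv F92240)) (tt N6004 F64513) (tt N9193 (iv F92250)) (tt N6048 F64514) (tt N6002 (iv D14739)))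
theorem Q7501 : ∀ i, i < 7501 → P i := stepQ 7500 Q7500 (allL N7500 (tt N8510 F203367) (tt N9196 D21457) (tt N6003 (iv D14740)) (tt N9180 (iv F92188)) (tt N7500 F64515) (tt N8529 (iv F87295)) (tt N9194 (iv F92253)) (tt N7500 F64516) (tt N6073 F64517) (tt N9197 D21458))
theorem Q7502 : ∀ i, i < 7502 → P i := stepQ 7501 Q7501 (allL N7501 (tt N8626 (iv F203805)) (tt N6013 F64518) (tt N9197 (iv F92263)) (tt N6004 F64519) (tt N7501 F64520) (tt N8530 (iv F87300)) (tt N9195 (iv F92258)) (tt N7501 F64521) (tt N8651 (iv F203828)) (tt N6003 (iv D14741)))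
theorem Q7503 : ∀ i, i < 7503 → P i := stepQ 7502 Q7502 (allL N7502 (tt N9169 (iv F92151)) (tt N6014 F64522) (tt N9184 (iv F92198)) (tt N7502 F64523) (tt N9193 (iv F92248)) (tt N9080 (iv F91715)) (tt N7502 F64524) (tt N6006 F64525) (tt N6051 F64526) (tt N6005 (iv D14742)))
theorem Q7504 : ∀ i, i < 7504 → P i := stepQ 7503 Q7503 (allL N7503 (tt N7503 F64527) (tt N9188 (iv F92229)) (tt N8887 (iv F90829)) (tt N6074 F64528) (tt N9081 (iv F91720)) (tt N7503 F64529) (tt N6007 (iv D14743)) (tt N8532 (iv F87309)) (tt N9198 D21460) (tt N6052 F64530))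
theorem Q7505 : ∀ i, i < 7505 → P i := stepQ 7504 Q7504 (allL N7504 (tt N7504 F64531) (tt N9189 (iv F92233)) (tt N8888 (iv F90834)) (tt N9199 D21461) (tt N9082 (iv F91723)) (tt N6009 F64532) (tt N9198 (iv F92273)) (tt N6008 F64533) (tt N6007 (iv D14744)) (tt N9200 D21462))
theorem Q7506 : ∀ i, i < 7506 → P i := stepQ 7505 Q7505 (allL N7505 (tt N7505 F64534) (tt N9190 (iv F92236)) (tt N9201 D21463) (tt N6008 (iv D14745)) (tt N9202 D21464) (tt N6010 F64535) (tt N8534 (iv F87316)) (tt N9199 (iv F92276)) (tt N6076 F64536) (tt N9203 D21465))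
theorem Q7507 : ∀ i, i < 7507 → P i := stepQ 7506 Q7506 (allL N7506 (tt N7506 F64537) (tt N9191 (iv F92239)) (tt N8890 (iv F90841)) (tt N9203 (iv F92289)) (tt N9084 (iv F91730)) (tt N6011 F64538) (tt N8535 (iv F87320)) (tt N9200 (iv F92280)) (tt N6055 F64539) (tt N6008 (iv D14746)))
theorem Q7508 : ∀ i, i < 7508 → P i := stepQ 7507 Q7507 (allL N7507 (tt N7507 F64540) (tt N9192 (iv F92242)) (tt N9204 D21466) (tt N6009 (iv D14747)) (tt N7507 F64541) (tt N9199 (iv F92275)) (tt N7507 F64542) (tt N6010 F64543) (tt N6078 F64544) (tt N9205 D21467))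
theorem Q7509 : ∀ i, i < 7509 → P i := stepQ 7508 Q7508 (allL N7508 (tt N7508 F64545) (tt N9193 (iv F92247)) (tt N8892 (iv F90849)) (tt N9205 (iv F92297)) (tt N6014 F64546) (tt N9200 (iv F92279)) (tt N7508 F64547) (tt N6011 F64548) (tt N6057 F64549) (tt N6009 (iv D14748)))
theorem Q7510 : ∀ i, i < 7510 → P i := stepQ 7509 Q7509 (allL N7509 (tt N7509 F64550) (tt N9206 D21468) (tt N6010 (iv D14749)) (tt N8893 (iv F90855)) (tt N7509 F64551) (tt N9201 (iv F92283)) (tt N6012 F64552) (tt N9204 (iv F92294)) (tt N6080 F64553) (tt N9207 D21469))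
theorem Q7511 : ∀ i, i < 7511 → P i := stepQ 7510 Q7510 (allL N7510 (tt N7510 F64554) (tt N9195 (iv F92255)) (tt N9207 (iv F92305)) (tt N6011 F64555) (tt N7510 F64556) (tt N9203 (iv F92290)) (tt N6013 F64557) (tt N9205 (iv F92300)) (tt N9208 D21470) (tt N6010 (iv D14750)))
theorem Q7512 : ∀ i, i < 7512 → P i := stepQ 7511 Q7511 (allL N7511 (tt N9209 D21471) (tt N6012 (iv D14751)) (tt N9196 (iv F92259)) (tt N8895 (iv F90861)) (tt N7511 F64558) (tt N8540 (iv F87337)) (tt N9206 (iv F92302)) (tt N7511 F64559) (tt N6082 F64560) (tt N9210 D21472))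
theorem Q7513 : ∀ i, i < 7513 → P i := stepQ 7512 Q7512 (allL N7512 (tt N7512 F64561) (tt N9210 (iv F92317)) (tt N6013 F64562) (tt N8896 (iv F90866)) (tt N7512 F64563) (tt N8541 (iv F87342)) (tt N9207 (iv F92307)) (tt N7512 F64564) (tt N9211 D21473) (tt N6012 (iv D14752)))
theorem Q7514 : ∀ i, i < 7514 → P i := stepQ 7513 Q7513 (allL N7513 (tt N7513 F64565) (tt N8651 (iv F203827)) (tt N9211 (iv F92321)) (tt N6062 F64566) (tt N7513 F64567) (tt N8542 (iv F87346)) (tt N9208 (iv F92311)) (tt N7513 F64568) (tt N6013 (iv D14753)) (tt N6084 F64569))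
theorem Q7515 : ∀ i, i < 7515 → P i := stepQ 7514 Q7514 (allL N7514 (tt N8898 (iv F90872)) (tt N6017 F64570) (tt N8646 (iv F202945)) (tt N6015 (iv D14754)) (tt N6418 F202448) (tt N8543 (iv F87351)) (tt N9212 D21475) (tt N7514 F64572) (tt N9213 D21476) (tt N8633 F202449))
theorem Q7516 : ∀ i, i < 7516 → P i := stepQ 7515 Q7515 (allL N7515 (tt N8899 (iv F90876)) (tt N6018 F64573) (tt N7515 F64574) (tt N9212 (iv F92330)) (tt N6016 F64575) (tt N9214 D21477) (tt N6015 (iv D14755)) (tt N9215 D21478) (tt N9185 (iv F202737)) (tt N9156 (iv F92025)))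
theorem Q7517 : ∀ i, i < 7517 → P i := stepQ 7516 Q7516 (allL N7516 (tt N8901 (iv F90885)) (tt N6020 F64580) (tt N7516 F64581) (tt N6419 F202281) (tt N9215 (iv F92339)) (tt N9092 (iv F91769)) (tt N7516 F64583) (tt N6016 (iv D14757)) (tt N9183 (iv F202605)) (tt N9157 (iv F92034)))
theorem Q7518 : ∀ i, i < 7518 → P i := stepQ 7517 Q7517 (allL N7517 (tt N6030 F64605) (tt N9212 (iv F92329)) (tt N6085 F64606) (tt N6018 F64607) (tt N6422 F64608) (tt N9216 D21493) (tt N6017 (iv D14764)) (tt N9217 D21494) (tt N9218 D21495) (tt N8632 F203135))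
theorem Q7519 : ∀ i, i < 7519 → P i := stepQ 7518 Q7518 (allL N7518 (tt N6031 F64609) (tt N9213 (iv F92332)) (tt N6086 F64610) (tt N9219 D21496) (tt N6423 F64611) (tt N8550 (iv F87394)) (tt N9218 (iv F92401)) (tt N7518 F64612) (tt N6017 (iv D14765)) (tt N9220 D21497))
theorem Q7520 : ∀ i, i < 7520 → P i := stepQ 7519 Q7519 (allL N7519 (tt N6032 F64613) (tt N9214 (iv F92335)) (tt N6023 F64614) (tt N9216 (iv F92392)) (tt N9095 (iv F91799)) (tt N6018 (iv D14766)) (tt N8551 (iv F87398)) (tt N9221 D21498) (tt N9222 D21499) (tt N9158 (iv F92068)))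
theorem Q7521 : ∀ i, i < 7521 → P i := stepQ 7520 Q7520 (allL N7520 (tt N6033 F64615) (tt N9215 (iv F92337)) (tt N6024 F64616) (tt N9217 (iv F92395)) (tt N6020 F64617) (tt N9221 (iv F92411)) (tt N7520 F64618) (tt N6018 (iv D14767)) (tt N9223 D21500) (tt N9159 (iv F92073)))
theorem Q7522 : ∀ i, i < 7522 → P i := stepQ 7521 Q7521 (allL N7521 (tt N6034 F64619) (tt N9185 F203109) (tt N6025 F64620) (tt N9224 D21501) (tt N6021 F64621) (tt N9222 (iv F92414)) (tt N6019 F64622) (tt N9223 (iv F92419)) (tt N6018 (iv D14768)) (tt N9225 D21502))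
theorem Q7523 : ∀ i, i < 7523 → P i := stepQ 7522 Q7522 (allL N7522 (tt N6035 F64623) (tt N9181 F203239) (tt N9226 D21503) (tt N6019 (iv D14769)) (tt N8875 F203240) (tt N8554 (iv F87408)) (tt N9224 (iv F92421)) (tt N7522 F64624) (tt N9219 (iv F92404)) (tt N9227 D21505))
theorem Q7524 : ∀ i, i < 7524 → P i := stepQ 7523 Q7523 (allL N7523 (tt N6036 F64625) (tt N9187 F203241) (tt N6027 F64626) (tt N9227 (iv F92433)) (tt N6022 F64627) (tt N8555 (iv F87413)) (tt N9225 (iv F92425)) (tt N7523 F64628) (tt N9162 (iv F92084)) (tt N6019 (iv D14770)))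
theorem Q7525 : ∀ i, i < 7525 → P i := stepQ 7524 Q7524 (allL N7524 (tt N6037 F64629) (tt N9183 (iv F202604)) (tt N6028 F64630) (tt N8877 F202208) (tt N9223 (iv F92417)) (tt N9100 (iv F91813)) (tt N7524 F64631) (tt N6021 F64632) (tt N6020 (iv D14771)) (tt N9228 D21507))
theorem Q7526 : ∀ i, i < 7526 → P i := stepQ 7525 Q7525 (allL N7525 (tt N6039 F64637) (tt N9186 F203110) (tt N6029 F64638) (tt N8878 F203111) (tt N9225 (iv F92424)) (tt N9101 (iv F91822)) (tt N6022 F64639) (tt N9228 (iv F92443)) (tt N9164 (iv F92096)) (tt N6021 (iv D14773)))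
theorem Q7527 : ∀ i, i < 7527 → P i := stepQ 7526 Q7526 (allL N7526 (tt N6044 F64661) (tt N7526 F64662) (tt N9221 (iv F92410)) (tt N6089 F64663) (tt N9102 (iv F91845)) (tt N6024 F64664) (tt N9229 D21516) (tt N6023 (iv D14779)) (tt N9230 D21517) (tt N9165 (iv F92123)))
theorem Q7528 : ∀ i, i < 7528 → P i := stepQ 7527 Q7527 (allL N7527 (tt N6045 F64665) (tt N7527 F64666) (tt N9222 (iv F92413)) (tt N9231 D21518) (tt N9103 (iv F91849)) (tt N6025 F64667) (tt N8563 (iv F87456)) (tt N9230 (iv F92485)) (tt N6023 (iv D14780)) (tt N9232 D21519))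
theorem Q7529 : ∀ i, i < 7529 → P i := stepQ 7528 Q7528 (allL N7528 (tt N6046 F64668) (tt N7528 F64669) (tt N9223 (iv F92416)) (tt N9233 D21520) (tt N6028 F64670) (tt N9230 (iv F92484)) (tt N7528 F64671) (tt N6025 F64672) (tt N6024 (iv D14781)) (tt N9234 D21521))
theorem Q7530 : ∀ i, i < 7530 → P i := stepQ 7529 Q7529 (allL N7529 (tt N6047 F64673) (tt N7529 F64674) (tt N9235 D21522) (tt N6025 (iv D14782)) (tt N6218 F64675) (tt N9231 (iv F92488)) (tt N6026 F64676) (tt N9233 (iv F92497)) (tt N6092 F64677) (tt N9236 D21523))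
theorem Q7531 : ∀ i, i < 7531 → P i := stepQ 7530 Q7530 (allL N7530 (tt N6048 F64678) (tt N7530 F64679) (tt N9225 (iv F92423)) (tt N9236 (iv F92510)) (tt N6029 F64680) (tt N9232 (iv F92492)) (tt N6027 F64681) (tt N9234 (iv F92503)) (tt N9168 (iv F92141)) (tt N6025 (iv D14783)))
theorem Q7532 : ∀ i, i < 7532 → P i := stepQ 7531 Q7531 (allL N7531 (tt N6049 F64682) (tt N9237 D21524) (tt N6026 (iv D14784)) (tt N9226 (iv F92427)) (tt N6220 F64683) (tt N8567 (iv F87473)) (tt N9235 (iv F92506)) (tt N7531 F64684) (tt N6093 F64685) (tt N9238 D21525))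
theorem Q7533 : ∀ i, i < 7533 → P i := stepQ 7532 Q7532 (allL N7532 (tt N6050 F64686) (tt N7532 F64687) (tt N9238 (iv F92518)) (tt N6027 F64688) (tt N6221 F64689) (tt N8568 (iv F87480)) (tt N9236 (iv F92512)) (tt N7532 F64690) (tt N8666 (iv F204186)) (tt N6026 (iv D14785)))
theorem Q7534 : ∀ i, i < 7534 → P i := stepQ 7533 Q7533 (allL N7533 (tt N6051 F64691) (tt N7533 F64692) (tt N9228 (iv F92441)) (tt N6222 F64693) (tt N9234 (iv F92501)) (tt N9109 (iv F91874)) (tt N7533 F64694) (tt N6029 F64695) (tt N9169 (iv F92156)) (tt N6028 (iv D14786)))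
theorem Q7535 : ∀ i, i < 7535 → P i := stepQ 7534 Q7534 (allL N7534 (tt N9216 (iv F92390)) (tt N8924 (iv F91008)) (tt N6094 F64696) (tt N6032 F64697) (tt N9239 D21527) (tt N6030 (iv D14787)) (tt N8570 (iv F87489)) (tt N9240 D21528) (tt N9241 D21529) (tt N9170 (iv F92159)))
theorem Q7536 : ∀ i, i < 7536 → P i := stepQ 7535 Q7535 (allL N7535 (tt N9217 (iv F92393)) (tt N8925 (iv F91011)) (tt N6095 F64698) (tt N6033 F64699) (tt N6427 F64700) (tt N9240 (iv F92530)) (tt N7535 F64701) (tt N6030 (iv D14788)) (tt N9242 D21530) (tt N9171 (iv F92164)))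
theorem Q7537 : ∀ i, i < 7537 → P i := stepQ 7536 Q7536 (allL N7536 (tt N9218 (iv F92398)) (tt N8926 (iv F91016)) (tt N6096 F64702) (tt N9243 D21531) (tt N6428 F64703) (tt N9241 (iv F92532)) (tt N6031 F64704) (tt N9242 (iv F92536)) (tt N6030 (iv D14789)) (tt N9244 D21532))
theorem Q7538 : ∀ i, i < 7538 → P i := stepQ 7537 Q7537 (allL N7537 (tt N9219 (iv F92402)) (tt N8927 (iv F91020)) (tt N9245 D21533) (tt N6031 (iv D14790)) (tt N9246 D21534) (tt N8573 (iv F87497)) (tt N9243 (iv F92537)) (tt N7537 F64705) (tt N6035 F64706) (tt N9247 D21535))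
theorem Q7539 : ∀ i, i < 7539 → P i := stepQ 7538 Q7538 (allL N7538 (tt N9220 (iv F92405)) (tt N8928 (iv F91023)) (tt N6098 F64707) (tt N9247 (iv F92548)) (tt N6430 F64708) (tt N8574 (iv F87502)) (tt N9244 (iv F92541)) (tt N7538 F64709) (tt N9174 (iv F92173)) (tt N6031 (iv D14791)))
theorem Q7540 : ∀ i, i < 7540 → P i := stepQ 7539 Q7539 (allL N7539 (tt N9221 (iv F92409)) (tt N8929 (iv F91027)) (tt N6044 F64710) (tt N9240 (iv F92529)) (tt N9115 (iv F91888)) (tt N6033 F64711) (tt N9248 D21536) (tt N6032 (iv D14792)) (tt N9249 D21537) (tt N9175 (iv F92176)))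
theorem Q7541 : ∀ i, i < 7541 → P i := stepQ 7540 Q7540 (allL N7540 (tt N9222 (iv F92412)) (tt N8930 (iv F91030)) (tt N6045 F64712) (tt N9250 D21538) (tt N9116 (iv F91891)) (tt N6034 F64713) (tt N8576 (iv F87508)) (tt N9249 (iv F92554)) (tt N6032 (iv D14793)) (tt N9251 D21539))
theorem Q7542 : ∀ i, i < 7542 → P i := stepQ 7541 Q7541 (allL N7541 (tt N9223 (iv F92415)) (tt N8931 (iv F91033)) (tt N6046 F64714) (tt N9252 D21540) (tt N6037 F64715) (tt N9249 (iv F92553)) (tt N7541 F64716) (tt N6034 F64717) (tt N6033 (iv D14794)) (tt N9253 D21541))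
theorem Q7543 : ∀ i, i < 7543 → P i := stepQ 7542 Q7542 (allL N7542 (tt N9224 (iv F92420)) (tt N8932 (iv F91038)) (tt N9254 D21542) (tt N6034 (iv D14795)) (tt N9255 D21543) (tt N9250 (iv F92555)) (tt N6035 F64718) (tt N9252 (iv F92559)) (tt N9243 (iv F92538)) (tt N9256 D21544))
theorem Q7544 : ∀ i, i < 7544 → P i := stepQ 7543 Q7543 (allL N7543 (tt N9225 (iv F92422)) (tt N8933 (iv F91040)) (tt N6048 F64719) (tt N9256 (iv F92568)) (tt N6039 F64720) (tt N9251 (iv F92557)) (tt N6036 F64721) (tt N9253 (iv F92563)) (tt N9179 (iv F92187)) (tt N6034 (iv D14796)))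
theorem Q7545 : ∀ i, i < 7545 → P i := stepQ 7544 Q7544 (allL N7544 (tt N9226 (iv F92426)) (tt N9257 D21545) (tt N6035 (iv D14797)) (tt N6049 F64722) (tt N9258 D21546) (tt N8580 (iv F87518)) (tt N9254 (iv F92565)) (tt N7544 F64723) (tt N9245 (iv F92544)) (tt N9259 D21547))
theorem Q7546 : ∀ i, i < 7546 → P i := stepQ 7545 Q7545 (allL N7545 (tt N8875 F203244) (tt N8935 (iv F91046)) (tt N9258 (iv F92572)) (tt N6040 F64724) (tt N6035 (iv D14798)) (tt N9260 D21548) (tt N9255 (iv F92567)) (tt N7545 F64725) (tt N9246 (iv F92547)) (tt N9261 D21549))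
theorem Q7547 : ∀ i, i < 7547 → P i := stepQ 7546 Q7546 (allL N7546 (tt N9227 (iv F92432)) (tt N8936 (iv F91049)) (tt N9259 (iv F92575)) (tt N6036 F64726) (tt N9261 (iv F92581)) (tt N8582 (iv F87523)) (tt N9256 (iv F92569)) (tt N7546 F64727) (tt N9262 D21550) (tt N6035 (iv D14799)))
theorem Q7548 : ∀ i, i < 7548 → P i := stepQ 7547 Q7547 (allL N7547 (tt N8877 F202204) (tt N8937 (iv F91052)) (tt N6231 F64728) (tt N6037 (iv D14800)) (tt N9263 D21551) (tt N9123 (iv F91904)) (tt N7547 F64729) (tt N6038 F64730) (tt N6433 F64731) (tt N9264 D21552))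
theorem Q7549 : ∀ i, i < 7549 → P i := stepQ 7548 Q7548 (allL N7548 (tt N9228 (iv F92440)) (tt N8938 (iv F91057)) (tt N6051 F64732) (tt N9264 (iv F92589)) (tt N9253 (iv F92561)) (tt N9124 (iv F91908)) (tt N7548 F64733) (tt N6039 F64734) (tt N9184 (iv F92201)) (tt N6037 (iv D14801)))
theorem Q7550 : ∀ i, i < 7550 → P i := stepQ 7549 Q7549 (allL N7549 (tt N8874 F203106) (tt N8939 (iv F91061)) (tt N6233 F64735) (tt N9255 (iv F92566)) (tt N6038 (iv D14802)) (tt N9265 D21553) (tt N6040 F64736) (tt N9263 (iv F92586)) (tt N6434 F64737) (tt N9266 D21554))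
theorem Q7551 : ∀ i, i < 7551 → P i := stepQ 7550 Q7550 (allL N7550 (tt N8878 F203107) (tt N8940 (iv F91065)) (tt N6234 F64738) (tt N6039 F64739) (tt N9266 (iv F92595)) (tt N9126 (iv F91915)) (tt N6041 F64740) (tt N9264 (iv F92591)) (tt N8913 F203108) (tt N6038 (iv D14803)))
theorem Q7552 : ∀ i, i < 7552 → P i := stepQ 7551 Q7551 (allL N7551 (tt N8194 F203248) (tt N8941 (iv F91069)) (tt N6235 F64741) (tt N9260 (iv F92578)) (tt N6042 F64742) (tt N6040 (iv D14804)) (tt N9267 D21556) (tt N7551 F64743) (tt N6435 F64744) (tt N9268 D21557))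
theorem Q7553 : ∀ i, i < 7553 → P i := stepQ 7552 Q7552 (allL N7552 (tt N8876 F203249) (tt N8942 (iv F91074)) (tt N6236 F64745) (tt N9261 (iv F92580)) (tt N6041 F64746) (tt N9268 (iv F92605)) (tt N9266 (iv F92596)) (tt N7552 F64747) (tt N8910 F203250) (tt N6040 (iv D14805)))
theorem Q7554 : ∀ i, i < 7554 → P i := stepQ 7553 Q7553 (allL N7553 (tt N8196 F203254) (tt N8943 (iv F91083)) (tt N6237 F64752) (tt N8590 (iv F87550)) (tt N9267 (iv F92601)) (tt N9129 (iv F91926)) (tt N6042 (iv D14807)) (tt N9269 D21559) (tt N6436 F64753) (tt N9270 D21560))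
theorem Q7555 : ∀ i, i < 7555 → P i := stepQ 7554 Q7554 (allL N7554 (tt N8198 F203255) (tt N8944 (iv F91086)) (tt N6238 F64754) (tt N8591 (iv F87553)) (tt N9268 (iv F92604)) (tt N6043 F64755) (tt N9270 (iv F92615)) (tt N7554 F64756) (tt N8226 F203256) (tt N6042 (iv D14808)))
theorem Q7556 : ∀ i, i < 7556 → P i := stepQ 7555 Q7555 (allL N7555 (tt N9229 (iv F92478)) (tt N6052 F64761) (tt N9248 (iv F92550)) (tt N6104 F64762) (tt N9131 (iv F91936)) (tt N7555 F64763) (tt N6044 (iv D14810)) (tt N8593 (iv F87563)) (tt N9271 D21563) (tt N9188 (iv F92232)))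
theorem Q7557 : ∀ i, i < 7557 → P i := stepQ 7556 Q7556 (allL N7556 (tt N9230 (iv F92482)) (tt N6053 F64764) (tt N9249 (iv F92552)) (tt N9272 D21564) (tt N9132 (iv F91938)) (tt N6046 F64765) (tt N9271 (iv F92624)) (tt N6045 F64766) (tt N6044 (iv D14811)) (tt N9273 D21565))
theorem Q7558 : ∀ i, i < 7558 → P i := stepQ 7557 Q7557 (allL N7557 (tt N9231 (iv F92486)) (tt N6054 F64767) (tt N9274 D21566) (tt N6045 (iv D14812)) (tt N9275 D21567) (tt N6047 F64768) (tt N8595 (iv F87569)) (tt N9272 (iv F92627)) (tt N6106 F64769) (tt N9276 D21568))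
theorem Q7559 : ∀ i, i < 7559 → P i := stepQ 7558 Q7558 (allL N7558 (tt N9232 (iv F92490)) (tt N6055 F64770) (tt N9251 (iv F92556)) (tt N9276 (iv F92638)) (tt N9134 (iv F91945)) (tt N6048 F64771) (tt N8596 (iv F87573)) (tt N9273 (iv F92631)) (tt N9191 (iv F92241)) (tt N6045 (iv D14813)))
theorem Q7560 : ∀ i, i < 7560 → P i := stepQ 7559 Q7559 (allL N7559 (tt N9233 (iv F92493)) (tt N6056 F64772) (tt N9277 D21569) (tt N6046 (iv D14814)) (tt N6243 F64773) (tt N9272 (iv F92626)) (tt N7559 F64774) (tt N6047 F64775) (tt N6108 F64776) (tt N9278 D21570))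
theorem Q7561 : ∀ i, i < 7561 → P i := stepQ 7560 Q7560 (allL N7560 (tt N9234 (iv F92499)) (tt N6057 F64777) (tt N9253 (iv F92560)) (tt N9278 (iv F92645)) (tt N6051 F64778) (tt N9273 (iv F92630)) (tt N7560 F64779) (tt N6048 F64780) (tt N9193 (iv F92251)) (tt N6046 (iv D14815)))
theorem Q7562 : ∀ i, i < 7562 → P i := stepQ 7561 Q7561 (allL N7561 (tt N9235 (iv F92504)) (tt N9279 D21571) (tt N6047 (iv D14816)) (tt N9254 (iv F92564)) (tt N6245 F64781) (tt N9274 (iv F92632)) (tt N6049 F64782) (tt N9277 (iv F92642)) (tt N6110 F64783) (tt N9280 D21572))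
theorem Q7563 : ∀ i, i < 7563 → P i := stepQ 7562 Q7562 (allL N7562 (tt N9236 (iv F92508)) (tt N6059 F64784) (tt N9280 (iv F92653)) (tt N6048 F64785) (tt N6246 F64786) (tt N9276 (iv F92639)) (tt N6050 F64787) (tt N9278 (iv F92648)) (tt N9281 D21573) (tt N6047 (iv D14817)))
theorem Q7564 : ∀ i, i < 7564 → P i := stepQ 7563 Q7563 (allL N7563 (tt N9282 D21574) (tt N6049 (iv D14818)) (tt N6060 F64788) (tt N9257 (iv F92570)) (tt N6247 F64789) (tt N8601 (iv F87592)) (tt N9279 (iv F92651)) (tt N7563 F64790) (tt N6112 F64791) (tt N9283 D21575))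
theorem Q7565 : ∀ i, i < 7565 → P i := stepQ 7564 Q7564 (allL N7564 (tt N9238 (iv F92517)) (tt N9283 (iv F92664)) (tt N6050 F64792) (tt N9259 (iv F92576)) (tt N6248 F64793) (tt N8602 (iv F87597)) (tt N9280 (iv F92655)) (tt N7564 F64794) (tt N9284 D21576) (tt N6049 (iv D14819)))
theorem Q7566 : ∀ i, i < 7566 → P i := stepQ 7565 Q7565 (allL N7565 (tt N8666 (iv F204185)) (tt N6062 F64795) (tt N9284 (iv F92668)) (tt N8651 F203979) (tt N6249 F64796) (tt N8603 (iv F87601)) (tt N9281 (iv F92658)) (tt N7565 F64797) (tt N6050 (iv D14820)) (tt N6114 F64798))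
theorem Q7567 : ∀ i, i < 7567 → P i := stepQ 7566 Q7566 (allL N7566 (tt N7566 F64799) (tt N9271 (iv F92622)) (tt N8956 (iv F91134)) (tt N9285 D21577) (tt N9142 (iv F91970)) (tt N7566 F64800) (tt N6053 F64801) (tt N8604 (iv F87607)) (tt N6052 (iv D14821)) (tt N9286 D21578))
theorem Q7568 : ∀ i, i < 7568 → P i := stepQ 7567 Q7567 (allL N7567 (tt N7567 F64802) (tt N9272 (iv F92625)) (tt N9287 D21579) (tt N6053 (iv D14822)) (tt N9288 D21580) (tt N6056 F64803) (tt N9285 (iv F92674)) (tt N6054 F64804) (tt N6116 F64805) (tt N9289 D21581))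
theorem Q7569 : ∀ i, i < 7569 → P i := stepQ 7568 Q7568 (allL N7568 (tt N7568 F64806) (tt N9273 (iv F92629)) (tt N8958 (iv F91142)) (tt N9289 (iv F92688)) (tt N9144 (iv F91977)) (tt N6057 F64807) (tt N9286 (iv F92678)) (tt N6055 F64808) (tt N9200 (iv F92281)) (tt N6053 (iv D14823)))
theorem Q7570 : ∀ i, i < 7570 → P i := stepQ 7569 Q7569 (allL N7569 (tt N7569 F64809) (tt N9290 D21582) (tt N6054 (iv D14824)) (tt N8959 (iv F91146)) (tt N9291 D21583) (tt N6058 F64810) (tt N8607 (iv F87617)) (tt N9287 (iv F92681)) (tt N6118 F64811) (tt N9292 D21584))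
theorem Q7571 : ∀ i, i < 7571 → P i := stepQ 7570 Q7570 (allL N7570 (tt N7570 F64812) (tt N9275 (iv F92634)) (tt N9291 (iv F92694)) (tt N9146 (iv F91984)) (tt N6054 (iv D14825)) (tt N6254 F64813) (tt N8608 (iv F87621)) (tt N9288 (iv F92685)) (tt N6119 F64814) (tt N9293 D21585))
theorem Q7572 : ∀ i, i < 7572 → P i := stepQ 7571 Q7571 (allL N7571 (tt N7571 F64815) (tt N9276 (iv F92637)) (tt N9292 (iv F92698)) (tt N6055 F64816) (tt N9293 (iv F92701)) (tt N6059 F64817) (tt N8609 (iv F87626)) (tt N9289 (iv F92690)) (tt N9294 D21586) (tt N6054 (iv D14826)))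
theorem Q7573 : ∀ i, i < 7573 → P i := stepQ 7572 Q7572 (allL N7572 (tt N7572 F64818) (tt N9295 D21587) (tt N6056 (iv D14827)) (tt N8962 (iv F91156)) (tt N6256 F64819) (tt N9287 (iv F92680)) (tt N7572 F64820) (tt N6058 F64821) (tt N6121 F64822) (tt N9296 D21588))
theorem Q7574 : ∀ i, i < 7574 → P i := stepQ 7573 Q7573 (allL N7573 (tt N7573 F64823) (tt N9278 (iv F92644)) (tt N9296 (iv F92711)) (tt N6057 F64824) (tt N6257 F64825) (tt N9289 (iv F92689)) (tt N7573 F64826) (tt N6059 F64827) (tt N9297 D21589) (tt N6056 (iv D14828)))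
theorem Q7575 : ∀ i, i < 7575 → P i := stepQ 7574 Q7574 (allL N7574 (tt N9298 D21590) (tt N6058 (iv D14829)) (tt N9279 (iv F92649)) (tt N8964 (iv F91166)) (tt N6258 F64828) (tt N9290 (iv F92691)) (tt N6060 F64829) (tt N9295 (iv F92708)) (tt N6123 F64830) (tt N9299 D21591))
theorem Q7576 : ∀ i, i < 7576 → P i := stepQ 7575 Q7575 (allL N7575 (tt N7575 F64831) (tt N9299 (iv F92724)) (tt N6059 F64832) (tt N8965 (iv F91172)) (tt N6259 F64833) (tt N9292 (iv F92699)) (tt N6061 F64834) (tt N9296 (iv F92714)) (tt N9300 D21592) (tt N6058 (iv D14830)))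
theorem Q7577 : ∀ i, i < 7577 → P i := stepQ 7576 Q7576 (allL N7576 (tt N7576 F64835) (tt N9281 (iv F92656)) (tt N9300 (iv F92728)) (tt N9208 (iv F92309)) (tt N6260 F64836) (tt N9294 (iv F92704)) (tt N6062 F64837) (tt N9297 (iv F92718)) (tt N6059 (iv D14831)) (tt N6125 F64838))
theorem Q7578 : ∀ i, i < 7578 → P i := stepQ 7577 Q7577 (allL N7577 (tt N6060 (iv D14832)) (tt N7577 F64839) (tt N9282 (iv F92660)) (tt N8967 (iv F91180)) (tt N6261 F64840) (tt N8615 (iv F87650)) (tt N9298 (iv F92722)) (tt N7577 F64841) (tt N6126 F64842) (tt N9301 D21593))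
theorem Q7579 : ∀ i, i < 7579 → P i := stepQ 7578 Q7578 (allL N7578 (tt N9301 (iv F92732)) (tt N6061 F64843) (tt N9283 (iv F92665)) (tt N8968 (iv F91185)) (tt N6262 F64844) (tt N8616 (iv F87655)) (tt N9299 (iv F92726)) (tt N7578 F64845) (tt N9302 D21594) (tt N6060 (iv D14833)))
theorem Q7580 : ∀ i, i < 7580 → P i := stepQ 7579 Q7579 (allL N7579 (tt N7579 F64846) (tt N9302 (iv F92736)) (tt N6062 F64847) (tt N9303 D21595) (tt N6263 F64848) (tt N8617 (iv F87660)) (tt N9300 (iv F92730)) (tt N7579 F64849) (tt N6061 (iv D14834)) (tt N6128 F64850))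
theorem Q7581 : ∀ i, i < 7581 → P i := stepQ 7580 Q7580 (allL N7580 (tt N6069 F64968) (tt N7580 F64969) (tt N8629 (iv F204123)) (tt N9165 (iv F92121)) (tt N7580 F64970) (tt N6064 F64971) (tt N9304 D21635) (tt N6063 (iv D14859)) (tt N8627 (iv F204128)) (tt N6089 F64972))
theorem Q7582 : ∀ i, i < 7582 → P i := stepQ 7581 Q7581 (allL N7581 (tt N8630 (iv F203587)) (tt N7581 F65006) (tt N9170 (iv F92157)) (tt N6067 F65007) (tt N9305 D21646) (tt N6065 (iv D14867)) (tt N8623 (iv F88252)) (tt N9306 D21647) (tt N9307 D21648) (tt N6094 F65008))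
theorem Q7583 : ∀ i, i < 7583 → P i := stepQ 7582 Q7582 (allL N7582 (tt N8631 (iv F203576)) (tt N7582 F65009) (tt N9171 (iv F92160)) (tt N6068 F65010) (tt N6446 F65011) (tt N9306 (iv F92982)) (tt N7582 F65012) (tt N6065 (iv D14868)) (tt N9308 D21649) (tt N6095 F65013))
theorem Q7584 : ∀ i, i < 7584 → P i := stepQ 7583 Q7583 (allL N7583 (tt N8527 (iv F203588)) (tt N7583 F65014) (tt N9172 (iv F92165)) (tt N8505 (iv F203799)) (tt N6447 F65015) (tt N9307 (iv F92985)) (tt N6066 F65016) (tt N9308 (iv F92989)) (tt N6065 (iv D14869)) (tt N9309 D21651))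
theorem Q7585 : ∀ i, i < 7585 → P i := stepQ 7584 Q7584 (allL N7584 (tt N8530 (iv F203817)) (tt N7584 F65020) (tt N9174 (iv F92170)) (tt N8506 (iv F203802)) (tt N6449 F65021) (tt N8626 (iv F88268)) (tt N9309 (iv F92995)) (tt N7584 F65022) (tt N6098 F65023) (tt N6066 (iv D14871)))
theorem Q7586 : ∀ i, i < 7586 → P i := stepQ 7585 Q7585 (allL N7585 (tt N8629 (iv F204122)) (tt N7585 F65024) (tt N6069 F65025) (tt N9306 (iv F92981)) (tt N7585 F65026) (tt N6068 F65027) (tt N9310 D21655) (tt N6067 (iv D14872)) (tt N8622 (iv F204154)) (tt N6099 F65028))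
theorem Q7587 : ∀ i, i < 7587 → P i := stepQ 7586 Q7586 (allL N7586 (tt N9304 (iv F92927)) (tt N6074 F65094) (tt N9310 (iv F93007)) (tt N9188 (iv F92230)) (tt N7586 F65095) (tt N7586 F65096) (tt N6069 (iv D14888)) (tt N8628 (iv F88350)) (tt N9311 D21678) (tt N6104 F65097))
theorem Q7588 : ∀ i, i < 7588 → P i := stepQ 7587 Q7587 (allL N7587 (tt N8627 (iv F204127)) (tt N6075 F65098) (tt N8622 (iv F204153)) (tt N9312 D21679) (tt N7587 F65099) (tt N6071 F65100) (tt N9311 (iv F93103)) (tt N6070 F65101) (tt N6069 (iv D14889)) (tt N8652 (iv F204265)))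
theorem Q7589 : ∀ i, i < 7589 → P i := stepQ 7588 Q7588 (allL N7588 (tt N8623 F203951) (tt N6076 F65102) (tt N9313 D21681) (tt N6070 (iv D14890)) (tt N9314 D21682) (tt N6072 F65103) (tt N8630 (iv F88358)) (tt N9312 (iv F93106)) (tt N9190 (iv F92238)) (tt N8648 (iv F204106)))
theorem Q7590 : ∀ i, i < 7590 → P i := stepQ 7589 Q7589 (allL N7589 (tt N8624 F204041) (tt N6078 F65108) (tt N9315 D21684) (tt N6071 (iv D14892)) (tt N7589 F65109) (tt N9312 (iv F93105)) (tt N7589 F65110) (tt N6072 F65111) (tt N9192 (iv F92246)) (tt N8649 (iv F204194)))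
theorem Q7591 : ∀ i, i < 7591 → P i := stepQ 7590 Q7590 (allL N7590 (tt N8509 F203365) (tt N9316 D21686) (tt N6072 (iv D14894)) (tt N8496 F203366) (tt N7590 F65117) (tt N9313 (iv F93112)) (tt N6073 F65118) (tt N9315 (iv F93121)) (tt N9194 (iv F92254)) (tt N8549 (iv F203642)))
theorem Q7592 : ∀ i, i < 7592 → P i := stepQ 7591 Q7591 (allL N7591 (tt N9317 D21689) (tt N6073 (iv D14896)) (tt N6082 F65123) (tt N8492 F202570) (tt N7591 F65124) (tt N8633 (iv F88377)) (tt N9316 (iv F93129)) (tt N7591 F65125) (tt N9196 (iv F92262)) (tt N8543 (iv F202946)))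
theorem Q7593 : ∀ i, i < 7593 → P i := stepQ 7592 Q7592 (allL N7592 (tt N7592 F65133) (tt N9311 (iv F93100)) (tt N7592 F65134) (tt N9318 D21692) (tt N7592 F65135) (tt N7592 F65136) (tt N6075 F65137) (tt N8634 (iv F88391)) (tt N6074 (iv D14899)) (tt N9319 D21693))
theorem Q7594 : ∀ i, i < 7594 → P i := stepQ 7593 Q7593 (allL N7593 (tt N7593 F65138) (tt N9312 (iv F93104)) (tt N9320 D21694) (tt N6075 (iv D14900)) (tt N9321 D21695) (tt N6078 F65139) (tt N9318 (iv F93149)) (tt N6076 F65140) (tt N9199 (iv F92277)) (tt N9322 D21696))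
theorem Q7595 : ∀ i, i < 7595 → P i := stepQ 7594 Q7594 (allL N7594 (tt N7594 F65141) (tt N8652 (iv F204264)) (tt N7594 F65142) (tt N9322 (iv F93165)) (tt N7594 F65143) (tt N6079 F65144) (tt N9319 (iv F93154)) (tt N6077 F65145) (tt N6117 F65146) (tt N6075 (iv D14901)))
theorem Q7596 : ∀ i, i < 7596 → P i := stepQ 7595 Q7595 (allL N7595 (tt N7595 F65147) (tt N9323 D21697) (tt N6076 (iv D14902)) (tt N7595 F65148) (tt N9324 D21698) (tt N6080 F65149) (tt N8637 (iv F88404)) (tt N9320 (iv F93159)) (tt N9201 (iv F92284)) (tt N9325 D21699))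
theorem Q7597 : ∀ i, i < 7597 → P i := stepQ 7596 Q7596 (allL N7596 (tt N7596 F65150) (tt N9314 (iv F93113)) (tt N9324 (iv F93171)) (tt N7596 F65151) (tt N6076 (iv D14903)) (tt N7596 F65152) (tt N8638 (iv F88407)) (tt N9321 (iv F93163)) (tt N9202 (iv F92287)) (tt N9326 D21700))
theorem Q7598 : ∀ i, i < 7598 → P i := stepQ 7597 Q7597 (allL N7597 (tt N7597 F65153) (tt N8648 (iv F204105)) (tt N9325 (iv F93174)) (tt N6077 F65154) (tt N9326 (iv F93179)) (tt N6081 F65155) (tt N8639 (iv F88411)) (tt N9322 (iv F93167)) (tt N9327 D21701) (tt N6076 (iv D14904)))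
theorem Q7599 : ∀ i, i < 7599 → P i := stepQ 7598 Q7598 (allL N7598 (tt N7598 F65156) (tt N9328 D21702) (tt N6078 (iv D14905)) (tt N7598 F65157) (tt N7598 F65158) (tt N9320 (iv F93158)) (tt N7598 F65159) (tt N6080 F65160) (tt N9204 (iv F92295)) (tt N9329 D21703))
theorem Q7600 : ∀ i, i < 7600 → P i := stepQ 7599 Q7599 (allL N7599 (tt N7599 F65161) (tt N8649 (iv F204193)) (tt N9329 (iv F93189)) (tt N6079 F65162) (tt N7599 F65163) (tt N9322 (iv F93166)) (tt N7599 F65164) (tt N6081 F65165) (tt N9330 D21704) (tt N6078 (iv D14906)))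
theorem Q7601 : ∀ i, i < 7601 → P i := stepQ 7600 Q7600 (allL N7600 (tt N9331 D21705) (tt N6080 (iv D14907)) (tt N9316 (iv F93127)) (tt N7600 F65166) (tt N7600 F65167) (tt N9323 (iv F93169)) (tt N6082 F65168) (tt N9328 (iv F93187)) (tt N9206 (iv F92303)) (tt N9332 D21706))
theorem Q7602 : ∀ i, i < 7602 → P i := stepQ 7601 Q7601 (allL N7601 (tt N7601 F65169) (tt N9332 (iv F93203)) (tt N6081 F65170) (tt N7601 F65171) (tt N7601 F65172) (tt N9325 (iv F93176)) (tt N6083 F65173) (tt N9329 (iv F93193)) (tt N9333 D21707) (tt N6080 (iv D14908)))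
theorem Q7603 : ∀ i, i < 7603 → P i := stepQ 7602 Q7602 (allL N7602 (tt N7602 F65174) (tt N8650 (iv F204195)) (tt N9333 (iv F93208)) (tt N6125 F65175) (tt N7602 F65176) (tt N9327 (iv F93183)) (tt N6084 F65177) (tt N9330 (iv F93198)) (tt N6081 (iv D14909)) (tt N9208 (iv F92312)))
theorem Q7604 : ∀ i, i < 7604 → P i := stepQ 7603 Q7603 (allL N7603 (tt N6082 (iv D14910)) (tt N7603 F65178) (tt N9317 (iv F93137)) (tt N7603 F65179) (tt N7603 F65180) (tt N8645 (iv F88431)) (tt N9331 (iv F93202)) (tt N7603 F65181) (tt N9209 (iv F92316)) (tt N9334 D21708))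
theorem Q7605 : ∀ i, i < 7605 → P i := stepQ 7604 Q7604 (allL N7604 (tt N9334 (iv F93211)) (tt N6083 F65182) (tt N8543 F203393) (tt N7604 F65183) (tt N7604 F65184) (tt N8646 (iv F88435)) (tt N9332 (iv F93206)) (tt N7604 F65185) (tt N9335 D21709) (tt N6082 (iv D14911)))
theorem Q7606 : ∀ i, i < 7606 → P i := stepQ 7605 Q7605 (allL N7605 (tt N7605 F65186) (tt N9335 (iv F93216)) (tt N6084 F65187) (tt N9336 D21710) (tt N7605 F65188) (tt N8647 (iv F88439)) (tt N9333 (iv F93210)) (tt N7605 F65189) (tt N6083 (iv D14912)) (tt N9211 (iv F92324)))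
theorem Q7607 : ∀ i, i < 7607 → P i := stepQ 7606 Q7606 (allL N7606 (tt N6094 F65238) (tt N8639 (iv F204101)) (tt N9216 (iv F92391)) (tt N6087 F65239) (tt N9337 D21726) (tt N6085 (iv D14923)) (tt N8648 (iv F88527)) (tt N9338 D21727) (tt N9339 D21728) (tt N8630 F203894))
theorem Q7608 : ∀ i, i < 7608 → P i := stepQ 7607 Q7607 (allL N7607 (tt N6095 F65240) (tt N8641 (iv F203570)) (tt N9217 (iv F92394)) (tt N6088 F65241) (tt N6466 F65242) (tt N9338 (iv F93298)) (tt N7607 F65243) (tt N6085 (iv D14924)) (tt N9340 D21729) (tt N8631 (iv F203578)))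
theorem Q7609 : ∀ i, i < 7609 → P i := stepQ 7608 Q7608 (allL N7608 (tt N6096 F65244) (tt N8644 (iv F204102)) (tt N9218 (iv F92399)) (tt N8683 (iv F204108)) (tt N6467 F65245) (tt N9339 (iv F93300)) (tt N6086 F65246) (tt N9340 (iv F93304)) (tt N6085 (iv D14925)) (tt N9341 D21731))
theorem Q7610 : ∀ i, i < 7610 → P i := stepQ 7609 Q7609 (allL N7609 (tt N6098 F65251) (tt N8542 F203989) (tt N9220 (iv F92406)) (tt N8603 (iv F204188)) (tt N6468 F65252) (tt N8651 (iv F88541)) (tt N9341 (iv F93311)) (tt N7609 F65253) (tt N8530 F203990) (tt N6086 (iv D14927)))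
theorem Q7611 : ∀ i, i < 7611 → P i := stepQ 7610 Q7610 (allL N7610 (tt N6099 F65254) (tt N8636 (iv F204118)) (tt N6089 F65255) (tt N9338 (iv F93297)) (tt N7610 F65256) (tt N6088 F65257) (tt N9342 D21734) (tt N6087 (iv D14928)) (tt N8675 (iv F204121)) (tt N8629 (iv F204124)))
theorem Q7612 : ∀ i, i < 7612 → P i := stepQ 7611 Q7611 (allL N7611 (tt N6104 F65288) (tt N7611 F65289) (tt N9342 (iv F93321)) (tt N9229 (iv F92480)) (tt N7611 F65290) (tt N7611 F65291) (tt N6089 (iv D14936)) (tt N8653 (iv F88609)) (tt N9343 D21745) (tt N9304 (iv F92931)))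
theorem Q7613 : ∀ i, i < 7613 → P i := stepQ 7612 Q7612 (allL N7612 (tt N6105 F65292) (tt N7612 F65293) (tt N8675 (iv F204120)) (tt N9344 D21746) (tt N7612 F65294) (tt N6091 F65295) (tt N9343 (iv F93367)) (tt N6090 F65296) (tt N6089 (iv D14937)) (tt N8668 (iv F204126)))
theorem Q7614 : ∀ i, i < 7614 → P i := stepQ 7613 Q7613 (allL N7613 (tt N6106 F65297) (tt N7613 F65298) (tt N9345 D21748) (tt N6090 (iv D14938)) (tt N9346 D21749) (tt N6092 F65299) (tt N8655 (iv F88618)) (tt N9344 (iv F93371)) (tt N9231 (iv F92489)) (tt N8669 (iv F204393)))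
theorem Q7615 : ∀ i, i < 7615 → P i := stepQ 7614 Q7614 (allL N7614 (tt N6108 F65304) (tt N7614 F65305) (tt N9347 D21751) (tt N6091 (iv D14940)) (tt N6268 F65306) (tt N9344 (iv F93370)) (tt N7614 F65307) (tt N6092 F65308) (tt N9233 (iv F92498)) (tt N8670 (iv F204129)))
theorem Q7616 : ∀ i, i < 7616 → P i := stepQ 7615 Q7615 (allL N7615 (tt N6110 F65314) (tt N9348 D21753) (tt N6092 (iv D14942)) (tt N8682 (iv F204387)) (tt N6270 F65315) (tt N9345 (iv F93378)) (tt N6093 F65316) (tt N9347 (iv F93390)) (tt N9235 (iv F92507)) (tt N8671 (iv F204389)))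
theorem Q7617 : ∀ i, i < 7617 → P i := stepQ 7616 Q7616 (allL N7616 (tt N9349 D21756) (tt N6093 (iv D14944)) (tt N7616 F65322) (tt N8685 (iv F204462)) (tt N6272 F65323) (tt N8658 (iv F88644)) (tt N9348 (iv F93399)) (tt N7616 F65324) (tt N9237 (iv F92516)) (tt N8672 (iv F204463)))
theorem Q7618 : ∀ i, i < 7618 → P i := stepQ 7617 Q7617 (allL N7617 (tt N9337 (iv F93293)) (tt N7617 F65333) (tt N9239 (iv F92526)) (tt N7617 F65334) (tt N6094 (iv D14947)) (tt N6470 F65335) (tt N8659 (iv F88659)) (tt N9350 D21759) (tt N9351 D21760) (tt N9305 (iv F92979)))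
theorem Q7619 : ∀ i, i < 7619 → P i := stepQ 7618 Q7618 (allL N7618 (tt N9338 (iv F93296)) (tt N7618 F65336) (tt N9240 (iv F92528)) (tt N6099 F65337) (tt N9350 (iv F93422)) (tt N6095 F65338) (tt N9352 D21761) (tt N6094 (iv D14948)) (tt N9353 D21762) (tt N9306 (iv F92983)))
theorem Q7620 : ∀ i, i < 7620 → P i := stepQ 7619 Q7619 (allL N7619 (tt N9339 (iv F93299)) (tt N7619 F65339) (tt N9241 (iv F92531)) (tt N9354 D21763) (tt N9351 (iv F93425)) (tt N6096 F65340) (tt N8661 (iv F88665)) (tt N9353 (iv F93432)) (tt N6094 (iv D14949)) (tt N9355 D21764))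
theorem Q7621 : ∀ i, i < 7621 → P i := stepQ 7620 Q7620 (allL N7620 (tt N9340 (iv F93301)) (tt N7620 F65341) (tt N9242 (iv F92533)) (tt N9356 D21765) (tt N6473 F65342) (tt N9353 (iv F93431)) (tt N7620 F65343) (tt N6096 F65344) (tt N6095 (iv D14950)) (tt N9357 D21766))
theorem Q7622 : ∀ i, i < 7622 → P i := stepQ 7621 Q7621 (allL N7621 (tt N8683 (iv F204107)) (tt N7621 F65345) (tt N9358 D21767) (tt N6096 (iv D14951)) (tt N7621 F65346) (tt N9354 (iv F93434)) (tt N6097 F65347) (tt N9356 (iv F93441)) (tt N6102 F65348) (tt N9359 D21768))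
theorem Q7623 : ∀ i, i < 7623 → P i := stepQ 7622 Q7622 (allL N7622 (tt N9341 (iv F93309)) (tt N7622 F65349) (tt N9244 (iv F92539)) (tt N9359 (iv F93451)) (tt N6474 F65350) (tt N9355 (iv F93437)) (tt N6098 F65351) (tt N9357 (iv F93446)) (tt N9309 (iv F92996)) (tt N6096 (iv D14952)))
theorem Q7624 : ∀ i, i < 7624 → P i := stepQ 7623 Q7623 (allL N7623 (tt N8686 (iv F204206)) (tt N9360 D21769) (tt N6097 (iv D14953)) (tt N9245 (iv F92542)) (tt N7623 F65352) (tt N8665 (iv F88676)) (tt N9358 (iv F93448)) (tt N7623 F65353) (tt N6103 F65354) (tt N9361 D21770))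
theorem Q7625 : ∀ i, i < 7625 → P i := stepQ 7624 Q7624 (allL N7624 (tt N8603 (iv F204187)) (tt N7624 F65355) (tt N9361 (iv F93458)) (tt N6098 F65356) (tt N7624 F65357) (tt N8666 (iv F88686)) (tt N9359 (iv F93453)) (tt N7624 F65358) (tt N8568 (iv F204180)) (tt N6097 (iv D14954)))
theorem Q7626 : ∀ i, i < 7626 → P i := stepQ 7625 Q7625 (allL N7625 (tt N9342 (iv F93320)) (tt N7625 F65359) (tt N6104 F65360) (tt N9352 (iv F93428)) (tt N7625 F65361) (tt N7625 F65362) (tt N6099 (iv D14955)) (tt N8667 (iv F88692)) (tt N9362 D21772) (tt N9310 (iv F93010)))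
theorem Q7627 : ∀ i, i < 7627 → P i := stepQ 7626 Q7626 (allL N7626 (tt N8675 (iv F204119)) (tt N7626 F65363) (tt N6105 F65364) (tt N9363 D21773) (tt N7626 F65365) (tt N6101 F65366) (tt N9362 (iv F93469)) (tt N6100 F65367) (tt N6099 (iv D14956)) (tt N8654 (iv F204286)))
theorem Q7628 : ∀ i, i < 7628 → P i := stepQ 7627 Q7627 (allL N7627 (tt N8678 (iv F204403)) (tt N7627 F65368) (tt N9364 D21775) (tt N6100 (iv D14957)) (tt N9365 D21776) (tt N6102 F65369) (tt N8669 (iv F88700)) (tt N9363 (iv F93472)) (tt N9354 (iv F93435)) (tt N8655 (iv F204390)))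
theorem Q7629 : ∀ i, i < 7629 → P i := stepQ 7628 Q7628 (allL N7628 (tt N8680 (iv F204125)) (tt N7628 F65374) (tt N9366 D21778) (tt N6101 (iv D14959)) (tt N7628 F65375) (tt N9363 (iv F93471)) (tt N7628 F65376) (tt N6102 F65377) (tt N9356 (iv F93442)) (tt N8656 (iv F204287)))
theorem Q7630 : ∀ i, i < 7630 → P i := stepQ 7629 Q7629 (allL N7629 (tt N8682 (iv F204386)) (tt N9367 D21780) (tt N6102 (iv D14961)) (tt N6110 F65383) (tt N7629 F65384) (tt N9364 (iv F93479)) (tt N6103 F65385) (tt N9366 (iv F93489)) (tt N9358 (iv F93449)) (tt N8657 (iv F204456)))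
theorem Q7631 : ∀ i, i < 7631 → P i := stepQ 7630 Q7630 (allL N7630 (tt N9368 D21783) (tt N6103 (iv D14963)) (tt N7630 F65390) (tt N6112 F65391) (tt N7630 F65392) (tt N8672 (iv F88724)) (tt N9367 (iv F93498)) (tt N7630 F65393) (tt N9360 (iv F93457)) (tt N8658 (iv F204458)))
theorem Q7632 : ∀ i, i < 7632 → P i := stepQ 7631 Q7631 (allL N7631 (tt N9343 (iv F93363)) (tt N6115 F65401) (tt N9362 (iv F93466)) (tt N9369 D21786) (tt N7631 F65402) (tt N7631 F65403) (tt N6105 F65404) (tt N8673 (iv F88777)) (tt N6104 (iv D14966)) (tt N9370 D21787))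
theorem Q7633 : ∀ i, i < 7633 → P i := stepQ 7632 Q7632 (allL N7632 (tt N9344 (iv F93368)) (tt N6116 F65405) (tt N9371 D21788) (tt N6105 (iv D14967)) (tt N9372 D21789) (tt N6108 F65406) (tt N9369 (iv F93520)) (tt N6106 F65407) (tt N9272 (iv F92628)) (tt N9373 D21790))
theorem Q7634 : ∀ i, i < 7634 → P i := stepQ 7633 Q7633 (allL N7633 (tt N8668 F204322) (tt N6117 F65408) (tt N8654 F204323) (tt N9373 (iv F93532)) (tt N7633 F65409) (tt N6109 F65410) (tt N9370 (iv F93524)) (tt N6107 F65411) (tt N8652 F204324) (tt N6105 (iv D14968)))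
theorem Q7635 : ∀ i, i < 7635 → P i := stepQ 7634 Q7634 (allL N7634 (tt N9345 (iv F93377)) (tt N9374 D21791) (tt N6106 (iv D14969)) (tt N9364 (iv F93478)) (tt N9375 D21792) (tt N6110 F65412) (tt N8676 (iv F88786)) (tt N9371 (iv F93526)) (tt N9274 (iv F92633)) (tt N9376 D21793))
theorem Q7636 : ∀ i, i < 7636 → P i := stepQ 7635 Q7635 (allL N7635 (tt N9346 (iv F93379)) (tt N6119 F65413) (tt N9375 (iv F93537)) (tt N7635 F65414) (tt N6106 (iv D14970)) (tt N6277 F65415) (tt N8677 (iv F88790)) (tt N9372 (iv F93530)) (tt N9275 (iv F92636)) (tt N9377 D21794))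
theorem Q7637 : ∀ i, i < 7637 → P i := stepQ 7636 Q7636 (allL N7636 (tt N8669 (iv F204392)) (tt N6120 F65416) (tt N9376 (iv F93539)) (tt N6107 F65417) (tt N9377 (iv F93543)) (tt N6111 F65418) (tt N8678 (iv F88794)) (tt N9373 (iv F93534)) (tt N9378 D21795) (tt N6106 (iv D14971)))
theorem Q7638 : ∀ i, i < 7638 → P i := stepQ 7637 Q7637 (allL N7637 (tt N9347 (iv F93387)) (tt N9379 D21796) (tt N6108 (iv D14972)) (tt N9366 (iv F93486)) (tt N6279 F65419) (tt N9371 (iv F93525)) (tt N7637 F65420) (tt N6110 F65421) (tt N9277 (iv F92643)) (tt N9380 D21797))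
theorem Q7639 : ∀ i, i < 7639 → P i := stepQ 7638 Q7638 (allL N7638 (tt N8670 F204321) (tt N6122 F65422) (tt N9380 (iv F93551)) (tt N6109 F65423) (tt N6280 F65424) (tt N9373 (iv F93533)) (tt N7638 F65425) (tt N6111 F65426) (tt N9381 D21798) (tt N6108 (iv D14973)))
theorem Q7640 : ∀ i, i < 7640 → P i := stepQ 7639 Q7639 (allL N7639 (tt N9382 D21799) (tt N6110 (iv D14974)) (tt N6123 F65427) (tt N9367 (iv F93496)) (tt N6281 F65428) (tt N9374 (iv F93536)) (tt N6112 F65429) (tt N9379 (iv F93550)) (tt N9279 (iv F92652)) (tt N9383 D21800))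
theorem Q7641 : ∀ i, i < 7641 → P i := stepQ 7640 Q7640 (allL N7640 (tt N8671 (iv F204388)) (tt N9383 (iv F93562)) (tt N6111 F65430) (tt N8657 (iv F204455)) (tt N6282 F65431) (tt N9376 (iv F93540)) (tt N6113 F65432) (tt N9380 (iv F93554)) (tt N9384 D21801) (tt N6110 (iv D14975)))
theorem Q7642 : ∀ i, i < 7642 → P i := stepQ 7641 Q7641 (allL N7641 (tt N8663 F204365) (tt N6125 F65433) (tt N9384 (iv F93566)) (tt N8650 F204366) (tt N6283 F65434) (tt N9378 (iv F93546)) (tt N6114 F65435) (tt N9381 (iv F93558)) (tt N6111 (iv D14976)) (tt N9281 (iv F92659)))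
theorem Q7643 : ∀ i, i < 7643 → P i := stepQ 7642 Q7642 (allL N7642 (tt N6112 (iv D14977)) (tt N9349 (iv F93408)) (tt N6126 F65436) (tt N9368 (iv F93507)) (tt N6284 F65437) (tt N8684 (iv F88814)) (tt N9382 (iv F93561)) (tt N7642 F65438) (tt N9282 (iv F92663)) (tt N9385 D21802))
theorem Q7644 : ∀ i, i < 7644 → P i := stepQ 7643 Q7643 (allL N7643 (tt N9385 (iv F93569)) (tt N6113 F65439) (tt N6127 F65440) (tt N8658 (iv F204457)) (tt N6285 F65441) (tt N8685 (iv F88819)) (tt N9383 (iv F93565)) (tt N7643 F65442) (tt N9386 D21803) (tt N6112 (iv D14978)))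
theorem Q7645 : ∀ i, i < 7645 → P i := stepQ 7644 Q7644 (allL N7644 (tt N8665 F204367) (tt N9386 (iv F93573)) (tt N6114 F65443) (tt N9387 D21804) (tt N6286 F65444) (tt N8686 (iv F88823)) (tt N9384 (iv F93568)) (tt N7644 F65445) (tt N6113 (iv D14979)) (tt N9284 (iv F92671)))
theorem Q7646 : ∀ i, i < 7646 → P i := stepQ 7645 Q7645 (allL N7645 (tt N7645 F65446) (tt N9369 (iv F93518)) (tt N8695 F204561) (tt N6115 (iv D14980)) (tt N8694 (iv F204572)) (tt N7645 F65447) (tt N6116 F65448) (tt N8687 (iv F88828)) (tt N9285 (iv F92675)) (tt N8693 (iv F204574)))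
theorem Q7647 : ∀ i, i < 7647 → P i := stepQ 7646 Q7646 (allL N7646 (tt N7646 F65449) (tt N9370 (iv F93521)) (tt N7646 F65450) (tt N8693 F204605) (tt N7646 F65451) (tt N7646 F65452) (tt N6117 F65453) (tt N8688 (iv F88834)) (tt N9319 (iv F93155)) (tt N6115 (iv D14981)))
theorem Q7648 : ∀ i, i < 7648 → P i := stepQ 7647 Q7647 (allL N7647 (tt N7647 F65454) (tt N9377 F204562) (tt N6116 (iv D14982)) (tt N7647 F65455) (tt N6120 (iv F204575)) (tt N6121 F65456) (tt N8695 F204563) (tt N6118 F65457) (tt N9287 (iv F92682)) (tt N6119 (iv F204578)))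
theorem Q7649 : ∀ i, i < 7649 → P i := stepQ 7648 Q7648 (allL N7648 (tt N7648 F65458) (tt N9372 (iv F93527)) (tt N6120 F204606) (tt N7648 F65459) (tt N6116 (iv D14983)) (tt N6124 (iv F204661)) (tt N8694 F204607) (tt N6119 F65461) (tt N9288 (iv F92686)) (tt N6118 F204608))
theorem Q7650 : ∀ i, i < 7650 → P i := stepQ 7649 Q7649 (allL N7649 (tt N7649 F65462) (tt N9373 (iv F93531)) (tt N6119 F204613) (tt N6117 F65463) (tt N6118 F204614) (tt N6122 F65464) (tt N8693 F204615) (tt N6120 F65465) (tt N9291 (iv F204673)) (tt N6116 (iv D14984)))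
theorem Q7651 : ∀ i, i < 7651 → P i := stepQ 7650 Q7650 (allL N7650 (tt N9388 D21813) (tt N6118 (iv D14985)) (tt N9374 (iv F93535)) (tt N7650 F65466) (tt N9373 (iv F204594)) (tt N6123 F65467) (tt N8692 (iv F88849)) (tt N9377 F204569) (tt N9290 (iv F92692)) (tt N9372 (iv F204598)))
theorem Q7652 : ∀ i, i < 7652 → P i := stepQ 7651 Q7651 (allL N7651 (tt N7651 F65479) (tt N9378 (iv F93545)) (tt N9288 (iv F204663)) (tt N9327 (iv F93182)) (tt N9287 F204619) (tt N6125 F65480) (tt N8696 (iv F88866)) (tt N9291 (iv F204672)) (tt N6120 (iv D14989)) (tt N9294 (iv F92705)))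
theorem Q7653 : ∀ i, i < 7653 → P i := stepQ 7652 Q7652 (allL N7652 (tt N9389 D21820) (tt N6121 (iv D14990)) (tt N9379 (iv F93547)) (tt N7652 F65481) (tt N6278 (iv F204596)) (tt N9377 F204568) (tt N7652 F65483) (tt N6123 F65484) (tt N9295 (iv F92709)) (tt N6277 (iv F204597)))
theorem Q7654 : ∀ i, i < 7654 → P i := stepQ 7653 Q7653 (allL N7653 (tt N7653 F65491) (tt N9381 (iv F93555)) (tt N6254 F204737) (tt N9330 (iv F93195)) (tt N6253 (iv F204814)) (tt N9291 F204738) (tt N7653 F65493) (tt N6125 F65494) (tt N6122 (iv D14992)) (tt N9297 (iv F92719)))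
theorem Q7655 : ∀ i, i < 7655 → P i := stepQ 7654 Q7654 (allL N7654 (tt N6123 (iv D14993)) (tt N7654 F65495) (tt N9382 (iv F93559)) (tt N7654 F65496) (tt N6287 F65497) (tt N9388 (iv F93611)) (tt N6126 F65498) (tt N9389 (iv F93635)) (tt N9298 (iv F92723)) (tt N9390 D21823))
theorem Q7656 : ∀ i, i < 7656 → P i := stepQ 7655 Q7655 (allL N7655 (tt N9390 (iv F93646)) (tt N6124 F65499) (tt N9383 (iv F93563)) (tt N7655 F65500) (tt N6275 (iv F204716)) (tt N9372 F204641) (tt N6127 F65502) (tt N6277 F204642) (tt N9391 D21824) (tt N6123 (iv D14994)))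
theorem Q7657 : ∀ i, i < 7657 → P i := stepQ 7656 Q7656 (allL N7656 (tt N7656 F65503) (tt N9391 (iv F93651)) (tt N6125 F65504) (tt N9392 D21825) (tt N6251 (iv F204804)) (tt N9288 F204727) (tt N6128 F65506) (tt N6254 F204728) (tt N6124 (iv D14995)) (tt N9300 (iv F92731)))
theorem Q7658 : ∀ i, i < 7658 → P i := stepQ 7657 Q7657 (allL N7657 (tt N6127 F65507) (tt N7657 F65508) (tt N9385 (iv F93570)) (tt N7657 F65509) (tt N6288 F65510) (tt N8703 (iv F88897)) (tt N9390 (iv F93650)) (tt N7657 F65511) (tt N9393 D21826) (tt N6126 (iv D14996)))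
theorem Q7659 : ∀ i, i < 7659 → P i := stepQ 7658 Q7658 (allL N7658 (tt N9393 (iv F93657)) (tt N6128 F65512) (tt N9386 (iv F93574)) (tt N9394 D21827) (tt N6289 F65513) (tt N8704 (iv F88901)) (tt N9391 (iv F93653)) (tt N7658 F65514) (tt N6127 (iv D14997)) (tt N9302 (iv F92739)))
theorem Q7660 : ∀ i, i < 7660 → P i := stepQ 7659 Q7659 (allL N7659 (tt N7659 F65515) (tt N9394 (iv F93661)) (tt N9336 (iv F93220)) (tt N6128 (iv D14998)) (tt N9395 D21828) (tt N8705 (iv F88904)) (tt N9392 (iv F93655)) (tt N7659 F65516) (tt N7659 F65517) (tt N9303 (iv F92742)))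
theorem Q7661 : ∀ i, i < 7661 → P i := stepQ 7660 Q7660 (allL N7660 (tt N6140 F65557) (tt N8013 (iv F205251)) (tt N6134 F65558) (tt N8130 (iv F205273)) (tt N6131 F65559) (tt N7660 F65560) (tt N8010 F205191) (tt N6164 F65561) (tt N6129 (iv D15006)) (tt N9396 D21845))
theorem Q7662 : ∀ i, i < 7662 → P i := stepQ 7661 Q7661 (allL N7661 (tt N6142 F65568) (tt N8012 (iv F205301)) (tt N6136 F65569) (tt N8755 F201697) (tt N8010 F205207) (tt N7661 F65570) (tt N6131 F65571) (tt N8021 F205208) (tt N6130 (iv D15008)) (tt N9397 D21848))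
theorem Q7663 : ∀ i, i < 7663 → P i := stepQ 7662 Q7662 (allL N7662 (tt N6144 F65576) (tt N8747 F202321) (tt N6137 F65577) (tt N8756 F202322) (tt N9396 (iv F93753)) (tt N6132 F65578) (tt N9397 (iv F93769)) (tt N6167 F65579) (tt N7662 F65580) (tt N6131 (iv D15010)))
theorem Q7664 : ∀ i, i < 7664 → P i := stepQ 7663 Q7663 (allL N7663 (tt N6149 F65602) (tt N7663 F65603) (tt N8010 (iv F205123)) (tt N9398 D21857) (tt N6136 F65604) (tt N8009 (iv F205134)) (tt N6134 F65605) (tt N8018 F205059) (tt N6133 (iv D15015)) (tt N9399 D21858))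
theorem Q7665 : ∀ i, i < 7665 → P i := stepQ 7664 Q7664 (allL N7664 (tt N6150 F65606) (tt N7664 F65607) (tt N9400 D21859) (tt N6134 (iv D15016)) (tt N9009 (iv F91422)) (tt N7664 F65608) (tt N9398 (iv F93810)) (tt N6171 F65609) (tt N7664 F65610) (tt N9401 D21860))
theorem Q7666 : ∀ i, i < 7666 → P i := stepQ 7665 Q7665 (allL N7665 (tt N6151 F65611) (tt N7665 F65612) (tt N9396 (iv F93752)) (tt N9401 (iv F93823)) (tt N6137 F65613) (tt N7665 F65614) (tt N9399 (iv F93815)) (tt N6172 F65615) (tt N7665 F65616) (tt N6134 (iv D15017)))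
theorem Q7667 : ∀ i, i < 7667 → P i := stepQ 7666 Q7666 (allL N7666 (tt N6152 F65617) (tt N7666 F65618) (tt N8021 (iv F205119)) (tt N9011 (iv F91431)) (tt N8018 F205058) (tt N7666 F65619) (tt N6173 F65620) (tt N6136 F65621) (tt N6135 (iv D15018)) (tt N9402 D21861))
theorem Q7668 : ∀ i, i < 7668 → P i := stepQ 7667 Q7667 (allL N7667 (tt N6153 F65622) (tt N7667 F65623) (tt N9397 (iv F93767)) (tt N9012 (iv F91437)) (tt N9399 (iv F93814)) (tt N7667 F65624) (tt N6137 F65625) (tt N9402 (iv F93830)) (tt N7667 F65626) (tt N6136 (iv D15019)))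
theorem Q7669 : ∀ i, i < 7669 → P i := stepQ 7668 Q7668 (allL N7668 (tt N8010 (iv F205122)) (tt N7668 F65647) (tt N6149 F65648) (tt N8120 (iv F205151)) (tt N6142 F65649) (tt N8008 (iv F205148)) (tt N6140 F65650) (tt N8016 F205078) (tt N6139 (iv D15024)) (tt N9403 D21871))
theorem Q7670 : ∀ i, i < 7670 → P i := stepQ 7669 Q7669 (allL N7669 (tt N8130 (iv F205272)) (tt N7669 F65651) (tt N9404 D21872) (tt N6140 (iv D15025)) (tt N9405 D21873) (tt N7669 F65652) (tt N8120 F205232) (tt N6180 F65653) (tt N8119 (iv F205333)) (tt N9406 D21874))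
theorem Q7671 : ∀ i, i < 7671 → P i := stepQ 7670 Q7670 (allL N7670 (tt N9396 (iv F93751)) (tt N7670 F65654) (tt N6151 F65655) (tt N9406 (iv F93886)) (tt N6144 F65656) (tt N7670 F65657) (tt N9403 (iv F93877)) (tt N6181 F65658) (tt N7670 F65659) (tt N6140 (iv D15026)))
theorem Q7672 : ∀ i, i < 7672 → P i := stepQ 7671 Q7671 (allL N7671 (tt N8021 (iv F205118)) (tt N7671 F65660) (tt N6152 F65661) (tt N9407 D21875) (tt N8016 F205077) (tt N7671 F65662) (tt N6182 F65663) (tt N6142 F65664) (tt N6141 (iv D15027)) (tt N9408 D21876))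
theorem Q7673 : ∀ i, i < 7673 → P i := stepQ 7672 Q7672 (allL N7672 (tt N8755 F201472) (tt N7672 F65665) (tt N9021 (iv F91462)) (tt N6142 (iv D15028)) (tt N9409 D21877) (tt N7672 F65666) (tt N6143 F65667) (tt N9407 (iv F93892)) (tt N6481 F65668) (tt N9410 D21878))
theorem Q7674 : ∀ i, i < 7674 → P i := stepQ 7673 Q7673 (allL N7673 (tt N9397 (iv F93766)) (tt N7673 F65669) (tt N6153 F65670) (tt N9410 (iv F93904)) (tt N9403 (iv F93876)) (tt N7673 F65671) (tt N6144 F65672) (tt N9408 (iv F93898)) (tt N7673 F65673) (tt N6142 (iv D15029)))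
theorem Q7675 : ∀ i, i < 7675 → P i := stepQ 7674 Q7674 (allL N7674 (tt N8753 F202252) (tt N7674 F65674) (tt N9023 (iv F91469)) (tt N9405 (iv F93883)) (tt N6143 (iv D15030)) (tt N9411 D21879) (tt N9409 (iv F93901)) (tt N6185 F65675) (tt N6482 F65676) (tt N9412 D21880))
theorem Q7676 : ∀ i, i < 7676 → P i := stepQ 7675 Q7675 (allL N7675 (tt N8756 F202253) (tt N7675 F65677) (tt N9024 (iv F91472)) (tt N6144 F65678) (tt N9412 (iv F93912)) (tt N6146 F65679) (tt N9410 (iv F93906)) (tt N6186 F65680) (tt N8770 F202254) (tt N6143 (iv D15031)))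
theorem Q7677 : ∀ i, i < 7677 → P i := stepQ 7676 Q7676 (allL N7676 (tt N8107 F202378) (tt N7676 F65681) (tt N9025 (iv F91476)) (tt N7676 F65682) (tt N9411 (iv F93908)) (tt N6145 (iv D15032)) (tt N9413 D21882) (tt N6187 F65683) (tt N6483 F65684) (tt N9414 D21883))
theorem Q7678 : ∀ i, i < 7678 → P i := stepQ 7677 Q7677 (allL N7677 (tt N8108 F202379) (tt N7677 F65685) (tt N9026 (iv F91479)) (tt N7677 F65686) (tt N6146 F65687) (tt N9414 (iv F93925)) (tt N7677 F65688) (tt N6188 F65689) (tt N8121 F202380) (tt N6145 (iv D15033)))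
theorem Q7679 : ∀ i, i < 7679 → P i := stepQ 7678 Q7678 (allL N7678 (tt N8009 (iv F205133)) (tt N6155 F65700) (tt N8008 (iv F205147)) (tt N9415 D21887) (tt N7678 F65701) (tt N6149 F65702) (tt N7678 F65703) (tt N8015 F205073) (tt N6147 (iv D15036)) (tt N9416 D21888))
theorem Q7680 : ∀ i, i < 7680 → P i := stepQ 7679 Q7679 (allL N7679 (tt N8018 (iv F205004)) (tt N6156 F65704) (tt N8016 (iv F205014)) (tt N9417 D21889) (tt N6152 F65705) (tt N8015 (iv F205011)) (tt N6191 F65706) (tt N6149 F65707) (tt N6148 (iv D15037)) (tt N9418 D21890))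
theorem Q7681 : ∀ i, i < 7681 → P i := stepQ 7680 Q7680 (allL N7680 (tt N9398 (iv F93808)) (tt N6157 F65708) (tt N9419 D21891) (tt N6149 (iv D15038)) (tt N9030 (iv F91499)) (tt N9415 (iv F93943)) (tt N6150 F65709) (tt N9417 (iv F93953)) (tt N7680 F65710) (tt N9420 D21892))
theorem Q7682 : ∀ i, i < 7682 → P i := stepQ 7681 Q7681 (allL N7681 (tt N9399 (iv F93812)) (tt N6158 F65711) (tt N9403 (iv F93875)) (tt N9420 (iv F93963)) (tt N6153 F65712) (tt N9416 (iv F93948)) (tt N6151 F65713) (tt N9418 (iv F93958)) (tt N7681 F65714) (tt N6149 (iv D15039)))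
theorem Q7683 : ∀ i, i < 7683 → P i := stepQ 7682 Q7682 (allL N7682 (tt N9400 (iv F93817)) (tt N9421 D21893) (tt N6150 (iv D15040)) (tt N9404 (iv F93879)) (tt N9032 (iv F91505)) (tt N7682 F65715) (tt N9419 (iv F93960)) (tt N6194 F65716) (tt N7682 F65717) (tt N9422 D21894))
theorem Q7684 : ∀ i, i < 7684 → P i := stepQ 7683 Q7683 (allL N7683 (tt N9401 (iv F93821)) (tt N6160 F65718) (tt N9422 (iv F93969)) (tt N6151 F65719) (tt N9033 (iv F91510)) (tt N7683 F65720) (tt N9420 (iv F93964)) (tt N6195 F65721) (tt N9423 D21895) (tt N6150 (iv D15041)))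
theorem Q7685 : ∀ i, i < 7685 → P i := stepQ 7684 Q7684 (allL N7684 (tt N9402 (iv F93826)) (tt N6161 F65722) (tt N9408 (iv F93895)) (tt N9034 (iv F91513)) (tt N9418 (iv F93956)) (tt N7684 F65723) (tt N6196 F65724) (tt N6153 F65725) (tt N7684 F65726) (tt N6152 (iv D15042)))
theorem Q7686 : ∀ i, i < 7686 → P i := stepQ 7685 Q7685 (allL N7685 (tt N7685 F65734) (tt N8015 F205022) (tt N7685 F65735) (tt N9424 D21897) (tt N7685 F65736) (tt N6156 F65737) (tt N8029 F205023) (tt N6155 F65738) (tt N6154 (iv D15044)) (tt N9425 D21898))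
theorem Q7687 : ∀ i, i < 7687 → P i := stepQ 7686 Q7686 (allL N7686 (tt N7686 F65739) (tt N9415 (iv F93942)) (tt N9426 D21899) (tt N6155 (iv D15045)) (tt N9427 D21900) (tt N6157 F65740) (tt N7686 F65741) (tt N9424 (iv F93985)) (tt N7686 F65742) (tt N9428 D21901))
theorem Q7688 : ∀ i, i < 7688 → P i := stepQ 7687 Q7687 (allL N7687 (tt N7687 F65743) (tt N9416 (iv F93946)) (tt N7687 F65744) (tt N9428 (iv F94003)) (tt N7687 F65745) (tt N6158 F65746) (tt N7687 F65747) (tt N9425 (iv F93991)) (tt N7687 F65748) (tt N6155 (iv D15046)))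
theorem Q7689 : ∀ i, i < 7689 → P i := stepQ 7688 Q7688 (allL N7688 (tt N7688 F65749) (tt N9417 (iv F93951)) (tt N9429 D21902) (tt N6156 (iv D15047)) (tt N9039 (iv F91532)) (tt N9424 (iv F93984)) (tt N6201 F65750) (tt N6157 F65751) (tt N7688 F65752) (tt N9430 D21903))
theorem Q7690 : ∀ i, i < 7690 → P i := stepQ 7689 Q7689 (allL N7689 (tt N7689 F65753) (tt N9418 (iv F93955)) (tt N7689 F65754) (tt N9430 (iv F94012)) (tt N6161 F65755) (tt N9425 (iv F93990)) (tt N6202 F65756) (tt N6158 F65757) (tt N7689 F65758) (tt N6156 (iv D15048)))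
theorem Q7691 : ∀ i, i < 7691 → P i := stepQ 7690 Q7690 (allL N7690 (tt N7690 F65759) (tt N9431 D21904) (tt N6157 (iv D15049)) (tt N7690 F65760) (tt N9041 (iv F91541)) (tt N9426 (iv F93995)) (tt N6159 F65761) (tt N9429 (iv F94009)) (tt N7690 F65762) (tt N9432 D21905))
theorem Q7692 : ∀ i, i < 7692 → P i := stepQ 7691 Q7691 (allL N7691 (tt N7691 F65763) (tt N9420 (iv F93962)) (tt N9432 (iv F94019)) (tt N6158 F65764) (tt N9042 (iv F91546)) (tt N9428 (iv F94004)) (tt N6160 F65765) (tt N9430 (iv F94014)) (tt N9433 D21906) (tt N6157 (iv D15050)))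
theorem Q7693 : ∀ i, i < 7693 → P i := stepQ 7692 Q7692 (allL N7692 (tt N9434 D21907) (tt N6159 (iv D15051)) (tt N9421 (iv F93965)) (tt N7692 F65766) (tt N9043 (iv F91548)) (tt N7692 F65767) (tt N9431 (iv F94016)) (tt N6205 F65768) (tt N7692 F65769) (tt N9435 D21908))
theorem Q7694 : ∀ i, i < 7694 → P i := stepQ 7693 Q7693 (allL N7693 (tt N7693 F65770) (tt N9435 (iv F94031)) (tt N6160 F65771) (tt N7693 F65772) (tt N9044 (iv F91553)) (tt N7693 F65773) (tt N9432 (iv F94021)) (tt N6206 F65774) (tt N9436 D21909) (tt N6159 (iv D15052)))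
theorem Q7695 : ∀ i, i < 7695 → P i := stepQ 7694 Q7694 (allL N7694 (tt N7694 F65775) (tt N9423 (iv F93972)) (tt N9436 (iv F94036)) (tt N7694 F65776) (tt N9045 (iv F91556)) (tt N7694 F65777) (tt N9433 (iv F94024)) (tt N6207 F65778) (tt N6160 (iv D15053)) (tt N7694 F65779))
theorem Q7696 : ∀ i, i < 7696 → P i := stepQ 7695 Q7695 (allL N7695 (tt N6179 F65846) (tt N8027 (iv F205095)) (tt N6170 F65847) (tt N8182 (iv F205105)) (tt N6166 F65848) (tt N8045 F205039) (tt N6164 F65849) (tt N8022 F205040) (tt N6163 (iv D15068)) (tt N9437 D21938))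
theorem Q7697 : ∀ i, i < 7697 → P i := stepQ 7696 Q7696 (allL N7696 (tt N6180 F65850) (tt N8137 (iv F205253)) (tt N9438 D21939) (tt N6164 (iv D15069)) (tt N8804 F203198) (tt N7696 F65851) (tt N8182 F205192) (tt N8130 (iv F205274)) (tt N8129 (iv F205270)) (tt N9439 D21941))
theorem Q7698 : ∀ i, i < 7698 → P i := stepQ 7697 Q7697 (allL N7697 (tt N6181 F65852) (tt N8793 F203199) (tt N6172 F65853) (tt N9439 (iv F94179)) (tt N6167 F65854) (tt N7697 F65855) (tt N9437 (iv F94171)) (tt N9396 (iv F93755)) (tt N7697 F65856) (tt N6164 (iv D15070)))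
theorem Q7699 : ∀ i, i < 7699 → P i := stepQ 7698 Q7698 (allL N7698 (tt N6182 F65857) (tt N8024 (iv F205115)) (tt N6173 F65858) (tt N8806 F202189) (tt N8022 F205051) (tt N6213 F65859) (tt N8021 (iv F205120)) (tt N6166 F65860) (tt N6165 (iv D15071)) (tt N9440 D21943))
theorem Q7700 : ∀ i, i < 7700 → P i := stepQ 7699 Q7699 (allL N7699 (tt N6184 F65865) (tt N8794 F203098) (tt N6174 F65866) (tt N8807 F203099) (tt N9437 (iv F94170)) (tt N6214 F65867) (tt N6167 F65868) (tt N9440 (iv F94188)) (tt N7699 F65869) (tt N6166 (iv D15073)))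
theorem Q7701 : ∀ i, i < 7701 → P i := stepQ 7700 Q7700 (allL N7700 (tt N6190 F65892) (tt N7700 F65893) (tt N8045 (iv F204992)) (tt N9441 D21954) (tt N6216 F65894) (tt N6170 F65895) (tt N7700 F65896) (tt N8037 F204951) (tt N6168 (iv D15080)) (tt N9442 D21955))
theorem Q7702 : ∀ i, i < 7702 → P i := stepQ 7701 Q7701 (allL N7701 (tt N6191 F65897) (tt N7701 F65898) (tt N8022 (iv F205001)) (tt N9443 D21956) (tt N6173 F65899) (tt N8037 F204959) (tt N8018 (iv F205005)) (tt N6170 F65900) (tt N6169 (iv D15081)) (tt N9444 D21957))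
theorem Q7703 : ∀ i, i < 7703 → P i := stepQ 7702 Q7702 (allL N7702 (tt N6192 F65901) (tt N7702 F65902) (tt N9445 D21958) (tt N6170 (iv D15082)) (tt N9105 (iv F91857)) (tt N9441 (iv F94230)) (tt N6171 F65903) (tt N9443 (iv F94241)) (tt N7702 F65904) (tt N9446 D21959))
theorem Q7704 : ∀ i, i < 7704 → P i := stepQ 7703 Q7703 (allL N7703 (tt N6193 F65905) (tt N7703 F65906) (tt N9437 (iv F94169)) (tt N9446 (iv F94253)) (tt N6174 F65907) (tt N9442 (iv F94236)) (tt N6172 F65908) (tt N9444 (iv F94246)) (tt N7703 F65909) (tt N6170 (iv D15083)))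
theorem Q7705 : ∀ i, i < 7705 → P i := stepQ 7704 Q7704 (allL N7704 (tt N6194 F65910) (tt N9447 D21960) (tt N6171 (iv D15084)) (tt N9438 (iv F94174)) (tt N9107 (iv F91865)) (tt N7704 F65911) (tt N9445 (iv F94249)) (tt N9400 (iv F93819)) (tt N7704 F65912) (tt N9448 D21961))
theorem Q7706 : ∀ i, i < 7706 → P i := stepQ 7705 Q7705 (allL N7705 (tt N6195 F65913) (tt N7705 F65914) (tt N9448 (iv F94259)) (tt N6172 F65915) (tt N9108 (iv F91870)) (tt N7705 F65916) (tt N9446 (iv F94254)) (tt N9401 (iv F93825)) (tt N9449 D21962) (tt N6171 (iv D15085)))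
theorem Q7707 : ∀ i, i < 7707 → P i := stepQ 7706 Q7706 (allL N7706 (tt N6196 F65917) (tt N7706 F65918) (tt N9440 (iv F94186)) (tt N9109 (iv F91873)) (tt N9444 (iv F94245)) (tt N6222 F65919) (tt N9402 (iv F93829)) (tt N6174 F65920) (tt N7706 F65921) (tt N6173 (iv D15086)))
theorem Q7708 : ∀ i, i < 7708 → P i := stepQ 7707 Q7707 (allL N7707 (tt N8129 (iv F205269)) (tt N7707 F65937) (tt N9450 D21968) (tt N6176 (iv D15090)) (tt N9451 D21969) (tt N7707 F65938) (tt N8165 F205228) (tt N8119 (iv F205332)) (tt N6180 F65939) (tt N9452 D21970))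
theorem Q7709 : ∀ i, i < 7709 → P i := stepQ 7708 Q7708 (allL N7708 (tt N8109 (iv F205271)) (tt N7708 F65940) (tt N7708 F65941) (tt N9452 (iv F94296)) (tt N6490 F65942) (tt N7708 F65943) (tt N6521 F205229) (tt N6514 (iv F205334)) (tt N7708 F65944) (tt N6176 (iv D15091)))
theorem Q7710 : ∀ i, i < 7710 → P i := stepQ 7709 Q7709 (allL N7709 (tt N8045 (iv F204991)) (tt N7709 F65950) (tt N6190 F65951) (tt N8234 (iv F205009)) (tt N6224 F65952) (tt N6179 F65953) (tt N7709 F65954) (tt N8034 F204970) (tt N6177 (iv D15093)) (tt N9453 D21974))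
theorem Q7711 : ∀ i, i < 7711 → P i := stepQ 7710 Q7710 (allL N7710 (tt N8022 (iv F205000)) (tt N7710 F65955) (tt N6191 F65956) (tt N8166 (iv F205013)) (tt N6182 F65957) (tt N8034 F204977) (tt N8016 (iv F205015)) (tt N6179 F65958) (tt N6178 (iv D15094)) (tt N9454 D21976))
theorem Q7712 : ∀ i, i < 7712 → P i := stepQ 7711 Q7711 (allL N7711 (tt N8182 (iv F205104)) (tt N7711 F65959) (tt N9455 D21977) (tt N6179 (iv D15095)) (tt N9456 D21978) (tt N8234 F205068) (tt N6180 F65960) (tt N8166 F205069) (tt N8165 (iv F205141)) (tt N9457 D21979))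
theorem Q7713 : ∀ i, i < 7713 → P i := stepQ 7712 Q7712 (allL N7712 (tt N9437 (iv F94168)) (tt N7712 F65961) (tt N6193 F65962) (tt N9457 (iv F94330)) (tt N6184 F65963) (tt N9453 (iv F94314)) (tt N6181 F65964) (tt N9454 (iv F94322)) (tt N7712 F65965) (tt N6179 (iv D15096)))
theorem Q7714 : ∀ i, i < 7714 → P i := stepQ 7713 Q7713 (allL N7713 (tt N9438 (iv F94173)) (tt N9458 D21980) (tt N6180 (iv D15097)) (tt N6194 F65966) (tt N9459 D21981) (tt N7713 F65967) (tt N9455 (iv F94325)) (tt N9404 (iv F93881)) (tt N9450 (iv F94291)) (tt N9460 D21982))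
theorem Q7715 : ∀ i, i < 7715 → P i := stepQ 7714 Q7714 (allL N7714 (tt N8804 F203136) (tt N7714 F65968) (tt N9459 (iv F94335)) (tt N6185 F65969) (tt N6180 (iv D15098)) (tt N9461 D21983) (tt N9456 (iv F94328)) (tt N9405 (iv F93884)) (tt N9451 (iv F94294)) (tt N9462 D21984))
theorem Q7716 : ∀ i, i < 7716 → P i := stepQ 7715 Q7715 (allL N7715 (tt N9439 (iv F94178)) (tt N7715 F65970) (tt N9460 (iv F94336)) (tt N6181 F65971) (tt N9462 (iv F94344)) (tt N7715 F65972) (tt N9457 (iv F94331)) (tt N9406 (iv F93888)) (tt N9463 D21985) (tt N6180 (iv D15099)))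
theorem Q7717 : ∀ i, i < 7717 → P i := stepQ 7716 Q7716 (allL N7716 (tt N8806 F202187) (tt N7716 F65973) (tt N9123 (iv F91903)) (tt N6182 (iv D15100)) (tt N9464 D21986) (tt N6231 F65974) (tt N9407 (iv F93891)) (tt N6183 F65975) (tt N6494 F65976) (tt N9465 D21987))
theorem Q7718 : ∀ i, i < 7718 → P i := stepQ 7717 Q7717 (allL N7717 (tt N9440 (iv F94185)) (tt N7717 F65977) (tt N6196 F65978) (tt N9465 (iv F94352)) (tt N9454 (iv F94321)) (tt N6232 F65979) (tt N9408 (iv F93897)) (tt N6184 F65980) (tt N7717 F65981) (tt N6182 (iv D15101)))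
theorem Q7719 : ∀ i, i < 7719 → P i := stepQ 7718 Q7718 (allL N7718 (tt N8803 F203000) (tt N7718 F65982) (tt N9125 (iv F91910)) (tt N9456 (iv F94327)) (tt N6183 (iv D15102)) (tt N9466 D21988) (tt N6185 F65983) (tt N9464 (iv F94349)) (tt N6495 F65984) (tt N9467 D21989))
theorem Q7720 : ∀ i, i < 7720 → P i := stepQ 7719 Q7719 (allL N7719 (tt N8807 F203090) (tt N7719 F65985) (tt N9126 (iv F91913)) (tt N6184 F65986) (tt N9467 (iv F94359)) (tt N6234 F65987) (tt N6186 F65988) (tt N9465 (iv F94354)) (tt N8831 F203091) (tt N6183 (iv D15103)))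
theorem Q7721 : ∀ i, i < 7721 → P i := stepQ 7720 Q7720 (allL N7720 (tt N8145 F203137) (tt N7720 F65989) (tt N9127 (iv F91917)) (tt N9461 (iv F94340)) (tt N6187 F65990) (tt N6185 (iv D15104)) (tt N9468 D21991) (tt N9411 (iv F93909)) (tt N6496 F65991) (tt N9469 D21992))
theorem Q7722 : ∀ i, i < 7722 → P i := stepQ 7721 Q7721 (allL N7721 (tt N8805 F203138) (tt N7721 F65992) (tt N9128 (iv F91920)) (tt N9462 (iv F94343)) (tt N6186 F65993) (tt N9469 (iv F94371)) (tt N9467 (iv F94360)) (tt N9412 (iv F93913)) (tt N8829 F203139) (tt N6185 (iv D15105)))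
theorem Q7723 : ∀ i, i < 7723 → P i := stepQ 7722 Q7722 (allL N7722 (tt N8147 F203257) (tt N7722 F65998) (tt N9129 (iv F91925)) (tt N7722 F65999) (tt N9468 (iv F94367)) (tt N6237 F66000) (tt N6187 (iv D15107)) (tt N9470 D21994) (tt N6497 F66001) (tt N9471 D21995))
theorem Q7724 : ∀ i, i < 7724 → P i := stepQ 7723 Q7723 (allL N7723 (tt N8148 F203258) (tt N7723 F66002) (tt N9130 (iv F91928)) (tt N7723 F66003) (tt N9469 (iv F94370)) (tt N6188 F66004) (tt N9471 (iv F94382)) (tt N9414 (iv F93926)) (tt N8167 F203259) (tt N6187 (iv D15108)))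
theorem Q7725 : ∀ i, i < 7725 → P i := stepQ 7724 Q7724 (allL N7724 (tt N8037 (iv F204921)) (tt N6198 F66014) (tt N8034 (iv F204928)) (tt N9472 D21999) (tt N6240 F66015) (tt N6191 F66016) (tt N8030 (iv F204926)) (tt N6190 F66017) (tt N6189 (iv D15111)) (tt N9473 D22000))
theorem Q7726 : ∀ i, i < 7726 → P i := stepQ 7725 Q7725 (allL N7725 (tt N9441 (iv F94228)) (tt N6199 F66018) (tt N9474 D22001) (tt N6190 (iv D15112)) (tt N9475 D22002) (tt N6192 F66019) (tt N7725 F66020) (tt N9472 (iv F94397)) (tt N7725 F66021) (tt N9476 D22003))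
theorem Q7727 : ∀ i, i < 7727 → P i := stepQ 7726 Q7726 (allL N7726 (tt N9442 (iv F94233)) (tt N6200 F66022) (tt N9453 (iv F94312)) (tt N9476 (iv F94412)) (tt N6242 F66023) (tt N6193 F66024) (tt N7726 F66025) (tt N9473 (iv F94402)) (tt N7726 F66026) (tt N6190 (iv D15113)))
theorem Q7728 : ∀ i, i < 7728 → P i := stepQ 7727 Q7727 (allL N7727 (tt N9443 (iv F94239)) (tt N6201 F66027) (tt N9477 D22004) (tt N6191 (iv D15114)) (tt N9135 (iv F91948)) (tt N9472 (iv F94396)) (tt N9417 (iv F93952)) (tt N6192 F66028) (tt N7727 F66029) (tt N9478 D22005))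
theorem Q7729 : ∀ i, i < 7729 → P i := stepQ 7728 Q7728 (allL N7728 (tt N9444 (iv F94243)) (tt N6202 F66030) (tt N9454 (iv F94320)) (tt N9478 (iv F94418)) (tt N6196 F66031) (tt N9473 (iv F94401)) (tt N9418 (iv F93957)) (tt N6193 F66032) (tt N7728 F66033) (tt N6191 (iv D15115)))
theorem Q7730 : ∀ i, i < 7730 → P i := stepQ 7729 Q7729 (allL N7729 (tt N9445 (iv F94248)) (tt N9479 D22006) (tt N6192 (iv D15116)) (tt N9455 (iv F94324)) (tt N9137 (iv F91954)) (tt N9474 (iv F94404)) (tt N6194 F66034) (tt N9477 (iv F94415)) (tt N7729 F66035) (tt N9480 D22007))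
theorem Q7731 : ∀ i, i < 7731 → P i := stepQ 7730 Q7730 (allL N7730 (tt N9446 (iv F94251)) (tt N6204 F66036) (tt N9480 (iv F94423)) (tt N6193 F66037) (tt N9138 (iv F91959)) (tt N9476 (iv F94413)) (tt N6195 F66038) (tt N9478 (iv F94419)) (tt N9481 D22008) (tt N6192 (iv D15117)))
theorem Q7732 : ∀ i, i < 7732 → P i := stepQ 7731 Q7731 (allL N7731 (tt N9482 D22009) (tt N6194 (iv D15118)) (tt N6205 F66039) (tt N9458 (iv F94333)) (tt N9139 (iv F91962)) (tt N7731 F66040) (tt N9479 (iv F94421)) (tt N9421 (iv F93967)) (tt N7731 F66041) (tt N9483 D22010))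
theorem Q7733 : ∀ i, i < 7733 → P i := stepQ 7732 Q7732 (allL N7732 (tt N9448 (iv F94258)) (tt N9483 (iv F94432)) (tt N6195 F66042) (tt N9460 (iv F94337)) (tt N9140 (iv F91965)) (tt N7732 F66043) (tt N9480 (iv F94424)) (tt N9422 (iv F93971)) (tt N9484 D22011) (tt N6194 (iv D15119)))
theorem Q7734 : ∀ i, i < 7734 → P i := stepQ 7733 Q7733 (allL N7733 (tt N9449 (iv F94261)) (tt N6207 F66044) (tt N9484 (iv F94435)) (tt N7733 F66045) (tt N9141 (iv F91967)) (tt N7733 F66046) (tt N9481 (iv F94427)) (tt N9423 (iv F93975)) (tt N6195 (iv D15120)) (tt N7733 F66047))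
theorem Q7735 : ∀ i, i < 7735 → P i := stepQ 7734 Q7734 (allL N7734 (tt N7734 F66048) (tt N8030 F204931) (tt N7734 F66049) (tt N9395 F204932) (tt N6250 F66050) (tt N8029 (iv F204983)) (tt N6198 F66051) (tt N7734 F66052) (tt N6197 (iv D15121)) (tt N9485 D22013))
theorem Q7736 : ∀ i, i < 7736 → P i := stepQ 7735 Q7735 (allL N7735 (tt N7735 F66053) (tt N9472 (iv F94395)) (tt N9486 D22014) (tt N6198 (iv D15122)) (tt N9392 F204860) (tt N6201 F66054) (tt N9395 (iv F204913)) (tt N6199 F66055) (tt N7735 F66056) (tt N9487 D22016))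
theorem Q7737 : ∀ i, i < 7737 → P i := stepQ 7736 Q7736 (allL N7736 (tt N7736 F66057) (tt N9473 (iv F94399)) (tt N7736 F66058) (tt N9487 (iv F94458)) (tt N6252 F66059) (tt N6202 F66060) (tt N9485 (iv F94445)) (tt N6200 F66061) (tt N7736 F66062) (tt N6198 (iv D15123)))
theorem Q7738 : ∀ i, i < 7738 → P i := stepQ 7737 Q7737 (allL N7737 (tt N7737 F66063) (tt N9488 D22017) (tt N6199 (iv D15124)) (tt N7737 F66064) (tt N9489 D22018) (tt N6203 F66065) (tt N7737 F66066) (tt N9486 (iv F94451)) (tt N7737 F66067) (tt N9490 D22019))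
theorem Q7739 : ∀ i, i < 7739 → P i := stepQ 7738 Q7738 (allL N7738 (tt N7738 F66068) (tt N9475 (iv F94407)) (tt N9489 (iv F94466)) (tt N6254 F66069) (tt N6199 (iv D15125)) (tt N9146 (iv F91985)) (tt N7738 F66070) (tt N9392 (iv F204806)) (tt N7738 F66071) (tt N9491 D22020))
theorem Q7740 : ∀ i, i < 7740 → P i := stepQ 7739 Q7739 (allL N7739 (tt N7739 F66072) (tt N9476 (iv F94411)) (tt N9490 (iv F94470)) (tt N6200 F66073) (tt N9491 (iv F94476)) (tt N6204 F66074) (tt N7739 F66075) (tt N9487 (iv F94460)) (tt N9492 D22021) (tt N6199 (iv D15126)))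
theorem Q7741 : ∀ i, i < 7741 → P i := stepQ 7740 Q7740 (allL N7740 (tt N7740 F66076) (tt N9493 D22022) (tt N6201 (iv D15127)) (tt N7740 F66077) (tt N9148 (iv F91991)) (tt N9486 (iv F94450)) (tt N9429 (iv F94008)) (tt N6203 F66078) (tt N7740 F66079) (tt N9494 D22023))
theorem Q7742 : ∀ i, i < 7742 → P i := stepQ 7741 Q7741 (allL N7741 (tt N7741 F66080) (tt N9478 (iv F94417)) (tt N9494 (iv F94487)) (tt N6202 F66081) (tt N9149 (iv F91996)) (tt N9487 (iv F94459)) (tt N9430 (iv F94013)) (tt N6204 F66082) (tt N9495 D22024) (tt N6201 (iv D15128)))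
theorem Q7743 : ∀ i, i < 7743 → P i := stepQ 7742 Q7742 (allL N7742 (tt N9496 D22025) (tt N6203 (iv D15129)) (tt N9479 (iv F94420)) (tt N7742 F66083) (tt N9150 (iv F91998)) (tt N9488 (iv F94462)) (tt N6205 F66084) (tt N9493 (iv F94484)) (tt N7742 F66085) (tt N9497 D22026))
theorem Q7744 : ∀ i, i < 7744 → P i := stepQ 7743 Q7743 (allL N7743 (tt N7743 F66086) (tt N9497 (iv F94498)) (tt N6204 F66087) (tt N7743 F66088) (tt N9151 (iv F92003)) (tt N9490 (iv F94472)) (tt N6206 F66089) (tt N9494 (iv F94489)) (tt N9498 D22027) (tt N6203 (iv D15130)))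
theorem Q7745 : ∀ i, i < 7745 → P i := stepQ 7744 Q7744 (allL N7744 (tt N7744 F66090) (tt N9481 (iv F94425)) (tt N9498 (iv F94502)) (tt N7744 F66091) (tt N9152 (iv F92006)) (tt N9492 (iv F94480)) (tt N6207 F66092) (tt N9495 (iv F94492)) (tt N6204 (iv D15131)) (tt N7744 F66093))
theorem Q7746 : ∀ i, i < 7746 → P i := stepQ 7745 Q7745 (allL N7745 (tt N6205 (iv D15132)) (tt N7745 F66094) (tt N9482 (iv F94429)) (tt N7745 F66095) (tt N9153 (iv F92010)) (tt N7745 F66096) (tt N9496 (iv F94496)) (tt N9434 (iv F94029)) (tt N7745 F66097) (tt N9499 D22028))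
theorem Q7747 : ∀ i, i < 7747 → P i := stepQ 7746 Q7746 (allL N7746 (tt N9499 (iv F94505)) (tt N6206 F66098) (tt N9483 (iv F94433)) (tt N7746 F66099) (tt N9154 (iv F92013)) (tt N7746 F66100) (tt N9497 (iv F94500)) (tt N9435 (iv F94034)) (tt N9500 D22029) (tt N6205 (iv D15133)))
theorem Q7748 : ∀ i, i < 7748 → P i := stepQ 7747 Q7747 (allL N7747 (tt N7747 F66101) (tt N9500 (iv F94509)) (tt N6207 F66102) (tt N9501 D22030) (tt N9155 (iv F92016)) (tt N7747 F66103) (tt N9498 (iv F94503)) (tt N9436 (iv F94038)) (tt N6206 (iv D15134)) (tt N7747 F66104))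
theorem Q7749 : ∀ i, i < 7749 → P i := stepQ 7748 Q7748 (allL N7748 (tt N6224 F66191) (tt N8048 (iv F204989)) (tt N6216 F66192) (tt N9502 D22058) (tt N8045 (iv F204993)) (tt N6210 F66193) (tt N7748 F66194) (tt N8042 F204950) (tt N6208 (iv D15152)) (tt N9503 D22059))
theorem Q7750 : ∀ i, i < 7750 → P i := stepQ 7749 Q7749 (allL N7749 (tt N6225 F66195) (tt N8047 (iv F204998)) (tt N6217 F66196) (tt N9504 D22060) (tt N6213 F66197) (tt N8042 F204955) (tt N7749 F66198) (tt N6210 F66199) (tt N6209 (iv D15153)) (tt N9505 D22061))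
theorem Q7751 : ∀ i, i < 7751 → P i := stepQ 7750 Q7750 (allL N7750 (tt N6226 F66200) (tt N8865 F203886) (tt N9506 D22062) (tt N6210 (iv D15154)) (tt N8882 F203887) (tt N9502 (iv F94647)) (tt N6211 F66201) (tt N9504 (iv F94657)) (tt N7750 F66202) (tt N9507 D22064))
theorem Q7752 : ∀ i, i < 7752 → P i := stepQ 7751 Q7751 (allL N7751 (tt N6227 F66203) (tt N8866 F203889) (tt N6219 F66204) (tt N9507 (iv F94674)) (tt N6214 F66205) (tt N9503 (iv F94652)) (tt N6212 F66206) (tt N9505 (iv F94663)) (tt N7751 F66207) (tt N6210 (iv D15155)))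
theorem Q7753 : ∀ i, i < 7753 → P i := stepQ 7752 Q7752 (allL N7752 (tt N6228 F66208) (tt N9508 D22065) (tt N6211 (iv D15156)) (tt N6220 F66209) (tt N8884 F204013) (tt N7752 F66210) (tt N9506 (iv F94667)) (tt N7752 F66211) (tt N7752 F66212) (tt N9509 D22067))
theorem Q7754 : ∀ i, i < 7754 → P i := stepQ 7753 Q7753 (allL N7753 (tt N6230 F66217) (tt N8868 F204011) (tt N9509 (iv F94685)) (tt N6212 F66218) (tt N8885 F204012) (tt N7753 F66219) (tt N9507 (iv F94675)) (tt N7753 F66220) (tt N9510 D22070) (tt N6211 (iv D15158)))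
theorem Q7755 : ∀ i, i < 7755 → P i := stepQ 7754 Q7754 (allL N7754 (tt N6232 F66225) (tt N8869 F203095) (tt N6222 F66226) (tt N8886 F203096) (tt N9505 (iv F94661)) (tt N9440 (iv F94187)) (tt N7754 F66227) (tt N6214 F66228) (tt N7754 F66229) (tt N6213 (iv D15160)))
theorem Q7756 : ∀ i, i < 7756 → P i := stepQ 7755 Q7755 (allL N7755 (tt N6240 F66265) (tt N7755 F66266) (tt N8042 (iv F204920)) (tt N9511 D22084) (tt N8037 (iv F204922)) (tt N6217 F66267) (tt N8036 (iv F204918)) (tt N6216 F66268) (tt N6215 (iv D15170)) (tt N9512 D22085))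
theorem Q7757 : ∀ i, i < 7757 → P i := stepQ 7756 Q7756 (allL N7756 (tt N6241 F66269) (tt N7756 F66270) (tt N9513 D22086) (tt N6216 (iv D15171)) (tt N9514 D22087) (tt N6218 F66271) (tt N7756 F66272) (tt N9511 (iv F94755)) (tt N6266 F66273) (tt N9515 D22088))
theorem Q7758 : ∀ i, i < 7758 → P i := stepQ 7757 Q7757 (allL N7757 (tt N6242 F66274) (tt N7757 F66275) (tt N9503 (iv F94651)) (tt N9515 (iv F94772)) (tt N9442 (iv F94235)) (tt N6219 F66276) (tt N7757 F66277) (tt N9512 (iv F94760)) (tt N7757 F66278) (tt N6216 (iv D15172)))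
theorem Q7759 : ∀ i, i < 7759 → P i := stepQ 7758 Q7758 (allL N7758 (tt N6243 F66279) (tt N7758 F66280) (tt N9516 D22089) (tt N6217 (iv D15173)) (tt N9233 (iv F92495)) (tt N9511 (iv F94754)) (tt N7758 F66281) (tt N6218 F66282) (tt N6268 F66283) (tt N9517 D22090))
theorem Q7760 : ∀ i, i < 7760 → P i := stepQ 7759 Q7759 (allL N7759 (tt N6244 F66284) (tt N7759 F66285) (tt N9505 (iv F94660)) (tt N9517 (iv F94781)) (tt N6222 F66286) (tt N9512 (iv F94759)) (tt N7759 F66287) (tt N6219 F66288) (tt N7759 F66289) (tt N6217 (iv D15174)))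
theorem Q7761 : ∀ i, i < 7761 → P i := stepQ 7760 Q7760 (allL N7760 (tt N6245 F66290) (tt N9518 D22091) (tt N6218 (iv D15175)) (tt N9506 (iv F94666)) (tt N9235 (iv F92505)) (tt N9513 (iv F94763)) (tt N6220 F66291) (tt N9516 (iv F94777)) (tt N6270 F66292) (tt N9519 D22092))
theorem Q7762 : ∀ i, i < 7762 → P i := stepQ 7761 Q7761 (allL N7761 (tt N6246 F66293) (tt N7761 F66294) (tt N9519 (iv F94788)) (tt N6219 F66295) (tt N9236 (iv F92511)) (tt N9515 (iv F94773)) (tt N6221 F66296) (tt N9517 (iv F94783)) (tt N9520 D22093) (tt N6218 (iv D15176)))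
theorem Q7763 : ∀ i, i < 7763 → P i := stepQ 7762 Q7762 (allL N7762 (tt N9521 D22094) (tt N6220 (iv D15177)) (tt N7762 F66297) (tt N9508 (iv F94676)) (tt N9237 (iv F92514)) (tt N7762 F66298) (tt N9518 (iv F94785)) (tt N7762 F66299) (tt N6272 F66300) (tt N9522 D22095))
theorem Q7764 : ∀ i, i < 7764 → P i := stepQ 7763 Q7763 (allL N7763 (tt N6248 F66301) (tt N9522 (iv F94800)) (tt N6221 F66302) (tt N9509 (iv F94686)) (tt N9238 (iv F92519)) (tt N7763 F66303) (tt N9519 (iv F94789)) (tt N7763 F66304) (tt N9523 D22096) (tt N6220 (iv D15178)))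
theorem Q7765 : ∀ i, i < 7765 → P i := stepQ 7764 Q7764 (allL N7764 (tt N6249 F66305) (tt N7764 F66306) (tt N9523 (iv F94805)) (tt N7764 F66307) (tt N8666 F204363) (tt N7764 F66308) (tt N9520 (iv F94793)) (tt N7764 F66309) (tt N6221 (iv D15179)) (tt N6274 F66310))
theorem Q7766 : ∀ i, i < 7766 → P i := stepQ 7765 Q7765 (allL N7765 (tt N8042 (iv F204919)) (tt N7765 F66317) (tt N6240 F66318) (tt N9524 D22098) (tt N8034 (iv F204929)) (tt N6225 F66319) (tt N8033 (iv F204924)) (tt N6224 F66320) (tt N6223 (iv D15181)) (tt N9525 D22099))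
theorem Q7767 : ∀ i, i < 7767 → P i := stepQ 7766 Q7766 (allL N7766 (tt N9502 (iv F94646)) (tt N7766 F66321) (tt N9526 D22100) (tt N6224 (iv D15182)) (tt N9527 D22101) (tt N6226 F66322) (tt N7766 F66323) (tt N9524 (iv F94816)) (tt N7766 F66324) (tt N9528 D22102))
theorem Q7768 : ∀ i, i < 7768 → P i := stepQ 7767 Q7767 (allL N7767 (tt N9503 (iv F94650)) (tt N7767 F66325) (tt N6242 F66326) (tt N9528 (iv F94831)) (tt N9453 (iv F94313)) (tt N6227 F66327) (tt N7767 F66328) (tt N9525 (iv F94821)) (tt N7767 F66329) (tt N6224 (iv D15183)))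
theorem Q7769 : ∀ i, i < 7769 → P i := stepQ 7768 Q7768 (allL N7768 (tt N9504 (iv F94655)) (tt N7768 F66330) (tt N9529 D22103) (tt N6225 (iv D15184)) (tt N9530 D22104) (tt N9524 (iv F94815)) (tt N7768 F66331) (tt N6226 F66332) (tt N7768 F66333) (tt N9531 D22105))
theorem Q7770 : ∀ i, i < 7770 → P i := stepQ 7769 Q7769 (allL N7769 (tt N9505 (iv F94659)) (tt N7769 F66334) (tt N6244 F66335) (tt N9531 (iv F94844)) (tt N6232 F66336) (tt N9525 (iv F94820)) (tt N7769 F66337) (tt N6227 F66338) (tt N7769 F66339) (tt N6225 (iv D15185)))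
theorem Q7771 : ∀ i, i < 7771 → P i := stepQ 7770 Q7770 (allL N7770 (tt N9506 (iv F94665)) (tt N9532 D22106) (tt N6226 (iv D15186)) (tt N6245 F66340) (tt N9533 D22107) (tt N9526 (iv F94824)) (tt N6228 F66341) (tt N9529 (iv F94836)) (tt N7770 F66342) (tt N9534 D22108))
theorem Q7772 : ∀ i, i < 7772 → P i := stepQ 7771 Q7771 (allL N7771 (tt N8882 F203883) (tt N7771 F66343) (tt N9533 (iv F94851)) (tt N6233 F66344) (tt N6226 (iv D15187)) (tt N9535 D22109) (tt N6229 F66345) (tt N9530 (iv F94841)) (tt N7771 F66346) (tt N9536 D22110))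
theorem Q7773 : ∀ i, i < 7773 → P i := stepQ 7772 Q7772 (allL N7772 (tt N9507 (iv F94673)) (tt N7772 F66347) (tt N9534 (iv F94854)) (tt N6227 F66348) (tt N9536 (iv F94862)) (tt N9528 (iv F94832)) (tt N6230 F66349) (tt N9531 (iv F94846)) (tt N9537 D22111) (tt N6226 (iv D15188)))
theorem Q7774 : ∀ i, i < 7774 → P i := stepQ 7773 Q7773 (allL N7773 (tt N9538 D22112) (tt N6228 (iv D15189)) (tt N7773 F66350) (tt N6247 F66351) (tt N9539 D22113) (tt N7773 F66352) (tt N9532 (iv F94849)) (tt N7773 F66353) (tt N7773 F66354) (tt N9540 D22114))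
theorem Q7775 : ∀ i, i < 7775 → P i := stepQ 7774 Q7774 (allL N7774 (tt N8884 F203992) (tt N9539 (iv F94873)) (tt N6229 F66355) (tt N9258 (iv F92573)) (tt N6228 (iv D15190)) (tt N9541 D22115) (tt N9533 (iv F94852)) (tt N7774 F66356) (tt N7774 F66357) (tt N9542 D22116))
theorem Q7776 : ∀ i, i < 7776 → P i := stepQ 7775 Q7775 (allL N7775 (tt N9509 (iv F94684)) (tt N9540 (iv F94877)) (tt N6230 F66358) (tt N6248 F66359) (tt N9542 (iv F94887)) (tt N7775 F66360) (tt N9534 (iv F94856)) (tt N7775 F66361) (tt N9543 D22117) (tt N6228 (iv D15191)))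
theorem Q7777 : ∀ i, i < 7777 → P i := stepQ 7776 Q7776 (allL N7776 (tt N8203 F203993) (tt N7776 F66362) (tt N9541 (iv F94882)) (tt N6235 F66363) (tt N7776 F66364) (tt N6229 (iv D15192)) (tt N9544 D22118) (tt N7776 F66365) (tt N7776 F66366) (tt N9545 D22119))
theorem Q7778 : ∀ i, i < 7778 → P i := stepQ 7777 Q7777 (allL N7777 (tt N8885 F203994) (tt N7777 F66367) (tt N9542 (iv F94886)) (tt N6236 F66368) (tt N6230 F66369) (tt N9545 (iv F94900)) (tt N9536 (iv F94863)) (tt N7777 F66370) (tt N9546 D22120) (tt N6229 (iv D15193)))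
theorem Q7779 : ∀ i, i < 7779 → P i := stepQ 7778 Q7778 (allL N7778 (tt N9510 (iv F94698)) (tt N7778 F66371) (tt N9543 (iv F94889)) (tt N7778 F66372) (tt N9546 (iv F94903)) (tt N7778 F66373) (tt N9537 (iv F94866)) (tt N7778 F66374) (tt N6230 (iv D15194)) (tt N7778 F66375))
theorem Q7780 : ∀ i, i < 7780 → P i := stepQ 7779 Q7779 (allL N7779 (tt N8881 F203086) (tt N7779 F66376) (tt N9263 (iv F92584)) (tt N9530 (iv F94839)) (tt N6231 (iv D15195)) (tt N9547 D22121) (tt N7779 F66377) (tt N6233 F66378) (tt N6498 F66379) (tt N9548 D22122))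
theorem Q7781 : ∀ i, i < 7781 → P i := stepQ 7780 Q7780 (allL N7780 (tt N8886 F203088) (tt N7780 F66380) (tt N9264 (iv F92588)) (tt N6232 F66381) (tt N9548 (iv F94910)) (tt N9465 (iv F94353)) (tt N7780 F66382) (tt N6234 F66383) (tt N8923 F203089) (tt N6231 (iv D15196)))
theorem Q7782 : ∀ i, i < 7782 → P i := stepQ 7781 Q7781 (allL N7781 (tt N8880 F203871) (tt N7781 F66384) (tt N9265 (iv F92592)) (tt N9535 (iv F94858)) (tt N9466 (iv F94356)) (tt N6233 (iv D15197)) (tt N9549 D22124) (tt N9547 (iv F94907)) (tt N6499 F66385) (tt N9550 D22125))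
theorem Q7783 : ∀ i, i < 7783 → P i := stepQ 7782 Q7782 (allL N7782 (tt N8883 F203884) (tt N7782 F66386) (tt N9266 (iv F92594)) (tt N9536 (iv F94861)) (tt N6234 F66387) (tt N9550 (iv F94922)) (tt N6236 F66388) (tt N9548 (iv F94912)) (tt N8920 F203885) (tt N6233 (iv D15198)))
theorem Q7784 : ∀ i, i < 7784 → P i := stepQ 7783 Q7783 (allL N7783 (tt N8202 F203995) (tt N7783 F66393) (tt N9267 (iv F92600)) (tt N9544 (iv F94894)) (tt N6237 F66394) (tt N9549 (iv F94919)) (tt N6235 (iv D15200)) (tt N9551 D22127) (tt N6500 F66395) (tt N9552 D22128))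
theorem Q7785 : ∀ i, i < 7785 → P i := stepQ 7784 Q7784 (allL N7784 (tt N8204 F203996) (tt N7784 F66396) (tt N9268 (iv F92603)) (tt N9545 (iv F94898)) (tt N6238 F66397) (tt N6236 F66398) (tt N9552 (iv F94933)) (tt N7784 F66399) (tt N8233 F203997) (tt N6235 (iv D15201)))
theorem Q7786 : ∀ i, i < 7786 → P i := stepQ 7785 Q7785 (allL N7785 (tt N8205 F203998) (tt N7785 F66404) (tt N9269 (iv F92611)) (tt N7785 F66405) (tt N9551 (iv F94928)) (tt N9470 (iv F94377)) (tt N7785 F66406) (tt N6237 (iv D15203)) (tt N6501 F66407) (tt N9553 D22131))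
theorem Q7787 : ∀ i, i < 7787 → P i := stepQ 7786 Q7786 (allL N7786 (tt N8206 F203999) (tt N7786 F66408) (tt N9270 (iv F92614)) (tt N7786 F66409) (tt N9552 (iv F94932)) (tt N9471 (iv F94381)) (tt N6238 F66410) (tt N9553 (iv F94946)) (tt N8235 F204000) (tt N6237 (iv D15204)))
theorem Q7788 : ∀ i, i < 7788 → P i := stepQ 7787 Q7787 (allL N7787 (tt N8036 (iv F204917)) (tt N6250 F66420) (tt N8033 (iv F204923)) (tt N6289 F204906) (tt N8030 (iv F204925)) (tt N7787 F66421) (tt N6240 F66422) (tt N7787 F66423) (tt N6239 (iv D15207)) (tt N9554 D22136))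
theorem Q7789 : ∀ i, i < 7789 → P i := stepQ 7788 Q7788 (allL N7788 (tt N9511 (iv F94752)) (tt N6251 F66424) (tt N9555 D22137) (tt N6240 (iv D15208)) (tt N9391 F204794) (tt N6243 F66425) (tt N6289 (iv F204848)) (tt N6241 F66426) (tt N6275 F66427) (tt N9556 D22139))
theorem Q7790 : ∀ i, i < 7790 → P i := stepQ 7789 Q7789 (allL N7789 (tt N9512 (iv F94757)) (tt N6252 F66428) (tt N9525 (iv F94819)) (tt N9556 (iv F94976)) (tt N9473 (iv F94400)) (tt N6244 F66429) (tt N9554 (iv F94966)) (tt N6242 F66430) (tt N7789 F66431) (tt N6240 (iv D15209)))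
theorem Q7791 : ∀ i, i < 7791 → P i := stepQ 7790 Q7790 (allL N7790 (tt N9513 (iv F94762)) (tt N9557 D22140) (tt N6241 (iv D15210)) (tt N9526 (iv F94823)) (tt N9558 D22141) (tt N6245 F66432) (tt N7790 F66433) (tt N9555 (iv F94970)) (tt N6276 F66434) (tt N9559 D22142))
theorem Q7792 : ∀ i, i < 7792 → P i := stepQ 7791 Q7791 (allL N7791 (tt N9514 (iv F94766)) (tt N6254 F66435) (tt N9558 (iv F94983)) (tt N9475 (iv F94408)) (tt N6241 (iv D15211)) (tt N9275 (iv F92635)) (tt N7791 F66436) (tt N9391 (iv F204721)) (tt N6277 F66437) (tt N9560 D22143))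
theorem Q7793 : ∀ i, i < 7793 → P i := stepQ 7792 Q7792 (allL N7792 (tt N9515 (iv F94770)) (tt N6255 F66438) (tt N9559 (iv F94986)) (tt N6242 F66439) (tt N9560 (iv F94990)) (tt N6246 F66440) (tt N7792 F66441) (tt N9556 (iv F94978)) (tt N9561 D22144) (tt N6241 (iv D15212)))
theorem Q7794 : ∀ i, i < 7794 → P i := stepQ 7793 Q7793 (allL N7793 (tt N9516 (iv F94775)) (tt N9562 D22145) (tt N6243 (iv D15213)) (tt N9529 (iv F94834)) (tt N9277 (iv F92640)) (tt N9555 (iv F94969)) (tt N7793 F66442) (tt N6245 F66443) (tt N6279 F66444) (tt N9563 D22146))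
theorem Q7795 : ∀ i, i < 7795 → P i := stepQ 7794 Q7794 (allL N7794 (tt N9517 (iv F94779)) (tt N6257 F66445) (tt N9563 (iv F95001)) (tt N6244 F66446) (tt N9278 (iv F92646)) (tt N9556 (iv F94977)) (tt N7794 F66447) (tt N6246 F66448) (tt N9564 D22147) (tt N6243 (iv D15214)))
theorem Q7796 : ∀ i, i < 7796 → P i := stepQ 7795 Q7795 (allL N7795 (tt N9565 D22148) (tt N6245 (iv D15215)) (tt N6258 F66449) (tt N9532 (iv F94848)) (tt N9279 (iv F92650)) (tt N9557 (iv F94980)) (tt N6247 F66450) (tt N9562 (iv F94999)) (tt N6281 F66451) (tt N9566 D22149))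
theorem Q7797 : ∀ i, i < 7797 → P i := stepQ 7796 Q7796 (allL N7796 (tt N9519 (iv F94787)) (tt N9566 (iv F95012)) (tt N6246 F66452) (tt N9534 (iv F94855)) (tt N9280 (iv F92654)) (tt N9559 (iv F94987)) (tt N6248 F66453) (tt N9563 (iv F95003)) (tt N9567 D22150) (tt N6245 (iv D15216)))
theorem Q7798 : ∀ i, i < 7798 → P i := stepQ 7797 Q7797 (allL N7797 (tt N9520 (iv F94790)) (tt N6260 F66454) (tt N9567 (iv F95015)) (tt N7797 F66455) (tt N9281 (iv F92657)) (tt N9561 (iv F94994)) (tt N6249 F66456) (tt N9564 (iv F95007)) (tt N6246 (iv D15217)) (tt N6283 F66457))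
theorem Q7799 : ∀ i, i < 7799 → P i := stepQ 7798 Q7798 (allL N7798 (tt N6247 (iv D15218)) (tt N9521 (iv F94795)) (tt N6261 F66458) (tt N9538 (iv F94869)) (tt N9282 (iv F92661)) (tt N7798 F66459) (tt N9565 (iv F95010)) (tt N7798 F66460) (tt N6284 F66461) (tt N9568 D22151))
theorem Q7800 : ∀ i, i < 7800 → P i := stepQ 7799 Q7799 (allL N7799 (tt N9568 (iv F95018)) (tt N6248 F66462) (tt N6262 F66463) (tt N9540 (iv F94879)) (tt N9283 (iv F92666)) (tt N7799 F66464) (tt N9566 (iv F95014)) (tt N7799 F66465) (tt N9569 D22152) (tt N6247 (iv D15219)))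
theorem Q7801 : ∀ i, i < 7801 → P i := stepQ 7800 Q7800 (allL N7800 (tt N9523 (iv F94804)) (tt N9569 (iv F95022)) (tt N6249 F66466) (tt N9570 D22153) (tt N9284 (iv F92669)) (tt N7800 F66467) (tt N9567 (iv F95016)) (tt N7800 F66468) (tt N6248 (iv D15220)) (tt N6286 F66469))
theorem Q7802 : ∀ i, i < 7802 → P i := stepQ 7801 Q7801 (allL N7801 (tt N7801 F66475) (tt N9554 (iv F94964)) (tt N7801 F66476) (tt N6263 F204933) (tt N9485 (iv F94444)) (tt N7801 F66477) (tt N6252 F66478) (tt N7801 F66479) (tt N7801 F66480) (tt N6250 (iv D15222)))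
theorem Q7803 : ∀ i, i < 7803 → P i := stepQ 7802 Q7802 (allL N7802 (tt N7802 F66489) (tt N9556 (iv F94975)) (tt N6260 F204855) (tt N6252 F66490) (tt N9300 F204856) (tt N6257 F66491) (tt N6263 (iv F204912)) (tt N6255 F66492) (tt N6259 F204857) (tt N6251 (iv D15225)))
theorem Q7804 : ∀ i, i < 7804 → P i := stepQ 7803 Q7803 (allL N7803 (tt N9571 D22162) (tt N6253 (iv D15226)) (tt N9557 (iv F94979)) (tt N7803 F66493) (tt N9381 F204788) (tt N6258 F66494) (tt N7803 F66495) (tt N6283 F204789) (tt N6280 F204790) (tt N9564 (iv F204846)))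
theorem Q7805 : ∀ i, i < 7805 → P i := stepQ 7804 Q7804 (allL N7804 (tt N7804 F66501) (tt N9564 F204866) (tt N6255 F66502) (tt N7804 F66503) (tt N9297 F204867) (tt N6259 F66504) (tt N7804 F66505) (tt N6260 F204868) (tt N6257 F204869) (tt N6253 (iv D15228)))
theorem Q7806 : ∀ i, i < 7806 → P i := stepQ 7805 Q7805 (allL N7805 (tt N7805 F66506) (tt N9560 (iv F94989)) (tt N9297 (iv F204816)) (tt N9491 (iv F94475)) (tt N6255 F66507) (tt N9293 (iv F92702)) (tt N7805 F66508) (tt N9300 (iv F204808)) (tt N9296 F204749) (tt N6254 (iv D15229)))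
theorem Q7807 : ∀ i, i < 7807 → P i := stepQ 7806 Q7806 (allL N7806 (tt N7806 F66509) (tt N9561 (iv F94992)) (tt N6257 (iv F204813)) (tt N7806 F66510) (tt N9296 F204747) (tt N6260 F66511) (tt N7806 F66512) (tt N6259 (iv F204828)) (tt N6255 (iv D15230)) (tt N6256 F204748))
theorem Q7808 : ∀ i, i < 7808 → P i := stepQ 7807 Q7807 (allL N7807 (tt N9572 D22169) (tt N6256 (iv D15231)) (tt N9562 (iv F94997)) (tt N7807 F66514) (tt N9295 (iv F92706)) (tt N6283 (iv F204710)) (tt N7807 F66515) (tt N6258 F66516) (tt N6278 F204640) (tt N9561 (iv F204719)))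
theorem Q7809 : ∀ i, i < 7809 → P i := stepQ 7808 Q7808 (allL N7808 (tt N6258 (iv D15234)) (tt N7808 F66528) (tt N9565 (iv F95009)) (tt N7808 F66529) (tt N9298 (iv F92721)) (tt N9571 (iv F95069)) (tt N6261 F66530) (tt N9572 (iv F95098)) (tt N6287 F66531) (tt N9573 D22172))
theorem Q7810 : ∀ i, i < 7810 → P i := stepQ 7809 Q7809 (allL N7809 (tt N9573 (iv F95109)) (tt N6259 F66532) (tt N9566 (iv F95013)) (tt N7809 F66533) (tt N9299 (iv F92725)) (tt N9564 (iv F204845)) (tt N6262 F66534) (tt N9561 F204793) (tt N9556 (iv F204850)) (tt N6258 (iv D15235)))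
theorem Q7811 : ∀ i, i < 7811 → P i := stepQ 7810 Q7810 (allL N7810 (tt N6262 F66539) (tt N7810 F66540) (tt N9568 (iv F95019)) (tt N7810 F66541) (tt N9301 (iv F92734)) (tt N7810 F66542) (tt N9573 (iv F95112)) (tt N7810 F66543) (tt N9574 D22175) (tt N6261 (iv D15237)))
theorem Q7812 : ∀ i, i < 7812 → P i := stepQ 7811 Q7811 (allL N7811 (tt N9574 (iv F95121)) (tt N6263 F66544) (tt N9569 (iv F95023)) (tt N9554 (iv F204927)) (tt N9302 (iv F92737)) (tt N7811 F66545) (tt N9556 F204907) (tt N7811 F66546) (tt N6262 (iv D15238)) (tt N6289 F66547))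
theorem Q7813 : ∀ i, i < 7813 → P i := stepQ 7812 Q7812 (allL N7812 (tt N6275 F66561) (tt N7812 F66562) (tt N9575 D22180) (tt N6265 (iv D15241)) (tt N9390 F204780) (tt N6268 F66563) (tt N6288 (iv F204843)) (tt N6266 F66564) (tt N9511 (iv F94756)) (tt N6287 F204781))
theorem Q7814 : ∀ i, i < 7814 → P i := stepQ 7813 Q7813 (allL N7813 (tt N6276 F66572) (tt N9576 D22183) (tt N6266 (iv D15243)) (tt N7813 F66573) (tt N9577 D22184) (tt N6270 F66574) (tt N7813 F66575) (tt N9575 (iv F95152)) (tt N9513 (iv F94765)) (tt N9578 D22185))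
theorem Q7815 : ∀ i, i < 7815 → P i := stepQ 7814 Q7814 (allL N7814 (tt N6277 F66576) (tt N7814 F66577) (tt N9577 (iv F95167)) (tt N7814 F66578) (tt N6266 (iv D15244)) (tt N9346 (iv F93382)) (tt N7814 F66579) (tt N9390 (iv F204706)) (tt N9514 (iv F94769)) (tt N9389 F204634))
theorem Q7816 : ∀ i, i < 7816 → P i := stepQ 7815 Q7815 (allL N7815 (tt N6278 F66580) (tt N7815 F66581) (tt N9578 (iv F95170)) (tt N6267 F66582) (tt N9389 F204632) (tt N6271 F66583) (tt N7815 F66584) (tt N6287 (iv F204703)) (tt N9572 (iv F204704)) (tt N6266 (iv D15245)))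
theorem Q7817 : ∀ i, i < 7817 → P i := stepQ 7816 Q7816 (allL N7816 (tt N6279 F66585) (tt N9579 D22188) (tt N6268 (iv D15246)) (tt N7816 F66586) (tt N9347 (iv F93388)) (tt N9575 (iv F95151)) (tt N7816 F66587) (tt N6270 F66588) (tt N9516 (iv F94778)) (tt N9580 D22189))
theorem Q7818 : ∀ i, i < 7818 → P i := stepQ 7817 Q7817 (allL N7817 (tt N6280 F66589) (tt N7817 F66590) (tt N9580 (iv F95189)) (tt N6269 F66591) (tt N8670 F204345) (tt N6287 F204778) (tt N7817 F66592) (tt N6271 F66593) (tt N9571 (iv F204842)) (tt N6268 (iv D15247)))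
theorem Q7819 : ∀ i, i < 7819 → P i := stepQ 7818 Q7818 (allL N7818 (tt N9581 D22191) (tt N6270 (iv D15248)) (tt N7818 F66594) (tt N7818 F66595) (tt N9348 (iv F93398)) (tt N9576 (iv F95164)) (tt N6272 F66596) (tt N9579 (iv F95187)) (tt N9518 (iv F94786)) (tt N9582 D22192))
theorem Q7820 : ∀ i, i < 7820 → P i := stepQ 7819 Q7819 (allL N7819 (tt N6282 F66597) (tt N9582 (iv F95202)) (tt N6271 F66598) (tt N7819 F66599) (tt N8671 F204501) (tt N9578 (iv F95172)) (tt N6273 F66600) (tt N9580 (iv F95192)) (tt N9583 D22193) (tt N6270 (iv D15249)))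
theorem Q7821 : ∀ i, i < 7821 → P i := stepQ 7820 Q7820 (allL N7820 (tt N6283 F66601) (tt N7820 F66602) (tt N9583 (iv F95207)) (tt N7820 F66603) (tt N8663 F204369) (tt N9572 F204779) (tt N6274 F66604) (tt N9571 (iv F204841)) (tt N6271 (iv D15250)) (tt N9520 (iv F94794)))
theorem Q7822 : ∀ i, i < 7822 → P i := stepQ 7821 Q7821 (allL N7821 (tt N6272 (iv D15251)) (tt N6284 F66605) (tt N7821 F66606) (tt N7821 F66607) (tt N9349 (iv F93410)) (tt N7821 F66608) (tt N9581 (iv F95201)) (tt N7821 F66609) (tt N9521 (iv F94799)) (tt N9584 D22194))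
theorem Q7823 : ∀ i, i < 7823 → P i := stepQ 7822 Q7822 (allL N7822 (tt N9584 (iv F95209)) (tt N6273 F66610) (tt N7822 F66611) (tt N7822 F66612) (tt N8672 F204522) (tt N7822 F66613) (tt N9582 (iv F95205)) (tt N7822 F66614) (tt N9585 D22195) (tt N6272 (iv D15252)))
theorem Q7824 : ∀ i, i < 7824 → P i := stepQ 7823 Q7823 (allL N7823 (tt N6286 F66615) (tt N9585 (iv F95215)) (tt N6274 F66616) (tt N9586 D22196) (tt N8665 F204370) (tt N7823 F66617) (tt N9583 (iv F95208)) (tt N7823 F66618) (tt N6273 (iv D15253)) (tt N9523 (iv F94808)))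
theorem Q7825 : ∀ i, i < 7825 → P i := stepQ 7824 Q7824 (allL N7824 (tt N9575 (iv F95149)) (tt N6282 F204759) (tt N6275 (iv D15256)) (tt N7824 F66630) (tt N9383 F204760) (tt N6279 F66631) (tt N6285 (iv F204833)) (tt N6276 F66632) (tt N9555 (iv F94971)) (tt N6281 F204761))
theorem Q7826 : ∀ i, i < 7826 → P i := stepQ 7825 Q7825 (allL N7825 (tt N9580 (iv F204829)) (tt N6276 (iv D15259)) (tt N6280 F204764) (tt N7825 F66641) (tt N9380 F204765) (tt N6281 F66642) (tt N7825 F66643) (tt N6282 F204766) (tt N9557 (iv F94982)) (tt N6279 F204767))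
theorem Q7827 : ∀ i, i < 7827 → P i := stepQ 7826 Q7826 (allL N7826 (tt N9577 (iv F95166)) (tt N9380 (iv F204695)) (tt N6277 F66644) (tt N9587 D22208) (tt N6276 (iv D15260)) (tt N9375 (iv F93538)) (tt N7826 F66645) (tt N9383 (iv F204692)) (tt N9558 (iv F94985)) (tt N9379 F204631))
theorem Q7828 : ∀ i, i < 7828 → P i := stepQ 7827 Q7827 (allL N7827 (tt N9578 (iv F95169)) (tt N6279 (iv F204694)) (tt N6278 F66646) (tt N7827 F66647) (tt N9379 F204630) (tt N6282 F66648) (tt N7827 F66649) (tt N6281 (iv F204701)) (tt N9562 (iv F204702)) (tt N6276 (iv D15261)))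
theorem Q7829 : ∀ i, i < 7829 → P i := stepQ 7828 Q7828 (allL N7828 (tt N6281 (iv D15267)) (tt N9581 (iv F95198)) (tt N6287 F66670) (tt N7828 F66671) (tt N9382 (iv F93560)) (tt N9580 (iv F204830)) (tt N6284 F66672) (tt N9578 F204753) (tt N9565 (iv F95011)) (tt N9575 (iv F204832)))
theorem Q7830 : ∀ i, i < 7830 → P i := stepQ 7829 Q7829 (allL N7829 (tt N9583 (iv F95206)) (tt N9555 (iv F204834)) (tt N6283 F66677) (tt N9588 D22217) (tt N9384 (iv F93567)) (tt N9562 F204771) (tt N6286 F66678) (tt N9557 (iv F204837)) (tt N6282 (iv D15269)) (tt N9567 (iv F95017)))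
theorem Q7831 : ∀ i, i < 7831 → P i := stepQ 7830 Q7830 (allL N7830 (tt N6285 F66679) (tt N9584 (iv F95210)) (tt N6288 F66680) (tt N7830 F66681) (tt N9385 (iv F93571)) (tt N7830 F66682) (tt N9575 F204883) (tt N7830 F66683) (tt N9589 D22218) (tt N6284 (iv D15270)))
theorem Q7832 : ∀ i, i < 7832 → P i := stepQ 7831 Q7831 (allL N7831 (tt N9589 (iv F95301)) (tt N6286 F66684) (tt N6289 F66685) (tt N9590 D22219) (tt N9386 (iv F93575)) (tt N7831 F66686) (tt N9555 F204886) (tt N7831 F66687) (tt N6285 (iv D15271)) (tt N9569 (iv F95026)))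
theorem Q7833 : ∀ i, i < 7833 → P i := stepQ 7832 Q7832 (allL N7832 (tt N9586 (iv F95219)) (tt N9590 (iv F95305)) (tt N7832 F66688) (tt N6286 (iv D15272)) (tt N9591 D22220) (tt N7832 F66689) (tt N9588 (iv F95299)) (tt N7832 F66690) (tt N7832 F66691) (tt N9570 (iv F95030)))
theorem Q7834 : ∀ i, i < 7834 → P i := stepQ 7833 Q7833 (allL N7833 (tt N6289 F66772) (tt N7833 F66773) (tt N9589 (iv F95302)) (tt N8036 F204010) (tt N9393 (iv F93659)) (tt N7833 F66774) (tt N9511 F204901) (tt N7833 F66775) (tt N6288 (iv D15294)) (tt N9574 (iv F95125)))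
theorem Q7835 : ∀ i, i < 7835 → P i := stepQ 7834 Q7834 (allL N7834 (tt N6526 F66956) (tt N7834 F66957) (tt N9592 D22298) (tt N6290 (iv D15330)) (tt N7834 F66958) (tt N7834 F66959) (tt N7834 F66960) (tt N7834 F66961) (tt N7834 F66962) (tt N7834 F195453))
theorem Q7836 : ∀ i, i < 7836 → P i := stepQ 7835 Q7835 (allL N7835 (tt N8754 F196133) (tt N7835 F67975) (tt N6340 F67976) (tt N6315 (iv D15556)) (tt N8731 (iv F89636)) (tt N7835 F67977) (tt N6494 (iv F201713)) (tt N6481 F201462) (tt N9407 (iv F201894)) (tt N8768 (iv F196367)))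
theorem Q7837 : ∀ i, i < 7837 → P i := stepQ 7836 Q7836 (allL N7836 (tt N6326 F196189) (tt N6382 F68240) (tt N6319 F68241) (tt N8762 (iv F196371)) (tt N6318 (iv D15615)) (tt N7836 F68242) (tt N6322 F196190) (tt N6330 F68243) (tt N6385 F200712) (tt N6325 F68244))
theorem Q7838 : ∀ i, i < 7838 → P i := stepQ 7837 Q7837 (allL N7837 (tt N6325 (iv F196025)) (tt N6383 F68245) (tt N6320 F68246) (tt N8749 (iv F89849)) (tt N6322 (iv F196037)) (tt N7837 F68247) (tt N6318 (iv D15616)) (tt N6335 (iv F196035)) (tt N6386 F200697) (tt N6326 F68248))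
theorem Q7839 : ∀ i, i < 7839 → P i := stepQ 7838 Q7838 (allL N7838 (tt N6384 (iv F200448)) (tt N6322 F68315) (tt N6329 F200704) (tt N8759 (iv F89916)) (tt N6383 F196215) (tt N6321 (iv D15632)) (tt N6382 (iv F196465)) (tt N6334 F68317) (tt N6378 F200705) (tt N6327 F200706))
theorem Q7840 : ∀ i, i < 7840 → P i := stepQ 7839 Q7839 (allL N7839 (tt N6327 F68331) (tt N6378 (iv F200449)) (tt N6324 F68332) (tt N8970 (iv F200636)) (tt N6386 (iv F200633)) (tt N6323 F68333) (tt N6385 (iv F200634)) (tt N6337 F68334) (tt N6322 (iv D15636)) (tt N6384 (iv F200443)))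
theorem Q7841 : ∀ i, i < 7841 → P i := stepQ 7840 Q7840 (allL N7840 (tt N8749 F196138) (tt N6387 F68367) (tt N6481 (iv F201069)) (tt N6325 (iv D15644)) (tt N8771 (iv F89966)) (tt N7840 F68368) (tt N6388 (iv F201052)) (tt N6340 F68369) (tt N9021 (iv F201071)) (tt N8762 (iv F196372)))
theorem Q7842 : ∀ i, i < 7842 → P i := stepQ 7841 Q7841 (allL N7841 (tt N8970 F200724) (tt N6388 F68386) (tt N7841 F68387) (tt N6327 (iv D15649)) (tt N9013 (iv F201072)) (tt N6328 F68388) (tt N6387 F200725) (tt N6345 F68389) (tt N8775 (iv F89988)) (tt N8759 (iv F201046)))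
theorem Q7843 : ∀ i, i < 7843 → P i := stepQ 7842 Q7842 (allL N7842 (tt N8286 F200766) (tt N6389 F68394) (tt N7842 F68395) (tt N7842 F68396) (tt N6328 (iv D15651)) (tt N9593 D22784) (tt N7842 F68397) (tt N6346 F68398) (tt N8777 (iv F89997)) (tt N8115 (iv F201125)))
theorem Q7844 : ∀ i, i < 7844 → P i := stepQ 7843 Q7843 (allL N7843 (tt N6404 F201399) (tt N6394 F68681) (tt N8768 F196643) (tt N6330 (iv D15721)) (tt N8795 (iv F90218)) (tt N7843 F68682) (tt N8820 (iv F197036)) (tt N8762 F196644) (tt N9594 D22889) (tt N6340 F68683))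
theorem Q7845 : ∀ i, i < 7845 → P i := stepQ 7844 Q7844 (allL N7844 (tt N6343 F196718) (tt N6395 F68684) (tt N6332 F68685) (tt N8820 (iv F197035)) (tt N6331 F68686) (tt N6359 (iv F197150)) (tt N6330 (iv D15722)) (tt N6336 F196719) (tt N6400 (iv F201057)) (tt N6341 F68687))
theorem Q7846 : ∀ i, i < 7846 → P i := stepQ 7845 Q7845 (allL N7845 (tt N6341 (iv F196458)) (tt N6397 F68692) (tt N6333 F68693) (tt N8798 (iv F90229)) (tt N6336 (iv F196477)) (tt N6351 F68694) (tt N6335 F196209) (tt N6331 (iv D15724)) (tt N6401 (iv F201021)) (tt N6343 F68695))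
theorem Q7847 : ∀ i, i < 7847 → P i := stepQ 7846 Q7846 (allL N7846 (tt N6396 (iv F201026)) (tt N6335 F68768) (tt N6347 F200698) (tt N8983 (iv F196404)) (tt N6334 (iv D15745)) (tt N7846 F68770) (tt N6397 (iv F196476)) (tt N6383 F196212) (tt N6390 (iv F201017)) (tt N6342 F200699))
theorem Q7848 : ∀ i, i < 7848 → P i := stepQ 7847 Q7847 (allL N7847 (tt N6398 (iv F201060)) (tt N6336 F68772) (tt N6348 F201423) (tt N8814 (iv F90304)) (tt N6397 F196765) (tt N6355 F68774) (tt N6334 (iv D15746)) (tt N6395 (iv F197157)) (tt N6391 (iv F201059)) (tt N6344 F201424))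
theorem Q7849 : ∀ i, i < 7849 → P i := stepQ 7848 Q7848 (allL N7848 (tt N6340 F68787) (tt N8983 (iv F196403)) (tt N8754 F196152) (tt N6335 (iv D15750)) (tt N8817 (iv F90319)) (tt N7848 F68788) (tt N8798 (iv F196401)) (tt N8749 F196153) (tt N9595 D22933) (tt N6404 F201362))
theorem Q7850 : ∀ i, i < 7850 → P i := stepQ 7849 Q7849 (allL N7849 (tt N6342 F68792) (tt N6390 (iv F201016)) (tt N6338 F68793) (tt N9003 (iv F201018)) (tt N6337 F68794) (tt N7849 F68795) (tt N6401 (iv F201020)) (tt N6386 F200691) (tt N6335 (iv D15752)) (tt N6396 (iv F201023)))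
theorem Q7851 : ∀ i, i < 7851 → P i := stepQ 7850 Q7850 (allL N7850 (tt N6344 F68799) (tt N6391 (iv F201058)) (tt N6339 F68800) (tt N9047 (iv F201335)) (tt N6401 (iv F201019)) (tt N6360 F68801) (tt N6337 F68802) (tt N6400 (iv F201056)) (tt N6336 (iv D15754)) (tt N6398 (iv F201047)))
theorem Q7852 : ∀ i, i < 7852 → P i := stepQ 7851 Q7851 (allL N7851 (tt N8798 F196637) (tt N6402 F68846) (tt N6494 (iv F201712)) (tt N6341 F68847) (tt N8832 (iv F90377)) (tt N6433 (iv F201846)) (tt N6340 (iv D15766)) (tt N6405 (iv F201822)) (tt N9123 (iv F201730)) (tt N8820 (iv F197037)))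
theorem Q7853 : ∀ i, i < 7853 → P i := stepQ 7852 Q7852 (allL N7852 (tt N9595 (iv F98372)) (tt N6403 F68848) (tt N9407 (iv F201893)) (tt N9020 F201463) (tt N8833 (iv F90379)) (tt N7852 F68849) (tt N9123 (iv F201729)) (tt N9021 F201464) (tt N6340 (iv D15767)) (tt N9596 D22959))
theorem Q7854 : ∀ i, i < 7854 → P i := stepQ 7853 Q7853 (allL N7853 (tt N9047 F201460) (tt N6405 F68871) (tt N7853 F68872) (tt N6344 (iv D15774)) (tt N9111 (iv F201890)) (tt N6371 F68873) (tt N6345 F68874) (tt N6402 F201461) (tt N8840 (iv F90402)) (tt N8814 (iv F201820)))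
theorem Q7855 : ∀ i, i < 7855 → P i := stepQ 7854 Q7854 (allL N7854 (tt N9046 F201465) (tt N6406 F68879) (tt N7854 F68880) (tt N9016 F201466) (tt N6345 (iv D15776)) (tt N9597 D22972) (tt N9111 (iv F201891)) (tt N9013 F201467) (tt N8842 (iv F90409)) (tt N8813 F201468))
theorem Q7856 : ∀ i, i < 7856 → P i := stepQ 7855 Q7855 (allL N7855 (tt N8372 F201541) (tt N6407 F68885) (tt N7855 F68886) (tt N7855 F68887) (tt N9597 (iv F98510)) (tt N6346 (iv D15778)) (tt N9598 D22975) (tt N9593 (iv F97796)) (tt N8844 (iv F90416)) (tt N8156 F201542))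
theorem Q7857 : ∀ i, i < 7857 → P i := stepQ 7856 Q7856 (allL N7856 (tt N6431 (iv F202721)) (tt N6413 F69329) (tt N7856 F69330) (tt N6350 F69331) (tt N8870 (iv F90749)) (tt N9599 D23127) (tt N6349 (iv D15882)) (tt N9600 D23128) (tt N9601 D23129) (tt N6364 F69332))
theorem Q7858 : ∀ i, i < 7858 → P i := stepQ 7857 Q7857 (allL N7857 (tt N6429 (iv F202849)) (tt N6414 F69333) (tt N7857 F69334) (tt N6423 (iv F202845)) (tt N8871 (iv F90753)) (tt N7857 F69335) (tt N9601 (iv F99168)) (tt N7857 F69336) (tt N6349 (iv D15883)) (tt N9602 D23131))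
theorem Q7859 : ∀ i, i < 7859 → P i := stepQ 7858 Q7858 (allL N7858 (tt N6367 F197467) (tt N6415 F69337) (tt N6352 F69338) (tt N9599 (iv F99158)) (tt N6359 F197468) (tt N6350 (iv D15884)) (tt N7858 F69339) (tt N6357 F197469) (tt N6424 (iv F201878)) (tt N6366 F69340))
theorem Q7860 : ∀ i, i < 7860 → P i := stepQ 7859 Q7859 (allL N7859 (tt N6366 (iv F197149)) (tt N6416 F69341) (tt N6353 F69342) (tt N9600 (iv F99163)) (tt N6351 F69343) (tt N6357 (iv F197167)) (tt N7859 F69344) (tt N6350 (iv D15885)) (tt N6425 (iv F201834)) (tt N6367 F69345))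
theorem Q7861 : ∀ i, i < 7861 → P i := stepQ 7860 Q7860 (allL N7860 (tt N6418 (iv F202061)) (tt N6356 F69465) (tt N9603 D23175) (tt N6354 (iv D15916)) (tt N8898 (iv F90874)) (tt N7860 F69466) (tt N9604 D23176) (tt N7860 F69467) (tt N9605 D23177) (tt N6369 F202393))
theorem Q7862 : ∀ i, i < 7862 → P i := stepQ 7861 Q7861 (allL N7861 (tt N6417 (iv F201886)) (tt N6357 F69469) (tt N6374 F202285) (tt N9604 (iv F99350)) (tt N6355 F69471) (tt N6416 F197508) (tt N6354 (iv D15917)) (tt N6415 (iv F197945)) (tt N6409 (iv F201885)) (tt N6368 F202286))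
theorem Q7863 : ∀ i, i < 7863 → P i := stepQ 7862 Q7862 (allL N7862 (tt N6419 (iv F201830)) (tt N6359 F69479) (tt N6377 F201443) (tt N8901 (iv F90888)) (tt N6415 (iv F197944)) (tt N6395 F197464) (tt N7862 F69481) (tt N6355 (iv D15919)) (tt N6410 (iv F201826)) (tt N6370 F201444))
theorem Q7864 : ∀ i, i < 7864 → P i := stepQ 7863 Q7863 (allL N7863 (tt N6364 F69507) (tt N9604 (iv F99349)) (tt N7863 F69508) (tt N6357 F69509) (tt N8904 (iv F90920)) (tt N9600 F197509) (tt N6356 (iv D15926)) (tt N9599 (iv F197949)) (tt N9606 D23196) (tt N6431 (iv F202724)))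
theorem Q7865 : ∀ i, i < 7865 → P i := stepQ 7864 Q7864 (allL N7864 (tt N6365 F69510) (tt N9605 (iv F99352)) (tt N7864 F69511) (tt N9607 D23197) (tt N8905 (iv F90923)) (tt N7864 F69512) (tt N9606 (iv F99435)) (tt N7864 F69513) (tt N6356 (iv D15927)) (tt N9608 D23198))
theorem Q7866 : ∀ i, i < 7866 → P i := stepQ 7865 Q7865 (allL N7865 (tt N6368 F69521) (tt N6409 (iv F201884)) (tt N6361 F69522) (tt N9609 D23202) (tt N6360 F69523) (tt N6425 (iv F201833)) (tt N6358 F69524) (tt N6424 (iv F201877)) (tt N6357 (iv D15930)) (tt N6417 (iv F201860)))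
theorem Q7867 : ∀ i, i < 7867 → P i := stepQ 7866 Q7866 (allL N7866 (tt N6369 F69525) (tt N6408 (iv F202060)) (tt N8621 (iv F202171)) (tt N6358 (iv D15931)) (tt N8633 (iv F202174)) (tt N7866 F69526) (tt N9609 (iv F99457)) (tt N7866 F69527) (tt N9607 (iv F99439)) (tt N6418 (iv F202048)))
theorem Q7868 : ∀ i, i < 7868 → P i := stepQ 7867 Q7867 (allL N7867 (tt N6370 F69533) (tt N6410 (iv F201825)) (tt N6363 F69534) (tt N9157 (iv F201875)) (tt N6424 (iv F201876)) (tt N6400 F201454) (tt N7867 F69535) (tt N6360 F69536) (tt N6359 (iv D15933)) (tt N6419 (iv F201824)))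
theorem Q7869 : ∀ i, i < 7869 → P i := stepQ 7868 Q7868 (allL N7868 (tt N6375 F69585) (tt N6532 (iv F202176)) (tt N6362 (iv D15946)) (tt N8621 (iv F202172)) (tt N7868 F69586) (tt N7868 F69587) (tt N6469 (iv F202154)) (tt N7868 F69588) (tt N7868 F69589) (tt N6421 (iv F202075)))
theorem Q7870 : ∀ i, i < 7870 → P i := stepQ 7869 Q7869 (allL N7869 (tt N9600 F197466) (tt N6426 F69601) (tt N7869 F69602) (tt N6366 F69603) (tt N9610 D23228) (tt N6364 (iv D15949)) (tt N7869 F69604) (tt N6431 (iv F202723)) (tt N9611 D23230) (tt N9599 (iv F99160)))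
theorem Q7871 : ∀ i, i < 7871 → P i := stepQ 7870 Q7870 (allL N7870 (tt N9599 (iv F197948)) (tt N6427 F69605) (tt N7870 F69606) (tt N6367 F69607) (tt N8925 (iv F91014)) (tt N6431 (iv F202722)) (tt N7870 F69608) (tt N6364 (iv D15950)) (tt N9612 D23231) (tt N9600 (iv F99165)))
theorem Q7872 : ∀ i, i < 7872 → P i := stepQ 7871 Q7871 (allL N7871 (tt N9606 (iv F99433)) (tt N6428 F69609) (tt N7871 F69610) (tt N9613 D23232) (tt N8926 (iv F91018)) (tt N9611 (iv F99576)) (tt N6365 F69611) (tt N9612 (iv F99581)) (tt N6364 (iv D15951)) (tt N9614 D23233))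
theorem Q7873 : ∀ i, i < 7873 → P i := stepQ 7872 Q7872 (allL N7872 (tt N9607 (iv F99436)) (tt N6429 F69612) (tt N9615 D23234) (tt N6365 (iv D15952)) (tt N9616 D23235) (tt N7872 F69613) (tt N9613 (iv F99583)) (tt N7872 F69614) (tt N6369 F69615) (tt N9617 D23236))
theorem Q7874 : ∀ i, i < 7874 → P i := stepQ 7873 Q7873 (allL N7873 (tt N9608 (iv F99440)) (tt N6430 F69616) (tt N7873 F69617) (tt N9617 (iv F99597)) (tt N8928 (iv F91025)) (tt N7873 F69618) (tt N9614 (iv F99587)) (tt N7873 F69619) (tt N9602 (iv F99177)) (tt N6365 (iv D15953)))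
theorem Q7875 : ∀ i, i < 7875 → P i := stepQ 7874 Q7874 (allL N7874 (tt N9609 (iv F99456)) (tt N6431 F69632) (tt N6471 (iv F202768)) (tt N6368 (iv D15957)) (tt N9618 D23244) (tt N6427 F202316) (tt N6369 F69633) (tt N6426 F202317) (tt N9613 (iv F99584)) (tt N9604 (iv F202720)))
theorem Q7876 : ∀ i, i < 7876 → P i := stepQ 7875 Q7875 (allL N7875 (tt N8621 (iv F202170)) (tt N7875 F69638) (tt N6369 (iv D15959)) (tt N6375 F69639) (tt N8645 (iv F202180)) (tt N7875 F69640) (tt N6471 (iv F202769)) (tt N7875 F69641) (tt N9615 (iv F99592)) (tt N9603 (iv F202867)))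
theorem Q7877 : ∀ i, i < 7877 → P i := stepQ 7876 Q7876 (allL N7876 (tt N8633 (iv F202173)) (tt N6432 F69642) (tt N8645 (iv F202179)) (tt N6372 F69643) (tt N6369 (iv D15960)) (tt N9317 (iv F202178)) (tt N9618 (iv F99628)) (tt N7876 F69644) (tt N9616 (iv F99595)) (tt N8898 (iv F202830)))
theorem Q7878 : ∀ i, i < 7878 → P i := stepQ 7877 Q7877 (allL N7877 (tt N9157 (iv F201874)) (tt N6433 F69649) (tt N7877 F69650) (tt N6370 (iv D15962)) (tt N9619 D23251) (tt N6402 F201691) (tt N7877 F69651) (tt N6371 F69652) (tt N8937 (iv F91056)) (tt N8901 (iv F201859)))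
theorem Q7879 : ∀ i, i < 7879 → P i := stepQ 7878 Q7878 (allL N7878 (tt N9156 F202318) (tt N6434 F69657) (tt N7878 F69658) (tt N9618 (iv F99627)) (tt N6371 (iv D15964)) (tt N9620 D23253) (tt N6372 F69659) (tt N9619 (iv F99655)) (tt N8939 (iv F91064)) (tt N8899 (iv F202710)))
theorem Q7880 : ∀ i, i < 7880 → P i := stepQ 7879 Q7879 (allL N7879 (tt N8492 F202394) (tt N6435 F69664) (tt N7879 F69665) (tt N9317 (iv F202177)) (tt N6373 F69666) (tt N6372 (iv D15966)) (tt N9621 D23256) (tt N7879 F69667) (tt N8941 (iv F91073)) (tt N8215 (iv F202829)))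
theorem Q7881 : ∀ i, i < 7881 → P i := stepQ 7880 Q7880 (allL N7880 (tt N8493 F202395) (tt N6436 F69676) (tt N7880 F69677) (tt N7880 F69678) (tt N9621 (iv F99672)) (tt N9598 (iv F98520)) (tt N6373 (iv D15969)) (tt N9622 D23259) (tt N8943 (iv F91085)) (tt N8216 F202396))
theorem Q7882 : ∀ i, i < 7882 → P i := stepQ 7881 Q7881 (allL N7881 (tt N6421 (iv F202074)) (tt N7881 F69719) (tt N6376 F69720) (tt N9603 (iv F202866)) (tt N7881 F69721) (tt N7881 F69722) (tt N6450 (iv F202782)) (tt N7881 F69723) (tt N6444 (iv F202181)) (tt N6375 (iv D15980)))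
theorem Q7883 : ∀ i, i < 7883 → P i := stepQ 7882 Q7882 (allL N7882 (tt N6382 F69773) (tt N6386 F196724) (tt N6379 F69774) (tt N8999 (iv F197061)) (tt N6378 (iv D15991)) (tt N7882 F69775) (tt N6384 F200700) (tt N6390 F69776) (tt N6383 F200701) (tt N6385 F69777))
theorem Q7884 : ∀ i, i < 7884 → P i := stepQ 7883 Q7883 (allL N7883 (tt N6383 F69778) (tt N6385 (iv F196464)) (tt N6380 F69779) (tt N8972 (iv F91208)) (tt N6384 F200692) (tt N7883 F69780) (tt N6378 (iv D15992)) (tt N6396 (iv F201028)) (tt N6382 F200693) (tt N6386 F69781))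
theorem Q7885 : ∀ i, i < 7885 → P i := stepQ 7884 Q7884 (allL N7884 (tt N8999 (iv F197060)) (tt N8762 F196649) (tt N7884 F69823) (tt N6382 (iv D16001)) (tt N8980 (iv F91252)) (tt N7884 F69824) (tt N8759 F196650) (tt N6394 F69825) (tt N9623 D23303) (tt N6387 F69826))
theorem Q7886 : ∀ i, i < 7886 → P i := stepQ 7885 Q7885 (allL N7885 (tt N6387 F69945) (tt N8972 F196648) (tt N7885 F69946) (tt N6385 (iv D16030)) (tt N9000 (iv F91370)) (tt N7885 F69947) (tt N8970 (iv F197015)) (tt N6399 F69948) (tt N9624 D23347) (tt N8999 (iv F197062)))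
theorem Q7887 : ∀ i, i < 7887 → P i := stepQ 7886 Q7886 (allL N7886 (tt N9624 (iv F100067)) (tt N9021 (iv F201070)) (tt N7886 F70021) (tt N8774 (iv F201010)) (tt N9014 (iv F91444)) (tt N7886 F70022) (tt N8775 (iv F201011)) (tt N6403 F70023) (tt N6387 (iv D16047)) (tt N9625 D23373))
theorem Q7888 : ∀ i, i < 7888 → P i := stepQ 7887 Q7887 (allL N7887 (tt N8748 F201390) (tt N9013 F201391) (tt N6482 F70049) (tt N8772 F201392) (tt N6388 (iv D16056)) (tt N9626 D23386) (tt N8771 F201393) (tt N6406 F70050) (tt N9023 (iv F91471)) (tt N8761 F201394))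
theorem Q7889 : ∀ i, i < 7889 → P i := stepQ 7888 Q7888 (allL N7888 (tt N8103 F201534) (tt N9593 (iv F97793)) (tt N6483 F70055) (tt N7888 F70056) (tt N9626 (iv F100219)) (tt N6389 (iv D16058)) (tt N9627 D23389) (tt N6407 F70057) (tt N9025 (iv F91478)) (tt N8116 F201535))
theorem Q7890 : ∀ i, i < 7890 → P i := stepQ 7889 Q7889 (allL N7889 (tt N6394 F70165) (tt N9003 F197401) (tt N7889 F70166) (tt N6390 (iv D16085)) (tt N9048 (iv F91579)) (tt N7889 F70167) (tt N9092 (iv F197882)) (tt N8999 F197402) (tt N9628 D23428) (tt N6399 F70168))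
theorem Q7891 : ∀ i, i < 7891 → P i := stepQ 7890 Q7890 (allL N7890 (tt N6395 F70169) (tt N6401 F197475) (tt N6392 F70170) (tt N9092 (iv F197881)) (tt N6391 F70171) (tt N6419 (iv F201832)) (tt N6390 (iv D16086)) (tt N6398 F201410) (tt N6397 F201411) (tt N6400 F70172))
theorem Q7892 : ∀ i, i < 7892 → P i := stepQ 7891 Q7891 (allL N7891 (tt N6397 F70177) (tt N6400 (iv F197156)) (tt N6393 F70178) (tt N9051 (iv F91590)) (tt N6398 F201407) (tt N6410 F70179) (tt N6396 F201408) (tt N6391 (iv D16088)) (tt N6395 F201409) (tt N6401 F70180))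
theorem Q7893 : ∀ i, i < 7893 → P i := stepQ 7892 Q7892 (allL N7892 (tt N9092 (iv F197880)) (tt N8820 F197394) (tt N7892 F70236) (tt N6395 F70237) (tt N9061 (iv F91648)) (tt N8901 (iv F197869)) (tt N6394 (iv D16101)) (tt N8814 F197395) (tt N9629 D23452) (tt N6402 F70238))
theorem Q7894 : ∀ i, i < 7894 → P i := stepQ 7893 Q7893 (allL N7893 (tt N9628 (iv F100385)) (tt N9594 (iv F98217)) (tt N7893 F70239) (tt N9630 D23453) (tt N9062 (iv F91651)) (tt N7893 F70240) (tt N9629 (iv F100487)) (tt N9623 (iv F99890)) (tt N6394 (iv D16102)) (tt N9631 D23454))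
theorem Q7895 : ∀ i, i < 7895 → P i := stepQ 7894 Q7894 (allL N7894 (tt N8983 F201364) (tt N6399 F201365) (tt N8977 F201366) (tt N6396 (iv D16106)) (tt N9090 (iv F201719)) (tt N7894 F70251) (tt N9051 (iv F201720)) (tt N8972 F201367) (tt N9630 (iv F100489)) (tt N9003 F201368))
theorem Q7896 : ∀ i, i < 7896 → P i := stepQ 7895 Q7895 (allL N7895 (tt N6402 F70387) (tt N9051 F197393) (tt N7895 F70388) (tt N6400 F70389) (tt N9093 (iv F91793)) (tt N9157 (iv F197866)) (tt N6399 (iv D16145)) (tt N9047 (iv F197846)) (tt N9632 D23519) (tt N9092 (iv F197883)))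
theorem Q7897 : ∀ i, i < 7897 → P i := stepQ 7896 Q7896 (allL N7896 (tt N6403 F70390) (tt N9630 (iv F201722)) (tt N7896 F70391) (tt N9594 (iv F201806)) (tt N9094 (iv F91796)) (tt N7896 F70392) (tt N9632 (iv F100712)) (tt N9624 (iv F100070)) (tt N6399 (iv D16146)) (tt N9633 D23521))
theorem Q7898 : ∀ i, i < 7898 → P i := stepQ 7897 Q7897 (allL N7897 (tt N9632 (iv F100710)) (tt N9123 (iv F201728)) (tt N7897 F70481) (tt N8839 (iv F201717)) (tt N9112 (iv F91882)) (tt N8937 (iv F202116)) (tt N6403 F70482) (tt N8840 (iv F201810)) (tt N6402 (iv D16170)) (tt N9634 D23556))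
theorem Q7899 : ∀ i, i < 7899 → P i := stepQ 7898 Q7898 (allL N7898 (tt N9594 (iv F201805)) (tt N9020 F201401) (tt N8784 (iv F201695)) (tt N6403 (iv D16171)) (tt N9635 D23558) (tt N7898 F70483) (tt N8839 (iv F201718)) (tt N8774 F201402) (tt N6404 F70484) (tt N9636 D23559))
theorem Q7900 : ∀ i, i < 7900 → P i := stepQ 7899 Q7899 (allL N7899 (tt N9633 (iv F100716)) (tt N9596 (iv F98464)) (tt N7899 F70485) (tt N9636 (iv F100854)) (tt N9114 (iv F91886)) (tt N7899 F70486) (tt N9634 (iv F100849)) (tt N9625 (iv F100180)) (tt N9631 (iv F100492)) (tt N6403 (iv D16172)))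
theorem Q7901 : ∀ i, i < 7901 → P i := stepQ 7900 Q7900 (allL N7900 (tt N8795 F201396) (tt N9016 F201397) (tt N8780 (iv F201694)) (tt N6406 F70503) (tt N6404 (iv D16179)) (tt N9637 D23572) (tt N8835 (iv F201716)) (tt N8772 F201398) (tt N9635 (iv F100853)) (tt N8817 (iv F201689)))
theorem Q7902 : ∀ i, i < 7902 → P i := stepQ 7901 Q7901 (allL N7901 (tt N8796 F202108) (tt N9111 F202109) (tt N6495 F70512) (tt N8835 F202110) (tt N6405 (iv D16183)) (tt N9638 D23577) (tt N6406 F70513) (tt N8832 F202111) (tt N9125 (iv F91912)) (tt N8818 F202112))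
theorem Q7903 : ∀ i, i < 7903 → P i := stepQ 7902 Q7902 (allL N7902 (tt N8139 F202260) (tt N9597 (iv F98508)) (tt N6496 F70518) (tt N9637 (iv F100886)) (tt N6407 F70519) (tt N6406 (iv D16185)) (tt N9639 D23580) (tt N9626 (iv F100220)) (tt N9127 (iv F91919)) (tt N8158 F202261))
theorem Q7904 : ∀ i, i < 7904 → P i := stepQ 7903 Q7903 (allL N7903 (tt N8140 F202387) (tt N9598 (iv F98517)) (tt N6497 F70524) (tt N7903 F70525) (tt N9639 (iv F100906)) (tt N6436 F70526) (tt N6407 (iv D16188)) (tt N9640 D23583) (tt N9129 (iv F91927)) (tt N8159 F202388))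
theorem Q7905 : ∀ i, i < 7905 → P i := stepQ 7904 Q7904 (allL N7904 (tt N6413 F70666) (tt N9609 F202311) (tt N6437 F70667) (tt N6409 F70668) (tt N8632 (iv F202731)) (tt N9641 D23635) (tt N6408 (iv D16225)) (tt N9642 D23636) (tt N9643 D23637) (tt N6422 F70669))
theorem Q7906 : ∀ i, i < 7906 → P i := stepQ 7905 Q7905 (allL N7905 (tt N6414 F70670) (tt N9607 F202461) (tt N6438 F70671) (tt N9605 F202462) (tt N8529 (iv F202933)) (tt N7905 F70672) (tt N9643 (iv F101124)) (tt N7905 F70673) (tt N6408 (iv D16226)) (tt N9644 D23639))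
theorem Q7907 : ∀ i, i < 7907 → P i := stepQ 7906 Q7906 (allL N7906 (tt N6415 F70674) (tt N6425 F198290) (tt N6411 F70675) (tt N9641 (iv F101114)) (tt N6419 F202275) (tt N6409 (iv D16227)) (tt N7906 F70676) (tt N6417 F202276) (tt N6416 F202277) (tt N6424 F70677))
theorem Q7908 : ∀ i, i < 7908 → P i := stepQ 7907 Q7907 (allL N7907 (tt N6416 F70678) (tt N6424 (iv F197941)) (tt N6412 F70679) (tt N9642 (iv F101119)) (tt N6410 F70680) (tt N6417 F202278) (tt N7907 F70681) (tt N6409 (iv D16228)) (tt N6415 F202279) (tt N6425 F70682))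
theorem Q7909 : ∀ i, i < 7909 → P i := stepQ 7908 Q7908 (allL N7908 (tt N9641 (iv F101112)) (tt N9599 (iv F99156)) (tt N6445 F70770) (tt N6415 F70771) (tt N9645 D23668) (tt N6413 (iv D16248)) (tt N7908 F70772) (tt N9604 F198294) (tt N9646 D23670) (tt N6426 F70773))
theorem Q7910 : ∀ i, i < 7910 → P i := stepQ 7909 Q7909 (allL N7909 (tt N9642 (iv F101117)) (tt N9600 (iv F99161)) (tt N6446 F70774) (tt N6416 F70775) (tt N9171 (iv F92162)) (tt N9604 (iv F197966)) (tt N7909 F70776) (tt N6413 (iv D16249)) (tt N9647 D23671) (tt N6427 F70777))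
theorem Q7911 : ∀ i, i < 7911 → P i := stepQ 7910 Q7910 (allL N7910 (tt N9643 (iv F101122)) (tt N9601 (iv F99166)) (tt N6447 F70778) (tt N9648 D23672) (tt N9172 (iv F92166)) (tt N9646 (iv F101267)) (tt N6414 F70779) (tt N9647 (iv F101271)) (tt N6413 (iv D16250)) (tt N9649 D23673))
theorem Q7912 : ∀ i, i < 7912 → P i := stepQ 7911 Q7911 (allL N7911 (tt N9605 F202463) (tt N6423 (iv F202844)) (tt N9650 D23674) (tt N6414 (iv D16251)) (tt N9213 (iv F202947)) (tt N7911 F70780) (tt N9648 (iv F101272)) (tt N7911 F70781) (tt N6418 F70782) (tt N9651 D23676))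
theorem Q7913 : ∀ i, i < 7913 → P i := stepQ 7912 Q7912 (allL N7912 (tt N9644 (iv F101129)) (tt N9602 (iv F99173)) (tt N6449 F70783) (tt N9651 (iv F101283)) (tt N9174 (iv F92171)) (tt N7912 F70784) (tt N9649 (iv F101275)) (tt N7912 F70785) (tt N6430 F70786) (tt N6414 (iv D16252)))
theorem Q7914 : ∀ i, i < 7914 → P i := stepQ 7913 Q7913 (allL N7913 (tt N9604 F202314) (tt N6422 (iv F202719)) (tt N9652 D23683) (tt N6417 (iv D16256)) (tt N9212 (iv F202734)) (tt N9642 (iv F202714)) (tt N6418 F70797) (tt N9641 (iv F202713)) (tt N9648 (iv F101273)) (tt N9609 F202296))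
theorem Q7915 : ∀ i, i < 7915 → P i := stepQ 7914 Q7914 (allL N7914 (tt N9603 F202464) (tt N6460 (iv F202960)) (tt N6418 (iv D16258)) (tt N6421 F70802) (tt N8646 (iv F193456)) (tt N7914 F70803) (tt N9652 (iv F101307)) (tt N7914 F70804) (tt N9650 (iv F101280)) (tt N8621 F193326))
theorem Q7916 : ∀ i, i < 7916 → P i := stepQ 7915 Q7915 (allL N7915 (tt N6450 F202437) (tt N6536 (iv F202922)) (tt N6420 (iv D16277)) (tt N9652 (iv F101306)) (tt N7915 F70867) (tt N6440 (iv F202715)) (tt N6421 F70868) (tt N6439 (iv F202778)) (tt N6455 F70869) (tt N6469 F202438))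
theorem Q7917 : ∀ i, i < 7917 → P i := stepQ 7916 Q7916 (allL N7916 (tt N6426 F71002) (tt N9642 F198289) (tt N6465 F71003) (tt N6424 F71004) (tt N9653 D23762) (tt N6422 (iv D16312)) (tt N7916 F71005) (tt N9609 F202308) (tt N9654 D23764) (tt N9641 (iv F101116)))
theorem Q7918 : ∀ i, i < 7918 → P i := stepQ 7917 Q7917 (allL N7917 (tt N6427 F71006) (tt N9641 (iv F198736)) (tt N6466 F71007) (tt N6425 F71008) (tt N9217 (iv F92396)) (tt N9609 F202282) (tt N7917 F71009) (tt N6422 (iv D16313)) (tt N9655 D23765) (tt N9642 (iv F101121)))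
theorem Q7919 : ∀ i, i < 7919 → P i := stepQ 7918 Q7918 (allL N7918 (tt N6428 F71010) (tt N9648 F203154) (tt N6467 F71011) (tt N9601 F203155) (tt N9218 (iv F92400)) (tt N9654 (iv F101599)) (tt N6423 F71012) (tt N9655 (iv F101604)) (tt N6422 (iv D16314)) (tt N9656 D23767))
theorem Q7920 : ∀ i, i < 7920 → P i := stepQ 7919 Q7919 (allL N7919 (tt N6430 F71018) (tt N9651 F203277) (tt N6468 F71019) (tt N9602 F203278) (tt N9220 (iv F92407)) (tt N7919 F71020) (tt N9656 (iv F101611)) (tt N7919 F71021) (tt N9644 (iv F101133)) (tt N6423 (iv D16316)))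
theorem Q7921 : ∀ i, i < 7921 → P i := stepQ 7920 Q7920 (allL N7920 (tt N9653 (iv F101590)) (tt N9610 (iv F99567)) (tt N6470 F71110) (tt N9619 F202517) (tt N6426 (iv D16338)) (tt N9239 (iv F92527)) (tt N7920 F71111) (tt N9618 (iv F202770)) (tt N9657 D23796) (tt N9645 (iv F101261)))
theorem Q7922 : ∀ i, i < 7922 → P i := stepQ 7921 Q7921 (allL N7921 (tt N9654 (iv F101597)) (tt N9611 (iv F99574)) (tt N6472 F71115) (tt N9612 (iv F202725)) (tt N9657 (iv F101727)) (tt N6428 F71116) (tt N7921 F71117) (tt N9613 (iv F202767)) (tt N6426 (iv D16340)) (tt N9658 D23800))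
theorem Q7923 : ∀ i, i < 7923 → P i := stepQ 7922 Q7922 (allL N7922 (tt N9655 (iv F101601)) (tt N9612 (iv F99578)) (tt N6473 F71118) (tt N9611 (iv F202727)) (tt N9242 (iv F92534)) (tt N9613 (iv F202766)) (tt N7922 F71119) (tt N6428 F71120) (tt N6427 (iv D16341)) (tt N9659 D23802))
theorem Q7924 : ∀ i, i < 7924 → P i := stepQ 7923 Q7923 (allL N7923 (tt N9601 F203168) (tt N9613 (iv F99582)) (tt N7923 F71121) (tt N6428 (iv D16342)) (tt N9660 D23803) (tt N9612 F203169) (tt N6429 F71122) (tt N9611 F203170) (tt N6431 F71123) (tt N9661 D23804))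
theorem Q7925 : ∀ i, i < 7925 → P i := stepQ 7924 Q7924 (allL N7924 (tt N9656 (iv F101609)) (tt N9614 (iv F99585)) (tt N6474 F71124) (tt N9661 (iv F101754)) (tt N9244 (iv F92540)) (tt N9658 (iv F101741)) (tt N6430 F71125) (tt N9659 (iv F101749)) (tt N9649 (iv F101276)) (tt N6428 (iv D16343)))
theorem Q7926 : ∀ i, i < 7926 → P i := stepQ 7925 Q7925 (allL N7925 (tt N8871 F203275) (tt N9616 (iv F99593)) (tt N7925 F71126) (tt N9246 (iv F92545)) (tt N6429 (iv D16344)) (tt N9662 D23805) (tt N9660 (iv F101751)) (tt N7925 F71127) (tt N6432 F71128) (tt N9663 D23806))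
theorem Q7927 : ∀ i, i < 7927 → P i := stepQ 7926 Q7926 (allL N7926 (tt N9602 F203279) (tt N9617 (iv F99596)) (tt N7926 F71129) (tt N6430 F71130) (tt N9663 (iv F101761)) (tt N7926 F71131) (tt N9661 (iv F101755)) (tt N7926 F71132) (tt N9608 F203280) (tt N6429 (iv D16345)))
theorem Q7928 : ∀ i, i < 7928 → P i := stepQ 7927 Q7927 (allL N7927 (tt N8870 F203144) (tt N9618 (iv F99626)) (tt N7927 F71152) (tt N6434 F71153) (tt N6431 (iv D16352)) (tt N9664 D23815) (tt N6432 F71154) (tt N9610 F203145) (tt N9660 (iv F101752)) (tt N8904 F203146))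
theorem Q7929 : ∀ i, i < 7929 → P i := stepQ 7928 Q7928 (allL N7928 (tt N8192 F203269) (tt N9317 F202572) (tt N7928 F71158) (tt N6435 F71159) (tt N7928 F71160) (tt N6432 (iv D16354)) (tt N9665 D23818) (tt N7928 F71161) (tt N9662 (iv F101759)) (tt N8220 F203270))
theorem Q7930 : ∀ i, i < 7930 → P i := stepQ 7929 Q7929 (allL N7929 (tt N8873 F202291) (tt N9619 (iv F99652)) (tt N6498 F71169) (tt N9610 (iv F202726)) (tt N6433 (iv D16357)) (tt N9666 D23821) (tt N7929 F71170) (tt N6434 F71171) (tt N9263 (iv F92587)) (tt N8907 F202292))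
theorem Q7931 : ∀ i, i < 7931 → P i := stepQ 7930 Q7930 (allL N7930 (tt N8872 F203002) (tt N9620 (iv F99661)) (tt N6499 F71176) (tt N9664 (iv F101792)) (tt N9638 (iv F100898)) (tt N6434 (iv D16359)) (tt N9667 D23824) (tt N9666 (iv F101811)) (tt N9265 (iv F92593)) (tt N8906 F203003))
theorem Q7932 : ∀ i, i < 7932 → P i := stepQ 7931 Q7931 (allL N7931 (tt N8193 F203271) (tt N9621 (iv F99670)) (tt N6500 F71182) (tt N9665 (iv F101800)) (tt N6436 F71183) (tt N9667 (iv F101820)) (tt N6435 (iv D16362)) (tt N9668 D23827) (tt N9267 (iv F92602)) (tt N8221 F203272))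
theorem Q7933 : ∀ i, i < 7933 → P i := stepQ 7932 Q7932 (allL N7932 (tt N8195 F203273) (tt N9622 (iv F99682)) (tt N6501 F71191) (tt N7932 F71192) (tt N9668 (iv F101827)) (tt N9640 (iv F100914)) (tt N7932 F71193) (tt N6436 (iv D16365)) (tt N9269 (iv F92613)) (tt N8223 F203274))
theorem Q7934 : ∀ i, i < 7934 → P i := stepQ 7933 Q7933 (allL N7933 (tt N6445 F71285) (tt N8618 (iv F203612)) (tt N9641 (iv F101113)) (tt N6439 F71286) (tt N9669 D23857) (tt N6437 (iv D16385)) (tt N7933 F71287) (tt N9652 F203147) (tt N9670 D23859) (tt N6465 F71288))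
theorem Q7935 : ∀ i, i < 7935 → P i := stepQ 7934 Q7934 (allL N7934 (tt N6446 F71289) (tt N8619 (iv F203572)) (tt N9642 (iv F101118)) (tt N6440 F71290) (tt N8631 (iv F203577)) (tt N9652 F203150) (tt N7934 F71291) (tt N6437 (iv D16386)) (tt N9671 D23860) (tt N6466 F71292))
theorem Q7936 : ∀ i, i < 7936 → P i := stepQ 7935 Q7935 (allL N7935 (tt N6447 F71293) (tt N8487 (iv F203616)) (tt N9643 (iv F101123)) (tt N8480 (iv F203618)) (tt N8527 (iv F203589)) (tt N9670 (iv F101971)) (tt N6438 F71294) (tt N9671 (iv F101975)) (tt N6437 (iv D16387)) (tt N9672 D23862))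
theorem Q7937 : ∀ i, i < 7937 → P i := stepQ 7936 Q7936 (allL N7936 (tt N6449 F71299) (tt N8490 (iv F203824)) (tt N9644 (iv F101130)) (tt N8481 (iv F203826)) (tt N8530 (iv F203818)) (tt N7936 F71300) (tt N9672 (iv F101980)) (tt N7936 F71301) (tt N6468 F71302) (tt N6438 (iv D16389)))
theorem Q7938 : ∀ i, i < 7938 → P i := stepQ 7937 Q7937 (allL N7937 (tt N6455 F71375) (tt N7937 F193800) (tt N6443 (iv D16404)) (tt N8470 (iv F203032)) (tt N7937 F71376) (tt N6452 F203033) (tt N6444 F71377) (tt N6451 F203034) (tt N6450 F203035) (tt N7937 F71378))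
theorem Q7939 : ∀ i, i < 7939 → P i := stepQ 7938 Q7938 (allL N7938 (tt N9669 (iv F101962)) (tt N7938 F71384) (tt N9645 (iv F101259)) (tt N7938 F71385) (tt N6445 (iv D16406)) (tt N9305 (iv F92978)) (tt N7938 F71386) (tt N9673 D23886) (tt N9674 D23887) (tt N6470 F71387))
theorem Q7940 : ∀ i, i < 7940 → P i := stepQ 7939 Q7939 (allL N7939 (tt N9652 F203164) (tt N7939 F71388) (tt N9604 F198337) (tt N6450 F71389) (tt N9673 (iv F102094)) (tt N6446 F71390) (tt N9603 (iv F198757)) (tt N6445 (iv D16407)) (tt N9675 D23889) (tt N6471 F71391))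
theorem Q7941 : ∀ i, i < 7941 → P i := stepQ 7940 Q7940 (allL N7940 (tt N9670 (iv F101970)) (tt N7940 F71392) (tt N9646 (iv F101266)) (tt N9676 D23890) (tt N9674 (iv F102097)) (tt N6447 F71393) (tt N7940 F71394) (tt N9675 (iv F102106)) (tt N6445 (iv D16408)) (tt N9677 D23891))
theorem Q7942 : ∀ i, i < 7942 → P i := stepQ 7941 Q7941 (allL N7941 (tt N9671 (iv F101973)) (tt N7941 F71395) (tt N9647 (iv F101269)) (tt N9678 D23892) (tt N9308 (iv F92987)) (tt N9675 (iv F102105)) (tt N7941 F71396) (tt N6447 F71397) (tt N6446 (iv D16409)) (tt N9679 D23893))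
theorem Q7943 : ∀ i, i < 7943 → P i := stepQ 7942 Q7942 (allL N7942 (tt N8480 (iv F203617)) (tt N7942 F71398) (tt N9680 D23894) (tt N6447 (iv D16410)) (tt N8468 (iv F203800)) (tt N9676 (iv F102108)) (tt N6448 F71399) (tt N9678 (iv F102117)) (tt N6453 F71400) (tt N9681 D23896))
theorem Q7944 : ∀ i, i < 7944 → P i := stepQ 7943 Q7943 (allL N7943 (tt N9672 (iv F101979)) (tt N7943 F71401) (tt N9649 (iv F101274)) (tt N9681 (iv F102129)) (tt N9309 (iv F92994)) (tt N9677 (iv F102112)) (tt N6449 F71402) (tt N9679 (iv F102121)) (tt N6474 F71403) (tt N6447 (iv D16411)))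
theorem Q7945 : ∀ i, i < 7945 → P i := stepQ 7944 Q7944 (allL N7944 (tt N8471 F203391) (tt N9682 D23897) (tt N6448 (iv D16412)) (tt N9650 (iv F101277)) (tt N8464 (iv F203803)) (tt N7944 F71404) (tt N9680 (iv F102123)) (tt N7944 F71405) (tt N6454 F71406) (tt N9683 D23899))
theorem Q7946 : ∀ i, i < 7946 → P i := stepQ 7945 Q7945 (allL N7945 (tt N8481 (iv F203825)) (tt N7945 F71410) (tt N9683 (iv F102139)) (tt N6449 F71411) (tt N8469 (iv F203804)) (tt N7945 F71412) (tt N9681 (iv F102130)) (tt N7945 F71413) (tt N7945 F71414) (tt N6448 (iv D16414)))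
theorem Q7947 : ∀ i, i < 7947 → P i := stepQ 7946 Q7946 (allL N7946 (tt N8478 (iv F203635)) (tt N7946 F71427) (tt N8479 (iv F203547)) (tt N6451 (iv D16417)) (tt N8472 (iv F203801)) (tt N6453 F71428) (tt N7946 F71429) (tt N8470 (iv F203465)) (tt N9676 (iv F102110)) (tt N7946 F71430))
theorem Q7948 : ∀ i, i < 7948 → P i := stepQ 7947 Q7947 (allL N7947 (tt N8479 (iv F203579)) (tt N7947 F71431) (tt N8478 (iv F203633)) (tt N6452 (iv D16418)) (tt N8467 (iv F203789)) (tt N8470 (iv F203464)) (tt N7947 F71432) (tt N6453 F71433) (tt N9678 (iv F102118)) (tt N7947 F71434))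
theorem Q7949 : ∀ i, i < 7949 → P i := stepQ 7948 Q7948 (allL N7948 (tt N8470 F203351) (tt N8484 (iv F203792)) (tt N6453 (iv D16419)) (tt N6455 F71435) (tt N8463 (iv F203797)) (tt N8479 (iv F203548)) (tt N6454 F71436) (tt N8478 (iv F203634)) (tt N9680 (iv F102124)) (tt N7948 F71437))
theorem Q7950 : ∀ i, i < 7950 → P i := stepQ 7949 Q7949 (allL N7949 (tt N7949 F193452) (tt N6454 (iv D16421)) (tt N7949 F71442) (tt N6456 F71443) (tt N8461 (iv F203864)) (tt N7949 F71444) (tt N8484 (iv F203793)) (tt N7949 F71445) (tt N9682 (iv F102135)) (tt N7949 F71446))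
theorem Q7951 : ∀ i, i < 7951 → P i := stepQ 7950 Q7950 (allL N7950 (tt N7950 F71540) (tt N9652 F203207) (tt N6461 F71541) (tt N6536 F71542) (tt N8643 (iv F203619)) (tt N8619 (iv F203574)) (tt N6460 (iv D16442)) (tt N8618 (iv F203614)) (tt N9684 D23935) (tt N8620 F203208))
theorem Q7952 : ∀ i, i < 7952 → P i := stepQ 7951 Q7951 (allL N7951 (tt N7951 F71543) (tt N9650 F203401) (tt N6462 F71544) (tt N9682 (iv F203862)) (tt N8647 (iv F203847)) (tt N7951 F71545) (tt N9684 (iv F102305)) (tt N7951 F71546) (tt N6460 (iv D16443)) (tt N9685 D23937))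
theorem Q7953 : ∀ i, i < 7953 → P i := stepQ 7952 Q7952 (allL N7952 (tt N7952 F71547) (tt N6465 F71548) (tt N8619 (iv F203573)) (tt N6463 F71549) (tt N8640 (iv F203795)) (tt N6461 (iv D16444)) (tt N7952 F71550) (tt N8620 F203350) (tt N9686 D23940) (tt N8618 (iv F203615)))
theorem Q7954 : ∀ i, i < 7954 → P i := stepQ 7953 Q7953 (allL N7953 (tt N7953 F71551) (tt N6466 F71552) (tt N8618 (iv F203613)) (tt N6464 F71553) (tt N8641 (iv F203571)) (tt N8620 F203342) (tt N7953 F71554) (tt N6461 (iv D16445)) (tt N9687 D23941) (tt N8619 (iv F203575)))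
theorem Q7955 : ∀ i, i < 7955 → P i := stepQ 7954 Q7954 (allL N7954 (tt N7954 F71555) (tt N6467 F71556) (tt N9684 (iv F102304)) (tt N7954 F71557) (tt N8644 (iv F204103)) (tt N9686 (iv F102326)) (tt N6462 F71558) (tt N9687 (iv F102332)) (tt N6461 (iv D16446)) (tt N9688 D23942))
theorem Q7956 : ∀ i, i < 7956 → P i := stepQ 7955 Q7955 (allL N7955 (tt N7955 F71559) (tt N6468 F71560) (tt N9685 (iv F102312)) (tt N7955 F71561) (tt N8542 F204018) (tt N7955 F71562) (tt N9688 (iv F102336)) (tt N7955 F71563) (tt N8490 F204019) (tt N6462 (iv D16447)))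
theorem Q7957 : ∀ i, i < 7957 → P i := stepQ 7956 Q7956 (allL N7956 (tt N7956 F71564) (tt N6469 F71565) (tt N6533 F199012) (tt N8620 (iv F203030)) (tt N7956 F71567) (tt N6464 F71568) (tt N6532 (iv F199189)) (tt N6463 (iv D16448)) (tt N7956 F71569) (tt N6536 F199013))
theorem Q7958 : ∀ i, i < 7958 → P i := stepQ 7957 Q7957 (allL N7957 (tt N6470 F71570) (tt N8640 (iv F203794)) (tt N9653 (iv F101591)) (tt N7957 F71571) (tt N6465 (iv D16449)) (tt N9337 (iv F93295)) (tt N7957 F71572) (tt N8642 F203461) (tt N9689 D23945) (tt N9669 (iv F101965)))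
theorem Q7959 : ∀ i, i < 7959 → P i := stepQ 7958 Q7958 (allL N7958 (tt N6471 F71573) (tt N8620 (iv F203029)) (tt N9609 F202544) (tt N6469 F71574) (tt N8642 (iv F203022)) (tt N6466 F71575) (tt N8621 F202548) (tt N6465 (iv D16450)) (tt N9690 D23947) (tt N9652 (iv F202765)))
theorem Q7960 : ∀ i, i < 7960 → P i := stepQ 7959 Q7959 (allL N7959 (tt N6472 F71576) (tt N9686 (iv F102324)) (tt N9654 (iv F101598)) (tt N7959 F71577) (tt N9689 (iv F102348)) (tt N6467 F71578) (tt N7959 F71579) (tt N9690 (iv F102357)) (tt N6465 (iv D16451)) (tt N9691 D23948))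
theorem Q7961 : ∀ i, i < 7961 → P i := stepQ 7960 Q7960 (allL N7960 (tt N6473 F71580) (tt N9687 (iv F102329)) (tt N9655 (iv F101602)) (tt N7960 F71581) (tt N9340 (iv F93302)) (tt N9690 (iv F102356)) (tt N7960 F71582) (tt N6467 F71583) (tt N6466 (iv D16452)) (tt N9692 D23949))
theorem Q7962 : ∀ i, i < 7962 → P i := stepQ 7961 Q7961 (allL N7961 (tt N6474 F71584) (tt N9688 (iv F102334)) (tt N9656 (iv F101610)) (tt N7961 F71585) (tt N9341 (iv F93310)) (tt N9691 (iv F102360)) (tt N6468 F71586) (tt N9692 (iv F102365)) (tt N9672 (iv F101981)) (tt N6467 (iv D16453)))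
theorem Q7963 : ∀ i, i < 7963 → P i := stepQ 7962 Q7962 (allL N7962 (tt N8642 F203081) (tt N7962 F71593) (tt N9618 F203082) (tt N7962 F71594) (tt N6471 F71595) (tt N9350 (iv F93423)) (tt N8645 F203083) (tt N6470 (iv D16455)) (tt N9693 D23951) (tt N9673 (iv F102095)))
theorem Q7964 : ∀ i, i < 7964 → P i := stepQ 7963 Q7963 (allL N7963 (tt N9689 (iv F102347)) (tt N7963 F71596) (tt N9657 (iv F101726)) (tt N9694 D23952) (tt N6472 F71597) (tt N9351 (iv F93426)) (tt N7963 F71598) (tt N9693 (iv F102372)) (tt N6470 (iv D16456)) (tt N9695 D23953))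
theorem Q7965 : ∀ i, i < 7965 → P i := stepQ 7964 Q7964 (allL N7964 (tt N9690 (iv F102354)) (tt N7964 F71603) (tt N9613 F203209) (tt N7964 F71604) (tt N9693 (iv F102371)) (tt N6473 F71605) (tt N9615 F203210) (tt N6472 F71606) (tt N6471 (iv D16458)) (tt N9696 D23955))
theorem Q7966 : ∀ i, i < 7966 → P i := stepQ 7965 Q7965 (allL N7965 (tt N9691 (iv F102358)) (tt N7965 F71607) (tt N9658 (iv F101740)) (tt N7965 F71608) (tt N9695 (iv F102378)) (tt N6474 F71609) (tt N7965 F71610) (tt N9696 (iv F102388)) (tt N9677 (iv F102114)) (tt N6472 (iv D16459)))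
theorem Q7967 : ∀ i, i < 7967 → P i := stepQ 7966 Q7966 (allL N7966 (tt N9692 (iv F102362)) (tt N7966 F71611) (tt N9659 (iv F101747)) (tt N7966 F71612) (tt N9357 (iv F93444)) (tt N9696 (iv F102387)) (tt N7966 F71613) (tt N6474 F71614) (tt N9679 (iv F102122)) (tt N6473 (iv D16460)))
theorem Q7968 : ∀ i, i < 7968 → P i := stepQ 7967 Q7967 (allL N7967 (tt N8076 (iv F205500)) (tt N7967 F71782) (tt N8717 F202215) (tt N6479 (iv D16497)) (tt N9697 D24015) (tt N6507 F71783) (tt N8073 (iv F205591)) (tt N6489 F71784) (tt N6480 F71785) (tt N9698 D24016))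
theorem Q7969 : ∀ i, i < 7969 → P i := stepQ 7968 Q7968 (allL N7968 (tt N8067 (iv F205502)) (tt N7968 F71786) (tt N7968 F71787) (tt N9698 (iv F102659)) (tt N6514 F205428) (tt N6508 F71788) (tt N6513 (iv F205592)) (tt N6490 F71789) (tt N7968 F71790) (tt N6479 (iv D16498)))
theorem Q7970 : ∀ i, i < 7970 → P i := stepQ 7969 Q7969 (allL N7969 (tt N8711 F202133) (tt N7969 F71817) (tt N8715 F202134) (tt N6482 F71818) (tt N6480 (iv D16505)) (tt N9699 D24028) (tt N8714 F202135) (tt N6493 F71819) (tt N9697 (iv F102657)) (tt N8713 F202136))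
theorem Q7971 : ∀ i, i < 7971 → P i := stepQ 7970 Q7970 (allL N7970 (tt N8752 F201388) (tt N7970 F71834) (tt N8771 F201389) (tt N8714 (iv F201777)) (tt N6481 (iv D16509)) (tt N9700 D24033) (tt N6482 F71835) (tt N8731 (iv F201690)) (tt N9409 (iv F93902)) (tt N8766 (iv F201453)))
theorem Q7972 : ∀ i, i < 7972 → P i := stepQ 7971 Q7971 (allL N7971 (tt N8105 F202256) (tt N7971 F71840) (tt N9626 (iv F100218)) (tt N9699 (iv F102705)) (tt N6483 F71841) (tt N6482 (iv D16511)) (tt N9701 D24036) (tt N6496 F71842) (tt N9411 (iv F93910)) (tt N8118 F202257))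
theorem Q7973 : ∀ i, i < 7973 → P i := stepQ 7972 Q7972 (allL N7972 (tt N8106 F202391) (tt N7972 F71850) (tt N9627 (iv F100227)) (tt N6514 F71851) (tt N9701 (iv F102734)) (tt N7972 F71852) (tt N6483 (iv D16514)) (tt N9452 F205435) (tt N9413 (iv F93922)) (tt N8119 F202392))
theorem Q7974 : ∀ i, i < 7974 → P i := stepQ 7973 Q7973 (allL N7973 (tt N6490 F72049) (tt N8072 (iv F205475)) (tt N7973 F72050) (tt N8727 F202908) (tt N8109 F205381) (tt N6515 F72051) (tt N8084 F205382) (tt N8067 (iv F205503)) (tt N7973 F72052) (tt N6485 (iv D16561)))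
theorem Q7975 : ∀ i, i < 7975 → P i := stepQ 7974 Q7974 (allL N7974 (tt N8096 (iv F205267)) (tt N7974 F72140) (tt N8738 F202239) (tt N6488 (iv D16586)) (tt N9702 D24142) (tt N7974 F72141) (tt N6489 F72142) (tt N8091 (iv F205328)) (tt N6491 F72143) (tt N9703 D24143))
theorem Q7976 : ∀ i, i < 7976 → P i := stepQ 7975 Q7975 (allL N7975 (tt N8084 (iv F205268)) (tt N7975 F72144) (tt N7975 F72145) (tt N9703 (iv F103148)) (tt N6521 F205225) (tt N7975 F72146) (tt N6490 F72147) (tt N6520 (iv F205329)) (tt N7975 F72148) (tt N6488 (iv D16587)))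
theorem Q7977 : ∀ i, i < 7977 → P i := stepQ 7976 Q7976 (allL N7976 (tt N8724 (iv F202417)) (tt N8089 (iv F206095)) (tt N6489 (iv D16588)) (tt N7976 F72149) (tt N9704 D24145) (tt N6516 F72150) (tt N8738 F202223) (tt N8717 F202224) (tt N6492 F72151) (tt N8083 F205996))
theorem Q7978 : ∀ i, i < 7978 → P i := stepQ 7977 Q7977 (allL N7977 (tt N8726 F202891) (tt N7977 F72152) (tt N9704 (iv F103155)) (tt N9451 (iv F94293)) (tt N6489 (iv D16589)) (tt N9705 D24147) (tt N9702 (iv F103145)) (tt N9697 (iv F102656)) (tt N6493 F72153) (tt N9706 D24148))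
theorem Q7979 : ∀ i, i < 7979 → P i := stepQ 7978 Q7978 (allL N7978 (tt N8727 F202895) (tt N7978 F72154) (tt N8083 F206007) (tt N6490 F72155) (tt N9706 (iv F103164)) (tt N6518 F72156) (tt N9703 (iv F103150)) (tt N9698 (iv F102661)) (tt N8080 F206008) (tt N6489 (iv D16590)))
theorem Q7980 : ∀ i, i < 7980 → P i := stepQ 7979 Q7979 (allL N7979 (tt N8725 F202234) (tt N7979 F72169) (tt N8734 F202235) (tt N6495 F72170) (tt N6491 (iv D16594)) (tt N9707 D24156) (tt N6493 F72171) (tt N8732 F202236) (tt N9702 (iv F103146)) (tt N8730 F202237))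
theorem Q7981 : ∀ i, i < 7981 → P i := stepQ 7980 Q7980 (allL N7980 (tt N8722 F202137) (tt N8102 (iv F205927)) (tt N6493 F72179) (tt N8780 F202139) (tt N6492 (iv D16597)) (tt N8737 (iv F205959)) (tt N8734 F202140) (tt N8715 F202141) (tt N9704 (iv F103156)) (tt N8095 F205717))
theorem Q7982 : ∀ i, i < 7982 → P i := stepQ 7981 Q7981 (allL N7981 (tt N8081 F202889) (tt N7981 F72183) (tt N8737 (iv F205958)) (tt N6496 F72184) (tt N6519 F72185) (tt N6493 (iv D16599)) (tt N9708 D24165) (tt N9699 (iv F102707)) (tt N9705 (iv F103162)) (tt N8090 F202890))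
theorem Q7983 : ∀ i, i < 7983 → P i := stepQ 7982 Q7982 (allL N7982 (tt N8802 F202101) (tt N7982 F72192) (tt N8832 F202102) (tt N8732 F202103) (tt N6494 (iv D16602)) (tt N9709 D24168) (tt N8731 F202104) (tt N6495 F72193) (tt N9464 (iv F94350)) (tt N8826 F202105))
theorem Q7984 : ∀ i, i < 7984 → P i := stepQ 7983 Q7983 (allL N7983 (tt N8801 F202998) (tt N7983 F72198) (tt N9638 (iv F100897)) (tt N9707 (iv F103190)) (tt N6499 F72199) (tt N6495 (iv D16604)) (tt N9710 D24171) (tt N9709 (iv F103226)) (tt N9466 (iv F94357)) (tt N8825 F202999))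
theorem Q7985 : ∀ i, i < 7985 → P i := stepQ 7984 Q7984 (allL N7984 (tt N8144 F203140) (tt N7984 F72207) (tt N9639 (iv F100905)) (tt N9708 (iv F103216)) (tt N6497 F72208) (tt N9710 (iv F103236)) (tt N6496 (iv D16607)) (tt N9711 D24174) (tt N9468 (iv F94368)) (tt N8163 F203141))
theorem Q7986 : ∀ i, i < 7986 → P i := stepQ 7985 Q7985 (allL N7985 (tt N8146 F203285) (tt N7985 F72214) (tt N9640 (iv F100912)) (tt N6521 F72215) (tt N9711 (iv F103244)) (tt N6501 F72216) (tt N9452 (iv F205337)) (tt N6497 (iv D16610)) (tt N9470 (iv F94378)) (tt N8165 F203286))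
theorem Q7987 : ∀ i, i < 7987 → P i := stepQ 7986 Q7986 (allL N7986 (tt N8879 F202996) (tt N7986 F72407) (tt N9666 (iv F101810)) (tt N7986 F72408) (tt N9709 (iv F103225)) (tt N6498 (iv D16660)) (tt N9712 D24240) (tt N6499 F72409) (tt N9547 (iv F94908)) (tt N8916 F202997))
theorem Q7988 : ∀ i, i < 7988 → P i := stepQ 7987 Q7987 (allL N7987 (tt N8200 F203869) (tt N7987 F72419) (tt N9667 (iv F101819)) (tt N7987 F72420) (tt N9710 (iv F103235)) (tt N6500 F72421) (tt N6499 (iv D16663)) (tt N9713 D24243) (tt N9549 (iv F94920)) (tt N8229 F203870))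
theorem Q7989 : ∀ i, i < 7989 → P i := stepQ 7988 Q7988 (allL N7988 (tt N8201 F204003) (tt N7988 F72428) (tt N9668 (iv F101826)) (tt N7988 F72429) (tt N6501 F72430) (tt N9713 (iv F103512)) (tt N7988 F72431) (tt N6500 (iv D16666)) (tt N9551 (iv F94930)) (tt N8230 F204004))
theorem Q7990 : ∀ i, i < 7990 → P i := stepQ 7989 Q7989 (allL N7989 (tt N6508 F72562) (tt N8058 (iv F205783)) (tt N7989 F72563) (tt N8712 F203300) (tt N7989 F72564) (tt N8067 F205677) (tt N8055 (iv F205856)) (tt N6515 F72565) (tt N7989 F72566) (tt N6503 (iv D16694)))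
theorem Q7991 : ∀ i, i < 7991 → P i := stepQ 7990 Q7990 (allL N7990 (tt N8062 (iv F205853)) (tt N7990 F72676) (tt N8708 F203119) (tt N6506 (iv D16718)) (tt N9714 D24324) (tt N8060 (iv F205963)) (tt N6507 F72677) (tt N7990 F72678) (tt N6509 F72679) (tt N9715 D24325))
theorem Q7992 : ∀ i, i < 7992 → P i := stepQ 7991 Q7991 (allL N7991 (tt N8055 (iv F205855)) (tt N7991 F72680) (tt N7991 F72681) (tt N9715 (iv F103886)) (tt N7991 F72682) (tt N6512 (iv F205964)) (tt N6508 F72683) (tt N7991 F72684) (tt N7991 F72685) (tt N6506 (iv D16719)))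
theorem Q7993 : ∀ i, i < 7993 → P i := stepQ 7992 Q7992 (allL N7992 (tt N8710 (iv F202630)) (tt N8071 F206241) (tt N6507 (iv D16720)) (tt N7992 F72686) (tt N8712 F206242) (tt N8717 F202220) (tt N8708 (iv F202645)) (tt N6516 F72687) (tt N6510 F72688) (tt N8066 F206243))
theorem Q7994 : ∀ i, i < 7994 → P i := stepQ 7993 Q7993 (allL N7993 (tt N8066 F203117) (tt N7993 F72689) (tt N8712 (iv F206156)) (tt N7993 F72690) (tt N6507 (iv D16721)) (tt N9716 D24329) (tt N9714 (iv F103882)) (tt N6517 F72691) (tt N6511 F72692) (tt N8710 (iv F206109)))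
theorem Q7995 : ∀ i, i < 7995 → P i := stepQ 7994 Q7994 (allL N7994 (tt N8712 F203121) (tt N7994 F72693) (tt N8066 F206244) (tt N6508 F72694) (tt N8710 F206245) (tt N9698 (iv F102660)) (tt N9715 (iv F103887)) (tt N6518 F72695) (tt N8064 F206246) (tt N6507 (iv D16722)))
theorem Q7996 : ∀ i, i < 7996 → P i := stepQ 7995 Q7995 (allL N7995 (tt N8054 F203114) (tt N7995 F72708) (tt N8707 F203115) (tt N6512 F72709) (tt N6509 (iv D16726)) (tt N9715 F206076) (tt N6511 F72710) (tt N7995 F72711) (tt N9714 (iv F103884)) (tt N8060 F203116))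
theorem Q7997 : ∀ i, i < 7997 → P i := stepQ 7996 Q7996 (allL N7996 (tt N8065 F203015) (tt N7996 F72725) (tt N8718 (iv F205967)) (tt N6513 F72726) (tt N9699 (iv F102706)) (tt N6511 (iv D16731)) (tt N9698 F205727) (tt N6519 F72727) (tt N9716 (iv F103902)) (tt N8073 F203016))
theorem Q7998 : ∀ i, i < 7998 → P i := stepQ 7997 Q7997 (allL N7997 (tt N8083 F203766) (tt N7997 F73043) (tt N8727 (iv F205868)) (tt N7997 F73044) (tt N9705 (iv F103161)) (tt N6517 (iv D16804)) (tt N9717 D24447) (tt N9716 (iv F103901)) (tt N6519 F73045) (tt N8724 (iv F205762)))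
theorem Q7999 : ∀ i, i < 7999 → P i := stepQ 7998 Q7998 (allL N7998 (tt N8082 F203764) (tt N7998 F73073) (tt N8739 (iv F205596)) (tt N6520 F73074) (tt N9708 (iv F103217)) (tt N7998 F73075) (tt N6519 (iv D16813)) (tt N9703 F205427) (tt N9717 (iv F104398)) (tt N8091 F203765))
theorem Q8000 : ∀ i, i < 8000 → P i := stepQ 7999 Q7999 (allL N7999 (tt N7999 F73244) (tt N7999 F73245) (tt N7999 F73246) (tt N6522 (iv D16850)) (tt N7999 F73247) (tt N7999 F73248) (tt N7999 F73249) (tt N7999 F73250) (tt N7999 F73251) (tt N6537 F204380))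
theorem Q8001 : ∀ i, i < 8001 → P i := stepQ 8000 Q8000 (allL N8000 (tt N8000 F73252) (tt N8000 F73253) (tt N6525 F73254) (tt N8000 F73255) (tt N6523 F73256) (tt N8000 F73257) (tt N8000 F73258) (tt N8000 F73259) (tt N6522 (iv D16851)) (tt N8000 F195461))
theorem Q8002 : ∀ i, i < 8002 → P i := stepQ 8001 Q8001 (allL N8001 (tt N8001 F73267) (tt N8001 F73268) (tt N8001 F73269) (tt N6523 (iv D16853)) (tt N8001 F73270) (tt N6524 F73271) (tt N8001 F73272) (tt N8001 F73273) (tt N8001 F73274) (tt N8001 F195462))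
theorem Q8003 : ∀ i, i < 8003 → P i := stepQ 8002 Q8002 (allL N8002 (tt N8002 F73287) (tt N8002 F73288) (tt N8002 F73289) (tt N8002 F73290) (tt N6524 (iv D16856)) (tt N8002 F73291) (tt N6529 F73292) (tt N8002 F73293) (tt N8002 F73294) (tt N8002 F195464))
theorem Q8004 : ∀ i, i < 8004 → P i := stepQ 8003 Q8003 (allL N8003 (tt N8003 F73313) (tt N6526 F73314) (tt N8003 F73315) (tt N6525 (iv D16860)) (tt N8003 F73316) (tt N8003 F73317) (tt N8003 F73318) (tt N8003 F73319) (tt N8003 F73320) (tt N8003 F195463))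
theorem Q8005 : ∀ i, i < 8005 → P i := stepQ 8004 Q8004 (allL N8004 (tt N9592 (iv F95664)) (tt N8004 F73419) (tt N6526 (iv D16878)) (tt N8004 F73420) (tt N8004 F73421) (tt N8004 F73422) (tt N8004 F73423) (tt N8004 F73424) (tt N8004 F73425) (tt N8004 F195466))
theorem Q8006 : ∀ i, i < 8006 → P i := stepQ 8005 Q8005 (allL N8005 (tt N8005 F73823) (tt N8005 F73824) (tt N8005 F73825) (tt N8005 F73826) (tt N8005 F73827) (tt N6529 (iv D16969)) (tt N8005 F73828) (tt N6531 F73829) (tt N8005 F73830) (tt N8005 F195465))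
theorem Q8007 : ∀ i, i < 8007 → P i := stepQ 8006 Q8006 (allL N8006 (tt N8006 F74379) (tt N8006 F74380) (tt N8006 F74381) (tt N8006 F74382) (tt N8006 F74383) (tt N8006 F74384) (tt N6531 (iv D17106)) (tt N8006 F74385) (tt N8006 F74386) (tt N8006 F195467))
theorem Q8008 : ∀ i, i < 8008 → P i := stepQ 8007 Q8007 (allL N8007 (tt N8007 F83530) (tt N8007 F199701) (tt N8007 F83531) (tt N8007 F83532) (tt N8007 F83533) (tt N8007 F83534) (tt N8007 F83535) (tt N8007 F83536) (tt N6537 (iv D19372)) (tt N8007 F199726))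
theorem Q8009 : ∀ i, i < 8009 → P i := stepQ 8008 Q8008 (allL N8008 (tt N6575 F84637) (tt N8008 F84638) (tt N7678 F205147) (tt N6683 F84639) (tt N8008 F84640) (tt N7668 F205148) (tt N8008 F84641) (tt N6584 F84642) (tt N6571 (iv D19613)) (tt N9718 D28517))
theorem Q8010 : ∀ i, i < 8010 → P i := stepQ 8009 Q8009 (allL N8009 (tt N7678 F205133) (tt N8009 F84654) (tt N6575 F84655) (tt N9719 D28522) (tt N8009 F84656) (tt N7663 F205134) (tt N8009 F84657) (tt N6587 F84658) (tt N6573 (iv D19616)) (tt N9720 D28523))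
theorem Q8011 : ∀ i, i < 8011 → P i := stepQ 8010 Q8010 (allL N8010 (tt N7668 F205122) (tt N6579 F84667) (tt N7663 F205123) (tt N6689 F84668) (tt N7661 (iv F205207)) (tt N6575 F84669) (tt N7660 (iv F205191)) (tt N6590 F84670) (tt N6574 (iv D19619)) (tt N9721 D28528))
theorem Q8012 : ∀ i, i < 8012 → P i := stepQ 8011 Q8011 (allL N8011 (tt N9718 (iv F121013)) (tt N6580 F84671) (tt N9720 (iv F121047)) (tt N6690 F84672) (tt N8011 F84673) (tt N9721 (iv F121070)) (tt N8011 F84674) (tt N6591 F84675) (tt N8011 F84676) (tt N6575 (iv D19620)))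
theorem Q8013 : ∀ i, i < 8013 → P i := stepQ 8012 Q8012 (allL N8012 (tt N8012 F84687) (tt N7661 F205301) (tt N8012 F84688) (tt N7170 (iv F205409)) (tt N6579 F84689) (tt N8012 F84690) (tt N7158 (iv F205367)) (tt N6594 F84691) (tt N6577 (iv D19623)) (tt N9722 D28533))
theorem Q8014 : ∀ i, i < 8014 → P i := stepQ 8013 Q8013 (allL N8013 (tt N8013 F84698) (tt N7660 F205251) (tt N8013 F84699) (tt N6695 F84700) (tt N7158 (iv F205366)) (tt N8013 F84701) (tt N6579 F84702) (tt N7197 F205252) (tt N6578 (iv D19625)) (tt N9723 D28535))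
theorem Q8015 : ∀ i, i < 8015 → P i := stepQ 8014 Q8014 (allL N8014 (tt N8014 F84703) (tt N9721 (iv F121068)) (tt N8014 F84704) (tt N6696 F84705) (tt N9722 (iv F121093)) (tt N6580 F84706) (tt N9723 (iv F121107)) (tt N6597 F84707) (tt N8014 F84708) (tt N6579 (iv D19626)))
theorem Q8016 : ∀ i, i < 8016 → P i := stepQ 8015 Q8015 (allL N8015 (tt N6587 F84719) (tt N7685 (iv F205022)) (tt N6584 F84720) (tt N9724 D28541) (tt N8015 F84721) (tt N7679 F205011) (tt N6600 F84722) (tt N7678 (iv F205073)) (tt N6582 (iv D19629)) (tt N9725 D28542))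
theorem Q8017 : ∀ i, i < 8017 → P i := stepQ 8016 Q8016 (allL N8016 (tt N6590 F84732) (tt N8016 F84733) (tt N7679 F205014) (tt N6714 F84734) (tt N7671 (iv F205077)) (tt N6584 F84735) (tt N7710 F205015) (tt N7668 (iv F205078)) (tt N6583 (iv D19632)) (tt N9726 D28547))
theorem Q8018 : ∀ i, i < 8018 → P i := stepQ 8017 Q8017 (allL N8017 (tt N6591 F84736) (tt N8017 F84737) (tt N9725 (iv F121136)) (tt N6715 F84738) (tt N8017 F84739) (tt N9726 (iv F121161)) (tt N6604 F84740) (tt N9718 (iv F121018)) (tt N8017 F84741) (tt N6584 (iv D19633)))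
theorem Q8019 : ∀ i, i < 8019 → P i := stepQ 8018 Q8018 (allL N8018 (tt N7679 F205004) (tt N8018 F84757) (tt N6590 F84758) (tt N9727 D28553) (tt N7666 (iv F205058)) (tt N6587 F84759) (tt N7701 F205005) (tt N7663 (iv F205059)) (tt N6586 (iv D19637)) (tt N9728 D28554))
theorem Q8020 : ∀ i, i < 8020 → P i := stepQ 8019 Q8019 (allL N8019 (tt N9724 (iv F121131)) (tt N8019 F84760) (tt N6720 F84761) (tt N6587 (iv D19638)) (tt N9729 D28555) (tt N9727 (iv F121186)) (tt N6609 F84762) (tt N9719 (iv F121044)) (tt N8019 F84763) (tt N9730 D28556))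
theorem Q8021 : ∀ i, i < 8021 → P i := stepQ 8020 Q8020 (allL N8020 (tt N9725 (iv F121135)) (tt N8020 F84764) (tt N6591 F84765) (tt N9730 (iv F121199)) (tt N8020 F84766) (tt N9728 (iv F121190)) (tt N6610 F84767) (tt N9720 (iv F121050)) (tt N8020 F84768) (tt N6587 (iv D19639)))
theorem Q8022 : ∀ i, i < 8022 → P i := stepQ 8021 Q8021 (allL N8021 (tt N7671 F205118) (tt N6594 F84772) (tt N7666 F205119) (tt N9731 D28560) (tt N6590 F84773) (tt N8021 F84774) (tt N7698 F205120) (tt N7661 (iv F205208)) (tt N6588 (iv D19641)) (tt N9732 D28561))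
theorem Q8023 : ∀ i, i < 8023 → P i := stepQ 8022 Q8022 (allL N8022 (tt N7710 F205000) (tt N6596 F84779) (tt N7701 F205001) (tt N6725 F84780) (tt N7698 (iv F205051)) (tt N6614 F84781) (tt N6590 F84782) (tt N7695 (iv F205040)) (tt N6589 (iv D19643)) (tt N9733 D28563))
theorem Q8024 : ∀ i, i < 8024 → P i := stepQ 8023 Q8023 (allL N8023 (tt N9726 (iv F121158)) (tt N6597 F84783) (tt N9728 (iv F121189)) (tt N6726 F84784) (tt N9732 (iv F121215)) (tt N6591 F84785) (tt N9733 (iv F121225)) (tt N9721 (iv F121071)) (tt N8023 F84786) (tt N6590 (iv D19644)))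
theorem Q8025 : ∀ i, i < 8025 → P i := stepQ 8024 Q8024 (allL N8024 (tt N8024 F84796) (tt N7698 F205115) (tt N8024 F84797) (tt N7214 (iv F205200)) (tt N6596 F84798) (tt N7255 F205116) (tt N6594 F84799) (tt N7198 (iv F205179)) (tt N6593 (iv D19647)) (tt N9734 D28568))
theorem Q8026 : ∀ i, i < 8026 → P i := stepQ 8025 Q8025 (allL N8025 (tt N8025 F84800) (tt N9731 (iv F121211)) (tt N7353 (iv F205408)) (tt N6594 (iv D19648)) (tt N6730 F84801) (tt N8025 F84802) (tt N7214 F205299) (tt N7170 (iv F205410)) (tt N7169 (iv F205411)) (tt N9735 D28570))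
theorem Q8027 : ∀ i, i < 8027 → P i := stepQ 8026 Q8026 (allL N8026 (tt N8026 F84803) (tt N9732 (iv F121214)) (tt N8026 F84804) (tt N9735 (iv F121254)) (tt N6597 F84805) (tt N8026 F84806) (tt N9734 (iv F121247)) (tt N9722 (iv F121095)) (tt N8026 F84807) (tt N6594 (iv D19649)))
theorem Q8028 : ∀ i, i < 8028 → P i := stepQ 8027 Q8027 (allL N8027 (tt N8027 F84808) (tt N7695 F205095) (tt N8027 F84809) (tt N6732 F84810) (tt N7198 (iv F205178)) (tt N6621 F84811) (tt N7197 (iv F205182)) (tt N6596 F84812) (tt N6595 (iv D19650)) (tt N9736 D28571))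
theorem Q8029 : ∀ i, i < 8029 → P i := stepQ 8028 Q8028 (allL N8028 (tt N8028 F84813) (tt N9733 (iv F121222)) (tt N8028 F84814) (tt N6733 F84815) (tt N9734 (iv F121246)) (tt N6622 F84816) (tt N6597 F84817) (tt N9736 (iv F121261)) (tt N8028 F84818) (tt N6596 (iv D19651)))
theorem Q8030 : ∀ i, i < 8030 → P i := stepQ 8029 Q8029 (allL N8029 (tt N8029 F84825) (tt N6600 F84826) (tt N8029 F84827) (tt N9737 D28575) (tt N8029 F84828) (tt N7734 F204983) (tt N7685 (iv F205023)) (tt N8029 F84829) (tt N6598 (iv D19653)) (tt N9738 D28576))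
theorem Q8031 : ∀ i, i < 8031 → P i := stepQ 8030 Q8030 (allL N8030 (tt N6608 F84839) (tt N7734 (iv F204931)) (tt N6603 F84840) (tt N9739 D28582) (tt N7787 F204925) (tt N6600 F84841) (tt N7724 F204926) (tt N8030 F84842) (tt N6599 (iv D19656)) (tt N9740 D28583))
theorem Q8032 : ∀ i, i < 8032 → P i := stepQ 8031 Q8031 (allL N8031 (tt N6609 F84843) (tt N9737 (iv F121280)) (tt N6756 F84844) (tt N6600 (iv D19657)) (tt N9741 D28584) (tt N9739 (iv F121314)) (tt N9724 (iv F121133)) (tt N8031 F84845) (tt N8031 F84846) (tt N9742 D28585))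
theorem Q8033 : ∀ i, i < 8033 → P i := stepQ 8032 Q8032 (allL N8032 (tt N6610 F84847) (tt N9738 (iv F121284)) (tt N6604 F84848) (tt N9742 (iv F121329)) (tt N8032 F84849) (tt N9740 (iv F121319)) (tt N9725 (iv F121138)) (tt N8032 F84850) (tt N8032 F84851) (tt N6600 (iv D19658)))
theorem Q8034 : ∀ i, i < 8034 → P i := stepQ 8033 Q8033 (allL N8033 (tt N6612 F84857) (tt N8033 F84858) (tt N7787 F204923) (tt N9743 D28589) (tt N6603 F84859) (tt N8033 F84860) (tt N7765 F204924) (tt N8033 F84861) (tt N6601 (iv D19660)) (tt N9744 D28590))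
theorem Q8035 : ∀ i, i < 8035 → P i := stepQ 8034 Q8034 (allL N8034 (tt N6614 F84867) (tt N8034 F84868) (tt N7724 F204928) (tt N6761 F84869) (tt N7765 F204929) (tt N7710 (iv F204977)) (tt N6603 F84870) (tt N7709 (iv F204970)) (tt N6602 (iv D19662)) (tt N9745 D28592))
theorem Q8036 : ∀ i, i < 8036 → P i := stepQ 8035 Q8035 (allL N8035 (tt N6615 F84871) (tt N8035 F84872) (tt N9740 (iv F121318)) (tt N6762 F84873) (tt N9744 (iv F121354)) (tt N6604 F84874) (tt N9745 (iv F121366)) (tt N8035 F84875) (tt N8035 F84876) (tt N6603 (iv D19663)))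
theorem Q8037 : ∀ i, i < 8037 → P i := stepQ 8036 Q8036 (allL N8036 (tt N7787 F204917) (tt N8036 F84887) (tt N6612 F84888) (tt N7833 (iv F204010)) (tt N6608 F84889) (tt N8036 F84890) (tt N7755 F204918) (tt N8036 F84891) (tt N6606 (iv D19666)) (tt N9746 D28599))
theorem Q8038 : ∀ i, i < 8038 → P i := stepQ 8037 Q8037 (allL N8037 (tt N7724 F204921) (tt N8037 F84897) (tt N6614 F84898) (tt N9747 D28601) (tt N7755 F204922) (tt N7701 (iv F204959)) (tt N6608 F84899) (tt N7700 (iv F204951)) (tt N6607 (iv D19668)) (tt N9748 D28602))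
theorem Q8039 : ∀ i, i < 8039 → P i := stepQ 8038 Q8038 (allL N8038 (tt N9739 (iv F121312)) (tt N8038 F84900) (tt N6768 F84901) (tt N6608 (iv D19669)) (tt N9749 D28603) (tt N6609 F84902) (tt N9747 (iv F121406)) (tt N8038 F84903) (tt N8038 F84904) (tt N9750 D28604))
theorem Q8040 : ∀ i, i < 8040 → P i := stepQ 8039 Q8039 (allL N8039 (tt N9740 (iv F121317)) (tt N8039 F84905) (tt N6615 F84906) (tt N9750 (iv F121418)) (tt N9746 (iv F121396)) (tt N6610 F84907) (tt N9748 (iv F121410)) (tt N8039 F84908) (tt N8039 F84909) (tt N6608 (iv D19670)))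
theorem Q8041 : ∀ i, i < 8041 → P i := stepQ 8040 Q8040 (allL N8040 (tt N9741 (iv F121322)) (tt N8040 F84910) (tt N6770 F84911) (tt N8040 F84912) (tt N6609 (iv D19671)) (tt N9751 D28605) (tt N9729 (iv F121195)) (tt N8040 F84913) (tt N8040 F84914) (tt N9752 D28606))
theorem Q8042 : ∀ i, i < 8042 → P i := stepQ 8041 Q8041 (allL N8041 (tt N9742 (iv F121327)) (tt N8041 F84915) (tt N6771 F84916) (tt N6610 F84917) (tt N9752 (iv F121429)) (tt N9750 (iv F121419)) (tt N9730 (iv F121200)) (tt N8041 F84918) (tt N9753 D28607) (tt N6609 (iv D19672)))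
theorem Q8043 : ∀ i, i < 8043 → P i := stepQ 8042 Q8042 (allL N8042 (tt N7765 F204919) (tt N6618 F84928) (tt N7755 F204920) (tt N9754 D28611) (tt N6614 F84929) (tt N7749 (iv F204955)) (tt N6612 F84930) (tt N7748 (iv F204950)) (tt N6611 (iv D19675)) (tt N9755 D28612))
theorem Q8044 : ∀ i, i < 8044 → P i := stepQ 8043 Q8043 (allL N8043 (tt N9743 (iv F121346)) (tt N6619 F84931) (tt N9756 D28613) (tt N6612 (iv D19676)) (tt N6775 F84932) (tt N8043 F84933) (tt N9754 (iv F121449)) (tt N8043 F84934) (tt N8043 F84935) (tt N9757 D28614))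
theorem Q8045 : ∀ i, i < 8045 → P i := stepQ 8044 Q8044 (allL N8044 (tt N9744 (iv F121352)) (tt N6620 F84936) (tt N9746 (iv F121395)) (tt N9757 (iv F121460)) (tt N6615 F84937) (tt N8044 F84938) (tt N9755 (iv F121453)) (tt N8044 F84939) (tt N8044 F84940) (tt N6612 (iv D19677)))
theorem Q8046 : ∀ i, i < 8046 → P i := stepQ 8045 Q8045 (allL N8045 (tt N7709 F204991) (tt N6621 F84941) (tt N7700 F204992) (tt N6777 F84942) (tt N7748 F204993) (tt N7695 (iv F205039)) (tt N8045 F84943) (tt N6614 F84944) (tt N6613 (iv D19678)) (tt N9758 D28615))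
theorem Q8047 : ∀ i, i < 8047 → P i := stepQ 8046 Q8046 (allL N8046 (tt N9745 (iv F121363)) (tt N6622 F84945) (tt N9748 (iv F121409)) (tt N6778 F84946) (tt N9755 (iv F121452)) (tt N9733 (iv F121224)) (tt N6615 F84947) (tt N9758 (iv F121467)) (tt N8046 F84948) (tt N6614 (iv D19679)))
theorem Q8048 : ∀ i, i < 8048 → P i := stepQ 8047 Q8047 (allL N8047 (tt N8047 F84954) (tt N7749 F204998) (tt N8047 F84955) (tt N9759 D28618) (tt N7255 (iv F205049)) (tt N6618 F84956) (tt N8047 F84957) (tt N7252 (iv F205034)) (tt N6616 (iv D19681)) (tt N9760 D28619))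
theorem Q8049 : ∀ i, i < 8049 → P i := stepQ 8048 Q8048 (allL N8048 (tt N8048 F84958) (tt N7748 F204989) (tt N8048 F84959) (tt N9761 D28620) (tt N6621 F84960) (tt N7252 (iv F205033)) (tt N8048 F84961) (tt N6618 F84962) (tt N6617 (iv D19682)) (tt N9762 D28621))
theorem Q8050 : ∀ i, i < 8050 → P i := stepQ 8049 Q8049 (allL N8049 (tt N8049 F84963) (tt N9754 (iv F121447)) (tt N9763 D28622) (tt N6618 (iv D19683)) (tt N6782 F84964) (tt N9759 (iv F121480)) (tt N6619 F84965) (tt N9761 (iv F121491)) (tt N8049 F84966) (tt N9764 D28623))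
theorem Q8051 : ∀ i, i < 8051 → P i := stepQ 8050 Q8050 (allL N8050 (tt N8050 F84967) (tt N9755 (iv F121451)) (tt N8050 F84968) (tt N9764 (iv F121505)) (tt N6622 F84969) (tt N9760 (iv F121485)) (tt N6620 F84970) (tt N9762 (iv F121497)) (tt N8050 F84971) (tt N6618 (iv D19684)))
theorem Q8052 : ∀ i, i < 8052 → P i := stepQ 8051 Q8051 (allL N8051 (tt N8051 F84972) (tt N9765 D28624) (tt N6619 (iv D19685)) (tt N8051 F84973) (tt N6784 F84974) (tt N8051 F84975) (tt N9763 (iv F121502)) (tt N8051 F84976) (tt N8051 F84977) (tt N9766 D28625))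
theorem Q8053 : ∀ i, i < 8053 → P i := stepQ 8052 Q8052 (allL N8052 (tt N8052 F84978) (tt N9757 (iv F121459)) (tt N9766 (iv F121514)) (tt N6620 F84979) (tt N6785 F84980) (tt N8052 F84981) (tt N9764 (iv F121507)) (tt N8052 F84982) (tt N9767 D28626) (tt N6619 (iv D19686)))
theorem Q8054 : ∀ i, i < 8054 → P i := stepQ 8053 Q8053 (allL N8053 (tt N8053 F84983) (tt N9758 (iv F121464)) (tt N8053 F84984) (tt N6786 F84985) (tt N9762 (iv F121495)) (tt N9736 (iv F121260)) (tt N8053 F84986) (tt N6622 F84987) (tt N8053 F84988) (tt N6621 (iv D19687)))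
theorem Q8055 : ∀ i, i < 8055 → P i := stepQ 8054 Q8054 (allL N8054 (tt N7995 (iv F203114)) (tt N6624 F84996) (tt N9768 D28629) (tt N6623 (iv D19689)) (tt N7104 F84997) (tt N9769 D28630) (tt N6634 F84998) (tt N8054 F84999) (tt N9770 D28631) (tt N6628 F85000))
theorem Q8056 : ∀ i, i < 8056 → P i := stepQ 8055 Q8055 (allL N8055 (tt N7991 F205855) (tt N6625 F85001) (tt N8055 F85002) (tt N9769 (iv F121545)) (tt N8055 F85003) (tt N6623 (iv D19690)) (tt N7989 F205856) (tt N8055 F85004) (tt N8055 F85005) (tt N6629 F85006))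
theorem Q8057 : ∀ i, i < 8057 → P i := stepQ 8056 Q8056 (allL N8056 (tt N8056 F85007) (tt N9769 (iv F121544)) (tt N8056 F85008) (tt N6625 F85009) (tt N7112 (iv F206256)) (tt N6624 (iv D19691)) (tt N7118 F206122) (tt N8056 F85010) (tt N7111 (iv F206251)) (tt N6630 F85011))
theorem Q8058 : ∀ i, i < 8058 → P i := stepQ 8057 Q8057 (allL N8057 (tt N8057 F85012) (tt N9770 (iv F121548)) (tt N8057 F85013) (tt N8057 F85014) (tt N6630 F206120) (tt N7111 (iv F206250)) (tt N6637 F85016) (tt N8057 F85017) (tt N6624 (iv D19692)) (tt N7112 (iv F206258)))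
theorem Q8059 : ∀ i, i < 8059 → P i := stepQ 8058 Q8058 (allL N8058 (tt N8058 F85018) (tt N7989 F205783) (tt N6626 F85019) (tt N7118 (iv F206015)) (tt N8058 F85020) (tt N6638 F85021) (tt N6625 (iv D19693)) (tt N7130 F205784) (tt N8058 F85022) (tt N6632 F85023))
theorem Q8060 : ∀ i, i < 8060 → P i := stepQ 8059 Q8059 (allL N8059 (tt N8059 F85024) (tt N8059 F85025) (tt N7130 F205776) (tt N8059 F85026) (tt N8059 F85027) (tt N6639 F85028) (tt N8059 F85029) (tt N6626 (iv D19694)) (tt N8059 F85030) (tt N6633 F85031))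
theorem Q8061 : ∀ i, i < 8061 → P i := stepQ 8060 Q8060 (allL N8060 (tt N6628 F85032) (tt N8060 F85033) (tt N7110 (iv F206075)) (tt N6627 (iv D19695)) (tt N7106 F85034) (tt N7990 F205963) (tt N6640 F85035) (tt N8060 F85036) (tt N7108 (iv F205997)) (tt N7995 (iv F203116)))
theorem Q8062 : ∀ i, i < 8062 → P i := stepQ 8061 Q8061 (allL N8061 (tt N7110 F206106) (tt N8061 F85042) (tt N6628 (iv D19697)) (tt N8061 F85043) (tt N7108 F85044) (tt N9771 D28642) (tt N6642 F85045) (tt N8061 F85046) (tt N7106 F206107) (tt N9768 (iv F121543)))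
theorem Q8063 : ∀ i, i < 8063 → P i := stepQ 8062 Q8062 (allL N8062 (tt N7990 F205853) (tt N6630 F85047) (tt N9771 (iv F121609)) (tt N6629 F85048) (tt N9770 (iv F206034)) (tt N6628 (iv D19698)) (tt N7115 F205854) (tt N8062 F85049) (tt N7104 (iv F206029)) (tt N9769 (iv F121547)))
theorem Q8064 : ∀ i, i < 8064 → P i := stepQ 8063 Q8063 (allL N8063 (tt N7108 F206097) (tt N6631 F85050) (tt N7106 F206098) (tt N7105 F206099) (tt N7110 F85051) (tt N7104 F206100) (tt N6644 F85052) (tt N8063 F85053) (tt N6628 (iv D19699)) (tt N7109 (iv F206240)))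
theorem Q8065 : ∀ i, i < 8065 → P i := stepQ 8064 Q8064 (allL N8064 (tt N7125 F206108) (tt N8064 F85093) (tt N6634 (iv D19708)) (tt N8064 F85094) (tt N7113 F85095) (tt N9772 D28658) (tt N9768 (iv F121541)) (tt N6651 F85096) (tt N7994 (iv F206246)) (tt N6642 F85097))
theorem Q8066 : ∀ i, i < 8066 → P i := stepQ 8065 Q8065 (allL N8065 (tt N7996 (iv F203015)) (tt N6636 F85098) (tt N9772 (iv F121680)) (tt N6635 F85099) (tt N9773 D28660) (tt N6634 (iv D19709)) (tt N9774 D28661) (tt N6652 F85100) (tt N9775 D28662) (tt N6643 F85101))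
theorem Q8067 : ∀ i, i < 8067 → P i := stepQ 8066 Q8066 (allL N8066 (tt N7993 (iv F203117)) (tt N6637 F85102) (tt N7994 (iv F206244)) (tt N8066 F85103) (tt N7115 F85104) (tt N9775 (iv F121698)) (tt N9770 (iv F121551)) (tt N6653 F85105) (tt N6634 (iv D19710)) (tt N7992 (iv F206243)))
theorem Q8068 : ∀ i, i < 8068 → P i := stepQ 8067 Q8067 (allL N8067 (tt N7968 F205502) (tt N6638 F85106) (tt N8067 F85107) (tt N9774 (iv F121694)) (tt N6675 F85108) (tt N7989 (iv F205677)) (tt N6635 (iv D19711)) (tt N7973 F205503) (tt N8067 F85109) (tt N6645 F85110))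
theorem Q8069 : ∀ i, i < 8069 → P i := stepQ 8068 Q8068 (allL N8068 (tt N8068 F85111) (tt N9773 (iv F121688)) (tt N8068 F85112) (tt N6676 F85113) (tt N6636 (iv D19712)) (tt N7117 F85114) (tt N9776 D28665) (tt N6655 F85115) (tt N9777 D28666) (tt N6646 F85116))
theorem Q8070 : ∀ i, i < 8070 → P i := stepQ 8069 Q8069 (allL N8069 (tt N8069 F85117) (tt N9774 (iv F121693)) (tt N8069 F85118) (tt N6638 F85119) (tt N9776 (iv F121714)) (tt N7118 (iv F206016)) (tt N6636 (iv D19713)) (tt N7140 F205786) (tt N7129 (iv F206020)) (tt N6647 F85120))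
theorem Q8071 : ∀ i, i < 8071 → P i := stepQ 8070 Q8070 (allL N8070 (tt N8070 F85121) (tt N9775 (iv F121696)) (tt N8070 F85122) (tt N8070 F85123) (tt N9777 (iv F121718)) (tt N6637 F85124) (tt N7129 F206113) (tt N6657 F85125) (tt N6636 (iv D19714)) (tt N7128 (iv F206239)))
theorem Q8072 : ∀ i, i < 8072 → P i := stepQ 8071 Q8071 (allL N8071 (tt N8071 F85126) (tt N7992 (iv F206241)) (tt N8071 F85127) (tt N8071 F85128) (tt N7118 F85129) (tt N7128 (iv F206237)) (tt N7112 (iv F206257)) (tt N6658 F85130) (tt N6649 F85131) (tt N6637 (iv D19715)))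
theorem Q8073 : ∀ i, i < 8073 → P i := stepQ 8072 Q8072 (allL N8072 (tt N8072 F85132) (tt N7973 F205475) (tt N6639 F85133) (tt N7140 (iv F205658)) (tt N6680 F85134) (tt N7130 (iv F205654)) (tt N6659 F85135) (tt N6638 (iv D19716)) (tt N8072 F85136) (tt N6650 F85137))
theorem Q8074 : ∀ i, i < 8074 → P i := stepQ 8073 Q8073 (allL N8073 (tt N6643 F85142) (tt N8073 F85143) (tt N7124 (iv F205724)) (tt N6641 F85144) (tt N9778 D28673) (tt N6640 (iv D19718)) (tt N7967 F205591) (tt N6660 F85145) (tt N7121 (iv F205634)) (tt N7996 (iv F203016)))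
theorem Q8075 : ∀ i, i < 8075 → P i := stepQ 8074 Q8074 (allL N8074 (tt N7124 F205764) (tt N8074 F85154) (tt N6643 F85155) (tt N8074 F85156) (tt N9779 D28678) (tt N6642 (iv D19721)) (tt N9780 D28679) (tt N6662 F85157) (tt N7119 (iv F205994)) (tt N9772 (iv F121683)))
theorem Q8076 : ∀ i, i < 8076 → P i := stepQ 8075 Q8075 (allL N8075 (tt N9778 (iv F121749)) (tt N6646 F85162) (tt N9779 (iv F121771)) (tt N6687 F85163) (tt N6643 (iv D19723)) (tt N7122 F85164) (tt N9781 D28683) (tt N6663 F85165) (tt N9782 D28684) (tt N9773 (iv F121692)))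
theorem Q8077 : ∀ i, i < 8077 → P i := stepQ 8076 Q8076 (allL N8076 (tt N7967 F205500) (tt N6647 F85166) (tt N9780 (iv F121775)) (tt N6645 F85167) (tt N9781 (iv F121790)) (tt N7115 (iv F205676)) (tt N6643 (iv D19724)) (tt N7135 F205501) (tt N7114 (iv F205672)) (tt N9774 (iv F121695)))
theorem Q8078 : ∀ i, i < 8078 → P i := stepQ 8077 Q8077 (allL N8077 (tt N7121 F205752) (tt N6648 F85168) (tt N7119 (iv F205993)) (tt N7116 F205753) (tt N9782 (iv F121792)) (tt N6644 F85169) (tt N7114 F205754) (tt N6665 F85170) (tt N6643 (iv D19725)) (tt N7123 (iv F205995)))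
theorem Q8079 : ∀ i, i < 8079 → P i := stepQ 8078 Q8078 (allL N8078 (tt N8078 F85178) (tt N9781 (iv F121788)) (tt N8078 F85179) (tt N6692 F85180) (tt N6647 F85181) (tt N9777 (iv F206018)) (tt N6646 (iv D19728)) (tt N7139 F205785) (tt N7117 (iv F206013)) (tt N9776 (iv F121715)))
theorem Q8080 : ∀ i, i < 8080 → P i := stepQ 8079 Q8079 (allL N8079 (tt N8079 F85182) (tt N9782 (iv F121791)) (tt N8079 F85183) (tt N7167 F205924) (tt N6648 F85184) (tt N7127 F85185) (tt N7117 (iv F206012)) (tt N6668 F85186) (tt N6646 (iv D19729)) (tt N7126 (iv F206069)))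
theorem Q8081 : ∀ i, i < 8081 → P i := stepQ 8080 Q8080 (allL N8080 (tt N7150 F205765) (tt N8080 F85219) (tt N6652 F85220) (tt N8080 F85221) (tt N9783 D28703) (tt N6651 (iv D19737)) (tt N9784 D28704) (tt N9772 (iv F121682)) (tt N7978 (iv F206008)) (tt N6662 F85222))
theorem Q8082 : ∀ i, i < 8082 → P i := stepQ 8081 Q8081 (allL N8081 (tt N7981 (iv F202889)) (tt N6655 F85227) (tt N9783 (iv F121874)) (tt N6699 F85228) (tt N6652 (iv D19739)) (tt N7133 F85229) (tt N9785 D28708) (tt N9773 (iv F121691)) (tt N9786 D28709) (tt N6663 F85230))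
theorem Q8083 : ∀ i, i < 8083 → P i := stepQ 8082 Q8082 (allL N8082 (tt N7998 (iv F203764)) (tt N6656 F85231) (tt N9784 (iv F121878)) (tt N6654 F85232) (tt N9785 (iv F121896)) (tt N8082 F85233) (tt N6652 (iv D19740)) (tt N9787 D28710) (tt N9788 D28711) (tt N6664 F85234))
theorem Q8084 : ∀ i, i < 8084 → P i := stepQ 8083 Q8083 (allL N8083 (tt N7997 (iv F203766)) (tt N6657 F85235) (tt N7978 (iv F206007)) (tt N8083 F85236) (tt N9786 (iv F121899)) (tt N6653 F85237) (tt N9788 (iv F121908)) (tt N9775 (iv F121699)) (tt N6652 (iv D19741)) (tt N7976 (iv F205996)))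
theorem Q8085 : ∀ i, i < 8085 → P i := stepQ 8084 Q8084 (allL N8084 (tt N7975 F205268) (tt N6659 F85243) (tt N8084 F85244) (tt N9787 (iv F121902)) (tt N6703 F85245) (tt N8084 F85246) (tt N7973 (iv F205382)) (tt N6654 (iv D19743)) (tt N8084 F85247) (tt N6666 F85248))
theorem Q8086 : ∀ i, i < 8086 → P i := stepQ 8085 Q8085 (allL N8085 (tt N8085 F85249) (tt N9785 (iv F121894)) (tt N8085 F85250) (tt N6704 F85251) (tt N6656 F85252) (tt N9789 D28713) (tt N6655 (iv D19744)) (tt N9790 D28714) (tt N9791 D28715) (tt N6667 F85253))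
theorem Q8087 : ∀ i, i < 8087 → P i := stepQ 8086 Q8086 (allL N8086 (tt N8086 F85254) (tt N9786 (iv F121898)) (tt N8086 F85255) (tt N9792 D28716) (tt N6657 F85256) (tt N7139 F85257) (tt N9791 (iv F121927)) (tt N9777 (iv F121720)) (tt N6655 (iv D19745)) (tt N9793 D28717))
theorem Q8088 : ∀ i, i < 8088 → P i := stepQ 8087 Q8087 (allL N8087 (tt N8087 F85258) (tt N9787 (iv F121901)) (tt N8087 F85259) (tt N6659 F85260) (tt N9790 (iv F121922)) (tt N8087 F85261) (tt N7140 (iv F205659)) (tt N6656 (iv D19746)) (tt N7157 (iv F205660)) (tt N6669 F85262))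
theorem Q8089 : ∀ i, i < 8089 → P i := stepQ 8088 Q8088 (allL N8088 (tt N8088 F85263) (tt N9788 (iv F121905)) (tt N8088 F85264) (tt N8088 F85265) (tt N9791 (iv F121926)) (tt N8088 F85266) (tt N6657 F85267) (tt N7157 F205763) (tt N6656 (iv D19747)) (tt N7156 (iv F205987)))
theorem Q8090 : ∀ i, i < 8090 → P i := stepQ 8089 Q8089 (allL N8089 (tt N8089 F85268) (tt N7976 F206095) (tt N8089 F85269) (tt N8089 F85270) (tt N9793 (iv F121934)) (tt N6658 F85271) (tt N7156 F206096) (tt N7128 (iv F206238)) (tt N6671 F85272) (tt N6657 (iv D19748)))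
theorem Q8091 : ∀ i, i < 8091 → P i := stepQ 8090 Q8090 (allL N8090 (tt N6663 F85285) (tt N8090 F85286) (tt N7147 (iv F205716)) (tt N6712 F85287) (tt N6660 (iv D19752)) (tt N7141 F85288) (tt N9794 D28727) (tt N9778 (iv F121753)) (tt N7144 F205594) (tt N7981 (iv F202890)))
theorem Q8092 : ∀ i, i < 8092 → P i := stepQ 8091 Q8091 (allL N8091 (tt N6664 F85289) (tt N8091 F85290) (tt N7149 (iv F205425)) (tt N6661 F85291) (tt N9794 (iv F121977)) (tt N8091 F85292) (tt N6660 (iv D19753)) (tt N7974 F205328) (tt N7145 (iv F205358)) (tt N7998 (iv F203765)))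
theorem Q8093 : ∀ i, i < 8093 → P i := stepQ 8092 Q8092 (allL N8092 (tt N7147 (iv F205715)) (tt N8092 F85305) (tt N6663 F85306) (tt N9795 D28732) (tt N6662 (iv D19757)) (tt N7144 F85307) (tt N9796 D28733) (tt N9779 (iv F121773)) (tt N7141 (iv F205714)) (tt N9783 (iv F121876)))
theorem Q8094 : ∀ i, i < 8094 → P i := stepQ 8093 Q8093 (allL N8093 (tt N7149 F205464) (tt N8093 F85308) (tt N6664 F85309) (tt N8093 F85310) (tt N9796 (iv F121999)) (tt N8093 F85311) (tt N6662 (iv D19758)) (tt N9797 D28735) (tt N7142 (iv F205631)) (tt N9784 (iv F121881)))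
theorem Q8095 : ∀ i, i < 8095 → P i := stepQ 8094 Q8094 (allL N8094 (tt N9794 (iv F121974)) (tt N6667 F85322) (tt N9796 (iv F121998)) (tt N6722 F85323) (tt N6664 F85324) (tt N9798 D28741) (tt N6663 (iv D19762)) (tt N9799 D28742) (tt N9800 D28743) (tt N9785 (iv F121897)))
theorem Q8096 : ∀ i, i < 8096 → P i := stepQ 8095 Q8095 (allL N8095 (tt N7144 F205580) (tt N6668 F85325) (tt N7141 (iv F205713)) (tt N9801 D28744) (tt N6665 F85326) (tt N7147 F85327) (tt N9800 (iv F122034)) (tt N9782 (iv F121794)) (tt N6663 (iv D19763)) (tt N7980 (iv F205717)))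
theorem Q8097 : ∀ i, i < 8097 → P i := stepQ 8096 Q8096 (allL N8096 (tt N7974 F205267) (tt N6669 F85328) (tt N9797 (iv F122005)) (tt N6666 F85329) (tt N9799 (iv F122031)) (tt N8096 F85330) (tt N7135 (iv F205380)) (tt N6664 (iv D19764)) (tt N7134 (iv F205376)) (tt N9787 (iv F121904)))
theorem Q8098 : ∀ i, i < 8098 → P i := stepQ 8097 Q8097 (allL N8097 (tt N7145 F205457) (tt N6670 F85331) (tt N7142 (iv F205630)) (tt N7137 F205458) (tt N9800 (iv F122033)) (tt N8097 F85332) (tt N6665 F85333) (tt N7134 F205459) (tt N6664 (iv D19765)) (tt N7148 (iv F205632)))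
theorem Q8099 : ∀ i, i < 8099 → P i := stepQ 8098 Q8098 (allL N8098 (tt N8098 F85336) (tt N9798 (iv F122025)) (tt N8098 F85337) (tt N6727 F85338) (tt N8098 F85339) (tt N6667 (iv D19767)) (tt N7151 F85340) (tt N9802 D28748) (tt N9803 D28749) (tt N9789 (iv F121918)))
theorem Q8100 : ∀ i, i < 8100 → P i := stepQ 8099 Q8099 (allL N8099 (tt N8099 F85341) (tt N9799 (iv F122029)) (tt N8099 F85342) (tt N6728 F85343) (tt N6669 F85344) (tt N9802 (iv F122051)) (tt N7139 (iv F205657)) (tt N6667 (iv D19768)) (tt N7138 (iv F205648)) (tt N9790 (iv F121923)))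
theorem Q8101 : ∀ i, i < 8101 → P i := stepQ 8100 Q8100 (allL N8100 (tt N8100 F85345) (tt N9800 (iv F122032)) (tt N8100 F85346) (tt N7210 F205552) (tt N6670 F85347) (tt N9803 (iv F122055)) (tt N6668 F85348) (tt N7138 (iv F205647)) (tt N6667 (iv D19769)) (tt N7152 (iv F205706)))
theorem Q8102 : ∀ i, i < 8102 → P i := stepQ 8101 Q8101 (allL N8101 (tt N8101 F85349) (tt N9801 (iv F122035)) (tt N7349 (iv F205696)) (tt N6668 (iv D19770)) (tt N7169 F205550) (tt N7154 F85350) (tt N7210 F205551) (tt N7167 (iv F205700)) (tt N6730 F85351) (tt N7191 (iv F205703)))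
theorem Q8103 : ∀ i, i < 8103 → P i := stepQ 8102 Q8102 (allL N8102 (tt N8102 F85352) (tt N7980 F205927) (tt N8102 F85353) (tt N7191 F205928) (tt N6671 F85354) (tt N7155 F85355) (tt N7152 F205929) (tt N7126 (iv F206068)) (tt N9793 (iv F121936)) (tt N6668 (iv D19771)))
theorem Q8104 : ∀ i, i < 8104 → P i := stepQ 8103 Q8103 (allL N8103 (tt N7888 (iv F201534)) (tt N6802 F85387) (tt N6673 F85388) (tt N8103 F85389) (tt N9804 D28764) (tt N6672 (iv D19778)) (tt N9805 D28765) (tt N6697 F85390) (tt N9806 D28766) (tt N6685 F85391))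
theorem Q8105 : ∀ i, i < 8105 → P i := stepQ 8104 Q8104 (allL N8104 (tt N7372 (iv F201523)) (tt N6803 F85392) (tt N6674 F85393) (tt N9807 D28767) (tt N7161 F85394) (tt N9806 (iv F122137)) (tt N8104 F85395) (tt N6698 F85396) (tt N6672 (iv D19779)) (tt N9808 D28768))
theorem Q8106 : ∀ i, i < 8106 → P i := stepQ 8105 Q8105 (allL N8105 (tt N7971 (iv F202256)) (tt N6676 F85397) (tt N9804 (iv F122126)) (tt N9773 (iv F121689)) (tt N6673 (iv D19780)) (tt N7162 F85398) (tt N9809 D28769) (tt N6699 F85399) (tt N9810 D28770) (tt N6687 F85400))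
theorem Q8107 : ∀ i, i < 8107 → P i := stepQ 8106 Q8106 (allL N8106 (tt N7972 (iv F202391)) (tt N6677 F85401) (tt N9805 (iv F122131)) (tt N6675 F85402) (tt N9809 (iv F122151)) (tt N8106 F85403) (tt N6673 (iv D19781)) (tt N9811 D28771) (tt N9812 D28772) (tt N6688 F85404))
theorem Q8108 : ∀ i, i < 8108 → P i := stepQ 8107 Q8107 (allL N8107 (tt N7676 (iv F202378)) (tt N6678 F85405) (tt N9806 (iv F122136)) (tt N8107 F85406) (tt N9810 (iv F122154)) (tt N6674 F85407) (tt N9812 (iv F122165)) (tt N6701 F85408) (tt N6673 (iv D19782)) (tt N9813 D28773))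
theorem Q8109 : ∀ i, i < 8109 → P i := stepQ 8108 Q8108 (allL N8108 (tt N7677 (iv F202379)) (tt N6679 F85409) (tt N9808 (iv F122145)) (tt N8108 F85410) (tt N7165 F85411) (tt N9813 (iv F122168)) (tt N8108 F85412) (tt N6702 F85413) (tt N6690 F85414) (tt N6674 (iv D19783)))
theorem Q8110 : ∀ i, i < 8110 → P i := stepQ 8109 Q8109 (allL N8109 (tt N7708 F205271) (tt N6680 F85415) (tt N8109 F85416) (tt N9811 (iv F122158)) (tt N7973 (iv F205381)) (tt N8109 F85417) (tt N6703 F85418) (tt N6675 (iv D19784)) (tt N8109 F85419) (tt N6691 F85420))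
theorem Q8111 : ∀ i, i < 8111 → P i := stepQ 8110 Q8110 (allL N8110 (tt N8110 F85421) (tt N9809 (iv F122150)) (tt N6809 F85422) (tt N9776 (iv F121713)) (tt N6677 F85423) (tt N9814 D28774) (tt N6676 (iv D19785)) (tt N9815 D28775) (tt N9816 D28776) (tt N6692 F85424))
theorem Q8112 : ∀ i, i < 8112 → P i := stepQ 8111 Q8111 (allL N8111 (tt N8111 F85425) (tt N9810 (iv F122153)) (tt N6810 F85426) (tt N9817 D28777) (tt N6678 F85427) (tt N7168 F85428) (tt N9816 (iv F122184)) (tt N6705 F85429) (tt N6676 (iv D19786)) (tt N9818 D28778))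
theorem Q8113 : ∀ i, i < 8113 → P i := stepQ 8112 Q8112 (allL N8112 (tt N8112 F85430) (tt N9811 (iv F122157)) (tt N6811 F85431) (tt N6680 F85432) (tt N9815 (iv F122178)) (tt N8112 F85433) (tt N6706 F85434) (tt N6677 (iv D19787)) (tt N9819 D28779) (tt N6694 F85435))
theorem Q8114 : ∀ i, i < 8114 → P i := stepQ 8113 Q8113 (allL N8113 (tt N8113 F85436) (tt N9812 (iv F122162)) (tt N6812 F85437) (tt N8113 F85438) (tt N9816 (iv F122183)) (tt N8113 F85439) (tt N6678 F85440) (tt N9819 (iv F122200)) (tt N6677 (iv D19788)) (tt N9820 D28780))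
theorem Q8115 : ∀ i, i < 8115 → P i := stepQ 8114 Q8114 (allL N8114 (tt N8114 F85441) (tt N9813 (iv F122166)) (tt N6813 F85442) (tt N8114 F85443) (tt N9818 (iv F122191)) (tt N6679 F85444) (tt N9820 (iv F122205)) (tt N6708 F85445) (tt N6696 F85446) (tt N6678 (iv D19789)))
theorem Q8116 : ∀ i, i < 8116 → P i := stepQ 8115 Q8115 (allL N8115 (tt N6814 F85447) (tt N6681 (iv D19790)) (tt N8115 F85448) (tt N8115 F85449) (tt N7172 F85450) (tt N9821 D28781) (tt N8115 F85451) (tt N6709 F85452) (tt N9822 D28782) (tt N7842 F201125))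
theorem Q8117 : ∀ i, i < 8117 → P i := stepQ 8116 Q8116 (allL N8116 (tt N6685 F85453) (tt N9821 (iv F122208)) (tt N6682 F85454) (tt N8116 F85455) (tt N9823 D28783) (tt N6681 (iv D19791)) (tt N9824 D28784) (tt N6710 F85456) (tt N9825 D28785) (tt N7888 (iv F201535)))
theorem Q8118 : ∀ i, i < 8118 → P i := stepQ 8117 Q8117 (allL N8117 (tt N6686 F85457) (tt N9822 (iv F122213)) (tt N6683 F85458) (tt N9826 D28786) (tt N7174 F85459) (tt N9825 (iv F122228)) (tt N8117 F85460) (tt N6711 F85461) (tt N6681 (iv D19792)) (tt N9827 D28787))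
theorem Q8119 : ∀ i, i < 8119 → P i := stepQ 8118 Q8118 (allL N8118 (tt N6687 F85462) (tt N8118 F85463) (tt N9823 (iv F122219)) (tt N9778 (iv F121751)) (tt N6682 (iv D19793)) (tt N7175 F85464) (tt N9828 D28788) (tt N6712 F85465) (tt N9829 D28789) (tt N7971 (iv F202257)))
theorem Q8120 : ∀ i, i < 8120 → P i := stepQ 8119 Q8119 (allL N8119 (tt N6688 F85466) (tt N8119 F85467) (tt N9824 (iv F122223)) (tt N6684 F85468) (tt N9828 (iv F122241)) (tt N8119 F85469) (tt N6682 (iv D19794)) (tt N7707 F205332) (tt N7669 F205333) (tt N7972 (iv F202392)))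
theorem Q8121 : ∀ i, i < 8121 → P i := stepQ 8120 Q8120 (allL N8120 (tt N6689 F85470) (tt N8120 F85471) (tt N9825 (iv F122227)) (tt N7668 F205151) (tt N9829 (iv F122244)) (tt N6683 F85472) (tt N7669 (iv F205232)) (tt N6714 F85473) (tt N6682 (iv D19795)) (tt N9830 D28792))
theorem Q8122 : ∀ i, i < 8122 → P i := stepQ 8121 Q8121 (allL N8121 (tt N6690 F85474) (tt N8121 F85475) (tt N9827 (iv F122235)) (tt N9718 (iv F121015)) (tt N7178 F85476) (tt N9830 (iv F122258)) (tt N8121 F85477) (tt N6715 F85478) (tt N7677 (iv F202380)) (tt N6683 (iv D19796)))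
theorem Q8123 : ∀ i, i < 8123 → P i := stepQ 8122 Q8122 (allL N8122 (tt N9823 (iv F122218)) (tt N6822 F85484) (tt N6687 F85485) (tt N9831 D28793) (tt N6685 (iv D19798)) (tt N7180 F85486) (tt N9832 D28794) (tt N6717 F85487) (tt N9833 D28795) (tt N9804 (iv F122129)))
theorem Q8124 : ∀ i, i < 8124 → P i := stepQ 8123 Q8123 (allL N8123 (tt N9824 (iv F122222)) (tt N6823 F85488) (tt N6688 F85489) (tt N8123 F85490) (tt N9832 (iv F122266)) (tt N8123 F85491) (tt N6685 (iv D19799)) (tt N9834 D28796) (tt N9835 D28797) (tt N9805 (iv F122134)))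
theorem Q8125 : ∀ i, i < 8125 → P i := stepQ 8124 Q8124 (allL N8124 (tt N9825 (iv F122226)) (tt N6824 F85492) (tt N6689 F85493) (tt N9836 D28798) (tt N9833 (iv F122269)) (tt N6686 F85494) (tt N9835 (iv F122280)) (tt N6719 F85495) (tt N6685 (iv D19800)) (tt N9837 D28799))
theorem Q8126 : ∀ i, i < 8126 → P i := stepQ 8125 Q8125 (allL N8125 (tt N9826 (iv F122230)) (tt N6825 F85496) (tt N9719 (iv F121042)) (tt N6686 (iv D19801)) (tt N9838 D28800) (tt N9836 (iv F122282)) (tt N8125 F85497) (tt N6720 F85498) (tt N8125 F85499) (tt N9839 D28801))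
theorem Q8127 : ∀ i, i < 8127 → P i := stepQ 8126 Q8126 (allL N8126 (tt N9827 (iv F122234)) (tt N6826 F85500) (tt N6690 F85501) (tt N9839 (iv F122295)) (tt N7184 F85502) (tt N9837 (iv F122287)) (tt N8126 F85503) (tt N6721 F85504) (tt N9808 (iv F122149)) (tt N6686 (iv D19802)))
theorem Q8128 : ∀ i, i < 8128 → P i := stepQ 8127 Q8127 (allL N8127 (tt N9828 (iv F122239)) (tt N6692 F85505) (tt N9832 (iv F122265)) (tt N9781 (iv F121789)) (tt N6688 F85506) (tt N9840 D28802) (tt N6687 (iv D19803)) (tt N9841 D28803) (tt N9842 D28804) (tt N9809 (iv F122152)))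
theorem Q8129 : ∀ i, i < 8129 → P i := stepQ 8128 Q8128 (allL N8128 (tt N9829 (iv F122242)) (tt N6693 F85507) (tt N9833 (iv F122268)) (tt N9843 D28805) (tt N6689 F85508) (tt N7186 F85509) (tt N9842 (iv F122306)) (tt N6723 F85510) (tt N6687 (iv D19804)) (tt N9844 D28806))
theorem Q8130 : ∀ i, i < 8130 → P i := stepQ 8129 Q8129 (allL N8129 (tt N7707 F205269) (tt N6694 F85511) (tt N9834 (iv F122273)) (tt N6691 F85512) (tt N9841 (iv F122302)) (tt N8129 F85513) (tt N6724 F85514) (tt N6688 (iv D19805)) (tt N7696 F205270) (tt N9811 (iv F122161)))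
theorem Q8131 : ∀ i, i < 8131 → P i := stepQ 8130 Q8130 (allL N8130 (tt N7669 F205272) (tt N6695 F85515) (tt N9835 (iv F122278)) (tt N7660 F205273) (tt N9842 (iv F122305)) (tt N8130 F85516) (tt N6689 F85517) (tt N7696 F205274) (tt N6688 (iv D19806)) (tt N9845 D28808))
theorem Q8132 : ∀ i, i < 8132 → P i := stepQ 8131 Q8131 (allL N8131 (tt N9830 (iv F122256)) (tt N6696 F85518) (tt N9837 (iv F122286)) (tt N9721 (iv F121069)) (tt N9844 (iv F122311)) (tt N6690 F85519) (tt N9845 (iv F122320)) (tt N6726 F85520) (tt N9813 (iv F122170)) (tt N6689 (iv D19807)))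
theorem Q8133 : ∀ i, i < 8133 → P i := stepQ 8132 Q8132 (allL N8132 (tt N8132 F85521) (tt N9840 (iv F122298)) (tt N6832 F85522) (tt N9777 (iv F206017)) (tt N8132 F85523) (tt N6692 (iv D19808)) (tt N7190 F85524) (tt N9792 F205795) (tt N9817 F205796) (tt N9814 (iv F122175)))
theorem Q8134 : ∀ i, i < 8134 → P i := stepQ 8133 Q8133 (allL N8133 (tt N8133 F85525) (tt N9841 (iv F122301)) (tt N6833 F85526) (tt N7139 (iv F205656)) (tt N6694 F85527) (tt N9792 (iv F205661)) (tt N6728 F85528) (tt N6692 (iv D19809)) (tt N7212 F205476) (tt N9815 (iv F122180)))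
theorem Q8135 : ∀ i, i < 8135 → P i := stepQ 8134 Q8134 (allL N8134 (tt N8134 F85529) (tt N9842 (iv F122304)) (tt N6834 F85530) (tt N7168 (iv F205662)) (tt N6695 F85531) (tt N9817 (iv F205666)) (tt N6693 F85532) (tt N7212 F205483) (tt N6692 (iv D19810)) (tt N9846 D28813))
theorem Q8136 : ∀ i, i < 8136 → P i := stepQ 8135 Q8135 (allL N8135 (tt N8135 F85533) (tt N9843 (iv F122307)) (tt N7350 (iv F205694)) (tt N6693 (iv D19811)) (tt N7170 F205549) (tt N7193 F85534) (tt N7168 (iv F205663)) (tt N6730 F85535) (tt N7167 (iv F205701)) (tt N9847 D28815))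
theorem Q8137 : ∀ i, i < 8137 → P i := stepQ 8136 Q8136 (allL N8136 (tt N8136 F85536) (tt N9844 (iv F122310)) (tt N6836 F85537) (tt N9847 (iv F122346)) (tt N6696 F85538) (tt N7194 F85539) (tt N9846 (iv F122340)) (tt N6731 F85540) (tt N9818 (iv F122194)) (tt N6693 (iv D19812)))
theorem Q8138 : ∀ i, i < 8138 → P i := stepQ 8137 Q8137 (allL N8137 (tt N8137 F85541) (tt N7696 F205253) (tt N6837 F85542) (tt N7197 F205254) (tt N7212 (iv F205372)) (tt N8137 F85543) (tt N6732 F85544) (tt N6695 F85545) (tt N6694 (iv D19813)) (tt N9848 D28816))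
theorem Q8139 : ∀ i, i < 8139 → P i := stepQ 8138 Q8138 (allL N8138 (tt N8138 F85546) (tt N9845 (iv F122318)) (tt N6838 F85547) (tt N9723 (iv F121105)) (tt N9846 (iv F122339)) (tt N8138 F85548) (tt N6696 F85549) (tt N9848 (iv F122353)) (tt N9820 (iv F122206)) (tt N6695 (iv D19814)))
theorem Q8140 : ∀ i, i < 8140 → P i := stepQ 8139 Q8139 (allL N8139 (tt N7902 (iv F202260)) (tt N6863 F85589) (tt N6699 F85590) (tt N9849 D28829) (tt N6697 (iv D19823)) (tt N7200 F85591) (tt N9850 D28830) (tt N9804 (iv F122128)) (tt N9851 D28831) (tt N6717 F85592))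
theorem Q8141 : ∀ i, i < 8141 → P i := stepQ 8140 Q8140 (allL N8140 (tt N7903 (iv F202387)) (tt N6864 F85593) (tt N6700 F85594) (tt N8140 F85595) (tt N9850 (iv F122414)) (tt N6735 F85596) (tt N6697 (iv D19824)) (tt N9852 D28832) (tt N9853 D28833) (tt N6718 F85597))
theorem Q8142 : ∀ i, i < 8142 → P i := stepQ 8141 Q8141 (allL N8141 (tt N7449 (iv F202353)) (tt N6865 F85598) (tt N6701 F85599) (tt N9854 D28834) (tt N9851 (iv F122418)) (tt N6698 F85600) (tt N9853 (iv F122428)) (tt N9806 (iv F122138)) (tt N6697 (iv D19825)) (tt N9855 D28835))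
theorem Q8143 : ∀ i, i < 8143 → P i := stepQ 8142 Q8142 (allL N8142 (tt N6899 (iv F202344)) (tt N6866 F85601) (tt N8142 F85602) (tt N6698 (iv D19826)) (tt N6885 (iv F202339)) (tt N9854 (iv F122431)) (tt N6737 F85603) (tt N9807 (iv F122142)) (tt N8142 F85604) (tt N9856 D28837))
theorem Q8144 : ∀ i, i < 8144 → P i := stepQ 8143 Q8143 (allL N8143 (tt N7450 (iv F202354)) (tt N6867 F85605) (tt N6702 F85606) (tt N9856 (iv F122444)) (tt N7203 F85607) (tt N9855 (iv F122435)) (tt N6738 F85608) (tt N9808 (iv F122148)) (tt N6721 F85609) (tt N6698 (iv D19827)))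
theorem Q8145 : ∀ i, i < 8145 → P i := stepQ 8144 Q8144 (allL N8144 (tt N7984 (iv F203140)) (tt N6704 F85610) (tt N9850 (iv F122413)) (tt N9785 (iv F121895)) (tt N6700 F85611) (tt N9857 D28838) (tt N6699 (iv D19828)) (tt N9858 D28839) (tt N9859 D28840) (tt N6722 F85612))
theorem Q8146 : ∀ i, i < 8146 → P i := stepQ 8145 Q8145 (allL N8145 (tt N7720 (iv F203137)) (tt N6705 F85613) (tt N9851 (iv F122417)) (tt N9860 D28841) (tt N6701 F85614) (tt N7205 F85615) (tt N9859 (iv F122455)) (tt N9810 (iv F122156)) (tt N6699 (iv D19829)) (tt N9861 D28842))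
theorem Q8147 : ∀ i, i < 8147 → P i := stepQ 8146 Q8146 (allL N8146 (tt N7985 (iv F203285)) (tt N6706 F85616) (tt N9852 (iv F122421)) (tt N6703 F85617) (tt N9858 (iv F122451)) (tt N6741 F85618) (tt N9811 (iv F122160)) (tt N6700 (iv D19830)) (tt N9862 D28843) (tt N6724 F85619))
theorem Q8148 : ∀ i, i < 8148 → P i := stepQ 8147 Q8147 (allL N8147 (tt N7722 (iv F203257)) (tt N6707 F85620) (tt N9853 (iv F122426)) (tt N8147 F85621) (tt N9859 (iv F122454)) (tt N6742 F85622) (tt N6701 F85623) (tt N9862 (iv F122466)) (tt N6700 (iv D19831)) (tt N9863 D28844))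
theorem Q8149 : ∀ i, i < 8149 → P i := stepQ 8148 Q8148 (allL N8148 (tt N7723 (iv F203258)) (tt N6708 F85624) (tt N9855 (iv F122434)) (tt N8148 F85625) (tt N9861 (iv F122460)) (tt N6702 F85626) (tt N9863 (iv F122470)) (tt N9813 (iv F122169)) (tt N6726 F85627) (tt N6701 (iv D19832)))
theorem Q8150 : ∀ i, i < 8150 → P i := stepQ 8149 Q8149 (allL N8149 (tt N8149 F85628) (tt N9857 (iv F122446)) (tt N6873 F85629) (tt N9789 (iv F121915)) (tt N6744 F85630) (tt N6704 (iv D19833)) (tt N7209 F85631) (tt N9864 D28845) (tt N9865 D28846) (tt N6727 F85632))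
theorem Q8151 : ∀ i, i < 8151 → P i := stepQ 8150 Q8150 (allL N8150 (tt N8150 F85633) (tt N9858 (iv F122450)) (tt N6874 F85634) (tt N9790 (iv F121921)) (tt N6706 F85635) (tt N9864 (iv F122475)) (tt N9815 (iv F122179)) (tt N6704 (iv D19834)) (tt N9866 D28847) (tt N6728 F85636))
theorem Q8152 : ∀ i, i < 8152 → P i := stepQ 8151 Q8151 (allL N8151 (tt N8151 F85637) (tt N9859 (iv F122453)) (tt N6875 F85638) (tt N9867 D28848) (tt N6707 F85639) (tt N9865 (iv F122480)) (tt N6705 F85640) (tt N9866 (iv F122485)) (tt N6704 (iv D19835)) (tt N9868 D28849))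
theorem Q8153 : ∀ i, i < 8153 → P i := stepQ 8152 Q8152 (allL N8152 (tt N8152 F85641) (tt N9860 (iv F122456)) (tt N9869 D28850) (tt N6705 (iv D19836)) (tt N8152 F85642) (tt N7212 F85643) (tt N9867 (iv F122488)) (tt N9817 (iv F122188)) (tt N9792 (iv F121931)) (tt N9870 D28851))
theorem Q8154 : ∀ i, i < 8154 → P i := stepQ 8153 Q8153 (allL N8153 (tt N8153 F85644) (tt N9861 (iv F122459)) (tt N6877 F85645) (tt N9870 (iv F122499)) (tt N6708 F85646) (tt N7213 F85647) (tt N9868 (iv F122492)) (tt N9818 (iv F122193)) (tt N6731 F85648) (tt N6705 (iv D19837)))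
theorem Q8155 : ∀ i, i < 8155 → P i := stepQ 8154 Q8154 (allL N8154 (tt N8154 F85649) (tt N9862 (iv F122463)) (tt N6878 F85650) (tt N8154 F85651) (tt N9866 (iv F122484)) (tt N6749 F85652) (tt N9819 (iv F122199)) (tt N6707 F85653) (tt N6706 (iv D19838)) (tt N9871 D28852))
theorem Q8156 : ∀ i, i < 8156 → P i := stepQ 8155 Q8155 (allL N8155 (tt N8155 F85654) (tt N9863 (iv F122467)) (tt N6879 F85655) (tt N8155 F85656) (tt N9868 (iv F122491)) (tt N6750 F85657) (tt N6708 F85658) (tt N9871 (iv F122506)) (tt N6733 F85659) (tt N6707 (iv D19839)))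
theorem Q8157 : ∀ i, i < 8157 → P i := stepQ 8156 Q8156 (allL N8156 (tt N6880 F85660) (tt N6710 F85661) (tt N8156 F85662) (tt N8156 F85663) (tt N9872 D28853) (tt N6709 (iv D19840)) (tt N9873 D28854) (tt N9821 (iv F122211)) (tt N9874 D28855) (tt N7855 (iv F201542)))
theorem Q8158 : ∀ i, i < 8158 → P i := stepQ 8157 Q8157 (allL N8157 (tt N6881 F85664) (tt N6711 F85665) (tt N8157 F85666) (tt N9875 D28856) (tt N7217 F85667) (tt N9874 (iv F122520)) (tt N6752 F85668) (tt N9822 (iv F122217)) (tt N6709 (iv D19841)) (tt N9876 D28857))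
theorem Q8159 : ∀ i, i < 8159 → P i := stepQ 8158 Q8158 (allL N8158 (tt N6717 F85669) (tt N9872 (iv F122509)) (tt N6712 F85670) (tt N9877 D28858) (tt N6710 (iv D19842)) (tt N7218 F85671) (tt N9878 D28859) (tt N9823 (iv F122221)) (tt N9879 D28860) (tt N7902 (iv F202261)))
theorem Q8160 : ∀ i, i < 8160 → P i := stepQ 8159 Q8159 (allL N8159 (tt N6718 F85672) (tt N9873 (iv F122513)) (tt N6713 F85673) (tt N8159 F85674) (tt N9878 (iv F122535)) (tt N6754 F85675) (tt N6710 (iv D19843)) (tt N9880 D28861) (tt N9881 D28862) (tt N7903 (iv F202388)))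
theorem Q8161 : ∀ i, i < 8161 → P i := stepQ 8160 Q8160 (allL N8160 (tt N6719 F85676) (tt N9874 (iv F122518)) (tt N6714 F85677) (tt N9882 D28863) (tt N9879 (iv F122538)) (tt N6711 F85678) (tt N9881 (iv F122547)) (tt N9825 (iv F122229)) (tt N6710 (iv D19844)) (tt N9883 D28864))
theorem Q8162 : ∀ i, i < 8162 → P i := stepQ 8161 Q8161 (allL N8161 (tt N6720 F85679) (tt N9875 (iv F122522)) (tt N9724 (iv F121132)) (tt N6711 (iv D19845)) (tt N9884 D28865) (tt N9882 (iv F122549)) (tt N6756 F85680) (tt N9826 (iv F122232)) (tt N8161 F85681) (tt N9885 D28866))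
theorem Q8163 : ∀ i, i < 8163 → P i := stepQ 8162 Q8162 (allL N8162 (tt N6721 F85682) (tt N9876 (iv F122526)) (tt N6715 F85683) (tt N9885 (iv F122559)) (tt N7222 F85684) (tt N9883 (iv F122553)) (tt N6757 F85685) (tt N9827 (iv F122238)) (tt N7450 (iv F202355)) (tt N6711 (iv D19846)))
theorem Q8164 : ∀ i, i < 8164 → P i := stepQ 8163 Q8163 (allL N8163 (tt N6722 F85686) (tt N8163 F85687) (tt N9878 (iv F122534)) (tt N9794 (iv F121976)) (tt N6713 F85688) (tt N9886 D28867) (tt N6712 (iv D19847)) (tt N9887 D28868) (tt N9888 D28869) (tt N7984 (iv F203141)))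
theorem Q8165 : ∀ i, i < 8165 → P i := stepQ 8164 Q8164 (allL N8164 (tt N6723 F85689) (tt N8164 F85690) (tt N9879 (iv F122537)) (tt N9889 D28870) (tt N6714 F85691) (tt N7224 F85692) (tt N9888 (iv F122571)) (tt N9829 (iv F122246)) (tt N6712 (iv D19848)) (tt N9890 D28871))
theorem Q8166 : ∀ i, i < 8166 → P i := stepQ 8165 Q8165 (allL N8165 (tt N6724 F85693) (tt N8165 F85694) (tt N9880 (iv F122541)) (tt N6716 F85695) (tt N9887 (iv F122567)) (tt N6760 F85696) (tt N7707 (iv F205228)) (tt N6713 (iv D19849)) (tt N7711 F205141) (tt N7985 (iv F203286)))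
theorem Q8167 : ∀ i, i < 8167 → P i := stepQ 8166 Q8166 (allL N8166 (tt N6725 F85697) (tt N8166 F85698) (tt N9881 (iv F122545)) (tt N7710 F205013) (tt N9888 (iv F122570)) (tt N6761 F85699) (tt N6714 F85700) (tt N7711 (iv F205069)) (tt N6713 (iv D19850)) (tt N9891 D28873))
theorem Q8168 : ∀ i, i < 8168 → P i := stepQ 8167 Q8167 (allL N8167 (tt N6726 F85701) (tt N8167 F85702) (tt N9883 (iv F122552)) (tt N9726 (iv F121160)) (tt N9890 (iv F122577)) (tt N6715 F85703) (tt N9891 (iv F122586)) (tt N9830 (iv F122259)) (tt N7723 (iv F203259)) (tt N6714 (iv D19851)))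
theorem Q8169 : ∀ i, i < 8169 → P i := stepQ 8168 Q8168 (allL N8168 (tt N9877 (iv F122530)) (tt N6892 F85704) (tt N9795 (iv F121994)) (tt N6717 (iv D19852)) (tt N8168 F85705) (tt N7228 F85706) (tt N9892 D28874) (tt N9831 (iv F122263)) (tt N9893 D28875) (tt N9849 (iv F122411)))
theorem Q8170 : ∀ i, i < 8170 → P i := stepQ 8169 Q8169 (allL N8169 (tt N9878 (iv F122533)) (tt N6893 F85707) (tt N6722 F85708) (tt N9892 (iv F122588)) (tt N6718 F85709) (tt N9894 D28876) (tt N6717 (iv D19853)) (tt N9895 D28877) (tt N9896 D28878) (tt N9850 (iv F122415)))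
theorem Q8171 : ∀ i, i < 8171 → P i := stepQ 8170 Q8170 (allL N8170 (tt N9879 (iv F122536)) (tt N6894 F85710) (tt N6723 F85711) (tt N9897 D28879) (tt N6719 F85712) (tt N7230 F85713) (tt N9896 (iv F122603)) (tt N9833 (iv F122271)) (tt N6717 (iv D19854)) (tt N9898 D28880))
theorem Q8172 : ∀ i, i < 8172 → P i := stepQ 8171 Q8171 (allL N8171 (tt N9880 (iv F122540)) (tt N6895 F85714) (tt N6724 F85715) (tt N8171 F85716) (tt N9895 (iv F122599)) (tt N6766 F85717) (tt N9834 (iv F122276)) (tt N6718 (iv D19855)) (tt N9899 D28881) (tt N9852 (iv F122424)))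
theorem Q8173 : ∀ i, i < 8173 → P i := stepQ 8172 Q8172 (allL N8172 (tt N9881 (iv F122544)) (tt N6896 F85718) (tt N6725 F85719) (tt N9900 D28882) (tt N9896 (iv F122602)) (tt N6767 F85720) (tt N6719 F85721) (tt N9899 (iv F122613)) (tt N6718 (iv D19856)) (tt N9901 D28883))
theorem Q8174 : ∀ i, i < 8174 → P i := stepQ 8173 Q8173 (allL N8173 (tt N9882 (iv F122548)) (tt N6897 F85722) (tt N9727 (iv F121185)) (tt N6719 (iv D19857)) (tt N9902 D28884) (tt N6720 F85723) (tt N9900 (iv F122616)) (tt N9836 (iv F122283)) (tt N8173 F85724) (tt N9903 D28885))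
theorem Q8175 : ∀ i, i < 8175 → P i := stepQ 8174 Q8174 (allL N8174 (tt N9883 (iv F122551)) (tt N6898 F85725) (tt N6726 F85726) (tt N9903 (iv F122625)) (tt N9898 (iv F122608)) (tt N6721 F85727) (tt N9901 (iv F122621)) (tt N9837 (iv F122288)) (tt N9855 (iv F122436)) (tt N6719 (iv D19858)))
theorem Q8176 : ∀ i, i < 8176 → P i := stepQ 8175 Q8175 (allL N8175 (tt N9884 (iv F122554)) (tt N6899 F85728) (tt N9729 (iv F121193)) (tt N7235 F85729) (tt N6720 (iv D19859)) (tt N9904 D28886) (tt N6770 F85730) (tt N9838 (iv F122292)) (tt N8175 F85731) (tt N9905 D28887))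
theorem Q8177 : ∀ i, i < 8177 → P i := stepQ 8176 Q8176 (allL N8176 (tt N9885 (iv F122558)) (tt N6900 F85732) (tt N9730 (iv F121198)) (tt N6721 F85733) (tt N9905 (iv F122632)) (tt N9903 (iv F122626)) (tt N6771 F85734) (tt N9839 (iv F122297)) (tt N9906 D28888) (tt N6720 (iv D19860)))
theorem Q8178 : ∀ i, i < 8178 → P i := stepQ 8177 Q8177 (allL N8177 (tt N9886 (iv F122561)) (tt N6727 F85735) (tt N9894 (iv F122594)) (tt N9798 (iv F122026)) (tt N6772 F85736) (tt N6722 (iv D19861)) (tt N7237 F85737) (tt N9907 D28889) (tt N9908 D28890) (tt N9857 (iv F122449)))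
theorem Q8179 : ∀ i, i < 8179 → P i := stepQ 8178 Q8178 (allL N8178 (tt N9887 (iv F122565)) (tt N6728 F85738) (tt N9895 (iv F122598)) (tt N9799 (iv F122030)) (tt N6724 F85739) (tt N9907 (iv F122639)) (tt N9841 (iv F122303)) (tt N6722 (iv D19862)) (tt N9909 D28891) (tt N9858 (iv F122452)))
theorem Q8180 : ∀ i, i < 8180 → P i := stepQ 8179 Q8179 (allL N8179 (tt N9888 (iv F122568)) (tt N6729 F85740) (tt N9896 (iv F122601)) (tt N9910 D28892) (tt N6725 F85741) (tt N9908 (iv F122642)) (tt N6723 F85742) (tt N9909 (iv F122646)) (tt N6722 (iv D19863)) (tt N9911 D28893))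
theorem Q8181 : ∀ i, i < 8181 → P i := stepQ 8180 Q8180 (allL N8180 (tt N9889 (iv F122572)) (tt N6730 F85743) (tt N9912 D28894) (tt N6723 (iv D19864)) (tt N9731 (iv F121212)) (tt N7240 F85744) (tt N9910 (iv F122648)) (tt N9843 (iv F122309)) (tt N9801 (iv F122037)) (tt N9913 D28895))
theorem Q8182 : ∀ i, i < 8182 → P i := stepQ 8181 Q8181 (allL N8181 (tt N9890 (iv F122575)) (tt N6731 F85745) (tt N9898 (iv F122607)) (tt N9913 (iv F122654)) (tt N6726 F85746) (tt N7241 F85747) (tt N9911 (iv F122651)) (tt N9844 (iv F122313)) (tt N9861 (iv F122462)) (tt N6723 (iv D19865)))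
theorem Q8183 : ∀ i, i < 8183 → P i := stepQ 8182 Q8182 (allL N8182 (tt N7711 F205104) (tt N6732 F85748) (tt N9899 (iv F122611)) (tt N7695 F205105) (tt N9909 (iv F122645)) (tt N6777 F85749) (tt N7696 (iv F205192)) (tt N6725 F85750) (tt N6724 (iv D19866)) (tt N9914 D28896))
theorem Q8184 : ∀ i, i < 8184 → P i := stepQ 8183 Q8183 (allL N8183 (tt N9891 (iv F122583)) (tt N6733 F85751) (tt N9901 (iv F122619)) (tt N9733 (iv F121223)) (tt N9911 (iv F122650)) (tt N6778 F85752) (tt N6726 F85753) (tt N9914 (iv F122658)) (tt N9863 (iv F122471)) (tt N6725 (iv D19867)))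
theorem Q8185 : ∀ i, i < 8185 → P i := stepQ 8184 Q8184 (allL N8184 (tt N8184 F85754) (tt N9907 (iv F122637)) (tt N6908 F85755) (tt N9802 (iv F122049)) (tt N6779 F85756) (tt N6728 F85757) (tt N9915 D28897) (tt N6727 (iv D19868)) (tt N9916 D28898) (tt N9864 (iv F122476)))
theorem Q8186 : ∀ i, i < 8186 → P i := stepQ 8185 Q8185 (allL N8185 (tt N8185 F85758) (tt N9908 (iv F122640)) (tt N6909 F85759) (tt N9917 D28899) (tt N6780 F85760) (tt N6729 F85761) (tt N7245 F85762) (tt N9916 (iv F122667)) (tt N6727 (iv D19869)) (tt N9918 D28900))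
theorem Q8187 : ∀ i, i < 8187 → P i := stepQ 8186 Q8186 (allL N8186 (tt N8186 F85763) (tt N9909 (iv F122644)) (tt N6910 F85764) (tt N7211 (iv F205368)) (tt N6732 F85765) (tt N9916 (iv F122666)) (tt N7212 (iv F205373)) (tt N6729 F85766) (tt N6728 (iv D19870)) (tt N9919 D28902))
theorem Q8188 : ∀ i, i < 8188 → P i := stepQ 8187 Q8187 (allL N8187 (tt N8187 F85767) (tt N9910 (iv F122647)) (tt N7416 (iv F205405)) (tt N6729 (iv D19871)) (tt N7214 F205298) (tt N9917 (iv F122669)) (tt N6730 F85768) (tt N7211 (iv F205369)) (tt N7210 (iv F205406)) (tt N9920 D28904))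
theorem Q8189 : ∀ i, i < 8189 → P i := stepQ 8188 Q8188 (allL N8188 (tt N8188 F85769) (tt N9911 (iv F122649)) (tt N6912 F85770) (tt N9920 (iv F122686)) (tt N6733 F85771) (tt N9918 (iv F122674)) (tt N6731 F85772) (tt N9919 (iv F122681)) (tt N9868 (iv F122493)) (tt N6729 (iv D19872)))
theorem Q8190 : ∀ i, i < 8190 → P i := stepQ 8189 Q8189 (allL N8189 (tt N8189 F85773) (tt N9921 D28905) (tt N6730 (iv D19873)) (tt N6913 F85774) (tt N7353 F205546) (tt N7249 F85775) (tt N7416 F205547) (tt N7350 (iv F205695)) (tt N7349 (iv F205697)) (tt N9922 D28906))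
theorem Q8191 : ∀ i, i < 8191 → P i := stepQ 8190 Q8190 (allL N8190 (tt N8190 F85776) (tt N9913 (iv F122653)) (tt N9922 (iv F122691)) (tt N6731 F85777) (tt N9735 (iv F121255)) (tt N7250 F85778) (tt N9920 (iv F122687)) (tt N9847 (iv F122348)) (tt N9923 D28907) (tt N6730 (iv D19874)))
theorem Q8192 : ∀ i, i < 8192 → P i := stepQ 8191 Q8191 (allL N8191 (tt N8191 F85779) (tt N9914 (iv F122656)) (tt N6915 F85780) (tt N9736 (iv F121259)) (tt N9919 (iv F122680)) (tt N6786 F85781) (tt N9848 (iv F122352)) (tt N6733 F85782) (tt N9871 (iv F122507)) (tt N6732 (iv D19875)))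
theorem Q8193 : ∀ i, i < 8193 → P i := stepQ 8192 Q8192 (allL N8192 (tt N7928 (iv F203269)) (tt N6952 F85841) (tt N8192 F85842) (tt N6734 (iv D19888)) (tt N8192 F85843) (tt N7257 F85844) (tt N9924 D28929) (tt N8192 F85845) (tt N9925 D28930) (tt N6763 F85846))
theorem Q8194 : ∀ i, i < 8194 → P i := stepQ 8193 Q8193 (allL N8193 (tt N7931 (iv F203271)) (tt N6953 F85847) (tt N6739 F85848) (tt N9924 (iv F122803)) (tt N6735 F85849) (tt N9926 D28931) (tt N6734 (iv D19889)) (tt N9927 D28932) (tt N9928 D28933) (tt N6764 F85850))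
theorem Q8195 : ∀ i, i < 8195 → P i := stepQ 8194 Q8194 (allL N8194 (tt N7551 (iv F203248)) (tt N6954 F85851) (tt N6740 F85852) (tt N9929 D28934) (tt N6736 F85853) (tt N7259 F85854) (tt N9928 (iv F122823)) (tt N8194 F85855) (tt N6734 (iv D19890)) (tt N9930 D28935))
theorem Q8196 : ∀ i, i < 8196 → P i := stepQ 8195 Q8195 (allL N8195 (tt N7932 (iv F203273)) (tt N6955 F85856) (tt N6741 F85857) (tt N8195 F85858) (tt N9927 (iv F122817)) (tt N9852 (iv F122423)) (tt N8195 F85859) (tt N6735 (iv D19891)) (tt N9931 D28936) (tt N6766 F85860))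
theorem Q8197 : ∀ i, i < 8197 → P i := stepQ 8196 Q8196 (allL N8196 (tt N7553 (iv F203254)) (tt N6956 F85861) (tt N6742 F85862) (tt N9932 D28937) (tt N9928 (iv F122822)) (tt N9853 (iv F122427)) (tt N6736 F85863) (tt N9931 (iv F122836)) (tt N6735 (iv D19892)) (tt N9933 D28938))
theorem Q8198 : ∀ i, i < 8198 → P i := stepQ 8197 Q8197 (allL N8197 (tt N7007 (iv F203242)) (tt N6957 F85864) (tt N8197 F85865) (tt N6736 (iv D19893)) (tt N9934 D28939) (tt N6737 F85866) (tt N9932 (iv F122839)) (tt N8197 F85867) (tt N8197 F85868) (tt N9935 D28940))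
theorem Q8199 : ∀ i, i < 8199 → P i := stepQ 8198 Q8198 (allL N8198 (tt N7554 (iv F203255)) (tt N6958 F85869) (tt N6743 F85870) (tt N9935 (iv F122851)) (tt N9930 (iv F122829)) (tt N6738 F85871) (tt N9933 (iv F122843)) (tt N8198 F85872) (tt N6769 F85873) (tt N6736 (iv D19894)))
theorem Q8200 : ∀ i, i < 8200 → P i := stepQ 8199 Q8199 (allL N8199 (tt N7008 (iv F203243)) (tt N6960 F85879) (tt N8199 F85880) (tt N6738 F85881) (tt N6987 (iv F203237)) (tt N9935 (iv F122852)) (tt N9856 (iv F122445)) (tt N8199 F85882) (tt N9936 D28943) (tt N6737 (iv D19896)))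
theorem Q8201 : ∀ i, i < 8201 → P i := stepQ 8200 Q8200 (allL N8200 (tt N7987 (iv F203869)) (tt N6744 F85883) (tt N9926 (iv F122812)) (tt N8200 F85884) (tt N9857 (iv F122447)) (tt N6739 (iv D19897)) (tt N7263 F85885) (tt N9937 D28944) (tt N9938 D28945) (tt N6772 F85886))
theorem Q8202 : ∀ i, i < 8202 → P i := stepQ 8201 Q8201 (allL N8201 (tt N7988 (iv F204003)) (tt N6745 F85887) (tt N9927 (iv F122816)) (tt N8201 F85888) (tt N6741 F85889) (tt N9937 (iv F122871)) (tt N8201 F85890) (tt N6739 (iv D19898)) (tt N9939 D28946) (tt N6773 F85891))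
theorem Q8203 : ∀ i, i < 8203 → P i := stepQ 8202 Q8202 (allL N8202 (tt N7783 (iv F203995)) (tt N6746 F85892) (tt N9928 (iv F122821)) (tt N9940 D28947) (tt N6742 F85893) (tt N9938 (iv F122874)) (tt N6740 F85894) (tt N9939 (iv F122879)) (tt N6739 (iv D19899)) (tt N9941 D28948))
theorem Q8204 : ∀ i, i < 8204 → P i := stepQ 8203 Q8203 (allL N8203 (tt N7776 (iv F203993)) (tt N6747 F85895) (tt N9942 D28949) (tt N6740 (iv D19900)) (tt N8203 F85896) (tt N7266 F85897) (tt N9940 (iv F122882)) (tt N8203 F85898) (tt N8203 F85899) (tt N9943 D28950))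
theorem Q8205 : ∀ i, i < 8205 → P i := stepQ 8204 Q8204 (allL N8204 (tt N7784 (iv F203996)) (tt N6748 F85900) (tt N9930 (iv F122828)) (tt N9943 (iv F122893)) (tt N6743 F85901) (tt N7267 F85902) (tt N9941 (iv F122886)) (tt N8204 F85903) (tt N6776 F85904) (tt N6740 (iv D19901)))
theorem Q8206 : ∀ i, i < 8206 → P i := stepQ 8205 Q8205 (allL N8205 (tt N7785 (iv F203998)) (tt N6749 F85905) (tt N9931 (iv F122834)) (tt N8205 F85906) (tt N9939 (iv F122877)) (tt N9862 (iv F122465)) (tt N8205 F85907) (tt N6742 F85908) (tt N6741 (iv D19902)) (tt N9944 D28951))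
theorem Q8207 : ∀ i, i < 8207 → P i := stepQ 8206 Q8206 (allL N8206 (tt N7786 (iv F203999)) (tt N6750 F85909) (tt N9933 (iv F122842)) (tt N8206 F85910) (tt N9941 (iv F122885)) (tt N9863 (iv F122469)) (tt N6743 F85911) (tt N9944 (iv F122900)) (tt N6778 F85912) (tt N6742 (iv D19903)))
theorem Q8208 : ∀ i, i < 8208 → P i := stepQ 8207 Q8207 (allL N8207 (tt N8207 F85913) (tt N9937 (iv F122869)) (tt N6968 F85914) (tt N8207 F85915) (tt N9864 (iv F122474)) (tt N6745 F85916) (tt N9945 D28952) (tt N6744 (iv D19904)) (tt N9946 D28953) (tt N6779 F85917))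
theorem Q8209 : ∀ i, i < 8209 → P i := stepQ 8208 Q8208 (allL N8208 (tt N8208 F85918) (tt N9938 (iv F122873)) (tt N6969 F85919) (tt N9947 D28954) (tt N9865 (iv F122479)) (tt N6746 F85920) (tt N7271 F85921) (tt N9946 (iv F122911)) (tt N6744 (iv D19905)) (tt N9948 D28955))
theorem Q8210 : ∀ i, i < 8210 → P i := stepQ 8209 Q8209 (allL N8209 (tt N8209 F85922) (tt N9939 (iv F122876)) (tt N6970 F85923) (tt N9949 D28956) (tt N6749 F85924) (tt N9946 (iv F122910)) (tt N8209 F85925) (tt N6746 F85926) (tt N6745 (iv D19906)) (tt N9950 D28957))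
theorem Q8211 : ∀ i, i < 8211 → P i := stepQ 8210 Q8210 (allL N8210 (tt N8210 F85927) (tt N9940 (iv F122880)) (tt N9951 D28958) (tt N6746 (iv D19907)) (tt N8210 F85928) (tt N9947 (iv F122913)) (tt N6747 F85929) (tt N9949 (iv F122924)) (tt N8210 F85930) (tt N9952 D28959))
theorem Q8212 : ∀ i, i < 8212 → P i := stepQ 8211 Q8211 (allL N8211 (tt N8211 F85931) (tt N9941 (iv F122884)) (tt N6972 F85932) (tt N9952 (iv F122938)) (tt N6750 F85933) (tt N9948 (iv F122918)) (tt N6748 F85934) (tt N9950 (iv F122930)) (tt N6783 F85935) (tt N6746 (iv D19908)))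
theorem Q8213 : ∀ i, i < 8213 → P i := stepQ 8212 Q8212 (allL N8212 (tt N8212 F85936) (tt N9953 D28960) (tt N6747 (iv D19909)) (tt N6973 F85937) (tt N8212 F85938) (tt N7275 F85939) (tt N9951 (iv F122935)) (tt N8212 F85940) (tt N8212 F85941) (tt N9954 D28961))
theorem Q8214 : ∀ i, i < 8214 → P i := stepQ 8213 Q8213 (allL N8213 (tt N8213 F85942) (tt N9943 (iv F122892)) (tt N9954 (iv F122947)) (tt N6748 F85943) (tt N8213 F85944) (tt N7276 F85945) (tt N9952 (iv F122940)) (tt N8213 F85946) (tt N9955 D28962) (tt N6747 (iv D19910)))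
theorem Q8215 : ∀ i, i < 8215 → P i := stepQ 8214 Q8214 (allL N8214 (tt N8214 F85947) (tt N9944 (iv F122897)) (tt N6975 F85948) (tt N8214 F85949) (tt N9950 (iv F122928)) (tt N9871 (iv F122505)) (tt N8214 F85950) (tt N6750 F85951) (tt N6786 F85952) (tt N6749 (iv D19911)))
theorem Q8216 : ∀ i, i < 8216 → P i := stepQ 8215 Q8215 (allL N8215 (tt N6976 F85953) (tt N6753 F85954) (tt N8215 F85955) (tt N9956 D28963) (tt N6751 (iv D19912)) (tt N7278 F85956) (tt N9957 D28964) (tt N8215 F85957) (tt N9958 D28965) (tt N7879 F202829))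
theorem Q8217 : ∀ i, i < 8217 → P i := stepQ 8216 Q8216 (allL N8216 (tt N6977 F85958) (tt N6754 F85959) (tt N8216 F85960) (tt N8216 F85961) (tt N9957 (iv F122966)) (tt N9873 (iv F122516)) (tt N6751 (iv D19913)) (tt N9959 D28966) (tt N9960 D28967) (tt N7880 (iv F202396)))
theorem Q8218 : ∀ i, i < 8218 → P i := stepQ 8217 Q8217 (allL N8217 (tt N6978 F85962) (tt N6755 F85963) (tt N8217 F85964) (tt N9961 D28968) (tt N9958 (iv F122970)) (tt N6752 F85965) (tt N9960 (iv F122981)) (tt N8217 F85966) (tt N6751 (iv D19914)) (tt N9962 D28969))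
theorem Q8219 : ∀ i, i < 8219 → P i := stepQ 8218 Q8218 (allL N8218 (tt N6959 (iv F202444)) (tt N6756 F85968) (tt N9963 D28970) (tt N6752 (iv D19915)) (tt N6945 (iv F202457)) (tt N9961 (iv F122984)) (tt N9875 (iv F122523)) (tt N8218 F85969) (tt N8218 F85970) (tt N9964 D28972))
theorem Q8220 : ∀ i, i < 8220 → P i := stepQ 8219 Q8219 (allL N8219 (tt N6979 F85971) (tt N6757 F85972) (tt N8219 F85973) (tt N9964 (iv F123003)) (tt N7281 F85974) (tt N9962 (iv F122990)) (tt N9876 (iv F122529)) (tt N8219 F85975) (tt N7310 (iv F202359)) (tt N6752 (iv D19916)))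
theorem Q8221 : ∀ i, i < 8221 → P i := stepQ 8220 Q8220 (allL N8220 (tt N6763 F85976) (tt N9956 (iv F122959)) (tt N8220 F85977) (tt N6753 (iv D19917)) (tt N8220 F85978) (tt N7282 F85979) (tt N9965 D28973) (tt N8220 F85980) (tt N9966 D28974) (tt N7928 (iv F203270)))
theorem Q8222 : ∀ i, i < 8222 → P i := stepQ 8221 Q8221 (allL N8221 (tt N6764 F85981) (tt N9957 (iv F122964)) (tt N6758 F85982) (tt N9965 (iv F123007)) (tt N6754 F85983) (tt N9967 D28975) (tt N6753 (iv D19918)) (tt N9968 D28976) (tt N9969 D28977) (tt N7931 (iv F203272)))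
theorem Q8223 : ∀ i, i < 8223 → P i := stepQ 8222 Q8222 (allL N8222 (tt N6765 F85984) (tt N9958 (iv F122968)) (tt N6759 F85985) (tt N9970 D28978) (tt N6755 F85986) (tt N7284 F85987) (tt N9969 (iv F123024)) (tt N8222 F85988) (tt N6753 (iv D19919)) (tt N9971 D28979))
theorem Q8224 : ∀ i, i < 8224 → P i := stepQ 8223 Q8223 (allL N8223 (tt N6766 F85989) (tt N9959 (iv F122974)) (tt N6760 F85990) (tt N8223 F85991) (tt N9968 (iv F123019)) (tt N9880 (iv F122543)) (tt N8223 F85992) (tt N6754 (iv D19920)) (tt N9972 D28980) (tt N7932 (iv F203274)))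
theorem Q8225 : ∀ i, i < 8225 → P i := stepQ 8224 Q8224 (allL N8224 (tt N6767 F85993) (tt N9960 (iv F122979)) (tt N6761 F85994) (tt N9973 D28981) (tt N9969 (iv F123023)) (tt N9881 (iv F122546)) (tt N6755 F85995) (tt N9972 (iv F123036)) (tt N6754 (iv D19921)) (tt N9974 D28982))
theorem Q8226 : ∀ i, i < 8226 → P i := stepQ 8225 Q8225 (allL N8225 (tt N6768 F85996) (tt N9961 (iv F122983)) (tt N9739 (iv F121313)) (tt N6755 (iv D19922)) (tt N9975 D28983) (tt N6756 F85997) (tt N9973 (iv F123038)) (tt N8225 F85998) (tt N8225 F85999) (tt N9976 D28984))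
theorem Q8227 : ∀ i, i < 8227 → P i := stepQ 8226 Q8226 (allL N8226 (tt N6769 F86000) (tt N9962 (iv F122988)) (tt N6762 F86001) (tt N9976 (iv F123047)) (tt N9971 (iv F123030)) (tt N6757 F86002) (tt N9974 (iv F123042)) (tt N8226 F86003) (tt N7554 (iv F203256)) (tt N6755 (iv D19923)))
theorem Q8228 : ∀ i, i < 8228 → P i := stepQ 8227 Q8227 (allL N8227 (tt N6770 F86004) (tt N6945 (iv F202456)) (tt N9741 (iv F121323)) (tt N6941 F202161) (tt N6756 (iv D19924)) (tt N9977 D28985) (tt N9884 (iv F122556)) (tt N8227 F86006) (tt N8227 F86007) (tt N9978 D28986))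
theorem Q8229 : ∀ i, i < 8229 → P i := stepQ 8228 Q8228 (allL N8228 (tt N6771 F86008) (tt N9964 (iv F123002)) (tt N9742 (iv F121328)) (tt N6757 F86009) (tt N9978 (iv F123056)) (tt N9976 (iv F123048)) (tt N9885 (iv F122560)) (tt N8228 F86010) (tt N9979 D28987) (tt N6756 (iv D19925)))
theorem Q8230 : ∀ i, i < 8230 → P i := stepQ 8229 Q8229 (allL N8229 (tt N6772 F86011) (tt N8229 F86012) (tt N9967 (iv F123015)) (tt N8229 F86013) (tt N9886 (iv F122563)) (tt N6758 (iv D19926)) (tt N7290 F86014) (tt N9980 D28988) (tt N9981 D28989) (tt N7987 (iv F203870)))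
theorem Q8231 : ∀ i, i < 8231 → P i := stepQ 8230 Q8230 (allL N8230 (tt N6773 F86015) (tt N8230 F86016) (tt N9968 (iv F123018)) (tt N8230 F86017) (tt N6760 F86018) (tt N9980 (iv F123064)) (tt N8230 F86019) (tt N6758 (iv D19927)) (tt N9982 D28990) (tt N7988 (iv F204004)))
theorem Q8232 : ∀ i, i < 8232 → P i := stepQ 8231 Q8231 (allL N8231 (tt N6774 F86020) (tt N8231 F86021) (tt N9969 (iv F123022)) (tt N9983 D28991) (tt N6761 F86022) (tt N9981 (iv F123067)) (tt N6759 F86023) (tt N9982 (iv F123073)) (tt N6758 (iv D19928)) (tt N9984 D28992))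
theorem Q8233 : ∀ i, i < 8233 → P i := stepQ 8232 Q8232 (allL N8232 (tt N6775 F86024) (tt N8232 F86025) (tt N9985 D28993) (tt N6759 (iv D19929)) (tt N9743 (iv F121348)) (tt N7293 F86026) (tt N9983 (iv F123076)) (tt N8232 F86027) (tt N8232 F86028) (tt N9986 D28994))
theorem Q8234 : ∀ i, i < 8234 → P i := stepQ 8233 Q8233 (allL N8233 (tt N6776 F86029) (tt N8233 F86030) (tt N9971 (iv F123029)) (tt N9986 (iv F123088)) (tt N6762 F86031) (tt N7294 F86032) (tt N9984 (iv F123081)) (tt N8233 F86033) (tt N7784 (iv F203997)) (tt N6759 (iv D19930)))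
theorem Q8235 : ∀ i, i < 8235 → P i := stepQ 8234 Q8234 (allL N8234 (tt N6777 F86034) (tt N8234 F86035) (tt N9972 (iv F123034)) (tt N7709 F205009) (tt N9982 (iv F123071)) (tt N7711 (iv F205068)) (tt N8234 F86036) (tt N6761 F86037) (tt N6760 (iv D19931)) (tt N9987 D28995))
theorem Q8236 : ∀ i, i < 8236 → P i := stepQ 8235 Q8235 (allL N8235 (tt N6778 F86038) (tt N8235 F86039) (tt N9974 (iv F123041)) (tt N9745 (iv F121365)) (tt N9984 (iv F123080)) (tt N9891 (iv F122585)) (tt N6762 F86040) (tt N9987 (iv F123094)) (tt N7786 (iv F204000)) (tt N6761 (iv D19932)))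
theorem Q8237 : ∀ i, i < 8237 → P i := stepQ 8236 Q8236 (allL N8236 (tt N9965 (iv F123005)) (tt N6995 F86041) (tt N8236 F86042) (tt N6764 F86043) (tt N8236 F86044) (tt N9988 D28996) (tt N6763 (iv D19933)) (tt N9989 D28997) (tt N9990 D28998) (tt N9924 (iv F122805)))
theorem Q8238 : ∀ i, i < 8238 → P i := stepQ 8237 Q8237 (allL N8237 (tt N9966 (iv F123009)) (tt N6996 F86045) (tt N8237 F86046) (tt N9991 D28999) (tt N8237 F86047) (tt N7298 F86048) (tt N9990 (iv F123107)) (tt N8237 F86049) (tt N6763 (iv D19934)) (tt N9992 D29000))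
theorem Q8239 : ∀ i, i < 8239 → P i := stepQ 8238 Q8238 (allL N8238 (tt N9967 (iv F123014)) (tt N6997 F86050) (tt N6772 F86051) (tt N9988 (iv F123097)) (tt N9894 (iv F122595)) (tt N6764 (iv D19935)) (tt N7299 F86052) (tt N9993 D29001) (tt N9994 D29002) (tt N9926 (iv F122814)))
theorem Q8240 : ∀ i, i < 8240 → P i := stepQ 8239 Q8239 (allL N8239 (tt N9968 (iv F123017)) (tt N6998 F86053) (tt N6773 F86054) (tt N9989 (iv F123101)) (tt N6766 F86055) (tt N9993 (iv F123119)) (tt N8239 F86056) (tt N6764 (iv D19936)) (tt N9995 D29003) (tt N9927 (iv F122819)))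
theorem Q8241 : ∀ i, i < 8241 → P i := stepQ 8240 Q8240 (allL N8240 (tt N9969 (iv F123021)) (tt N6999 F86057) (tt N6774 F86058) (tt N9996 D29004) (tt N6767 F86059) (tt N9994 (iv F123122)) (tt N6765 F86060) (tt N9995 (iv F123128)) (tt N6764 (iv D19937)) (tt N9997 D29005))
theorem Q8242 : ∀ i, i < 8242 → P i := stepQ 8241 Q8241 (allL N8241 (tt N9970 (iv F123025)) (tt N7000 F86061) (tt N9998 D29006) (tt N6765 (iv D19938)) (tt N9999 D29007) (tt N7302 F86062) (tt N9996 (iv F123130)) (tt N8241 F86063) (tt N9991 (iv F123111)) (tt N10000 D29008))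
theorem Q8243 : ∀ i, i < 8243 → P i := stepQ 8242 Q8242 (allL N8242 (tt N9971 (iv F123028)) (tt N7001 F86064) (tt N6776 F86065) (tt N10000 (iv F123142)) (tt N6769 F86066) (tt N7303 F86067) (tt N9997 (iv F123134)) (tt N8242 F86068) (tt N9930 (iv F122832)) (tt N6765 (iv D19939)))
theorem Q8244 : ∀ i, i < 8244 → P i := stepQ 8243 Q8243 (allL N8243 (tt N9972 (iv F123033)) (tt N7002 F86069) (tt N6777 F86070) (tt N10001 D29009) (tt N9995 (iv F123126)) (tt N9899 (iv F122612)) (tt N8243 F86071) (tt N6767 F86072) (tt N6766 (iv D19940)) (tt N10002 D29010))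
theorem Q8245 : ∀ i, i < 8245 → P i := stepQ 8244 Q8244 (allL N8244 (tt N9973 (iv F123037)) (tt N7003 F86073) (tt N9747 (iv F121405)) (tt N6767 (iv D19941)) (tt N10003 D29011) (tt N9900 (iv F122615)) (tt N6768 F86074) (tt N10001 (iv F123147)) (tt N8244 F86075) (tt N10004 D29012))
theorem Q8246 : ∀ i, i < 8246 → P i := stepQ 8245 Q8245 (allL N8245 (tt N9974 (iv F123040)) (tt N7004 F86076) (tt N6778 F86077) (tt N10004 (iv F123157)) (tt N9997 (iv F123133)) (tt N9901 (iv F122620)) (tt N6769 F86078) (tt N10002 (iv F123152)) (tt N9933 (iv F122844)) (tt N6767 (iv D19942)))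
theorem Q8247 : ∀ i, i < 8247 → P i := stepQ 8246 Q8246 (allL N8246 (tt N9975 (iv F123043)) (tt N7005 F86079) (tt N9749 (iv F121413)) (tt N9999 (iv F123139)) (tt N6768 (iv D19943)) (tt N10005 D29013) (tt N10003 (iv F123154)) (tt N8246 F86080) (tt N8246 F86081) (tt N10006 D29014))
theorem Q8248 : ∀ i, i < 8248 → P i := stepQ 8247 Q8247 (allL N8247 (tt N9976 (iv F123046)) (tt N7006 F86082) (tt N9750 (iv F121417)) (tt N6769 F86083) (tt N10006 (iv F123164)) (tt N6771 F86084) (tt N10004 (iv F123158)) (tt N8247 F86085) (tt N10007 D29015) (tt N6768 (iv D19944)))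
theorem Q8249 : ∀ i, i < 8249 → P i := stepQ 8248 Q8248 (allL N8248 (tt N9977 (iv F123050)) (tt N7007 F86086) (tt N9751 (iv F121422)) (tt N7309 F86087) (tt N10005 (iv F123160)) (tt N6770 (iv D19945)) (tt N10008 D29016) (tt N8248 F86088) (tt N8248 F86089) (tt N10009 D29017))
theorem Q8250 : ∀ i, i < 8250 → P i := stepQ 8249 Q8249 (allL N8249 (tt N9978 (iv F123054)) (tt N7008 F86090) (tt N9752 (iv F121427)) (tt N7310 F86091) (tt N6771 F86092) (tt N10009 (iv F123175)) (tt N9905 (iv F122633)) (tt N8249 F86093) (tt N10010 D29018) (tt N6770 (iv D19946)))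
theorem Q8251 : ∀ i, i < 8251 → P i := stepQ 8250 Q8250 (allL N8250 (tt N9979 (iv F123058)) (tt N7009 F86094) (tt N9753 (iv F121432)) (tt N9936 (iv F122866)) (tt N10010 (iv F123178)) (tt N10007 (iv F123167)) (tt N9906 (iv F122635)) (tt N8250 F86095) (tt N6771 (iv D19947)) (tt N8250 F86096))
theorem Q8252 : ∀ i, i < 8252 → P i := stepQ 8251 Q8251 (allL N8251 (tt N9980 (iv F123061)) (tt N6779 F86097) (tt N9993 (iv F123118)) (tt N8251 F86098) (tt N9907 (iv F122638)) (tt N6773 F86099) (tt N10011 D29019) (tt N6772 (iv D19948)) (tt N10012 D29020) (tt N9937 (iv F122872)))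
theorem Q8253 : ∀ i, i < 8253 → P i := stepQ 8252 Q8252 (allL N8252 (tt N9981 (iv F123065)) (tt N6780 F86100) (tt N9994 (iv F123121)) (tt N10013 D29021) (tt N9908 (iv F122641)) (tt N6774 F86101) (tt N7312 F86102) (tt N10012 (iv F123187)) (tt N6772 (iv D19949)) (tt N10014 D29022))
theorem Q8254 : ∀ i, i < 8254 → P i := stepQ 8253 Q8253 (allL N8253 (tt N9982 (iv F123069)) (tt N6781 F86103) (tt N9995 (iv F123125)) (tt N10015 D29023) (tt N6777 F86104) (tt N10012 (iv F123186)) (tt N8253 F86105) (tt N6774 F86106) (tt N6773 (iv D19950)) (tt N10016 D29024))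
theorem Q8255 : ∀ i, i < 8255 → P i := stepQ 8254 Q8254 (allL N8254 (tt N9983 (iv F123074)) (tt N6782 F86107) (tt N10017 D29025) (tt N6774 (iv D19951)) (tt N9754 (iv F121448)) (tt N10013 (iv F123189)) (tt N6775 F86108) (tt N10015 (iv F123197)) (tt N8254 F86109) (tt N10018 D29026))
theorem Q8256 : ∀ i, i < 8256 → P i := stepQ 8255 Q8255 (allL N8255 (tt N9984 (iv F123078)) (tt N6783 F86110) (tt N9997 (iv F123132)) (tt N10018 (iv F123206)) (tt N6778 F86111) (tt N10014 (iv F123193)) (tt N6776 F86112) (tt N10016 (iv F123202)) (tt N9941 (iv F122887)) (tt N6774 (iv D19952)))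
theorem Q8257 : ∀ i, i < 8257 → P i := stepQ 8256 Q8256 (allL N8256 (tt N9985 (iv F123082)) (tt N10019 D29027) (tt N6775 (iv D19953)) (tt N9998 (iv F123135)) (tt N9756 (iv F121455)) (tt N7316 F86113) (tt N10017 (iv F123203)) (tt N8256 F86114) (tt N8256 F86115) (tt N10020 D29028))
theorem Q8258 : ∀ i, i < 8258 → P i := stepQ 8257 Q8257 (allL N8257 (tt N9986 (iv F123086)) (tt N6785 F86116) (tt N10020 (iv F123212)) (tt N6776 F86117) (tt N9757 (iv F121461)) (tt N7317 F86118) (tt N10018 (iv F123207)) (tt N8257 F86119) (tt N10021 D29029) (tt N6775 (iv D19954)))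
theorem Q8259 : ∀ i, i < 8259 → P i := stepQ 8258 Q8258 (allL N8258 (tt N9987 (iv F123091)) (tt N6786 F86120) (tt N10002 (iv F123150)) (tt N9758 (iv F121465)) (tt N10016 (iv F123200)) (tt N9914 (iv F122657)) (tt N8258 F86121) (tt N6778 F86122) (tt N9944 (iv F122901)) (tt N6777 (iv D19955)))
theorem Q8260 : ∀ i, i < 8260 → P i := stepQ 8259 Q8259 (allL N8259 (tt N8259 F86123) (tt N10011 (iv F123181)) (tt N7018 F86124) (tt N8259 F86125) (tt N9915 (iv F122661)) (tt N8259 F86126) (tt N6779 (iv D19956)) (tt N7319 F86127) (tt N10022 D29030) (tt N9945 (iv F122907)))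
theorem Q8261 : ∀ i, i < 8261 → P i := stepQ 8260 Q8260 (allL N8260 (tt N8260 F86128) (tt N10012 (iv F123185)) (tt N7019 F86129) (tt N10023 D29031) (tt N9916 (iv F122665)) (tt N6781 F86130) (tt N10022 (iv F123222)) (tt N6780 F86131) (tt N6779 (iv D19957)) (tt N10024 D29032))
theorem Q8262 : ∀ i, i < 8262 → P i := stepQ 8261 Q8261 (allL N8261 (tt N8261 F86132) (tt N10013 (iv F123188)) (tt N10025 D29033) (tt N6780 (iv D19958)) (tt N10026 D29034) (tt N6782 F86133) (tt N7321 F86134) (tt N10023 (iv F123226)) (tt N8261 F86135) (tt N10027 D29035))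
theorem Q8263 : ∀ i, i < 8263 → P i := stepQ 8262 Q8262 (allL N8262 (tt N8262 F86136) (tt N10014 (iv F123192)) (tt N7021 F86137) (tt N10027 (iv F123241)) (tt N9918 (iv F122673)) (tt N6783 F86138) (tt N7322 F86139) (tt N10024 (iv F123231)) (tt N9948 (iv F122920)) (tt N6780 (iv D19959)))
theorem Q8264 : ∀ i, i < 8264 → P i := stepQ 8263 Q8263 (allL N8263 (tt N8263 F86140) (tt N10015 (iv F123195)) (tt N10028 D29036) (tt N6781 (iv D19960)) (tt N9761 (iv F121489)) (tt N10023 (iv F123225)) (tt N8263 F86141) (tt N6782 F86142) (tt N8263 F86143) (tt N10029 D29037))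
theorem Q8265 : ∀ i, i < 8265 → P i := stepQ 8264 Q8264 (allL N8264 (tt N8264 F86144) (tt N10016 (iv F123199)) (tt N7023 F86145) (tt N10029 (iv F123250)) (tt N6786 F86146) (tt N10024 (iv F123230)) (tt N8264 F86147) (tt N6783 F86148) (tt N9950 (iv F122931)) (tt N6781 (iv D19961)))
theorem Q8266 : ∀ i, i < 8266 → P i := stepQ 8265 Q8265 (allL N8265 (tt N8265 F86149) (tt N10030 D29038) (tt N6782 (iv D19962)) (tt N7024 F86150) (tt N9763 (iv F121501)) (tt N10025 (iv F123234)) (tt N6784 F86151) (tt N10028 (iv F123247)) (tt N8265 F86152) (tt N10031 D29039))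
theorem Q8267 : ∀ i, i < 8267 → P i := stepQ 8266 Q8266 (allL N8266 (tt N8266 F86153) (tt N10018 (iv F123205)) (tt N10031 (iv F123257)) (tt N6783 F86154) (tt N9764 (iv F121506)) (tt N10027 (iv F123242)) (tt N6785 F86155) (tt N10029 (iv F123252)) (tt N10032 D29040) (tt N6782 (iv D19963)))
theorem Q8268 : ∀ i, i < 8268 → P i := stepQ 8267 Q8267 (allL N8267 (tt N10033 D29041) (tt N6784 (iv D19964)) (tt N10019 (iv F123208)) (tt N7026 F86156) (tt N9765 (iv F121509)) (tt N7327 F86157) (tt N10030 (iv F123254)) (tt N8267 F86158) (tt N8267 F86159) (tt N10034 D29042))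
theorem Q8269 : ∀ i, i < 8269 → P i := stepQ 8268 Q8268 (allL N8268 (tt N8268 F86160) (tt N10034 (iv F123268)) (tt N6785 F86161) (tt N7027 F86162) (tt N9766 (iv F121516)) (tt N7328 F86163) (tt N10031 (iv F123259)) (tt N8268 F86164) (tt N10035 D29043) (tt N6784 (iv D19965)))
theorem Q8270 : ∀ i, i < 8270 → P i := stepQ 8269 Q8269 (allL N8269 (tt N8269 F86165) (tt N10021 (iv F123215)) (tt N10035 (iv F123273)) (tt N9955 (iv F122953)) (tt N9767 (iv F121521)) (tt N7329 F86166) (tt N10032 (iv F123261)) (tt N8269 F86167) (tt N6785 (iv D19966)) (tt N8269 F86168))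
theorem Q8271 : ∀ i, i < 8271 → P i := stepQ 8270 Q8270 (allL N8270 (tt N6789 F86169) (tt N10036 D29044) (tt N6787 (iv D19967)) (tt N8270 F86170) (tt N8270 F86171) (tt N10037 D29045) (tt N8270 F86172) (tt N6839 F86173) (tt N10038 D29046) (tt N8270 F86174))
theorem Q8272 : ∀ i, i < 8272 → P i := stepQ 8271 Q8271 (allL N8271 (tt N6790 F86175) (tt N8271 F86176) (tt N10037 (iv F123285)) (tt N6788 F86177) (tt N10039 D29047) (tt N6787 (iv D19968)) (tt N10040 D29048) (tt N6840 F86178) (tt N10041 D29049) (tt N8271 F86179))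
theorem Q8273 : ∀ i, i < 8273 → P i := stepQ 8272 Q8272 (allL N8272 (tt N6791 F86180) (tt N8272 F86181) (tt N10038 (iv F123290)) (tt N6800 F86182) (tt N8272 F86183) (tt N10041 (iv F123308)) (tt N8272 F86184) (tt N6841 F86185) (tt N6787 (iv D19969)) (tt N10042 D29050))
theorem Q8274 : ∀ i, i < 8274 → P i := stepQ 8273 Q8273 (allL N8273 (tt N6792 F86186) (tt N8273 F86187) (tt N8273 F86188) (tt N10040 (iv F123302)) (tt N8273 F86189) (tt N8273 F86190) (tt N6788 (iv D19970)) (tt N10043 D29051) (tt N6801 F86191) (tt N8273 F86192))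
theorem Q8275 : ∀ i, i < 8275 → P i := stepQ 8274 Q8274 (allL N8274 (tt N10037 (iv F123284)) (tt N8274 F86193) (tt N6790 F86194) (tt N8274 F86195) (tt N10040 F199568) (tt N6789 (iv D19971)) (tt N10039 (iv F199615)) (tt N6843 F86196) (tt N10044 D29054) (tt N8274 F86197))
theorem Q8276 : ∀ i, i < 8276 → P i := stepQ 8275 Q8275 (allL N8275 (tt N10038 (iv F123289)) (tt N8275 F86198) (tt N6791 F86199) (tt N10045 D29055) (tt N8275 F86200) (tt N10044 (iv F123337)) (tt N8275 F86201) (tt N6844 F86202) (tt N6789 (iv D19972)) (tt N10046 D29056))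
theorem Q8277 : ∀ i, i < 8277 → P i := stepQ 8276 Q8276 (allL N8276 (tt N10039 (iv F123294)) (tt N6793 F86203) (tt N10040 F199566) (tt N8276 F86204) (tt N6790 (iv D19973)) (tt N8276 F86205) (tt N10037 F199567) (tt N6845 F86206) (tt N10047 D29058) (tt N8276 F86207))
theorem Q8278 : ∀ i, i < 8278 → P i := stepQ 8277 Q8277 (allL N8277 (tt N10040 (iv F123300)) (tt N6794 F86208) (tt N10039 (iv F199614)) (tt N6792 F86209) (tt N10037 F199562) (tt N8277 F86210) (tt N6790 (iv D19974)) (tt N10048 D29059) (tt N10049 D29060) (tt N8277 F86211))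
theorem Q8279 : ∀ i, i < 8279 → P i := stepQ 8278 Q8278 (allL N8278 (tt N10041 (iv F123305)) (tt N6795 F86212) (tt N10044 (iv F123336)) (tt N6806 F86213) (tt N10047 (iv F123355)) (tt N6791 F86214) (tt N10049 (iv F123366)) (tt N6847 F86215) (tt N6790 (iv D19975)) (tt N10050 D29061))
theorem Q8280 : ∀ i, i < 8280 → P i := stepQ 8279 Q8279 (allL N8279 (tt N10042 (iv F123310)) (tt N6796 F86216) (tt N10046 (iv F123345)) (tt N6807 F86217) (tt N8279 F86218) (tt N10050 (iv F123369)) (tt N8279 F86219) (tt N6848 F86220) (tt N8279 F86221) (tt N6791 (iv D19976)))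
theorem Q8281 : ∀ i, i < 8281 → P i := stepQ 8280 Q8280 (allL N8280 (tt N10043 (iv F123317)) (tt N6797 F86222) (tt N8280 F86223) (tt N10048 (iv F123359)) (tt N8280 F86224) (tt N8280 F86225) (tt N6849 F86226) (tt N6792 (iv D19977)) (tt N6808 F86227) (tt N8280 F86228))
theorem Q8282 : ∀ i, i < 8282 → P i := stepQ 8281 Q8281 (allL N8281 (tt N8281 F86229) (tt N10037 F199573) (tt N8281 F86230) (tt N8281 F86231) (tt N6794 F86232) (tt N10036 (iv F199616)) (tt N6793 (iv D19978)) (tt N10051 D29063) (tt N10052 D29064) (tt N8281 F86233))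
theorem Q8283 : ∀ i, i < 8283 → P i := stepQ 8282 Q8282 (allL N8282 (tt N8282 F86234) (tt N10047 (iv F123354)) (tt N8282 F86235) (tt N10053 D29065) (tt N6795 F86236) (tt N8282 F86237) (tt N10052 (iv F123387)) (tt N6851 F86238) (tt N6793 (iv D19979)) (tt N10054 D29066))
theorem Q8284 : ∀ i, i < 8284 → P i := stepQ 8283 Q8283 (allL N8283 (tt N8283 F86239) (tt N10048 (iv F123358)) (tt N8283 F86240) (tt N6797 F86241) (tt N10051 (iv F123381)) (tt N8283 F86242) (tt N6852 F86243) (tt N6794 (iv D19980)) (tt N10055 D29067) (tt N8283 F86244))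
theorem Q8285 : ∀ i, i < 8285 → P i := stepQ 8284 Q8284 (allL N8284 (tt N8284 F86245) (tt N10049 (iv F123363)) (tt N8284 F86246) (tt N6812 F86247) (tt N10052 (iv F123386)) (tt N8284 F86248) (tt N6795 F86249) (tt N10055 (iv F123404)) (tt N6794 (iv D19981)) (tt N10056 D29068))
theorem Q8286 : ∀ i, i < 8286 → P i := stepQ 8285 Q8285 (allL N8285 (tt N8285 F86250) (tt N10050 (iv F123367)) (tt N8285 F86251) (tt N6813 F86252) (tt N10054 (iv F123395)) (tt N6796 F86253) (tt N10056 (iv F123409)) (tt N6854 F86254) (tt N8285 F86255) (tt N6795 (iv D19982)))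
theorem Q8287 : ∀ i, i < 8287 → P i := stepQ 8286 Q8286 (allL N8286 (tt N7842 (iv F200766)) (tt N6798 (iv D19983)) (tt N8286 F86256) (tt N8286 F86257) (tt N7330 F86258) (tt N10057 D29069) (tt N8286 F86259) (tt N6855 F86260) (tt N10058 D29070) (tt N6814 F86261))
theorem Q8288 : ∀ i, i < 8288 → P i := stepQ 8287 Q8287 (allL N8287 (tt N6802 F86262) (tt N10057 (iv F123411)) (tt N6799 F86263) (tt N8287 F86264) (tt N10059 D29071) (tt N6798 (iv D19984)) (tt N10060 D29072) (tt N6856 F86265) (tt N10061 D29073) (tt N6815 F86266))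
theorem Q8289 : ∀ i, i < 8289 → P i := stepQ 8288 Q8288 (allL N8288 (tt N6803 F86267) (tt N10058 (iv F123416)) (tt N6800 F86268) (tt N10062 D29074) (tt N7332 F86269) (tt N10061 (iv F123433)) (tt N8288 F86270) (tt N6857 F86271) (tt N6798 (iv D19985)) (tt N10063 D29075))
theorem Q8290 : ∀ i, i < 8290 → P i := stepQ 8289 Q8289 (allL N8289 (tt N6804 F86272) (tt N8289 F86273) (tt N10059 (iv F123422)) (tt N8289 F86274) (tt N6799 (iv D19986)) (tt N7333 F86275) (tt N10064 D29076) (tt N6858 F86276) (tt N10065 D29077) (tt N6817 F86277))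
theorem Q8291 : ∀ i, i < 8291 → P i := stepQ 8290 Q8290 (allL N8290 (tt N6805 F86278) (tt N8290 F86279) (tt N10060 (iv F123427)) (tt N6801 F86280) (tt N10064 (iv F123448)) (tt N8290 F86281) (tt N6799 (iv D19987)) (tt N10066 D29078) (tt N10067 D29079) (tt N6818 F86282))
theorem Q8292 : ∀ i, i < 8292 → P i := stepQ 8291 Q8291 (allL N8291 (tt N6806 F86283) (tt N8291 F86284) (tt N10061 (iv F123432)) (tt N10041 (iv F123307)) (tt N10065 (iv F123452)) (tt N6800 F86285) (tt N10067 (iv F123464)) (tt N6860 F86286) (tt N6799 (iv D19988)) (tt N10068 D29080))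
theorem Q8293 : ∀ i, i < 8293 → P i := stepQ 8292 Q8292 (allL N8292 (tt N6807 F86287) (tt N8292 F86288) (tt N10063 (iv F123440)) (tt N10042 (iv F123312)) (tt N7336 F86289) (tt N10068 (iv F123467)) (tt N8292 F86290) (tt N6861 F86291) (tt N6820 F86292) (tt N6800 (iv D19989)))
theorem Q8294 : ∀ i, i < 8294 → P i := stepQ 8293 Q8293 (allL N8293 (tt N6808 F86293) (tt N8293 F86294) (tt N8293 F86295) (tt N10066 (iv F123457)) (tt N8293 F86296) (tt N8293 F86297) (tt N6862 F86298) (tt N6801 (iv D19990)) (tt N10043 (iv F123323)) (tt N6821 F86299))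
theorem Q8295 : ∀ i, i < 8295 → P i := stepQ 8294 Q8294 (allL N8294 (tt N10059 (iv F123421)) (tt N9804 (iv F122125)) (tt N6804 F86300) (tt N10069 D29081) (tt N6802 (iv D19991)) (tt N7338 F86301) (tt N10070 D29082) (tt N6863 F86302) (tt N10071 D29083) (tt N6822 F86303))
theorem Q8296 : ∀ i, i < 8296 → P i := stepQ 8295 Q8295 (allL N8295 (tt N10060 (iv F123426)) (tt N9805 (iv F122130)) (tt N6805 F86304) (tt N8295 F86305) (tt N10070 (iv F123476)) (tt N8295 F86306) (tt N6802 (iv D19992)) (tt N10072 D29084) (tt N10073 D29085) (tt N6823 F86307))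
theorem Q8297 : ∀ i, i < 8297 → P i := stepQ 8296 Q8296 (allL N8296 (tt N10061 (iv F123431)) (tt N9806 (iv F122135)) (tt N6806 F86308) (tt N10074 D29086) (tt N10071 (iv F123479)) (tt N6803 F86309) (tt N10073 (iv F123489)) (tt N6865 F86310) (tt N6802 (iv D19993)) (tt N10075 D29087))
theorem Q8298 : ∀ i, i < 8298 → P i := stepQ 8297 Q8297 (allL N8297 (tt N10062 (iv F123435)) (tt N9807 (iv F122139)) (tt N10045 (iv F123340)) (tt N6803 (iv D19994)) (tt N10076 D29088) (tt N10074 (iv F123490)) (tt N8297 F86311) (tt N6866 F86312) (tt N8297 F86313) (tt N10077 D29089))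
theorem Q8299 : ∀ i, i < 8299 → P i := stepQ 8298 Q8298 (allL N8298 (tt N10063 (iv F123439)) (tt N9808 (iv F122144)) (tt N6807 F86314) (tt N10077 (iv F123501)) (tt N7342 F86315) (tt N10075 (iv F123494)) (tt N8298 F86316) (tt N6867 F86317) (tt N6826 F86318) (tt N6803 (iv D19995)))
theorem Q8300 : ∀ i, i < 8300 → P i := stepQ 8299 Q8299 (allL N8299 (tt N10064 (iv F123445)) (tt N6809 F86319) (tt N10070 (iv F123475)) (tt N8299 F86320) (tt N6805 F86321) (tt N10078 D29090) (tt N6804 (iv D19996)) (tt N10079 D29091) (tt N10080 D29092) (tt N6827 F86322))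
theorem Q8301 : ∀ i, i < 8301 → P i := stepQ 8300 Q8300 (allL N8300 (tt N10065 (iv F123450)) (tt N6810 F86323) (tt N10071 (iv F123478)) (tt N10081 D29093) (tt N6806 F86324) (tt N7344 F86325) (tt N10080 (iv F123516)) (tt N6869 F86326) (tt N6804 (iv D19997)) (tt N10082 D29094))
theorem Q8302 : ∀ i, i < 8302 → P i := stepQ 8301 Q8301 (allL N8301 (tt N10066 (iv F123455)) (tt N6811 F86327) (tt N10072 (iv F123482)) (tt N6808 F86328) (tt N10079 (iv F123511)) (tt N8301 F86329) (tt N6870 F86330) (tt N6805 (iv D19998)) (tt N10083 D29095) (tt N6829 F86331))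
theorem Q8303 : ∀ i, i < 8303 → P i := stepQ 8302 Q8302 (allL N8302 (tt N10067 (iv F123461)) (tt N6812 F86332) (tt N10073 (iv F123487)) (tt N10049 (iv F123364)) (tt N10080 (iv F123515)) (tt N8302 F86333) (tt N6806 F86334) (tt N10083 (iv F123529)) (tt N6805 (iv D19999)) (tt N10084 D29096))
theorem Q8304 : ∀ i, i < 8304 → P i := stepQ 8303 Q8303 (allL N8303 (tt N10068 (iv F123465)) (tt N6813 F86335) (tt N10075 (iv F123493)) (tt N10050 (iv F123368)) (tt N10082 (iv F123522)) (tt N6807 F86336) (tt N10084 (iv F123532)) (tt N6872 F86337) (tt N6831 F86338) (tt N6806 (iv D20000)))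
theorem Q8305 : ∀ i, i < 8305 → P i := stepQ 8304 Q8304 (allL N8304 (tt N8304 F86339) (tt N10078 (iv F123504)) (tt N9814 (iv F122172)) (tt N8304 F86340) (tt N8304 F86341) (tt N6809 (iv D20001)) (tt N7348 F86342) (tt N10085 D29097) (tt N10086 D29098) (tt N6832 F86343))
theorem Q8306 : ∀ i, i < 8306 → P i := stepQ 8305 Q8305 (allL N8305 (tt N8305 F86344) (tt N10079 (iv F123509)) (tt N9815 (iv F122177)) (tt N8305 F86345) (tt N6811 F86346) (tt N10085 (iv F123537)) (tt N6874 F86347) (tt N6809 (iv D20002)) (tt N10087 D29099) (tt N6833 F86348))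
theorem Q8307 : ∀ i, i < 8307 → P i := stepQ 8306 Q8306 (allL N8306 (tt N8306 F86349) (tt N10080 (iv F123514)) (tt N9816 (iv F122182)) (tt N10088 D29100) (tt N6812 F86350) (tt N10086 (iv F123541)) (tt N6810 F86351) (tt N10087 (iv F123546)) (tt N6809 (iv D20003)) (tt N10089 D29101))
theorem Q8308 : ∀ i, i < 8308 → P i := stepQ 8307 Q8307 (allL N8307 (tt N8307 F86352) (tt N10081 (iv F123517)) (tt N10090 D29102) (tt N6810 (iv D20004)) (tt N10053 (iv F123389)) (tt N7351 F86353) (tt N10088 (iv F123548)) (tt N6876 F86354) (tt N8307 F86355) (tt N10091 D29103))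
theorem Q8309 : ∀ i, i < 8309 → P i := stepQ 8308 Q8308 (allL N8308 (tt N8308 F86356) (tt N10082 (iv F123521)) (tt N9818 (iv F122190)) (tt N10091 (iv F123559)) (tt N6813 F86357) (tt N7352 F86358) (tt N10089 (iv F123552)) (tt N6877 F86359) (tt N6836 F86360) (tt N6810 (iv D20005)))
theorem Q8310 : ∀ i, i < 8310 → P i := stepQ 8309 Q8309 (allL N8309 (tt N8309 F86361) (tt N10083 (iv F123526)) (tt N9819 (iv F122196)) (tt N10055 (iv F123401)) (tt N10087 (iv F123544)) (tt N8309 F86362) (tt N6878 F86363) (tt N6812 F86364) (tt N6811 (iv D20006)) (tt N10092 D29104))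
theorem Q8311 : ∀ i, i < 8311 → P i := stepQ 8310 Q8310 (allL N8310 (tt N8310 F86365) (tt N10084 (iv F123530)) (tt N9820 (iv F122202)) (tt N10056 (iv F123407)) (tt N10089 (iv F123551)) (tt N8310 F86366) (tt N6813 F86367) (tt N10092 (iv F123565)) (tt N6838 F86368) (tt N6812 (iv D20007)))
theorem Q8312 : ∀ i, i < 8312 → P i := stepQ 8311 Q8311 (allL N8311 (tt N9821 (iv F122207)) (tt N6815 F86369) (tt N8311 F86370) (tt N8311 F86371) (tt N10093 D29105) (tt N6814 (iv D20008)) (tt N10094 D29106) (tt N6880 F86372) (tt N10095 D29107) (tt N10057 (iv F123415)))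
theorem Q8313 : ∀ i, i < 8313 → P i := stepQ 8312 Q8312 (allL N8312 (tt N9822 (iv F122212)) (tt N6816 F86373) (tt N8312 F86374) (tt N10076 (iv F201654)) (tt N7341 F201249) (tt N10095 (iv F123577)) (tt N8312 F86376) (tt N6881 F86377) (tt N6814 (iv D20009)) (tt N10096 D29109))
theorem Q8314 : ∀ i, i < 8314 → P i := stepQ 8313 Q8313 (allL N8313 (tt N6822 F86378) (tt N10093 (iv F123567)) (tt N6817 F86379) (tt N10097 D29110) (tt N6815 (iv D20010)) (tt N7356 F86380) (tt N10098 D29111) (tt N6882 F86381) (tt N10099 D29112) (tt N10059 (iv F123425)))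
theorem Q8315 : ∀ i, i < 8315 → P i := stepQ 8314 Q8314 (allL N8314 (tt N6823 F86382) (tt N10094 (iv F123571)) (tt N6818 F86383) (tt N8314 F86384) (tt N10098 (iv F123595)) (tt N8314 F86385) (tt N6815 (iv D20011)) (tt N10100 D29113) (tt N10101 D29114) (tt N10060 (iv F123430)))
theorem Q8316 : ∀ i, i < 8316 → P i := stepQ 8315 Q8315 (allL N8315 (tt N6824 F86386) (tt N10095 (iv F123575)) (tt N6819 F86387) (tt N10102 D29115) (tt N10099 (iv F123598)) (tt N6816 F86388) (tt N10101 (iv F123609)) (tt N6884 F86389) (tt N6815 (iv D20012)) (tt N10103 D29116))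
theorem Q8317 : ∀ i, i < 8317 → P i := stepQ 8316 Q8316 (allL N8316 (tt N6825 F86390) (tt N10076 F201964) (tt N8316 F86391) (tt N6816 (iv D20013)) (tt N9807 F201965) (tt N10102 (iv F123612)) (tt N8316 F86392) (tt N6885 F86393) (tt N8316 F86394) (tt N10104 D29118))
theorem Q8318 : ∀ i, i < 8318 → P i := stepQ 8317 Q8317 (allL N8317 (tt N6826 F86395) (tt N10096 (iv F123583)) (tt N6820 F86396) (tt N10104 (iv F123627)) (tt N7359 F86397) (tt N10103 (iv F123617)) (tt N8317 F86398) (tt N6886 F86399) (tt N10063 (iv F123444)) (tt N6816 (iv D20014)))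
theorem Q8319 : ∀ i, i < 8319 → P i := stepQ 8318 Q8318 (allL N8318 (tt N6827 F86400) (tt N8318 F86401) (tt N10098 (iv F123594)) (tt N8318 F86402) (tt N6818 F86403) (tt N10105 D29119) (tt N6817 (iv D20015)) (tt N10106 D29120) (tt N10107 D29121) (tt N10064 (iv F123449)))
theorem Q8320 : ∀ i, i < 8320 → P i := stepQ 8319 Q8319 (allL N8319 (tt N6828 F86404) (tt N8319 F86405) (tt N10099 (iv F123597)) (tt N10108 D29122) (tt N6819 F86406) (tt N7361 F86407) (tt N10107 (iv F123643)) (tt N6888 F86408) (tt N6817 (iv D20016)) (tt N10109 D29123))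
theorem Q8321 : ∀ i, i < 8321 → P i := stepQ 8320 Q8320 (allL N8320 (tt N6829 F86409) (tt N8320 F86410) (tt N10100 (iv F123602)) (tt N6821 F86411) (tt N10106 (iv F123638)) (tt N8320 F86412) (tt N6889 F86413) (tt N6818 (iv D20017)) (tt N10110 D29124) (tt N10066 (iv F123460)))
theorem Q8322 : ∀ i, i < 8322 → P i := stepQ 8321 Q8321 (allL N8321 (tt N6830 F86414) (tt N8321 F86415) (tt N10101 (iv F123607)) (tt N8321 F86416) (tt N10107 (iv F123642)) (tt N8321 F86417) (tt N6819 F86418) (tt N10110 (iv F123660)) (tt N6818 (iv D20018)) (tt N10111 D29125))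
theorem Q8323 : ∀ i, i < 8323 → P i := stepQ 8322 Q8322 (allL N8322 (tt N6831 F86419) (tt N8322 F86420) (tt N10103 (iv F123616)) (tt N8322 F86421) (tt N10109 (iv F123652)) (tt N6820 F86422) (tt N10111 (iv F123665)) (tt N6891 F86423) (tt N10068 (iv F123469)) (tt N6819 (iv D20019)))
theorem Q8324 : ∀ i, i < 8324 → P i := stepQ 8323 Q8323 (allL N8323 (tt N10097 (iv F123588)) (tt N9831 (iv F122260)) (tt N8323 F86424) (tt N6822 (iv D20020)) (tt N8323 F86425) (tt N7365 F86426) (tt N10112 D29126) (tt N6892 F86427) (tt N10113 D29127) (tt N10069 (iv F123474)))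
theorem Q8325 : ∀ i, i < 8325 → P i := stepQ 8324 Q8324 (allL N8324 (tt N10098 (iv F123593)) (tt N9832 (iv F122264)) (tt N6827 F86428) (tt N10112 (iv F123667)) (tt N6823 F86429) (tt N10114 D29128) (tt N6822 (iv D20021)) (tt N10115 D29129) (tt N10116 D29130) (tt N10070 (iv F123477)))
theorem Q8326 : ∀ i, i < 8326 → P i := stepQ 8325 Q8325 (allL N8325 (tt N10099 (iv F123596)) (tt N9833 (iv F122267)) (tt N6828 F86430) (tt N10117 D29131) (tt N6824 F86431) (tt N7367 F86432) (tt N10116 (iv F123681)) (tt N6894 F86433) (tt N6822 (iv D20022)) (tt N10118 D29132))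
theorem Q8327 : ∀ i, i < 8327 → P i := stepQ 8326 Q8326 (allL N8326 (tt N10100 (iv F123601)) (tt N9834 (iv F122272)) (tt N6829 F86434) (tt N8326 F86435) (tt N10115 (iv F123677)) (tt N8326 F86436) (tt N6895 F86437) (tt N6823 (iv D20023)) (tt N10119 D29133) (tt N10072 (iv F123486)))
theorem Q8328 : ∀ i, i < 8328 → P i := stepQ 8327 Q8327 (allL N8327 (tt N10101 (iv F123606)) (tt N9835 (iv F122277)) (tt N6830 F86438) (tt N10120 D29134) (tt N10116 (iv F123680)) (tt N8327 F86439) (tt N6824 F86440) (tt N10119 (iv F123691)) (tt N6823 (iv D20024)) (tt N10121 D29135))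
theorem Q8329 : ∀ i, i < 8329 → P i := stepQ 8328 Q8328 (allL N8328 (tt N10102 (iv F123610)) (tt N9836 (iv F122281)) (tt N8328 F86441) (tt N6824 (iv D20025)) (tt N10122 D29136) (tt N6825 F86442) (tt N10120 (iv F123694)) (tt N6897 F86443) (tt N8328 F86444) (tt N10123 D29137))
theorem Q8330 : ∀ i, i < 8330 → P i := stepQ 8329 Q8329 (allL N8329 (tt N10103 (iv F123615)) (tt N9837 (iv F122285)) (tt N6831 F86445) (tt N10123 (iv F123703)) (tt N10118 (iv F123685)) (tt N6826 F86446) (tt N10121 (iv F123698)) (tt N6898 F86447) (tt N10075 (iv F123496)) (tt N6824 (iv D20026)))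

end Cfsg.Agent.Helper17.Fi23TC
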