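import Cfsg.Agent.Helper17.Fi23TC.Fin4

set_option autoImplicit false
set_option linter.all false
set_option maxRecDepth 100000

noncomputable section

namespace Cfsg.Agent.Helper17.Fi23TC

theorem Q8331 : ∀ i, i < 8331 → P i := stepQ 8330 Q8330 (allL N8330 (tt N9807 F201971) (tt N9838 (iv F122289)) (tt N8330 F86448) (tt N7372 F86449) (tt N6825 (iv D20027)) (tt N10124 D29138) (tt N8330 F86450) (tt N6899 F86451) (tt N8330 F86452) (tt N10125 D29139))
theorem Q8332 : ∀ i, i < 8332 → P i := stepQ 8331 Q8331 (allL N8331 (tt N10104 (iv F123625)) (tt N9839 (iv F122294)) (tt N8331 F86453) (tt N6826 F86454) (tt N10125 (iv F123712)) (tt N10123 (iv F123704)) (tt N8331 F86455) (tt N6900 F86456) (tt N10126 D29140) (tt N6825 (iv D20028)))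
theorem Q8333 : ∀ i, i < 8333 → P i := stepQ 8332 Q8332 (allL N8332 (tt N10105 (iv F123630)) (tt N6832 F86457) (tt N10114 (iv F123673)) (tt N8332 F86458) (tt N8332 F86459) (tt N6827 (iv D20029)) (tt N7374 F86460) (tt N10127 D29141) (tt N10128 D29142) (tt N10078 (iv F123508)))
theorem Q8334 : ∀ i, i < 8334 → P i := stepQ 8333 Q8333 (allL N8333 (tt N10106 (iv F123635)) (tt N6833 F86461) (tt N10115 (iv F123676)) (tt N8333 F86462) (tt N6829 F86463) (tt N10127 (iv F123722)) (tt N6902 F86464) (tt N6827 (iv D20030)) (tt N10129 D29143) (tt N10079 (iv F123513)))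
theorem Q8335 : ∀ i, i < 8335 → P i := stepQ 8334 Q8334 (allL N8334 (tt N10107 (iv F123640)) (tt N6834 F86465) (tt N10116 (iv F123679)) (tt N10130 D29144) (tt N6830 F86466) (tt N10128 (iv F123725)) (tt N6828 F86467) (tt N10129 (iv F123730)) (tt N6827 (iv D20031)) (tt N10131 D29145))
theorem Q8336 : ∀ i, i < 8336 → P i := stepQ 8335 Q8335 (allL N8335 (tt N10108 (iv F123644)) (tt N6835 F86468) (tt N10132 D29146) (tt N6828 (iv D20032)) (tt N8335 F86469) (tt N7377 F86470) (tt N10130 (iv F123733)) (tt N6904 F86471) (tt N8335 F86472) (tt N10133 D29147))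
theorem Q8337 : ∀ i, i < 8337 → P i := stepQ 8336 Q8336 (allL N8336 (tt N10109 (iv F123650)) (tt N6836 F86473) (tt N10118 (iv F123684)) (tt N10133 (iv F123743)) (tt N6831 F86474) (tt N7378 F86475) (tt N10131 (iv F123737)) (tt N6905 F86476) (tt N10082 (iv F123525)) (tt N6828 (iv D20033)))
theorem Q8338 : ∀ i, i < 8338 → P i := stepQ 8337 Q8337 (allL N8337 (tt N10110 (iv F123655)) (tt N6837 F86477) (tt N10119 (iv F123688)) (tt N8337 F86478) (tt N10129 (iv F123728)) (tt N8337 F86479) (tt N6906 F86480) (tt N6830 F86481) (tt N6829 (iv D20034)) (tt N10134 D29148))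
theorem Q8339 : ∀ i, i < 8339 → P i := stepQ 8338 Q8338 (allL N8338 (tt N10111 (iv F123661)) (tt N6838 F86482) (tt N10121 (iv F123696)) (tt N8338 F86483) (tt N10131 (iv F123736)) (tt N8338 F86484) (tt N6831 F86485) (tt N10134 (iv F123751)) (tt N10084 (iv F123533)) (tt N6830 (iv D20035)))
theorem Q8340 : ∀ i, i < 8340 → P i := stepQ 8339 Q8339 (allL N8339 (tt N8339 F86486) (tt N10127 (iv F123719)) (tt N9792 F205797) (tt N8339 F86487) (tt N8339 F86488) (tt N6833 F86489) (tt N10135 D29149) (tt N6832 (iv D20036)) (tt N9869 F205798) (tt N10085 (iv F123538)))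
theorem Q8341 : ∀ i, i < 8341 → P i := stepQ 8340 Q8340 (allL N8340 (tt N8340 F86490) (tt N10128 (iv F123723)) (tt N9817 F205815) (tt N10090 (iv F206026)) (tt N8340 F86491) (tt N6834 F86492) (tt N7382 F86493) (tt N9869 F205816) (tt N6832 (iv D20037)) (tt N10136 D29152))
theorem Q8342 : ∀ i, i < 8342 → P i := stepQ 8341 Q8341 (allL N8341 (tt N8341 F86494) (tt N10129 (iv F123727)) (tt N7212 F205484) (tt N7419 (iv F205668)) (tt N6837 F86495) (tt N9869 (iv F205670)) (tt N6910 F86496) (tt N6834 F86497) (tt N6833 (iv D20038)) (tt N10137 D29154))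
theorem Q8343 : ∀ i, i < 8343 → P i := stepQ 8342 Q8342 (allL N8342 (tt N8342 F86498) (tt N10130 (iv F123731)) (tt N7351 (iv F206021)) (tt N6834 (iv D20039)) (tt N8342 F86499) (tt N10090 (iv F206027)) (tt N6835 F86500) (tt N7419 F205814) (tt N8342 F86501) (tt N10138 D29156))
theorem Q8344 : ∀ i, i < 8344 → P i := stepQ 8343 Q8343 (allL N8343 (tt N8343 F86502) (tt N10131 (iv F123735)) (tt N9846 (iv F122338)) (tt N10138 (iv F123783)) (tt N6838 F86503) (tt N10136 (iv F123767)) (tt N6836 F86504) (tt N10137 (iv F123777)) (tt N10089 (iv F123553)) (tt N6834 (iv D20040)))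
theorem Q8345 : ∀ i, i < 8345 → P i := stepQ 8344 Q8344 (allL N8344 (tt N8344 F86505) (tt N10139 D29157) (tt N6835 (iv D20041)) (tt N7350 F205902) (tt N8344 F86506) (tt N7386 F86507) (tt N7351 (iv F206022)) (tt N6913 F86508) (tt N8344 F86509) (tt N10140 D29158))
theorem Q8346 : ∀ i, i < 8346 → P i := stepQ 8345 Q8345 (allL N8345 (tt N8345 F86510) (tt N10133 (iv F123742)) (tt N10140 (iv F123791)) (tt N6836 F86511) (tt N8345 F86512) (tt N7387 F86513) (tt N10138 (iv F123785)) (tt N6914 F86514) (tt N10141 D29159) (tt N6835 (iv D20042)))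
theorem Q8347 : ∀ i, i < 8347 → P i := stepQ 8346 Q8346 (allL N8346 (tt N8346 F86515) (tt N10134 (iv F123747)) (tt N9848 (iv F122350)) (tt N8346 F86516) (tt N10137 (iv F123775)) (tt N8346 F86517) (tt N6915 F86518) (tt N6838 F86519) (tt N10092 (iv F123566)) (tt N6837 (iv D20043)))
theorem Q8348 : ∀ i, i < 8348 → P i := stepQ 8347 Q8347 (allL N8347 (tt N8347 F86520) (tt N6839 (iv D20044)) (tt N8347 F86521) (tt N8347 F86522) (tt N8347 F86523) (tt N10051 F199572) (tt N6916 F86524) (tt N10036 (iv F123282)) (tt N10142 D29161) (tt N8347 F86525))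
theorem Q8349 : ∀ i, i < 8349 → P i := stepQ 8348 Q8348 (allL N8348 (tt N6843 F86526) (tt N10051 (iv F199493)) (tt N6840 F86527) (tt N8348 F86528) (tt N10048 (iv F199490)) (tt N6839 (iv D20045)) (tt N10143 D29163) (tt N10037 (iv F123287)) (tt N10144 D29164) (tt N8348 F86529))
theorem Q8350 : ∀ i, i < 8350 → P i := stepQ 8349 Q8349 (allL N8349 (tt N6844 F86530) (tt N10142 (iv F123806)) (tt N6841 F86531) (tt N10145 D29165) (tt N8349 F86532) (tt N10144 (iv F123821)) (tt N6918 F86533) (tt N10038 (iv F123293)) (tt N6839 (iv D20046)) (tt N10146 D29166))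
theorem Q8351 : ∀ i, i < 8351 → P i := stepQ 8350 Q8350 (allL N8350 (tt N6845 F86534) (tt N8350 F86535) (tt N10048 F199558) (tt N8350 F86536) (tt N6840 (iv D20047)) (tt N8350 F86537) (tt N10147 D29167) (tt N10039 (iv F123298)) (tt N10148 D29168) (tt N8350 F86538))
theorem Q8352 : ∀ i, i < 8352 → P i := stepQ 8351 Q8351 (allL N8351 (tt N6846 F86539) (tt N8351 F86540) (tt N10143 (iv F123815)) (tt N6842 F86541) (tt N10147 (iv F123834)) (tt N6919 F86542) (tt N6840 (iv D20048)) (tt N10149 D29169) (tt N10150 D29170) (tt N8351 F86543))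
theorem Q8353 : ∀ i, i < 8353 → P i := stepQ 8352 Q8352 (allL N8352 (tt N6847 F86544) (tt N8352 F86545) (tt N10144 (iv F123820)) (tt N6860 F86546) (tt N10148 (iv F123838)) (tt N6841 F86547) (tt N10150 (iv F123849)) (tt N10041 (iv F123309)) (tt N6840 (iv D20049)) (tt N10151 D29171))
theorem Q8354 : ∀ i, i < 8354 → P i := stepQ 8353 Q8353 (allL N8353 (tt N6848 F86548) (tt N8353 F86549) (tt N10146 (iv F123827)) (tt N6861 F86550) (tt N8353 F86551) (tt N10151 (iv F123853)) (tt N6921 F86552) (tt N10042 (iv F123315)) (tt N8353 F86553) (tt N6841 (iv D20050)))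
theorem Q8355 : ∀ i, i < 8355 → P i := stepQ 8354 Q8354 (allL N8354 (tt N6849 F86554) (tt N8354 F86555) (tt N8354 F86556) (tt N10149 (iv F123842)) (tt N8354 F86557) (tt N6922 F86558) (tt N10043 (iv F123322)) (tt N6842 (iv D20051)) (tt N6862 F86559) (tt N8354 F86560))
theorem Q8356 : ∀ i, i < 8356 → P i := stepQ 8355 Q8355 (allL N8355 (tt N10048 (iv F199489)) (tt N8355 F86561) (tt N6845 F86562) (tt N10043 (iv F199491)) (tt N6843 (iv D20052)) (tt N8355 F86563) (tt N10149 F199410) (tt N10040 (iv F199492)) (tt N10152 D29174) (tt N8355 F86564))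
theorem Q8357 : ∀ i, i < 8357 → P i := stepQ 8356 Q8356 (allL N8356 (tt N10143 (iv F123814)) (tt N8356 F86565) (tt N6846 F86566) (tt N8356 F86567) (tt N10149 F199409) (tt N6924 F86568) (tt N6843 (iv D20053)) (tt N10147 (iv F199488)) (tt N10153 D29176) (tt N8356 F86569))
theorem Q8358 : ∀ i, i < 8358 → P i := stepQ 8357 Q8357 (allL N8357 (tt N10144 (iv F123819)) (tt N8357 F86570) (tt N6847 F86571) (tt N10154 D29177) (tt N10152 (iv F123866)) (tt N6844 F86572) (tt N10153 (iv F123876)) (tt N10044 (iv F123338)) (tt N6843 (iv D20054)) (tt N10155 D29178))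
theorem Q8359 : ∀ i, i < 8359 → P i := stepQ 8358 Q8358 (allL N8358 (tt N10145 (iv F123822)) (tt N8358 F86573) (tt N6866 F86574) (tt N6844 (iv D20055)) (tt N10156 D29179) (tt N10154 (iv F123879)) (tt N6926 F86575) (tt N10045 (iv F123342)) (tt N8358 F86576) (tt N10157 D29180))
theorem Q8360 : ∀ i, i < 8360 → P i := stepQ 8359 Q8359 (allL N8359 (tt N10146 (iv F123826)) (tt N8359 F86577) (tt N6848 F86578) (tt N10157 (iv F123892)) (tt N8359 F86579) (tt N10155 (iv F123883)) (tt N6927 F86580) (tt N10046 (iv F123348)) (tt N8359 F86581) (tt N6844 (iv D20056)))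
theorem Q8361 : ∀ i, i < 8361 → P i := stepQ 8360 Q8360 (allL N8360 (tt N10147 (iv F123831)) (tt N6850 F86582) (tt N10149 F199403) (tt N8360 F86583) (tt N6846 F86584) (tt N10158 D29181) (tt N6845 (iv D20057)) (tt N10143 F199404) (tt N10159 D29183) (tt N8360 F86585))
theorem Q8362 : ∀ i, i < 8362 → P i := stepQ 8361 Q8361 (allL N8361 (tt N10148 (iv F123836)) (tt N6851 F86586) (tt N10152 (iv F123865)) (tt N10160 D29184) (tt N6847 F86587) (tt N8361 F86588) (tt N10159 (iv F123905)) (tt N10047 (iv F123357)) (tt N6845 (iv D20058)) (tt N10161 D29185))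
theorem Q8363 : ∀ i, i < 8363 → P i := stepQ 8362 Q8362 (allL N8362 (tt N10149 (iv F123840)) (tt N6852 F86589) (tt N10147 (iv F199486)) (tt N6849 F86590) (tt N10143 F199408) (tt N6930 F86591) (tt N10048 (iv F123361)) (tt N6846 (iv D20059)) (tt N10162 D29186) (tt N8362 F86592))
theorem Q8364 : ∀ i, i < 8364 → P i := stepQ 8363 Q8363 (allL N8363 (tt N10150 (iv F123845)) (tt N6853 F86593) (tt N10153 (iv F123874)) (tt N6871 F86594) (tt N10159 (iv F123904)) (tt N6931 F86595) (tt N6847 F86596) (tt N10162 (iv F123917)) (tt N6846 (iv D20060)) (tt N10163 D29187))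
theorem Q8365 : ∀ i, i < 8365 → P i := stepQ 8364 Q8364 (allL N8364 (tt N10151 (iv F123850)) (tt N6854 F86597) (tt N10155 (iv F123882)) (tt N6872 F86598) (tt N10161 (iv F123911)) (tt N6848 F86599) (tt N10163 (iv F123921)) (tt N10050 (iv F123370)) (tt N8364 F86600) (tt N6847 (iv D20061)))
theorem Q8366 : ∀ i, i < 8366 → P i := stepQ 8365 Q8365 (allL N8365 (tt N8365 F86601) (tt N10158 (iv F123894)) (tt N8365 F86602) (tt N8365 F86603) (tt N6933 F86604) (tt N6850 (iv D20062)) (tt N8365 F86605) (tt N10164 D29188) (tt N10165 D29189) (tt N8365 F86606))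
theorem Q8367 : ∀ i, i < 8367 → P i := stepQ 8366 Q8366 (allL N8366 (tt N8366 F86607) (tt N10143 F199414) (tt N8366 F86608) (tt N8366 F86609) (tt N6852 F86610) (tt N10164 (iv F123927)) (tt N10051 (iv F123382)) (tt N6850 (iv D20063)) (tt N10166 D29190) (tt N8366 F86611))
theorem Q8368 : ∀ i, i < 8368 → P i := stepQ 8367 Q8367 (allL N8367 (tt N8367 F86612) (tt N10159 (iv F123903)) (tt N8367 F86613) (tt N10167 D29191) (tt N6853 F86614) (tt N10165 (iv F123932)) (tt N6851 F86615) (tt N10166 (iv F123937)) (tt N6850 (iv D20064)) (tt N10168 D29192))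
theorem Q8369 : ∀ i, i < 8369 → P i := stepQ 8368 Q8368 (allL N8368 (tt N8368 F86616) (tt N10160 (iv F123906)) (tt N10169 D29193) (tt N6851 (iv D20065)) (tt N6876 F86617) (tt N8368 F86618) (tt N10167 (iv F123940)) (tt N10053 (iv F123391)) (tt N8368 F86619) (tt N10170 D29194))
theorem Q8370 : ∀ i, i < 8370 → P i := stepQ 8369 Q8369 (allL N8369 (tt N8369 F86620) (tt N10161 (iv F123910)) (tt N8369 F86621) (tt N10170 (iv F123953)) (tt N6854 F86622) (tt N8369 F86623) (tt N10168 (iv F123945)) (tt N10054 (iv F123397)) (tt N8369 F86624) (tt N6851 (iv D20066)))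
theorem Q8371 : ∀ i, i < 8371 → P i := stepQ 8370 Q8370 (allL N8370 (tt N8370 F86625) (tt N10162 (iv F123914)) (tt N8370 F86626) (tt N6878 F86627) (tt N10166 (iv F123936)) (tt N6938 F86628) (tt N10055 (iv F123403)) (tt N6853 F86629) (tt N6852 (iv D20067)) (tt N10171 D29195))
theorem Q8372 : ∀ i, i < 8372 → P i := stepQ 8371 Q8371 (allL N8371 (tt N8371 F86630) (tt N10163 (iv F123918)) (tt N8371 F86631) (tt N6879 F86632) (tt N10168 (iv F123944)) (tt N6939 F86633) (tt N6854 F86634) (tt N10171 (iv F123960)) (tt N8371 F86635) (tt N6853 (iv D20068)))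
theorem Q8373 : ∀ i, i < 8373 → P i := stepQ 8372 Q8372 (allL N8372 (tt N7855 (iv F201541)) (tt N6856 F86636) (tt N8372 F86637) (tt N8372 F86638) (tt N10172 D29196) (tt N6855 (iv D20069)) (tt N10173 D29197) (tt N10057 (iv F123414)) (tt N10174 D29198) (tt N6880 F86639))
theorem Q8374 : ∀ i, i < 8374 → P i := stepQ 8373 Q8373 (allL N8373 (tt N7235 (iv F201509)) (tt N6857 F86640) (tt N8373 F86641) (tt N9884 (iv F201705)) (tt N7221 F201349) (tt N10174 (iv F123973)) (tt N6941 F86643) (tt N10058 (iv F123420)) (tt N6855 (iv D20070)) (tt N10175 D29200))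
theorem Q8375 : ∀ i, i < 8375 → P i := stepQ 8374 Q8374 (allL N8374 (tt N6863 F86644) (tt N10172 (iv F123962)) (tt N6858 F86645) (tt N10176 D29201) (tt N6856 (iv D20071)) (tt N7390 F86646) (tt N10177 D29202) (tt N10059 (iv F123424)) (tt N10178 D29203) (tt N6882 F86647))
theorem Q8376 : ∀ i, i < 8376 → P i := stepQ 8375 Q8375 (allL N8375 (tt N6864 F86648) (tt N10173 (iv F123966)) (tt N6859 F86649) (tt N8375 F86650) (tt N10177 (iv F123989)) (tt N6943 F86651) (tt N6856 (iv D20072)) (tt N10179 D29204) (tt N10180 D29205) (tt N6883 F86652))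
theorem Q8377 : ∀ i, i < 8377 → P i := stepQ 8376 Q8376 (allL N8376 (tt N6865 F86653) (tt N10174 (iv F123971)) (tt N6860 F86654) (tt N10181 D29206) (tt N10178 (iv F123993)) (tt N6857 F86655) (tt N10180 (iv F124003)) (tt N10061 (iv F123434)) (tt N6856 (iv D20073)) (tt N10182 D29207))
theorem Q8378 : ∀ i, i < 8378 → P i := stepQ 8377 Q8377 (allL N8377 (tt N6866 F86656) (tt N9884 F202054) (tt N10145 (iv F123823)) (tt N6857 (iv D20074)) (tt N9875 F202055) (tt N10181 (iv F124005)) (tt N6945 F86657) (tt N10062 (iv F123437)) (tt N8377 F86658) (tt N10183 D29209))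
theorem Q8379 : ∀ i, i < 8379 → P i := stepQ 8378 Q8378 (allL N8378 (tt N6867 F86659) (tt N10175 (iv F123977)) (tt N6861 F86660) (tt N10183 (iv F124016)) (tt N7393 F86661) (tt N10182 (iv F124009)) (tt N6946 F86662) (tt N10063 (iv F123443)) (tt N6886 F86663) (tt N6857 (iv D20075)))
theorem Q8380 : ∀ i, i < 8380 → P i := stepQ 8379 Q8379 (allL N8379 (tt N6868 F86664) (tt N8379 F86665) (tt N10177 (iv F123988)) (tt N8379 F86666) (tt N6859 F86667) (tt N10184 D29210) (tt N6858 (iv D20076)) (tt N10185 D29211) (tt N10186 D29212) (tt N6887 F86668))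
theorem Q8381 : ∀ i, i < 8381 → P i := stepQ 8380 Q8380 (allL N8380 (tt N6869 F86669) (tt N8380 F86670) (tt N10178 (iv F123992)) (tt N10187 D29213) (tt N6860 F86671) (tt N7395 F86672) (tt N10186 (iv F124032)) (tt N10065 (iv F123454)) (tt N6858 (iv D20077)) (tt N10188 D29214))
theorem Q8382 : ∀ i, i < 8382 → P i := stepQ 8381 Q8381 (allL N8381 (tt N6870 F86673) (tt N8381 F86674) (tt N10179 (iv F123996)) (tt N6862 F86675) (tt N10185 (iv F124027)) (tt N6949 F86676) (tt N10066 (iv F123459)) (tt N6859 (iv D20078)) (tt N10189 D29215) (tt N6889 F86677))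
theorem Q8383 : ∀ i, i < 8383 → P i := stepQ 8382 Q8382 (allL N8382 (tt N6871 F86678) (tt N8382 F86679) (tt N10180 (iv F124001)) (tt N10150 (iv F123847)) (tt N10186 (iv F124031)) (tt N6950 F86680) (tt N6860 F86681) (tt N10189 (iv F124045)) (tt N6859 (iv D20079)) (tt N10190 D29216))
theorem Q8384 : ∀ i, i < 8384 → P i := stepQ 8383 Q8383 (allL N8383 (tt N6872 F86682) (tt N8383 F86683) (tt N10182 (iv F124008)) (tt N10151 (iv F123852)) (tt N10188 (iv F124039)) (tt N6861 F86684) (tt N10190 (iv F124049)) (tt N10068 (iv F123468)) (tt N6891 F86685) (tt N6860 (iv D20080)))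
theorem Q8385 : ∀ i, i < 8385 → P i := stepQ 8384 Q8384 (allL N8384 (tt N10176 (iv F123982)) (tt N9849 (iv F122408)) (tt N8384 F86686) (tt N6863 (iv D20081)) (tt N8384 F86687) (tt N7399 F86688) (tt N10191 D29217) (tt N10069 (iv F123473)) (tt N10192 D29218) (tt N6892 F86689))
theorem Q8386 : ∀ i, i < 8386 → P i := stepQ 8385 Q8385 (allL N8385 (tt N10177 (iv F123987)) (tt N9850 (iv F122412)) (tt N6868 F86690) (tt N10191 (iv F124052)) (tt N6864 F86691) (tt N10193 D29219) (tt N6863 (iv D20082)) (tt N10194 D29220) (tt N10195 D29221) (tt N6893 F86692))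
theorem Q8387 : ∀ i, i < 8387 → P i := stepQ 8386 Q8386 (allL N8386 (tt N10178 (iv F123991)) (tt N9851 (iv F122416)) (tt N6869 F86693) (tt N10196 D29222) (tt N6865 F86694) (tt N7401 F86695) (tt N10195 (iv F124067)) (tt N10071 (iv F123481)) (tt N6863 (iv D20083)) (tt N10197 D29223))
theorem Q8388 : ∀ i, i < 8388 → P i := stepQ 8387 Q8387 (allL N8387 (tt N10179 (iv F123995)) (tt N9852 (iv F122420)) (tt N6870 F86696) (tt N8387 F86697) (tt N10194 (iv F124063)) (tt N6955 F86698) (tt N10072 (iv F123485)) (tt N6864 (iv D20084)) (tt N10198 D29224) (tt N6895 F86699))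
theorem Q8389 : ∀ i, i < 8389 → P i := stepQ 8388 Q8388 (allL N8388 (tt N10180 (iv F124000)) (tt N9853 (iv F122425)) (tt N6871 F86700) (tt N10199 D29225) (tt N10195 (iv F124066)) (tt N6956 F86701) (tt N6865 F86702) (tt N10198 (iv F124075)) (tt N6864 (iv D20085)) (tt N10200 D29226))
theorem Q8390 : ∀ i, i < 8390 → P i := stepQ 8389 Q8389 (allL N8389 (tt N10181 (iv F124004)) (tt N9854 (iv F122429)) (tt N10154 (iv F123878)) (tt N6865 (iv D20086)) (tt N10201 D29227) (tt N6866 F86703) (tt N10199 (iv F124077)) (tt N10074 (iv F123491)) (tt N8389 F86704) (tt N10202 D29228))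
theorem Q8391 : ∀ i, i < 8391 → P i := stepQ 8390 Q8390 (allL N8390 (tt N10182 (iv F124007)) (tt N9855 (iv F122433)) (tt N6872 F86705) (tt N10202 (iv F124084)) (tt N10197 (iv F124070)) (tt N6867 F86706) (tt N10200 (iv F124081)) (tt N10075 (iv F123495)) (tt N6898 F86707) (tt N6865 (iv D20087)))
theorem Q8392 : ∀ i, i < 8392 → P i := stepQ 8391 Q8391 (allL N8391 (tt N9875 F202052) (tt N6885 (iv F202338)) (tt N10156 (iv F123886)) (tt N6881 F202053) (tt N6866 (iv D20088)) (tt N10203 D29229) (tt N6959 F86709) (tt N10076 (iv F123499)) (tt N8391 F86710) (tt N10204 D29230))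
theorem Q8393 : ∀ i, i < 8393 → P i := stepQ 8392 Q8392 (allL N8392 (tt N10183 (iv F124015)) (tt N9856 (iv F122442)) (tt N10157 (iv F123891)) (tt N6867 F86711) (tt N10204 (iv F124089)) (tt N10202 (iv F124085)) (tt N6960 F86712) (tt N10077 (iv F123503)) (tt N10205 D29231) (tt N6866 (iv D20089)))
theorem Q8394 : ∀ i, i < 8394 → P i := stepQ 8393 Q8393 (allL N8393 (tt N10184 (iv F124018)) (tt N6873 F86713) (tt N10193 (iv F124058)) (tt N8393 F86714) (tt N6961 F86715) (tt N6868 (iv D20090)) (tt N7407 F86716) (tt N10206 D29232) (tt N10207 D29233) (tt N6901 F86717))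
theorem Q8395 : ∀ i, i < 8395 → P i := stepQ 8394 Q8394 (allL N8394 (tt N10185 (iv F124024)) (tt N6874 F86718) (tt N10194 (iv F124062)) (tt N8394 F86719) (tt N6870 F86720) (tt N10206 (iv F124097)) (tt N10079 (iv F123512)) (tt N6868 (iv D20091)) (tt N10208 D29234) (tt N6902 F86721))
theorem Q8396 : ∀ i, i < 8396 → P i := stepQ 8395 Q8395 (allL N8395 (tt N10186 (iv F124029)) (tt N6875 F86722) (tt N10195 (iv F124065)) (tt N10209 D29235) (tt N6871 F86723) (tt N10207 (iv F124101)) (tt N6869 F86724) (tt N10208 (iv F124105)) (tt N6868 (iv D20092)) (tt N10210 D29236))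
theorem Q8397 : ∀ i, i < 8397 → P i := stepQ 8396 Q8396 (allL N8396 (tt N10187 (iv F124033)) (tt N6876 F86725) (tt N10211 D29237) (tt N6869 (iv D20093)) (tt N10160 (iv F123907)) (tt N7410 F86726) (tt N10209 (iv F124107)) (tt N10081 (iv F123519)) (tt N8396 F86727) (tt N10212 D29238))
theorem Q8398 : ∀ i, i < 8398 → P i := stepQ 8397 Q8397 (allL N8397 (tt N10188 (iv F124037)) (tt N6877 F86728) (tt N10197 (iv F124069)) (tt N10212 (iv F124116)) (tt N6872 F86729) (tt N7411 F86730) (tt N10210 (iv F124111)) (tt N10082 (iv F123524)) (tt N6905 F86731) (tt N6869 (iv D20094)))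
theorem Q8399 : ∀ i, i < 8399 → P i := stepQ 8398 Q8398 (allL N8398 (tt N10189 (iv F124042)) (tt N6878 F86732) (tt N10198 (iv F124073)) (tt N10162 (iv F123915)) (tt N10208 (iv F124104)) (tt N6966 F86733) (tt N10083 (iv F123528)) (tt N6871 F86734) (tt N6870 (iv D20095)) (tt N10213 D29239))
theorem Q8400 : ∀ i, i < 8400 → P i := stepQ 8399 Q8399 (allL N8399 (tt N10190 (iv F124046)) (tt N6879 F86735) (tt N10200 (iv F124079)) (tt N10163 (iv F123919)) (tt N10210 (iv F124110)) (tt N6967 F86736) (tt N6872 F86737) (tt N10213 (iv F124120)) (tt N6907 F86738) (tt N6871 (iv D20096)))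
theorem Q8401 : ∀ i, i < 8401 → P i := stepQ 8400 Q8400 (allL N8400 (tt N8400 F86739) (tt N10206 (iv F124094)) (tt N9864 (iv F122473)) (tt N8400 F86740) (tt N6968 F86741) (tt N6874 F86742) (tt N10214 D29240) (tt N6873 (iv D20097)) (tt N10215 D29241) (tt N6908 F86743))
theorem Q8402 : ∀ i, i < 8402 → P i := stepQ 8401 Q8401 (allL N8401 (tt N8401 F86744) (tt N10207 (iv F124099)) (tt N9865 (iv F122478)) (tt N10216 D29242) (tt N6969 F86745) (tt N6875 F86746) (tt N7415 F86747) (tt N10215 (iv F124130)) (tt N6873 (iv D20098)) (tt N10217 D29243))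
theorem Q8403 : ∀ i, i < 8403 → P i := stepQ 8402 Q8402 (allL N8402 (tt N8402 F86748) (tt N10208 (iv F124103)) (tt N9866 (iv F122483)) (tt N10218 D29244) (tt N6878 F86749) (tt N10215 (iv F124129)) (tt N10087 (iv F123545)) (tt N6875 F86750) (tt N6874 (iv D20099)) (tt N10219 D29245))
theorem Q8404 : ∀ i, i < 8404 → P i := stepQ 8403 Q8403 (allL N8403 (tt N8403 F86751) (tt N10209 (iv F124106)) (tt N10220 D29246) (tt N6875 (iv D20100)) (tt N10167 (iv F123939)) (tt N10216 (iv F124132)) (tt N6876 F86752) (tt N10218 (iv F124141)) (tt N8403 F86753) (tt N10221 D29247))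
theorem Q8405 : ∀ i, i < 8405 → P i := stepQ 8404 Q8404 (allL N8404 (tt N8404 F86754) (tt N10210 (iv F124109)) (tt N9868 (iv F122490)) (tt N10221 (iv F124151)) (tt N6879 F86755) (tt N10217 (iv F124137)) (tt N6877 F86756) (tt N10219 (iv F124145)) (tt N6912 F86757) (tt N6875 (iv D20101)))
theorem Q8406 : ∀ i, i < 8406 → P i := stepQ 8405 Q8405 (allL N8405 (tt N8405 F86758) (tt N10222 D29248) (tt N6876 (iv D20102)) (tt N9869 (iv F122495)) (tt N10169 (iv F123949)) (tt N7419 F86759) (tt N10220 (iv F124148)) (tt N10090 (iv F123556)) (tt N8405 F86760) (tt N10223 D29249))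
theorem Q8407 : ∀ i, i < 8407 → P i := stepQ 8406 Q8406 (allL N8406 (tt N8406 F86761) (tt N10212 (iv F124115)) (tt N10223 (iv F124156)) (tt N6877 F86762) (tt N10170 (iv F123954)) (tt N7420 F86763) (tt N10221 (iv F124152)) (tt N10091 (iv F123561)) (tt N10224 D29250) (tt N6876 (iv D20103)))
theorem Q8408 : ∀ i, i < 8408 → P i := stepQ 8407 Q8407 (allL N8407 (tt N8407 F86764) (tt N10213 (iv F124118)) (tt N9871 (iv F122503)) (tt N10171 (iv F123958)) (tt N10219 (iv F124144)) (tt N6975 F86765) (tt N10092 (iv F123564)) (tt N6879 F86766) (tt N6915 F86767) (tt N6878 (iv D20104)))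
theorem Q8409 : ∀ i, i < 8409 → P i := stepQ 8408 Q8408 (allL N8408 (tt N9872 (iv F122508)) (tt N6882 F86768) (tt N8408 F86769) (tt N10225 D29251) (tt N6880 (iv D20105)) (tt N7422 F86770) (tt N10226 D29252) (tt N10093 (iv F123570)) (tt N10227 D29253) (tt N10172 (iv F123965)))
theorem Q8410 : ∀ i, i < 8410 → P i := stepQ 8409 Q8409 (allL N8409 (tt N9873 (iv F122512)) (tt N6883 F86771) (tt N8409 F86772) (tt N8409 F86773) (tt N10226 (iv F124167)) (tt N6977 F86774) (tt N6880 (iv D20106)) (tt N10228 D29254) (tt N10229 D29255) (tt N10173 (iv F123970)))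
theorem Q8411 : ∀ i, i < 8411 → P i := stepQ 8410 Q8410 (allL N8410 (tt N9874 (iv F122517)) (tt N6884 F86775) (tt N8410 F86776) (tt N10203 (iv F202455)) (tt N10227 (iv F124170)) (tt N6881 F86777) (tt N10229 (iv F124179)) (tt N10095 (iv F123578)) (tt N6880 (iv D20107)) (tt N10230 D29257))
theorem Q8412 : ∀ i, i < 8412 → P i := stepQ 8411 Q8411 (allL N8411 (tt N9876 (iv F122525)) (tt N6886 F86781) (tt N8411 F86782) (tt N10204 (iv F202447)) (tt N7406 F202047) (tt N10230 (iv F124185)) (tt N6979 F86784) (tt N10096 (iv F123587)) (tt N10175 (iv F123981)) (tt N6881 (iv D20109)))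
theorem Q8413 : ∀ i, i < 8413 → P i := stepQ 8412 Q8412 (allL N8412 (tt N6892 F86785) (tt N10225 (iv F124162)) (tt N8412 F86786) (tt N6882 (iv D20110)) (tt N8412 F86787) (tt N7424 F86788) (tt N10231 D29261) (tt N10097 (iv F123592)) (tt N10232 D29262) (tt N10176 (iv F123986)))
theorem Q8414 : ∀ i, i < 8414 → P i := stepQ 8413 Q8413 (allL N8413 (tt N6893 F86789) (tt N10226 (iv F124165)) (tt N6887 F86790) (tt N10231 (iv F124199)) (tt N6883 F86791) (tt N10233 D29263) (tt N6882 (iv D20111)) (tt N10234 D29264) (tt N10235 D29265) (tt N10177 (iv F123990)))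
theorem Q8415 : ∀ i, i < 8415 → P i := stepQ 8414 Q8414 (allL N8414 (tt N6894 F86792) (tt N10227 (iv F124168)) (tt N6888 F86793) (tt N10236 D29266) (tt N6884 F86794) (tt N7426 F86795) (tt N10235 (iv F124215)) (tt N10099 (iv F123600)) (tt N6882 (iv D20112)) (tt N10237 D29267))
theorem Q8416 : ∀ i, i < 8416 → P i := stepQ 8415 Q8415 (allL N8415 (tt N6895 F86796) (tt N10228 (iv F124172)) (tt N6889 F86797) (tt N8415 F86798) (tt N10234 (iv F124211)) (tt N6983 F86799) (tt N10100 (iv F123605)) (tt N6883 (iv D20113)) (tt N10238 D29268) (tt N10179 (iv F123999)))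
theorem Q8417 : ∀ i, i < 8417 → P i := stepQ 8416 Q8416 (allL N8416 (tt N6896 F86800) (tt N10229 (iv F124176)) (tt N6890 F86801) (tt N10239 D29269) (tt N10235 (iv F124214)) (tt N6984 F86802) (tt N6884 F86803) (tt N10238 (iv F124225)) (tt N6883 (iv D20114)) (tt N10240 D29270))
theorem Q8418 : ∀ i, i < 8418 → P i := stepQ 8417 Q8417 (allL N8417 (tt N6897 F86804) (tt N10203 F202786) (tt N8417 F86805) (tt N6884 (iv D20115)) (tt N10241 D29271) (tt N6885 F86806) (tt N10239 (iv F124229)) (tt N10102 (iv F123613)) (tt N8417 F86807) (tt N10242 D29272))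
theorem Q8419 : ∀ i, i < 8419 → P i := stepQ 8418 Q8418 (allL N8418 (tt N6898 F86808) (tt N10230 (iv F124183)) (tt N6891 F86809) (tt N10242 (iv F124240)) (tt N10237 (iv F124220)) (tt N6886 F86810) (tt N10240 (iv F124234)) (tt N10103 (iv F123618)) (tt N10182 (iv F124010)) (tt N6884 (iv D20116)))
theorem Q8420 : ∀ i, i < 8420 → P i := stepQ 8419 Q8419 (allL N8419 (tt N6900 F86816) (tt N10204 F202789) (tt N8419 F86817) (tt N6886 F86818) (tt N9856 F202790) (tt N10242 (iv F124241)) (tt N6987 F86819) (tt N10104 (iv F123629)) (tt N10243 D29275) (tt N6885 (iv D20118)))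
theorem Q8421 : ∀ i, i < 8421 → P i := stepQ 8420 Q8420 (allL N8420 (tt N6901 F86820) (tt N8420 F86821) (tt N10233 (iv F124206)) (tt N8420 F86822) (tt N6988 F86823) (tt N6887 (iv D20119)) (tt N7430 F86824) (tt N10244 D29276) (tt N10245 D29277) (tt N10184 (iv F124023)))
theorem Q8422 : ∀ i, i < 8422 → P i := stepQ 8421 Q8421 (allL N8421 (tt N6902 F86825) (tt N8421 F86826) (tt N10234 (iv F124210)) (tt N8421 F86827) (tt N6889 F86828) (tt N10244 (iv F124259)) (tt N10106 (iv F123639)) (tt N6887 (iv D20120)) (tt N10246 D29278) (tt N10185 (iv F124028)))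
theorem Q8423 : ∀ i, i < 8423 → P i := stepQ 8422 Q8422 (allL N8422 (tt N6903 F86829) (tt N8422 F86830) (tt N10235 (iv F124213)) (tt N10247 D29279) (tt N6890 F86831) (tt N10245 (iv F124263)) (tt N6888 F86832) (tt N10246 (iv F124268)) (tt N6887 (iv D20121)) (tt N10248 D29280))
theorem Q8424 : ∀ i, i < 8424 → P i := stepQ 8423 Q8423 (allL N8423 (tt N6904 F86833) (tt N8423 F86834) (tt N10249 D29281) (tt N6888 (iv D20122)) (tt N8423 F86835) (tt N7433 F86836) (tt N10247 (iv F124272)) (tt N10108 (iv F123648)) (tt N8423 F86837) (tt N10250 D29282))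
theorem Q8425 : ∀ i, i < 8425 → P i := stepQ 8424 Q8424 (allL N8424 (tt N6905 F86838) (tt N8424 F86839) (tt N10237 (iv F124219)) (tt N10250 (iv F124284)) (tt N6891 F86840) (tt N7434 F86841) (tt N10248 (iv F124277)) (tt N10109 (iv F123654)) (tt N10188 (iv F124041)) (tt N6888 (iv D20123)))
theorem Q8426 : ∀ i, i < 8426 → P i := stepQ 8425 Q8425 (allL N8425 (tt N6906 F86842) (tt N8425 F86843) (tt N10238 (iv F124223)) (tt N8425 F86844) (tt N10246 (iv F124267)) (tt N6993 F86845) (tt N10110 (iv F123659)) (tt N6890 F86846) (tt N6889 (iv D20124)) (tt N10251 D29283))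
theorem Q8427 : ∀ i, i < 8427 → P i := stepQ 8426 Q8426 (allL N8426 (tt N6907 F86847) (tt N8426 F86848) (tt N10240 (iv F124232)) (tt N8426 F86849) (tt N10248 (iv F124276)) (tt N6994 F86850) (tt N6891 F86851) (tt N10251 (iv F124291)) (tt N10190 (iv F124050)) (tt N6890 (iv D20125)))
theorem Q8428 : ∀ i, i < 8428 → P i := stepQ 8427 Q8427 (allL N8427 (tt N10231 (iv F124197)) (tt N9892 (iv F122587)) (tt N8427 F86852) (tt N6893 F86853) (tt N8427 F86854) (tt N10252 D29284) (tt N6892 (iv D20126)) (tt N10253 D29285) (tt N10254 D29286) (tt N10191 (iv F124054)))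
theorem Q8429 : ∀ i, i < 8429 → P i := stepQ 8428 Q8428 (allL N8428 (tt N10232 (iv F124201)) (tt N9893 (iv F122590)) (tt N8428 F86855) (tt N10255 D29287) (tt N8428 F86856) (tt N7438 F86857) (tt N10254 (iv F124300)) (tt N10113 (iv F123672)) (tt N6892 (iv D20127)) (tt N10256 D29288))
theorem Q8430 : ∀ i, i < 8430 → P i := stepQ 8429 Q8429 (allL N8429 (tt N10233 (iv F124205)) (tt N9894 (iv F122593)) (tt N6901 F86858) (tt N10252 (iv F124293)) (tt N6997 F86859) (tt N6893 (iv D20128)) (tt N7439 F86860) (tt N10257 D29289) (tt N10258 D29290) (tt N10193 (iv F124061)))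
theorem Q8431 : ∀ i, i < 8431 → P i := stepQ 8430 Q8430 (allL N8430 (tt N10234 (iv F124209)) (tt N9895 (iv F122597)) (tt N6902 F86861) (tt N10253 (iv F124296)) (tt N6895 F86862) (tt N10257 (iv F124308)) (tt N10115 (iv F123678)) (tt N6893 (iv D20129)) (tt N10259 D29291) (tt N10194 (iv F124064)))
theorem Q8432 : ∀ i, i < 8432 → P i := stepQ 8431 Q8431 (allL N8431 (tt N10235 (iv F124212)) (tt N9896 (iv F122600)) (tt N6903 F86863) (tt N10260 D29292) (tt N6896 F86864) (tt N10258 (iv F124311)) (tt N6894 F86865) (tt N10259 (iv F124315)) (tt N6893 (iv D20130)) (tt N10261 D29293))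
theorem Q8433 : ∀ i, i < 8433 → P i := stepQ 8432 Q8432 (allL N8432 (tt N10236 (iv F124216)) (tt N9897 (iv F122604)) (tt N10262 D29294) (tt N6894 (iv D20131)) (tt N10263 D29295) (tt N7442 F86866) (tt N10260 (iv F124316)) (tt N10117 (iv F123683)) (tt N10255 (iv F124302)) (tt N10264 D29296))
theorem Q8434 : ∀ i, i < 8434 → P i := stepQ 8433 Q8433 (allL N8433 (tt N10237 (iv F124218)) (tt N9898 (iv F122606)) (tt N6905 F86867) (tt N10264 (iv F124323)) (tt N6898 F86868) (tt N7443 F86869) (tt N10261 (iv F124319)) (tt N10118 (iv F123687)) (tt N10197 (iv F124072)) (tt N6894 (iv D20132)))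
theorem Q8435 : ∀ i, i < 8435 → P i := stepQ 8434 Q8434 (allL N8434 (tt N10238 (iv F124222)) (tt N9899 (iv F122610)) (tt N6906 F86870) (tt N10265 D29297) (tt N10259 (iv F124314)) (tt N7002 F86871) (tt N10119 (iv F123690)) (tt N6896 F86872) (tt N6895 (iv D20133)) (tt N10266 D29298))
theorem Q8436 : ∀ i, i < 8436 → P i := stepQ 8435 Q8435 (allL N8435 (tt N10239 (iv F124226)) (tt N9900 (iv F122614)) (tt N8435 F86873) (tt N6896 (iv D20134)) (tt N10267 D29299) (tt N7003 F86874) (tt N6897 F86875) (tt N10265 (iv F124327)) (tt N8435 F86876) (tt N10268 D29300))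
theorem Q8437 : ∀ i, i < 8437 → P i := stepQ 8436 Q8436 (allL N8436 (tt N10240 (iv F124231)) (tt N9901 (iv F122618)) (tt N6907 F86877) (tt N10268 (iv F124336)) (tt N10261 (iv F124318)) (tt N7004 F86878) (tt N6898 F86879) (tt N10266 (iv F124331)) (tt N10200 (iv F124082)) (tt N6896 (iv D20135)))
theorem Q8438 : ∀ i, i < 8438 → P i := stepQ 8437 Q8437 (allL N8437 (tt N10241 (iv F124235)) (tt N9902 (iv F122622)) (tt N8437 F86880) (tt N10263 (iv F124322)) (tt N6897 (iv D20136)) (tt N10269 D29301) (tt N10267 (iv F124333)) (tt N10122 (iv F123700)) (tt N8437 F86881) (tt N10270 D29302))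
theorem Q8439 : ∀ i, i < 8439 → P i := stepQ 8438 Q8438 (allL N8438 (tt N10242 (iv F124238)) (tt N9903 (iv F122624)) (tt N8438 F86882) (tt N6898 F86883) (tt N10270 (iv F124343)) (tt N6900 F86884) (tt N10268 (iv F124338)) (tt N10123 (iv F123705)) (tt N10271 D29303) (tt N6897 (iv D20137)))
theorem Q8440 : ∀ i, i < 8440 → P i := stepQ 8439 Q8439 (allL N8439 (tt N9854 F202796) (tt N9904 (iv F122627)) (tt N8439 F86885) (tt N7449 F86886) (tt N10269 (iv F124340)) (tt N6899 (iv D20138)) (tt N10272 D29304) (tt N10124 (iv F123708)) (tt N8439 F86887) (tt N10273 D29305))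
theorem Q8441 : ∀ i, i < 8441 → P i := stepQ 8440 Q8440 (allL N8440 (tt N9856 F202797) (tt N9905 (iv F122630)) (tt N8440 F86888) (tt N7450 F86889) (tt N6900 F86890) (tt N10273 (iv F124353)) (tt N7008 F86891) (tt N10125 (iv F123714)) (tt N10274 D29306) (tt N6899 (iv D20139)))
theorem Q8442 : ∀ i, i < 8442 → P i := stepQ 8441 Q8441 (allL N8441 (tt N10243 (iv F124251)) (tt N9906 (iv F122634)) (tt N8441 F86892) (tt N10205 (iv F124091)) (tt N10274 (iv F124355)) (tt N10271 (iv F124345)) (tt N7009 F86893) (tt N10126 (iv F123717)) (tt N6900 (iv D20140)) (tt N8441 F86894))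
theorem Q8443 : ∀ i, i < 8443 → P i := stepQ 8442 Q8442 (allL N8442 (tt N10244 (iv F124255)) (tt N6908 F86895) (tt N10257 (iv F124306)) (tt N8442 F86896) (tt N7010 F86897) (tt N6902 F86898) (tt N10275 D29307) (tt N6901 (iv D20141)) (tt N10276 D29308) (tt N10206 (iv F124098)))
theorem Q8444 : ∀ i, i < 8444 → P i := stepQ 8443 Q8443 (allL N8443 (tt N10245 (iv F124260)) (tt N6909 F86899) (tt N10258 (iv F124309)) (tt N10277 D29309) (tt N7011 F86900) (tt N6903 F86901) (tt N7452 F86902) (tt N10276 (iv F124365)) (tt N6901 (iv D20142)) (tt N10278 D29310))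
theorem Q8445 : ∀ i, i < 8445 → P i := stepQ 8444 Q8444 (allL N8444 (tt N10246 (iv F124265)) (tt N6910 F86903) (tt N10259 (iv F124313)) (tt N10279 D29311) (tt N6906 F86904) (tt N10276 (iv F124364)) (tt N10129 (iv F123729)) (tt N6903 F86905) (tt N6902 (iv D20143)) (tt N10280 D29312))
theorem Q8446 : ∀ i, i < 8446 → P i := stepQ 8445 Q8445 (allL N8445 (tt N10247 (iv F124269)) (tt N6911 F86906) (tt N10281 D29313) (tt N6903 (iv D20144)) (tt N8445 F86907) (tt N10277 (iv F124367)) (tt N6904 F86908) (tt N10279 (iv F124376)) (tt N8445 F86909) (tt N10282 D29314))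
theorem Q8447 : ∀ i, i < 8447 → P i := stepQ 8446 Q8446 (allL N8446 (tt N10248 (iv F124274)) (tt N6912 F86910) (tt N10261 (iv F124317)) (tt N10282 (iv F124385)) (tt N6907 F86911) (tt N10278 (iv F124372)) (tt N6905 F86912) (tt N10280 (iv F124380)) (tt N10210 (iv F124112)) (tt N6903 (iv D20145)))
theorem Q8448 : ∀ i, i < 8448 → P i := stepQ 8447 Q8447 (allL N8447 (tt N10249 (iv F124278)) (tt N10283 D29315) (tt N6904 (iv D20146)) (tt N10262 (iv F124320)) (tt N8447 F86913) (tt N7456 F86914) (tt N10281 (iv F124382)) (tt N10132 (iv F123740)) (tt N8447 F86915) (tt N10284 D29316))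
theorem Q8449 : ∀ i, i < 8449 → P i := stepQ 8448 Q8448 (allL N8448 (tt N10250 (iv F124282)) (tt N6914 F86916) (tt N10284 (iv F124392)) (tt N6905 F86917) (tt N8448 F86918) (tt N7457 F86919) (tt N10282 (iv F124387)) (tt N10133 (iv F123746)) (tt N10285 D29317) (tt N6904 (iv D20147)))
theorem Q8450 : ∀ i, i < 8450 → P i := stepQ 8449 Q8449 (allL N8449 (tt N10251 (iv F124287)) (tt N6915 F86920) (tt N10266 (iv F124329)) (tt N8449 F86921) (tt N10280 (iv F124379)) (tt N7017 F86922) (tt N10134 (iv F123750)) (tt N6907 F86923) (tt N10213 (iv F124121)) (tt N6906 (iv D20148)))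
theorem Q8451 : ∀ i, i < 8451 → P i := stepQ 8450 Q8450 (allL N8450 (tt N8450 F86924) (tt N10275 (iv F124358)) (tt N9915 (iv F122660)) (tt N8450 F86925) (tt N7018 F86926) (tt N10135 (iv F123755)) (tt N6908 (iv D20149)) (tt N7459 F86927) (tt N10286 D29318) (tt N10214 (iv F124126)))
theorem Q8452 : ∀ i, i < 8452 → P i := stepQ 8451 Q8451 (allL N8451 (tt N8451 F86928) (tt N10276 (iv F124362)) (tt N9916 (iv F122664)) (tt N10287 D29319) (tt N7019 F86929) (tt N6910 F86930) (tt N10286 (iv F124401)) (tt N6909 F86931) (tt N6908 (iv D20150)) (tt N10288 D29320))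
theorem Q8453 : ∀ i, i < 8453 → P i := stepQ 8452 Q8452 (allL N8452 (tt N8452 F86932) (tt N10277 (iv F124366)) (tt N10289 D29321) (tt N6909 (iv D20151)) (tt N10290 D29322) (tt N6911 F86933) (tt N7461 F86934) (tt N10287 (iv F124405)) (tt N8452 F86935) (tt N10291 D29323))
theorem Q8454 : ∀ i, i < 8454 → P i := stepQ 8453 Q8453 (allL N8453 (tt N8453 F86936) (tt N10278 (iv F124370)) (tt N9918 (iv F122672)) (tt N10291 (iv F124421)) (tt N7021 F86937) (tt N6912 F86938) (tt N7462 F86939) (tt N10288 (iv F124410)) (tt N10217 (iv F124139)) (tt N6909 (iv D20152)))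
theorem Q8455 : ∀ i, i < 8455 → P i := stepQ 8454 Q8454 (allL N8454 (tt N8454 F86940) (tt N10279 (iv F124374)) (tt N7417 (iv F205664)) (tt N6910 (iv D20153)) (tt N8454 F86941) (tt N10287 (iv F124404)) (tt N7419 (iv F205669)) (tt N6911 F86942) (tt N8454 F86943) (tt N10292 D29325))
theorem Q8456 : ∀ i, i < 8456 → P i := stepQ 8455 Q8455 (allL N8455 (tt N8455 F86944) (tt N10280 (iv F124378)) (tt N9919 (iv F122679)) (tt N10292 (iv F124429)) (tt N6915 F86945) (tt N10288 (iv F124409)) (tt N10137 (iv F123776)) (tt N6912 F86946) (tt N10219 (iv F124146)) (tt N6910 (iv D20154)))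
theorem Q8457 : ∀ i, i < 8457 → P i := stepQ 8456 Q8456 (allL N8456 (tt N8456 F86947) (tt N10293 D29326) (tt N6911 (iv D20155)) (tt N7416 F205545) (tt N8456 F86948) (tt N10289 (iv F124412)) (tt N6913 F86949) (tt N7417 (iv F205665)) (tt N8456 F86950) (tt N10294 D29327))
theorem Q8458 : ∀ i, i < 8458 → P i := stepQ 8457 Q8457 (allL N8457 (tt N8457 F86951) (tt N10282 (iv F124384)) (tt N10294 (iv F124436)) (tt N6912 F86952) (tt N8457 F86953) (tt N10291 (iv F124422)) (tt N6914 F86954) (tt N10292 (iv F124431)) (tt N10295 D29328) (tt N6911 (iv D20156)))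
theorem Q8459 : ∀ i, i < 8459 → P i := stepQ 8458 Q8458 (allL N8458 (tt N10296 D29329) (tt N6913 (iv D20157)) (tt N10283 (iv F124388)) (tt N9921 (iv F122688)) (tt N8458 F86955) (tt N7467 F86956) (tt N10293 (iv F124433)) (tt N10139 (iv F123788)) (tt N8458 F86957) (tt N10297 D29330))
theorem Q8460 : ∀ i, i < 8460 → P i := stepQ 8459 Q8459 (allL N8459 (tt N8459 F86958) (tt N10297 (iv F124447)) (tt N6914 F86959) (tt N9922 (iv F122692)) (tt N8459 F86960) (tt N7468 F86961) (tt N10294 (iv F124438)) (tt N10140 (iv F123794)) (tt N10298 D29331) (tt N6913 (iv D20158)))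
theorem Q8461 : ∀ i, i < 8461 → P i := stepQ 8460 Q8460 (allL N8460 (tt N8460 F86962) (tt N10285 (iv F124395)) (tt N10298 (iv F124451)) (tt N10224 (iv F124159)) (tt N8460 F86963) (tt N7469 F86964) (tt N10295 (iv F124441)) (tt N10141 (iv F123798)) (tt N6914 (iv D20159)) (tt N8460 F86965))
theorem Q8462 : ∀ i, i < 8462 → P i := stepQ 8461 Q8461 (allL N8461 (tt N8461 F86966) (tt N6917 F86967) (tt N8461 F86968) (tt N8461 F86969) (tt N7949 F203864) (tt N6916 (iv D20160)) (tt N10164 F199401) (tt N8461 F86970) (tt N10299 D29334) (tt N8461 F86971))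
theorem Q8463 : ∀ i, i < 8463 → P i := stepQ 8462 Q8462 (allL N8462 (tt N8462 F86972) (tt N6918 F86973) (tt N8462 F86974) (tt N10300 D29335) (tt N8462 F86975) (tt N10299 (iv F124469)) (tt N10142 (iv F123809)) (tt N8462 F86976) (tt N6916 (iv D20161)) (tt N10301 D29336))
theorem Q8464 : ∀ i, i < 8464 → P i := stepQ 8463 Q8463 (allL N8463 (tt N6924 F86982) (tt N10164 (iv F199285)) (tt N6919 F86983) (tt N8463 F86984) (tt N7948 F203797) (tt N10143 (iv F123817)) (tt N6917 (iv D20163)) (tt N10158 (iv F199284)) (tt N10302 D29341) (tt N8463 F86985))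
theorem Q8465 : ∀ i, i < 8465 → P i := stepQ 8464 Q8464 (allL N8464 (tt N6925 F86986) (tt N10299 (iv F124467)) (tt N6920 F86987) (tt N10303 D29342) (tt N7944 F203803) (tt N6918 F86988) (tt N10302 (iv F124503)) (tt N8464 F86989) (tt N6917 (iv D20164)) (tt N10304 D29343))
theorem Q8466 : ∀ i, i < 8466 → P i := stepQ 8465 Q8465 (allL N8465 (tt N6926 F86990) (tt N10300 (iv F124472)) (tt N6945 F86991) (tt N6918 (iv D20165)) (tt N9963 F202954) (tt N10303 (iv F124506)) (tt N10145 (iv F123824)) (tt N8465 F86992) (tt N8465 F86993) (tt N10305 D29345))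
theorem Q8467 : ∀ i, i < 8467 → P i := stepQ 8466 Q8466 (allL N8466 (tt N6927 F86994) (tt N10301 (iv F124476)) (tt N6921 F86995) (tt N10305 (iv F124521)) (tt N8466 F86996) (tt N10304 (iv F124511)) (tt N10146 (iv F123829)) (tt N8466 F86997) (tt N8466 F86998) (tt N6918 (iv D20166)))
theorem Q8468 : ∀ i, i < 8468 → P i := stepQ 8467 Q8467 (allL N8467 (tt N6930 F87009) (tt N8467 F87010) (tt N10158 (iv F199283)) (tt N6922 F87011) (tt N7947 F203789) (tt N10149 (iv F123843)) (tt N8467 F87012) (tt N6919 (iv D20169)) (tt N10306 D29351) (tt N8467 F87013))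
theorem Q8469 : ∀ i, i < 8469 → P i := stepQ 8468 Q8468 (allL N8468 (tt N6931 F87014) (tt N8468 F87015) (tt N10302 (iv F124502)) (tt N6950 F87016) (tt N7942 F203800) (tt N10150 (iv F123848)) (tt N6920 F87017) (tt N10306 (iv F124554)) (tt N6919 (iv D20170)) (tt N10307 D29352))
theorem Q8470 : ∀ i, i < 8470 → P i := stepQ 8469 Q8469 (allL N8469 (tt N6932 F87018) (tt N8469 F87019) (tt N10304 (iv F124510)) (tt N6951 F87020) (tt N7945 F203804) (tt N6921 F87021) (tt N10307 (iv F124558)) (tt N8469 F87022) (tt N8469 F87023) (tt N6920 (iv D20171)))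
theorem Q8471 : ∀ i, i < 8471 → P i := stepQ 8470 Q8470 (allL N8470 (tt N7948 (iv F203351)) (tt N8470 F87030) (tt N6928 F87031) (tt N7937 F203032) (tt N6924 F87032) (tt N7947 F203464) (tt N6923 (iv D20173)) (tt N7946 F203465) (tt N10308 D29357) (tt N8470 F87033))
theorem Q8472 : ∀ i, i < 8472 → P i := stepQ 8471 Q8471 (allL N8471 (tt N7944 (iv F203391)) (tt N8471 F87034) (tt N6929 F87035) (tt N10309 D29358) (tt N6925 F87036) (tt N8471 F87037) (tt N10308 (iv F124582)) (tt N8471 F87038) (tt N6923 (iv D20174)) (tt N10310 D29359))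
theorem Q8473 : ∀ i, i < 8473 → P i := stepQ 8472 Q8472 (allL N8472 (tt N10158 F199396) (tt N8472 F87039) (tt N6930 F87040) (tt N8472 F87041) (tt N7946 F203801) (tt N10147 (iv F199487)) (tt N8472 F87042) (tt N6924 (iv D20175)) (tt N10311 D29360) (tt N8472 F87043))
theorem Q8474 : ∀ i, i < 8474 → P i := stepQ 8473 Q8473 (allL N8473 (tt N10302 (iv F124501)) (tt N8473 F87044) (tt N6931 F87045) (tt N10312 D29361) (tt N10308 (iv F124581)) (tt N10153 (iv F123875)) (tt N6925 F87046) (tt N10311 (iv F124595)) (tt N6924 (iv D20176)) (tt N10313 D29362))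
theorem Q8475 : ∀ i, i < 8475 → P i := stepQ 8474 Q8474 (allL N8474 (tt N10303 (iv F124504)) (tt N8474 F87047) (tt N6957 F87048) (tt N6925 (iv D20177)) (tt N10314 D29363) (tt N6926 F87049) (tt N10312 (iv F124598)) (tt N8474 F87050) (tt N8474 F87051) (tt N10315 D29364))
theorem Q8476 : ∀ i, i < 8476 → P i := stepQ 8475 Q8475 (allL N8475 (tt N10304 (iv F124509)) (tt N8475 F87052) (tt N6932 F87053) (tt N10315 (iv F124610)) (tt N10310 (iv F124588)) (tt N6927 F87054) (tt N10313 (iv F124602)) (tt N8475 F87055) (tt N8475 F87056) (tt N6925 (iv D20178)))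
theorem Q8477 : ∀ i, i < 8477 → P i := stepQ 8476 Q8476 (allL N8476 (tt N9963 F202938) (tt N8476 F87057) (tt N6959 F87058) (tt N8476 F87059) (tt N6926 (iv D20179)) (tt N10316 D29365) (tt N10156 (iv F123888)) (tt N8476 F87060) (tt N8476 F87061) (tt N10317 D29366))
theorem Q8478 : ∀ i, i < 8478 → P i := stepQ 8477 Q8477 (allL N8477 (tt N10305 (iv F124519)) (tt N8477 F87062) (tt N6960 F87063) (tt N6927 F87064) (tt N10317 (iv F124621)) (tt N10315 (iv F124611)) (tt N10157 (iv F123893)) (tt N8477 F87065) (tt N10318 D29367) (tt N6926 (iv D20180)))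
theorem Q8479 : ∀ i, i < 8479 → P i := stepQ 8478 Q8478 (allL N8478 (tt N7946 F203635) (tt N6933 F87066) (tt N7947 F203633) (tt N7031 F87067) (tt N10158 (iv F123896)) (tt N6928 (iv D20181)) (tt N8478 F87068) (tt N7948 F203634) (tt N10319 D29369) (tt N8478 F87069))
theorem Q8480 : ∀ i, i < 8480 → P i := stepQ 8479 Q8479 (allL N8479 (tt N7947 F203579) (tt N6934 F87070) (tt N7946 F203547) (tt N7032 F87071) (tt N6930 F87072) (tt N7948 F203548) (tt N8479 F87073) (tt N6928 (iv D20182)) (tt N10320 D29370) (tt N8479 F87074))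
theorem Q8481 : ∀ i, i < 8481 → P i := stepQ 8480 Q8480 (allL N8480 (tt N7942 F203617) (tt N6935 F87075) (tt N10308 (iv F124580)) (tt N7935 F203618) (tt N6931 F87076) (tt N10319 (iv F124633)) (tt N6929 F87077) (tt N10320 (iv F124638)) (tt N6928 (iv D20183)) (tt N10321 D29372))
theorem Q8482 : ∀ i, i < 8482 → P i := stepQ 8481 Q8481 (allL N8481 (tt N7945 F203825) (tt N6937 F87083) (tt N10310 (iv F124587)) (tt N7936 F203826) (tt N6932 F87084) (tt N8481 F87085) (tt N10321 (iv F124645)) (tt N8481 F87086) (tt N8481 F87087) (tt N6929 (iv D20185)))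
theorem Q8483 : ∀ i, i < 8483 → P i := stepQ 8482 Q8482 (allL N8482 (tt N10306 (iv F124550)) (tt N6938 F87088) (tt N10311 (iv F124593)) (tt N6966 F87089) (tt N10320 (iv F124636)) (tt N10162 (iv F123916)) (tt N8482 F87090) (tt N6931 F87091) (tt N6930 (iv D20186)) (tt N10322 D29375))
theorem Q8484 : ∀ i, i < 8484 → P i := stepQ 8483 Q8483 (allL N8483 (tt N10307 (iv F124555)) (tt N6939 F87092) (tt N10313 (iv F124601)) (tt N6967 F87093) (tt N10321 (iv F124644)) (tt N10163 (iv F123920)) (tt N6932 F87094) (tt N10322 (iv F124659)) (tt N8483 F87095) (tt N6931 (iv D20187)))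
theorem Q8485 : ∀ i, i < 8485 → P i := stepQ 8484 Q8484 (allL N8484 (tt N8484 F87096) (tt N7948 F203792) (tt N8484 F87097) (tt N7033 F87098) (tt N10164 (iv F123926)) (tt N6934 F87099) (tt N7949 F203793) (tt N6933 (iv D20188)) (tt N10323 D29377) (tt N8484 F87100))
theorem Q8486 : ∀ i, i < 8486 → P i := stepQ 8485 Q8485 (allL N8485 (tt N8485 F87101) (tt N10319 (iv F124632)) (tt N8485 F87102) (tt N10324 D29378) (tt N10165 (iv F123931)) (tt N6935 F87103) (tt N8485 F87104) (tt N10323 (iv F124670)) (tt N6933 (iv D20189)) (tt N10325 D29379))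
theorem Q8487 : ∀ i, i < 8487 → P i := stepQ 8486 Q8486 (allL N8486 (tt N8486 F87105) (tt N10320 (iv F124635)) (tt N8486 F87106) (tt N10326 D29380) (tt N6938 F87107) (tt N10323 (iv F124669)) (tt N8486 F87108) (tt N6935 F87109) (tt N6934 (iv D20190)) (tt N10327 D29381))
theorem Q8488 : ∀ i, i < 8488 → P i := stepQ 8487 Q8487 (allL N8487 (tt N8487 F87110) (tt N7935 F203616) (tt N10328 D29382) (tt N6935 (iv D20191)) (tt N6971 F87111) (tt N10324 (iv F124672)) (tt N6936 F87112) (tt N10326 (iv F124683)) (tt N7036 F87113) (tt N10329 D29383))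
theorem Q8489 : ∀ i, i < 8489 → P i := stepQ 8488 Q8488 (allL N8488 (tt N8488 F87114) (tt N10321 (iv F124643)) (tt N8488 F87115) (tt N10329 (iv F124697)) (tt N6939 F87116) (tt N10325 (iv F124677)) (tt N6937 F87117) (tt N10327 (iv F124689)) (tt N8488 F87118) (tt N6935 (iv D20192)))
theorem Q8490 : ∀ i, i < 8490 → P i := stepQ 8489 Q8489 (allL N8489 (tt N8489 F87119) (tt N10330 D29384) (tt N6936 (iv D20193)) (tt N8489 F87120) (tt N6973 F87121) (tt N8489 F87122) (tt N10328 (iv F124694)) (tt N8489 F87123) (tt N7037 F87124) (tt N10331 D29385))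
theorem Q8491 : ∀ i, i < 8491 → P i := stepQ 8490 Q8490 (allL N8490 (tt N8490 F87125) (tt N7936 F203824) (tt N10331 (iv F124706)) (tt N6937 F87126) (tt N6974 F87127) (tt N8490 F87128) (tt N10329 (iv F124699)) (tt N8490 F87129) (tt N7955 (iv F204019)) (tt N6936 (iv D20194)))
theorem Q8492 : ∀ i, i < 8492 → P i := stepQ 8491 Q8491 (allL N8491 (tt N8491 F87130) (tt N10322 (iv F124656)) (tt N8491 F87131) (tt N6975 F87132) (tt N10327 (iv F124687)) (tt N10171 (iv F123959)) (tt N8491 F87133) (tt N6939 F87134) (tt N8491 F87135) (tt N6938 (iv D20195)))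
theorem Q8493 : ∀ i, i < 8493 → P i := stepQ 8492 Q8492 (allL N8492 (tt N7879 (iv F202394)) (tt N6942 F87136) (tt N8492 F87137) (tt N7591 (iv F202570)) (tt N6940 (iv D20196)) (tt N7470 F87138) (tt N10332 D29388) (tt N8492 F87139) (tt N10333 D29389) (tt N6976 F87140))
theorem Q8494 : ∀ i, i < 8494 → P i := stepQ 8493 Q8493 (allL N8493 (tt N7880 (iv F202395)) (tt N6943 F87141) (tt N8493 F87142) (tt N8493 F87143) (tt N10332 (iv F124724)) (tt N10173 (iv F123969)) (tt N6940 (iv D20197)) (tt N10334 D29390) (tt N10335 D29391) (tt N6977 F87144))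
theorem Q8495 : ∀ i, i < 8495 → P i := stepQ 8494 Q8494 (allL N8494 (tt N7309 (iv F202357)) (tt N6944 F87145) (tt N8494 F87146) (tt N9977 (iv F202559)) (tt N10333 (iv F124728)) (tt N6941 F87147) (tt N10335 (iv F124738)) (tt N8494 F87148) (tt N6940 (iv D20198)) (tt N10336 D29393))
theorem Q8496 : ∀ i, i < 8496 → P i := stepQ 8495 Q8495 (allL N8495 (tt N7310 (iv F202358)) (tt N6946 F87152) (tt N8495 F87153) (tt N9978 (iv F202558)) (tt N7289 F202163) (tt N10336 (iv F124745)) (tt N10175 (iv F123980)) (tt N8495 F87155) (tt N6979 F87156) (tt N6941 (iv D20200)))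
theorem Q8497 : ∀ i, i < 8497 → P i := stepQ 8496 Q8496 (allL N8496 (tt N6953 F87163) (tt N10332 (iv F124722)) (tt N6947 F87164) (tt N7590 (iv F203366)) (tt N6943 F87165) (tt N10337 D29399) (tt N6942 (iv D20202)) (tt N10338 D29400) (tt N10339 D29401) (tt N6981 F87166))
theorem Q8498 : ∀ i, i < 8498 → P i := stepQ 8497 Q8497 (allL N8497 (tt N6954 F87167) (tt N10333 (iv F124726)) (tt N6948 F87168) (tt N10340 D29402) (tt N6944 F87169) (tt N7473 F87170) (tt N10339 (iv F124780)) (tt N8497 F87171) (tt N6942 (iv D20203)) (tt N10341 D29403))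
theorem Q8499 : ∀ i, i < 8499 → P i := stepQ 8498 Q8498 (allL N8498 (tt N6955 F87172) (tt N10334 (iv F124731)) (tt N6949 F87173) (tt N8498 F87174) (tt N10338 (iv F124774)) (tt N10179 (iv F123998)) (tt N8498 F87175) (tt N6943 (iv D20204)) (tt N10342 D29404) (tt N6983 F87176))
theorem Q8500 : ∀ i, i < 8500 → P i := stepQ 8499 Q8499 (allL N8499 (tt N6956 F87177) (tt N10335 (iv F124736)) (tt N6950 F87178) (tt N10343 D29405) (tt N10339 (iv F124779)) (tt N10180 (iv F124002)) (tt N6944 F87179) (tt N10342 (iv F124793)) (tt N6943 (iv D20205)) (tt N10344 D29406))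
theorem Q8501 : ∀ i, i < 8501 → P i := stepQ 8500 Q8500 (allL N8500 (tt N6957 F87180) (tt N9977 F202953) (tt N10303 (iv F124505)) (tt N6944 (iv D20206)) (tt N10345 D29407) (tt N6945 F87181) (tt N10343 (iv F124795)) (tt N8500 F87182) (tt N8500 F87183) (tt N10346 D29408))
theorem Q8502 : ∀ i, i < 8502 → P i := stepQ 8501 Q8501 (allL N8501 (tt N6958 F87184) (tt N10336 (iv F124743)) (tt N6951 F87185) (tt N10346 (iv F124805)) (tt N10341 (iv F124786)) (tt N6946 F87186) (tt N10344 (iv F124799)) (tt N8501 F87187) (tt N6986 F87188) (tt N6944 (iv D20207)))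
theorem Q8503 : ∀ i, i < 8503 → P i := stepQ 8502 Q8502 (allL N8502 (tt N6960 F87193) (tt N9978 F202955) (tt N10305 (iv F124520)) (tt N6946 F87194) (tt N9964 F202956) (tt N10346 (iv F124806)) (tt N10183 (iv F124017)) (tt N8502 F87195) (tt N10347 D29411) (tt N6945 (iv D20209)))
theorem Q8504 : ∀ i, i < 8504 → P i := stepQ 8503 Q8503 (allL N8503 (tt N6961 F87196) (tt N8503 F87197) (tt N10337 (iv F124769)) (tt N7038 F87198) (tt N10184 (iv F124021)) (tt N6947 (iv D20210)) (tt N7477 F87199) (tt N10348 D29412) (tt N10349 D29413) (tt N6988 F87200))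
theorem Q8505 : ∀ i, i < 8505 → P i := stepQ 8504 Q8504 (allL N8504 (tt N6962 F87201) (tt N8504 F87202) (tt N10338 (iv F124773)) (tt N7039 F87203) (tt N6949 F87204) (tt N10348 (iv F124823)) (tt N8504 F87205) (tt N6947 (iv D20211)) (tt N10350 D29414) (tt N6989 F87206))
theorem Q8506 : ∀ i, i < 8506 → P i := stepQ 8505 Q8505 (allL N8505 (tt N6963 F87207) (tt N8505 F87208) (tt N10339 (iv F124778)) (tt N7583 F203799) (tt N6950 F87209) (tt N10349 (iv F124827)) (tt N6948 F87210) (tt N10350 (iv F124833)) (tt N6947 (iv D20212)) (tt N10351 D29416))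
theorem Q8507 : ∀ i, i < 8507 → P i := stepQ 8506 Q8506 (allL N8506 (tt N6965 F87216) (tt N8506 F87217) (tt N10341 (iv F124785)) (tt N7584 F203802) (tt N6951 F87218) (tt N7480 F87219) (tt N10351 (iv F124841)) (tt N8506 F87220) (tt N6992 F87221) (tt N6948 (iv D20214)))
theorem Q8508 : ∀ i, i < 8508 → P i := stepQ 8507 Q8507 (allL N8507 (tt N6966 F87222) (tt N8507 F87223) (tt N10342 (iv F124791)) (tt N10306 (iv F124552)) (tt N10350 (iv F124831)) (tt N10189 (iv F124044)) (tt N8507 F87224) (tt N6950 F87225) (tt N6949 (iv D20215)) (tt N10352 D29419))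
theorem Q8509 : ∀ i, i < 8509 → P i := stepQ 8508 Q8508 (allL N8508 (tt N6967 F87226) (tt N8508 F87227) (tt N10344 (iv F124798)) (tt N10307 (iv F124557)) (tt N10351 (iv F124840)) (tt N10190 (iv F124048)) (tt N6951 F87228) (tt N10352 (iv F124855)) (tt N6994 F87229) (tt N6950 (iv D20216)))
theorem Q8510 : ∀ i, i < 8510 → P i := stepQ 8509 Q8509 (allL N8509 (tt N7590 (iv F203365)) (tt N9924 (iv F122801)) (tt N7040 F87230) (tt N6953 F87231) (tt N8509 F87232) (tt N10353 D29420) (tt N6952 (iv D20217)) (tt N10354 D29421) (tt N10355 D29422) (tt N6995 F87233))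
theorem Q8511 : ∀ i, i < 8511 → P i := stepQ 8510 Q8510 (allL N8510 (tt N7500 (iv F203367)) (tt N9925 (iv F122806)) (tt N7041 F87234) (tt N10356 D29423) (tt N8510 F87235) (tt N7484 F87236) (tt N10355 (iv F124868)) (tt N8510 F87237) (tt N6952 (iv D20218)) (tt N10357 D29424))
theorem Q8512 : ∀ i, i < 8512 → P i := stepQ 8511 Q8511 (allL N8511 (tt N10337 (iv F124768)) (tt N9926 (iv F122811)) (tt N6961 F87238) (tt N10353 (iv F124858)) (tt N10193 (iv F124059)) (tt N6953 (iv D20219)) (tt N7485 F87239) (tt N10358 D29425) (tt N10359 D29426) (tt N6997 F87240))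
theorem Q8513 : ∀ i, i < 8513 → P i := stepQ 8512 Q8512 (allL N8512 (tt N10338 (iv F124772)) (tt N9927 (iv F122815)) (tt N6962 F87241) (tt N10354 (iv F124862)) (tt N6955 F87242) (tt N10358 (iv F124878)) (tt N8512 F87243) (tt N6953 (iv D20220)) (tt N10360 D29427) (tt N6998 F87244))
theorem Q8514 : ∀ i, i < 8514 → P i := stepQ 8513 Q8513 (allL N8513 (tt N10339 (iv F124777)) (tt N9928 (iv F122820)) (tt N6963 F87245) (tt N10361 D29428) (tt N6956 F87246) (tt N10359 (iv F124881)) (tt N6954 F87247) (tt N10360 (iv F124886)) (tt N6953 (iv D20221)) (tt N10362 D29429))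
theorem Q8515 : ∀ i, i < 8515 → P i := stepQ 8514 Q8514 (allL N8514 (tt N10340 (iv F124781)) (tt N9929 (iv F122824)) (tt N10363 D29430) (tt N6954 (iv D20222)) (tt N10364 D29431) (tt N7488 F87248) (tt N10361 (iv F124887)) (tt N8514 F87249) (tt N10356 (iv F124871)) (tt N10365 D29432))
theorem Q8516 : ∀ i, i < 8516 → P i := stepQ 8515 Q8515 (allL N8515 (tt N10341 (iv F124784)) (tt N9930 (iv F122827)) (tt N6965 F87250) (tt N10365 (iv F124897)) (tt N6958 F87251) (tt N7489 F87252) (tt N10362 (iv F124890)) (tt N8515 F87253) (tt N7001 F87254) (tt N6954 (iv D20223)))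
theorem Q8517 : ∀ i, i < 8517 → P i := stepQ 8516 Q8516 (allL N8516 (tt N10342 (iv F124790)) (tt N9931 (iv F122833)) (tt N6966 F87255) (tt N10366 D29433) (tt N10360 (iv F124884)) (tt N10198 (iv F124074)) (tt N8516 F87256) (tt N6956 F87257) (tt N6955 (iv D20224)) (tt N10367 D29434))
theorem Q8518 : ∀ i, i < 8518 → P i := stepQ 8517 Q8517 (allL N8517 (tt N10343 (iv F124794)) (tt N9932 (iv F122837)) (tt N10312 (iv F124597)) (tt N6956 (iv D20225)) (tt N10368 D29435) (tt N10199 (iv F124076)) (tt N6957 F87258) (tt N10366 (iv F124901)) (tt N8517 F87259) (tt N10369 D29436))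
theorem Q8519 : ∀ i, i < 8519 → P i := stepQ 8518 Q8518 (allL N8518 (tt N10344 (iv F124797)) (tt N9933 (iv F122841)) (tt N6967 F87260) (tt N10369 (iv F124909)) (tt N10362 (iv F124889)) (tt N10200 (iv F124080)) (tt N6958 F87261) (tt N10367 (iv F124905)) (tt N7004 F87262) (tt N6956 (iv D20226)))
theorem Q8520 : ∀ i, i < 8520 → P i := stepQ 8519 Q8519 (allL N8519 (tt N10345 (iv F124801)) (tt N9934 (iv F122845)) (tt N10314 (iv F124605)) (tt N10364 (iv F124895)) (tt N6957 (iv D20227)) (tt N10370 D29437) (tt N10368 (iv F124907)) (tt N8519 F87263) (tt N8519 F87264) (tt N10371 D29438))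
theorem Q8521 : ∀ i, i < 8521 → P i := stepQ 8520 Q8520 (allL N8520 (tt N10346 (iv F124804)) (tt N9935 (iv F122849)) (tt N10315 (iv F124609)) (tt N6958 F87265) (tt N10371 (iv F124914)) (tt N6960 F87266) (tt N10369 (iv F124910)) (tt N8520 F87267) (tt N10372 D29439) (tt N6957 (iv D20228)))
theorem Q8522 : ∀ i, i < 8522 → P i := stepQ 8521 Q8521 (allL N8521 (tt N9961 F202939) (tt N6985 (iv F203235)) (tt N10316 (iv F124614)) (tt N6978 F202940) (tt N10370 (iv F124911)) (tt N6959 (iv D20229)) (tt N10373 D29440) (tt N8521 F87269) (tt N8521 F87270) (tt N10374 D29441))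
theorem Q8523 : ∀ i, i < 8523 → P i := stepQ 8522 Q8522 (allL N8522 (tt N9964 F202936) (tt N6987 (iv F203236)) (tt N10317 (iv F124619)) (tt N6979 F202937) (tt N6960 F87272) (tt N10374 (iv F124923)) (tt N10204 (iv F124090)) (tt N8522 F87273) (tt N10375 D29442) (tt N6959 (iv D20230)))
theorem Q8524 : ∀ i, i < 8524 → P i := stepQ 8523 Q8523 (allL N8523 (tt N10347 (iv F124816)) (tt N9936 (iv F122864)) (tt N10318 (iv F124624)) (tt N7009 F87274) (tt N10375 (iv F124925)) (tt N10372 (iv F124917)) (tt N10205 (iv F124092)) (tt N8523 F87275) (tt N6960 (iv D20231)) (tt N8523 F87276))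
theorem Q8525 : ∀ i, i < 8525 → P i := stepQ 8524 Q8524 (allL N8524 (tt N10348 (iv F124820)) (tt N6968 F87277) (tt N10358 (iv F124877)) (tt N7044 F87278) (tt N10206 (iv F124096)) (tt N6962 F87279) (tt N10376 D29443) (tt N6961 (iv D20232)) (tt N10377 D29444) (tt N7010 F87280))
theorem Q8526 : ∀ i, i < 8526 → P i := stepQ 8525 Q8525 (allL N8525 (tt N10349 (iv F124825)) (tt N6969 F87281) (tt N10359 (iv F124880)) (tt N10378 D29445) (tt N10207 (iv F124100)) (tt N6963 F87282) (tt N7496 F87283) (tt N10377 (iv F124935)) (tt N6961 (iv D20233)) (tt N10379 D29446))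
theorem Q8527 : ∀ i, i < 8527 → P i := stepQ 8526 Q8526 (allL N8526 (tt N10350 (iv F124829)) (tt N6970 F87284) (tt N10360 (iv F124883)) (tt N10380 D29447) (tt N6966 F87285) (tt N10377 (iv F124934)) (tt N8526 F87286) (tt N6963 F87287) (tt N6962 (iv D20234)) (tt N10381 D29448))
theorem Q8528 : ∀ i, i < 8528 → P i := stepQ 8527 Q8527 (allL N8527 (tt N7583 F203588) (tt N6971 F87288) (tt N10382 D29449) (tt N6963 (iv D20235)) (tt N7935 F203589) (tt N10378 (iv F124937)) (tt N6964 F87289) (tt N10380 (iv F124946)) (tt N7047 F87290) (tt N10383 D29450))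
theorem Q8529 : ∀ i, i < 8529 → P i := stepQ 8528 Q8528 (allL N8528 (tt N10351 (iv F124838)) (tt N6972 F87291) (tt N10362 (iv F124888)) (tt N10383 (iv F124956)) (tt N6967 F87292) (tt N10379 (iv F124941)) (tt N6965 F87293) (tt N10381 (iv F124951)) (tt N7014 F87294) (tt N6963 (iv D20236)))
theorem Q8530 : ∀ i, i < 8530 → P i := stepQ 8529 Q8529 (allL N8529 (tt N7484 F202932) (tt N10384 D29451) (tt N6964 (iv D20237)) (tt N10363 (iv F124892)) (tt N7905 F202933) (tt N7500 F87295) (tt N10382 (iv F124953)) (tt N8529 F87296) (tt N7048 F87297) (tt N10385 D29452))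
theorem Q8531 : ∀ i, i < 8531 → P i := stepQ 8530 Q8530 (allL N8530 (tt N7584 F203817) (tt N6974 F87298) (tt N10385 (iv F124962)) (tt N6965 F87299) (tt N7936 F203818) (tt N7501 F87300) (tt N10383 (iv F124957)) (tt N8530 F87301) (tt N7609 (iv F203990)) (tt N6964 (iv D20238)))
theorem Q8532 : ∀ i, i < 8532 → P i := stepQ 8531 Q8531 (allL N8531 (tt N10352 (iv F124852)) (tt N6975 F87302) (tt N10367 (iv F124903)) (tt N10322 (iv F124657)) (tt N10381 (iv F124949)) (tt N10213 (iv F124119)) (tt N8531 F87303) (tt N6967 F87304) (tt N7017 F87305) (tt N6966 (iv D20239)))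
theorem Q8533 : ∀ i, i < 8533 → P i := stepQ 8532 Q8532 (allL N8532 (tt N8532 F87306) (tt N10376 (iv F124928)) (tt N9945 (iv F122903)) (tt N7049 F87307) (tt N10214 (iv F124124)) (tt N8532 F87308) (tt N6968 (iv D20240)) (tt N7503 F87309) (tt N10386 D29454) (tt N7018 F87310))
theorem Q8534 : ∀ i, i < 8534 → P i := stepQ 8533 Q8533 (allL N8533 (tt N8533 F87311) (tt N10377 (iv F124933)) (tt N9946 (iv F122909)) (tt N10387 D29455) (tt N10215 (iv F124128)) (tt N6970 F87312) (tt N10386 (iv F124972)) (tt N6969 F87313) (tt N6968 (iv D20241)) (tt N10388 D29456))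
theorem Q8535 : ∀ i, i < 8535 → P i := stepQ 8534 Q8534 (allL N8534 (tt N8534 F87314) (tt N10378 (iv F124936)) (tt N10389 D29457) (tt N6969 (iv D20242)) (tt N10390 D29458) (tt N6971 F87315) (tt N7505 F87316) (tt N10387 (iv F124976)) (tt N7051 F87317) (tt N10391 D29459))
theorem Q8536 : ∀ i, i < 8536 → P i := stepQ 8535 Q8535 (allL N8535 (tt N8535 F87318) (tt N10379 (iv F124940)) (tt N9948 (iv F122917)) (tt N10391 (iv F124990)) (tt N10217 (iv F124136)) (tt N6972 F87319) (tt N7506 F87320) (tt N10388 (iv F124980)) (tt N7021 F87321) (tt N6969 (iv D20243)))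
theorem Q8537 : ∀ i, i < 8537 → P i := stepQ 8536 Q8536 (allL N8536 (tt N8536 F87322) (tt N10380 (iv F124944)) (tt N10392 D29460) (tt N6970 (iv D20244)) (tt N10326 (iv F124681)) (tt N10387 (iv F124975)) (tt N8536 F87323) (tt N6971 F87324) (tt N7053 F87325) (tt N10393 D29461))
theorem Q8538 : ∀ i, i < 8538 → P i := stepQ 8537 Q8537 (allL N8537 (tt N8537 F87326) (tt N10381 (iv F124948)) (tt N9950 (iv F122927)) (tt N10393 (iv F124998)) (tt N6975 F87327) (tt N10388 (iv F124979)) (tt N8537 F87328) (tt N6972 F87329) (tt N7023 F87330) (tt N6970 (iv D20245)))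
theorem Q8539 : ∀ i, i < 8539 → P i := stepQ 8538 Q8538 (allL N8538 (tt N8538 F87331) (tt N10394 D29462) (tt N6971 (iv D20246)) (tt N9951 (iv F122933)) (tt N10328 (iv F124693)) (tt N10389 (iv F124983)) (tt N6973 F87332) (tt N10392 (iv F124995)) (tt N7055 F87333) (tt N10395 D29463))
theorem Q8540 : ∀ i, i < 8540 → P i := stepQ 8539 Q8539 (allL N8539 (tt N8539 F87334) (tt N10383 (iv F124955)) (tt N10395 (iv F125004)) (tt N6972 F87335) (tt N10329 (iv F124698)) (tt N10391 (iv F124991)) (tt N6974 F87336) (tt N10393 (iv F125000)) (tt N10396 D29464) (tt N6971 (iv D20247)))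
theorem Q8541 : ∀ i, i < 8541 → P i := stepQ 8540 Q8540 (allL N8540 (tt N10397 D29465) (tt N6973 (iv D20248)) (tt N10384 (iv F124958)) (tt N9953 (iv F122941)) (tt N10330 (iv F124701)) (tt N7511 F87337) (tt N10394 (iv F125001)) (tt N8540 F87338) (tt N7057 F87339) (tt N10398 D29466))
theorem Q8542 : ∀ i, i < 8542 → P i := stepQ 8541 Q8541 (allL N8541 (tt N8541 F87340) (tt N10398 (iv F125014)) (tt N6974 F87341) (tt N9954 (iv F122948)) (tt N10331 (iv F124708)) (tt N7512 F87342) (tt N10395 (iv F125005)) (tt N8541 F87343) (tt N10399 D29467) (tt N6973 (iv D20249)))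
theorem Q8543 : ∀ i, i < 8543 → P i := stepQ 8542 Q8542 (allL N8542 (tt N8542 F87344) (tt N7609 (iv F203989)) (tt N10399 (iv F125018)) (tt N7028 F87345) (tt N7955 (iv F204018)) (tt N7513 F87346) (tt N10396 (iv F125008)) (tt N8542 F87347) (tt N6974 (iv D20250)) (tt N7059 F87348))
theorem Q8544 : ∀ i, i < 8544 → P i := stepQ 8543 Q8543 (allL N8543 (tt N9956 (iv F122958)) (tt N6980 F87349) (tt N7604 (iv F203393)) (tt N6976 (iv D20251)) (tt N8543 F87350) (tt N7514 F87351) (tt N10400 D29469) (tt N8543 F87352) (tt N10401 D29470) (tt N7591 F202946))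
theorem Q8545 : ∀ i, i < 8545 → P i := stepQ 8544 Q8544 (allL N8544 (tt N9957 (iv F122963)) (tt N6981 F87353) (tt N8544 F87354) (tt N10400 (iv F125028)) (tt N6977 F87355) (tt N10402 D29471) (tt N6976 (iv D20252)) (tt N10403 D29472) (tt N10404 D29473) (tt N10332 (iv F124725)))
theorem Q8546 : ∀ i, i < 8546 → P i := stepQ 8545 Q8545 (allL N8545 (tt N9958 (iv F122967)) (tt N6982 F87356) (tt N8545 F87357) (tt N10405 D29474) (tt N6978 F87358) (tt N7493 F202941) (tt N10404 (iv F125044)) (tt N8545 F87360) (tt N6976 (iv D20253)) (tt N10406 D29475))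
theorem Q8547 : ∀ i, i < 8547 → P i := stepQ 8546 Q8546 (allL N8546 (tt N9959 (iv F122973)) (tt N6983 F87361) (tt N8546 F87362) (tt N8546 F87363) (tt N10403 (iv F125039)) (tt N10228 (iv F124175)) (tt N8546 F87364) (tt N6977 (iv D20254)) (tt N10407 D29476) (tt N10334 (iv F124735)))
theorem Q8548 : ∀ i, i < 8548 → P i := stepQ 8547 Q8547 (allL N8547 (tt N9960 (iv F122978)) (tt N6984 F87365) (tt N8547 F87366) (tt N10373 (iv F203389)) (tt N10404 (iv F125043)) (tt N10229 (iv F124178)) (tt N6978 F87367) (tt N10407 (iv F125056)) (tt N6977 (iv D20255)) (tt N10408 D29478))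
theorem Q8549 : ∀ i, i < 8549 → P i := stepQ 8548 Q8548 (allL N8548 (tt N9962 (iv F122987)) (tt N6986 F87372) (tt N8548 F87373) (tt N10374 (iv F203383)) (tt N10406 (iv F125050)) (tt N6979 F87374) (tt N10408 (iv F125062)) (tt N8548 F87375) (tt N10336 (iv F124747)) (tt N6978 (iv D20257)))
theorem Q8550 : ∀ i, i < 8550 → P i := stepQ 8549 Q8549 (allL N8549 (tt N6995 F87387) (tt N10400 (iv F125027)) (tt N7060 F87388) (tt N6981 F87389) (tt N8549 F87390) (tt N10409 D29487) (tt N6980 (iv D20261)) (tt N10410 D29488) (tt N10411 D29489) (tt N7590 F203642))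
theorem Q8551 : ∀ i, i < 8551 → P i := stepQ 8550 Q8550 (allL N8550 (tt N6996 F87391) (tt N10401 (iv F125030)) (tt N7061 F87392) (tt N10412 D29490) (tt N8550 F87393) (tt N7518 F87394) (tt N10411 (iv F125106)) (tt N8550 F87395) (tt N6980 (iv D20262)) (tt N10413 D29491))
theorem Q8552 : ∀ i, i < 8552 → P i := stepQ 8551 Q8551 (allL N8551 (tt N6997 F87396) (tt N10402 (iv F125034)) (tt N6988 F87397) (tt N10409 (iv F125096)) (tt N10233 (iv F124207)) (tt N6981 (iv D20263)) (tt N7519 F87398) (tt N10414 D29492) (tt N10415 D29493) (tt N10337 (iv F124771)))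
theorem Q8553 : ∀ i, i < 8553 → P i := stepQ 8552 Q8552 (allL N8552 (tt N6998 F87399) (tt N10403 (iv F125037)) (tt N6989 F87400) (tt N10410 (iv F125100)) (tt N6983 F87401) (tt N10414 (iv F125118)) (tt N8552 F87402) (tt N6981 (iv D20264)) (tt N10416 D29494) (tt N10338 (iv F124776)))
theorem Q8554 : ∀ i, i < 8554 → P i := stepQ 8553 Q8553 (allL N8553 (tt N6999 F87403) (tt N10404 (iv F125041)) (tt N6990 F87404) (tt N10417 D29495) (tt N6984 F87405) (tt N10415 (iv F125121)) (tt N6982 F87406) (tt N10416 (iv F125127)) (tt N6981 (iv D20265)) (tt N10418 D29496))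
theorem Q8555 : ∀ i, i < 8555 → P i := stepQ 8554 Q8554 (allL N8554 (tt N7000 F87407) (tt N10405 (iv F125045)) (tt N10419 D29497) (tt N6982 (iv D20266)) (tt N10420 D29498) (tt N7522 F87408) (tt N10417 (iv F125129)) (tt N8554 F87409) (tt N10412 (iv F125110)) (tt N10421 D29499))
theorem Q8556 : ∀ i, i < 8556 → P i := stepQ 8555 Q8555 (allL N8555 (tt N7001 F87410) (tt N10406 (iv F125048)) (tt N6992 F87411) (tt N10421 (iv F125142)) (tt N6986 F87412) (tt N7523 F87413) (tt N10418 (iv F125133)) (tt N8555 F87414) (tt N10341 (iv F124789)) (tt N6982 (iv D20267)))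
theorem Q8557 : ∀ i, i < 8557 → P i := stepQ 8556 Q8556 (allL N8556 (tt N7002 F87415) (tt N10407 (iv F125053)) (tt N6993 F87416) (tt N10422 D29500) (tt N10416 (iv F125125)) (tt N10238 (iv F124224)) (tt N8556 F87417) (tt N6984 F87418) (tt N6983 (iv D20268)) (tt N10423 D29501))
theorem Q8558 : ∀ i, i < 8558 → P i := stepQ 8557 Q8557 (allL N8557 (tt N7003 F87419) (tt N10373 F203643) (tt N8557 F87420) (tt N6984 (iv D20269)) (tt N10424 D29502) (tt N10239 (iv F124228)) (tt N6985 F87421) (tt N10422 (iv F125148)) (tt N8557 F87422) (tt N10425 D29503))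
theorem Q8559 : ∀ i, i < 8559 → P i := stepQ 8558 Q8558 (allL N8558 (tt N7004 F87423) (tt N10408 (iv F125060)) (tt N6994 F87424) (tt N10425 (iv F125160)) (tt N10418 (iv F125132)) (tt N10240 (iv F124233)) (tt N6986 F87425) (tt N10423 (iv F125153)) (tt N10344 (iv F124800)) (tt N6984 (iv D20270)))
theorem Q8560 : ∀ i, i < 8560 → P i := stepQ 8559 Q8559 (allL N8559 (tt N7005 F87426) (tt N10370 F203646) (tt N8559 F87427) (tt N10420 (iv F125139)) (tt N6985 (iv D20271)) (tt N9934 F203647) (tt N10424 (iv F125156)) (tt N8559 F87428) (tt N8559 F87429) (tt N10426 D29505))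
theorem Q8561 : ∀ i, i < 8561 → P i := stepQ 8560 Q8560 (allL N8560 (tt N7006 F87430) (tt N10374 F203648) (tt N8560 F87431) (tt N6986 F87432) (tt N10426 (iv F125169)) (tt N6987 F87433) (tt N10425 (iv F125161)) (tt N8560 F87434) (tt N10427 D29506) (tt N6985 (iv D20272)))
theorem Q8562 : ∀ i, i < 8562 → P i := stepQ 8561 Q8561 (allL N8561 (tt N7009 F87445) (tt N10375 F203649) (tt N8561 F87446) (tt N10347 (iv F124817)) (tt N9936 F203650) (tt N10427 (iv F125173)) (tt N10243 (iv F124253)) (tt N8561 F87447) (tt N6987 (iv D20275)) (tt N8561 F87448))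
theorem Q8563 : ∀ i, i < 8563 → P i := stepQ 8562 Q8562 (allL N8562 (tt N7010 F87449) (tt N8562 F87450) (tt N10414 (iv F125117)) (tt N7064 F87451) (tt N10244 (iv F124258)) (tt N6989 F87452) (tt N10428 D29510) (tt N6988 (iv D20276)) (tt N10429 D29511) (tt N10348 (iv F124824)))
theorem Q8564 : ∀ i, i < 8564 → P i := stepQ 8563 Q8563 (allL N8563 (tt N7011 F87453) (tt N8563 F87454) (tt N10415 (iv F125120)) (tt N10430 D29512) (tt N10245 (iv F124262)) (tt N6990 F87455) (tt N7527 F87456) (tt N10429 (iv F125198)) (tt N6988 (iv D20277)) (tt N10431 D29513))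
theorem Q8565 : ∀ i, i < 8565 → P i := stepQ 8564 Q8564 (allL N8564 (tt N7012 F87457) (tt N8564 F87458) (tt N10416 (iv F125124)) (tt N10432 D29514) (tt N6993 F87459) (tt N10429 (iv F125197)) (tt N8564 F87460) (tt N6990 F87461) (tt N6989 (iv D20278)) (tt N10433 D29515))
theorem Q8566 : ∀ i, i < 8566 → P i := stepQ 8565 Q8565 (allL N8565 (tt N7013 F87462) (tt N8565 F87463) (tt N10434 D29516) (tt N6990 (iv D20279)) (tt N8565 F87464) (tt N10430 (iv F125201)) (tt N6991 F87465) (tt N10432 (iv F125212)) (tt N7067 F87466) (tt N10435 D29517))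
theorem Q8567 : ∀ i, i < 8567 → P i := stepQ 8566 Q8566 (allL N8566 (tt N7014 F87467) (tt N8566 F87468) (tt N10418 (iv F125131)) (tt N10435 (iv F125225)) (tt N6994 F87469) (tt N10431 (iv F125206)) (tt N6992 F87470) (tt N10433 (iv F125218)) (tt N10351 (iv F124842)) (tt N6990 (iv D20280)))
theorem Q8568 : ∀ i, i < 8568 → P i := stepQ 8567 Q8567 (allL N8567 (tt N7015 F87471) (tt N10436 D29518) (tt N6991 (iv D20281)) (tt N10419 (iv F125135)) (tt N8567 F87472) (tt N7531 F87473) (tt N10434 (iv F125221)) (tt N8567 F87474) (tt N7068 F87475) (tt N10437 D29519))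
theorem Q8569 : ∀ i, i < 8569 → P i := stepQ 8568 Q8568 (allL N8568 (tt N7016 F87476) (tt N8568 F87477) (tt N10437 (iv F125234)) (tt N6992 F87478) (tt N8568 F87479) (tt N7532 F87480) (tt N10435 (iv F125227)) (tt N8568 F87481) (tt N7624 F204180) (tt N6991 (iv D20282)))
theorem Q8570 : ∀ i, i < 8570 → P i := stepQ 8569 Q8569 (allL N8569 (tt N7017 F87482) (tt N8569 F87483) (tt N10423 (iv F125151)) (tt N8569 F87484) (tt N10433 (iv F125216)) (tt N10251 (iv F124290)) (tt N8569 F87485) (tt N6994 F87486) (tt N10352 (iv F124856)) (tt N6993 (iv D20283)))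
theorem Q8571 : ∀ i, i < 8571 → P i := stepQ 8570 Q8570 (allL N8570 (tt N10409 (iv F125094)) (tt N9988 (iv F123095)) (tt N7069 F87487) (tt N6997 F87488) (tt N10438 D29521) (tt N6995 (iv D20284)) (tt N7534 F87489) (tt N10439 D29522) (tt N10440 D29523) (tt N10353 (iv F124860)))
theorem Q8572 : ∀ i, i < 8572 → P i := stepQ 8571 Q8571 (allL N8571 (tt N10410 (iv F125098)) (tt N9989 (iv F123099)) (tt N7070 F87490) (tt N6998 F87491) (tt N8571 F87492) (tt N10439 (iv F125249)) (tt N8571 F87493) (tt N6995 (iv D20285)) (tt N10441 D29524) (tt N10354 (iv F124865)))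
theorem Q8573 : ∀ i, i < 8573 → P i := stepQ 8572 Q8572 (allL N8572 (tt N10411 (iv F125103)) (tt N9990 (iv F123104)) (tt N7071 F87494) (tt N10442 D29525) (tt N8572 F87495) (tt N10440 (iv F125251)) (tt N6996 F87496) (tt N10441 (iv F125256)) (tt N6995 (iv D20286)) (tt N10443 D29526))
theorem Q8574 : ∀ i, i < 8574 → P i := stepQ 8573 Q8573 (allL N8573 (tt N10412 (iv F125107)) (tt N9991 (iv F123108)) (tt N10444 D29527) (tt N6996 (iv D20287)) (tt N10445 D29528) (tt N7537 F87497) (tt N10442 (iv F125257)) (tt N8573 F87498) (tt N7000 F87499) (tt N10446 D29529))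
theorem Q8575 : ∀ i, i < 8575 → P i := stepQ 8574 Q8574 (allL N8574 (tt N10413 (iv F125111)) (tt N9992 (iv F123112)) (tt N7073 F87500) (tt N10446 (iv F125269)) (tt N8574 F87501) (tt N7538 F87502) (tt N10443 (iv F125261)) (tt N8574 F87503) (tt N10357 (iv F124876)) (tt N6996 (iv D20288)))
theorem Q8576 : ∀ i, i < 8576 → P i := stepQ 8575 Q8575 (allL N8575 (tt N10414 (iv F125116)) (tt N9993 (iv F123117)) (tt N7010 F87504) (tt N10439 (iv F125248)) (tt N10257 (iv F124307)) (tt N6998 F87505) (tt N10447 D29530) (tt N6997 (iv D20289)) (tt N10448 D29531) (tt N10358 (iv F124879)))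
theorem Q8577 : ∀ i, i < 8577 → P i := stepQ 8576 Q8576 (allL N8576 (tt N10415 (iv F125119)) (tt N9994 (iv F123120)) (tt N7011 F87506) (tt N10449 D29532) (tt N10258 (iv F124310)) (tt N6999 F87507) (tt N7540 F87508) (tt N10448 (iv F125277)) (tt N6997 (iv D20290)) (tt N10450 D29533))
theorem Q8578 : ∀ i, i < 8578 → P i := stepQ 8577 Q8577 (allL N8577 (tt N10416 (iv F125123)) (tt N9995 (iv F123124)) (tt N7012 F87509) (tt N10451 D29534) (tt N7002 F87510) (tt N10448 (iv F125276)) (tt N8577 F87511) (tt N6999 F87512) (tt N6998 (iv D20291)) (tt N10452 D29535))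
theorem Q8579 : ∀ i, i < 8579 → P i := stepQ 8578 Q8578 (allL N8578 (tt N10417 (iv F125128)) (tt N9996 (iv F123129)) (tt N10453 D29536) (tt N6999 (iv D20292)) (tt N10454 D29537) (tt N10449 (iv F125278)) (tt N7000 F87513) (tt N10451 (iv F125284)) (tt N10442 (iv F125258)) (tt N10455 D29538))
theorem Q8580 : ∀ i, i < 8580 → P i := stepQ 8579 Q8579 (allL N8579 (tt N10418 (iv F125130)) (tt N9997 (iv F123131)) (tt N7014 F87514) (tt N10455 (iv F125293)) (tt N7004 F87515) (tt N10450 (iv F125281)) (tt N7001 F87516) (tt N10452 (iv F125288)) (tt N10362 (iv F124891)) (tt N6999 (iv D20293)))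
theorem Q8581 : ∀ i, i < 8581 → P i := stepQ 8580 Q8580 (allL N8580 (tt N10419 (iv F125134)) (tt N10456 D29539) (tt N7000 (iv D20294)) (tt N7015 F87517) (tt N10457 D29540) (tt N7544 F87518) (tt N10453 (iv F125290)) (tt N8580 F87519) (tt N10444 (iv F125265)) (tt N10458 D29541))
theorem Q8582 : ∀ i, i < 8582 → P i := stepQ 8581 Q8581 (allL N8581 (tt N10420 (iv F125138)) (tt N9999 (iv F123138)) (tt N10457 (iv F125298)) (tt N7005 F87520) (tt N7000 (iv D20295)) (tt N10459 D29542) (tt N10454 (iv F125292)) (tt N8581 F87521) (tt N10445 (iv F125268)) (tt N10460 D29543))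
theorem Q8583 : ∀ i, i < 8583 → P i := stepQ 8582 Q8582 (allL N8582 (tt N10421 (iv F125141)) (tt N10000 (iv F123141)) (tt N10458 (iv F125301)) (tt N7001 F87522) (tt N10460 (iv F125309)) (tt N7546 F87523) (tt N10455 (iv F125294)) (tt N8582 F87524) (tt N10461 D29544) (tt N7000 (iv D20296)))
theorem Q8584 : ∀ i, i < 8584 → P i := stepQ 8583 Q8583 (allL N8583 (tt N10422 (iv F125145)) (tt N10001 (iv F123145)) (tt N8583 F87525) (tt N7002 (iv D20297)) (tt N10462 D29545) (tt N10265 (iv F124326)) (tt N8583 F87526) (tt N7003 F87527) (tt N8583 F87528) (tt N10463 D29546))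
theorem Q8585 : ∀ i, i < 8585 → P i := stepQ 8584 Q8584 (allL N8584 (tt N10423 (iv F125150)) (tt N10002 (iv F123149)) (tt N7017 F87529) (tt N10463 (iv F125318)) (tt N10452 (iv F125286)) (tt N10266 (iv F124330)) (tt N8584 F87530) (tt N7004 F87531) (tt N10367 (iv F124906)) (tt N7002 (iv D20298)))
theorem Q8586 : ∀ i, i < 8586 → P i := stepQ 8585 Q8585 (allL N8585 (tt N10424 (iv F125154)) (tt N10003 (iv F123153)) (tt N8585 F87532) (tt N10454 (iv F125291)) (tt N7003 (iv D20299)) (tt N10464 D29547) (tt N7005 F87533) (tt N10462 (iv F125315)) (tt N8585 F87534) (tt N10465 D29548))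
theorem Q8587 : ∀ i, i < 8587 → P i := stepQ 8586 Q8586 (allL N8586 (tt N10425 (iv F125158)) (tt N10004 (iv F123156)) (tt N8586 F87535) (tt N7004 F87536) (tt N10465 (iv F125324)) (tt N10268 (iv F124337)) (tt N7006 F87537) (tt N10463 (iv F125320)) (tt N10466 D29549) (tt N7003 (iv D20300)))
theorem Q8588 : ∀ i, i < 8588 → P i := stepQ 8587 Q8587 (allL N8587 (tt N9934 F203659) (tt N10005 (iv F123159)) (tt N8587 F87538) (tt N10459 (iv F125305)) (tt N7007 F87539) (tt N7005 (iv D20301)) (tt N10467 D29550) (tt N8587 F87540) (tt N8587 F87541) (tt N10468 D29551))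
theorem Q8589 : ∀ i, i < 8589 → P i := stepQ 8588 Q8588 (allL N8588 (tt N10426 (iv F125167)) (tt N10006 (iv F123163)) (tt N8588 F87542) (tt N10460 (iv F125308)) (tt N7006 F87543) (tt N10468 (iv F125334)) (tt N10465 (iv F125325)) (tt N8588 F87544) (tt N10469 D29552) (tt N7005 (iv D20302)))
theorem Q8590 : ∀ i, i < 8590 → P i := stepQ 8589 Q8589 (allL N8589 (tt N10427 (iv F125171)) (tt N10007 (iv F123166)) (tt N8589 F87545) (tt N10372 (iv F124916)) (tt N10469 (iv F125337)) (tt N7009 F87546) (tt N10466 (iv F125327)) (tt N8589 F87547) (tt N7006 (iv D20303)) (tt N8589 F87548))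
theorem Q8591 : ∀ i, i < 8591 → P i := stepQ 8590 Q8590 (allL N8590 (tt N9932 F203660) (tt N10008 (iv F123170)) (tt N8590 F87549) (tt N7553 F87550) (tt N10467 (iv F125330)) (tt N10272 (iv F124349)) (tt N7007 (iv D20304)) (tt N10470 D29553) (tt N8590 F87551) (tt N10471 D29554))
theorem Q8592 : ∀ i, i < 8592 → P i := stepQ 8591 Q8591 (allL N8591 (tt N9935 F203661) (tt N10009 (iv F123173)) (tt N8591 F87552) (tt N7554 F87553) (tt N10468 (iv F125333)) (tt N7008 F87554) (tt N10471 (iv F125346)) (tt N8591 F87555) (tt N10472 D29555) (tt N7007 (iv D20305)))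
theorem Q8593 : ∀ i, i < 8593 → P i := stepQ 8592 Q8592 (allL N8592 (tt N9936 F203662) (tt N10010 (iv F123177)) (tt N8592 F87556) (tt N9979 F203663) (tt N7009 F87557) (tt N10472 (iv F125348)) (tt N10274 (iv F124356)) (tt N8592 F87558) (tt N7008 (iv D20306)) (tt N8592 F87559))
theorem Q8594 : ∀ i, i < 8594 → P i := stepQ 8593 Q8593 (allL N8593 (tt N10428 (iv F125190)) (tt N7018 F87560) (tt N10447 (iv F125272)) (tt N7079 F87561) (tt N10275 (iv F124360)) (tt N8593 F87562) (tt N7010 (iv D20307)) (tt N7555 F87563) (tt N10473 D29557) (tt N10376 (iv F124932)))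
theorem Q8595 : ∀ i, i < 8595 → P i := stepQ 8594 Q8594 (allL N8594 (tt N10429 (iv F125195)) (tt N7019 F87564) (tt N10448 (iv F125275)) (tt N10474 D29558) (tt N10276 (iv F124363)) (tt N7012 F87565) (tt N10473 (iv F125356)) (tt N7011 F87566) (tt N7010 (iv D20308)) (tt N10475 D29559))
theorem Q8596 : ∀ i, i < 8596 → P i := stepQ 8595 Q8595 (allL N8595 (tt N10430 (iv F125199)) (tt N7020 F87567) (tt N10476 D29560) (tt N7011 (iv D20309)) (tt N10477 D29561) (tt N7013 F87568) (tt N7557 F87569) (tt N10474 (iv F125360)) (tt N7081 F87570) (tt N10478 D29562))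
theorem Q8597 : ∀ i, i < 8597 → P i := stepQ 8596 Q8596 (allL N8596 (tt N10431 (iv F125204)) (tt N7021 F87571) (tt N10450 (iv F125280)) (tt N10478 (iv F125373)) (tt N10278 (iv F124371)) (tt N7014 F87572) (tt N7558 F87573) (tt N10475 (iv F125364)) (tt N10379 (iv F124943)) (tt N7011 (iv D20310)))
theorem Q8598 : ∀ i, i < 8598 → P i := stepQ 8597 Q8597 (allL N8597 (tt N10432 (iv F125208)) (tt N7022 F87574) (tt N10479 D29563) (tt N7012 (iv D20311)) (tt N8597 F87575) (tt N10474 (iv F125359)) (tt N8597 F87576) (tt N7013 F87577) (tt N7083 F87578) (tt N10480 D29564))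
theorem Q8599 : ∀ i, i < 8599 → P i := stepQ 8598 Q8598 (allL N8598 (tt N10433 (iv F125214)) (tt N7023 F87579) (tt N10452 (iv F125285)) (tt N10480 (iv F125381)) (tt N7017 F87580) (tt N10475 (iv F125363)) (tt N8598 F87581) (tt N7014 F87582) (tt N10381 (iv F124952)) (tt N7012 (iv D20312)))
theorem Q8600 : ∀ i, i < 8600 → P i := stepQ 8599 Q8599 (allL N8599 (tt N10434 (iv F125219)) (tt N10481 D29565) (tt N7013 (iv D20313)) (tt N10453 (iv F125289)) (tt N8599 F87583) (tt N10476 (iv F125365)) (tt N7015 F87584) (tt N10479 (iv F125378)) (tt N7085 F87585) (tt N10482 D29566))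
theorem Q8601 : ∀ i, i < 8601 → P i := stepQ 8600 Q8600 (allL N8600 (tt N10435 (iv F125223)) (tt N7025 F87586) (tt N10482 (iv F125389)) (tt N7014 F87587) (tt N8600 F87588) (tt N10478 (iv F125374)) (tt N7016 F87589) (tt N10480 (iv F125384)) (tt N10483 D29567) (tt N7013 (iv D20314)))
theorem Q8602 : ∀ i, i < 8602 → P i := stepQ 8601 Q8601 (allL N8601 (tt N10484 D29568) (tt N7015 (iv D20315)) (tt N7026 F87590) (tt N10456 (iv F125295)) (tt N8601 F87591) (tt N7563 F87592) (tt N10481 (iv F125387)) (tt N8601 F87593) (tt N7087 F87594) (tt N10485 D29569))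
theorem Q8603 : ∀ i, i < 8603 → P i := stepQ 8602 Q8602 (allL N8602 (tt N10437 (iv F125233)) (tt N10485 (iv F125401)) (tt N7016 F87595) (tt N10458 (iv F125302)) (tt N8602 F87596) (tt N7564 F87597) (tt N10482 (iv F125391)) (tt N8602 F87598) (tt N10486 D29570) (tt N7015 (iv D20316)))
theorem Q8604 : ∀ i, i < 8604 → P i := stepQ 8603 Q8603 (allL N8603 (tt N7624 F204187) (tt N7028 F87599) (tt N10486 (iv F125406)) (tt N7609 F204188) (tt N8603 F87600) (tt N7565 F87601) (tt N10483 (iv F125394)) (tt N8603 F87602) (tt N7016 (iv D20317)) (tt N7089 F87603))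
theorem Q8605 : ∀ i, i < 8605 → P i := stepQ 8604 Q8604 (allL N8604 (tt N8604 F87604) (tt N10473 (iv F125354)) (tt N10022 (iv F123220)) (tt N10487 D29571) (tt N10286 (iv F124400)) (tt N8604 F87605) (tt N7019 F87606) (tt N7566 F87607) (tt N7018 (iv D20318)) (tt N10488 D29572))
theorem Q8606 : ∀ i, i < 8606 → P i := stepQ 8605 Q8605 (allL N8605 (tt N8605 F87608) (tt N10474 (iv F125358)) (tt N10489 D29573) (tt N7019 (iv D20319)) (tt N10490 D29574) (tt N7022 F87609) (tt N10487 (iv F125413)) (tt N7020 F87610) (tt N7091 F87611) (tt N10491 D29575))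
theorem Q8607 : ∀ i, i < 8607 → P i := stepQ 8606 Q8606 (allL N8606 (tt N8606 F87612) (tt N10475 (iv F125362)) (tt N10024 (iv F123229)) (tt N10491 (iv F125429)) (tt N10288 (iv F124408)) (tt N7023 F87613) (tt N10488 (iv F125418)) (tt N7021 F87614) (tt N10388 (iv F124981)) (tt N7019 (iv D20320)))
theorem Q8608 : ∀ i, i < 8608 → P i := stepQ 8607 Q8607 (allL N8607 (tt N8607 F87615) (tt N10492 D29576) (tt N7020 (iv D20321)) (tt N10025 (iv F123233)) (tt N10493 D29577) (tt N7024 F87616) (tt N7569 F87617) (tt N10489 (iv F125422)) (tt N7093 F87618) (tt N10494 D29578))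
theorem Q8609 : ∀ i, i < 8609 → P i := stepQ 8608 Q8608 (allL N8608 (tt N8608 F87619) (tt N10477 (iv F125368)) (tt N10493 (iv F125436)) (tt N10290 (iv F124416)) (tt N7020 (iv D20322)) (tt N8608 F87620) (tt N7570 F87621) (tt N10490 (iv F125426)) (tt N7094 F87622) (tt N10495 D29579))
theorem Q8610 : ∀ i, i < 8610 → P i := stepQ 8609 Q8609 (allL N8609 (tt N8609 F87623) (tt N10478 (iv F125372)) (tt N10494 (iv F125441)) (tt N7021 F87624) (tt N10495 (iv F125445)) (tt N7025 F87625) (tt N7571 F87626) (tt N10491 (iv F125431)) (tt N10496 D29580) (tt N7020 (iv D20323)))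
theorem Q8611 : ∀ i, i < 8611 → P i := stepQ 8610 Q8610 (allL N8610 (tt N8610 F87627) (tt N10497 D29581) (tt N7022 (iv D20324)) (tt N10028 (iv F123245)) (tt N8610 F87628) (tt N10489 (iv F125421)) (tt N8610 F87629) (tt N7024 F87630) (tt N7096 F87631) (tt N10498 D29582))
theorem Q8612 : ∀ i, i < 8612 → P i := stepQ 8611 Q8611 (allL N8611 (tt N8611 F87632) (tt N10480 (iv F125380)) (tt N10498 (iv F125457)) (tt N7023 F87633) (tt N8611 F87634) (tt N10491 (iv F125430)) (tt N8611 F87635) (tt N7025 F87636) (tt N10499 D29583) (tt N7022 (iv D20325)))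
theorem Q8613 : ∀ i, i < 8613 → P i := stepQ 8612 Q8612 (allL N8612 (tt N10500 D29584) (tt N7024 (iv D20326)) (tt N10481 (iv F125385)) (tt N10030 (iv F123253)) (tt N8612 F87637) (tt N10492 (iv F125432)) (tt N7026 F87638) (tt N10497 (iv F125454)) (tt N7098 F87639) (tt N10501 D29585))
theorem Q8614 : ∀ i, i < 8614 → P i := stepQ 8613 Q8613 (allL N8613 (tt N8613 F87640) (tt N10501 (iv F125470)) (tt N7025 F87641) (tt N10031 (iv F123258)) (tt N8613 F87642) (tt N10494 (iv F125442)) (tt N7027 F87643) (tt N10498 (iv F125460)) (tt N10502 D29586) (tt N7024 (iv D20327)))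
theorem Q8615 : ∀ i, i < 8615 → P i := stepQ 8614 Q8614 (allL N8614 (tt N8614 F87644) (tt N10483 (iv F125392)) (tt N10502 (iv F125474)) (tt N10396 (iv F125007)) (tt N8614 F87645) (tt N10496 (iv F125449)) (tt N7028 F87646) (tt N10499 (iv F125464)) (tt N7025 (iv D20328)) (tt N7100 F87647))
theorem Q8616 : ∀ i, i < 8616 → P i := stepQ 8615 Q8615 (allL N8615 (tt N7026 (iv D20329)) (tt N8615 F87648) (tt N10484 (iv F125396)) (tt N10033 (iv F123264)) (tt N8615 F87649) (tt N7577 F87650) (tt N10500 (iv F125468)) (tt N8615 F87651) (tt N7101 F87652) (tt N10503 D29587))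
theorem Q8617 : ∀ i, i < 8617 → P i := stepQ 8616 Q8616 (allL N8616 (tt N10503 (iv F125478)) (tt N7027 F87653) (tt N10485 (iv F125402)) (tt N10034 (iv F123269)) (tt N8616 F87654) (tt N7578 F87655) (tt N10501 (iv F125472)) (tt N8616 F87656) (tt N10504 D29588) (tt N7026 (iv D20330)))
theorem Q8618 : ∀ i, i < 8618 → P i := stepQ 8617 Q8617 (allL N8617 (tt N8617 F87657) (tt N10504 (iv F125483)) (tt N7028 F87658) (tt N10505 D29589) (tt N8617 F87659) (tt N7579 F87660) (tt N10502 (iv F125476)) (tt N8617 F87661) (tt N7027 (iv D20331)) (tt N7103 F87662))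
theorem Q8619 : ∀ i, i < 8619 → P i := stepQ 8618 Q8618 (allL N8618 (tt N8618 F88054) (tt N7933 F203612) (tt N7953 F203613) (tt N7034 (iv D20414)) (tt N10506 D29716) (tt N7036 F88055) (tt N8618 F88056) (tt N7950 F203614) (tt N10324 (iv F124674)) (tt N7952 F203615))
theorem Q8620 : ∀ i, i < 8620 → P i := stepQ 8619 Q8619 (allL N8619 (tt N8619 F88062) (tt N7934 F203572) (tt N7952 F203573) (tt N7035 (iv D20416)) (tt N7053 F88063) (tt N7950 F203574) (tt N8619 F88064) (tt N7036 F88065) (tt N10326 (iv F124684)) (tt N7953 F203575))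
theorem Q8621 : ∀ i, i < 8621 → P i := stepQ 8620 Q8620 (allL N8620 (tt N8620 F88071) (tt N7958 F203029) (tt N7036 (iv D20418)) (tt N7956 F203030) (tt N7055 F88072) (tt N7953 (iv F203342)) (tt N7037 F88073) (tt N7952 (iv F203350)) (tt N10328 (iv F124695)) (tt N7950 (iv F203208)))
theorem Q8622 : ∀ i, i < 8622 → P i := stepQ 8621 Q8621 (allL N8621 (tt N7875 F202170) (tt N7037 (iv D20420)) (tt N7866 F202171) (tt N7868 F202172) (tt N7057 F88078) (tt N8621 F88079) (tt N7958 (iv F202548)) (tt N8621 F88080) (tt N10330 (iv F124704)) (tt N7914 (iv F193326)))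
theorem Q8623 : ∀ i, i < 8623 → P i := stepQ 8622 Q8622 (allL N8622 (tt N7044 F88213) (tt N8622 F88214) (tt N7587 F204153) (tt N10348 (iv F124822)) (tt N8622 F88215) (tt N7039 F88216) (tt N10507 D29768) (tt N7038 (iv D20448)) (tt N7585 F204154) (tt N7064 F88217))
theorem Q8624 : ∀ i, i < 8624 → P i := stepQ 8623 Q8623 (allL N8623 (tt N7588 (iv F203951)) (tt N8623 F88250) (tt N10353 (iv F124857)) (tt N7042 F88251) (tt N10508 D29779) (tt N7040 (iv D20456)) (tt N7581 F88252) (tt N10509 D29780) (tt N10510 D29781) (tt N7069 F88253))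
theorem Q8625 : ∀ i, i < 8625 → P i := stepQ 8624 Q8624 (allL N8624 (tt N7589 (iv F204041)) (tt N8624 F88254) (tt N10354 (iv F124861)) (tt N7043 F88255) (tt N8624 F88256) (tt N10509 (iv F126376)) (tt N8624 F88257) (tt N7040 (iv D20457)) (tt N10511 D29782) (tt N7070 F88258))
theorem Q8626 : ∀ i, i < 8626 → P i := stepQ 8625 Q8625 (allL N8625 (tt N7498 F203585) (tt N8625 F88259) (tt N10355 (iv F124866)) (tt N7479 F203586) (tt N8625 F88260) (tt N10510 (iv F126379)) (tt N7041 F88261) (tt N10511 (iv F126384)) (tt N7040 (iv D20458)) (tt N10512 D29784))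
theorem Q8627 : ∀ i, i < 8627 → P i := stepQ 8626 Q8626 (allL N8626 (tt N7501 F203805) (tt N8626 F88266) (tt N10357 (iv F124872)) (tt N7480 F203806) (tt N8626 F88267) (tt N7584 F88268) (tt N10512 (iv F126390)) (tt N8626 F88269) (tt N7073 F88270) (tt N7041 (iv D20460)))
theorem Q8628 : ∀ i, i < 8628 → P i := stepQ 8627 Q8627 (allL N8627 (tt N7587 F204127) (tt N8627 F88271) (tt N7044 F88272) (tt N10509 (iv F126375)) (tt N8627 F88273) (tt N7043 F88274) (tt N10513 D29788) (tt N7042 (iv D20461)) (tt N7580 F204128) (tt N7074 F88275))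
theorem Q8629 : ∀ i, i < 8629 → P i := stepQ 8628 Q8628 (allL N8628 (tt N10507 (iv F126320)) (tt N7049 F88347) (tt N10513 (iv F126404)) (tt N10376 (iv F124929)) (tt N8628 F88348) (tt N8628 F88349) (tt N7044 (iv D20479)) (tt N7586 F88350) (tt N10514 D29814) (tt N7079 F88351))
theorem Q8630 : ∀ i, i < 8630 → P i := stepQ 8629 Q8629 (allL N8629 (tt N7585 F204122) (tt N7050 F88352) (tt N7580 F204123) (tt N10515 D29815) (tt N8629 F88353) (tt N7046 F88354) (tt N10514 (iv F126510)) (tt N7045 F88355) (tt N7044 (iv D20480)) (tt N7610 F204124))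
theorem Q8631 : ∀ i, i < 8631 → P i := stepQ 8630 Q8630 (allL N8630 (tt N7581 F203587) (tt N7051 F88356) (tt N10516 D29817) (tt N7045 (iv D20481)) (tt N10517 D29818) (tt N7047 F88357) (tt N7588 F88358) (tt N10515 (iv F126514)) (tt N10378 (iv F124939)) (tt N7606 (iv F203894)))
theorem Q8632 : ∀ i, i < 8632 → P i := stepQ 8631 Q8631 (allL N8631 (tt N7582 F203576) (tt N7053 F88364) (tt N10518 D29820) (tt N7046 (iv D20483)) (tt N7934 F203577) (tt N10515 (iv F126513)) (tt N8631 F88365) (tt N7047 F88366) (tt N10380 (iv F124947)) (tt N7607 F203578))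
theorem Q8633 : ∀ i, i < 8633 → P i := stepQ 8632 Q8632 (allL N8632 (tt N7483 F202729) (tt N10519 D29822) (tt N7047 (iv D20485)) (tt N7472 F202730) (tt N7904 F202731) (tt N10516 (iv F126520)) (tt N7048 F88372) (tt N10518 (iv F126530)) (tt N10382 (iv F124954)) (tt N7517 (iv F203135)))
theorem Q8634 : ∀ i, i < 8634 → P i := stepQ 8633 Q8633 (allL N8633 (tt N7876 F202173) (tt N7048 (iv D20487)) (tt N7057 F88376) (tt N7470 F202175) (tt N7866 F202174) (tt N7591 F88377) (tt N10519 (iv F126536)) (tt N8633 F88378) (tt N10384 (iv F124961)) (tt N7514 (iv F202449)))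
theorem Q8635 : ∀ i, i < 8635 → P i := stepQ 8634 Q8634 (allL N8634 (tt N8634 F88386) (tt N10514 (iv F126507)) (tt N8634 F88387) (tt N10520 D29828) (tt N8634 F88388) (tt N8634 F88389) (tt N7050 F88390) (tt N7592 F88391) (tt N7049 (iv D20490)) (tt N10521 D29829))
theorem Q8636 : ∀ i, i < 8636 → P i := stepQ 8635 Q8635 (allL N8635 (tt N8635 F88392) (tt N10515 (iv F126512)) (tt N10522 D29830) (tt N7050 (iv D20491)) (tt N10523 D29831) (tt N7053 F88393) (tt N10520 (iv F126554)) (tt N7051 F88394) (tt N10387 (iv F124977)) (tt N10524 D29832))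
theorem Q8637 : ∀ i, i < 8637 → P i := stepQ 8636 Q8636 (allL N8636 (tt N8636 F88395) (tt N7610 F204118) (tt N8636 F88396) (tt N10524 (iv F126571)) (tt N8636 F88397) (tt N7054 F88398) (tt N10521 (iv F126560)) (tt N7052 F88399) (tt N7092 F88400) (tt N7050 (iv D20492)))
theorem Q8638 : ∀ i, i < 8638 → P i := stepQ 8637 Q8637 (allL N8637 (tt N8637 F88401) (tt N10525 D29833) (tt N7051 (iv D20493)) (tt N8637 F88402) (tt N10524 F204173) (tt N7055 F88403) (tt N7595 F88404) (tt N10522 (iv F126566)) (tt N10389 (iv F124985)) (tt N10523 F204174))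
theorem Q8639 : ∀ i, i < 8639 → P i := stepQ 8638 Q8638 (allL N8638 (tt N8638 F88405) (tt N10517 (iv F126522)) (tt N10524 F204135) (tt N8638 F88406) (tt N7051 (iv D20494)) (tt N10506 (iv F126082)) (tt N7596 F88407) (tt N10523 (iv F126569)) (tt N10390 (iv F124988)) (tt N10522 F204136))
theorem Q8640 : ∀ i, i < 8640 → P i := stepQ 8639 Q8639 (allL N8639 (tt N8639 F88408) (tt N7606 F204101) (tt N10523 F204166) (tt N7052 F88409) (tt N10522 F204167) (tt N7056 F88410) (tt N7597 F88411) (tt N10524 (iv F126573)) (tt N10526 D29837) (tt N7051 (iv D20495)))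
theorem Q8641 : ∀ i, i < 8641 → P i := stepQ 8640 Q8640 (allL N8640 (tt N8640 F88412) (tt N7957 F203794) (tt N7053 (iv D20496)) (tt N8640 F88413) (tt N7952 F203795) (tt N10522 (iv F126565)) (tt N8640 F88414) (tt N7055 F88415) (tt N10392 (iv F124996)) (tt N10506 (iv F203923)))
theorem Q8642 : ∀ i, i < 8642 → P i := stepQ 8641 Q8641 (allL N8641 (tt N8641 F88416) (tt N7607 F203570) (tt N10506 (iv F203921)) (tt N7054 F88417) (tt N7953 F203571) (tt N10524 (iv F126572)) (tt N8641 F88418) (tt N7056 F88419) (tt N10527 D29840) (tt N7053 (iv D20497)))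
theorem Q8643 : ∀ i, i < 8643 → P i := stepQ 8642 Q8642 (allL N8642 (tt N7962 (iv F203081)) (tt N7055 (iv D20498)) (tt N10519 (iv F126535)) (tt N8642 F88420) (tt N7958 F203022) (tt N10525 (iv F126575)) (tt N7057 F88421) (tt N7957 (iv F203461)) (tt N10394 (iv F125002)) (tt N10528 D29842))
theorem Q8644 : ∀ i, i < 8644 → P i := stepQ 8643 Q8643 (allL N8643 (tt N8643 F88422) (tt N10528 (iv F126608)) (tt N7056 F88423) (tt N8643 F88424) (tt N7950 F203619) (tt N10523 (iv F204048)) (tt N7058 F88425) (tt N10506 (iv F203922)) (tt N10529 D29843) (tt N7055 (iv D20499)))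
theorem Q8645 : ∀ i, i < 8645 → P i := stepQ 8644 Q8644 (allL N8644 (tt N8644 F88426) (tt N7608 F204102) (tt N10529 (iv F126612)) (tt N7100 F88427) (tt N7954 F204103) (tt N10526 (iv F126591)) (tt N7059 F88428) (tt N10527 (iv F126604)) (tt N7056 (iv D20500)) (tt N10396 (iv F125009)))
theorem Q8646 : ∀ i, i < 8646 → P i := stepQ 8645 Q8645 (allL N8645 (tt N7057 (iv D20501)) (tt N8645 F88429) (tt N7876 F202179) (tt N8645 F88430) (tt N7875 F202180) (tt N7603 F88431) (tt N7962 (iv F203083)) (tt N8645 F88432) (tt N10397 (iv F125013)) (tt N10530 D29844))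
theorem Q8647 : ∀ i, i < 8647 → P i := stepQ 8646 Q8646 (allL N8646 (tt N10530 (iv F126614)) (tt N7058 F88433) (tt N7514 F202945) (tt N8646 F88434) (tt N7914 F193456) (tt N7604 F88435) (tt N10528 (iv F126610)) (tt N8646 F88436) (tt N10531 D29845) (tt N7057 (iv D20502)))
theorem Q8648 : ∀ i, i < 8648 → P i := stepQ 8647 Q8647 (allL N8647 (tt N8647 F88437) (tt N10531 (iv F126619)) (tt N7059 F88438) (tt N10532 D29846) (tt N7951 F203847) (tt N7605 F88439) (tt N10529 (iv F126613)) (tt N8647 F88440) (tt N7058 (iv D20503)) (tt N10399 (iv F125021)))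
theorem Q8649 : ∀ i, i < 8649 → P i := stepQ 8648 Q8648 (allL N8648 (tt N7069 F88525) (tt N7597 F204105) (tt N10409 (iv F125095)) (tt N7062 F88526) (tt N10533 D29872) (tt N7060 (iv D20520)) (tt N7606 F88527) (tt N10534 D29873) (tt N10535 D29874) (tt N7588 F204106))
theorem Q8650 : ∀ i, i < 8650 → P i := stepQ 8649 Q8649 (allL N8649 (tt N7070 F88528) (tt N7599 F204193) (tt N10410 (iv F125099)) (tt N7063 F88529) (tt N8649 F88530) (tt N10534 (iv F126760)) (tt N8649 F88531) (tt N7060 (iv D20521)) (tt N10536 D29875) (tt N7589 F204194))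
theorem Q8651 : ∀ i, i < 8651 → P i := stepQ 8650 Q8650 (allL N8650 (tt N7071 F88532) (tt N7602 F204195) (tt N10411 (iv F125104)) (tt N7641 (iv F204366)) (tt N8650 F88533) (tt N10535 (iv F126762)) (tt N7061 F88534) (tt N10536 (iv F126767)) (tt N7060 (iv D20522)) (tt N10537 D29877))
theorem Q8652 : ∀ i, i < 8652 → P i := stepQ 8651 Q8651 (allL N8651 (tt N7073 F88539) (tt N7513 F203827) (tt N10413 (iv F125112)) (tt N7565 (iv F203979)) (tt N8651 F88540) (tt N7609 F88541) (tt N10537 (iv F126773)) (tt N8651 F88542) (tt N7501 F203828) (tt N7061 (iv D20524)))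
theorem Q8653 : ∀ i, i < 8653 → P i := stepQ 8652 Q8652 (allL N8652 (tt N7074 F88543) (tt N7594 F204264) (tt N7064 F88544) (tt N10534 (iv F126759)) (tt N8652 F88545) (tt N7063 F88546) (tt N10538 D29881) (tt N7062 (iv D20525)) (tt N7633 (iv F204324)) (tt N7587 F204265))
theorem Q8654 : ∀ i, i < 8654 → P i := stepQ 8653 Q8653 (allL N8653 (tt N7079 F88605) (tt N8653 F88606) (tt N10538 (iv F126788)) (tt N10428 (iv F125192)) (tt N8653 F88607) (tt N8653 F88608) (tt N7064 (iv D20539)) (tt N7611 F88609) (tt N10539 D29901) (tt N10507 (iv F126325)))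
theorem Q8655 : ∀ i, i < 8655 → P i := stepQ 8654 Q8654 (allL N8654 (tt N7080 F88610) (tt N8654 F88611) (tt N7633 (iv F204323)) (tt N10540 D29902) (tt N8654 F88612) (tt N7066 F88613) (tt N10539 (iv F126878)) (tt N7065 F88614) (tt N7064 (iv D20540)) (tt N7626 F204286))
theorem Q8656 : ∀ i, i < 8656 → P i := stepQ 8655 Q8655 (allL N8655 (tt N7081 F88615) (tt N8655 F88616) (tt N10541 D29904) (tt N7065 (iv D20541)) (tt N10542 D29905) (tt N7067 F88617) (tt N7613 F88618) (tt N10540 (iv F126883)) (tt N10430 (iv F125203)) (tt N7627 F204390))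
theorem Q8657 : ∀ i, i < 8657 → P i := stepQ 8656 Q8656 (allL N8656 (tt N7083 F88624) (tt N8656 F88625) (tt N10543 D29907) (tt N7066 (iv D20543)) (tt N8656 F88626) (tt N10540 (iv F126882)) (tt N8656 F88627) (tt N7067 F88628) (tt N10432 (iv F125213)) (tt N7628 F204287))
theorem Q8658 : ∀ i, i < 8658 → P i := stepQ 8657 Q8657 (allL N8657 (tt N7085 F88634) (tt N10544 D29909) (tt N7067 (iv D20545)) (tt N7640 F204455) (tt N8657 F88635) (tt N10541 (iv F126890)) (tt N7068 F88636) (tt N10543 (iv F126905)) (tt N10434 (iv F125222)) (tt N7629 F204456))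
theorem Q8659 : ∀ i, i < 8659 → P i := stepQ 8658 Q8658 (allL N8658 (tt N10545 D29912) (tt N7068 (iv D20547)) (tt N8658 F88642) (tt N7643 F204457) (tt N8658 F88643) (tt N7616 F88644) (tt N10544 (iv F126914)) (tt N8658 F88645) (tt N10436 (iv F125232)) (tt N7630 F204458))
theorem Q8660 : ∀ i, i < 8660 → P i := stepQ 8659 Q8659 (allL N8659 (tt N10533 (iv F126754)) (tt N8659 F88656) (tt N10438 (iv F125244)) (tt N8659 F88657) (tt N7069 (iv D20550)) (tt N8659 F88658) (tt N7617 F88659) (tt N10546 D29915) (tt N10547 D29916) (tt N10508 (iv F126373)))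
theorem Q8661 : ∀ i, i < 8661 → P i := stepQ 8660 Q8660 (allL N8660 (tt N10534 (iv F126758)) (tt N8660 F88660) (tt N10439 (iv F125247)) (tt N7074 F88661) (tt N10546 (iv F126940)) (tt N7070 F88662) (tt N10548 D29917) (tt N7069 (iv D20551)) (tt N10549 D29918) (tt N10509 (iv F126377)))
theorem Q8662 : ∀ i, i < 8662 → P i := stepQ 8661 Q8661 (allL N8661 (tt N10535 (iv F126761)) (tt N8661 F88663) (tt N10440 (iv F125250)) (tt N10550 D29919) (tt N10547 (iv F126943)) (tt N7071 F88664) (tt N7619 F88665) (tt N10549 (iv F126952)) (tt N7069 (iv D20552)) (tt N10551 D29920))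
theorem Q8663 : ∀ i, i < 8663 → P i := stepQ 8662 Q8662 (allL N8662 (tt N10536 (iv F126764)) (tt N8662 F88666) (tt N10441 (iv F125253)) (tt N10552 D29921) (tt N8662 F88667) (tt N10549 (iv F126951)) (tt N8662 F88668) (tt N7071 F88669) (tt N7070 (iv D20553)) (tt N10553 D29922))
theorem Q8664 : ∀ i, i < 8664 → P i := stepQ 8663 Q8663 (allL N8663 (tt N7641 (iv F204365)) (tt N8663 F88670) (tt N10554 D29923) (tt N7071 (iv D20554)) (tt N7820 (iv F204369)) (tt N10550 (iv F126954)) (tt N7072 F88671) (tt N10552 (iv F126962)) (tt N7077 F88672) (tt N10555 D29925))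
theorem Q8665 : ∀ i, i < 8665 → P i := stepQ 8664 Q8664 (allL N8664 (tt N10537 (iv F126771)) (tt N8664 F88673) (tt N10443 (iv F125259)) (tt N10555 (iv F126975)) (tt N8664 F88674) (tt N10551 (iv F126958)) (tt N7073 F88675) (tt N10553 (iv F126967)) (tt N10512 (iv F126391)) (tt N7071 (iv D20555)))
theorem Q8666 : ∀ i, i < 8666 → P i := stepQ 8665 Q8665 (allL N8665 (tt N7644 (iv F204367)) (tt N10556 D29926) (tt N7072 (iv D20556)) (tt N10444 (iv F125262)) (tt N7823 (iv F204370)) (tt N7623 F88676) (tt N10554 (iv F126968)) (tt N8665 F88677) (tt N7078 F88678) (tt N10557 D29928))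
theorem Q8667 : ∀ i, i < 8667 → P i := stepQ 8666 Q8666 (allL N8666 (tt N7565 F204185) (tt N8666 F88684) (tt N10557 (iv F126985)) (tt N7073 F88685) (tt N7764 (iv F204363)) (tt N7624 F88686) (tt N10555 (iv F126976)) (tt N8666 F88687) (tt N7532 F204186) (tt N7072 (iv D20558)))
theorem Q8668 : ∀ i, i < 8668 → P i := stepQ 8667 Q8667 (allL N8667 (tt N10538 (iv F126787)) (tt N8667 F88688) (tt N7079 F88689) (tt N10548 (iv F126947)) (tt N8667 F88690) (tt N8667 F88691) (tt N7074 (iv D20559)) (tt N7625 F88692) (tt N10558 D29931) (tt N10513 (iv F126408)))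
theorem Q8669 : ∀ i, i < 8669 → P i := stepQ 8668 Q8668 (allL N8668 (tt N7633 (iv F204322)) (tt N8668 F88693) (tt N7080 F88694) (tt N10559 D29932) (tt N8668 F88695) (tt N7076 F88696) (tt N10558 (iv F127001)) (tt N7075 F88697) (tt N7074 (iv D20560)) (tt N7612 F204126))
theorem Q8670 : ∀ i, i < 8670 → P i := stepQ 8669 Q8669 (allL N8669 (tt N7636 F204392) (tt N8669 F88698) (tt N10560 D29934) (tt N7075 (iv D20561)) (tt N10561 D29935) (tt N7077 F88699) (tt N7627 F88700) (tt N10559 (iv F127005)) (tt N10550 (iv F126956)) (tt N7613 F204393))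
theorem Q8671 : ∀ i, i < 8671 → P i := stepQ 8670 Q8670 (allL N8670 (tt N7638 (iv F204321)) (tt N8670 F88706) (tt N10562 D29937) (tt N7076 (iv D20563)) (tt N7817 (iv F204345)) (tt N10559 (iv F127004)) (tt N8670 F88707) (tt N7077 F88708) (tt N10552 (iv F126963)) (tt N7614 F204129))
theorem Q8672 : ∀ i, i < 8672 → P i := stepQ 8671 Q8671 (allL N8671 (tt N7640 F204388) (tt N10563 D29940) (tt N7077 (iv D20565)) (tt N7085 F88714) (tt N7819 (iv F204501)) (tt N10560 (iv F127012)) (tt N7078 F88715) (tt N10562 (iv F127023)) (tt N10554 (iv F126969)) (tt N7615 F204389))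
theorem Q8673 : ∀ i, i < 8673 → P i := stepQ 8672 Q8672 (allL N8672 (tt N10564 D29946) (tt N7078 (iv D20568)) (tt N8672 F88722) (tt N7087 F88723) (tt N7822 (iv F204522)) (tt N7630 F88724) (tt N10563 (iv F127034)) (tt N8672 F88725) (tt N10556 (iv F126980)) (tt N7616 F204463))
theorem Q8674 : ∀ i, i < 8674 → P i := stepQ 8673 Q8673 (allL N8673 (tt N10539 (iv F126874)) (tt N7090 F88773) (tt N10558 (iv F126998)) (tt N10565 D29958) (tt N8673 F88774) (tt N8673 F88775) (tt N7080 F88776) (tt N7631 F88777) (tt N7079 (iv D20579)) (tt N10566 D29959))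
theorem Q8675 : ∀ i, i < 8675 → P i := stepQ 8674 Q8674 (allL N8674 (tt N10540 (iv F126880)) (tt N7091 F88778) (tt N10567 D29960) (tt N7080 (iv D20580)) (tt N10568 D29961) (tt N7083 F88779) (tt N10565 (iv F127108)) (tt N7081 F88780) (tt N10474 (iv F125361)) (tt N10569 D29962))
theorem Q8676 : ∀ i, i < 8676 → P i := stepQ 8675 Q8675 (allL N8675 (tt N7626 F204119) (tt N7092 F88781) (tt N7612 F204120) (tt N10569 (iv F127122)) (tt N8675 F88782) (tt N7084 F88783) (tt N10566 (iv F127113)) (tt N7082 F88784) (tt N7610 F204121) (tt N7080 (iv D20581)))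
theorem Q8677 : ∀ i, i < 8677 → P i := stepQ 8676 Q8676 (allL N8676 (tt N10541 (iv F126889)) (tt N10570 D29963) (tt N7081 (iv D20582)) (tt N10560 (iv F127011)) (tt N10571 D29964) (tt N7085 F88785) (tt N7634 F88786) (tt N10567 (iv F127116)) (tt N10476 (iv F125367)) (tt N10572 D29965))
theorem Q8678 : ∀ i, i < 8678 → P i := stepQ 8677 Q8677 (allL N8677 (tt N10542 (iv F126892)) (tt N7094 F88787) (tt N10571 (iv F127128)) (tt N8677 F88788) (tt N7081 (iv D20583)) (tt N8677 F88789) (tt N7635 F88790) (tt N10568 (iv F127120)) (tt N10477 (iv F125371)) (tt N10573 D29966))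
theorem Q8679 : ∀ i, i < 8679 → P i := stepQ 8678 Q8678 (allL N8678 (tt N7627 F204403) (tt N7095 F88791) (tt N10572 (iv F127131)) (tt N7082 F88792) (tt N10573 (iv F127136)) (tt N7086 F88793) (tt N7636 F88794) (tt N10569 (iv F127124)) (tt N10574 D29967) (tt N7081 (iv D20584)))
theorem Q8680 : ∀ i, i < 8680 → P i := stepQ 8679 Q8679 (allL N8679 (tt N10543 (iv F126902)) (tt N10575 D29968) (tt N7083 (iv D20585)) (tt N10562 (iv F127021)) (tt N8679 F88795) (tt N10567 (iv F127115)) (tt N8679 F88796) (tt N7085 F88797) (tt N10479 (iv F125379)) (tt N10576 D29969))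
theorem Q8681 : ∀ i, i < 8681 → P i := stepQ 8680 Q8680 (allL N8680 (tt N7628 F204125) (tt N7097 F88798) (tt N10576 (iv F127146)) (tt N7084 F88799) (tt N8680 F88800) (tt N10569 (iv F127123)) (tt N8680 F88801) (tt N7086 F88802) (tt N10577 D29970) (tt N7083 (iv D20586)))
theorem Q8682 : ∀ i, i < 8682 → P i := stepQ 8681 Q8681 (allL N8681 (tt N10578 D29971) (tt N7085 (iv D20587)) (tt N7098 F88803) (tt N10563 (iv F127033)) (tt N8681 F88804) (tt N10570 (iv F127126)) (tt N7087 F88805) (tt N10575 (iv F127145)) (tt N10481 (iv F125388)) (tt N10579 D29972))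
theorem Q8683 : ∀ i, i < 8683 → P i := stepQ 8682 Q8682 (allL N8682 (tt N7629 F204386) (tt N10579 (iv F127157)) (tt N7086 F88806) (tt N7615 F204387) (tt N8682 F88807) (tt N10572 (iv F127132)) (tt N7088 F88808) (tt N10576 (iv F127149)) (tt N10580 D29973) (tt N7085 (iv D20588)))
theorem Q8684 : ∀ i, i < 8684 → P i := stepQ 8683 Q8683 (allL N8683 (tt N7621 F204107) (tt N7100 F88809) (tt N10580 (iv F127161)) (tt N7608 F204108) (tt N8683 F88810) (tt N10574 (iv F127140)) (tt N7089 F88811) (tt N10577 (iv F127153)) (tt N7086 (iv D20589)) (tt N10483 (iv F125395)))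
theorem Q8685 : ∀ i, i < 8685 → P i := stepQ 8684 Q8684 (allL N8684 (tt N7087 (iv D20590)) (tt N10545 (iv F126923)) (tt N7101 F88812) (tt N10564 (iv F127051)) (tt N8684 F88813) (tt N7642 F88814) (tt N10578 (iv F127156)) (tt N8684 F88815) (tt N10484 (iv F125400)) (tt N10581 D29974))
theorem Q8686 : ∀ i, i < 8686 → P i := stepQ 8685 Q8685 (allL N8685 (tt N10581 (iv F127164)) (tt N7088 F88816) (tt N7102 F88817) (tt N7616 F204462) (tt N8685 F88818) (tt N7643 F88819) (tt N10579 (iv F127160)) (tt N8685 F88820) (tt N10582 D29975) (tt N7087 (iv D20591)))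
theorem Q8687 : ∀ i, i < 8687 → P i := stepQ 8686 Q8686 (allL N8686 (tt N7623 F204206) (tt N10582 (iv F127169)) (tt N7089 F88821) (tt N10583 D29976) (tt N8686 F88822) (tt N7644 F88823) (tt N10580 (iv F127163)) (tt N8686 F88824) (tt N7088 (iv D20592)) (tt N10486 (iv F125410)))
theorem Q8688 : ∀ i, i < 8688 → P i := stepQ 8687 Q8687 (allL N8687 (tt N8687 F88825) (tt N10565 (iv F127106)) (tt N10584 D29977) (tt N7090 (iv D20593)) (tt N10585 D29978) (tt N8687 F88826) (tt N7091 F88827) (tt N7645 F88828) (tt N10487 (iv F125415)) (tt N10586 D29979))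
theorem Q8689 : ∀ i, i < 8689 → P i := stepQ 8688 Q8688 (allL N8688 (tt N8688 F88829) (tt N10566 (iv F127110)) (tt N8688 F88830) (tt N10586 (iv F127186)) (tt N8688 F88831) (tt N8688 F88832) (tt N7092 F88833) (tt N7646 F88834) (tt N10521 (iv F126562)) (tt N7090 (iv D20594)))
theorem Q8690 : ∀ i, i < 8690 → P i := stepQ 8689 Q8689 (allL N8689 (tt N8689 F88835) (tt N10587 D29980) (tt N7091 (iv D20595)) (tt N8689 F88836) (tt N10586 (iv F204617)) (tt N7096 F88837) (tt N10584 (iv F127179)) (tt N7093 F88838) (tt N10489 (iv F125423)) (tt N10585 (iv F204611)))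
theorem Q8691 : ∀ i, i < 8691 → P i := stepQ 8690 Q8690 (allL N8690 (tt N8690 F88839) (tt N10568 (iv F127117)) (tt N10586 (iv F204616)) (tt N8690 F88840) (tt N7091 (iv D20596)) (tt N8690 F88841) (tt N10585 (iv F127183)) (tt N7094 F88842) (tt N10490 (iv F125427)) (tt N10584 F204581))
theorem Q8692 : ∀ i, i < 8692 → P i := stepQ 8691 Q8691 (allL N8691 (tt N8691 F88843) (tt N10569 (iv F127121)) (tt N10585 (iv F204609)) (tt N7092 F88844) (tt N10584 F204576) (tt N7097 F88845) (tt N10586 (iv F127188)) (tt N7095 F88846) (tt N10588 D29984) (tt N7091 (iv D20597)))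
theorem Q8693 : ∀ i, i < 8693 → P i := stepQ 8692 Q8692 (allL N8692 (tt N10589 D29985) (tt N7093 (iv D20598)) (tt N10570 (iv F127125)) (tt N8692 F88847) (tt N10590 D29986) (tt N7098 F88848) (tt N7650 F88849) (tt N10587 (iv F127192)) (tt N10492 (iv F125434)) (tt N10591 D29987))
theorem Q8694 : ∀ i, i < 8694 → P i := stepQ 8693 Q8693 (allL N8693 (tt N8693 F88850) (tt N10590 (iv F127214)) (tt N7094 F88851) (tt N7646 (iv F204605)) (tt N7093 (iv D20599)) (tt N8693 F88852) (tt N7649 (iv F204615)) (tt N10586 (iv F204618)) (tt N10493 (iv F125439)) (tt N7645 F204574))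
theorem Q8695 : ∀ i, i < 8695 → P i := stepQ 8694 Q8694 (allL N8694 (tt N8694 F88854) (tt N10591 (iv F127217)) (tt N7095 F88855) (tt N8694 F88856) (tt N7645 F204572) (tt N7099 F88857) (tt N7648 (iv F204607)) (tt N10585 (iv F204610)) (tt N10592 D29990) (tt N7093 (iv D20600)))
theorem Q8696 : ∀ i, i < 8696 → P i := stepQ 8695 Q8695 (allL N8695 (tt N8695 F88859) (tt N10573 (iv F127134)) (tt N7645 (iv F204561)) (tt N8695 F88860) (tt N7095 F88861) (tt N8695 F88862) (tt N7647 (iv F204563)) (tt N10584 (iv F204565)) (tt N10593 D29991) (tt N7094 (iv D20601)))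
theorem Q8697 : ∀ i, i < 8697 → P i := stepQ 8696 Q8696 (allL N8696 (tt N8696 F88864) (tt N10574 (iv F127139)) (tt N10592 (iv F127232)) (tt N10526 (iv F126590)) (tt N10593 (iv F127236)) (tt N7100 F88865) (tt N7651 F88866) (tt N10588 (iv F127209)) (tt N7095 (iv D20602)) (tt N10496 (iv F125451)))
theorem Q8698 : ∀ i, i < 8698 → P i := stepQ 8697 Q8697 (allL N8697 (tt N10594 D29992) (tt N7096 (iv D20603)) (tt N10575 (iv F127142)) (tt N8697 F88867) (tt N8697 F88868) (tt N10587 (iv F127191)) (tt N8697 F88869) (tt N7098 F88870) (tt N10497 (iv F125455)) (tt N10595 D29993))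
theorem Q8699 : ∀ i, i < 8699 → P i := stepQ 8698 Q8698 (allL N8698 (tt N8698 F88871) (tt N10595 (iv F127244)) (tt N7097 F88872) (tt N8698 F88873) (tt N8698 F88874) (tt N10585 F204660) (tt N8698 F88875) (tt N7099 F88876) (tt N10596 D29994) (tt N7096 (iv D20604)))
theorem Q8700 : ∀ i, i < 8700 → P i := stepQ 8699 Q8699 (allL N8699 (tt N8699 F88877) (tt N10577 (iv F127150)) (tt N10596 (iv F127250)) (tt N10527 (iv F126602)) (tt N8699 F88878) (tt N10588 (iv F127208)) (tt N8699 F88879) (tt N7100 F88880) (tt N7097 (iv D20605)) (tt N10499 (iv F125465)))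
theorem Q8701 : ∀ i, i < 8701 → P i := stepQ 8700 Q8700 (allL N8700 (tt N7098 (iv D20606)) (tt N8700 F88881) (tt N10578 (iv F127154)) (tt N8700 F88882) (tt N8700 F88883) (tt N10589 (iv F127212)) (tt N7101 F88884) (tt N10594 (iv F127243)) (tt N10500 (iv F125469)) (tt N10597 D29995))
theorem Q8702 : ∀ i, i < 8702 → P i := stepQ 8701 Q8701 (allL N8701 (tt N10597 (iv F127254)) (tt N7099 F88885) (tt N10579 (iv F127158)) (tt N8701 F88886) (tt N8701 F88887) (tt N10591 (iv F127219)) (tt N7102 F88888) (tt N10595 (iv F127248)) (tt N10598 D29996) (tt N7098 (iv D20607)))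
theorem Q8703 : ∀ i, i < 8703 → P i := stepQ 8702 Q8702 (allL N8702 (tt N8702 F88889) (tt N10598 (iv F127259)) (tt N7100 F88890) (tt N10599 D29997) (tt N8702 F88891) (tt N10592 (iv F127233)) (tt N7103 F88892) (tt N10596 (iv F127253)) (tt N7099 (iv D20608)) (tt N10502 (iv F125477)))
theorem Q8704 : ∀ i, i < 8704 → P i := stepQ 8703 Q8703 (allL N8703 (tt N7102 F88893) (tt N8703 F88894) (tt N10581 (iv F127165)) (tt N8703 F88895) (tt N8703 F88896) (tt N7657 F88897) (tt N10597 (iv F127258)) (tt N8703 F88898) (tt N10600 D29998) (tt N7101 (iv D20609)))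
theorem Q8705 : ∀ i, i < 8705 → P i := stepQ 8704 Q8704 (allL N8704 (tt N10600 (iv F127265)) (tt N7103 F88899) (tt N10582 (iv F127170)) (tt N10601 D29999) (tt N8704 F88900) (tt N7658 F88901) (tt N10598 (iv F127261)) (tt N8704 F88902) (tt N7102 (iv D20610)) (tt N10504 (iv F125487)))
theorem Q8706 : ∀ i, i < 8706 → P i := stepQ 8705 Q8705 (allL N8705 (tt N8705 F88903) (tt N10601 (iv F127270)) (tt N10532 (iv F126623)) (tt N7103 (iv D20611)) (tt N10602 D30000) (tt N7659 F88904) (tt N10599 (iv F127263)) (tt N8705 F88905) (tt N8705 F88906) (tt N10505 (iv F125491)))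
theorem Q8707 : ∀ i, i < 8707 → P i := stepQ 8706 Q8706 (allL N8706 (tt N7109 F195687) (tt N8706 F89008) (tt N7104 (iv D20629)) (tt N7107 F195688) (tt N9768 (iv F121540)) (tt N7106 F195689) (tt N7113 F89010) (tt N8706 F89011) (tt N9771 F206151) (tt N7108 F89012))
theorem Q8708 : ∀ i, i < 8708 → P i := stepQ 8707 Q8707 (allL N8707 (tt N9768 (iv F195807)) (tt N7111 F89077) (tt N7995 (iv F203115)) (tt N8707 F89078) (tt N7109 (iv D20644)) (tt N9770 F206152) (tt N7125 F206154) (tt N8707 F89079) (tt N9769 F206153) (tt N7110 F206155))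
theorem Q8709 : ∀ i, i < 8709 → P i := stepQ 8708 Q8708 (allL N8708 (tt N9771 (iv F206030)) (tt N7112 F89083) (tt N7990 (iv F203119)) (tt N8708 F89084) (tt N9769 F206224) (tt N7110 F89085) (tt N7992 F202645) (tt N8708 F89086) (tt N7109 (iv D20646)) (tt N9770 F206225))
theorem Q8710 : ∀ i, i < 8710 → P i := stepQ 8709 Q8709 (allL N8709 (tt N7123 F195953) (tt N8709 F89227) (tt N7114 F89228) (tt N7120 F195954) (tt N10603 D30100) (tt N7113 (iv D20676)) (tt N7119 F195955) (tt N7131 F89230) (tt N9780 F205850) (tt N7121 F89231))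
theorem Q8711 : ∀ i, i < 8711 → P i := stepQ 8710 Q8710 (allL N8710 (tt N7992 F202630) (tt N8710 F89232) (tt N7115 F89233) (tt N8710 F195278) (tt N7994 (iv F206245)) (tt N9780 F205857) (tt N9771 (iv F206032)) (tt N7132 F89234) (tt N7113 (iv D20677)) (tt N7993 F206109))
theorem Q8712 : ∀ i, i < 8712 → P i := stepQ 8711 Q8711 (allL N8711 (tt N7969 (iv F202133)) (tt N7117 F89235) (tt N10603 (iv F127757)) (tt N7162 F89236) (tt N7114 (iv D20678)) (tt N9773 (iv F121690)) (tt N9782 F205851) (tt N7133 F89237) (tt N9781 F205852) (tt N7122 F89238))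
theorem Q8713 : ∀ i, i < 8713 → P i := stepQ 8712 Q8712 (allL N8712 (tt N7994 (iv F203121)) (tt N7118 F89245) (tt N7993 F206156) (tt N7989 (iv F203300)) (tt N7992 (iv F206242)) (tt N9774 F205858) (tt N9769 (iv F206038)) (tt N7136 F89246) (tt N7125 F89247) (tt N7115 (iv D20681)))
theorem Q8714 : ∀ i, i < 8714 → P i := stepQ 8713 Q8713 (allL N8713 (tt N7122 F89286) (tt N8713 F89287) (tt N9782 F205954) (tt N7175 F89288) (tt N7119 (iv D20691)) (tt N9778 (iv F121752)) (tt N10603 (iv F196148)) (tt N7141 F89289) (tt N9779 F205955) (tt N7969 (iv F202136)))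
theorem Q8715 : ∀ i, i < 8715 → P i := stepQ 8714 Q8714 (allL N8714 (tt N9782 (iv F205711)) (tt N8714 F89308) (tt N7122 F89309) (tt N7970 F201777) (tt N7121 (iv D20696)) (tt N9779 (iv F121772)) (tt N7969 (iv F202135)) (tt N7144 F89310) (tt N9778 (iv F205726)) (tt N10603 (iv F127759)))
theorem Q8716 : ∀ i, i < 8716 → P i := stepQ 8715 Q8715 (allL N8715 (tt N10603 (iv F196147)) (tt N7126 F89325) (tt N7969 (iv F202134)) (tt N7185 F89326) (tt N7123 F89327) (tt N10604 D30138) (tt N7122 (iv D20701)) (tt N7980 (iv F202141)) (tt N10605 D30140) (tt N9782 F205956))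
theorem Q8717 : ∀ i, i < 8717 → P i := stepQ 8716 Q8716 (allL N8716 (tt N9779 F205947) (tt N7127 F89328) (tt N9778 F205948) (tt N10606 D30141) (tt N7124 F89329) (tt N9782 (iv F121793)) (tt N10605 (iv F127912)) (tt N7147 F89330) (tt N7122 (iv D20702)) (tt N10604 (iv F206074)))
theorem Q8718 : ∀ i, i < 8718 → P i := stepQ 8717 Q8717 (allL N8717 (tt N9780 (iv F205678)) (tt N7128 F89334) (tt N7967 (iv F202215)) (tt N8717 F89335) (tt N10605 (iv F127911)) (tt N7992 (iv F202220)) (tt N7124 F89336) (tt N7976 (iv F202224)) (tt N7123 (iv D20704)) (tt N9775 F206105))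
theorem Q8719 : ∀ i, i < 8719 → P i := stepQ 8718 Q8718 (allL N8718 (tt N9772 (iv F206005)) (tt N7129 F89337) (tt N7996 F205967) (tt N8718 F89338) (tt N10604 (iv F206072)) (tt N7125 F89339) (tt N9775 (iv F206006)) (tt N7150 F89340) (tt N9774 F205867) (tt N7124 (iv D20705)))
theorem Q8720 : ∀ i, i < 8720 → P i := stepQ 8719 Q8719 (allL N8719 (tt N8719 F89341) (tt N10604 (iv F127904)) (tt N8719 F89342) (tt N7190 F89343) (tt N7129 F206126) (tt N7126 (iv D20706)) (tt N9777 F206123) (tt N7155 F206127) (tt N9776 (iv F206249)) (tt N7127 F206128))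
theorem Q8721 : ∀ i, i < 8721 → P i := stepQ 8720 Q8720 (allL N8720 (tt N8720 F89349) (tt N10605 (iv F127910)) (tt N8720 F89350) (tt N9814 F206212) (tt N7128 F89351) (tt N9776 (iv F206248)) (tt N7127 F89352) (tt N9793 F206124) (tt N7126 (iv D20708)) (tt N9777 F206125))
theorem Q8722 : ∀ i, i < 8722 → P i := stepQ 8721 Q8721 (allL N8721 (tt N8721 F89353) (tt N10606 (iv F127913)) (tt N7348 (iv F206054)) (tt N7127 (iv D20709)) (tt N8721 F89354) (tt N7167 F205922) (tt N9814 (iv F206061)) (tt N7154 F89355) (tt N7193 F89356) (tt N7190 (iv F206064)))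
theorem Q8723 : ∀ i, i < 8723 → P i := stepQ 8722 Q8722 (allL N8722 (tt N7980 (iv F202137)) (tt N8722 F89527) (tt N7133 F89528) (tt N10607 D30206) (tt N7131 (iv D20748)) (tt N9783 (iv F121875)) (tt N10608 D30207) (tt N10603 (iv F127758)) (tt N10609 D30208) (tt N7144 F89529))
theorem Q8724 : ∀ i, i < 8724 → P i := stepQ 8723 Q8723 (allL N8723 (tt N7148 F196382) (tt N8723 F89530) (tt N7134 F89531) (tt N7143 F196383) (tt N10608 (iv F128194)) (tt N8723 F89533) (tt N7131 (iv D20749)) (tt N7142 F196384) (tt N9797 F205496) (tt N7145 F89534))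
theorem Q8725 : ∀ i, i < 8725 → P i := stepQ 8724 Q8724 (allL N8724 (tt N7976 F202417) (tt N8724 F89535) (tt N7135 F89536) (tt N8724 F195087) (tt N10609 (iv F128198)) (tt N7132 F89537) (tt N9797 F205504) (tt N9780 (iv F205679)) (tt N7131 (iv D20750)) (tt N7997 F205762))
theorem Q8726 : ∀ i, i < 8726 → P i := stepQ 8725 Q8725 (allL N8725 (tt N7979 (iv F202234)) (tt N7138 F89545) (tt N10608 (iv F128193)) (tt N7204 F89546) (tt N7134 F89547) (tt N10610 D30215) (tt N7133 (iv D20753)) (tt N9800 F205497) (tt N9799 F205498) (tt N7146 F89548))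
theorem Q8727 : ∀ i, i < 8727 → P i := stepQ 8726 Q8726 (allL N8726 (tt N7977 (iv F202891)) (tt N7139 F89549) (tt N10609 (iv F128197)) (tt N9841 F205505) (tt N7135 F89550) (tt N9786 (iv F121900)) (tt N9799 F205506) (tt N9781 (iv F205681)) (tt N7133 (iv D20754)) (tt N10611 D30219))
theorem Q8728 : ∀ i, i < 8728 → P i := stepQ 8727 Q8727 (allL N8727 (tt N7978 (iv F202895)) (tt N7140 F89558) (tt N7997 F205868) (tt N7973 (iv F202908)) (tt N10611 (iv F128235)) (tt N7136 F89559) (tt N9787 F205507) (tt N9774 (iv F205683)) (tt N7150 F89560) (tt N7135 (iv D20757)))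
theorem Q8729 : ∀ i, i < 8729 → P i := stepQ 8728 Q8728 (allL N8728 (tt N8728 F89561) (tt N10610 (iv F128221)) (tt N8728 F89562) (tt N7209 F89563) (tt N8728 F89564) (tt N7138 (iv D20758)) (tt N9789 (iv F121917)) (tt N9803 F205779) (tt N9802 F205780) (tt N7151 F89565))
theorem Q8730 : ∀ i, i < 8730 → P i := stepQ 8729 Q8729 (allL N8729 (tt N8729 F89577) (tt N10611 (iv F128234)) (tt N8729 F89578) (tt N9815 F205787) (tt N7140 F89579) (tt N9793 (iv F121935)) (tt N9790 F205788) (tt N9776 (iv F206019)) (tt N7155 F89580) (tt N7139 (iv D20762)))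
theorem Q8731 : ∀ i, i < 8731 → P i := stepQ 8730 Q8730 (allL N8730 (tt N7146 F89614) (tt N8730 F89615) (tt N9800 F205583) (tt N7223 F89616) (tt N7142 F89617) (tt N10612 D30244) (tt N7141 (iv D20772)) (tt N10608 (iv F196656)) (tt N9796 (iv F205639)) (tt N7979 (iv F202237)))
theorem Q8732 : ∀ i, i < 8732 → P i := stepQ 8731 Q8731 (allL N8731 (tt N9801 (iv F205418)) (tt N8731 F89634) (tt N7228 F89635) (tt N7144 (iv D20777)) (tt N7835 F89636) (tt N9795 (iv F121996)) (tt N7982 (iv F202104)) (tt N7970 F201690) (tt N9889 F205344) (tt N10607 (iv F128191)))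
theorem Q8733 : ∀ i, i < 8733 → P i := stepQ 8732 Q8732 (allL N8732 (tt N9800 F205462) (tt N8732 F89637) (tt N7146 F89638) (tt N7982 (iv F202103)) (tt N7145 F89639) (tt N10613 D30253) (tt N7144 (iv D20778)) (tt N7979 (iv F202236)) (tt N9794 F205463) (tt N10608 (iv F128195)))
theorem Q8734 : ∀ i, i < 8734 → P i := stepQ 8733 Q8733 (allL N8733 (tt N10612 (iv F128328)) (tt N7151 F89666) (tt N10613 (iv F128365)) (tt N7237 F89667) (tt N8733 F89668) (tt N7146 (iv D20786)) (tt N9798 (iv F122028)) (tt N10614 D30266) (tt N10615 D30267) (tt N10610 (iv F128224)))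
theorem Q8735 : ∀ i, i < 8735 → P i := stepQ 8734 Q8734 (allL N8734 (tt N10608 (iv F196655)) (tt N7152 F89669) (tt N7979 (iv F202235)) (tt N7238 F89670) (tt N7148 F89671) (tt N10614 (iv F128412)) (tt N7980 (iv F202140)) (tt N7146 (iv D20787)) (tt N10616 D30268) (tt N9800 F205589))
theorem Q8736 : ∀ i, i < 8736 → P i := stepQ 8735 Q8735 (allL N8735 (tt N9796 (iv F205638)) (tt N7153 F89672) (tt N9794 F205595) (tt N10617 D30269) (tt N7149 F89673) (tt N10615 (iv F128415)) (tt N7147 F89674) (tt N10616 (iv F128418)) (tt N7146 (iv D20788)) (tt N10618 D30270))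
theorem Q8737 : ∀ i, i < 8737 → P i := stepQ 8736 Q8736 (allL N8736 (tt N9795 F205581) (tt N7154 F89675) (tt N9877 (iv F205707)) (tt N7147 (iv D20789)) (tt N8736 F89676) (tt N9801 (iv F122036)) (tt N10617 (iv F128421)) (tt N10606 (iv F127915)) (tt N7240 F89677) (tt N10619 D30272))
theorem Q8738 : ∀ i, i < 8738 → P i := stepQ 8737 Q8737 (allL N8737 (tt N9783 F205957) (tt N7155 F89678) (tt N7981 F205958) (tt N10619 (iv F128429)) (tt N7150 F89679) (tt N7980 F205959) (tt N10618 (iv F128425)) (tt N10604 (iv F206073)) (tt N10611 (iv F128236)) (tt N7147 (iv D20790)))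
theorem Q8739 : ∀ i, i < 8739 → P i := stepQ 8738 Q8738 (allL N8738 (tt N9797 (iv F205383)) (tt N7156 F89680) (tt N7974 (iv F202239)) (tt N8738 F89681) (tt N10616 (iv F128417)) (tt N8738 F89682) (tt N7976 (iv F202223)) (tt N7149 F89683) (tt N7148 (iv D20791)) (tt N9788 F205758))
theorem Q8740 : ∀ i, i < 8740 → P i := stepQ 8739 Q8739 (allL N8739 (tt N9784 (iv F205640)) (tt N7157 F89684) (tt N7998 F205596) (tt N8739 F89685) (tt N10618 (iv F128424)) (tt N8739 F89686) (tt N7150 F89687) (tt N9788 (iv F205641)) (tt N9787 F205514) (tt N7149 (iv D20792)))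
theorem Q8741 : ∀ i, i < 8741 → P i := stepQ 8740 Q8740 (allL N8740 (tt N8740 F89688) (tt N10614 (iv F128409)) (tt N8740 F89689) (tt N7244 F89690) (tt N8740 F89691) (tt N7152 F89692) (tt N10620 D30274) (tt N7151 (iv D20793)) (tt N10621 D30275) (tt N9803 F205896))
theorem Q8742 : ∀ i, i < 8742 → P i := stepQ 8741 Q8741 (allL N8741 (tt N8741 F89693) (tt N10615 (iv F128413)) (tt N8741 F89694) (tt N10622 D30276) (tt N8741 F89695) (tt N7153 F89696) (tt N9803 (iv F122056)) (tt N10621 (iv F128443)) (tt N7151 (iv D20794)) (tt N10620 (iv F206044)))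
theorem Q8743 : ∀ i, i < 8743 → P i := stepQ 8742 Q8742 (allL N8742 (tt N8742 F89697) (tt N10616 (iv F128416)) (tt N8742 F89698) (tt N10623 D30278) (tt N7156 F89699) (tt N10621 (iv F128442)) (tt N9793 (iv F206071)) (tt N7153 F89700) (tt N7152 (iv D20795)) (tt N9791 F205938))
theorem Q8744 : ∀ i, i < 8744 → P i := stepQ 8743 Q8743 (allL N8743 (tt N8743 F89701) (tt N10617 (iv F128419)) (tt N10624 D30280) (tt N7153 (iv D20796)) (tt N8743 F89702) (tt N10622 (iv F128445)) (tt N7154 F89703) (tt N10623 (iv F128453)) (tt N7247 F89704) (tt N10625 D30281))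
theorem Q8745 : ∀ i, i < 8745 → P i := stepQ 8744 Q8744 (allL N8744 (tt N8744 F89705) (tt N10618 (iv F128423)) (tt N8744 F89706) (tt N10625 (iv F128465)) (tt N7157 F89707) (tt N10620 F206168) (tt N7155 F89708) (tt N9791 F205793) (tt N9790 F205794) (tt N7153 (iv D20797)))
theorem Q8746 : ∀ i, i < 8746 → P i := stepQ 8745 Q8745 (allL N8745 (tt N8745 F89709) (tt N10626 D30282) (tt N7154 (iv D20798)) (tt N8745 F89710) (tt N8745 F89711) (tt N7349 F205917) (tt N10624 (iv F128462)) (tt N7348 (iv F206055)) (tt N7249 F89712) (tt N7381 (iv F206059)))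
theorem Q8747 : ∀ i, i < 8747 → P i := stepQ 8746 Q8746 (allL N8746 (tt N8746 F89713) (tt N10619 (iv F128428)) (tt N7381 (iv F206058)) (tt N7155 F89714) (tt N8746 F89715) (tt N7191 F205923) (tt N10625 (iv F128467)) (tt N7190 (iv F206063)) (tt N10627 D30284) (tt N7154 (iv D20799)))
theorem Q8748 : ∀ i, i < 8748 → P i := stepQ 8747 Q8747 (allL N8747 (tt N8747 F89798) (tt N7662 (iv F202321)) (tt N8747 F89799) (tt N7171 F89800) (tt N9723 F205477) (tt N7159 F89801) (tt N9722 F205478) (tt N7199 F89802) (tt N8747 F89803) (tt N7158 (iv D20816)))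
theorem Q8749 : ∀ i, i < 8749 → P i := stepQ 8748 Q8748 (allL N8748 (tt N7887 (iv F201390)) (tt N7338 F89843) (tt N7162 F89844) (tt N10628 D30322) (tt N7160 (iv D20825)) (tt N9804 (iv F122127)) (tt N10629 D30323) (tt N7200 F89845) (tt N10630 D30324) (tt N7180 F89846))
theorem Q8750 : ∀ i, i < 8750 → P i := stepQ 8749 Q8749 (allL N8749 (tt N7840 (iv F196138)) (tt N7339 F89847) (tt N7163 F89848) (tt N7837 F89849) (tt N10629 (iv F128668)) (tt N8749 F89850) (tt N7160 (iv D20826)) (tt N7848 (iv F196153)) (tt N10631 D30326) (tt N7181 F89851))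
theorem Q8751 : ∀ i, i < 8751 → P i := stepQ 8750 Q8750 (allL N8750 (tt N7370 (iv F201387)) (tt N7340 F89852) (tt N7164 F89853) (tt N7358 (iv F201386)) (tt N10630 (iv F128672)) (tt N7161 F89854) (tt N10631 (iv F128683)) (tt N7202 F89855) (tt N7160 (iv D20827)) (tt N10632 D30328))
theorem Q8752 : ∀ i, i < 8752 → P i := stepQ 8751 Q8751 (allL N8751 (tt N7373 (iv F201524)) (tt N7342 F89860) (tt N7165 F89861) (tt N7359 (iv F201519)) (tt N9808 (iv F122146)) (tt N10632 (iv F128690)) (tt N8751 F89862) (tt N7203 F89863) (tt N7184 F89864) (tt N7161 (iv D20829)))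
theorem Q8753 : ∀ i, i < 8753 → P i := stepQ 8752 Q8752 (allL N8752 (tt N7970 (iv F201388)) (tt N7167 F89865) (tt N10629 (iv F128667)) (tt N9782 (iv F205712)) (tt N7163 F89866) (tt N10606 (iv F205710)) (tt N7162 (iv D20830)) (tt N9801 F205575) (tt N9843 F205576) (tt N7185 F89867))
theorem Q8754 : ∀ i, i < 8754 → P i := stepQ 8753 Q8753 (allL N8753 (tt N7674 (iv F202252)) (tt N7168 F89868) (tt N10630 (iv F128671)) (tt N9842 F205520) (tt N7164 F89869) (tt N9810 (iv F122155)) (tt N9843 F205521) (tt N7205 F89870) (tt N7162 (iv D20831)) (tt N10633 D30335))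
theorem Q8755 : ∀ i, i < 8755 → P i := stepQ 8754 Q8754 (allL N8754 (tt N7835 (iv F196133)) (tt N7169 F89871) (tt N7848 (iv F196152)) (tt N7166 F89872) (tt N9801 (iv F205419)) (tt N8754 F89873) (tt N7206 F89874) (tt N7163 (iv D20832)) (tt N9731 F205316) (tt N7187 F89875))
theorem Q8756 : ∀ i, i < 8756 → P i := stepQ 8755 Q8755 (allL N8755 (tt N7672 (iv F201472)) (tt N7170 F89876) (tt N10631 (iv F128681)) (tt N7661 (iv F201697)) (tt N9843 (iv F205417)) (tt N8755 F89877) (tt N7164 F89878) (tt N9731 F205315) (tt N7163 (iv D20833)) (tt N10634 D30337))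
theorem Q8757 : ∀ i, i < 8757 → P i := stepQ 8756 Q8756 (allL N8756 (tt N7675 (iv F202253)) (tt N7171 F89879) (tt N10632 (iv F128689)) (tt N7662 (iv F202322)) (tt N10633 (iv F128714)) (tt N7165 F89880) (tt N10634 (iv F128723)) (tt N7208 F89881) (tt N7189 F89882) (tt N7164 (iv D20834)))
theorem Q8758 : ∀ i, i < 8758 → P i := stepQ 8757 Q8757 (allL N8757 (tt N8757 F89898) (tt N10633 (iv F128713)) (tt N7352 F89899) (tt N9846 F205807) (tt N7171 F89900) (tt N9818 (iv F122192)) (tt N9847 F205808) (tt N7213 F89901) (tt N7194 F89902) (tt N7168 (iv D20839)))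
theorem Q8759 : ∀ i, i < 8759 → P i := stepQ 8758 Q8758 (allL N8758 (tt N8758 F89908) (tt N10634 (iv F128721)) (tt N7354 F89909) (tt N9722 F205555) (tt N9847 (iv F205702)) (tt N8758 F89910) (tt N7171 F89911) (tt N9735 F205556) (tt N7196 F89912) (tt N7170 (iv D20841)))
theorem Q8760 : ∀ i, i < 8760 → P i := stepQ 8759 Q8759 (allL N8759 (tt N7355 F89913) (tt N7173 F89914) (tt N8759 F89915) (tt N7838 F89916) (tt N10635 D30346) (tt N7172 (iv D20842)) (tt N7884 (iv F196650)) (tt N7216 F89917) (tt N10636 D30348) (tt N7841 F201046))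
theorem Q8761 : ∀ i, i < 8761 → P i := stepQ 8760 Q8760 (allL N8760 (tt N7341 F200986) (tt N7174 F89919) (tt N8760 F89920) (tt N7332 F200987) (tt N9822 (iv F122215)) (tt N10636 (iv F128770)) (tt N8760 F89921) (tt N7217 F89922) (tt N7172 (iv D20843)) (tt N10637 D30350))
theorem Q8762 : ∀ i, i < 8762 → P i := stepQ 8761 Q8761 (allL N8761 (tt N7180 F89923) (tt N10635 (iv F128759)) (tt N7175 F89924) (tt N10629 F196417) (tt N7173 (iv D20844)) (tt N9823 (iv F122220)) (tt N10628 (iv F196654)) (tt N7218 F89925) (tt N10638 D30353) (tt N7887 (iv F201394)))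
theorem Q8763 : ∀ i, i < 8763 → P i := stepQ 8762 Q8762 (allL N8762 (tt N7181 F89926) (tt N7884 (iv F196649)) (tt N7176 F89927) (tt N7836 F196371) (tt N10628 (iv F196653)) (tt N8762 F89929) (tt N7173 (iv D20845)) (tt N7843 (iv F196644)) (tt N10639 D30355) (tt N7840 F196372))
theorem Q8764 : ∀ i, i < 8764 → P i := stepQ 8763 Q8763 (allL N8763 (tt N7182 F89930) (tt N10636 (iv F128768)) (tt N7177 F89931) (tt N10640 D30356) (tt N10638 (iv F128790)) (tt N7174 F89932) (tt N10639 (iv F128800)) (tt N7220 F89933) (tt N7173 (iv D20846)) (tt N10641 D30357))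
theorem Q8765 : ∀ i, i < 8765 → P i := stepQ 8764 Q8764 (allL N8764 (tt N7183 F89934) (tt N7332 (iv F200856)) (tt N8764 F89935) (tt N7174 (iv D20847)) (tt N10058 (iv F200990)) (tt N10640 (iv F128803)) (tt N8764 F89936) (tt N7221 F89937) (tt N7330 F200642) (tt N10642 D30359))
theorem Q8766 : ∀ i, i < 8766 → P i := stepQ 8765 Q8765 (allL N8765 (tt N7184 F89939) (tt N10637 (iv F128778)) (tt N7178 F89940) (tt N10642 (iv F128817)) (tt N9827 (iv F122236)) (tt N10641 (iv F128808)) (tt N8765 F89941) (tt N7222 F89942) (tt N7373 (iv F201525)) (tt N7174 (iv D20848)))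
theorem Q8767 : ∀ i, i < 8767 → P i := stepQ 8766 Q8766 (allL N8766 (tt N7185 F89943) (tt N8766 F89944) (tt N10628 (iv F196652)) (tt N10603 F196378) (tt N7176 F89945) (tt N10643 D30360) (tt N7175 (iv D20849)) (tt N10607 (iv F196647)) (tt N10644 D30362) (tt N7970 F201453))
theorem Q8768 : ∀ i, i < 8768 → P i := stepQ 8767 Q8767 (allL N8767 (tt N7186 F89946) (tt N8767 F89947) (tt N10638 (iv F128789)) (tt N10645 D30363) (tt N7177 F89948) (tt N9829 (iv F122245)) (tt N10644 (iv F128830)) (tt N7224 F89949) (tt N7175 (iv D20850)) (tt N10646 D30364))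
theorem Q8769 : ∀ i, i < 8769 → P i := stepQ 8768 Q8768 (allL N8768 (tt N7187 F89950) (tt N8768 F89951) (tt N7843 (iv F196643)) (tt N7179 F89952) (tt N10607 (iv F196646)) (tt N8768 F89953) (tt N7225 F89954) (tt N7176 (iv D20851)) (tt N10647 D30365) (tt N7835 F196367))
theorem Q8770 : ∀ i, i < 8770 → P i := stepQ 8769 Q8769 (allL N8769 (tt N7188 F89955) (tt N8769 F89956) (tt N10639 (iv F128798)) (tt N8769 F89957) (tt N10644 (iv F128829)) (tt N8769 F89958) (tt N7177 F89959) (tt N10647 (iv F128844)) (tt N7176 (iv D20852)) (tt N10648 D30366))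
theorem Q8771 : ∀ i, i < 8771 → P i := stepQ 8770 Q8770 (allL N8770 (tt N7189 F89960) (tt N8770 F89961) (tt N10641 (iv F128807)) (tt N8770 F89962) (tt N10646 (iv F128837)) (tt N7178 F89963) (tt N10648 (iv F128849)) (tt N7227 F89964) (tt N7675 (iv F202254)) (tt N7177 (iv D20853)))
theorem Q8772 : ∀ i, i < 8772 → P i := stepQ 8771 Q8771 (allL N8771 (tt N10629 F196368) (tt N7365 F89965) (tt N7970 (iv F201389)) (tt N7180 (iv D20854)) (tt N7840 F89966) (tt N9831 (iv F122262)) (tt N7887 (iv F201393)) (tt N7228 F89967) (tt N10649 D30368) (tt N10628 (iv F128665)))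
theorem Q8773 : ∀ i, i < 8773 → P i := stepQ 8772 Q8772 (allL N8772 (tt N10628 (iv F196651)) (tt N7366 F89968) (tt N7185 F89969) (tt N7887 (iv F201392)) (tt N7181 F89970) (tt N10650 D30369) (tt N7180 (iv D20855)) (tt N7900 (iv F201398)) (tt N10651 D30371) (tt N10629 (iv F128669)))
theorem Q8774 : ∀ i, i < 8774 → P i := stepQ 8773 Q8773 (allL N8773 (tt N10638 (iv F128788)) (tt N7367 F89971) (tt N7186 F89972) (tt N10652 D30372) (tt N7182 F89973) (tt N9833 (iv F122270)) (tt N10651 (iv F128866)) (tt N7230 F89974) (tt N7180 (iv D20856)) (tt N10653 D30373))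
theorem Q8775 : ∀ i, i < 8775 → P i := stepQ 8774 Q8774 (allL N8774 (tt N10639 (iv F128797)) (tt N7369 F89980) (tt N7188 F89981) (tt N7886 F201010) (tt N10651 (iv F128865)) (tt N8774 F89982) (tt N7182 F89983) (tt N7898 (iv F201402)) (tt N7181 (iv D20858)) (tt N10654 D30376))
theorem Q8776 : ∀ i, i < 8776 → P i := stepQ 8775 Q8775 (allL N8775 (tt N10640 (iv F128801)) (tt N7370 F89984) (tt N8775 F89985) (tt N7182 (iv D20859)) (tt N10655 D30377) (tt N7183 F89986) (tt N7886 F201011) (tt N7233 F89987) (tt N7841 F89988) (tt N10656 D30378))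
theorem Q8777 : ∀ i, i < 8777 → P i := stepQ 8776 Q8776 (allL N8776 (tt N10641 (iv F128806)) (tt N7371 F89989) (tt N7189 F89990) (tt N10656 (iv F128893)) (tt N10653 (iv F128871)) (tt N7184 F89991) (tt N10654 (iv F128886)) (tt N7234 F89992) (tt N10632 (iv F128692)) (tt N7182 (iv D20860)))
theorem Q8778 : ∀ i, i < 8778 → P i := stepQ 8777 Q8777 (allL N8777 (tt N10058 F201118) (tt N7372 F89993) (tt N8777 F89994) (tt N9838 (iv F122290)) (tt N7183 (iv D20861)) (tt N10657 D30379) (tt N8777 F89995) (tt N7235 F89996) (tt N7842 F89997) (tt N10658 D30380))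
theorem Q8779 : ∀ i, i < 8779 → P i := stepQ 8778 Q8778 (allL N8778 (tt N10642 (iv F128815)) (tt N7373 F89998) (tt N8778 F89999) (tt N7184 F90000) (tt N10658 (iv F128902)) (tt N10656 (iv F128894)) (tt N8778 F90001) (tt N7236 F90002) (tt N10637 F201119) (tt N7183 (iv D20862)))
theorem Q8780 : ∀ i, i < 8780 → P i := stepQ 8779 Q8779 (allL N8779 (tt N10643 (iv F128820)) (tt N7190 F90003) (tt N10650 (iv F128857)) (tt N10604 (iv F127905)) (tt N8779 F90004) (tt N7185 (iv D20863)) (tt N9840 (iv F122300)) (tt N10619 F205952) (tt N10659 D30383) (tt N10606 F205953))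
theorem Q8781 : ∀ i, i < 8781 → P i := stepQ 8780 Q8780 (allL N8780 (tt N10607 (iv F196645)) (tt N7191 F90005) (tt N7900 F201694) (tt N7980 (iv F202139)) (tt N7187 F90006) (tt N10619 (iv F205719)) (tt N7238 F90007) (tt N7185 (iv D20864)) (tt N10660 D30384) (tt N9801 F205582))
theorem Q8782 : ∀ i, i < 8782 → P i := stepQ 8781 Q8781 (allL N8781 (tt N10644 (iv F128827)) (tt N7192 F90008) (tt N10651 (iv F128864)) (tt N10661 D30385) (tt N7188 F90009) (tt N10659 (iv F128915)) (tt N7186 F90010) (tt N10660 (iv F128919)) (tt N7185 (iv D20865)) (tt N10662 D30386))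
theorem Q8783 : ∀ i, i < 8783 → P i := stepQ 8782 Q8782 (allL N8782 (tt N10645 (iv F128831)) (tt N7193 F90011) (tt N10663 D30387) (tt N7186 (iv D20866)) (tt N8782 F90012) (tt N9843 (iv F122308)) (tt N10661 (iv F128922)) (tt N7240 F90013) (tt N10606 (iv F127916)) (tt N10664 D30388))
theorem Q8784 : ∀ i, i < 8784 → P i := stepQ 8783 Q8783 (allL N8783 (tt N10646 (iv F128835)) (tt N7194 F90014) (tt N10653 (iv F128870)) (tt N10664 (iv F128929)) (tt N7189 F90015) (tt N9844 (iv F122312)) (tt N10662 (iv F128925)) (tt N7241 F90016) (tt N10633 (iv F128716)) (tt N7186 (iv D20867)))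
theorem Q8785 : ∀ i, i < 8785 → P i := stepQ 8784 Q8784 (allL N8784 (tt N10647 (iv F128839)) (tt N7195 F90017) (tt N7898 F201695) (tt N8784 F90018) (tt N10660 (iv F128917)) (tt N8784 F90019) (tt N7242 F90020) (tt N7188 F90021) (tt N7187 (iv D20868)) (tt N10665 D30389))
theorem Q8786 : ∀ i, i < 8786 → P i := stepQ 8785 Q8785 (allL N8785 (tt N10648 (iv F128845)) (tt N7196 F90022) (tt N10654 (iv F128884)) (tt N8785 F90023) (tt N10662 (iv F128924)) (tt N8785 F90024) (tt N7189 F90025) (tt N10665 (iv F128936)) (tt N10634 (iv F128724)) (tt N7188 (iv D20869)))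
theorem Q8787 : ∀ i, i < 8787 → P i := stepQ 8786 Q8786 (allL N8786 (tt N8786 F90030) (tt N10659 (iv F128913)) (tt N7382 F90031) (tt N9816 (iv F206023)) (tt N8786 F90032) (tt N7192 F90033) (tt N9817 F205817) (tt N10627 F206215) (tt N7190 (iv D20871)) (tt N10666 D30393))
theorem Q8788 : ∀ i, i < 8788 → P i := stepQ 8787 Q8787 (allL N8787 (tt N8787 F90034) (tt N10660 (iv F128916)) (tt N7383 F90035) (tt N10667 D30394) (tt N7195 F90036) (tt N10627 (iv F206067)) (tt N7246 F90037) (tt N7192 F90038) (tt N7191 (iv D20872)) (tt N9923 F205930))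
theorem Q8789 : ∀ i, i < 8789 → P i := stepQ 8788 Q8788 (allL N8788 (tt N8788 F90039) (tt N10661 (iv F128920)) (tt N10086 (iv F206052)) (tt N7192 (iv D20873)) (tt N8788 F90040) (tt N9816 (iv F206024)) (tt N7193 F90041) (tt N10667 (iv F128955)) (tt N9814 (iv F206062)) (tt N10668 D30397))
theorem Q8790 : ∀ i, i < 8790 → P i := stepQ 8789 Q8789 (allL N8789 (tt N8789 F90042) (tt N10662 (iv F128923)) (tt N7385 F90043) (tt N10668 (iv F128966)) (tt N7196 F90044) (tt N10666 (iv F128951)) (tt N7194 F90045) (tt N9923 F205925) (tt N9847 F205926) (tt N7192 (iv D20874)))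
theorem Q8791 : ∀ i, i < 8791 → P i := stepQ 8790 Q8790 (allL N8790 (tt N8790 F90046) (tt N10669 D30398) (tt N7193 (iv D20875)) (tt N7386 F90047) (tt N8790 F90048) (tt N7350 F205916) (tt N10086 (iv F206053)) (tt N7249 F90049) (tt N7348 (iv F206056)) (tt N10670 D30399))
theorem Q8792 : ∀ i, i < 8792 → P i := stepQ 8791 Q8791 (allL N8791 (tt N8791 F90050) (tt N10664 (iv F128928)) (tt N10670 (iv F128973)) (tt N7194 F90051) (tt N8791 F90052) (tt N9847 (iv F122347)) (tt N10668 (iv F128968)) (tt N7250 F90053) (tt N10666 (iv F206066)) (tt N7193 (iv D20876)))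
theorem Q8793 : ∀ i, i < 8793 → P i := stepQ 8792 Q8792 (allL N8792 (tt N8792 F90054) (tt N10665 (iv F128932)) (tt N7388 F90055) (tt N8792 F90056) (tt N9923 (iv F205704)) (tt N8792 F90057) (tt N7251 F90058) (tt N7196 F90059) (tt N9735 F205557) (tt N7195 (iv D20877)))
theorem Q8794 : ∀ i, i < 8794 → P i := stepQ 8793 Q8793 (allL N8793 (tt N8793 F90154) (tt N7697 (iv F203199)) (tt N8793 F90155) (tt N9848 (iv F205375)) (tt N7199 F90156) (tt N8793 F90157) (tt N9736 F205255) (tt N9723 (iv F205371)) (tt N8793 F90158) (tt N7197 (iv D20900)))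
theorem Q8795 : ∀ i, i < 8795 → P i := stepQ 8794 Q8794 (allL N8794 (tt N8794 F90164) (tt N7699 (iv F203098)) (tt N8794 F90165) (tt N7215 F90166) (tt N9736 F205249) (tt N7256 F90167) (tt N7199 F90168) (tt N9734 F205250) (tt N8794 F90169) (tt N7198 (iv D20902)))
theorem Q8796 : ∀ i, i < 8796 → P i := stepQ 8795 Q8795 (allL N8795 (tt N7900 (iv F201396)) (tt N7399 F90217) (tt N10607 (iv F128189)) (tt N7200 (iv D20915)) (tt N7843 F90218) (tt N9849 (iv F122410)) (tt N10671 D30458) (tt N10628 (iv F128664)) (tt N10672 D30459) (tt N7228 F90219))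
theorem Q8797 : ∀ i, i < 8797 → P i := stepQ 8796 Q8796 (allL N8796 (tt N7901 (iv F202108)) (tt N7400 F90220) (tt N7204 F90221) (tt N10671 (iv F129217)) (tt N7201 F90222) (tt N10673 D30460) (tt N7200 (iv D20916)) (tt N10674 D30461) (tt N10675 D30462) (tt N7229 F90223))
theorem Q8798 : ∀ i, i < 8798 → P i := stepQ 8797 Q8797 (allL N8797 (tt N7447 (iv F202249)) (tt N7401 F90224) (tt N7205 F90225) (tt N10676 D30463) (tt N7202 F90226) (tt N9851 (iv F122419)) (tt N10675 (iv F129233)) (tt N10630 (iv F128673)) (tt N7200 (iv D20917)) (tt N10677 D30464))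
theorem Q8799 : ∀ i, i < 8799 → P i := stepQ 8798 Q8798 (allL N8798 (tt N7851 (iv F196637)) (tt N7402 F90227) (tt N7206 F90228) (tt N7845 F90229) (tt N10674 (iv F129228)) (tt N7260 F90230) (tt N7848 F196401) (tt N7201 (iv D20918)) (tt N10678 D30465) (tt N7231 F90231))
theorem Q8800 : ∀ i, i < 8800 → P i := stepQ 8799 Q8799 (allL N8799 (tt N7445 (iv F202205)) (tt N7403 F90232) (tt N7207 F90233) (tt N7428 (iv F202210)) (tt N10675 (iv F129232)) (tt N7261 F90234) (tt N7202 F90235) (tt N10678 (iv F129242)) (tt N7201 (iv D20919)) (tt N10679 D30467))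
theorem Q8801 : ∀ i, i < 8801 → P i := stepQ 8800 Q8800 (allL N8800 (tt N7448 (iv F202250)) (tt N7405 F90239) (tt N7208 F90240) (tt N7429 (iv F202247)) (tt N10677 (iv F129237)) (tt N7203 F90241) (tt N10679 (iv F129250)) (tt N10632 (iv F128691)) (tt N7234 F90242) (tt N7202 (iv D20921)))
theorem Q8802 : ∀ i, i < 8802 → P i := stepQ 8801 Q8801 (allL N8801 (tt N7983 (iv F202998)) (tt N7209 F90249) (tt N10673 (iv F129223)) (tt N10610 (iv F128222)) (tt N7263 F90250) (tt N7204 (iv D20924)) (tt N9857 (iv F122448)) (tt N10680 D30473) (tt N10681 D30474) (tt N7237 F90251))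
theorem Q8803 : ∀ i, i < 8803 → P i := stepQ 8802 Q8802 (allL N8802 (tt N7982 (iv F202101)) (tt N7210 F90252) (tt N10674 (iv F129227)) (tt N9800 (iv F205421)) (tt N7206 F90253) (tt N10680 (iv F129268)) (tt N9801 (iv F205420)) (tt N7204 (iv D20925)) (tt N9910 F205310) (tt N7238 F90254))
theorem Q8804 : ∀ i, i < 8804 → P i := stepQ 8803 Q8803 (allL N8803 (tt N7718 (iv F203000)) (tt N7211 F90255) (tt N10675 (iv F129231)) (tt N9909 F205280) (tt N7207 F90256) (tt N10681 (iv F129272)) (tt N7205 F90257) (tt N9910 F205281) (tt N7204 (iv D20926)) (tt N10682 D30477))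
theorem Q8805 : ∀ i, i < 8805 → P i := stepQ 8804 Q8804 (allL N8804 (tt N7714 (iv F203136)) (tt N7212 F90258) (tt N10683 D30478) (tt N7205 (iv D20927)) (tt N7696 (iv F203198)) (tt N9860 (iv F122458)) (tt N9909 F205277) (tt N9842 (iv F205395)) (tt N9841 (iv F205389)) (tt N10684 D30479))
theorem Q8806 : ∀ i, i < 8806 → P i := stepQ 8805 Q8805 (allL N8805 (tt N7721 (iv F203138)) (tt N7213 F90259) (tt N10677 (iv F129236)) (tt N10684 (iv F129283)) (tt N7208 F90260) (tt N9861 (iv F122461)) (tt N10682 (iv F129280)) (tt N10633 (iv F128715)) (tt N7241 F90261) (tt N7205 (iv D20928)))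
theorem Q8807 : ∀ i, i < 8807 → P i := stepQ 8806 Q8806 (allL N8806 (tt N7716 (iv F202187)) (tt N7214 F90262) (tt N10678 (iv F129240)) (tt N7698 (iv F202189)) (tt N9910 (iv F205204)) (tt N7268 F90263) (tt N9731 (iv F205206)) (tt N7207 F90264) (tt N7206 (iv D20929)) (tt N10685 D30480))
theorem Q8808 : ∀ i, i < 8808 → P i := stepQ 8807 Q8807 (allL N8807 (tt N7719 (iv F203090)) (tt N7215 F90265) (tt N10679 (iv F129248)) (tt N7699 (iv F203099)) (tt N10682 (iv F129279)) (tt N7269 F90266) (tt N7208 F90267) (tt N10685 (iv F129286)) (tt N7243 F90268) (tt N7207 (iv D20930)))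
theorem Q8809 : ∀ i, i < 8809 → P i := stepQ 8808 Q8808 (allL N8808 (tt N8808 F90269) (tt N10680 (iv F129266)) (tt N7414 F90270) (tt N9803 (iv F205689)) (tt N7270 F90271) (tt N7210 F90272) (tt N10622 (iv F205688)) (tt N7209 (iv D20931)) (tt N9917 F205530) (tt N7244 F90273))
theorem Q8810 : ∀ i, i < 8810 → P i := stepQ 8809 Q8809 (allL N8809 (tt N8809 F90274) (tt N10681 (iv F129270)) (tt N7415 F90275) (tt N9916 F205479) (tt N7271 F90276) (tt N7211 F90277) (tt N9865 (iv F122481)) (tt N9917 F205480) (tt N7209 (iv D20932)) (tt N10686 D30484))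
theorem Q8811 : ∀ i, i < 8811 → P i := stepQ 8810 Q8810 (allL N8810 (tt N8810 F90284) (tt N10682 (iv F129278)) (tt N7418 F90285) (tt N9919 F205481) (tt N7215 F90286) (tt N10686 (iv F129302)) (tt N7213 F90287) (tt N9920 F205482) (tt N7248 F90288) (tt N7211 (iv D20935)))
theorem Q8812 : ∀ i, i < 8812 → P i := stepQ 8811 Q8811 (allL N8811 (tt N8811 F90291) (tt N10684 (iv F129282)) (tt N10137 (iv F205671)) (tt N7213 F90292) (tt N9848 F205485) (tt N9870 (iv F122501)) (tt N9919 F205486) (tt N9846 (iv F205667)) (tt N10687 D30491) (tt N7212 (iv D20937)))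
theorem Q8813 : ∀ i, i < 8813 → P i := stepQ 8812 Q8812 (allL N8812 (tt N8812 F90293) (tt N10685 (iv F129284)) (tt N7421 F90294) (tt N9734 F205300) (tt N9920 (iv F205407)) (tt N7277 F90295) (tt N9735 (iv F205412)) (tt N7215 F90296) (tt N7251 F90297) (tt N7214 (iv D20938)))
theorem Q8814 : ∀ i, i < 8814 → P i := stepQ 8813 Q8813 (allL N8813 (tt N7422 F90298) (tt N7218 F90299) (tt N8813 F90300) (tt N10688 D30492) (tt N7216 (iv D20939)) (tt N9872 (iv F122511)) (tt N10689 D30493) (tt N10635 (iv F128761)) (tt N10690 D30494) (tt N7854 (iv F201468)))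
theorem Q8815 : ∀ i, i < 8815 → P i := stepQ 8814 Q8814 (allL N8814 (tt N7423 F90301) (tt N7219 F90302) (tt N8814 F90303) (tt N7847 F90304) (tt N10689 (iv F129329)) (tt N7279 F90305) (tt N7216 (iv D20940)) (tt N7892 (iv F197395)) (tt N10691 D30496) (tt N7853 F201820))
theorem Q8816 : ∀ i, i < 8816 → P i := stepQ 8815 Q8815 (allL N8815 (tt N7404 (iv F201449)) (tt N7220 F90307) (tt N8815 F90308) (tt N7392 (iv F201456)) (tt N10690 (iv F129333)) (tt N7217 F90309) (tt N10691 (iv F129343)) (tt N10636 (iv F128771)) (tt N7216 (iv D20941)) (tt N10692 D30498))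
theorem Q8817 : ∀ i, i < 8817 → P i := stepQ 8816 Q8816 (allL N8816 (tt N7406 (iv F201645)) (tt N7222 F90315) (tt N8816 F90316) (tt N7393 (iv F201649)) (tt N9876 (iv F122528)) (tt N10692 (iv F129351)) (tt N7281 F90317) (tt N10637 (iv F128781)) (tt N7236 (iv F201510)) (tt N7217 (iv D20943)))
theorem Q8818 : ∀ i, i < 8818 → P i := stepQ 8817 Q8817 (allL N8817 (tt N7228 F90318) (tt N10688 (iv F129324)) (tt N9801 F205571) (tt N7218 (iv D20944)) (tt N7848 F90319) (tt N9877 (iv F122532)) (tt N10674 (iv F196659)) (tt N10629 F196405) (tt N9912 F205572) (tt N7900 F201689))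
theorem Q8819 : ∀ i, i < 8819 → P i := stepQ 8818 Q8818 (allL N8818 (tt N7229 F90320) (tt N10689 (iv F129327)) (tt N7223 F90321) (tt N10674 F197082) (tt N7219 F90322) (tt N10693 D30504) (tt N7218 (iv D20945)) (tt N10671 (iv F197399)) (tt N10694 D30506) (tt N7901 (iv F202112)))
theorem Q8820 : ∀ i, i < 8820 → P i := stepQ 8819 Q8819 (allL N8819 (tt N7230 F90323) (tt N10690 (iv F129331)) (tt N7224 F90324) (tt N10695 D30507) (tt N7220 F90325) (tt N9879 (iv F122539)) (tt N10694 (iv F129379)) (tt N10638 (iv F128791)) (tt N7218 (iv D20946)) (tt N10696 D30508))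
theorem Q8821 : ∀ i, i < 8821 → P i := stepQ 8820 Q8820 (allL N8820 (tt N7231 F90326) (tt N7892 (iv F197394)) (tt N7225 F90327) (tt N7844 F197035) (tt N10671 (iv F197398)) (tt N7285 F90329) (tt N7843 F197036) (tt N7219 (iv D20947)) (tt N10697 D30509) (tt N7851 F197037))
theorem Q8822 : ∀ i, i < 8822 → P i := stepQ 8821 Q8821 (allL N8821 (tt N7232 F90330) (tt N10691 (iv F129340)) (tt N7226 F90331) (tt N10698 D30510) (tt N10694 (iv F129378)) (tt N7286 F90332) (tt N7220 F90333) (tt N10697 (iv F129387)) (tt N7219 (iv D20948)) (tt N10699 D30511))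
theorem Q8823 : ∀ i, i < 8823 → P i := stepQ 8822 Q8822 (allL N8822 (tt N7233 F90334) (tt N7392 (iv F201455)) (tt N8822 F90335) (tt N7220 (iv D20949)) (tt N10700 D30512) (tt N7221 F90336) (tt N10698 (iv F129391)) (tt N10640 (iv F128804)) (tt N7389 F201333) (tt N10701 D30513))
theorem Q8824 : ∀ i, i < 8824 → P i := stepQ 8823 Q8823 (allL N8823 (tt N7234 F90338) (tt N10692 (iv F129349)) (tt N7227 F90339) (tt N10701 (iv F129402)) (tt N10696 (iv F129383)) (tt N7222 F90340) (tt N10699 (iv F129396)) (tt N10641 (iv F128809)) (tt N7448 (iv F202251)) (tt N7220 (iv D20950)))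
theorem Q8825 : ∀ i, i < 8825 → P i := stepQ 8824 Q8824 (allL N8824 (tt N7236 F90345) (tt N7393 (iv F201648)) (tt N8824 F90346) (tt N7222 F90347) (tt N10175 (iv F201704)) (tt N10701 (iv F129403)) (tt N7289 F90348) (tt N10642 (iv F128819)) (tt N7406 (iv F201639)) (tt N7221 (iv D20952)))
theorem Q8826 : ∀ i, i < 8826 → P i := stepQ 8825 Q8825 (allL N8825 (tt N7237 F90349) (tt N8825 F90350) (tt N10693 (iv F129371)) (tt N10612 (iv F128330)) (tt N7290 F90351) (tt N7223 (iv D20953)) (tt N9886 (iv F122564)) (tt N10702 D30517) (tt N10703 D30518) (tt N7983 (iv F202999)))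
theorem Q8827 : ∀ i, i < 8827 → P i := stepQ 8826 Q8826 (allL N8826 (tt N7238 F90352) (tt N8826 F90353) (tt N10671 (iv F197397)) (tt N10608 F197045) (tt N7225 F90354) (tt N10702 (iv F129418)) (tt N10607 F197046) (tt N7223 (iv D20954)) (tt N10704 D30519) (tt N7982 (iv F202105)))
theorem Q8828 : ∀ i, i < 8828 → P i := stepQ 8827 Q8827 (allL N8827 (tt N7239 F90355) (tt N8827 F90356) (tt N10694 (iv F129377)) (tt N10705 D30520) (tt N7226 F90357) (tt N10703 (iv F129422)) (tt N7224 F90358) (tt N10704 (iv F129426)) (tt N7223 (iv D20955)) (tt N10706 D30521))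
theorem Q8829 : ∀ i, i < 8829 → P i := stepQ 8828 Q8828 (allL N8828 (tt N7240 F90359) (tt N8828 F90360) (tt N9893 (iv F205443)) (tt N7224 (iv D20956)) (tt N8828 F90361) (tt N9889 (iv F122574)) (tt N10705 (iv F129430)) (tt N10645 (iv F128834)) (tt N9795 (iv F205444)) (tt N10707 D30523))
theorem Q8830 : ∀ i, i < 8830 → P i := stepQ 8829 Q8829 (allL N8829 (tt N7241 F90362) (tt N8829 F90363) (tt N10696 (iv F129382)) (tt N10707 (iv F129439)) (tt N7227 F90364) (tt N9890 (iv F122578)) (tt N10706 (iv F129434)) (tt N10646 (iv F128838)) (tt N7721 (iv F203139)) (tt N7224 (iv D20957)))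
theorem Q8831 : ∀ i, i < 8831 → P i := stepQ 8830 Q8830 (allL N8830 (tt N7242 F90365) (tt N8830 F90366) (tt N10697 (iv F129385)) (tt N8830 F90367) (tt N10704 (iv F129425)) (tt N7295 F90368) (tt N10647 (iv F128843)) (tt N7226 F90369) (tt N7225 (iv D20958)) (tt N10708 D30524))
theorem Q8832 : ∀ i, i < 8832 → P i := stepQ 8831 Q8831 (allL N8831 (tt N7243 F90370) (tt N8831 F90371) (tt N10699 (iv F129394)) (tt N8831 F90372) (tt N10706 (iv F129433)) (tt N7296 F90373) (tt N7227 F90374) (tt N10708 (iv F129445)) (tt N7719 (iv F203091)) (tt N7226 (iv D20959)))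
theorem Q8833 : ∀ i, i < 8833 → P i := stepQ 8832 Q8832 (allL N8832 (tt N10674 F197032) (tt N7437 F90375) (tt N7982 (iv F202102)) (tt N7229 F90376) (tt N7851 F90377) (tt N10709 D30525) (tt N7228 (iv D20960)) (tt N7901 (iv F202111)) (tt N10710 D30527) (tt N10671 (iv F129219)))
theorem Q8834 : ∀ i, i < 8834 → P i := stepQ 8833 Q8833 (allL N8833 (tt N9912 (iv F205414)) (tt N7438 F90378) (tt N9889 F205341) (tt N10711 D30528) (tt N7852 F90379) (tt N9893 (iv F122592)) (tt N10710 (iv F129453)) (tt N10649 (iv F128855)) (tt N7228 (iv D20961)) (tt N10712 D30529))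
theorem Q8835 : ∀ i, i < 8835 → P i := stepQ 8834 Q8834 (allL N8834 (tt N10693 (iv F129370)) (tt N7439 F90380) (tt N7237 F90381) (tt N10709 (iv F129447)) (tt N7299 F90382) (tt N7229 (iv D20962)) (tt N9894 (iv F122596)) (tt N10713 D30530) (tt N10714 D30531) (tt N10673 (iv F129225)))
theorem Q8836 : ∀ i, i < 8836 → P i := stepQ 8835 Q8835 (allL N8835 (tt N10671 (iv F197396)) (tt N7440 F90383) (tt N7238 F90384) (tt N7901 (iv F202110)) (tt N7231 F90385) (tt N10713 (iv F129461)) (tt N7900 F201716) (tt N7229 (iv D20963)) (tt N10715 D30532) (tt N10674 (iv F129229)))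
theorem Q8837 : ∀ i, i < 8837 → P i := stepQ 8836 Q8836 (allL N8836 (tt N10694 (iv F129376)) (tt N7441 F90386) (tt N7239 F90387) (tt N10716 D30533) (tt N7232 F90388) (tt N10714 (iv F129465)) (tt N7230 F90389) (tt N10715 (iv F129469)) (tt N7229 (iv D20964)) (tt N10717 D30534))
theorem Q8838 : ∀ i, i < 8838 → P i := stepQ 8837 Q8837 (allL N8837 (tt N10695 (iv F129380)) (tt N7442 F90390) (tt N10718 D30535) (tt N7230 (iv D20965)) (tt N10719 D30536) (tt N9897 (iv F122605)) (tt N10716 (iv F129471)) (tt N10652 (iv F128868)) (tt N10711 (iv F129455)) (tt N10720 D30537))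
theorem Q8839 : ∀ i, i < 8839 → P i := stepQ 8838 Q8838 (allL N8838 (tt N10696 (iv F129381)) (tt N7443 F90391) (tt N7241 F90392) (tt N10720 (iv F129480)) (tt N7234 F90393) (tt N9898 (iv F122609)) (tt N10717 (iv F129475)) (tt N10653 (iv F128872)) (tt N10677 (iv F129238)) (tt N7230 (iv D20966)))
theorem Q8840 : ∀ i, i < 8840 → P i := stepQ 8839 Q8839 (allL N8839 (tt N10697 (iv F129384)) (tt N7444 F90394) (tt N7242 F90395) (tt N7897 F201717) (tt N10715 (iv F129468)) (tt N7304 F90396) (tt N7898 F201718) (tt N7232 F90397) (tt N7231 (iv D20967)) (tt N10721 D30539))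
theorem Q8841 : ∀ i, i < 8841 → P i := stepQ 8840 Q8840 (allL N8840 (tt N10698 (iv F129388)) (tt N7445 F90398) (tt N8840 F90399) (tt N7232 (iv D20968)) (tt N10722 D30540) (tt N7305 F90400) (tt N7233 F90401) (tt N7897 F201810) (tt N7853 F90402) (tt N10723 D30541))
theorem Q8842 : ∀ i, i < 8842 → P i := stepQ 8841 Q8841 (allL N8841 (tt N10699 (iv F129393)) (tt N7446 F90403) (tt N7243 F90404) (tt N10723 (iv F129496)) (tt N10717 (iv F129474)) (tt N7306 F90405) (tt N7234 F90406) (tt N10721 (iv F129489)) (tt N10679 (iv F129251)) (tt N7232 (iv D20969)))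
theorem Q8843 : ∀ i, i < 8843 → P i := stepQ 8842 Q8842 (allL N8842 (tt N10700 (iv F129397)) (tt N7447 F90407) (tt N8842 F90408) (tt N10719 (iv F129478)) (tt N7233 (iv D20970)) (tt N10724 D30542) (tt N10722 (iv F129492)) (tt N10655 (iv F128889)) (tt N7854 F90409) (tt N10725 D30543))
theorem Q8844 : ∀ i, i < 8844 → P i := stepQ 8843 Q8843 (allL N8843 (tt N10701 (iv F129400)) (tt N7448 F90410) (tt N8843 F90411) (tt N7234 F90412) (tt N10725 (iv F129505)) (tt N7236 F90413) (tt N10723 (iv F129498)) (tt N10656 (iv F128895)) (tt N10692 F201811) (tt N7233 (iv D20971)))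
theorem Q8845 : ∀ i, i < 8845 → P i := stepQ 8844 Q8844 (allL N8844 (tt N10174 F201944) (tt N7449 F90414) (tt N8844 F90415) (tt N9904 (iv F122628)) (tt N10724 (iv F129501)) (tt N7235 (iv D20972)) (tt N10726 D30545) (tt N10657 (iv F128898)) (tt N7855 F90416) (tt N10727 D30546))
theorem Q8846 : ∀ i, i < 8846 → P i := stepQ 8845 Q8845 (allL N8845 (tt N10175 F201945) (tt N7450 F90417) (tt N8845 F90418) (tt N9905 (iv F122631)) (tt N7236 F90419) (tt N10727 (iv F129516)) (tt N7310 F90420) (tt N10658 (iv F128904)) (tt N9876 F201946) (tt N7235 (iv D20973)))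
theorem Q8847 : ∀ i, i < 8847 → P i := stepQ 8846 Q8846 (allL N8846 (tt N10702 (iv F129415)) (tt N7244 F90425) (tt N10713 (iv F129459)) (tt N10614 (iv F128410)) (tt N7311 F90426) (tt N7238 F90427) (tt N10728 D30548) (tt N7237 (iv D20975)) (tt N10729 D30549) (tt N10680 (iv F129269)))
theorem Q8848 : ∀ i, i < 8848 → P i := stepQ 8847 Q8847 (allL N8847 (tt N10703 (iv F129419)) (tt N7245 F90428) (tt N10714 (iv F129463)) (tt N10730 D30550) (tt N7312 F90429) (tt N7239 F90430) (tt N9908 (iv F122643)) (tt N10729 (iv F129527)) (tt N7237 (iv D20976)) (tt N10731 D30551))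
theorem Q8849 : ∀ i, i < 8849 → P i := stepQ 8848 Q8848 (allL N8848 (tt N10704 (iv F129423)) (tt N7246 F90431) (tt N10715 (iv F129467)) (tt N10732 D30552) (tt N7242 F90432) (tt N10729 (iv F129526)) (tt N10660 (iv F128918)) (tt N7239 F90433) (tt N7238 (iv D20977)) (tt N10733 D30553))
theorem Q8850 : ∀ i, i < 8850 → P i := stepQ 8849 Q8849 (allL N8849 (tt N10705 (iv F129427)) (tt N7247 F90434) (tt N10734 D30554) (tt N7239 (iv D20978)) (tt N8849 F90435) (tt N10730 (iv F129529)) (tt N7240 F90436) (tt N10732 (iv F129535)) (tt N10617 (iv F128422)) (tt N10735 D30555))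
theorem Q8851 : ∀ i, i < 8851 → P i := stepQ 8850 Q8850 (allL N8850 (tt N10706 (iv F129431)) (tt N7248 F90437) (tt N10717 (iv F129473)) (tt N10735 (iv F129542)) (tt N7243 F90438) (tt N10731 (iv F129532)) (tt N7241 F90439) (tt N10733 (iv F129538)) (tt N10682 (iv F129281)) (tt N7239 (iv D20979)))
theorem Q8852 : ∀ i, i < 8852 → P i := stepQ 8851 Q8851 (allL N8851 (tt N9893 F205565) (tt N10736 D30556) (tt N7240 (iv D20980)) (tt N10718 (iv F129476)) (tt N8851 F90440) (tt N9912 (iv F122652)) (tt N10734 (iv F129540)) (tt N10663 (iv F128927)) (tt N9877 (iv F205708)) (tt N10737 D30557))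
theorem Q8853 : ∀ i, i < 8853 → P i := stepQ 8852 Q8852 (allL N8852 (tt N10707 (iv F129437)) (tt N7250 F90441) (tt N10737 (iv F129547)) (tt N7241 F90442) (tt N8852 F90443) (tt N9913 (iv F122655)) (tt N10735 (iv F129544)) (tt N10664 (iv F128931)) (tt N10738 D30558) (tt N7240 (iv D20981)))
theorem Q8854 : ∀ i, i < 8854 → P i := stepQ 8853 Q8853 (allL N8853 (tt N10708 (iv F129441)) (tt N7251 F90444) (tt N10721 (iv F129487)) (tt N8853 F90445) (tt N10733 (iv F129537)) (tt N7318 F90446) (tt N10665 (iv F128935)) (tt N7243 F90447) (tt N10685 (iv F129287)) (tt N7242 (iv D20982)))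
theorem Q8855 : ∀ i, i < 8855 → P i := stepQ 8854 Q8854 (allL N8854 (tt N8854 F90448) (tt N10728 (iv F129522)) (tt N7459 F90449) (tt N10620 (iv F128437)) (tt N7319 F90450) (tt N10625 (iv F206045)) (tt N7244 (iv D20983)) (tt N9915 (iv F122662)) (tt N10739 D30559) (tt N10622 F205895))
theorem Q8856 : ∀ i, i < 8856 → P i := stepQ 8855 Q8855 (allL N8855 (tt N8855 F90451) (tt N10729 (iv F129524)) (tt N7460 F90452) (tt N10740 D30560) (tt N7320 F90453) (tt N7246 F90454) (tt N10739 (iv F129554)) (tt N7245 F90455) (tt N7244 (iv D20984)) (tt N10741 D30561))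
theorem Q8857 : ∀ i, i < 8857 → P i := stepQ 8856 Q8856 (allL N8856 (tt N8856 F90456) (tt N10730 (iv F129528)) (tt N10742 D30562) (tt N7245 (iv D20985)) (tt N10743 D30563) (tt N7247 F90457) (tt N9917 (iv F122670)) (tt N10740 (iv F129557)) (tt N10622 (iv F128446)) (tt N10744 D30564))
theorem Q8858 : ∀ i, i < 8858 → P i := stepQ 8857 Q8857 (allL N8857 (tt N8857 F90458) (tt N10731 (iv F129530)) (tt N7462 F90459) (tt N10744 (iv F129570)) (tt N7322 F90460) (tt N7248 F90461) (tt N9918 (iv F122675)) (tt N10741 (iv F129562)) (tt N10686 (iv F129303)) (tt N7245 (iv D20986)))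
theorem Q8859 : ∀ i, i < 8859 → P i := stepQ 8858 Q8858 (allL N8858 (tt N8858 F90462) (tt N10732 (iv F129533)) (tt N10745 D30565) (tt N7246 (iv D20987)) (tt N8858 F90463) (tt N10740 (iv F129556)) (tt N10667 (iv F128954)) (tt N7247 F90464) (tt N10623 (iv F128454)) (tt N10746 D30566))
theorem Q8860 : ∀ i, i < 8860 → P i := stepQ 8859 Q8859 (allL N8859 (tt N8859 F90465) (tt N10733 (iv F129536)) (tt N7464 F90466) (tt N10746 (iv F129577)) (tt N7251 F90467) (tt N10741 (iv F129561)) (tt N9923 (iv F205705)) (tt N7248 F90468) (tt N9920 F205553) (tt N7246 (iv D20988)))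
theorem Q8861 : ∀ i, i < 8861 → P i := stepQ 8860 Q8860 (allL N8860 (tt N8860 F90469) (tt N10747 D30567) (tt N7247 (iv D20989)) (tt N7465 F90470) (tt N8860 F90471) (tt N10742 (iv F129565)) (tt N7249 F90472) (tt N10745 (iv F129575)) (tt N10624 (iv F128463)) (tt N10748 D30568))
theorem Q8862 : ∀ i, i < 8862 → P i := stepQ 8861 Q8861 (allL N8861 (tt N8861 F90473) (tt N10735 (iv F129541)) (tt N10748 (iv F129584)) (tt N7248 F90474) (tt N8861 F90475) (tt N10744 (iv F129571)) (tt N7250 F90476) (tt N10746 (iv F129579)) (tt N10749 D30569) (tt N7247 (iv D20990)))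
theorem Q8863 : ∀ i, i < 8863 → P i := stepQ 8862 Q8862 (allL N8862 (tt N10750 D30570) (tt N7249 (iv D20991)) (tt N10736 (iv F129545)) (tt N7467 F90477) (tt N8862 F90478) (tt N9921 (iv F122689)) (tt N10747 (iv F129582)) (tt N10669 (iv F128971)) (tt N10626 (iv F128470)) (tt N10751 D30571))
theorem Q8864 : ∀ i, i < 8864 → P i := stepQ 8863 Q8863 (allL N8863 (tt N8863 F90479) (tt N10751 (iv F129594)) (tt N7250 F90480) (tt N7468 F90481) (tt N8863 F90482) (tt N9922 (iv F122693)) (tt N10748 (iv F129587)) (tt N10670 (iv F128976)) (tt N10752 D30572) (tt N7249 (iv D20992)))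
theorem Q8865 : ∀ i, i < 8865 → P i := stepQ 8864 Q8864 (allL N8864 (tt N8864 F90483) (tt N10738 (iv F129549)) (tt N10752 (iv F129598)) (tt N10687 (iv F129322)) (tt N8864 F90484) (tt N9923 (iv F122695)) (tt N10749 (iv F129590)) (tt N10666 (iv F206065)) (tt N7250 (iv D20993)) (tt N10627 (iv F128477)))
theorem Q8866 : ∀ i, i < 8866 → P i := stepQ 8865 Q8865 (allL N8865 (tt N8865 F90629) (tt N7750 (iv F203886)) (tt N10753 D30623) (tt N7252 (iv D21025)) (tt N7273 F90630) (tt N9761 F205096) (tt N7253 F90631) (tt N9759 F205097) (tt N8865 F90632) (tt N10754 D30624))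
theorem Q8867 : ∀ i, i < 8867 → P i := stepQ 8866 Q8866 (allL N8866 (tt N8866 F90633) (tt N7751 (iv F203889)) (tt N8866 F90634) (tt N10754 (iv F129842)) (tt N7256 F90635) (tt N9762 F205098) (tt N7254 F90636) (tt N9760 F205099) (tt N8866 F90637) (tt N7252 (iv D21026)))
theorem Q8868 : ∀ i, i < 8868 → P i := stepQ 8867 Q8867 (allL N8867 (tt N8867 F90638) (tt N10755 D30625) (tt N7253 (iv D21027)) (tt N8867 F90639) (tt N7275 F90640) (tt N8867 F90641) (tt N10753 (iv F129839)) (tt N8867 F90642) (tt N8867 F90643) (tt N10756 D30626))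
theorem Q8869 : ∀ i, i < 8869 → P i := stepQ 8868 Q8868 (allL N8868 (tt N8868 F90644) (tt N7753 (iv F204011)) (tt N10756 (iv F129851)) (tt N7254 F90645) (tt N7276 F90646) (tt N8868 F90647) (tt N10754 (iv F129844)) (tt N8868 F90648) (tt N10757 D30627) (tt N7253 (iv D21028)))
theorem Q8870 : ∀ i, i < 8870 → P i := stepQ 8869 Q8869 (allL N8869 (tt N8869 F90649) (tt N7754 (iv F203095)) (tt N8869 F90650) (tt N7277 F90651) (tt N9760 F205117) (tt N9734 (iv F205202)) (tt N8869 F90652) (tt N7256 F90653) (tt N8869 F90654) (tt N7255 (iv D21029)))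
theorem Q8871 : ∀ i, i < 8871 → P i := stepQ 8870 Q8870 (allL N8870 (tt N7927 (iv F203144)) (tt N7483 F90746) (tt N8870 F90747) (tt N7258 F90748) (tt N7856 F90749) (tt N10758 D30661) (tt N7257 (iv D21051)) (tt N10759 D30662) (tt N10760 D30663) (tt N7297 F90750))
theorem Q8872 : ∀ i, i < 8872 → P i := stepQ 8871 Q8871 (allL N8871 (tt N7925 (iv F203275)) (tt N7484 F90751) (tt N8871 F90752) (tt N10761 D30664) (tt N7857 F90753) (tt N9925 (iv F122809)) (tt N10760 (iv F130013)) (tt N8871 F90754) (tt N7257 (iv D21052)) (tt N10762 D30665))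
theorem Q8873 : ∀ i, i < 8873 → P i := stepQ 8872 Q8872 (allL N8872 (tt N7930 (iv F203002)) (tt N7485 F90755) (tt N7263 F90756) (tt N10758 (iv F130002)) (tt N10673 (iv F129224)) (tt N7258 (iv D21053)) (tt N9926 (iv F122813)) (tt N10763 D30666) (tt N10764 D30667) (tt N7299 F90757))
theorem Q8874 : ∀ i, i < 8874 → P i := stepQ 8873 Q8873 (allL N8873 (tt N7929 (iv F202291)) (tt N7486 F90758) (tt N7264 F90759) (tt N10759 (iv F130006)) (tt N7260 F90760) (tt N10763 (iv F130024)) (tt N8873 F90761) (tt N7258 (iv D21054)) (tt N10765 D30668) (tt N7300 F90762))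
theorem Q8875 : ∀ i, i < 8875 → P i := stepQ 8874 Q8874 (allL N8874 (tt N7549 (iv F203106)) (tt N7487 F90763) (tt N7265 F90764) (tt N10766 D30669) (tt N7261 F90765) (tt N10764 (iv F130028)) (tt N7259 F90766) (tt N10765 (iv F130033)) (tt N7258 (iv D21055)) (tt N10767 D30670))
theorem Q8876 : ∀ i, i < 8876 → P i := stepQ 8875 Q8875 (allL N8875 (tt N7545 (iv F203244)) (tt N7488 F90767) (tt N10768 D30671) (tt N7259 (iv D21056)) (tt N7522 (iv F203240)) (tt N9929 (iv F122825)) (tt N10766 (iv F130035)) (tt N8875 F90768) (tt N10761 (iv F130016)) (tt N10769 D30673))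
theorem Q8877 : ∀ i, i < 8877 → P i := stepQ 8876 Q8876 (allL N8876 (tt N7552 (iv F203249)) (tt N7489 F90769) (tt N7267 F90770) (tt N10769 (iv F130047)) (tt N7262 F90771) (tt N9930 (iv F122830)) (tt N10767 (iv F130039)) (tt N8876 F90772) (tt N7303 F90773) (tt N7259 (iv D21057)))
theorem Q8878 : ∀ i, i < 8878 → P i := stepQ 8877 Q8877 (allL N8877 (tt N7547 (iv F202204)) (tt N7490 F90774) (tt N7268 F90775) (tt N7524 (iv F202208)) (tt N10765 (iv F130031)) (tt N10678 (iv F129241)) (tt N8877 F90776) (tt N7261 F90777) (tt N7260 (iv D21058)) (tt N10770 D30675))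
theorem Q8879 : ∀ i, i < 8879 → P i := stepQ 8878 Q8878 (allL N8878 (tt N7550 (iv F203107)) (tt N7492 F90781) (tt N7269 F90782) (tt N7525 (iv F203111)) (tt N10767 (iv F130038)) (tt N10679 (iv F129249)) (tt N7262 F90783) (tt N10770 (iv F130056)) (tt N7306 F90784) (tt N7261 (iv D21060)))
theorem Q8880 : ∀ i, i < 8880 → P i := stepQ 8879 Q8879 (allL N8879 (tt N7986 (iv F202996)) (tt N7270 F90802) (tt N10763 (iv F130023)) (tt N8879 F90803) (tt N10680 (iv F129267)) (tt N7264 F90804) (tt N10771 D30684) (tt N7263 (iv D21066)) (tt N10772 D30685) (tt N7311 F90805))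
theorem Q8881 : ∀ i, i < 8881 → P i := stepQ 8880 Q8880 (allL N8880 (tt N7781 (iv F203871)) (tt N7271 F90806) (tt N10764 (iv F130027)) (tt N10773 D30686) (tt N10681 (iv F129271)) (tt N7265 F90807) (tt N9938 (iv F122875)) (tt N10772 (iv F130091)) (tt N7263 (iv D21067)) (tt N10774 D30687))
theorem Q8882 : ∀ i, i < 8882 → P i := stepQ 8881 Q8881 (allL N8881 (tt N7779 (iv F203086)) (tt N7272 F90808) (tt N10765 (iv F130030)) (tt N10775 D30688) (tt N7268 F90809) (tt N10772 (iv F130090)) (tt N8881 F90810) (tt N7265 F90811) (tt N7264 (iv D21068)) (tt N10776 D30689))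
theorem Q8883 : ∀ i, i < 8883 → P i := stepQ 8882 Q8882 (allL N8882 (tt N7771 (iv F203883)) (tt N7273 F90812) (tt N10777 D30690) (tt N7265 (iv D21069)) (tt N7750 (iv F203887)) (tt N10773 (iv F130093)) (tt N7266 F90813) (tt N10775 (iv F130100)) (tt N8882 F90814) (tt N10778 D30691))
theorem Q8884 : ∀ i, i < 8884 → P i := stepQ 8883 Q8883 (allL N8883 (tt N7782 (iv F203884)) (tt N7274 F90815) (tt N10767 (iv F130037)) (tt N10778 (iv F130110)) (tt N7269 F90816) (tt N10774 (iv F130096)) (tt N7267 F90817) (tt N10776 (iv F130105)) (tt N7315 F90818) (tt N7265 (iv D21070)))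
theorem Q8885 : ∀ i, i < 8885 → P i := stepQ 8884 Q8884 (allL N8884 (tt N7774 (iv F203992)) (tt N10779 D30692) (tt N7266 (iv D21071)) (tt N10768 (iv F130041)) (tt N7752 (iv F204013)) (tt N9942 (iv F122889)) (tt N10777 (iv F130107)) (tt N8884 F90819) (tt N8884 F90820) (tt N10780 D30693))
theorem Q8886 : ∀ i, i < 8886 → P i := stepQ 8885 Q8885 (allL N8885 (tt N7777 (iv F203994)) (tt N7276 F90821) (tt N10780 (iv F130115)) (tt N7267 F90822) (tt N7753 (iv F204012)) (tt N9943 (iv F122895)) (tt N10778 (iv F130111)) (tt N8885 F90823) (tt N10781 D30694) (tt N7266 (iv D21072)))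
theorem Q8887 : ∀ i, i < 8887 → P i := stepQ 8886 Q8886 (allL N8886 (tt N7780 (iv F203088)) (tt N7277 F90824) (tt N10770 (iv F130054)) (tt N7754 (iv F203096)) (tt N10776 (iv F130103)) (tt N10685 (iv F129285)) (tt N8886 F90825) (tt N7269 F90826) (tt N7318 F90827) (tt N7268 (iv D21073)))
theorem Q8888 : ∀ i, i < 8888 → P i := stepQ 8887 Q8887 (allL N8887 (tt N8887 F90828) (tt N10771 (iv F130085)) (tt N7503 F90829) (tt N8887 F90830) (tt N10622 (iv F205687)) (tt N8887 F90831) (tt N7270 (iv D21074)) (tt N9945 (iv F122906)) (tt N10743 F205541) (tt N7319 F90832))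
theorem Q8889 : ∀ i, i < 8889 → P i := stepQ 8888 Q8888 (allL N8888 (tt N8888 F90833) (tt N10772 (iv F130089)) (tt N7504 F90834) (tt N10026 F205294) (tt N9917 (iv F205403)) (tt N7272 F90835) (tt N10743 (iv F205404)) (tt N7271 F90836) (tt N7270 (iv D21075)) (tt N10782 D30697))
theorem Q8890 : ∀ i, i < 8890 → P i := stepQ 8889 Q8889 (allL N8889 (tt N8889 F90837) (tt N10773 (iv F130092)) (tt N10783 D30698) (tt N7271 (iv D21076)) (tt N10023 F205258) (tt N7273 F90838) (tt N9947 (iv F122914)) (tt N10026 F205259) (tt N8889 F90839) (tt N10784 D30700))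
theorem Q8891 : ∀ i, i < 8891 → P i := stepQ 8890 Q8890 (allL N8890 (tt N8890 F90840) (tt N10774 (iv F130095)) (tt N7506 F90841) (tt N10784 (iv F130141)) (tt N10686 (iv F129301)) (tt N7274 F90842) (tt N9948 (iv F122919)) (tt N10782 (iv F130132)) (tt N7322 F90843) (tt N7271 (iv D21077)))
theorem Q8892 : ∀ i, i < 8892 → P i := stepQ 8891 Q8891 (allL N8891 (tt N8891 F90844) (tt N10775 (iv F130098)) (tt N10785 D30701) (tt N7272 (iv D21078)) (tt N9759 F205112) (tt N10026 (iv F205199)) (tt N8891 F90845) (tt N7273 F90846) (tt N8891 F90847) (tt N10786 D30702))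
theorem Q8893 : ∀ i, i < 8893 → P i := stepQ 8892 Q8892 (allL N8892 (tt N8892 F90848) (tt N10776 (iv F130102)) (tt N7508 F90849) (tt N10786 (iv F130149)) (tt N7277 F90850) (tt N10782 (iv F130131)) (tt N8892 F90851) (tt N7274 F90852) (tt N7324 F90853) (tt N7272 (iv D21079)))
theorem Q8894 : ∀ i, i < 8894 → P i := stepQ 8893 Q8893 (allL N8893 (tt N8893 F90854) (tt N10787 D30703) (tt N7273 (iv D21080)) (tt N7509 F90855) (tt N10753 (iv F129838)) (tt N10783 (iv F130136)) (tt N7275 F90856) (tt N10785 (iv F130146)) (tt N8893 F90857) (tt N10788 D30704))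
theorem Q8895 : ∀ i, i < 8895 → P i := stepQ 8894 Q8894 (allL N8894 (tt N8894 F90858) (tt N10778 (iv F130109)) (tt N10788 (iv F130156)) (tt N7274 F90859) (tt N10754 (iv F129843)) (tt N10784 (iv F130142)) (tt N7276 F90860) (tt N10786 (iv F130151)) (tt N10789 D30705) (tt N7273 (iv D21081)))
theorem Q8896 : ∀ i, i < 8896 → P i := stepQ 8895 Q8895 (allL N8895 (tt N10790 D30706) (tt N7275 (iv D21082)) (tt N10779 (iv F130112)) (tt N7511 F90861) (tt N10755 (iv F129846)) (tt N9953 (iv F122943)) (tt N10787 (iv F130153)) (tt N8895 F90862) (tt N8895 F90863) (tt N10791 D30707))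
theorem Q8897 : ∀ i, i < 8897 → P i := stepQ 8896 Q8896 (allL N8896 (tt N8896 F90864) (tt N10791 (iv F130167)) (tt N7276 F90865) (tt N7512 F90866) (tt N10756 (iv F129853)) (tt N9954 (iv F122950)) (tt N10788 (iv F130158)) (tt N8896 F90867) (tt N10792 D30708) (tt N7275 (iv D21083)))
theorem Q8898 : ∀ i, i < 8898 → P i := stepQ 8897 Q8897 (allL N8897 (tt N8897 F90868) (tt N10781 (iv F130117)) (tt N10792 (iv F130171)) (tt N7329 F90869) (tt N10757 (iv F129858)) (tt N9955 (iv F122955)) (tt N10789 (iv F130161)) (tt N8897 F90870) (tt N7276 (iv D21084)) (tt N8897 F90871))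
theorem Q8899 : ∀ i, i < 8899 → P i := stepQ 8898 Q8898 (allL N8898 (tt N7514 F90872) (tt N7282 F90873) (tt N10530 (iv F203045)) (tt N7278 (iv D21085)) (tt N7860 F90874) (tt N9956 (iv F122961)) (tt N10793 D30710) (tt N8898 F90875) (tt N10794 D30711) (tt N7876 F202830))
theorem Q8900 : ∀ i, i < 8900 → P i := stepQ 8899 Q8899 (allL N8899 (tt N7515 F90876) (tt N7283 F90877) (tt N8899 F90878) (tt N10793 (iv F130181)) (tt N7279 F90879) (tt N10795 D30712) (tt N7278 (iv D21086)) (tt N10796 D30713) (tt N10797 D30714) (tt N7878 F202710))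
theorem Q8901 : ∀ i, i < 8901 → P i := stepQ 8900 Q8900 (allL N8900 (tt N7493 (iv F202450)) (tt N7284 F90881) (tt N8900 F90882) (tt N10798 D30715) (tt N7280 F90883) (tt N9958 (iv F122971)) (tt N10797 (iv F130199)) (tt N8900 F90884) (tt N7278 (iv D21087)) (tt N10799 D30716))
theorem Q8902 : ∀ i, i < 8902 → P i := stepQ 8901 Q8901 (allL N8901 (tt N7516 F90885) (tt N7285 F90886) (tt N8901 F90887) (tt N7862 F90888) (tt N10796 (iv F130193)) (tt N7892 F197869) (tt N8901 F90889) (tt N7279 (iv D21088)) (tt N10800 D30717) (tt N7877 F201859))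
theorem Q8903 : ∀ i, i < 8903 → P i := stepQ 8902 Q8902 (allL N8902 (tt N7491 (iv F202297)) (tt N7286 F90891) (tt N8902 F90892) (tt N7475 (iv F202310)) (tt N10797 (iv F130198)) (tt N10691 (iv F129342)) (tt N7280 F90893) (tt N10800 (iv F130212)) (tt N7279 (iv D21089)) (tt N10801 D30719))
theorem Q8904 : ∀ i, i < 8904 → P i := stepQ 8903 Q8903 (allL N8903 (tt N7494 (iv F202452)) (tt N7288 F90900) (tt N8903 F90901) (tt N7476 (iv F202460)) (tt N10799 (iv F130206)) (tt N7281 F90902) (tt N10801 (iv F130220)) (tt N8903 F90903) (tt N7308 (iv F202356)) (tt N7280 (iv D21091)))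
theorem Q8905 : ∀ i, i < 8905 → P i := stepQ 8904 Q8904 (allL N8904 (tt N7297 F90917) (tt N10793 (iv F130180)) (tt N8904 F90918) (tt N7283 F90919) (tt N7863 F90920) (tt N10802 D30728) (tt N7282 (iv D21095)) (tt N10803 D30729) (tt N10804 D30730) (tt N7927 (iv F203146)))
theorem Q8906 : ∀ i, i < 8906 → P i := stepQ 8905 Q8905 (allL N8905 (tt N7298 F90921) (tt N10794 (iv F130184)) (tt N8905 F90922) (tt N10805 D30731) (tt N7864 F90923) (tt N9966 (iv F123012)) (tt N10804 (iv F130269)) (tt N8905 F90924) (tt N7282 (iv D21096)) (tt N10806 D30732))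
theorem Q8907 : ∀ i, i < 8907 → P i := stepQ 8906 Q8906 (allL N8906 (tt N7299 F90925) (tt N10795 (iv F130188)) (tt N7290 F90926) (tt N10802 (iv F130260)) (tt N10693 (iv F129372)) (tt N7283 (iv D21097)) (tt N9967 (iv F123016)) (tt N10807 D30733) (tt N10808 D30734) (tt N7930 (iv F203003)))
theorem Q8908 : ∀ i, i < 8908 → P i := stepQ 8907 Q8907 (allL N8907 (tt N7300 F90927) (tt N10796 (iv F130191)) (tt N7291 F90928) (tt N10803 (iv F130263)) (tt N7285 F90929) (tt N10807 (iv F130279)) (tt N8907 F90930) (tt N7283 (iv D21098)) (tt N10809 D30735) (tt N7929 (iv F202292)))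
theorem Q8909 : ∀ i, i < 8909 → P i := stepQ 8908 Q8908 (allL N8908 (tt N7301 F90931) (tt N10797 (iv F130196)) (tt N7292 F90932) (tt N10810 D30736) (tt N7286 F90933) (tt N10808 (iv F130282)) (tt N7284 F90934) (tt N10809 (iv F130287)) (tt N7283 (iv D21099)) (tt N10811 D30737))
theorem Q8910 : ∀ i, i < 8910 → P i := stepQ 8909 Q8909 (allL N8909 (tt N7302 F90935) (tt N10798 (iv F130201)) (tt N10812 D30738) (tt N7284 (iv D21100)) (tt N10813 D30739) (tt N9970 (iv F123026)) (tt N10810 (iv F130289)) (tt N8909 F90936) (tt N10805 (iv F130272)) (tt N10814 D30740))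
theorem Q8911 : ∀ i, i < 8911 → P i := stepQ 8910 Q8910 (allL N8910 (tt N7303 F90937) (tt N10799 (iv F130204)) (tt N7294 F90938) (tt N10814 (iv F130301)) (tt N7288 F90939) (tt N9971 (iv F123031)) (tt N10811 (iv F130293)) (tt N8910 F90940) (tt N7552 (iv F203250)) (tt N7284 (iv D21101)))
theorem Q8912 : ∀ i, i < 8912 → P i := stepQ 8911 Q8911 (allL N8911 (tt N7304 F90941) (tt N10800 (iv F130209)) (tt N7295 F90942) (tt N10815 D30741) (tt N10809 (iv F130285)) (tt N10697 (iv F129386)) (tt N8911 F90943) (tt N7286 F90944) (tt N7285 (iv D21102)) (tt N10816 D30742))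
theorem Q8913 : ∀ i, i < 8913 → P i := stepQ 8912 Q8912 (allL N8912 (tt N7305 F90945) (tt N7475 (iv F202309)) (tt N8912 F90946) (tt N7286 (iv D21103)) (tt N10817 D30743) (tt N10698 (iv F129390)) (tt N7287 F90947) (tt N10815 (iv F130306)) (tt N7471 F202124) (tt N10818 D30744))
theorem Q8914 : ∀ i, i < 8914 → P i := stepQ 8913 Q8913 (allL N8913 (tt N7306 F90949) (tt N10801 (iv F130218)) (tt N7296 F90950) (tt N10818 (iv F130318)) (tt N10811 (iv F130292)) (tt N10699 (iv F129395)) (tt N7288 F90951) (tt N10816 (iv F130311)) (tt N7550 (iv F203108)) (tt N7286 (iv D21104)))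
theorem Q8915 : ∀ i, i < 8915 → P i := stepQ 8914 Q8914 (allL N8914 (tt N7307 F90952) (tt N7473 (iv F202458)) (tt N8914 F90953) (tt N10813 (iv F130298)) (tt N7287 (iv D21105)) (tt N10333 (iv F202560)) (tt N10817 (iv F130314)) (tt N8914 F90954) (tt N7470 F202162) (tt N10819 D30746))
theorem Q8916 : ∀ i, i < 8916 → P i := stepQ 8915 Q8915 (allL N8915 (tt N7308 F90956) (tt N7476 (iv F202459)) (tt N8915 F90957) (tt N7288 F90958) (tt N10819 (iv F130327)) (tt N7289 F90959) (tt N10818 (iv F130319)) (tt N8915 F90960) (tt N7494 (iv F202442)) (tt N7287 (iv D21106)))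
theorem Q8917 : ∀ i, i < 8917 → P i := stepQ 8916 Q8916 (allL N8916 (tt N7311 F90973) (tt N8916 F90974) (tt N10807 (iv F130278)) (tt N8916 F90975) (tt N10702 (iv F129417)) (tt N7291 F90976) (tt N10820 D30751) (tt N7290 (iv D21110)) (tt N10821 D30752) (tt N7986 (iv F202997)))
theorem Q8918 : ∀ i, i < 8918 → P i := stepQ 8917 Q8917 (allL N8917 (tt N7312 F90977) (tt N8917 F90978) (tt N10808 (iv F130281)) (tt N10822 D30753) (tt N10703 (iv F129421)) (tt N7292 F90979) (tt N9981 (iv F123068)) (tt N10821 (iv F130353)) (tt N7290 (iv D21111)) (tt N10823 D30754))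
theorem Q8919 : ∀ i, i < 8919 → P i := stepQ 8918 Q8918 (allL N8918 (tt N7313 F90980) (tt N8918 F90981) (tt N10809 (iv F130284)) (tt N10824 D30755) (tt N7295 F90982) (tt N10821 (iv F130352)) (tt N8918 F90983) (tt N7292 F90984) (tt N7291 (iv D21112)) (tt N10825 D30756))
theorem Q8920 : ∀ i, i < 8920 → P i := stepQ 8919 Q8919 (allL N8919 (tt N7314 F90985) (tt N8919 F90986) (tt N10826 D30757) (tt N7292 (iv D21113)) (tt N8919 F90987) (tt N10822 (iv F130356)) (tt N7293 F90988) (tt N10824 (iv F130365)) (tt N8919 F90989) (tt N10827 D30758))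
theorem Q8921 : ∀ i, i < 8921 → P i := stepQ 8920 Q8920 (allL N8920 (tt N7315 F90990) (tt N8920 F90991) (tt N10811 (iv F130291)) (tt N10827 (iv F130378)) (tt N7296 F90992) (tt N10823 (iv F130360)) (tt N7294 F90993) (tt N10825 (iv F130371)) (tt N7782 (iv F203885)) (tt N7292 (iv D21114)))
theorem Q8922 : ∀ i, i < 8922 → P i := stepQ 8921 Q8921 (allL N8921 (tt N7316 F90994) (tt N10828 D30759) (tt N7293 (iv D21115)) (tt N10812 (iv F130295)) (tt N8921 F90995) (tt N9985 (iv F123083)) (tt N10826 (iv F130374)) (tt N8921 F90996) (tt N8921 F90997) (tt N10829 D30760))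
theorem Q8923 : ∀ i, i < 8923 → P i := stepQ 8922 Q8922 (allL N8922 (tt N7317 F90998) (tt N8922 F90999) (tt N10829 (iv F130386)) (tt N7294 F91000) (tt N8922 F91001) (tt N9986 (iv F123089)) (tt N10827 (iv F130380)) (tt N8922 F91002) (tt N10830 D30761) (tt N7293 (iv D21116)))
theorem Q8924 : ∀ i, i < 8924 → P i := stepQ 8923 Q8923 (allL N8923 (tt N7318 F91003) (tt N8923 F91004) (tt N10816 (iv F130309)) (tt N8923 F91005) (tt N10825 (iv F130369)) (tt N10708 (iv F129444)) (tt N8923 F91006) (tt N7296 F91007) (tt N7780 (iv F203089)) (tt N7295 (iv D21117)))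
theorem Q8925 : ∀ i, i < 8925 → P i := stepQ 8924 Q8924 (allL N8924 (tt N10802 (iv F130258)) (tt N7534 F91008) (tt N8924 F91009) (tt N7299 F91010) (tt N10831 D30762) (tt N7297 (iv D21118)) (tt N9988 (iv F123098)) (tt N10832 D30763) (tt N10833 D30764) (tt N10758 (iv F130003)))
theorem Q8926 : ∀ i, i < 8926 → P i := stepQ 8925 Q8925 (allL N8925 (tt N10803 (iv F130261)) (tt N7535 F91011) (tt N8925 F91012) (tt N7300 F91013) (tt N7870 F91014) (tt N10832 (iv F130400)) (tt N8925 F91015) (tt N7297 (iv D21119)) (tt N10834 D30765) (tt N10759 (iv F130009)))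
theorem Q8927 : ∀ i, i < 8927 → P i := stepQ 8926 Q8926 (allL N8926 (tt N10804 (iv F130266)) (tt N7536 F91016) (tt N8926 F91017) (tt N10835 D30766) (tt N7871 F91018) (tt N10833 (iv F130403)) (tt N7298 F91019) (tt N10834 (iv F130408)) (tt N7297 (iv D21120)) (tt N10836 D30767))
theorem Q8928 : ∀ i, i < 8928 → P i := stepQ 8927 Q8927 (allL N8927 (tt N10805 (iv F130270)) (tt N7537 F91020) (tt N10837 D30768) (tt N7298 (iv D21121)) (tt N10838 D30769) (tt N9991 (iv F123109)) (tt N10835 (iv F130410)) (tt N8927 F91021) (tt N7302 F91022) (tt N10839 D30770))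
theorem Q8929 : ∀ i, i < 8929 → P i := stepQ 8928 Q8928 (allL N8928 (tt N10806 (iv F130273)) (tt N7538 F91023) (tt N8928 F91024) (tt N10839 (iv F130424)) (tt N7873 F91025) (tt N9992 (iv F123115)) (tt N10836 (iv F130415)) (tt N8928 F91026) (tt N10762 (iv F130021)) (tt N7298 (iv D21122)))
theorem Q8930 : ∀ i, i < 8930 → P i := stepQ 8929 Q8929 (allL N8929 (tt N10807 (iv F130277)) (tt N7539 F91027) (tt N7311 F91028) (tt N10832 (iv F130399)) (tt N10713 (iv F129460)) (tt N7300 F91029) (tt N10840 D30771) (tt N7299 (iv D21123)) (tt N10841 D30772) (tt N10763 (iv F130025)))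
theorem Q8931 : ∀ i, i < 8931 → P i := stepQ 8930 Q8930 (allL N8930 (tt N10808 (iv F130280)) (tt N7540 F91030) (tt N7312 F91031) (tt N10842 D30773) (tt N10714 (iv F129464)) (tt N7301 F91032) (tt N9994 (iv F123123)) (tt N10841 (iv F130432)) (tt N7299 (iv D21124)) (tt N10843 D30774))
theorem Q8932 : ∀ i, i < 8932 → P i := stepQ 8931 Q8931 (allL N8931 (tt N10809 (iv F130283)) (tt N7541 F91033) (tt N7313 F91034) (tt N10844 D30775) (tt N7304 F91035) (tt N10841 (iv F130431)) (tt N8931 F91036) (tt N7301 F91037) (tt N7300 (iv D21125)) (tt N10845 D30776))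
theorem Q8933 : ∀ i, i < 8933 → P i := stepQ 8932 Q8932 (allL N8932 (tt N10810 (iv F130288)) (tt N7542 F91038) (tt N10846 D30777) (tt N7301 (iv D21126)) (tt N10847 D30778) (tt N10842 (iv F130434)) (tt N7302 F91039) (tt N10844 (iv F130440)) (tt N10835 (iv F130411)) (tt N10848 D30779))
theorem Q8934 : ∀ i, i < 8934 → P i := stepQ 8933 Q8933 (allL N8933 (tt N10811 (iv F130290)) (tt N7543 F91040) (tt N7315 F91041) (tt N10848 (iv F130452)) (tt N7306 F91042) (tt N10843 (iv F130437)) (tt N7303 F91043) (tt N10845 (iv F130445)) (tt N10767 (iv F130040)) (tt N7301 (iv D21127)))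
theorem Q8935 : ∀ i, i < 8935 → P i := stepQ 8934 Q8934 (allL N8934 (tt N10812 (iv F130294)) (tt N10849 D30780) (tt N7302 (iv D21128)) (tt N7316 F91044) (tt N10850 D30781) (tt N9998 (iv F123136)) (tt N10846 (iv F130447)) (tt N8934 F91045) (tt N10837 (iv F130418)) (tt N10851 D30782))
theorem Q8936 : ∀ i, i < 8936 → P i := stepQ 8935 Q8935 (allL N8935 (tt N10813 (iv F130297)) (tt N7545 F91046) (tt N10850 (iv F130457)) (tt N7307 F91047) (tt N7302 (iv D21129)) (tt N10852 D30783) (tt N10847 (iv F130450)) (tt N8935 F91048) (tt N10838 (iv F130422)) (tt N10853 D30784))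
theorem Q8937 : ∀ i, i < 8937 → P i := stepQ 8936 Q8936 (allL N8936 (tt N10814 (iv F130300)) (tt N7546 F91049) (tt N10851 (iv F130460)) (tt N7303 F91050) (tt N10853 (iv F130468)) (tt N10000 (iv F123143)) (tt N10848 (iv F130453)) (tt N8936 F91051) (tt N10854 D30785) (tt N7302 (iv D21130)))
theorem Q8938 : ∀ i, i < 8938 → P i := stepQ 8937 Q8937 (allL N8937 (tt N10815 (iv F130303)) (tt N7547 F91052) (tt N8937 F91053) (tt N7304 (iv D21131)) (tt N10855 D30786) (tt N7897 F202116) (tt N8937 F91054) (tt N7305 F91055) (tt N7877 F91056) (tt N10856 D30787))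
theorem Q8939 : ∀ i, i < 8939 → P i := stepQ 8938 Q8938 (allL N8938 (tt N10816 (iv F130308)) (tt N7548 F91057) (tt N7318 F91058) (tt N10856 (iv F130479)) (tt N10845 (iv F130443)) (tt N10721 (iv F129488)) (tt N8938 F91059) (tt N7306 F91060) (tt N10770 (iv F130057)) (tt N7304 (iv D21132)))
theorem Q8940 : ∀ i, i < 8940 → P i := stepQ 8939 Q8939 (allL N8939 (tt N10817 (iv F130312)) (tt N7549 F91061) (tt N8939 F91062) (tt N10847 (iv F130449)) (tt N7305 (iv D21133)) (tt N10857 D30788) (tt N7307 F91063) (tt N10855 (iv F130475)) (tt N7878 F91064) (tt N10858 D30789))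
theorem Q8941 : ∀ i, i < 8941 → P i := stepQ 8940 Q8940 (allL N8940 (tt N10818 (iv F130316)) (tt N7550 F91065) (tt N8940 F91066) (tt N7306 F91067) (tt N10858 (iv F130487)) (tt N10723 (iv F129497)) (tt N7308 F91068) (tt N10856 (iv F130481)) (tt N10801 F202702) (tt N7305 (iv D21134)))
theorem Q8942 : ∀ i, i < 8942 → P i := stepQ 8941 Q8941 (allL N8941 (tt N10333 F202814) (tt N7551 F91069) (tt N8941 F91070) (tt N10852 (iv F130464)) (tt N7309 F91071) (tt N7307 (iv D21135)) (tt N10859 D30791) (tt N8941 F91072) (tt N7879 F91073) (tt N10860 D30792))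
theorem Q8943 : ∀ i, i < 8943 → P i := stepQ 8942 Q8942 (allL N8942 (tt N10819 (iv F130325)) (tt N7552 F91074) (tt N8942 F91075) (tt N10853 (iv F130467)) (tt N7308 F91076) (tt N10860 (iv F130500)) (tt N10858 (iv F130488)) (tt N8942 F91077) (tt N10799 F202815) (tt N7307 (iv D21136)))
theorem Q8944 : ∀ i, i < 8944 → P i := stepQ 8943 Q8943 (allL N8943 (tt N10335 F202816) (tt N7553 F91083) (tt N8943 F91084) (tt N10008 (iv F123171)) (tt N10859 (iv F130495)) (tt N10726 (iv F129512)) (tt N7309 (iv D21138)) (tt N10861 D30794) (tt N7880 F91085) (tt N10862 D30795))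
theorem Q8945 : ∀ i, i < 8945 → P i := stepQ 8944 Q8944 (allL N8944 (tt N10336 F202817) (tt N7554 F91086) (tt N8944 F91087) (tt N10009 (iv F123174)) (tt N10860 (iv F130499)) (tt N7310 F91088) (tt N10862 (iv F130513)) (tt N8944 F91089) (tt N9962 F202818) (tt N7309 (iv D21139)))
theorem Q8946 : ∀ i, i < 8946 → P i := stepQ 8945 Q8945 (allL N8945 (tt N10820 (iv F130346)) (tt N7319 F91095) (tt N10840 (iv F130427)) (tt N8945 F91096) (tt N10728 (iv F129523)) (tt N8945 F91097) (tt N7311 (iv D21141)) (tt N10011 (iv F123184)) (tt N10863 D30798) (tt N10771 (iv F130088)))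
theorem Q8947 : ∀ i, i < 8947 → P i := stepQ 8946 Q8946 (allL N8946 (tt N10821 (iv F130350)) (tt N7320 F91098) (tt N10841 (iv F130430)) (tt N10864 D30799) (tt N10729 (iv F129525)) (tt N7313 F91099) (tt N10863 (iv F130524)) (tt N7312 F91100) (tt N7311 (iv D21142)) (tt N10865 D30800))
theorem Q8948 : ∀ i, i < 8948 → P i := stepQ 8947 Q8947 (allL N8947 (tt N10822 (iv F130354)) (tt N7321 F91101) (tt N10866 D30801) (tt N7312 (iv D21143)) (tt N10867 D30802) (tt N7314 F91102) (tt N10013 (iv F123190)) (tt N10864 (iv F130527)) (tt N8947 F91103) (tt N10868 D30803))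
theorem Q8949 : ∀ i, i < 8949 → P i := stepQ 8948 Q8948 (allL N8948 (tt N10823 (iv F130358)) (tt N7322 F91104) (tt N10843 (iv F130436)) (tt N10868 (iv F130538)) (tt N10731 (iv F129531)) (tt N7315 F91105) (tt N10014 (iv F123194)) (tt N10865 (iv F130531)) (tt N10774 (iv F130097)) (tt N7312 (iv D21144)))
theorem Q8950 : ∀ i, i < 8950 → P i := stepQ 8949 Q8949 (allL N8949 (tt N10824 (iv F130361)) (tt N7323 F91106) (tt N10869 D30804) (tt N7313 (iv D21145)) (tt N8949 F91107) (tt N10864 (iv F130526)) (tt N8949 F91108) (tt N7314 F91109) (tt N8949 F91110) (tt N10870 D30805))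
theorem Q8951 : ∀ i, i < 8951 → P i := stepQ 8950 Q8950 (allL N8950 (tt N10825 (iv F130367)) (tt N7324 F91111) (tt N10845 (iv F130442)) (tt N10870 (iv F130545)) (tt N7318 F91112) (tt N10865 (iv F130530)) (tt N8950 F91113) (tt N7315 F91114) (tt N10776 (iv F130106)) (tt N7313 (iv D21146)))
theorem Q8952 : ∀ i, i < 8952 → P i := stepQ 8951 Q8951 (allL N8951 (tt N10826 (iv F130372)) (tt N10871 D30806) (tt N7314 (iv D21147)) (tt N10846 (iv F130446)) (tt N8951 F91115) (tt N10866 (iv F130532)) (tt N7316 F91116) (tt N10869 (iv F130542)) (tt N8951 F91117) (tt N10872 D30807))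
theorem Q8953 : ∀ i, i < 8953 → P i := stepQ 8952 Q8952 (allL N8952 (tt N10827 (iv F130376)) (tt N7326 F91118) (tt N10872 (iv F130553)) (tt N7315 F91119) (tt N8952 F91120) (tt N10868 (iv F130539)) (tt N7317 F91121) (tt N10870 (iv F130548)) (tt N10873 D30808) (tt N7314 (iv D21148)))
theorem Q8954 : ∀ i, i < 8954 → P i := stepQ 8953 Q8953 (allL N8953 (tt N10874 D30809) (tt N7316 (iv D21149)) (tt N7327 F91122) (tt N10849 (iv F130455)) (tt N8953 F91123) (tt N10019 (iv F123209)) (tt N10871 (iv F130551)) (tt N8953 F91124) (tt N8953 F91125) (tt N10875 D30810))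
theorem Q8955 : ∀ i, i < 8955 → P i := stepQ 8954 Q8954 (allL N8954 (tt N10829 (iv F130385)) (tt N10875 (iv F130564)) (tt N7317 F91126) (tt N10851 (iv F130461)) (tt N8954 F91127) (tt N10020 (iv F123213)) (tt N10872 (iv F130555)) (tt N8954 F91128) (tt N10876 D30811) (tt N7316 (iv D21150)))
theorem Q8956 : ∀ i, i < 8956 → P i := stepQ 8955 Q8955 (allL N8955 (tt N10830 (iv F130389)) (tt N7329 F91129) (tt N10876 (iv F130568)) (tt N10781 (iv F130118)) (tt N8955 F91130) (tt N10021 (iv F123216)) (tt N10873 (iv F130558)) (tt N8955 F91131) (tt N7317 (iv D21151)) (tt N8955 F91132))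
theorem Q8957 : ∀ i, i < 8957 → P i := stepQ 8956 Q8956 (allL N8956 (tt N8956 F91133) (tt N10863 (iv F130522)) (tt N7566 F91134) (tt N10877 D30812) (tt N10739 (iv F129553)) (tt N8956 F91135) (tt N7320 F91136) (tt N10022 (iv F123223)) (tt N7319 (iv D21152)) (tt N10878 D30813))
theorem Q8958 : ∀ i, i < 8958 → P i := stepQ 8957 Q8957 (allL N8957 (tt N8957 F91137) (tt N10864 (iv F130525)) (tt N10879 D30814) (tt N7320 (iv D21153)) (tt N10880 D30815) (tt N7323 F91138) (tt N10877 (iv F130574)) (tt N7321 F91139) (tt N8957 F91140) (tt N10881 D30816))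
theorem Q8959 : ∀ i, i < 8959 → P i := stepQ 8958 Q8958 (allL N8958 (tt N8958 F91141) (tt N10865 (iv F130529)) (tt N7568 F91142) (tt N10881 (iv F130590)) (tt N10741 (iv F129560)) (tt N7324 F91143) (tt N10878 (iv F130579)) (tt N7322 F91144) (tt N10782 (iv F130133)) (tt N7320 (iv D21154)))
theorem Q8960 : ∀ i, i < 8960 → P i := stepQ 8959 Q8959 (allL N8959 (tt N8959 F91145) (tt N10882 D30817) (tt N7321 (iv D21155)) (tt N7569 F91146) (tt N10883 D30818) (tt N7325 F91147) (tt N10025 (iv F123235)) (tt N10879 (iv F130583)) (tt N8959 F91148) (tt N10884 D30819))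
theorem Q8961 : ∀ i, i < 8961 → P i := stepQ 8960 Q8960 (allL N8960 (tt N8960 F91149) (tt N10867 (iv F130534)) (tt N10883 (iv F130597)) (tt N10743 (iv F129567)) (tt N7321 (iv D21156)) (tt N8960 F91150) (tt N10026 (iv F123238)) (tt N10880 (iv F130587)) (tt N8960 F91151) (tt N10885 D30820))
theorem Q8962 : ∀ i, i < 8962 → P i := stepQ 8961 Q8961 (allL N8961 (tt N8961 F91152) (tt N10868 (iv F130537)) (tt N10884 (iv F130601)) (tt N7322 F91153) (tt N10885 (iv F130605)) (tt N7326 F91154) (tt N10027 (iv F123243)) (tt N10881 (iv F130592)) (tt N10886 D30821) (tt N7321 (iv D21157)))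
theorem Q8963 : ∀ i, i < 8963 → P i := stepQ 8962 Q8962 (allL N8962 (tt N8962 F91155) (tt N10887 D30822) (tt N7323 (iv D21158)) (tt N7572 F91156) (tt N8962 F91157) (tt N10879 (iv F130582)) (tt N8962 F91158) (tt N7325 F91159) (tt N8962 F91160) (tt N10888 D30823))
theorem Q8964 : ∀ i, i < 8964 → P i := stepQ 8963 Q8963 (allL N8963 (tt N8963 F91161) (tt N10870 (iv F130544)) (tt N10888 (iv F130616)) (tt N7324 F91162) (tt N8963 F91163) (tt N10881 (iv F130591)) (tt N8963 F91164) (tt N7326 F91165) (tt N10889 D30824) (tt N7323 (iv D21159)))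
theorem Q8965 : ∀ i, i < 8965 → P i := stepQ 8964 Q8964 (allL N8964 (tt N10890 D30825) (tt N7325 (iv D21160)) (tt N10871 (iv F130549)) (tt N7574 F91166) (tt N8964 F91167) (tt N10882 (iv F130594)) (tt N7327 F91168) (tt N10887 (iv F130613)) (tt N8964 F91169) (tt N10891 D30826))
theorem Q8966 : ∀ i, i < 8966 → P i := stepQ 8965 Q8965 (allL N8965 (tt N8965 F91170) (tt N10891 (iv F130631)) (tt N7326 F91171) (tt N7575 F91172) (tt N8965 F91173) (tt N10884 (iv F130603)) (tt N7328 F91174) (tt N10888 (iv F130620)) (tt N10892 D30827) (tt N7325 (iv D21161)))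
theorem Q8967 : ∀ i, i < 8967 → P i := stepQ 8966 Q8966 (allL N8966 (tt N8966 F91175) (tt N10873 (iv F130556)) (tt N10892 (iv F130636)) (tt N10789 (iv F130160)) (tt N8966 F91176) (tt N10886 (iv F130608)) (tt N7329 F91177) (tt N10889 (iv F130624)) (tt N7326 (iv D21162)) (tt N8966 F91178))
theorem Q8968 : ∀ i, i < 8968 → P i := stepQ 8967 Q8967 (allL N8967 (tt N7327 (iv D21163)) (tt N8967 F91179) (tt N10874 (iv F130560)) (tt N7577 F91180) (tt N8967 F91181) (tt N10033 (iv F123265)) (tt N10890 (iv F130629)) (tt N8967 F91182) (tt N8967 F91183) (tt N10893 D30828))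
theorem Q8969 : ∀ i, i < 8969 → P i := stepQ 8968 Q8968 (allL N8968 (tt N10893 (iv F130640)) (tt N7328 F91184) (tt N10875 (iv F130565)) (tt N7578 F91185) (tt N8968 F91186) (tt N10034 (iv F123270)) (tt N10891 (iv F130634)) (tt N8968 F91187) (tt N10894 D30829) (tt N7327 (iv D21164)))
theorem Q8970 : ∀ i, i < 8970 → P i := stepQ 8969 Q8969 (allL N8969 (tt N8969 F91188) (tt N10894 (iv F130645)) (tt N7329 F91189) (tt N10895 D30830) (tt N8969 F91190) (tt N10035 (iv F123274)) (tt N10892 (iv F130638)) (tt N8969 F91191) (tt N7328 (iv D21165)) (tt N8969 F91192))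
theorem Q8971 : ∀ i, i < 8971 → P i := stepQ 8970 Q8970 (allL N8970 (tt N7841 (iv F200724)) (tt N7331 F91193) (tt N8970 F91194) (tt N7839 F200636) (tt N10896 D30831) (tt N7330 (iv D21166)) (tt N7885 F197015) (tt N7389 F91196) (tt N10640 (iv F200982)) (tt N7355 F91197))
theorem Q8972 : ∀ i, i < 8972 → P i := stepQ 8971 Q8971 (allL N8971 (tt N7338 F91202) (tt N10896 (iv F130653)) (tt N7333 F91203) (tt N10897 D30836) (tt N7331 (iv D21168)) (tt N10059 (iv F123423)) (tt N10898 D30837) (tt N7390 F91204) (tt N10899 D30838) (tt N7356 F91205))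
theorem Q8973 : ∀ i, i < 8973 → P i := stepQ 8972 Q8972 (allL N8972 (tt N7339 F91206) (tt N7885 (iv F196648)) (tt N7334 F91207) (tt N7883 F91208) (tt N10898 (iv F130682)) (tt N8972 F91209) (tt N7331 (iv D21169)) (tt N7894 (iv F201367)) (tt N10900 D30840) (tt N7357 F91210))
theorem Q8974 : ∀ i, i < 8974 → P i := stepQ 8973 Q8973 (allL N8973 (tt N7340 F91211) (tt N10640 F201066) (tt N7335 F91212) (tt N10636 F201067) (tt N10899 (iv F130686)) (tt N7332 F91213) (tt N10900 (iv F130697)) (tt N7392 F91214) (tt N7331 (iv D21170)) (tt N10901 D30842))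
theorem Q8975 : ∀ i, i < 8975 → P i := stepQ 8974 Q8974 (allL N8974 (tt N7342 F91220) (tt N10642 F201251) (tt N7336 F91221) (tt N10637 F201252) (tt N10063 (iv F123441)) (tt N10901 (iv F130705)) (tt N8974 F91222) (tt N7393 F91223) (tt N7359 F91224) (tt N7332 (iv D21172)))
theorem Q8976 : ∀ i, i < 8976 → P i := stepQ 8975 Q8975 (allL N8975 (tt N7343 F91225) (tt N8975 F91226) (tt N10898 (iv F130681)) (tt N8975 F91227) (tt N7334 F91228) (tt N10902 D30845) (tt N7333 (iv D21173)) (tt N10903 D30846) (tt N10904 D30847) (tt N7360 F91229))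
theorem Q8977 : ∀ i, i < 8977 → P i := stepQ 8976 Q8976 (allL N8976 (tt N7344 F91230) (tt N8976 F91231) (tt N10899 (iv F130685)) (tt N10905 D30848) (tt N7335 F91232) (tt N10065 (iv F123453)) (tt N10904 (iv F130732)) (tt N7395 F91233) (tt N7333 (iv D21174)) (tt N10906 D30849))
theorem Q8978 : ∀ i, i < 8978 → P i := stepQ 8977 Q8977 (allL N8977 (tt N7345 F91234) (tt N8977 F91235) (tt N7894 (iv F201366)) (tt N7337 F91236) (tt N10903 (iv F130726)) (tt N8977 F91237) (tt N7396 F91238) (tt N7334 (iv D21175)) (tt N10907 D30850) (tt N7362 F91239))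
theorem Q8979 : ∀ i, i < 8979 → P i := stepQ 8978 Q8978 (allL N8978 (tt N7346 F91240) (tt N8978 F91241) (tt N10900 (iv F130695)) (tt N8978 F91242) (tt N10904 (iv F130731)) (tt N8978 F91243) (tt N7335 F91244) (tt N10907 (iv F130748)) (tt N7334 (iv D21176)) (tt N10908 D30851))
theorem Q8980 : ∀ i, i < 8980 → P i := stepQ 8979 Q8979 (allL N8979 (tt N7347 F91245) (tt N8979 F91246) (tt N10901 (iv F130704)) (tt N8979 F91247) (tt N10906 (iv F130740)) (tt N7336 F91248) (tt N10908 (iv F130753)) (tt N7398 F91249) (tt N7364 F91250) (tt N7335 (iv D21177)))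
theorem Q8981 : ∀ i, i < 8981 → P i := stepQ 8980 Q8980 (allL N8980 (tt N10897 (iv F130675)) (tt N10628 (iv F128662)) (tt N8980 F91251) (tt N7338 (iv D21178)) (tt N7884 F91252) (tt N10069 (iv F123472)) (tt N10635 F197063) (tt N7399 F91253) (tt N10909 D30853) (tt N7365 F91254))
theorem Q8982 : ∀ i, i < 8982 → P i := stepQ 8981 Q8981 (allL N8981 (tt N10898 (iv F130680)) (tt N10629 (iv F128666)) (tt N7343 F91255) (tt N10635 (iv F196669)) (tt N7339 F91256) (tt N10910 D30854) (tt N7338 (iv D21179)) (tt N10688 (iv F196666)) (tt N10911 D30856) (tt N7366 F91257))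
theorem Q8983 : ∀ i, i < 8983 → P i := stepQ 8982 Q8982 (allL N8982 (tt N10899 (iv F130684)) (tt N10630 (iv F128670)) (tt N7344 F91258) (tt N10912 D30857) (tt N7340 F91259) (tt N10071 (iv F123480)) (tt N10911 (iv F130771)) (tt N7401 F91260) (tt N7338 (iv D21180)) (tt N10913 D30858))
theorem Q8984 : ∀ i, i < 8984 → P i := stepQ 8983 Q8983 (allL N8983 (tt N7894 (iv F201364)) (tt N7848 F196403) (tt N7345 F91261) (tt N7846 F196404) (tt N10688 (iv F196665)) (tt N8983 F91263) (tt N7402 F91264) (tt N7339 (iv D21181)) (tt N10914 D30859) (tt N7368 F91265))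
theorem Q8985 : ∀ i, i < 8985 → P i := stepQ 8984 Q8984 (allL N8984 (tt N10900 (iv F130694)) (tt N10631 (iv F128680)) (tt N7346 F91266) (tt N10915 D30860) (tt N10911 (iv F130770)) (tt N8984 F91267) (tt N7340 F91268) (tt N10914 (iv F130780)) (tt N7339 (iv D21182)) (tt N10916 D30861))
theorem Q8986 : ∀ i, i < 8986 → P i := stepQ 8985 Q8985 (allL N8985 (tt N10636 F201064) (tt N7358 (iv F201385)) (tt N8985 F91269) (tt N7340 (iv D21183)) (tt N10917 D30862) (tt N7341 F91270) (tt N10915 (iv F130783)) (tt N7404 F91271) (tt N7355 F201065) (tt N10918 D30863))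
theorem Q8987 : ∀ i, i < 8987 → P i := stepQ 8986 Q8986 (allL N8986 (tt N10901 (iv F130703)) (tt N10632 (iv F128688)) (tt N7347 F91273) (tt N10918 (iv F130793)) (tt N10913 (iv F130774)) (tt N7342 F91274) (tt N10916 (iv F130787)) (tt N7405 F91275) (tt N7371 F91276) (tt N7340 (iv D21184)))
theorem Q8988 : ∀ i, i < 8988 → P i := stepQ 8987 Q8987 (allL N8987 (tt N10637 F201250) (tt N7359 (iv F201518)) (tt N8987 F91281) (tt N7342 F91282) (tt N10096 (iv F201655)) (tt N10918 (iv F130794)) (tt N8987 F91283) (tt N7406 F91284) (tt N10642 F201243) (tt N7341 (iv D21186)))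
theorem Q8989 : ∀ i, i < 8989 → P i := stepQ 8988 Q8988 (allL N8988 (tt N10902 (iv F130718)) (tt N7348 F91285) (tt N10910 (iv F130762)) (tt N8988 F91286) (tt N8988 F91287) (tt N7343 (iv D21187)) (tt N10078 (iv F123507)) (tt N10626 F206187) (tt N10669 F206188) (tt N7374 F91288))
theorem Q8990 : ∀ i, i < 8990 → P i := stepQ 8989 Q8989 (allL N8989 (tt N10903 (iv F130723)) (tt N7349 F91289) (tt N10688 (iv F196664)) (tt N8989 F91290) (tt N7345 F91291) (tt N10626 (iv F206051)) (tt N7408 F91292) (tt N7343 (iv D21188)) (tt N9921 F205911) (tt N7375 F91293))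
theorem Q8991 : ∀ i, i < 8991 → P i := stepQ 8990 Q8990 (allL N8990 (tt N10904 (iv F130729)) (tt N7350 F91294) (tt N10911 (iv F130769)) (tt N10139 (iv F206047)) (tt N7346 F91295) (tt N10669 (iv F206049)) (tt N7344 F91296) (tt N9921 F205910) (tt N7343 (iv D21189)) (tt N10919 D30871))
theorem Q8992 : ∀ i, i < 8992 → P i := stepQ 8991 Q8991 (allL N8991 (tt N10905 (iv F130733)) (tt N7351 F91297) (tt N10920 D30872) (tt N7344 (iv D21190)) (tt N8991 F91298) (tt N10081 (iv F123518)) (tt N10139 F206129) (tt N7410 F91299) (tt N8991 F91300) (tt N10921 D30873))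
theorem Q8993 : ∀ i, i < 8993 → P i := stepQ 8992 Q8992 (allL N8992 (tt N10906 (iv F130738)) (tt N7352 F91301) (tt N10913 (iv F130773)) (tt N10921 (iv F130832)) (tt N7347 F91302) (tt N10082 (iv F123523)) (tt N10919 (iv F130826)) (tt N7411 F91303) (tt N7378 F91304) (tt N7344 (iv D21191)))
theorem Q8994 : ∀ i, i < 8994 → P i := stepQ 8993 Q8993 (allL N8993 (tt N10907 (iv F130743)) (tt N7353 F91305) (tt N10914 (iv F130777)) (tt N8993 F91306) (tt N9921 (iv F205692)) (tt N8993 F91307) (tt N7412 F91308) (tt N7346 F91309) (tt N7345 (iv D21192)) (tt N10922 D30874))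
theorem Q8995 : ∀ i, i < 8995 → P i := stepQ 8994 Q8994 (allL N8994 (tt N10908 (iv F130749)) (tt N7354 F91310) (tt N10916 (iv F130785)) (tt N8994 F91311) (tt N10919 (iv F130825)) (tt N8994 F91312) (tt N7347 F91313) (tt N10922 (iv F130839)) (tt N7380 F91314) (tt N7346 (iv D21193)))
theorem Q8996 : ∀ i, i < 8996 → P i := stepQ 8995 Q8995 (allL N8995 (tt N8995 F91331) (tt N10919 (iv F130824)) (tt N9847 F205918) (tt N10140 (iv F206048)) (tt N7354 F91332) (tt N10670 (iv F206057)) (tt N7352 F91333) (tt N9922 F205919) (tt N7385 F91334) (tt N7350 (iv D21198)))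
theorem Q8997 : ∀ i, i < 8997 → P i := stepQ 8996 Q8996 (allL N8996 (tt N8996 F91339) (tt N10921 (iv F130831)) (tt N10138 F206130) (tt N7352 F91340) (tt N8996 F91341) (tt N10091 (iv F123560)) (tt N10140 F206131) (tt N7420 F91342) (tt N10923 D30885) (tt N7351 (iv D21200)))
theorem Q8998 : ∀ i, i < 8998 → P i := stepQ 8997 Q8997 (allL N8997 (tt N8997 F91343) (tt N10922 (iv F130835)) (tt N9735 F205554) (tt N8997 F91344) (tt N9922 (iv F205698)) (tt N8997 F91345) (tt N7421 F91346) (tt N7354 F91347) (tt N7388 F91348) (tt N7353 (iv D21201)))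
theorem Q8999 : ∀ i, i < 8999 → P i := stepQ 8998 Q8998 (allL N8998 (tt N10635 (iv F128758)) (tt N7356 F91349) (tt N8998 F91350) (tt N10898 F197106) (tt N7355 (iv D21202)) (tt N10093 (iv F123569)) (tt N10897 (iv F197405)) (tt N7422 F91351) (tt N10917 (iv F201470)) (tt N10896 (iv F130656)))
theorem Q9000 : ∀ i, i < 9000 → P i := stepQ 8999 Q8999 (allL N8999 (tt N7884 F197060) (tt N7357 F91352) (tt N8999 F91353) (tt N7882 F197061) (tt N10897 (iv F197404)) (tt N8999 F91355) (tt N7355 (iv D21203)) (tt N7889 (iv F197402)) (tt N10915 (iv F201374)) (tt N7885 F197062))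
theorem Q9001 : ∀ i, i < 9001 → P i := stepQ 9000 Q9000 (allL N9000 (tt N7365 F91368) (tt N10898 F197058) (tt N9000 F91369) (tt N7356 (iv D21207)) (tt N7885 F91370) (tt N10097 (iv F123591)) (tt N10896 (iv F197378)) (tt N7424 F91371) (tt N10924 D30897) (tt N10897 (iv F130679)))
theorem Q9002 : ∀ i, i < 9002 → P i := stepQ 9001 Q9001 (allL N9001 (tt N7366 F91372) (tt N10897 (iv F197403)) (tt N7360 F91373) (tt N10896 (iv F197377)) (tt N7357 F91374) (tt N10925 D30898) (tt N7356 (iv D21208)) (tt N10926 D30899) (tt N10927 D30900) (tt N10898 (iv F130683)))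
theorem Q9003 : ∀ i, i < 9003 → P i := stepQ 9002 Q9002 (allL N9002 (tt N7367 F91375) (tt N10917 F201766) (tt N7361 F91376) (tt N10928 D30901) (tt N7358 F91377) (tt N10099 (iv F123599)) (tt N10927 (iv F130945)) (tt N7426 F91378) (tt N7356 (iv D21209)) (tt N10929 D30902))
theorem Q9004 : ∀ i, i < 9004 → P i := stepQ 9003 Q9003 (allL N9003 (tt N7368 F91379) (tt N7889 (iv F197401)) (tt N7362 F91380) (tt N7849 F201018) (tt N10926 (iv F130940)) (tt N9003 F91382) (tt N7427 F91383) (tt N7357 (iv D21210)) (tt N10930 D30903) (tt N7894 (iv F201368)))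
theorem Q9005 : ∀ i, i < 9005 → P i := stepQ 9004 Q9004 (allL N9004 (tt N7369 F91384) (tt N10915 (iv F201373)) (tt N7363 F91385) (tt N10631 (iv F201371)) (tt N10927 (iv F130944)) (tt N9004 F91386) (tt N7358 F91387) (tt N10930 (iv F130956)) (tt N7357 (iv D21211)) (tt N10931 D30905))
theorem Q9006 : ∀ i, i < 9006 → P i := stepQ 9005 Q9005 (allL N9005 (tt N7371 F91393) (tt N10918 F201769) (tt N7364 F91394) (tt N10632 F201770) (tt N10929 (iv F130950)) (tt N7359 F91395) (tt N10931 (iv F130965)) (tt N7429 F91396) (tt N10901 (iv F130707)) (tt N7358 (iv D21213)))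
theorem Q9007 : ∀ i, i < 9007 → P i := stepQ 9006 Q9006 (allL N9006 (tt N7374 F91407) (tt N9006 F91408) (tt N10925 (iv F130936)) (tt N9006 F91409) (tt N9006 F91410) (tt N7360 (iv D21216)) (tt N10105 (iv F123634)) (tt N10932 D30911) (tt N10933 D30912) (tt N10902 (iv F130722)))
theorem Q9008 : ∀ i, i < 9008 → P i := stepQ 9007 Q9007 (allL N9007 (tt N7375 F91411) (tt N9007 F91412) (tt N10926 (iv F130939)) (tt N9007 F91413) (tt N7362 F91414) (tt N10932 (iv F130993)) (tt N7431 F91415) (tt N7360 (iv D21217)) (tt N10934 D30913) (tt N10903 (iv F130728)))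
theorem Q9009 : ∀ i, i < 9009 → P i := stepQ 9008 Q9008 (allL N9008 (tt N7376 F91416) (tt N9008 F91417) (tt N10927 (iv F130943)) (tt N10935 D30914) (tt N7363 F91418) (tt N10933 (iv F130997)) (tt N7361 F91419) (tt N10934 (iv F131002)) (tt N7360 (iv D21218)) (tt N10936 D30915))
theorem Q9010 : ∀ i, i < 9010 → P i := stepQ 9009 Q9009 (allL N9009 (tt N7377 F91420) (tt N9009 F91421) (tt N10937 D30916) (tt N7361 (iv D21219)) (tt N7664 F91422) (tt N10108 (iv F123647)) (tt N10935 (iv F131006)) (tt N7433 F91423) (tt N9009 F91424) (tt N10938 D30917))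
theorem Q9011 : ∀ i, i < 9011 → P i := stepQ 9010 Q9010 (allL N9010 (tt N7378 F91425) (tt N9010 F91426) (tt N10929 (iv F130949)) (tt N10938 (iv F131018)) (tt N7364 F91427) (tt N10109 (iv F123653)) (tt N10936 (iv F131011)) (tt N7434 F91428) (tt N10906 (iv F130742)) (tt N7361 (iv D21220)))
theorem Q9012 : ∀ i, i < 9012 → P i := stepQ 9011 Q9011 (allL N9011 (tt N7379 F91429) (tt N9011 F91430) (tt N10930 (iv F130953)) (tt N7666 F91431) (tt N10934 (iv F131000)) (tt N9011 F91432) (tt N7435 F91433) (tt N7363 F91434) (tt N7362 (iv D21221)) (tt N10939 D30918))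
theorem Q9013 : ∀ i, i < 9013 → P i := stepQ 9012 Q9012 (allL N9012 (tt N7380 F91435) (tt N9012 F91436) (tt N10931 (iv F130963)) (tt N7667 F91437) (tt N10936 (iv F131010)) (tt N9012 F91438) (tt N7364 F91439) (tt N10939 (iv F131026)) (tt N10908 (iv F130754)) (tt N7363 (iv D21222)))
theorem Q9014 : ∀ i, i < 9014 → P i := stepQ 9013 Q9013 (allL N9013 (tt N10896 (iv F197376)) (tt N7887 (iv F201391)) (tt N9013 F91440) (tt N7366 F91441) (tt N7841 F201072) (tt N10940 D30919) (tt N7365 (iv D21223)) (tt N7854 (iv F201467)) (tt N10655 (iv F201405)) (tt N10635 F197017))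
theorem Q9015 : ∀ i, i < 9015 → P i := stepQ 9014 Q9014 (allL N9014 (tt N10924 (iv F130931)) (tt N10649 (iv F128853)) (tt N9014 F91443) (tt N10941 D30922) (tt N7886 F91444) (tt N10113 (iv F123671)) (tt N10655 (iv F201404)) (tt N7438 F91445) (tt N7365 (iv D21224)) (tt N10942 D30923))
theorem Q9016 : ∀ i, i < 9016 → P i := stepQ 9015 Q9015 (allL N9015 (tt N10925 (iv F130935)) (tt N10650 (iv F128856)) (tt N7374 F91446) (tt N10940 (iv F131028)) (tt N9015 F91447) (tt N7366 (iv D21225)) (tt N10114 (iv F123675)) (tt N10943 D30924) (tt N10944 D30925) (tt N10910 (iv F130764)))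
theorem Q9017 : ∀ i, i < 9017 → P i := stepQ 9016 Q9016 (allL N9016 (tt N10926 (iv F130938)) (tt N7900 (iv F201397)) (tt N7375 F91448) (tt N7854 (iv F201466)) (tt N7368 F91449) (tt N10943 (iv F131043)) (tt N7440 F91450) (tt N7366 (iv D21226)) (tt N10945 D30926) (tt N10688 F197100))
theorem Q9018 : ∀ i, i < 9018 → P i := stepQ 9017 Q9017 (allL N9017 (tt N10927 (iv F130942)) (tt N10651 (iv F128863)) (tt N7376 F91451) (tt N10946 D30927) (tt N7369 F91452) (tt N10944 (iv F131046)) (tt N7367 F91453) (tt N10945 (iv F131050)) (tt N7366 (iv D21227)) (tt N10947 D30928))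
theorem Q9019 : ∀ i, i < 9019 → P i := stepQ 9018 Q9018 (allL N9018 (tt N10928 (iv F130946)) (tt N10652 (iv F128867)) (tt N10948 D30929) (tt N7367 (iv D21228)) (tt N10949 D30930) (tt N10117 (iv F123682)) (tt N10946 (iv F131051)) (tt N7442 F91454) (tt N10941 (iv F131037)) (tt N10950 D30931))
theorem Q9020 : ∀ i, i < 9020 → P i := stepQ 9019 Q9019 (allL N9019 (tt N10929 (iv F130948)) (tt N10653 (iv F128869)) (tt N7378 F91455) (tt N10950 (iv F131059)) (tt N7371 F91456) (tt N10118 (iv F123686)) (tt N10947 (iv F131054)) (tt N7443 F91457) (tt N10913 (iv F130776)) (tt N7367 (iv D21229)))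
theorem Q9021 : ∀ i, i < 9021 → P i := stepQ 9020 Q9020 (allL N9020 (tt N10930 (iv F130952)) (tt N7898 (iv F201401)) (tt N7379 F91458) (tt N7852 (iv F201463)) (tt N10945 (iv F131048)) (tt N9020 F91459) (tt N7444 F91460) (tt N7369 F91461) (tt N7368 (iv D21230)) (tt N10951 D30933))
theorem Q9022 : ∀ i, i < 9022 → P i := stepQ 9021 Q9021 (allL N9021 (tt N10631 (iv F201370)) (tt N7886 F201070) (tt N7672 F91462) (tt N7369 (iv D21231)) (tt N10649 (iv F201395)) (tt N9021 F91463) (tt N7370 F91464) (tt N7852 (iv F201464)) (tt N7840 F201071) (tt N10952 D30935))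
theorem Q9023 : ∀ i, i < 9023 → P i := stepQ 9022 Q9022 (allL N9022 (tt N10931 (iv F130962)) (tt N10654 (iv F128883)) (tt N7380 F91466) (tt N10952 (iv F131074)) (tt N10947 (iv F131053)) (tt N9022 F91467) (tt N7371 F91468) (tt N10951 (iv F131069)) (tt N10916 (iv F130788)) (tt N7369 (iv D21232)))
theorem Q9024 : ∀ i, i < 9024 → P i := stepQ 9023 Q9023 (allL N9023 (tt N10630 F201773) (tt N10655 (iv F128887)) (tt N7674 F91469) (tt N10949 (iv F131057)) (tt N7370 (iv D21233)) (tt N10953 D30936) (tt N10649 F201774) (tt N7447 F91470) (tt N7887 F91471) (tt N10954 D30937))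
theorem Q9025 : ∀ i, i < 9025 → P i := stepQ 9024 Q9024 (allL N9024 (tt N10632 F201775) (tt N10656 (iv F128891)) (tt N7675 F91472) (tt N7371 F91473) (tt N10954 (iv F131082)) (tt N7373 F91474) (tt N10952 (iv F131076)) (tt N7448 F91475) (tt N10641 F201776) (tt N7370 (iv D21234)))
theorem Q9026 : ∀ i, i < 9026 → P i := stepQ 9025 Q9025 (allL N9025 (tt N9806 F201972) (tt N10657 (iv F128896)) (tt N7676 F91476) (tt N10124 (iv F123707)) (tt N10953 (iv F131078)) (tt N7372 (iv D21235)) (tt N10955 D30939) (tt N7449 F91477) (tt N7888 F91478) (tt N10956 D30940))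
theorem Q9027 : ∀ i, i < 9027 → P i := stepQ 9026 Q9026 (allL N9026 (tt N9808 F201973) (tt N10658 (iv F128900)) (tt N7677 F91479) (tt N10125 (iv F123711)) (tt N7373 F91480) (tt N10956 (iv F131092)) (tt N9026 F91481) (tt N7450 F91482) (tt N9827 F201974) (tt N7372 (iv D21236)))
theorem Q9028 : ∀ i, i < 9028 → P i := stepQ 9027 Q9027 (allL N9027 (tt N10932 (iv F130989)) (tt N7381 F91487) (tt N10943 (iv F131041)) (tt N9027 F91488) (tt N9027 F91489) (tt N7375 F91490) (tt N10957 D30942) (tt N7374 (iv D21238)) (tt N10958 D30943) (tt N10626 F206193))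
theorem Q9029 : ∀ i, i < 9029 → P i := stepQ 9028 Q9028 (allL N9028 (tt N10933 (iv F130994)) (tt N7382 F91491) (tt N10944 (iv F131044)) (tt N10959 D30944) (tt N9028 F91492) (tt N7376 F91493) (tt N10128 (iv F123726)) (tt N10958 (iv F131106)) (tt N7374 (iv D21239)) (tt N10960 D30945))
theorem Q9030 : ∀ i, i < 9030 → P i := stepQ 9029 Q9029 (allL N9029 (tt N10934 (iv F130998)) (tt N7383 F91494) (tt N10945 (iv F131047)) (tt N10961 D30946) (tt N7379 F91495) (tt N10958 (iv F131105)) (tt N7453 F91496) (tt N7376 F91497) (tt N7375 (iv D21240)) (tt N10962 D30947))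
theorem Q9031 : ∀ i, i < 9031 → P i := stepQ 9030 Q9030 (allL N9030 (tt N10935 (iv F131003)) (tt N7384 F91498) (tt N10963 D30948) (tt N7376 (iv D21241)) (tt N7680 F91499) (tt N10959 (iv F131108)) (tt N7377 F91500) (tt N10961 (iv F131116)) (tt N9030 F91501) (tt N10964 D30949))
theorem Q9032 : ∀ i, i < 9032 → P i := stepQ 9031 Q9031 (allL N9031 (tt N10936 (iv F131008)) (tt N7385 F91502) (tt N10947 (iv F131052)) (tt N10964 (iv F131126)) (tt N7380 F91503) (tt N10960 (iv F131112)) (tt N7378 F91504) (tt N10962 (iv F131121)) (tt N10919 (iv F130827)) (tt N7376 (iv D21242)))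
theorem Q9033 : ∀ i, i < 9033 → P i := stepQ 9032 Q9032 (allL N9032 (tt N10937 (iv F131012)) (tt N10965 D30950) (tt N7377 (iv D21243)) (tt N10948 (iv F131055)) (tt N7682 F91505) (tt N10132 (iv F123739)) (tt N10963 (iv F131123)) (tt N7456 F91506) (tt N9032 F91507) (tt N10966 D30951))
theorem Q9034 : ∀ i, i < 9034 → P i := stepQ 9033 Q9033 (allL N9033 (tt N10938 (iv F131016)) (tt N7387 F91508) (tt N10966 (iv F131133)) (tt N7378 F91509) (tt N7683 F91510) (tt N10133 (iv F123745)) (tt N10964 (iv F131128)) (tt N7457 F91511) (tt N10967 D30952) (tt N7377 (iv D21244)))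
theorem Q9035 : ∀ i, i < 9035 → P i := stepQ 9034 Q9034 (allL N9034 (tt N10939 (iv F131021)) (tt N7388 F91512) (tt N10951 (iv F131066)) (tt N7684 F91513) (tt N10962 (iv F131119)) (tt N9034 F91514) (tt N7458 F91515) (tt N7380 F91516) (tt N10922 (iv F130840)) (tt N7379 (iv D21245)))
theorem Q9036 : ∀ i, i < 9036 → P i := stepQ 9035 Q9035 (allL N9035 (tt N9035 F91517) (tt N10957 (iv F131099)) (tt N10625 F206164) (tt N9035 F91518) (tt N9035 F91519) (tt N7459 F91520) (tt N7381 (iv D21246)) (tt N10135 (iv F123756)) (tt N10968 D30953) (tt N10624 F206165))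
theorem Q9037 : ∀ i, i < 9037 → P i := stepQ 9036 Q9036 (allL N9036 (tt N9036 F91521) (tt N10958 (iv F131103)) (tt N10627 F206202) (tt N10969 D30954) (tt N9036 F91522) (tt N7383 F91523) (tt N10968 (iv F131143)) (tt N7382 F91524) (tt N7381 (iv D21247)) (tt N10752 F206203))
theorem Q9038 : ∀ i, i < 9038 → P i := stepQ 9037 Q9037 (allL N9037 (tt N9037 F91525) (tt N10959 (iv F131107)) (tt N10088 (iv F206254)) (tt N7382 (iv D21248)) (tt N10970 D30957) (tt N7384 F91526) (tt N10090 F206145) (tt N10969 (iv F131146)) (tt N9037 F91527) (tt N10971 D30958))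
theorem Q9039 : ∀ i, i < 9039 → P i := stepQ 9038 Q9038 (allL N9038 (tt N9038 F91528) (tt N10960 (iv F131110)) (tt N10666 (iv F128949)) (tt N10971 (iv F131160)) (tt N9038 F91529) (tt N7385 F91530) (tt N10136 (iv F123768)) (tt N10752 F206200) (tt N10670 F206201) (tt N7382 (iv D21249)))
theorem Q9040 : ∀ i, i < 9040 → P i := stepQ 9039 Q9039 (allL N9039 (tt N9039 F91531) (tt N10961 (iv F131113)) (tt N10972 D30959) (tt N7383 (iv D21250)) (tt N7688 F91532) (tt N10969 (iv F131145)) (tt N7463 F91533) (tt N7384 F91534) (tt N9039 F91535) (tt N10973 D30960))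
theorem Q9041 : ∀ i, i < 9041 → P i := stepQ 9040 Q9040 (allL N9040 (tt N9040 F91536) (tt N10962 (iv F131118)) (tt N9923 F205920) (tt N10973 (iv F131168)) (tt N7388 F91537) (tt N10752 (iv F206060)) (tt N7464 F91538) (tt N7385 F91539) (tt N9922 F205921) (tt N7383 (iv D21251)))
theorem Q9042 : ∀ i, i < 9042 → P i := stepQ 9041 Q9041 (allL N9041 (tt N9041 F91540) (tt N10974 D30961) (tt N7384 (iv D21252)) (tt N10086 F206178) (tt N7690 F91541) (tt N10088 (iv F206255)) (tt N7386 F91542) (tt N10972 (iv F131165)) (tt N9041 F91543) (tt N10975 D30962))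
theorem Q9043 : ∀ i, i < 9043 → P i := stepQ 9042 Q9042 (allL N9042 (tt N9042 F91544) (tt N10964 (iv F131125)) (tt N10975 (iv F131176)) (tt N7385 F91545) (tt N7691 F91546) (tt N10971 (iv F131161)) (tt N7387 F91547) (tt N10973 (iv F131171)) (tt N10976 D30963) (tt N7384 (iv D21253)))
theorem Q9044 : ∀ i, i < 9044 → P i := stepQ 9043 Q9043 (allL N9043 (tt N10977 D30964) (tt N7386 (iv D21254)) (tt N10965 (iv F131129)) (tt N10669 (iv F128969)) (tt N7692 F91548) (tt N10139 (iv F123787)) (tt N10974 (iv F131173)) (tt N7467 F91549) (tt N9043 F91550) (tt N10978 D30965))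
theorem Q9045 : ∀ i, i < 9045 → P i := stepQ 9044 Q9044 (allL N9044 (tt N9044 F91551) (tt N10978 (iv F131187)) (tt N7387 F91552) (tt N10670 (iv F128974)) (tt N7693 F91553) (tt N10140 (iv F123793)) (tt N10975 (iv F131178)) (tt N7468 F91554) (tt N10979 D30966) (tt N7386 (iv D21255)))
theorem Q9046 : ∀ i, i < 9046 → P i := stepQ 9045 Q9045 (allL N9045 (tt N9045 F91555) (tt N10967 (iv F131136)) (tt N10979 (iv F131191)) (tt N10923 (iv F130883)) (tt N7694 F91556) (tt N10141 (iv F123797)) (tt N10976 (iv F131181)) (tt N7469 F91557) (tt N7387 (iv D21256)) (tt N9045 F91558))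
theorem Q9047 : ∀ i, i < 9047 → P i := stepQ 9046 Q9046 (allL N9046 (tt N7854 (iv F201465)) (tt N7390 F91559) (tt N9046 F91560) (tt N10926 F197842) (tt N7389 (iv D21257)) (tt N10172 (iv F123964)) (tt N10980 D30968) (tt N10896 (iv F130655)) (tt N10700 (iv F201698)) (tt N7422 F91561))
theorem Q9048 : ∀ i, i < 9048 → P i := stepQ 9047 Q9047 (allL N9047 (tt N7853 (iv F201460)) (tt N7391 F91562) (tt N9047 F91563) (tt N7850 F201335) (tt N10980 (iv F131200)) (tt N7471 F91565) (tt N7389 (iv D21258)) (tt N7895 F197846) (tt N10698 (iv F201693)) (tt N7423 F91566))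
theorem Q9049 : ∀ i, i < 9049 → P i := stepQ 9048 Q9048 (allL N9048 (tt N7399 F91577) (tt N10926 F197895) (tt N9048 F91578) (tt N7390 (iv D21262)) (tt N7889 F91579) (tt N10176 (iv F123985)) (tt N10981 D30977) (tt N10897 (iv F130678)) (tt N10982 D30978) (tt N7424 F91580))
theorem Q9050 : ∀ i, i < 9050 → P i := stepQ 9049 Q9049 (allL N9049 (tt N7400 F91581) (tt N10980 (iv F131198)) (tt N7394 F91582) (tt N10981 (iv F131233)) (tt N7391 F91583) (tt N10983 D30979) (tt N7390 (iv D21263)) (tt N10984 D30980) (tt N10985 D30981) (tt N7425 F91584))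
theorem Q9051 : ∀ i, i < 9051 → P i := stepQ 9050 Q9050 (allL N9050 (tt N7401 F91585) (tt N10700 F201879) (tt N7395 F91586) (tt N10986 D30982) (tt N7392 F91587) (tt N10178 (iv F123994)) (tt N10985 (iv F131250)) (tt N10899 (iv F130687)) (tt N7390 (iv D21264)) (tt N10987 D30983))
theorem Q9052 : ∀ i, i < 9052 → P i := stepQ 9051 Q9051 (allL N9051 (tt N7402 F91588) (tt N7895 (iv F197393)) (tt N7396 F91589) (tt N7891 F91590) (tt N10984 (iv F131245)) (tt N7474 F91591) (tt N7894 F201720) (tt N7391 (iv D21265)) (tt N10988 D30984) (tt N7427 F91592))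
theorem Q9053 : ∀ i, i < 9053 → P i := stepQ 9052 Q9052 (allL N9052 (tt N7403 F91593) (tt N10698 F201880) (tt N7397 F91594) (tt N10691 F201881) (tt N10985 (iv F131249)) (tt N7475 F91595) (tt N7392 F91596) (tt N10988 (iv F131259)) (tt N7391 (iv D21266)) (tt N10989 D30986))
theorem Q9054 : ∀ i, i < 9054 → P i := stepQ 9053 Q9053 (allL N9053 (tt N7405 F91601) (tt N10701 F201882) (tt N7398 F91602) (tt N10692 F201883) (tt N10987 (iv F131254)) (tt N7393 F91603) (tt N10989 (iv F131268)) (tt N10901 (iv F130706)) (tt N7429 F91604) (tt N7392 (iv D21268)))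
theorem Q9055 : ∀ i, i < 9055 → P i := stepQ 9054 Q9054 (allL N9054 (tt N7407 F91613) (tt N9054 F91614) (tt N10983 (iv F131240)) (tt N9054 F91615) (tt N7477 F91616) (tt N7394 (iv D21271)) (tt N10184 (iv F124022)) (tt N10990 D30992) (tt N10991 D30993) (tt N7430 F91617))
theorem Q9056 : ∀ i, i < 9056 → P i := stepQ 9055 Q9055 (allL N9055 (tt N7408 F91618) (tt N9055 F91619) (tt N10984 (iv F131244)) (tt N9055 F91620) (tt N7396 F91621) (tt N10990 (iv F131293)) (tt N10903 (iv F130727)) (tt N7394 (iv D21272)) (tt N10992 D30994) (tt N7431 F91622))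
theorem Q9057 : ∀ i, i < 9057 → P i := stepQ 9056 Q9056 (allL N9056 (tt N7409 F91623) (tt N9056 F91624) (tt N10985 (iv F131248)) (tt N10993 D30995) (tt N7397 F91625) (tt N10991 (iv F131298)) (tt N7395 F91626) (tt N10992 (iv F131302)) (tt N7394 (iv D21273)) (tt N10994 D30996))
theorem Q9058 : ∀ i, i < 9058 → P i := stepQ 9057 Q9057 (allL N9057 (tt N7410 F91627) (tt N9057 F91628) (tt N10995 D30997) (tt N7395 (iv D21274)) (tt N9057 F91629) (tt N10187 (iv F124035)) (tt N10993 (iv F131306)) (tt N10905 (iv F130736)) (tt N9057 F91630) (tt N10996 D30998))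
theorem Q9059 : ∀ i, i < 9059 → P i := stepQ 9058 Q9058 (allL N9058 (tt N7411 F91631) (tt N9058 F91632) (tt N10987 (iv F131253)) (tt N10996 (iv F131318)) (tt N7398 F91633) (tt N10188 (iv F124040)) (tt N10994 (iv F131311)) (tt N10906 (iv F130741)) (tt N7434 F91634) (tt N7395 (iv D21275)))
theorem Q9060 : ∀ i, i < 9060 → P i := stepQ 9059 Q9059 (allL N9059 (tt N7412 F91635) (tt N9059 F91636) (tt N10988 (iv F131257)) (tt N9059 F91637) (tt N10992 (iv F131301)) (tt N7481 F91638) (tt N10907 (iv F130747)) (tt N7397 F91639) (tt N7396 (iv D21276)) (tt N10997 D30999))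
theorem Q9061 : ∀ i, i < 9061 → P i := stepQ 9060 Q9060 (allL N9060 (tt N7413 F91640) (tt N9060 F91641) (tt N10989 (iv F131266)) (tt N9060 F91642) (tt N10994 (iv F131310)) (tt N7482 F91643) (tt N7398 F91644) (tt N10997 (iv F131324)) (tt N7436 F91645) (tt N7397 (iv D21277)))
theorem Q9062 : ∀ i, i < 9062 → P i := stepQ 9061 Q9061 (allL N9061 (tt N10981 (iv F131231)) (tt N10671 (iv F129216)) (tt N9061 F91646) (tt N7400 F91647) (tt N7892 F91648) (tt N10998 D31000) (tt N7399 (iv D21278)) (tt N10689 F197884) (tt N10999 D31002) (tt N7437 F91649))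
theorem Q9063 : ∀ i, i < 9063 → P i := stepQ 9062 Q9062 (allL N9062 (tt N10982 (iv F131236)) (tt N10672 (iv F129220)) (tt N9062 F91650) (tt N11000 D31003) (tt N7893 F91651) (tt N10192 (iv F124057)) (tt N10999 (iv F131335)) (tt N10909 (iv F130761)) (tt N7399 (iv D21279)) (tt N11001 D31004))
theorem Q9064 : ∀ i, i < 9064 → P i := stepQ 9063 Q9063 (allL N9063 (tt N10983 (iv F131239)) (tt N10673 (iv F129222)) (tt N7407 F91652) (tt N10998 (iv F131327)) (tt N7485 F91653) (tt N7400 (iv D21280)) (tt N10193 (iv F124060)) (tt N11002 D31005) (tt N11003 D31006) (tt N7439 F91654))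
theorem Q9065 : ∀ i, i < 9065 → P i := stepQ 9064 Q9064 (allL N9064 (tt N10984 (iv F131243)) (tt N10674 (iv F129226)) (tt N7408 F91655) (tt N10689 (iv F197409)) (tt N7402 F91656) (tt N11002 (iv F131342)) (tt N10688 F197081) (tt N7400 (iv D21281)) (tt N11004 D31007) (tt N7440 F91657))
theorem Q9066 : ∀ i, i < 9066 → P i := stepQ 9065 Q9065 (allL N9065 (tt N10985 (iv F131247)) (tt N10675 (iv F129230)) (tt N7409 F91658) (tt N11005 D31008) (tt N7403 F91659) (tt N11003 (iv F131346)) (tt N7401 F91660) (tt N11004 (iv F131349)) (tt N7400 (iv D21282)) (tt N11006 D31009))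
theorem Q9067 : ∀ i, i < 9067 → P i := stepQ 9066 Q9066 (allL N9066 (tt N10986 (iv F131251)) (tt N10676 (iv F129234)) (tt N11007 D31010) (tt N7401 (iv D21283)) (tt N11008 D31011) (tt N10196 (iv F124068)) (tt N11005 (iv F131350)) (tt N10912 (iv F130772)) (tt N11000 (iv F131336)) (tt N11009 D31012))
theorem Q9068 : ∀ i, i < 9068 → P i := stepQ 9067 Q9067 (allL N9067 (tt N10987 (iv F131252)) (tt N10677 (iv F129235)) (tt N7411 F91661) (tt N11009 (iv F131357)) (tt N7405 F91662) (tt N10197 (iv F124071)) (tt N11006 (iv F131353)) (tt N10913 (iv F130775)) (tt N7443 F91663) (tt N7401 (iv D21284)))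
theorem Q9069 : ∀ i, i < 9069 → P i := stepQ 9068 Q9068 (allL N9068 (tt N10988 (iv F131256)) (tt N10678 (iv F129239)) (tt N7412 F91664) (tt N11010 D31013) (tt N11004 (iv F131348)) (tt N7490 F91665) (tt N10914 (iv F130779)) (tt N7403 F91666) (tt N7402 (iv D21285)) (tt N11011 D31014))
theorem Q9070 : ∀ i, i < 9070 → P i := stepQ 9069 Q9069 (allL N9069 (tt N10691 F201862) (tt N7428 (iv F202209)) (tt N9069 F91667) (tt N7403 (iv D21286)) (tt N11012 D31015) (tt N7491 F91668) (tt N7404 F91669) (tt N11010 (iv F131360)) (tt N7423 F201863) (tt N11013 D31016))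
theorem Q9071 : ∀ i, i < 9071 → P i := stepQ 9070 Q9070 (allL N9070 (tt N10989 (iv F131265)) (tt N10679 (iv F129247)) (tt N7413 F91671) (tt N11013 (iv F131370)) (tt N11006 (iv F131352)) (tt N7492 F91672) (tt N7405 F91673) (tt N11011 (iv F131364)) (tt N7446 F91674) (tt N7403 (iv D21287)))
theorem Q9072 : ∀ i, i < 9072 → P i := stepQ 9071 Q9071 (allL N9071 (tt N10690 F201867) (tt N7426 (iv F202245)) (tt N9071 F91675) (tt N11008 (iv F131356)) (tt N7404 (iv D21288)) (tt N10227 (iv F202302)) (tt N11012 (iv F131367)) (tt N10917 (iv F130790)) (tt N7422 F201868) (tt N11014 D31018))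
theorem Q9073 : ∀ i, i < 9073 → P i := stepQ 9072 Q9072 (allL N9072 (tt N10692 F201869) (tt N7429 (iv F202246)) (tt N9072 F91677) (tt N7405 F91678) (tt N11014 (iv F131377)) (tt N7406 F91679) (tt N11013 (iv F131372)) (tt N10918 (iv F130795)) (tt N10701 F201864) (tt N7404 (iv D21289)))
theorem Q9074 : ∀ i, i < 9074 → P i := stepQ 9073 Q9073 (allL N9073 (tt N10990 (iv F131289)) (tt N7414 F91689) (tt N11002 (iv F131340)) (tt N9073 F91690) (tt N7495 F91691) (tt N7408 F91692) (tt N11015 D31023) (tt N7407 (iv D21293)) (tt N11016 D31024) (tt N7451 F91693))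
theorem Q9075 : ∀ i, i < 9075 → P i := stepQ 9074 Q9074 (allL N9074 (tt N10991 (iv F131295)) (tt N7415 F91694) (tt N11003 (iv F131344)) (tt N11017 D31025) (tt N7496 F91695) (tt N7409 F91696) (tt N10207 (iv F124102)) (tt N11016 (iv F131398)) (tt N7407 (iv D21294)) (tt N11018 D31026))
theorem Q9076 : ∀ i, i < 9076 → P i := stepQ 9075 Q9075 (allL N9075 (tt N10992 (iv F131299)) (tt N7416 F91697) (tt N11004 (iv F131347)) (tt N10293 (iv F205690)) (tt N7412 F91698) (tt N11016 (iv F131397)) (tt N9921 (iv F205693)) (tt N7409 F91699) (tt N7408 (iv D21295)) (tt N11019 D31028))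
theorem Q9077 : ∀ i, i < 9077 → P i := stepQ 9076 Q9076 (allL N9076 (tt N10993 (iv F131303)) (tt N7417 F91700) (tt N11020 D31029) (tt N7409 (iv D21296)) (tt N9076 F91701) (tt N11017 (iv F131400)) (tt N7410 F91702) (tt N10293 F205809) (tt N9076 F91703) (tt N11021 D31030))
theorem Q9078 : ∀ i, i < 9078 → P i := stepQ 9077 Q9077 (allL N9077 (tt N10994 (iv F131308)) (tt N7418 F91704) (tt N11006 (iv F131351)) (tt N11021 (iv F131418)) (tt N7413 F91705) (tt N11018 (iv F131404)) (tt N7411 F91706) (tt N11019 (iv F131412)) (tt N7455 F91707) (tt N7409 (iv D21297)))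
theorem Q9079 : ∀ i, i < 9079 → P i := stepQ 9078 Q9078 (allL N9078 (tt N10995 (iv F131313)) (tt N11022 D31031) (tt N7410 (iv D21298)) (tt N11007 (iv F131355)) (tt N9078 F91708) (tt N10211 (iv F124113)) (tt N11020 (iv F131415)) (tt N10920 (iv F130829)) (tt N9078 F91709) (tt N11023 D31032))
theorem Q9080 : ∀ i, i < 9080 → P i := stepQ 9079 Q9079 (allL N9079 (tt N10996 (iv F131316)) (tt N7420 F91710) (tt N11023 (iv F131424)) (tt N7411 F91711) (tt N9079 F91712) (tt N10212 (iv F124117)) (tt N11021 (iv F131420)) (tt N10921 (iv F130834)) (tt N11024 D31033) (tt N7410 (iv D21299)))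
theorem Q9081 : ∀ i, i < 9081 → P i := stepQ 9080 Q9080 (allL N9080 (tt N10997 (iv F131320)) (tt N7421 F91713) (tt N11011 (iv F131362)) (tt N9080 F91714) (tt N11019 (iv F131411)) (tt N7502 F91715) (tt N10922 (iv F130838)) (tt N7413 F91716) (tt N7458 F91717) (tt N7412 (iv D21300)))
theorem Q9082 : ∀ i, i < 9082 → P i := stepQ 9081 Q9081 (allL N9081 (tt N9081 F91718) (tt N11015 (iv F131391)) (tt N10622 F205883) (tt N9081 F91719) (tt N7503 F91720) (tt N10624 (iv F206043)) (tt N7414 (iv D21301)) (tt N10214 (iv F124125)) (tt N10742 F205884) (tt N7459 F91721))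
theorem Q9083 : ∀ i, i < 9083 → P i := stepQ 9082 Q9082 (allL N9082 (tt N9082 F91722) (tt N11016 (iv F131395)) (tt N9917 F205529) (tt N10289 (iv F205684)) (tt N7504 F91723) (tt N7416 F91724) (tt N10742 (iv F205686)) (tt N7415 F91725) (tt N7414 (iv D21302)) (tt N11025 D31036))
theorem Q9084 : ∀ i, i < 9084 → P i := stepQ 9083 Q9083 (allL N9083 (tt N9083 F91726) (tt N11017 (iv F131399)) (tt N10287 F205810) (tt N7415 (iv D21303)) (tt N11026 D31038) (tt N7417 F91727) (tt N10216 (iv F124133)) (tt N10289 F205811) (tt N9083 F91728) (tt N11027 D31039))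
theorem Q9085 : ∀ i, i < 9085 → P i := stepQ 9084 Q9084 (allL N9084 (tt N9084 F91729) (tt N11018 (iv F131402)) (tt N10686 (iv F129300)) (tt N11027 (iv F131450)) (tt N7506 F91730) (tt N7418 F91731) (tt N10217 (iv F124138)) (tt N11025 (iv F131440)) (tt N7462 F91732) (tt N7415 (iv D21304)))
theorem Q9086 : ∀ i, i < 9086 → P i := stepQ 9085 Q9085 (allL N9085 (tt N9085 F91737) (tt N11019 (iv F131410)) (tt N9920 F205548) (tt N10294 (iv F205691)) (tt N7421 F91738) (tt N11025 (iv F131439)) (tt N9922 (iv F205699)) (tt N7418 F91739) (tt N7464 F91740) (tt N7416 (iv D21306)))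
theorem Q9087 : ∀ i, i < 9087 → P i := stepQ 9086 Q9086 (allL N9086 (tt N9086 F91745) (tt N11021 (iv F131417)) (tt N10292 F205812) (tt N7418 F91746) (tt N9086 F91747) (tt N11027 (iv F131451)) (tt N7420 F91748) (tt N10294 F205813) (tt N11028 D31044) (tt N7417 (iv D21308)))
theorem Q9088 : ∀ i, i < 9088 → P i := stepQ 9087 Q9087 (allL N9087 (tt N11029 D31045) (tt N7419 (iv D21309)) (tt N11022 (iv F131421)) (tt N10129 F205825) (tt N9087 F91749) (tt N10222 (iv F124153)) (tt N10279 F205826) (tt N10130 (iv F206025)) (tt N9087 F91750) (tt N11030 D31046))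
theorem Q9089 : ∀ i, i < 9089 → P i := stepQ 9088 Q9088 (allL N9088 (tt N9088 F91751) (tt N11030 (iv F131475)) (tt N7420 F91752) (tt N10137 F205831) (tt N9088 F91753) (tt N10223 (iv F124157)) (tt N10292 F205832) (tt N10138 (iv F206028)) (tt N11031 D31047) (tt N7419 (iv D21310)))
theorem Q9090 : ∀ i, i < 9090 → P i := stepQ 9089 Q9089 (allL N9089 (tt N9089 F91754) (tt N11024 (iv F131426)) (tt N11031 (iv F131478)) (tt N7469 F91755) (tt N9089 F91756) (tt N10224 (iv F124160)) (tt N11028 (iv F131470)) (tt N10923 (iv F130885)) (tt N7420 (iv D21311)) (tt N9089 F91757))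
theorem Q9091 : ∀ i, i < 9091 → P i := stepQ 9090 Q9090 (allL N9090 (tt N10688 (iv F129323)) (tt N7424 F91758) (tt N10903 F197087) (tt N7422 (iv D21312)) (tt N7894 F201719) (tt N10225 (iv F124164)) (tt N10984 (iv F197407)) (tt N10898 F197088) (tt N11032 D31050) (tt N10926 (iv F197410)))
theorem Q9092 : ∀ i, i < 9092 → P i := stepQ 9091 Q9091 (allL N9091 (tt N10689 (iv F129326)) (tt N7425 F91760) (tt N9091 F91761) (tt N10984 F197902) (tt N7423 F91762) (tt N11033 D31051) (tt N7422 (iv D21313)) (tt N10981 (iv F198240)) (tt N11012 (iv F202300)) (tt N10980 (iv F131201)))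
theorem Q9093 : ∀ i, i < 9093 → P i := stepQ 9092 Q9092 (allL N9092 (tt N7892 F197880) (tt N7427 F91766) (tt N9092 F91767) (tt N7890 F197881) (tt N10981 (iv F198239)) (tt N7516 F91769) (tt N7889 F197882) (tt N7423 (iv D21315)) (tt N11010 (iv F202203)) (tt N7895 F197883))
theorem Q9094 : ∀ i, i < 9094 → P i := stepQ 9093 Q9093 (allL N9093 (tt N7437 F91790) (tt N10984 F197878) (tt N9093 F91791) (tt N7425 F91792) (tt N7895 F91793) (tt N11034 D31067) (tt N7424 (iv D21322)) (tt N10980 (iv F198224)) (tt N11035 D31069) (tt N10981 (iv F131235)))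
theorem Q9095 : ∀ i, i < 9095 → P i := stepQ 9094 Q9094 (allL N9094 (tt N7438 F91794) (tt N11032 (iv F131487)) (tt N9094 F91795) (tt N11036 D31070) (tt N7896 F91796) (tt N10232 (iv F124204)) (tt N11035 (iv F131550)) (tt N10924 (iv F130934)) (tt N7424 (iv D21323)) (tt N11037 D31071))
theorem Q9096 : ∀ i, i < 9096 → P i := stepQ 9095 Q9095 (allL N9095 (tt N7439 F91797) (tt N11033 (iv F131489)) (tt N7430 F91798) (tt N11034 (iv F131542)) (tt N7519 F91799) (tt N7425 (iv D21324)) (tt N10233 (iv F124208)) (tt N11038 D31072) (tt N11039 D31073) (tt N10983 (iv F131242)))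
theorem Q9097 : ∀ i, i < 9097 → P i := stepQ 9096 Q9096 (allL N9096 (tt N7440 F91800) (tt N10981 (iv F198238)) (tt N7431 F91801) (tt N10980 (iv F198223)) (tt N7427 F91802) (tt N11038 (iv F131559)) (tt N10926 (iv F130941)) (tt N7425 (iv D21325)) (tt N11040 D31074) (tt N10984 (iv F131246)))
theorem Q9098 : ∀ i, i < 9098 → P i := stepQ 9097 Q9097 (allL N9097 (tt N7441 F91803) (tt N11012 F202618) (tt N7432 F91804) (tt N11041 D31075) (tt N7428 F91805) (tt N11039 (iv F131563)) (tt N7426 F91806) (tt N11040 (iv F131567)) (tt N7425 (iv D21326)) (tt N11042 D31076))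
theorem Q9099 : ∀ i, i < 9099 → P i := stepQ 9098 Q9098 (allL N9098 (tt N7442 F91807) (tt N11008 F202682) (tt N11043 D31077) (tt N7426 (iv D21327)) (tt N10676 F202683) (tt N10236 (iv F124217)) (tt N11041 (iv F131569)) (tt N10928 (iv F130947)) (tt N11036 (iv F131552)) (tt N11044 D31079))
theorem Q9100 : ∀ i, i < 9100 → P i := stepQ 9099 Q9099 (allL N9099 (tt N7443 F91808) (tt N11014 F202684) (tt N7434 F91809) (tt N11044 (iv F131579)) (tt N7429 F91810) (tt N10237 (iv F124221)) (tt N11042 (iv F131573)) (tt N10929 (iv F130951)) (tt N10987 (iv F131255)) (tt N7426 (iv D21328)))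
theorem Q9101 : ∀ i, i < 9101 → P i := stepQ 9100 Q9100 (allL N9100 (tt N7444 F91811) (tt N11010 (iv F202201)) (tt N7435 F91812) (tt N10678 F201731) (tt N11040 (iv F131566)) (tt N7524 F91813) (tt N10930 (iv F130955)) (tt N7428 F91814) (tt N7427 (iv D21329)) (tt N11045 D31081))
theorem Q9102 : ∀ i, i < 9102 → P i := stepQ 9101 Q9101 (allL N9101 (tt N7446 F91820) (tt N11013 F202619) (tt N7436 F91821) (tt N10679 F202620) (tt N11042 (iv F131572)) (tt N7525 F91822) (tt N7429 F91823) (tt N11045 (iv F131588)) (tt N10989 (iv F131269)) (tt N7428 (iv D21331)))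
theorem Q9103 : ∀ i, i < 9103 → P i := stepQ 9102 Q9102 (allL N9102 (tt N7451 F91842) (tt N9102 F91843) (tt N11038 (iv F131557)) (tt N9102 F91844) (tt N7526 F91845) (tt N7431 F91846) (tt N11046 D31090) (tt N7430 (iv D21337)) (tt N11047 D31091) (tt N10990 (iv F131294)))
theorem Q9104 : ∀ i, i < 9104 → P i := stepQ 9103 Q9103 (allL N9103 (tt N7452 F91847) (tt N9103 F91848) (tt N11039 (iv F131561)) (tt N11048 D31092) (tt N7527 F91849) (tt N7432 F91850) (tt N10245 (iv F124264)) (tt N11047 (iv F131629)) (tt N7430 (iv D21338)) (tt N11049 D31093))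
theorem Q9105 : ∀ i, i < 9105 → P i := stepQ 9104 Q9104 (allL N9104 (tt N7453 F91851) (tt N9104 F91852) (tt N11040 (iv F131565)) (tt N11050 D31094) (tt N7435 F91853) (tt N11047 (iv F131628)) (tt N10934 (iv F131001)) (tt N7432 F91854) (tt N7431 (iv D21339)) (tt N11051 D31095))
theorem Q9106 : ∀ i, i < 9106 → P i := stepQ 9105 Q9105 (allL N9105 (tt N7454 F91855) (tt N9105 F91856) (tt N11052 D31096) (tt N7432 (iv D21340)) (tt N7702 F91857) (tt N11048 (iv F131632)) (tt N7433 F91858) (tt N11050 (iv F131641)) (tt N9105 F91859) (tt N11053 D31097))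
theorem Q9107 : ∀ i, i < 9107 → P i := stepQ 9106 Q9106 (allL N9106 (tt N7455 F91860) (tt N9106 F91861) (tt N11042 (iv F131571)) (tt N11053 (iv F131653)) (tt N7436 F91862) (tt N11049 (iv F131637)) (tt N7434 F91863) (tt N11051 (iv F131646)) (tt N10994 (iv F131312)) (tt N7432 (iv D21341)))
theorem Q9108 : ∀ i, i < 9108 → P i := stepQ 9107 Q9107 (allL N9107 (tt N7456 F91864) (tt N11054 D31098) (tt N7433 (iv D21342)) (tt N11043 (iv F131575)) (tt N7704 F91865) (tt N10249 (iv F124280)) (tt N11052 (iv F131649)) (tt N10937 (iv F131014)) (tt N9107 F91866) (tt N11055 D31099))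
theorem Q9109 : ∀ i, i < 9109 → P i := stepQ 9108 Q9108 (allL N9108 (tt N7457 F91867) (tt N9108 F91868) (tt N11055 (iv F131660)) (tt N7434 F91869) (tt N7705 F91870) (tt N10250 (iv F124286)) (tt N11053 (iv F131655)) (tt N10938 (iv F131020)) (tt N11056 D31100) (tt N7433 (iv D21343)))
theorem Q9110 : ∀ i, i < 9110 → P i := stepQ 9109 Q9109 (allL N9109 (tt N7458 F91871) (tt N9109 F91872) (tt N11045 (iv F131586)) (tt N7706 F91873) (tt N11051 (iv F131645)) (tt N7533 F91874) (tt N10939 (iv F131025)) (tt N7436 F91875) (tt N10997 (iv F131325)) (tt N7435 (iv D21344)))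
theorem Q9111 : ∀ i, i < 9111 → P i := stepQ 9110 Q9110 (allL N9110 (tt N11034 (iv F131540)) (tt N10709 (iv F129446)) (tt N9110 F91876) (tt N7439 F91877) (tt N11057 D31101) (tt N7437 (iv D21345)) (tt N10252 (iv F124294)) (tt N11058 D31102) (tt N11059 D31103) (tt N10998 (iv F131328)))
theorem Q9112 : ∀ i, i < 9112 → P i := stepQ 9111 Q9111 (allL N9111 (tt N10980 (iv F198222)) (tt N7901 (iv F202109)) (tt N9111 F91878) (tt N7440 F91879) (tt N7853 F201890) (tt N11058 (iv F131671)) (tt N7854 F201891) (tt N7437 (iv D21346)) (tt N10722 (iv F202265)) (tt N10689 F197851))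
theorem Q9113 : ∀ i, i < 9113 → P i := stepQ 9112 Q9112 (allL N9112 (tt N11035 (iv F131547)) (tt N10710 (iv F129451)) (tt N9112 F91881) (tt N11060 D31105) (tt N7897 F91882) (tt N11059 (iv F131673)) (tt N7438 F91883) (tt N10722 (iv F202264)) (tt N7437 (iv D21347)) (tt N11061 D31106))
theorem Q9114 : ∀ i, i < 9114 → P i := stepQ 9113 Q9113 (allL N9113 (tt N11036 (iv F131551)) (tt N10711 (iv F129454)) (tt N11062 D31107) (tt N7438 (iv D21348)) (tt N11063 D31108) (tt N10255 (iv F124301)) (tt N11060 (iv F131677)) (tt N10941 (iv F131036)) (tt N7442 F91884) (tt N11064 D31109))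
theorem Q9115 : ∀ i, i < 9115 → P i := stepQ 9114 Q9114 (allL N9114 (tt N11037 (iv F131553)) (tt N10712 (iv F129456)) (tt N9114 F91885) (tt N11064 (iv F131686)) (tt N7899 F91886) (tt N10256 (iv F124305)) (tt N11061 (iv F131681)) (tt N10942 (iv F131040)) (tt N11001 (iv F131339)) (tt N7438 (iv D21349)))
theorem Q9116 : ∀ i, i < 9116 → P i := stepQ 9115 Q9115 (allL N9115 (tt N11038 (iv F131556)) (tt N10713 (iv F129458)) (tt N7451 F91887) (tt N11058 (iv F131670)) (tt N7539 F91888) (tt N7440 F91889) (tt N11065 D31110) (tt N7439 (iv D21350)) (tt N11066 D31111) (tt N11002 (iv F131343)))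
theorem Q9117 : ∀ i, i < 9117 → P i := stepQ 9116 Q9116 (allL N9116 (tt N11039 (iv F131560)) (tt N10714 (iv F129462)) (tt N7452 F91890) (tt N11067 D31112) (tt N7540 F91891) (tt N7441 F91892) (tt N10258 (iv F124312)) (tt N11066 (iv F131692)) (tt N7439 (iv D21351)) (tt N11068 D31113))
theorem Q9118 : ∀ i, i < 9118 → P i := stepQ 9117 Q9117 (allL N9117 (tt N11040 (iv F131564)) (tt N10715 (iv F129466)) (tt N7453 F91893) (tt N11069 D31114) (tt N7444 F91894) (tt N11066 (iv F131691)) (tt N10945 (iv F131049)) (tt N7441 F91895) (tt N7440 (iv D21352)) (tt N11070 D31115))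
theorem Q9119 : ∀ i, i < 9119 → P i := stepQ 9118 Q9118 (allL N9118 (tt N11041 (iv F131568)) (tt N10716 (iv F129470)) (tt N11071 D31116) (tt N7441 (iv D21353)) (tt N11072 D31117) (tt N11067 (iv F131693)) (tt N7442 F91896) (tt N11069 (iv F131697)) (tt N11060 (iv F131678)) (tt N11073 D31118))
theorem Q9120 : ∀ i, i < 9120 → P i := stepQ 9119 Q9119 (allL N9119 (tt N11042 (iv F131570)) (tt N10717 (iv F129472)) (tt N7455 F91897) (tt N11073 (iv F131705)) (tt N7446 F91898) (tt N11068 (iv F131696)) (tt N7443 F91899) (tt N11070 (iv F131700)) (tt N11006 (iv F131354)) (tt N7441 (iv D21354)))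
theorem Q9121 : ∀ i, i < 9121 → P i := stepQ 9120 Q9120 (allL N9120 (tt N11043 (iv F131574)) (tt N11074 D31119) (tt N7442 (iv D21355)) (tt N7456 F91900) (tt N11075 D31120) (tt N10262 (iv F124321)) (tt N11071 (iv F131702)) (tt N10948 (iv F131056)) (tt N11062 (iv F131683)) (tt N11076 D31121))
theorem Q9122 : ∀ i, i < 9122 → P i := stepQ 9121 Q9121 (allL N9121 (tt N10676 F202688) (tt N10719 (iv F129477)) (tt N11075 (iv F131708)) (tt N7447 F91901) (tt N7442 (iv D21356)) (tt N11077 D31122) (tt N11072 (iv F131704)) (tt N10949 (iv F131058)) (tt N11063 (iv F131685)) (tt N11078 D31123))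
theorem Q9123 : ∀ i, i < 9123 → P i := stepQ 9122 Q9122 (allL N9122 (tt N11044 (iv F131578)) (tt N10720 (iv F129479)) (tt N11076 (iv F131710)) (tt N7443 F91902) (tt N11078 (iv F131714)) (tt N10264 (iv F124324)) (tt N11073 (iv F131706)) (tt N10950 (iv F131060)) (tt N11079 D31124) (tt N7442 (iv D21357)))
theorem Q9124 : ∀ i, i < 9124 → P i := stepQ 9123 Q9123 (allL N9123 (tt N10678 F201727) (tt N7897 F201728) (tt N7716 F91903) (tt N7444 (iv D21358)) (tt N10710 (iv F202113)) (tt N7547 F91904) (tt N7852 F201729) (tt N7445 F91905) (tt N7851 F201730) (tt N11080 D31126))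
theorem Q9125 : ∀ i, i < 9125 → P i := stepQ 9124 Q9124 (allL N9124 (tt N11045 (iv F131585)) (tt N10721 (iv F129486)) (tt N7458 F91907) (tt N11080 (iv F131719)) (tt N11070 (iv F131699)) (tt N7548 F91908) (tt N10951 (iv F131068)) (tt N7446 F91909) (tt N11011 (iv F131365)) (tt N7444 (iv D21359)))
theorem Q9126 : ∀ i, i < 9126 → P i := stepQ 9125 Q9125 (allL N9125 (tt N10675 F202510) (tt N10722 (iv F129490)) (tt N7718 F91910) (tt N11072 (iv F131703)) (tt N7445 (iv D21360)) (tt N11081 D31127) (tt N7447 F91911) (tt N10710 F202511) (tt N7901 F91912) (tt N11082 D31128))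
theorem Q9127 : ∀ i, i < 9127 → P i := stepQ 9126 Q9126 (allL N9126 (tt N10679 F202613) (tt N10723 (iv F129494)) (tt N7719 F91913) (tt N7446 F91914) (tt N11082 (iv F131726)) (tt N7550 F91915) (tt N7448 F91916) (tt N11080 (iv F131721)) (tt N10699 F202614) (tt N7445 (iv D21361)))
theorem Q9128 : ∀ i, i < 9128 → P i := stepQ 9127 Q9127 (allL N9127 (tt N9851 F202689) (tt N10724 (iv F129499)) (tt N7720 F91917) (tt N11077 (iv F131712)) (tt N7449 F91918) (tt N7447 (iv D21362)) (tt N11083 D31130) (tt N10953 (iv F131079)) (tt N7902 F91919) (tt N11084 D31131))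
theorem Q9129 : ∀ i, i < 9129 → P i := stepQ 9128 Q9128 (allL N9128 (tt N10677 F202690) (tt N10725 (iv F129503)) (tt N7721 F91920) (tt N11078 (iv F131713)) (tt N7448 F91921) (tt N11084 (iv F131737)) (tt N11082 (iv F131727)) (tt N10954 (iv F131083)) (tt N10696 F202691) (tt N7447 (iv D21363)))
theorem Q9130 : ∀ i, i < 9130 → P i := stepQ 9129 Q9129 (allL N9129 (tt N9853 F202811) (tt N10726 (iv F129510)) (tt N7722 F91925) (tt N10272 (iv F124348)) (tt N11083 (iv F131733)) (tt N7553 F91926) (tt N7449 (iv D21365)) (tt N11085 D31133) (tt N7903 F91927) (tt N11086 D31134))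
theorem Q9131 : ∀ i, i < 9131 → P i := stepQ 9130 Q9130 (allL N9130 (tt N9855 F202812) (tt N10727 (iv F129514)) (tt N7723 F91928) (tt N10273 (iv F124352)) (tt N11084 (iv F131736)) (tt N7450 F91929) (tt N11086 (iv F131746)) (tt N10956 (iv F131093)) (tt N9883 F202813) (tt N7449 (iv D21366)))
theorem Q9132 : ∀ i, i < 9132 → P i := stepQ 9131 Q9131 (allL N9131 (tt N11046 (iv F131621)) (tt N7459 F91934) (tt N11065 (iv F131687)) (tt N9131 F91935) (tt N7555 F91936) (tt N10957 (iv F131102)) (tt N7451 (iv D21368)) (tt N10275 (iv F124361)) (tt N11087 D31137) (tt N11015 (iv F131394)))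
theorem Q9133 : ∀ i, i < 9133 → P i := stepQ 9132 Q9132 (allL N9132 (tt N11047 (iv F131625)) (tt N7460 F91937) (tt N11066 (iv F131689)) (tt N11088 D31138) (tt N7556 F91938) (tt N7453 F91939) (tt N11087 (iv F131754)) (tt N7452 F91940) (tt N7451 (iv D21369)) (tt N11089 D31139))
theorem Q9134 : ∀ i, i < 9134 → P i := stepQ 9133 Q9133 (allL N9133 (tt N11048 (iv F131630)) (tt N7461 F91941) (tt N11090 D31140) (tt N7452 (iv D21370)) (tt N11091 D31141) (tt N7454 F91942) (tt N10277 (iv F124368)) (tt N11088 (iv F131757)) (tt N9133 F91943) (tt N11092 D31142))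
theorem Q9135 : ∀ i, i < 9135 → P i := stepQ 9134 Q9134 (allL N9134 (tt N11049 (iv F131634)) (tt N7462 F91944) (tt N11068 (iv F131694)) (tt N11092 (iv F131770)) (tt N7558 F91945) (tt N7455 F91946) (tt N10278 (iv F124373)) (tt N11089 (iv F131762)) (tt N11018 (iv F131405)) (tt N7452 (iv D21371)))
theorem Q9136 : ∀ i, i < 9136 → P i := stepQ 9135 Q9135 (allL N9135 (tt N11050 (iv F131638)) (tt N7463 F91947) (tt N11093 D31143) (tt N7453 (iv D21372)) (tt N7727 F91948) (tt N11088 (iv F131756)) (tt N10961 (iv F131115)) (tt N7454 F91949) (tt N9135 F91950) (tt N11094 D31144))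
theorem Q9137 : ∀ i, i < 9137 → P i := stepQ 9136 Q9136 (allL N9136 (tt N11051 (iv F131643)) (tt N7464 F91951) (tt N11070 (iv F131698)) (tt N11094 (iv F131776)) (tt N7458 F91952) (tt N11089 (iv F131761)) (tt N10962 (iv F131120)) (tt N7455 F91953) (tt N11019 (iv F131413)) (tt N7453 (iv D21373)))
theorem Q9138 : ∀ i, i < 9138 → P i := stepQ 9137 Q9137 (allL N9137 (tt N11052 (iv F131647)) (tt N11095 D31145) (tt N7454 (iv D21374)) (tt N11071 (iv F131701)) (tt N7729 F91954) (tt N11090 (iv F131763)) (tt N7456 F91955) (tt N11093 (iv F131773)) (tt N9137 F91956) (tt N11096 D31146))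
theorem Q9139 : ∀ i, i < 9139 → P i := stepQ 9138 Q9138 (allL N9138 (tt N11053 (iv F131651)) (tt N7466 F91957) (tt N11096 (iv F131783)) (tt N7455 F91958) (tt N7730 F91959) (tt N11092 (iv F131771)) (tt N7457 F91960) (tt N11094 (iv F131778)) (tt N11097 D31147) (tt N7454 (iv D21375)))
theorem Q9140 : ∀ i, i < 9140 → P i := stepQ 9139 Q9139 (allL N9139 (tt N11098 D31148) (tt N7456 (iv D21376)) (tt N7467 F91961) (tt N11074 (iv F131707)) (tt N7731 F91962) (tt N10283 (iv F124390)) (tt N11095 (iv F131781)) (tt N10965 (iv F131131)) (tt N9139 F91963) (tt N11099 D31149))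
theorem Q9141 : ∀ i, i < 9141 → P i := stepQ 9140 Q9140 (allL N9140 (tt N11055 (iv F131659)) (tt N11099 (iv F131793)) (tt N7457 F91964) (tt N11076 (iv F131711)) (tt N7732 F91965) (tt N10284 (iv F124394)) (tt N11096 (iv F131785)) (tt N10966 (iv F131135)) (tt N11100 D31150) (tt N7456 (iv D21377)))
theorem Q9142 : ∀ i, i < 9142 → P i := stepQ 9141 Q9141 (allL N9141 (tt N11056 (iv F131662)) (tt N7469 F91966) (tt N11100 (iv F131796)) (tt N11024 (iv F131427)) (tt N7733 F91967) (tt N10285 (iv F124397)) (tt N11097 (iv F131788)) (tt N10967 (iv F131138)) (tt N7457 (iv D21378)) (tt N9141 F91968))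
theorem Q9143 : ∀ i, i < 9143 → P i := stepQ 9142 Q9142 (allL N9142 (tt N9142 F91969) (tt N11087 (iv F131752)) (tt N10739 (iv F129552)) (tt N11101 D31151) (tt N7566 F91970) (tt N10968 (iv F131142)) (tt N7460 F91971) (tt N10286 (iv F124402)) (tt N7459 (iv D21379)) (tt N11102 D31152))
theorem Q9144 : ∀ i, i < 9144 → P i := stepQ 9143 Q9143 (allL N9143 (tt N9143 F91972) (tt N11088 (iv F131755)) (tt N11103 D31153) (tt N7460 (iv D21380)) (tt N11104 D31154) (tt N7463 F91973) (tt N11101 (iv F131800)) (tt N7461 F91974) (tt N9143 F91975) (tt N11105 D31155))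
theorem Q9145 : ∀ i, i < 9145 → P i := stepQ 9144 Q9144 (allL N9144 (tt N9144 F91976) (tt N11089 (iv F131759)) (tt N10741 (iv F129559)) (tt N11105 (iv F131815)) (tt N7568 F91977) (tt N7464 F91978) (tt N11102 (iv F131804)) (tt N7462 F91979) (tt N11025 (iv F131441)) (tt N7460 (iv D21381)))
theorem Q9146 : ∀ i, i < 9146 → P i := stepQ 9145 Q9145 (allL N9145 (tt N9145 F91980) (tt N11106 D31156) (tt N7461 (iv D21382)) (tt N10742 (iv F129564)) (tt N11107 D31157) (tt N7465 F91981) (tt N10289 (iv F124413)) (tt N11103 (iv F131807)) (tt N9145 F91982) (tt N11108 D31158))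
theorem Q9147 : ∀ i, i < 9147 → P i := stepQ 9146 Q9146 (allL N9146 (tt N9146 F91983) (tt N11091 (iv F131765)) (tt N11107 (iv F131821)) (tt N7570 F91984) (tt N7461 (iv D21383)) (tt N7738 F91985) (tt N10290 (iv F124418)) (tt N11104 (iv F131812)) (tt N9146 F91986) (tt N11109 D31159))
theorem Q9148 : ∀ i, i < 9148 → P i := stepQ 9147 Q9147 (allL N9147 (tt N9147 F91987) (tt N11092 (iv F131769)) (tt N11108 (iv F131825)) (tt N7462 F91988) (tt N11109 (iv F131829)) (tt N7466 F91989) (tt N10291 (iv F124423)) (tt N11105 (iv F131817)) (tt N11110 D31160) (tt N7461 (iv D21384)))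
theorem Q9149 : ∀ i, i < 9149 → P i := stepQ 9148 Q9148 (allL N9148 (tt N9148 F91990) (tt N11111 D31161) (tt N7463 (iv D21385)) (tt N10745 (iv F129573)) (tt N7740 F91991) (tt N11103 (iv F131806)) (tt N10972 (iv F131164)) (tt N7465 F91992) (tt N9148 F91993) (tt N11112 D31162))
theorem Q9150 : ∀ i, i < 9150 → P i := stepQ 9149 Q9149 (allL N9149 (tt N9149 F91994) (tt N11094 (iv F131775)) (tt N11112 (iv F131838)) (tt N7464 F91995) (tt N7741 F91996) (tt N11105 (iv F131816)) (tt N10973 (iv F131170)) (tt N7466 F91997) (tt N11113 D31163) (tt N7463 (iv D21386)))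
theorem Q9151 : ∀ i, i < 9151 → P i := stepQ 9150 Q9150 (allL N9150 (tt N11114 D31164) (tt N7465 (iv D21387)) (tt N11095 (iv F131779)) (tt N10747 (iv F129580)) (tt N7742 F91998) (tt N11106 (iv F131818)) (tt N7467 F91999) (tt N11111 (iv F131835)) (tt N9150 F92000) (tt N11115 D31165))
theorem Q9152 : ∀ i, i < 9152 → P i := stepQ 9151 Q9151 (allL N9151 (tt N9151 F92001) (tt N11115 (iv F131849)) (tt N7466 F92002) (tt N10748 (iv F129585)) (tt N7743 F92003) (tt N11108 (iv F131826)) (tt N7468 F92004) (tt N11112 (iv F131840)) (tt N11116 D31166) (tt N7465 (iv D21388)))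
theorem Q9153 : ∀ i, i < 9153 → P i := stepQ 9152 Q9152 (allL N9152 (tt N9152 F92005) (tt N11097 (iv F131786)) (tt N11116 (iv F131853)) (tt N11028 (iv F131468)) (tt N7744 F92006) (tt N11110 (iv F131832)) (tt N7469 F92007) (tt N11113 (iv F131843)) (tt N7466 (iv D21389)) (tt N9152 F92008))
theorem Q9154 : ∀ i, i < 9154 → P i := stepQ 9153 Q9153 (allL N9153 (tt N7467 (iv D21390)) (tt N9153 F92009) (tt N11098 (iv F131790)) (tt N10750 (iv F129592)) (tt N7745 F92010) (tt N10296 (iv F124445)) (tt N11114 (iv F131847)) (tt N10977 (iv F131185)) (tt N9153 F92011) (tt N11117 D31167))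
theorem Q9155 : ∀ i, i < 9155 → P i := stepQ 9154 Q9154 (allL N9154 (tt N11117 (iv F131857)) (tt N7468 F92012) (tt N11099 (iv F131794)) (tt N10751 (iv F129595)) (tt N7746 F92013) (tt N10297 (iv F124449)) (tt N11115 (iv F131851)) (tt N10978 (iv F131189)) (tt N11118 D31168) (tt N7467 (iv D21391)))
theorem Q9156 : ∀ i, i < 9156 → P i := stepQ 9155 Q9155 (allL N9155 (tt N9155 F92014) (tt N11118 (iv F131860)) (tt N7469 F92015) (tt N11119 D31169) (tt N7747 F92016) (tt N10298 (iv F124453)) (tt N11116 (iv F131855)) (tt N10979 (iv F131193)) (tt N7468 (iv D21392)) (tt N9155 F92017))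
theorem Q9157 : ∀ i, i < 9157 → P i := stepQ 9156 Q9156 (allL N9156 (tt N7878 (iv F202318)) (tt N7472 F92022) (tt N9156 F92023) (tt N10519 (iv F202541)) (tt N7471 F92024) (tt N11120 D31173) (tt N7470 (iv D21394)) (tt N11121 D31174) (tt N10817 (iv F202521)) (tt N7515 F92025))
theorem Q9158 : ∀ i, i < 9158 → P i := stepQ 9157 Q9157 (allL N9157 (tt N7877 F201874) (tt N7474 F92030) (tt N9157 F92031) (tt N7867 F201875) (tt N11121 (iv F131882)) (tt N7895 F197866) (tt N9157 F92033) (tt N7471 (iv D21396)) (tt N10815 (iv F202306)) (tt N7516 F92034))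
theorem Q9159 : ∀ i, i < 9159 → P i := stepQ 9158 Q9158 (allL N9158 (tt N7485 F92066) (tt N11120 (iv F131877)) (tt N7477 F92067) (tt N10516 (iv F203183)) (tt N10983 (iv F131241)) (tt N7472 (iv D21405)) (tt N10337 (iv F124770)) (tt N11122 D31194) (tt N11123 D31195) (tt N7519 F92068))
theorem Q9160 : ∀ i, i < 9160 → P i := stepQ 9159 Q9159 (allL N9159 (tt N7486 F92069) (tt N11121 (iv F131880)) (tt N7478 F92070) (tt N10518 (iv F203186)) (tt N7474 F92071) (tt N11122 (iv F131961)) (tt N9159 F92072) (tt N7472 (iv D21406)) (tt N11124 D31196) (tt N7520 F92073))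
theorem Q9161 : ∀ i, i < 9161 → P i := stepQ 9160 Q9160 (allL N9160 (tt N7487 F92074) (tt N10817 F202752) (tt N7479 F92075) (tt N11125 D31197) (tt N7475 F92076) (tt N11123 (iv F131965)) (tt N7473 F92077) (tt N11124 (iv F131970)) (tt N7472 (iv D21407)) (tt N11126 D31198))
theorem Q9162 : ∀ i, i < 9162 → P i := stepQ 9161 Q9161 (allL N9161 (tt N7488 F92078) (tt N10813 F202957) (tt N10356 (iv F203375)) (tt N7473 (iv D21408)) (tt N10798 F202958) (tt N10340 (iv F124782)) (tt N11125 (iv F131972)) (tt N9161 F92079) (tt N10363 (iv F203372)) (tt N11127 D31201))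
theorem Q9163 : ∀ i, i < 9163 → P i := stepQ 9162 Q9162 (allL N9162 (tt N7489 F92080) (tt N10819 F202959) (tt N7480 F92081) (tt N11127 (iv F131985)) (tt N7476 F92082) (tt N10341 (iv F124787)) (tt N11126 (iv F131976)) (tt N9162 F92083) (tt N7523 F92084) (tt N7473 (iv D21409)))
theorem Q9164 : ∀ i, i < 9164 → P i := stepQ 9163 Q9163 (allL N9163 (tt N7490 F92085) (tt N10815 F202601) (tt N7481 F92086) (tt N10800 F202602) (tt N11124 (iv F131968)) (tt N10988 (iv F131258)) (tt N9163 F92087) (tt N7475 F92088) (tt N7474 (iv D21410)) (tt N11128 D31203))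
theorem Q9165 : ∀ i, i < 9165 → P i := stepQ 9164 Q9164 (allL N9164 (tt N7492 F92093) (tt N10818 F202753) (tt N7482 F92094) (tt N10801 F202754) (tt N11126 (iv F131975)) (tt N10989 (iv F131267)) (tt N7476 F92095) (tt N11128 (iv F131995)) (tt N7525 F92096) (tt N7475 (iv D21412)))
theorem Q9166 : ∀ i, i < 9166 → P i := stepQ 9165 Q9165 (allL N9165 (tt N7495 F92119) (tt N9165 F92120) (tt N11122 (iv F131960)) (tt N7580 F92121) (tt N10990 (iv F131292)) (tt N7478 F92122) (tt N11129 D31212) (tt N7477 (iv D21418)) (tt N11130 D31213) (tt N7526 F92123))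
theorem Q9167 : ∀ i, i < 9167 → P i := stepQ 9166 Q9166 (allL N9166 (tt N7496 F92124) (tt N9166 F92125) (tt N11123 (iv F131964)) (tt N10510 (iv F203946)) (tt N10991 (iv F131297)) (tt N7479 F92126) (tt N10349 (iv F124828)) (tt N11130 (iv F132040)) (tt N7477 (iv D21419)) (tt N11131 D31215))
theorem Q9168 : ∀ i, i < 9168 → P i := stepQ 9167 Q9167 (allL N9167 (tt N7497 F92127) (tt N9167 F92128) (tt N11124 (iv F131967)) (tt N10511 (iv F203920)) (tt N7481 F92129) (tt N11130 (iv F132039)) (tt N9167 F92130) (tt N7479 F92131) (tt N7478 (iv D21420)) (tt N11132 D31217))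
theorem Q9169 : ∀ i, i < 9169 → P i := stepQ 9168 Q9168 (allL N9168 (tt N7499 F92137) (tt N9168 F92138) (tt N11126 (iv F131974)) (tt N10512 (iv F203948)) (tt N7482 F92139) (tt N11131 (iv F132047)) (tt N7480 F92140) (tt N11132 (iv F132059)) (tt N7530 F92141) (tt N7479 (iv D21422)))
theorem Q9170 : ∀ i, i < 9170 → P i := stepQ 9169 Q9169 (allL N9169 (tt N7502 F92151) (tt N9169 F92152) (tt N11128 (iv F131993)) (tt N9169 F92153) (tt N11132 (iv F132057)) (tt N10997 (iv F131323)) (tt N9169 F92154) (tt N7482 F92155) (tt N7533 F92156) (tt N7481 (iv D21425)))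
theorem Q9171 : ∀ i, i < 9171 → P i := stepQ 9170 Q9170 (allL N9170 (tt N10516 (iv F203182)) (tt N10758 (iv F130000)) (tt N7581 F92157) (tt N7485 F92158) (tt N11133 D31223) (tt N7483 (iv D21426)) (tt N10353 (iv F124859)) (tt N11134 D31224) (tt N11135 D31225) (tt N7534 F92159))
theorem Q9172 : ∀ i, i < 9172 → P i := stepQ 9171 Q9171 (allL N9171 (tt N10518 (iv F203184)) (tt N10759 (iv F130004)) (tt N7582 F92160) (tt N7486 F92161) (tt N7909 F92162) (tt N11134 (iv F132089)) (tt N9171 F92163) (tt N7483 (iv D21427)) (tt N11136 D31226) (tt N7535 F92164))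
theorem Q9173 : ∀ i, i < 9173 → P i := stepQ 9172 Q9172 (allL N9172 (tt N10382 (iv F203188)) (tt N10760 (iv F130010)) (tt N7583 F92165) (tt N11137 D31227) (tt N7910 F92166) (tt N11135 (iv F132092)) (tt N7484 F92167) (tt N11136 (iv F132096)) (tt N7483 (iv D21428)) (tt N11138 D31228))
theorem Q9174 : ∀ i, i < 9174 → P i := stepQ 9173 Q9173 (allL N9173 (tt N10363 (iv F203371)) (tt N10761 (iv F130014)) (tt N10340 (iv F203368)) (tt N7484 (iv D21429)) (tt N11139 D31230) (tt N10356 (iv F124869)) (tt N11137 (iv F132097)) (tt N9173 F92168) (tt N7488 F92169) (tt N11140 D31231))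
theorem Q9175 : ∀ i, i < 9175 → P i := stepQ 9174 Q9174 (allL N9174 (tt N10385 (iv F203373)) (tt N10762 (iv F130017)) (tt N7584 F92170) (tt N11140 (iv F132109)) (tt N7912 F92171) (tt N10357 (iv F124874)) (tt N11138 (iv F132101)) (tt N9174 F92172) (tt N7538 F92173) (tt N7484 (iv D21430)))
theorem Q9176 : ∀ i, i < 9176 → P i := stepQ 9175 Q9175 (allL N9175 (tt N11122 (iv F131959)) (tt N10763 (iv F130022)) (tt N7495 F92174) (tt N11134 (iv F132088)) (tt N11002 (iv F131341)) (tt N7486 F92175) (tt N11141 D31232) (tt N7485 (iv D21431)) (tt N11142 D31233) (tt N7539 F92176))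
theorem Q9177 : ∀ i, i < 9177 → P i := stepQ 9176 Q9176 (allL N9176 (tt N11123 (iv F131963)) (tt N10764 (iv F130026)) (tt N7496 F92177) (tt N11143 D31234) (tt N11003 (iv F131345)) (tt N7487 F92178) (tt N10359 (iv F124882)) (tt N11142 (iv F132116)) (tt N7485 (iv D21432)) (tt N11144 D31235))
theorem Q9178 : ∀ i, i < 9178 → P i := stepQ 9177 Q9177 (allL N9177 (tt N11124 (iv F131966)) (tt N10765 (iv F130029)) (tt N7497 F92179) (tt N11145 D31236) (tt N7490 F92180) (tt N11142 (iv F132115)) (tt N9177 F92181) (tt N7487 F92182) (tt N7486 (iv D21433)) (tt N11146 D31237))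
theorem Q9179 : ∀ i, i < 9179 → P i := stepQ 9178 Q9178 (allL N9178 (tt N11125 (iv F131971)) (tt N10766 (iv F130034)) (tt N11147 D31238) (tt N7487 (iv D21434)) (tt N11148 D31239) (tt N11143 (iv F132117)) (tt N7488 F92183) (tt N11145 (iv F132122)) (tt N11137 (iv F132098)) (tt N11149 D31240))
theorem Q9180 : ∀ i, i < 9180 → P i := stepQ 9179 Q9179 (allL N9179 (tt N11126 (iv F131973)) (tt N10767 (iv F130036)) (tt N7499 F92184) (tt N11149 (iv F132132)) (tt N7492 F92185) (tt N11144 (iv F132119)) (tt N7489 F92186) (tt N11146 (iv F132126)) (tt N7543 F92187) (tt N7487 (iv D21435)))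
theorem Q9181 : ∀ i, i < 9181 → P i := stepQ 9180 Q9180 (allL N9180 (tt N10356 F203809) (tt N11150 D31241) (tt N7488 (iv D21436)) (tt N7500 F92188) (tt N11151 D31242) (tt N10363 (iv F124893)) (tt N11147 (iv F132129)) (tt N9180 F92189) (tt N10340 F203810) (tt N11152 D31243))
theorem Q9182 : ∀ i, i < 9182 → P i := stepQ 9181 Q9181 (allL N9181 (tt N10798 F202948) (tt N7522 (iv F203239)) (tt N11151 (iv F132136)) (tt N7493 F92190) (tt N7488 (iv D21437)) (tt N10405 (iv F203390)) (tt N11148 (iv F132131)) (tt N9181 F92191) (tt N11139 (iv F132108)) (tt N11153 D31245))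
theorem Q9183 : ∀ i, i < 9183 → P i := stepQ 9182 Q9182 (allL N9182 (tt N11127 (iv F131984)) (tt N10769 (iv F130046)) (tt N11152 (iv F132139)) (tt N7489 F92192) (tt N11153 (iv F132145)) (tt N10365 (iv F124898)) (tt N11149 (iv F132133)) (tt N9182 F92193) (tt N11154 D31246) (tt N7488 (iv D21438)))
theorem Q9184 : ∀ i, i < 9184 → P i := stepQ 9183 Q9183 (allL N9183 (tt N10800 F202603) (tt N7524 F202604) (tt N9183 F92194) (tt N7490 (iv D21439)) (tt N11155 D31247) (tt N11010 (iv F131359)) (tt N9183 F92195) (tt N7491 F92196) (tt N7516 F202605) (tt N11156 D31248))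
theorem Q9185 : ∀ i, i < 9185 → P i := stepQ 9184 Q9184 (allL N9184 (tt N11128 (iv F131992)) (tt N10770 (iv F130053)) (tt N7502 F92198) (tt N11156 (iv F132154)) (tt N11146 (iv F132124)) (tt N11011 (iv F131363)) (tt N9184 F92199) (tt N7492 F92200) (tt N7548 F92201) (tt N7490 (iv D21440)))
theorem Q9186 : ∀ i, i < 9186 → P i := stepQ 9185 Q9185 (allL N9185 (tt N10797 F202736) (tt N7521 (iv F203109)) (tt N9185 F92202) (tt N11148 (iv F132130)) (tt N7491 (iv D21441)) (tt N11157 D31249) (tt N7493 F92203) (tt N11155 (iv F132151)) (tt N7515 F202737) (tt N11158 D31250))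
theorem Q9187 : ∀ i, i < 9187 → P i := stepQ 9186 Q9186 (allL N9186 (tt N10801 F202738) (tt N7525 (iv F203110)) (tt N9186 F92205) (tt N7492 F92206) (tt N11158 (iv F132160)) (tt N11013 (iv F131371)) (tt N7494 F92207) (tt N11156 (iv F132156)) (tt N10818 F202733) (tt N7491 (iv D21442)))
theorem Q9188 : ∀ i, i < 9188 → P i := stepQ 9187 Q9187 (allL N9187 (tt N10799 F202949) (tt N7523 (iv F203241)) (tt N9187 F92212) (tt N11153 (iv F132144)) (tt N7494 F92213) (tt N10406 (iv F203385)) (tt N11158 (iv F132161)) (tt N9187 F92214) (tt N10819 F202935) (tt N7493 (iv D21444)))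
theorem Q9189 : ∀ i, i < 9189 → P i := stepQ 9188 Q9188 (allL N9188 (tt N11129 (iv F132032)) (tt N7503 F92229) (tt N11141 (iv F132111)) (tt N7586 F92230) (tt N11015 (iv F131393)) (tt N9188 F92231) (tt N7495 (iv D21449)) (tt N10376 (iv F124931)) (tt N11159 D31259) (tt N7555 F92232))
theorem Q9190 : ∀ i, i < 9190 → P i := stepQ 9189 Q9189 (allL N9189 (tt N11130 (iv F132037)) (tt N7504 F92233) (tt N11142 (iv F132114)) (tt N11160 D31260) (tt N11016 (iv F131396)) (tt N7497 F92234) (tt N11159 (iv F132191)) (tt N7496 F92235) (tt N7495 (iv D21450)) (tt N11161 D31261))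
theorem Q9191 : ∀ i, i < 9191 → P i := stepQ 9190 Q9190 (allL N9190 (tt N10510 (iv F203945)) (tt N7505 F92236) (tt N11162 D31262) (tt N7496 (iv D21451)) (tt N11163 D31263) (tt N7498 F92237) (tt N10378 (iv F124938)) (tt N11160 (iv F132194)) (tt N7588 F92238) (tt N11164 D31264))
theorem Q9192 : ∀ i, i < 9192 → P i := stepQ 9191 Q9191 (allL N9191 (tt N11131 (iv F132045)) (tt N7506 F92239) (tt N11144 (iv F132118)) (tt N11164 (iv F132206)) (tt N11018 (iv F131403)) (tt N7499 F92240) (tt N10379 (iv F124942)) (tt N11161 (iv F132198)) (tt N7558 F92241) (tt N7496 (iv D21452)))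
theorem Q9193 : ∀ i, i < 9193 → P i := stepQ 9192 Q9192 (allL N9192 (tt N10511 (iv F203919)) (tt N7507 F92242) (tt N11165 D31265) (tt N7497 (iv D21453)) (tt N9192 F92243) (tt N11160 (iv F132193)) (tt N9192 F92244) (tt N7498 F92245) (tt N7589 F92246) (tt N11166 D31266))
theorem Q9194 : ∀ i, i < 9194 → P i := stepQ 9193 Q9193 (allL N9193 (tt N11132 (iv F132055)) (tt N7508 F92247) (tt N11146 (iv F132123)) (tt N11166 (iv F132213)) (tt N7502 F92248) (tt N11161 (iv F132197)) (tt N9193 F92249) (tt N7499 F92250) (tt N7560 F92251) (tt N7497 (iv D21454)))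
theorem Q9195 : ∀ i, i < 9195 → P i := stepQ 9194 Q9194 (allL N9194 (tt N10355 F203779) (tt N11167 D31267) (tt N7498 (iv D21455)) (tt N11147 (iv F132128)) (tt N9194 F92252) (tt N11162 (iv F132200)) (tt N7500 F92253) (tt N11165 (iv F132210)) (tt N7590 F92254) (tt N11168 D31268))
theorem Q9196 : ∀ i, i < 9196 → P i := stepQ 9195 Q9195 (allL N9195 (tt N10512 (iv F203947)) (tt N7510 F92255) (tt N11168 (iv F132221)) (tt N7499 F92256) (tt N9195 F92257) (tt N11164 (iv F132207)) (tt N7501 F92258) (tt N11166 (iv F132216)) (tt N10537 (iv F204045)) (tt N7498 (iv D21456)))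
theorem Q9197 : ∀ i, i < 9197 → P i := stepQ 9196 Q9196 (allL N9196 (tt N11169 D31270) (tt N7500 (iv D21457)) (tt N7511 F92259) (tt N11150 (iv F132134)) (tt N9196 F92260) (tt N10384 (iv F124959)) (tt N11167 (iv F132219)) (tt N9196 F92261) (tt N7591 F92262) (tt N11170 D31271))
theorem Q9198 : ∀ i, i < 9198 → P i := stepQ 9197 Q9197 (allL N9197 (tt N10357 F203811) (tt N11170 (iv F132233)) (tt N7501 F92263) (tt N11152 (iv F132140)) (tt N9197 F92264) (tt N10385 (iv F124963)) (tt N11168 (iv F132223)) (tt N9197 F92265) (tt N10413 (iv F203984)) (tt N7500 (iv D21458)))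
theorem Q9199 : ∀ i, i < 9199 → P i := stepQ 9198 Q9198 (allL N9198 (tt N9198 F92271) (tt N11159 (iv F132189)) (tt N10743 F205537) (tt N11171 D31273) (tt N10742 (iv F205685)) (tt N9198 F92272) (tt N7504 F92273) (tt N10386 (iv F124973)) (tt N7503 (iv D21460)) (tt N11172 D31274))
theorem Q9200 : ∀ i, i < 9200 → P i := stepQ 9199 Q9199 (allL N9199 (tt N9199 F92274) (tt N11160 (iv F132192)) (tt N11173 D31275) (tt N7504 (iv D21461)) (tt N11174 D31276) (tt N7507 F92275) (tt N11171 (iv F132243)) (tt N7505 F92276) (tt N7593 F92277) (tt N11175 D31277))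
theorem Q9201 : ∀ i, i < 9201 → P i := stepQ 9200 Q9200 (allL N9200 (tt N9200 F92278) (tt N11161 (iv F132196)) (tt N10782 (iv F130130)) (tt N11175 (iv F132258)) (tt N11025 (iv F131438)) (tt N7508 F92279) (tt N11172 (iv F132247)) (tt N7506 F92280) (tt N7568 F92281) (tt N7504 (iv D21462)))
theorem Q9202 : ∀ i, i < 9202 → P i := stepQ 9201 Q9201 (allL N9201 (tt N9201 F92282) (tt N11176 D31278) (tt N7505 (iv D21463)) (tt N10783 (iv F130135)) (tt N11177 D31279) (tt N7509 F92283) (tt N10389 (iv F124984)) (tt N11173 (iv F132251)) (tt N7595 F92284) (tt N11178 D31280))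
theorem Q9203 : ∀ i, i < 9203 → P i := stepQ 9202 Q9202 (allL N9202 (tt N9202 F92285) (tt N11163 (iv F132202)) (tt N11177 (iv F132264)) (tt N11026 (iv F131446)) (tt N7505 (iv D21464)) (tt N9202 F92286) (tt N10390 (iv F124987)) (tt N11174 (iv F132255)) (tt N7596 F92287) (tt N11179 D31281))
theorem Q9204 : ∀ i, i < 9204 → P i := stepQ 9203 Q9203 (allL N9203 (tt N9203 F92288) (tt N11164 (iv F132205)) (tt N11178 (iv F132268)) (tt N7506 F92289) (tt N11179 (iv F132271)) (tt N7510 F92290) (tt N10391 (iv F124992)) (tt N11175 (iv F132260)) (tt N11180 D31282) (tt N7505 (iv D21465)))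
theorem Q9205 : ∀ i, i < 9205 → P i := stepQ 9204 Q9204 (allL N9204 (tt N9204 F92291) (tt N11181 D31283) (tt N7507 (iv D21466)) (tt N10785 (iv F130144)) (tt N9204 F92292) (tt N11173 (iv F132250)) (tt N9204 F92293) (tt N7509 F92294) (tt N7598 F92295) (tt N11182 D31284))
theorem Q9206 : ∀ i, i < 9206 → P i := stepQ 9205 Q9205 (allL N9205 (tt N9205 F92296) (tt N11166 (iv F132212)) (tt N11182 (iv F132282)) (tt N7508 F92297) (tt N9205 F92298) (tt N11175 (iv F132259)) (tt N9205 F92299) (tt N7510 F92300) (tt N11183 D31285) (tt N7507 (iv D21467)))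
theorem Q9207 : ∀ i, i < 9207 → P i := stepQ 9206 Q9206 (allL N9206 (tt N11184 D31286) (tt N7509 (iv D21468)) (tt N11167 (iv F132217)) (tt N10787 (iv F130152)) (tt N9206 F92301) (tt N11176 (iv F132261)) (tt N7511 F92302) (tt N11181 (iv F132279)) (tt N7600 F92303) (tt N11185 D31287))
theorem Q9208 : ∀ i, i < 9208 → P i := stepQ 9207 Q9207 (allL N9207 (tt N9207 F92304) (tt N11185 (iv F132296)) (tt N7510 F92305) (tt N10788 (iv F130157)) (tt N9207 F92306) (tt N11178 (iv F132269)) (tt N7512 F92307) (tt N11182 (iv F132285)) (tt N11186 D31288) (tt N7509 (iv D21469)))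
theorem Q9209 : ∀ i, i < 9209 → P i := stepQ 9208 Q9208 (allL N9208 (tt N9208 F92308) (tt N10537 (iv F204044)) (tt N11186 (iv F132300)) (tt N7576 F92309) (tt N9208 F92310) (tt N11180 (iv F132275)) (tt N7513 F92311) (tt N11183 (iv F132290)) (tt N7510 (iv D21470)) (tt N7602 F92312))
theorem Q9210 : ∀ i, i < 9210 → P i := stepQ 9209 Q9209 (allL N9209 (tt N7511 (iv D21471)) (tt N9209 F92313) (tt N11169 (iv F132229)) (tt N10790 (iv F130164)) (tt N9209 F92314) (tt N10397 (iv F125011)) (tt N11184 (iv F132294)) (tt N9209 F92315) (tt N7603 F92316) (tt N11187 D31289))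
theorem Q9211 : ∀ i, i < 9211 → P i := stepQ 9210 Q9210 (allL N9210 (tt N11187 (iv F132304)) (tt N7512 F92317) (tt N11170 (iv F132234)) (tt N10791 (iv F130168)) (tt N9210 F92318) (tt N10398 (iv F125015)) (tt N11185 (iv F132298)) (tt N9210 F92319) (tt N11188 D31290) (tt N7511 (iv D21472)))
theorem Q9212 : ∀ i, i < 9212 → P i := stepQ 9211 Q9211 (allL N9211 (tt N9211 F92320) (tt N11188 (iv F132308)) (tt N7513 F92321) (tt N11189 D31291) (tt N9211 F92322) (tt N10399 (iv F125019)) (tt N11186 (iv F132302)) (tt N9211 F92323) (tt N7512 (iv D21473)) (tt N7605 F92324))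
theorem Q9213 : ∀ i, i < 9213 → P i := stepQ 9212 Q9212 (allL N9212 (tt N10793 (iv F130179)) (tt N7517 F92329) (tt N10528 (iv F203191)) (tt N7515 F92330) (tt N7913 F202734) (tt N11190 D31294) (tt N7514 (iv D21475)) (tt N11191 D31295) (tt N11192 D31296) (tt N10519 F202735))
theorem Q9214 : ∀ i, i < 9214 → P i := stepQ 9213 Q9213 (allL N9213 (tt N10794 (iv F130183)) (tt N7518 F92332) (tt N10531 (iv F203394)) (tt N11139 (iv F203397)) (tt N7911 F202947) (tt N10401 (iv F125032)) (tt N11192 (iv F132332)) (tt N9213 F92334) (tt N7514 (iv D21476)) (tt N11193 D31298))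
theorem Q9215 : ∀ i, i < 9215 → P i := stepQ 9214 Q9214 (allL N9214 (tt N10795 (iv F130187)) (tt N7519 F92335) (tt N9214 F92336) (tt N11190 (iv F132325)) (tt N11033 (iv F131491)) (tt N7515 (iv D21477)) (tt N10402 (iv F125036)) (tt N11194 D31299) (tt N11157 (iv F203194)) (tt N11120 (iv F131879)))
theorem Q9216 : ∀ i, i < 9216 → P i := stepQ 9215 Q9215 (allL N9215 (tt N10796 (iv F130190)) (tt N7520 F92337) (tt N9215 F92338) (tt N11191 (iv F132327)) (tt N7516 F92339) (tt N11194 (iv F132341)) (tt N9215 F92340) (tt N7515 (iv D21478)) (tt N11155 (iv F203103)) (tt N11121 (iv F131884)))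
theorem Q9217 : ∀ i, i < 9217 → P i := stepQ 9216 Q9216 (allL N9216 (tt N7534 F92390) (tt N11190 (iv F132324)) (tt N7606 F92391) (tt N7519 F92392) (tt N11195 D31324) (tt N7517 (iv D21493)) (tt N10409 (iv F125097)) (tt N11196 D31325) (tt N11197 D31326) (tt N10516 F203535))
theorem Q9218 : ∀ i, i < 9218 → P i := stepQ 9217 Q9217 (allL N9217 (tt N7535 F92393) (tt N11191 (iv F132326)) (tt N7607 F92394) (tt N7520 F92395) (tt N7917 F92396) (tt N11196 (iv F132432)) (tt N9217 F92397) (tt N7517 (iv D21494)) (tt N11198 D31327) (tt N10518 F203536))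
theorem Q9219 : ∀ i, i < 9219 → P i := stepQ 9218 Q9218 (allL N9218 (tt N7536 F92398) (tt N11192 (iv F132330)) (tt N7608 F92399) (tt N11199 D31328) (tt N7918 F92400) (tt N11197 (iv F132435)) (tt N7518 F92401) (tt N11198 (iv F132440)) (tt N7517 (iv D21495)) (tt N11200 D31329))
theorem Q9220 : ∀ i, i < 9220 → P i := stepQ 9219 Q9219 (allL N9219 (tt N7537 F92402) (tt N11139 F203653) (tt N10583 (iv F203991)) (tt N7518 (iv D21496)) (tt N10761 F203654) (tt N10412 (iv F125108)) (tt N11199 (iv F132442)) (tt N9219 F92403) (tt N7522 F92404) (tt N11201 D31332))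
theorem Q9221 : ∀ i, i < 9221 → P i := stepQ 9220 Q9220 (allL N9220 (tt N7538 F92405) (tt N11193 (iv F132336)) (tt N7609 F92406) (tt N11201 (iv F132457)) (tt N7919 F92407) (tt N10413 (iv F125114)) (tt N11200 (iv F132447)) (tt N9220 F92408) (tt N10385 F203655) (tt N7518 (iv D21497)))
theorem Q9222 : ∀ i, i < 9222 → P i := stepQ 9221 Q9221 (allL N9221 (tt N7539 F92409) (tt N11194 (iv F132339)) (tt N7526 F92410) (tt N11196 (iv F132431)) (tt N11038 (iv F131558)) (tt N7520 F92411) (tt N11202 D31333) (tt N7519 (iv D21498)) (tt N11203 D31334) (tt N11122 (iv F131962)))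
theorem Q9223 : ∀ i, i < 9223 → P i := stepQ 9222 Q9222 (allL N9222 (tt N7540 F92412) (tt N11157 F203507) (tt N7527 F92413) (tt N11204 D31335) (tt N11039 (iv F131562)) (tt N7521 F92414) (tt N10415 (iv F125122)) (tt N11203 (iv F132465)) (tt N7519 (iv D21499)) (tt N11205 D31336))
theorem Q9224 : ∀ i, i < 9224 → P i := stepQ 9223 Q9223 (allL N9223 (tt N7541 F92415) (tt N11155 (iv F203102)) (tt N7528 F92416) (tt N11206 D31337) (tt N7524 F92417) (tt N11203 (iv F132464)) (tt N9223 F92418) (tt N7521 F92419) (tt N7520 (iv D21500)) (tt N11207 D31338))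
theorem Q9225 : ∀ i, i < 9225 → P i := stepQ 9224 Q9224 (allL N9224 (tt N7542 F92420) (tt N11148 F203505) (tt N11208 D31339) (tt N7521 (iv D21501)) (tt N10766 F203506) (tt N11204 (iv F132467)) (tt N7522 F92421) (tt N11206 (iv F132473)) (tt N11199 (iv F132443)) (tt N11209 D31341))
theorem Q9226 : ∀ i, i < 9226 → P i := stepQ 9225 Q9225 (allL N9225 (tt N7543 F92422) (tt N11158 F203508) (tt N7530 F92423) (tt N11209 (iv F132486)) (tt N7525 F92424) (tt N11205 (iv F132470)) (tt N7523 F92425) (tt N11207 (iv F132478)) (tt N11126 (iv F131977)) (tt N7521 (iv D21502)))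
theorem Q9227 : ∀ i, i < 9227 → P i := stepQ 9226 Q9226 (allL N9226 (tt N7544 F92426) (tt N11210 D31342) (tt N7522 (iv D21503)) (tt N7531 F92427) (tt N10768 F203656) (tt N10419 (iv F125136)) (tt N11208 (iv F132481)) (tt N9226 F92428) (tt N10583 F204184) (tt N11211 D31344))
theorem Q9228 : ∀ i, i < 9228 → P i := stepQ 9227 Q9227 (allL N9227 (tt N7546 F92432) (tt N11153 F203657) (tt N11211 (iv F132495)) (tt N7523 F92433) (tt N10769 F203658) (tt N10421 (iv F125143)) (tt N11209 (iv F132487)) (tt N9227 F92434) (tt N11212 D31347) (tt N7522 (iv D21505)))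
theorem Q9229 : ∀ i, i < 9229 → P i := stepQ 9228 Q9228 (allL N9228 (tt N7548 F92440) (tt N11156 (iv F203105)) (tt N7533 F92441) (tt N10770 F202617) (tt N11207 (iv F132476)) (tt N11045 (iv F131587)) (tt N9228 F92442) (tt N7525 F92443) (tt N11128 (iv F131996)) (tt N7524 (iv D21507)))
theorem Q9230 : ∀ i, i < 9230 → P i := stepQ 9229 Q9229 (allL N9229 (tt N7555 F92478) (tt N9229 F92479) (tt N11202 (iv F132460)) (tt N7611 F92480) (tt N11046 (iv F131624)) (tt N9229 F92481) (tt N7526 (iv D21516)) (tt N10428 (iv F125194)) (tt N11213 D31360) (tt N11129 (iv F132036)))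
theorem Q9231 : ∀ i, i < 9231 → P i := stepQ 9230 Q9230 (allL N9230 (tt N7556 F92482) (tt N9230 F92483) (tt N11203 (iv F132463)) (tt N11214 D31361) (tt N11047 (iv F131627)) (tt N7528 F92484) (tt N11213 (iv F132560)) (tt N7527 F92485) (tt N7526 (iv D21517)) (tt N11215 D31362))
theorem Q9232 : ∀ i, i < 9232 → P i := stepQ 9231 Q9231 (allL N9231 (tt N7557 F92486) (tt N9231 F92487) (tt N11216 D31363) (tt N7527 (iv D21518)) (tt N11217 D31364) (tt N7529 F92488) (tt N10430 (iv F125202)) (tt N11214 (iv F132564)) (tt N7613 F92489) (tt N11218 D31365))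
theorem Q9233 : ∀ i, i < 9233 → P i := stepQ 9232 Q9232 (allL N9232 (tt N7558 F92490) (tt N9232 F92491) (tt N11205 (iv F132469)) (tt N11218 (iv F132579)) (tt N11049 (iv F131636)) (tt N7530 F92492) (tt N10431 (iv F125207)) (tt N11215 (iv F132569)) (tt N11131 (iv F132048)) (tt N7527 (iv D21519)))
theorem Q9234 : ∀ i, i < 9234 → P i := stepQ 9233 Q9233 (allL N9233 (tt N7559 F92493) (tt N9233 F92494) (tt N11219 D31366) (tt N7528 (iv D21520)) (tt N7758 F92495) (tt N11214 (iv F132563)) (tt N9233 F92496) (tt N7529 F92497) (tt N7614 F92498) (tt N11220 D31367))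
theorem Q9235 : ∀ i, i < 9235 → P i := stepQ 9234 Q9234 (allL N9234 (tt N7560 F92499) (tt N9234 F92500) (tt N11207 (iv F132475)) (tt N11220 (iv F132588)) (tt N7533 F92501) (tt N11215 (iv F132568)) (tt N9234 F92502) (tt N7530 F92503) (tt N11132 (iv F132060)) (tt N7528 (iv D21521)))
theorem Q9236 : ∀ i, i < 9236 → P i := stepQ 9235 Q9235 (allL N9235 (tt N7561 F92504) (tt N11221 D31368) (tt N7529 (iv D21522)) (tt N11208 (iv F132480)) (tt N7760 F92505) (tt N11216 (iv F132571)) (tt N7531 F92506) (tt N11219 (iv F132584)) (tt N7615 F92507) (tt N11222 D31369))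
theorem Q9237 : ∀ i, i < 9237 → P i := stepQ 9236 Q9236 (allL N9236 (tt N7562 F92508) (tt N9236 F92509) (tt N11222 (iv F132597)) (tt N7530 F92510) (tt N7761 F92511) (tt N11218 (iv F132580)) (tt N7532 F92512) (tt N11220 (iv F132591)) (tt N10555 (iv F204301)) (tt N7529 (iv D21523)))
theorem Q9238 : ∀ i, i < 9238 → P i := stepQ 9237 Q9237 (allL N9237 (tt N11223 D31371) (tt N7531 (iv D21524)) (tt N9237 F92513) (tt N11210 (iv F132488)) (tt N7762 F92514) (tt N10436 (iv F125230)) (tt N11221 (iv F132594)) (tt N9237 F92515) (tt N7616 F92516) (tt N11224 D31372))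
theorem Q9239 : ∀ i, i < 9239 → P i := stepQ 9238 Q9238 (allL N9238 (tt N7564 F92517) (tt N11224 (iv F132610)) (tt N7532 F92518) (tt N11211 (iv F132496)) (tt N7763 F92519) (tt N10437 (iv F125236)) (tt N11222 (iv F132599)) (tt N9238 F92520) (tt N10557 (iv F204362)) (tt N7531 (iv D21525)))
theorem Q9240 : ∀ i, i < 9240 → P i := stepQ 9239 Q9239 (allL N9239 (tt N11195 (iv F132426)) (tt N10831 (iv F130394)) (tt N7617 F92526) (tt N11057 (iv F131667)) (tt N7534 (iv D21527)) (tt N7920 F92527) (tt N10438 (iv F125246)) (tt N11225 D31374) (tt N11226 D31375) (tt N11133 (iv F132086)))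
theorem Q9241 : ∀ i, i < 9241 → P i := stepQ 9240 Q9240 (allL N9240 (tt N11196 (iv F132429)) (tt N10832 (iv F130397)) (tt N7618 F92528) (tt N7539 F92529) (tt N11225 (iv F132620)) (tt N7535 F92530) (tt N11227 D31376) (tt N7534 (iv D21528)) (tt N11228 D31377) (tt N11134 (iv F132090)))
theorem Q9242 : ∀ i, i < 9242 → P i := stepQ 9241 Q9241 (allL N9241 (tt N11197 (iv F132433)) (tt N10833 (iv F130401)) (tt N7619 F92531) (tt N11229 D31378) (tt N11226 (iv F132623)) (tt N7536 F92532) (tt N10440 (iv F125252)) (tt N11228 (iv F132630)) (tt N7534 (iv D21529)) (tt N11230 D31379))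
theorem Q9243 : ∀ i, i < 9243 → P i := stepQ 9242 Q9242 (allL N9242 (tt N11198 (iv F132436)) (tt N10834 (iv F130404)) (tt N7620 F92533) (tt N11231 D31380) (tt N7922 F92534) (tt N11228 (iv F132629)) (tt N9242 F92535) (tt N7536 F92536) (tt N7535 (iv D21530)) (tt N11232 D31381))
theorem Q9244 : ∀ i, i < 9244 → P i := stepQ 9243 Q9243 (allL N9243 (tt N11199 (iv F132441)) (tt N10835 (iv F130409)) (tt N11233 D31382) (tt N7536 (iv D21531)) (tt N11234 D31383) (tt N11229 (iv F132631)) (tt N7537 F92537) (tt N11231 (iv F132636)) (tt N7542 F92538) (tt N11235 D31384))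
theorem Q9245 : ∀ i, i < 9245 → P i := stepQ 9244 Q9244 (allL N9244 (tt N11200 (iv F132444)) (tt N10836 (iv F130412)) (tt N7622 F92539) (tt N11235 (iv F132648)) (tt N7924 F92540) (tt N11230 (iv F132634)) (tt N7538 F92541) (tt N11232 (iv F132641)) (tt N11138 (iv F132102)) (tt N7536 (iv D21532)))
theorem Q9246 : ∀ i, i < 9246 → P i := stepQ 9245 Q9245 (allL N9245 (tt N10583 F204207) (tt N11236 D31385) (tt N7537 (iv D21533)) (tt N7623 F92542) (tt N11237 D31386) (tt N10444 (iv F125263)) (tt N11233 (iv F132643)) (tt N9245 F92543) (tt N7544 F92544) (tt N11238 D31387))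
theorem Q9247 : ∀ i, i < 9247 → P i := stepQ 9246 Q9246 (allL N9246 (tt N10761 F203666) (tt N10838 (iv F130419)) (tt N11237 (iv F132653)) (tt N7925 F92545) (tt N7537 (iv D21534)) (tt N11239 D31388) (tt N11234 (iv F132646)) (tt N9246 F92546) (tt N7545 F92547) (tt N11240 D31389))
theorem Q9248 : ∀ i, i < 9248 → P i := stepQ 9247 Q9247 (allL N9247 (tt N11201 (iv F132456)) (tt N10839 (iv F130423)) (tt N11238 (iv F132657)) (tt N7538 F92548) (tt N11240 (iv F132664)) (tt N10446 (iv F125270)) (tt N11235 (iv F132649)) (tt N9247 F92549) (tt N11241 D31390) (tt N7537 (iv D21535)))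
theorem Q9249 : ∀ i, i < 9249 → P i := stepQ 9248 Q9248 (allL N9248 (tt N11202 (iv F132459)) (tt N10840 (iv F130426)) (tt N7555 F92550) (tt N11227 (iv F132626)) (tt N11065 (iv F131688)) (tt N9248 F92551) (tt N7539 (iv D21536)) (tt N10447 (iv F125274)) (tt N11242 D31391) (tt N11141 (iv F132113)))
theorem Q9250 : ∀ i, i < 9250 → P i := stepQ 9249 Q9249 (allL N9249 (tt N11203 (iv F132462)) (tt N10841 (iv F130429)) (tt N7556 F92552) (tt N11243 D31392) (tt N11066 (iv F131690)) (tt N7541 F92553) (tt N11242 (iv F132670)) (tt N7540 F92554) (tt N7539 (iv D21537)) (tt N11244 D31393))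
theorem Q9251 : ∀ i, i < 9251 → P i := stepQ 9250 Q9250 (allL N9250 (tt N11204 (iv F132466)) (tt N10842 (iv F130433)) (tt N11245 D31394) (tt N7540 (iv D21538)) (tt N11246 D31395) (tt N7542 F92555) (tt N10449 (iv F125279)) (tt N11243 (iv F132672)) (tt N11229 (iv F132632)) (tt N11247 D31396))
theorem Q9252 : ∀ i, i < 9252 → P i := stepQ 9251 Q9251 (allL N9251 (tt N11205 (iv F132468)) (tt N10843 (iv F130435)) (tt N7558 F92556) (tt N11247 (iv F132678)) (tt N11068 (iv F131695)) (tt N7543 F92557) (tt N10450 (iv F125282)) (tt N11244 (iv F132675)) (tt N11144 (iv F132120)) (tt N7540 (iv D21539)))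
theorem Q9253 : ∀ i, i < 9253 → P i := stepQ 9252 Q9252 (allL N9252 (tt N11206 (iv F132471)) (tt N10844 (iv F130438)) (tt N11248 D31397) (tt N7541 (iv D21540)) (tt N11249 D31398) (tt N11243 (iv F132671)) (tt N9252 F92558) (tt N7542 F92559) (tt N11231 (iv F132637)) (tt N11250 D31399))
theorem Q9254 : ∀ i, i < 9254 → P i := stepQ 9253 Q9253 (allL N9253 (tt N11207 (iv F132474)) (tt N10845 (iv F130441)) (tt N7560 F92560) (tt N11250 (iv F132686)) (tt N7548 F92561) (tt N11244 (iv F132674)) (tt N9253 F92562) (tt N7543 F92563) (tt N11146 (iv F132127)) (tt N7541 (iv D21541)))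
theorem Q9255 : ∀ i, i < 9255 → P i := stepQ 9254 Q9254 (allL N9254 (tt N11208 (iv F132479)) (tt N11251 D31400) (tt N7542 (iv D21542)) (tt N7561 F92564) (tt N11252 D31401) (tt N11245 (iv F132677)) (tt N7544 F92565) (tt N11248 (iv F132682)) (tt N11233 (iv F132644)) (tt N11253 D31402))
theorem Q9256 : ∀ i, i < 9256 → P i := stepQ 9255 Q9255 (allL N9255 (tt N10766 F203502) (tt N10847 (iv F130448)) (tt N11252 (iv F132691)) (tt N7549 F92566) (tt N7542 (iv D21543)) (tt N11254 D31403) (tt N7545 F92567) (tt N11249 (iv F132685)) (tt N11234 (iv F132647)) (tt N11255 D31404))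
theorem Q9257 : ∀ i, i < 9257 → P i := stepQ 9256 Q9256 (allL N9256 (tt N11209 (iv F132485)) (tt N10848 (iv F130451)) (tt N11253 (iv F132694)) (tt N7543 F92568) (tt N11255 (iv F132699)) (tt N11247 (iv F132679)) (tt N7546 F92569) (tt N11250 (iv F132688)) (tt N11256 D31405) (tt N7542 (iv D21544)))
theorem Q9258 : ∀ i, i < 9258 → P i := stepQ 9257 Q9257 (allL N9257 (tt N11257 D31406) (tt N7544 (iv D21545)) (tt N10849 (iv F130454)) (tt N7563 F92570) (tt N11258 D31407) (tt N10456 (iv F125296)) (tt N11251 (iv F132690)) (tt N9257 F92571) (tt N11236 (iv F132652)) (tt N11259 D31408))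
theorem Q9259 : ∀ i, i < 9259 → P i := stepQ 9258 Q9258 (allL N9258 (tt N10768 F203664) (tt N11258 (iv F132704)) (tt N7545 F92572) (tt N7774 F92573) (tt N7544 (iv D21546)) (tt N11260 D31409) (tt N11252 (iv F132693)) (tt N9258 F92574) (tt N11237 (iv F132656)) (tt N11261 D31410))
theorem Q9260 : ∀ i, i < 9260 → P i := stepQ 9259 Q9259 (allL N9259 (tt N11211 (iv F132494)) (tt N11259 (iv F132707)) (tt N7546 F92575) (tt N7564 F92576) (tt N11261 (iv F132715)) (tt N10458 (iv F125303)) (tt N11253 (iv F132696)) (tt N9259 F92577) (tt N11262 D31411) (tt N7544 (iv D21547)))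
theorem Q9261 : ∀ i, i < 9261 → P i := stepQ 9260 Q9260 (allL N9260 (tt N9929 F203665) (tt N10852 (iv F130463)) (tt N11260 (iv F132710)) (tt N7551 F92578) (tt N10459 (iv F125306)) (tt N7545 (iv D21548)) (tt N11263 D31412) (tt N9260 F92579) (tt N11239 (iv F132662)) (tt N11264 D31413))
theorem Q9262 : ∀ i, i < 9262 → P i := stepQ 9261 Q9261 (allL N9261 (tt N10769 F203667) (tt N10853 (iv F130466)) (tt N11261 (iv F132713)) (tt N7552 F92580) (tt N7546 F92581) (tt N11264 (iv F132721)) (tt N11255 (iv F132700)) (tt N9261 F92582) (tt N11265 D31414) (tt N7545 (iv D21549)))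
theorem Q9263 : ∀ i, i < 9263 → P i := stepQ 9262 Q9262 (allL N9262 (tt N11212 (iv F132505)) (tt N10854 (iv F130470)) (tt N11262 (iv F132717)) (tt N11154 (iv F132147)) (tt N11265 (iv F132723)) (tt N10461 (iv F125311)) (tt N11256 (iv F132701)) (tt N9262 F92583) (tt N7546 (iv D21550)) (tt N11241 (iv F132667)))
theorem Q9264 : ∀ i, i < 9264 → P i := stepQ 9263 Q9263 (allL N9263 (tt N10765 F202609) (tt N10855 (iv F130472)) (tt N7779 F92584) (tt N11249 (iv F132683)) (tt N7547 (iv D21551)) (tt N11266 D31415) (tt N9263 F92585) (tt N7549 F92586) (tt N7929 F92587) (tt N11267 D31416))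
theorem Q9265 : ∀ i, i < 9265 → P i := stepQ 9264 Q9264 (allL N9264 (tt N10770 F202611) (tt N10856 (iv F130477)) (tt N7780 F92588) (tt N7548 F92589) (tt N11267 (iv F132729)) (tt N11080 (iv F131720)) (tt N9264 F92590) (tt N7550 F92591) (tt N10816 F202612) (tt N7547 (iv D21552)))
theorem Q9266 : ∀ i, i < 9266 → P i := stepQ 9265 Q9265 (allL N9265 (tt N10764 F203454) (tt N10857 (iv F130482)) (tt N7781 F92592) (tt N11254 (iv F132697)) (tt N11081 (iv F131723)) (tt N7549 (iv D21553)) (tt N11268 D31418) (tt N11266 (iv F132726)) (tt N7930 F92593) (tt N11269 D31419))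
theorem Q9267 : ∀ i, i < 9267 → P i := stepQ 9266 Q9266 (allL N9266 (tt N10767 F203503) (tt N10858 (iv F130485)) (tt N7782 F92594) (tt N11255 (iv F132698)) (tt N7550 F92595) (tt N11269 (iv F132740)) (tt N7552 F92596) (tt N11267 (iv F132731)) (tt N10811 F203504) (tt N7549 (iv D21554)))
theorem Q9268 : ∀ i, i < 9268 → P i := stepQ 9267 Q9267 (allL N9267 (tt N9928 F203672) (tt N10859 (iv F130493)) (tt N7783 F92600) (tt N11263 (iv F132719)) (tt N7553 F92601) (tt N11268 (iv F132737)) (tt N7551 (iv D21556)) (tt N11270 D31421) (tt N7931 F92602) (tt N11271 D31422))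
theorem Q9269 : ∀ i, i < 9269 → P i := stepQ 9268 Q9268 (allL N9268 (tt N9930 F203673) (tt N10860 (iv F130497)) (tt N7784 F92603) (tt N11264 (iv F132720)) (tt N7554 F92604) (tt N7552 F92605) (tt N11271 (iv F132751)) (tt N9268 F92606) (tt N9971 F203674) (tt N7551 (iv D21557)))
theorem Q9270 : ∀ i, i < 9270 → P i := stepQ 9269 Q9269 (allL N9269 (tt N9931 F203678) (tt N10861 (iv F130507)) (tt N7785 F92611) (tt N10470 (iv F125341)) (tt N11270 (iv F132746)) (tt N11085 (iv F131742)) (tt N9269 F92612) (tt N7553 (iv D21559)) (tt N7932 F92613) (tt N11272 D31425))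
theorem Q9271 : ∀ i, i < 9271 → P i := stepQ 9270 Q9270 (allL N9270 (tt N9933 F203679) (tt N10862 (iv F130511)) (tt N7786 F92614) (tt N10471 (iv F125345)) (tt N11271 (iv F132750)) (tt N11086 (iv F131745)) (tt N7554 F92615) (tt N11272 (iv F132761)) (tt N9974 F203680) (tt N7553 (iv D21560)))
theorem Q9272 : ∀ i, i < 9272 → P i := stepQ 9271 Q9271 (allL N9271 (tt N11213 (iv F132557)) (tt N7566 F92622) (tt N11242 (iv F132668)) (tt N11273 D31429) (tt N11087 (iv F131753)) (tt N9271 F92623) (tt N7556 F92624) (tt N10473 (iv F125357)) (tt N7555 (iv D21563)) (tt N11274 D31430))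
theorem Q9273 : ∀ i, i < 9273 → P i := stepQ 9272 Q9272 (allL N9272 (tt N11214 (iv F132561)) (tt N7567 F92625) (tt N11275 D31431) (tt N7556 (iv D21564)) (tt N11276 D31432) (tt N7559 F92626) (tt N11273 (iv F132773)) (tt N7557 F92627) (tt N7632 F92628) (tt N11277 D31433))
theorem Q9274 : ∀ i, i < 9274 → P i := stepQ 9273 Q9273 (allL N9273 (tt N11215 (iv F132566)) (tt N7568 F92629) (tt N11244 (iv F132673)) (tt N11277 (iv F132786)) (tt N11089 (iv F131760)) (tt N7560 F92630) (tt N11274 (iv F132777)) (tt N7558 F92631) (tt N11161 (iv F132199)) (tt N7556 (iv D21565)))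
theorem Q9275 : ∀ i, i < 9275 → P i := stepQ 9274 Q9274 (allL N9274 (tt N11216 (iv F132570)) (tt N11278 D31434) (tt N7557 (iv D21566)) (tt N11245 (iv F132676)) (tt N11279 D31435) (tt N7561 F92632) (tt N10476 (iv F125366)) (tt N11275 (iv F132779)) (tt N7634 F92633) (tt N11280 D31436))
theorem Q9276 : ∀ i, i < 9276 → P i := stepQ 9275 Q9275 (allL N9275 (tt N11217 (iv F132573)) (tt N7570 F92634) (tt N11279 (iv F132792)) (tt N11091 (iv F131766)) (tt N7557 (iv D21567)) (tt N7791 F92635) (tt N10477 (iv F125370)) (tt N11276 (iv F132783)) (tt N7635 F92636) (tt N11281 D31437))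
theorem Q9277 : ∀ i, i < 9277 → P i := stepQ 9276 Q9276 (allL N9276 (tt N11218 (iv F132577)) (tt N7571 F92637) (tt N11280 (iv F132795)) (tt N7558 F92638) (tt N11281 (iv F132798)) (tt N7562 F92639) (tt N10478 (iv F125375)) (tt N11277 (iv F132788)) (tt N11282 D31438) (tt N7557 (iv D21568)))
theorem Q9278 : ∀ i, i < 9278 → P i := stepQ 9277 Q9277 (allL N9277 (tt N11219 (iv F132581)) (tt N11283 D31439) (tt N7559 (iv D21569)) (tt N11248 (iv F132680)) (tt N7793 F92640) (tt N11275 (iv F132778)) (tt N9277 F92641) (tt N7561 F92642) (tt N7637 F92643) (tt N11284 D31440))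
theorem Q9279 : ∀ i, i < 9279 → P i := stepQ 9278 Q9278 (allL N9278 (tt N11220 (iv F132586)) (tt N7573 F92644) (tt N11284 (iv F132808)) (tt N7560 F92645) (tt N7794 F92646) (tt N11277 (iv F132787)) (tt N9278 F92647) (tt N7562 F92648) (tt N11285 D31441) (tt N7559 (iv D21570)))
theorem Q9280 : ∀ i, i < 9280 → P i := stepQ 9279 Q9279 (allL N9279 (tt N11286 D31442) (tt N7561 (iv D21571)) (tt N7574 F92649) (tt N11251 (iv F132689)) (tt N7795 F92650) (tt N11278 (iv F132790)) (tt N7563 F92651) (tt N11283 (iv F132806)) (tt N7639 F92652) (tt N11287 D31443))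
theorem Q9281 : ∀ i, i < 9281 → P i := stepQ 9280 Q9280 (allL N9280 (tt N11222 (iv F132596)) (tt N11287 (iv F132821)) (tt N7562 F92653) (tt N11253 (iv F132695)) (tt N7796 F92654) (tt N11280 (iv F132796)) (tt N7564 F92655) (tt N11284 (iv F132811)) (tt N11288 D31444) (tt N7561 (iv D21572)))
theorem Q9282 : ∀ i, i < 9282 → P i := stepQ 9281 Q9281 (allL N9281 (tt N10555 (iv F204300)) (tt N7576 F92656) (tt N11288 (iv F132825)) (tt N10537 F204192) (tt N7797 F92657) (tt N11282 (iv F132801)) (tt N7565 F92658) (tt N11285 (iv F132815)) (tt N7562 (iv D21573)) (tt N7641 F92659))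
theorem Q9283 : ∀ i, i < 9283 → P i := stepQ 9282 Q9282 (allL N9282 (tt N7563 (iv D21574)) (tt N11223 (iv F132605)) (tt N7577 F92660) (tt N11257 (iv F132702)) (tt N7798 F92661) (tt N10484 (iv F125398)) (tt N11286 (iv F132819)) (tt N9282 F92662) (tt N7642 F92663) (tt N11289 D31445))
theorem Q9284 : ∀ i, i < 9284 → P i := stepQ 9283 Q9283 (allL N9283 (tt N11289 (iv F132829)) (tt N7564 F92664) (tt N7578 F92665) (tt N11259 (iv F132708)) (tt N7799 F92666) (tt N10485 (iv F125404)) (tt N11287 (iv F132824)) (tt N9283 F92667) (tt N11290 D31446) (tt N7563 (iv D21575)))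
theorem Q9285 : ∀ i, i < 9285 → P i := stepQ 9284 Q9284 (allL N9284 (tt N10557 (iv F204361)) (tt N11290 (iv F132833)) (tt N7565 F92668) (tt N11291 D31447) (tt N7800 F92669) (tt N10486 (iv F125408)) (tt N11288 (iv F132827)) (tt N9284 F92670) (tt N7564 (iv D21576)) (tt N7644 F92671))
theorem Q9286 : ∀ i, i < 9286 → P i := stepQ 9285 Q9285 (allL N9285 (tt N9285 F92672) (tt N11273 (iv F132771)) (tt N10593 F204573) (tt N7566 (iv D21577)) (tt N10592 (iv F204612)) (tt N9285 F92673) (tt N7567 F92674) (tt N10487 (iv F125414)) (tt N7645 F92675) (tt N11292 D31450))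
theorem Q9287 : ∀ i, i < 9287 → P i := stepQ 9286 Q9286 (allL N9286 (tt N9286 F92676) (tt N11274 (iv F132775)) (tt N10878 (iv F130577)) (tt N11292 (iv F132848)) (tt N11102 (iv F131803)) (tt N9286 F92677) (tt N7568 F92678) (tt N10488 (iv F125419)) (tt N11172 (iv F132248)) (tt N7566 (iv D21578)))
theorem Q9288 : ∀ i, i < 9288 → P i := stepQ 9287 Q9287 (allL N9287 (tt N9287 F92679) (tt N11293 D31451) (tt N7567 (iv D21579)) (tt N10879 (iv F130581)) (tt N7651 (iv F204619)) (tt N7572 F92680) (tt N10593 F204577) (tt N7569 F92681) (tt N7647 F92682) (tt N11294 D31453))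
theorem Q9289 : ∀ i, i < 9289 → P i := stepQ 9288 Q9288 (allL N9288 (tt N9288 F92683) (tt N11276 (iv F132781)) (tt N7651 F204663) (tt N11104 (iv F131810)) (tt N7567 (iv D21580)) (tt N7656 (iv F204727)) (tt N10592 F204664) (tt N7570 F92685) (tt N7648 F92686) (tt N11295 D31454))
theorem Q9290 : ∀ i, i < 9290 → P i := stepQ 9289 Q9289 (allL N9289 (tt N9289 F92687) (tt N11277 (iv F132785)) (tt N11294 (iv F132860)) (tt N7568 F92688) (tt N11295 (iv F132864)) (tt N7573 F92689) (tt N11292 (iv F132850)) (tt N7571 F92690) (tt N11296 D31455) (tt N7567 (iv D21581)))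
theorem Q9291 : ∀ i, i < 9291 → P i := stepQ 9290 Q9290 (allL N9290 (tt N11297 D31456) (tt N7569 (iv D21582)) (tt N11278 (iv F132789)) (tt N10882 (iv F130593)) (tt N11298 D31457) (tt N7574 F92691) (tt N10492 (iv F125433)) (tt N11293 (iv F132852)) (tt N7650 F92692) (tt N11299 D31458))
theorem Q9292 : ∀ i, i < 9292 → P i := stepQ 9291 Q9291 (allL N9291 (tt N9291 F92693) (tt N11298 (iv F132874)) (tt N7570 F92694) (tt N11300 D31459) (tt N7569 (iv D21583)) (tt N7653 (iv F204738)) (tt N10493 (iv F125438)) (tt N7651 F204672) (tt N7649 F204673) (tt N11296 (iv F204742)))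
theorem Q9293 : ∀ i, i < 9293 → P i := stepQ 9292 Q9292 (allL N9292 (tt N9292 F92697) (tt N11299 (iv F132877)) (tt N7571 F92698) (tt N10884 (iv F130602)) (tt N11296 (iv F204740)) (tt N7575 F92699) (tt N10494 (iv F125443)) (tt N11294 (iv F132862)) (tt N11295 (iv F204732)) (tt N7569 (iv D21584)))
theorem Q9294 : ∀ i, i < 9294 → P i := stepQ 9293 Q9293 (allL N9293 (tt N9293 F92700) (tt N11281 (iv F132797)) (tt N11296 (iv F204739)) (tt N11109 (iv F131828)) (tt N7571 F92701) (tt N7805 F92702) (tt N10495 (iv F125447)) (tt N11295 (iv F132866)) (tt N11294 F204685) (tt N7570 (iv D21585)))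
theorem Q9295 : ∀ i, i < 9295 → P i := stepQ 9294 Q9294 (allL N9294 (tt N9294 F92703) (tt N11282 (iv F132800)) (tt N11295 (iv F204730)) (tt N11180 (iv F132274)) (tt N11294 F204681) (tt N7576 F92704) (tt N10496 (iv F125450)) (tt N11296 (iv F132869)) (tt N7571 (iv D21586)) (tt N7651 F92705))
theorem Q9296 : ∀ i, i < 9296 → P i := stepQ 9295 Q9295 (allL N9295 (tt N11301 D31463) (tt N7572 (iv D21587)) (tt N11283 (iv F132803)) (tt N10887 (iv F130610)) (tt N7807 F92706) (tt N11293 (iv F132851)) (tt N9295 F92707) (tt N7574 F92708) (tt N7652 F92709) (tt N11302 D31464))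
theorem Q9297 : ∀ i, i < 9297 → P i := stepQ 9296 Q9296 (allL N9296 (tt N9296 F92710) (tt N11302 (iv F132898)) (tt N7573 F92711) (tt N10888 (iv F130617)) (tt N7806 (iv F204747)) (tt N11294 (iv F132861)) (tt N9296 F92713) (tt N7575 F92714) (tt N7805 (iv F204749)) (tt N7572 (iv D21588)))
theorem Q9298 : ∀ i, i < 9298 → P i := stepQ 9297 Q9297 (allL N9297 (tt N9297 F92715) (tt N11285 (iv F132812)) (tt N7805 F204816) (tt N11183 (iv F132287)) (tt N7804 (iv F204867)) (tt N11296 (iv F132868)) (tt N9297 F92717) (tt N7576 F92718) (tt N7573 (iv D21589)) (tt N7653 F92719))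
theorem Q9299 : ∀ i, i < 9299 → P i := stepQ 9298 Q9298 (allL N9298 (tt N7574 (iv D21590)) (tt N9298 F92720) (tt N11286 (iv F132817)) (tt N10890 (iv F130627)) (tt N7808 F92721) (tt N11297 (iv F132872)) (tt N7577 F92722) (tt N11301 (iv F132896)) (tt N7654 F92723) (tt N11303 D31466))
theorem Q9300 : ∀ i, i < 9300 → P i := stepQ 9299 Q9299 (allL N9299 (tt N11303 (iv F132908)) (tt N7575 F92724) (tt N11287 (iv F132822)) (tt N10891 (iv F130632)) (tt N7809 F92725) (tt N11299 (iv F132878)) (tt N7578 F92726) (tt N11302 (iv F132901)) (tt N11304 D31467) (tt N7574 (iv D21591)))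
theorem Q9301 : ∀ i, i < 9301 → P i := stepQ 9300 Q9300 (allL N9300 (tt N9300 F92727) (tt N11304 (iv F132912)) (tt N7576 F92728) (tt N11305 D31468) (tt N7802 (iv F204856)) (tt N11295 F204807) (tt N7579 F92730) (tt N7805 F204808) (tt N7575 (iv D21592)) (tt N7656 F92731))
theorem Q9302 : ∀ i, i < 9302 → P i := stepQ 9301 Q9301 (allL N9301 (tt N7578 F92732) (tt N9301 F92733) (tt N11289 (iv F132830)) (tt N10893 (iv F130642)) (tt N7810 F92734) (tt N10503 (iv F125481)) (tt N11303 (iv F132911)) (tt N9301 F92735) (tt N11306 D31469) (tt N7577 (iv D21593)))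
theorem Q9303 : ∀ i, i < 9303 → P i := stepQ 9302 Q9302 (allL N9302 (tt N11306 (iv F132919)) (tt N7579 F92736) (tt N11290 (iv F132834)) (tt N11307 D31470) (tt N7811 F92737) (tt N10504 (iv F125485)) (tt N11304 (iv F132914)) (tt N9302 F92738) (tt N7578 (iv D21594)) (tt N7658 F92739))
theorem Q9304 : ∀ i, i < 9304 → P i := stepQ 9303 Q9303 (allL N9303 (tt N9303 F92740) (tt N11307 (iv F132924)) (tt N11189 (iv F132313)) (tt N7579 (iv D21595)) (tt N11308 D31471) (tt N10505 (iv F125489)) (tt N11305 (iv F132917)) (tt N9303 F92741) (tt N10895 (iv F130651)) (tt N7659 F92742))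
theorem Q9305 : ∀ i, i < 9305 → P i := stepQ 9304 Q9304 (allL N9304 (tt N7586 F92927) (tt N9304 F92928) (tt N10514 (iv F204332)) (tt N11129 (iv F132034)) (tt N9304 F92929) (tt N9304 F92930) (tt N7580 (iv D21635)) (tt N10507 (iv F126324)) (tt N10513 (iv F204343)) (tt N7611 F92931))
theorem Q9306 : ∀ i, i < 9306 → P i := stepQ 9305 Q9305 (allL N9305 (tt N10517 (iv F203949)) (tt N9305 F92976) (tt N11133 (iv F132084)) (tt N9305 F92977) (tt N7581 (iv D21646)) (tt N7938 F92978) (tt N10508 (iv F126372)) (tt N11309 D31547) (tt N11310 D31548) (tt N7617 F92979))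
theorem Q9307 : ∀ i, i < 9307 → P i := stepQ 9306 Q9306 (allL N9306 (tt N10515 (iv F203931)) (tt N9306 F92980) (tt N11134 (iv F132087)) (tt N7585 F92981) (tt N11309 (iv F133265)) (tt N7582 F92982) (tt N11311 D31549) (tt N7581 (iv D21647)) (tt N11312 D31550) (tt N7618 F92983))
theorem Q9308 : ∀ i, i < 9308 → P i := stepQ 9307 Q9307 (allL N9307 (tt N10378 (iv F203952)) (tt N9307 F92984) (tt N11135 (iv F132091)) (tt N10349 (iv F203944)) (tt N11310 (iv F133269)) (tt N7583 F92985) (tt N10510 (iv F126380)) (tt N11312 (iv F133277)) (tt N7581 (iv D21648)) (tt N11313 D31552))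
theorem Q9309 : ∀ i, i < 9309 → P i := stepQ 9308 Q9308 (allL N9308 (tt N10380 (iv F203934)) (tt N9308 F92986) (tt N11136 (iv F132093)) (tt N10350 (iv F204046)) (tt N7941 F92987) (tt N11312 (iv F133276)) (tt N9308 F92988) (tt N7583 F92989) (tt N7582 (iv D21649)) (tt N11314 D31554))
theorem Q9310 : ∀ i, i < 9310 → P i := stepQ 9309 Q9309 (allL N9309 (tt N10383 (iv F203953)) (tt N9309 F92993) (tt N11138 (iv F132099)) (tt N10351 (iv F204056)) (tt N7943 F92994) (tt N11313 (iv F133282)) (tt N7584 F92995) (tt N11314 (iv F133291)) (tt N7622 F92996) (tt N7583 (iv D21651)))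
theorem Q9311 : ∀ i, i < 9311 → P i := stepQ 9310 Q9310 (allL N9310 (tt N10514 (iv F204331)) (tt N9310 F93006) (tt N7586 F93007) (tt N11311 (iv F133272)) (tt N9310 F93008) (tt N9310 F93009) (tt N7585 (iv D21655)) (tt N10513 (iv F126407)) (tt N10507 (iv F204341)) (tt N7625 F93010))
theorem Q9312 : ∀ i, i < 9312 → P i := stepQ 9311 Q9311 (allL N9311 (tt N10513 (iv F204342)) (tt N7592 F93100) (tt N10507 (iv F204340)) (tt N11315 D31595) (tt N9311 F93101) (tt N9311 F93102) (tt N7587 F93103) (tt N10514 (iv F126511)) (tt N7586 (iv D21678)) (tt N10538 (iv F204327)))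
theorem Q9313 : ∀ i, i < 9313 → P i := stepQ 9312 Q9312 (allL N9312 (tt N10509 F204163) (tt N7593 F93104) (tt N11316 D31597) (tt N7587 (iv D21679)) (tt N11317 D31598) (tt N7589 F93105) (tt N11315 (iv F133441)) (tt N7588 F93106) (tt N11160 (iv F132195)) (tt N10534 (iv F204314)))
theorem Q9314 : ∀ i, i < 9314 → P i := stepQ 9313 Q9313 (allL N9313 (tt N10353 F203596) (tt N11318 D31600) (tt N7588 (iv D21681)) (tt N10337 F203597) (tt N11319 D31601) (tt N7590 F93112) (tt N10516 (iv F126521)) (tt N11316 (iv F133448)) (tt N11162 (iv F132201)) (tt N10409 (iv F203895)))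
theorem Q9315 : ∀ i, i < 9315 → P i := stepQ 9314 Q9314 (allL N9314 (tt N10508 F204160) (tt N7596 F93113) (tt N11319 (iv F133459)) (tt N9314 F93114) (tt N7588 (iv D21682)) (tt N9314 F93115) (tt N10517 (iv F126524)) (tt N11317 (iv F133452)) (tt N11163 (iv F132204)) (tt N10533 (iv F204312)))
theorem Q9316 : ∀ i, i < 9316 → P i := stepQ 9315 Q9315 (allL N9315 (tt N10354 F203807) (tt N11320 D31605) (tt N7589 (iv D21684)) (tt N10338 F203808) (tt N9315 F93119) (tt N11316 (iv F133447)) (tt N9315 F93120) (tt N7590 F93121) (tt N11165 (iv F132211)) (tt N10410 (iv F203982)))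
theorem Q9317 : ∀ i, i < 9317 → P i := stepQ 9316 Q9316 (allL N9316 (tt N11321 D31608) (tt N7590 (iv D21686)) (tt N7600 F93127) (tt N10332 F203074) (tt N9316 F93128) (tt N11318 (iv F133458)) (tt N7591 F93129) (tt N11320 (iv F133473)) (tt N11167 (iv F132220)) (tt N10400 (iv F203395)))
theorem Q9318 : ∀ i, i < 9318 → P i := stepQ 9317 Q9317 (allL N9317 (tt N7591 (iv D21689)) (tt N7928 (iv F202572)) (tt N7603 F93137) (tt N7879 F202177) (tt N9317 F93138) (tt N7876 F202178) (tt N11321 (iv F133485)) (tt N9317 F93139) (tt N11169 (iv F132232)) (tt N9956 (iv F203037)))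
theorem Q9319 : ∀ i, i < 9319 → P i := stepQ 9318 Q9318 (allL N9318 (tt N9318 F93147) (tt N11315 (iv F133439)) (tt N11322 D31614) (tt N7592 (iv D21692)) (tt N11323 D31615) (tt N9318 F93148) (tt N7593 F93149) (tt N10520 (iv F126555)) (tt N11171 (iv F132244)) (tt N11324 D31616))
theorem Q9320 : ∀ i, i < 9320 → P i := stepQ 9319 Q9319 (allL N9319 (tt N9319 F93150) (tt N10538 (iv F204326)) (tt N9319 F93151) (tt N11324 (iv F133511)) (tt N9319 F93152) (tt N9319 F93153) (tt N7594 F93154) (tt N10521 (iv F126561)) (tt N7646 F93155) (tt N7592 (iv D21693)))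
theorem Q9321 : ∀ i, i < 9321 → P i := stepQ 9320 Q9320 (allL N9320 (tt N9320 F93156) (tt N11325 D31617) (tt N7593 (iv D21694)) (tt N9320 F93157) (tt N11324 F204449) (tt N7598 F93158) (tt N11322 (iv F133506)) (tt N7595 F93159) (tt N11173 (iv F132252)) (tt N11323 F204450))
theorem Q9322 : ∀ i, i < 9322 → P i := stepQ 9321 Q9321 (allL N9321 (tt N9321 F93160) (tt N11317 (iv F133449)) (tt N11324 F204453) (tt N9321 F93161) (tt N7593 (iv D21695)) (tt N9321 F93162) (tt N11323 (iv F133509)) (tt N7596 F93163) (tt N11174 (iv F132256)) (tt N11322 F204454))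
theorem Q9323 : ∀ i, i < 9323 → P i := stepQ 9322 Q9322 (allL N9322 (tt N9322 F93164) (tt N10534 (iv F204313)) (tt N11323 F204447) (tt N7594 F93165) (tt N11322 F204448) (tt N7599 F93166) (tt N11324 (iv F133513)) (tt N7597 F93167) (tt N11300 F204800) (tt N7593 (iv D21696)))
theorem Q9324 : ∀ i, i < 9324 → P i := stepQ 9323 Q9323 (allL N9323 (tt N11326 D31622) (tt N7595 (iv D21697)) (tt N11318 (iv F133457)) (tt N9323 F93168) (tt N11327 D31623) (tt N7600 F93169) (tt N10525 (iv F126576)) (tt N11325 (iv F133516)) (tt N11176 (iv F132262)) (tt N11328 D31624))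
theorem Q9325 : ∀ i, i < 9325 → P i := stepQ 9324 Q9324 (allL N9324 (tt N9324 F93170) (tt N11327 (iv F133538)) (tt N7596 F93171) (tt N10521 (iv F204346)) (tt N7595 (iv D21698)) (tt N9324 F93172) (tt N10524 F204272) (tt N11324 (iv F204378)) (tt N11177 (iv F132266)) (tt N10520 (iv F204349)))
theorem Q9326 : ∀ i, i < 9326 → P i := stepQ 9325 Q9325 (allL N9325 (tt N9325 F93173) (tt N11328 (iv F133540)) (tt N7597 F93174) (tt N9325 F93175) (tt N10520 (iv F204348)) (tt N7601 F93176) (tt N10523 F204278) (tt N11323 (iv F204379)) (tt N11329 D31627) (tt N7595 (iv D21699)))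
theorem Q9327 : ∀ i, i < 9327 → P i := stepQ 9326 Q9326 (allL N9326 (tt N9326 F93177) (tt N10533 (iv F204311)) (tt N10520 (iv F204347)) (tt N9326 F93178) (tt N7597 F93179) (tt N9326 F93180) (tt N10522 F204172) (tt N11322 (iv F204350)) (tt N11330 D31628) (tt N7596 (iv D21700)))
theorem Q9328 : ∀ i, i < 9328 → P i := stepQ 9327 Q9327 (allL N9327 (tt N9327 F93181) (tt N10535 (iv F204315)) (tt N11329 (iv F133552)) (tt N7651 F93182) (tt N11330 (iv F133555)) (tt N7602 F93183) (tt N10526 (iv F126592)) (tt N11300 (iv F204744)) (tt N7597 (iv D21701)) (tt N11180 (iv F132276)))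
theorem Q9329 : ∀ i, i < 9329 → P i := stepQ 9328 Q9328 (allL N9328 (tt N11331 D31629) (tt N7598 (iv D21702)) (tt N11320 (iv F133470)) (tt N9328 F93184) (tt N9328 F93185) (tt N11325 (iv F133515)) (tt N9328 F93186) (tt N7600 F93187) (tt N11181 (iv F132280)) (tt N11332 D31630))
theorem Q9330 : ∀ i, i < 9330 → P i := stepQ 9329 Q9329 (allL N9329 (tt N9329 F93188) (tt N11332 (iv F133562)) (tt N7599 F93189) (tt N9329 F93190) (tt N9329 F93191) (tt N11323 F204492) (tt N9329 F93192) (tt N7601 F93193) (tt N11333 D31631) (tt N7598 (iv D21703)))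
theorem Q9331 : ∀ i, i < 9331 → P i := stepQ 9330 Q9330 (allL N9330 (tt N9330 F93194) (tt N10536 (iv F204368)) (tt N11333 (iv F133568)) (tt N7653 F93195) (tt N9330 F93196) (tt N11300 F204817) (tt N9330 F93197) (tt N7602 F93198) (tt N7599 (iv D21704)) (tt N11183 (iv F132291)))
theorem Q9332 : ∀ i, i < 9332 → P i := stepQ 9331 Q9331 (allL N9331 (tt N7600 (iv D21705)) (tt N9331 F93199) (tt N11321 (iv F133483)) (tt N9331 F93200) (tt N9331 F93201) (tt N11326 (iv F133537)) (tt N7603 F93202) (tt N11331 (iv F133561)) (tt N11184 (iv F132295)) (tt N11334 D31632))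
theorem Q9333 : ∀ i, i < 9333 → P i := stepQ 9332 Q9332 (allL N9332 (tt N11334 (iv F133572)) (tt N7601 F93203) (tt N10400 F203848) (tt N9332 F93204) (tt N9332 F93205) (tt N11328 (iv F133542)) (tt N7604 F93206) (tt N11332 (iv F133566)) (tt N11335 D31633) (tt N7600 (iv D21706)))
theorem Q9334 : ∀ i, i < 9334 → P i := stepQ 9333 Q9333 (allL N9333 (tt N9333 F93207) (tt N11335 (iv F133577)) (tt N7602 F93208) (tt N11336 D31634) (tt N9333 F93209) (tt N11329 (iv F133553)) (tt N7605 F93210) (tt N11333 (iv F133571)) (tt N7601 (iv D21707)) (tt N11186 (iv F132303)))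
theorem Q9335 : ∀ i, i < 9335 → P i := stepQ 9334 Q9334 (allL N9334 (tt N7604 F93211) (tt N9334 F93212) (tt N9956 F203466) (tt N9334 F93213) (tt N9334 F93214) (tt N10530 (iv F126617)) (tt N11334 (iv F133576)) (tt N9334 F93215) (tt N11337 D31635) (tt N7603 (iv D21708)))
theorem Q9336 : ∀ i, i < 9336 → P i := stepQ 9335 Q9335 (allL N9335 (tt N11337 (iv F133584)) (tt N7605 F93216) (tt N10401 F203849) (tt N11338 D31636) (tt N9335 F93217) (tt N10531 (iv F126620)) (tt N11335 (iv F133579)) (tt N9335 F93218) (tt N7604 (iv D21709)) (tt N11188 (iv F132311)))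
theorem Q9337 : ∀ i, i < 9337 → P i := stepQ 9336 Q9336 (allL N9336 (tt N9336 F93219) (tt N11338 (iv F133588)) (tt N7659 F93220) (tt N7605 (iv D21710)) (tt N11339 D31637) (tt N10532 (iv F126624)) (tt N11336 (iv F133582)) (tt N9336 F93221) (tt N9336 F93222) (tt N11189 (iv F132315)))
theorem Q9338 : ∀ i, i < 9338 → P i := stepQ 9337 Q9337 (allL N9337 (tt N7617 F93293) (tt N10522 (iv F204052)) (tt N11195 (iv F132427)) (tt N9337 F93294) (tt N7606 (iv D21726)) (tt N7957 F93295) (tt N10533 (iv F126757)) (tt N10525 F203874) (tt N11340 D31663) (tt N10517 F204104))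
theorem Q9339 : ∀ i, i < 9339 → P i := stepQ 9338 Q9338 (allL N9338 (tt N7618 F93296) (tt N10524 (iv F203925)) (tt N11196 (iv F132430)) (tt N7610 F93297) (tt N10525 F203873) (tt N7607 F93298) (tt N11327 (iv F204073)) (tt N7606 (iv D21727)) (tt N11341 D31665) (tt N10515 (iv F203932)))
theorem Q9340 : ∀ i, i < 9340 → P i := stepQ 9339 Q9339 (allL N9339 (tt N7619 F93299) (tt N10526 (iv F204310)) (tt N11197 (iv F132434)) (tt N10574 (iv F204317)) (tt N11340 (iv F133706)) (tt N7608 F93300) (tt N10535 (iv F126763)) (tt N11341 (iv F133713)) (tt N7606 (iv D21728)) (tt N11342 D31667))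
theorem Q9341 : ∀ i, i < 9341 → P i := stepQ 9340 Q9340 (allL N9340 (tt N7620 F93301) (tt N10527 (iv F203926)) (tt N11198 (iv F132437)) (tt N10577 (iv F203933)) (tt N7960 F93302) (tt N11341 (iv F133712)) (tt N9340 F93303) (tt N7608 F93304) (tt N7607 (iv D21729)) (tt N11343 D31669))
theorem Q9342 : ∀ i, i < 9342 → P i := stepQ 9341 Q9341 (allL N9341 (tt N7622 F93309) (tt N10396 F204109) (tt N11200 (iv F132445)) (tt N10483 (iv F204320)) (tt N7961 F93310) (tt N11342 (iv F133718)) (tt N7609 F93311) (tt N11343 (iv F133727)) (tt N10383 F204110) (tt N7608 (iv D21731)))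
theorem Q9343 : ∀ i, i < 9343 → P i := stepQ 9342 Q9342 (allL N9342 (tt N7625 F93320) (tt N10521 (iv F204325)) (tt N7611 F93321) (tt N11327 F204291) (tt N9342 F93322) (tt N9342 F93323) (tt N7610 (iv D21734)) (tt N10538 (iv F126791)) (tt N10566 (iv F204330)) (tt N10514 (iv F204333)))
theorem Q9344 : ∀ i, i < 9344 → P i := stepQ 9343 Q9343 (allL N9343 (tt N7631 F93363) (tt N9343 F93364) (tt N10566 (iv F204329)) (tt N11344 D31689) (tt N9343 F93365) (tt N9343 F93366) (tt N7612 F93367) (tt N10539 (iv F126879)) (tt N7611 (iv D21745)) (tt N10558 (iv F204339)))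
theorem Q9345 : ∀ i, i < 9345 → P i := stepQ 9344 Q9344 (allL N9344 (tt N7632 F93368) (tt N9344 F93369) (tt N11345 D31691) (tt N7612 (iv D21746)) (tt N11346 D31692) (tt N7614 F93370) (tt N11344 (iv F133805)) (tt N7613 F93371) (tt N11214 (iv F132565)) (tt N10559 (iv F204337)))
theorem Q9346 : ∀ i, i < 9346 → P i := stepQ 9345 Q9345 (allL N9345 (tt N7634 F93377) (tt N11347 D31694) (tt N7613 (iv D21748)) (tt N10572 (iv F204505)) (tt N11348 D31695) (tt N7615 F93378) (tt N10541 (iv F126891)) (tt N11345 (iv F133813)) (tt N11216 (iv F132572)) (tt N10560 (iv F204509)))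
theorem Q9347 : ∀ i, i < 9347 → P i := stepQ 9346 Q9346 (allL N9346 (tt N7635 F93379) (tt N9346 F93380) (tt N11348 (iv F133827)) (tt N9346 F93381) (tt N7613 (iv D21749)) (tt N7814 F93382) (tt N10542 (iv F126896)) (tt N11346 (iv F133818)) (tt N11217 (iv F132576)) (tt N10561 (iv F204512)))
theorem Q9348 : ∀ i, i < 9348 → P i := stepQ 9347 Q9347 (allL N9347 (tt N7637 F93387) (tt N11349 D31699) (tt N7614 (iv D21751)) (tt N10576 (iv F204336)) (tt N7816 F93388) (tt N11345 (iv F133812)) (tt N9347 F93389) (tt N7615 F93390) (tt N11219 (iv F132585)) (tt N10562 (iv F204344)))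
theorem Q9349 : ∀ i, i < 9349 → P i := stepQ 9348 Q9348 (allL N9348 (tt N11350 D31702) (tt N7615 (iv D21753)) (tt N9348 F93397) (tt N10579 (iv F204502)) (tt N7818 F93398) (tt N11347 (iv F133825)) (tt N7616 F93399) (tt N11349 (iv F133843)) (tt N11221 (iv F132595)) (tt N10563 (iv F204503)))
theorem Q9350 : ∀ i, i < 9350 → P i := stepQ 9349 Q9349 (allL N9349 (tt N7616 (iv D21756)) (tt N7642 F93408) (tt N9349 F93409) (tt N10581 (iv F204519)) (tt N7821 F93410) (tt N10545 (iv F126926)) (tt N11350 (iv F133857)) (tt N9349 F93411) (tt N11223 (iv F132609)) (tt N10564 (iv F204521)))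
theorem Q9351 : ∀ i, i < 9351 → P i := stepQ 9350 Q9350 (allL N9350 (tt N10525 F203477) (tt N9350 F93420) (tt N11225 (iv F132619)) (tt N9350 F93421) (tt N7618 F93422) (tt N7962 F93423) (tt N11326 (iv F203882)) (tt N7617 (iv D21759)) (tt N11351 D31709) (tt N11309 (iv F133267)))
theorem Q9352 : ∀ i, i < 9352 → P i := stepQ 9351 Q9351 (allL N9351 (tt N11340 (iv F133705)) (tt N9351 F93424) (tt N11226 (iv F132622)) (tt N11352 D31710) (tt N7619 F93425) (tt N7963 F93426) (tt N10547 (iv F126945)) (tt N11351 (iv F133883)) (tt N7617 (iv D21760)) (tt N11353 D31711))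
theorem Q9353 : ∀ i, i < 9353 → P i := stepQ 9352 Q9352 (allL N9352 (tt N11327 F204077) (tt N9352 F93427) (tt N11227 (iv F132625)) (tt N7625 F93428) (tt N11326 F204078) (tt N9352 F93429) (tt N7618 (iv D21761)) (tt N10548 (iv F126949)) (tt N11354 D31712) (tt N11311 (iv F133274)))
theorem Q9354 : ∀ i, i < 9354 → P i := stepQ 9353 Q9353 (allL N9353 (tt N11341 (iv F133711)) (tt N9353 F93430) (tt N11228 (iv F132628)) (tt N11355 D31713) (tt N11351 (iv F133881)) (tt N7620 F93431) (tt N11354 (iv F133892)) (tt N7619 F93432) (tt N7618 (iv D21762)) (tt N11356 D31714))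
theorem Q9355 : ∀ i, i < 9355 → P i := stepQ 9354 Q9354 (allL N9354 (tt N10574 (iv F204316)) (tt N9354 F93433) (tt N11357 D31715) (tt N7619 (iv D21763)) (tt N11358 D31716) (tt N7621 F93434) (tt N10550 (iv F126955)) (tt N11355 (iv F133895)) (tt N7627 F93435) (tt N11359 D31717))
theorem Q9356 : ∀ i, i < 9356 → P i := stepQ 9355 Q9355 (allL N9355 (tt N11342 (iv F133717)) (tt N9355 F93436) (tt N11230 (iv F132633)) (tt N11359 (iv F133906)) (tt N11353 (iv F133888)) (tt N7622 F93437) (tt N10551 (iv F126959)) (tt N11356 (iv F133899)) (tt N11313 (iv F133283)) (tt N7619 (iv D21764)))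
theorem Q9357 : ∀ i, i < 9357 → P i := stepQ 9356 Q9356 (allL N9356 (tt N10577 F204144) (tt N9356 F93438) (tt N11360 D31718) (tt N7620 (iv D21765)) (tt N9356 F93439) (tt N11355 (iv F133894)) (tt N9356 F93440) (tt N7621 F93441) (tt N7628 F93442) (tt N11361 D31719))
theorem Q9358 : ∀ i, i < 9358 → P i := stepQ 9357 Q9357 (allL N9357 (tt N11343 (iv F133724)) (tt N9357 F93443) (tt N11232 (iv F132638)) (tt N11361 (iv F133913)) (tt N7966 F93444) (tt N11356 (iv F133898)) (tt N9357 F93445) (tt N7622 F93446) (tt N11314 (iv F133292)) (tt N7620 (iv D21766)))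
theorem Q9359 : ∀ i, i < 9359 → P i := stepQ 9358 Q9358 (allL N9358 (tt N10580 (iv F204318)) (tt N11362 D31720) (tt N7621 (iv D21767)) (tt N11233 (iv F132642)) (tt N9358 F93447) (tt N11357 (iv F133900)) (tt N7623 F93448) (tt N11360 (iv F133910)) (tt N7629 F93449) (tt N11363 D31721))
theorem Q9360 : ∀ i, i < 9360 → P i := stepQ 9359 Q9359 (allL N9359 (tt N10483 (iv F204319)) (tt N9359 F93450) (tt N11363 (iv F133921)) (tt N7622 F93451) (tt N9359 F93452) (tt N11359 (iv F133907)) (tt N7624 F93453) (tt N11361 (iv F133916)) (tt N10435 (iv F204354)) (tt N7621 (iv D21768)))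
theorem Q9361 : ∀ i, i < 9361 → P i := stepQ 9360 Q9360 (allL N9360 (tt N11364 D31723) (tt N7623 (iv D21769)) (tt N9360 F93454) (tt N11236 (iv F132650)) (tt N9360 F93455) (tt N10556 (iv F126978)) (tt N11362 (iv F133919)) (tt N9360 F93456) (tt N7630 F93457) (tt N11365 D31724))
theorem Q9362 : ∀ i, i < 9362 → P i := stepQ 9361 Q9361 (allL N9361 (tt N10486 (iv F204364)) (tt N11365 (iv F133932)) (tt N7624 F93458) (tt N11238 (iv F132658)) (tt N9361 F93459) (tt N10557 (iv F126986)) (tt N11363 (iv F133923)) (tt N9361 F93460) (tt N10437 (iv F204355)) (tt N7623 (iv D21770)))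
theorem Q9363 : ∀ i, i < 9363 → P i := stepQ 9362 Q9362 (allL N9362 (tt N10566 (iv F204328)) (tt N9362 F93465) (tt N7631 F93466) (tt N11366 D31726) (tt N9362 F93467) (tt N9362 F93468) (tt N7626 F93469) (tt N10558 (iv F127002)) (tt N7625 (iv D21772)) (tt N10539 (iv F204338)))
theorem Q9364 : ∀ i, i < 9364 → P i := stepQ 9363 Q9363 (allL N9363 (tt N10569 (iv F204334)) (tt N9363 F93470) (tt N11367 D31728) (tt N7626 (iv D21773)) (tt N11368 D31729) (tt N7628 F93471) (tt N11366 (iv F133942)) (tt N7627 F93472) (tt N11355 (iv F133896)) (tt N10540 (iv F204381)))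
theorem Q9365 : ∀ i, i < 9365 → P i := stepQ 9364 Q9364 (allL N9364 (tt N10572 (iv F204504)) (tt N11369 D31731) (tt N7627 (iv D21775)) (tt N7634 F93478) (tt N11370 D31732) (tt N7629 F93479) (tt N10560 (iv F127013)) (tt N11367 (iv F133950)) (tt N11357 (iv F133901)) (tt N10541 (iv F204507)))
theorem Q9366 : ∀ i, i < 9366 → P i := stepQ 9365 Q9365 (allL N9365 (tt N10573 (iv F204513)) (tt N9365 F93480) (tt N11370 (iv F133962)) (tt N9365 F93481) (tt N7627 (iv D21776)) (tt N9365 F93482) (tt N10561 (iv F127016)) (tt N11368 (iv F133954)) (tt N11358 (iv F133904)) (tt N10542 (iv F204510)))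
theorem Q9367 : ∀ i, i < 9367 → P i := stepQ 9366 Q9366 (allL N9366 (tt N10576 (iv F204335)) (tt N11371 D31736) (tt N7628 (iv D21778)) (tt N7637 F93486) (tt N9366 F93487) (tt N11367 (iv F133949)) (tt N9366 F93488) (tt N7629 F93489) (tt N11360 (iv F133911)) (tt N10543 (iv F204382)))
theorem Q9368 : ∀ i, i < 9368 → P i := stepQ 9367 Q9367 (allL N9367 (tt N11372 D31739) (tt N7629 (iv D21780)) (tt N9367 F93495) (tt N7639 F93496) (tt N9367 F93497) (tt N11369 (iv F133961)) (tt N7630 F93498) (tt N11371 (iv F133977)) (tt N11362 (iv F133920)) (tt N10544 (iv F204515)))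
theorem Q9369 : ∀ i, i < 9369 → P i := stepQ 9368 Q9368 (allL N9368 (tt N7630 (iv D21783)) (tt N10581 (iv F204518)) (tt N9368 F93506) (tt N7642 F93507) (tt N9368 F93508) (tt N10564 (iv F127052)) (tt N11372 (iv F133990)) (tt N9368 F93509) (tt N11364 (iv F133931)) (tt N10545 (iv F204517)))
theorem Q9370 : ∀ i, i < 9370 → P i := stepQ 9369 Q9369 (allL N9369 (tt N11344 (iv F133802)) (tt N7645 F93518) (tt N11373 D31745) (tt N7631 (iv D21786)) (tt N10591 (iv F204601)) (tt N9369 F93519) (tt N7632 F93520) (tt N10565 (iv F127109)) (tt N11273 (iv F132774)) (tt N10590 (iv F204604)))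
theorem Q9371 : ∀ i, i < 9371 → P i := stepQ 9370 Q9370 (allL N9370 (tt N10558 F204420) (tt N7646 F93521) (tt N10539 F204421) (tt N10590 F204657) (tt N9370 F93522) (tt N9370 F93523) (tt N7633 F93524) (tt N10566 (iv F127114)) (tt N10538 F204422) (tt N7631 (iv D21787)))
theorem Q9372 : ∀ i, i < 9372 → P i := stepQ 9371 Q9371 (allL N9371 (tt N11345 (iv F133811)) (tt N11374 D31748) (tt N7632 (iv D21788)) (tt N11367 (iv F133948)) (tt N11375 D31749) (tt N7637 F93525) (tt N11373 (iv F134011)) (tt N7634 F93526) (tt N11275 (iv F132780)) (tt N11376 D31750))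
theorem Q9373 : ∀ i, i < 9373 → P i := stepQ 9372 Q9372 (allL N9372 (tt N11346 (iv F133814)) (tt N7648 F93527) (tt N11375 (iv F134022)) (tt N9372 F93528) (tt N7632 (iv D21789)) (tt N7655 (iv F204641)) (tt N10591 (iv F204602)) (tt N7635 F93530) (tt N11276 (iv F132784)) (tt N7650 F204598))
theorem Q9374 : ∀ i, i < 9374 → P i := stepQ 9373 Q9373 (allL N9373 (tt N10559 F204417) (tt N7649 F93531) (tt N11376 (iv F134025)) (tt N7633 F93532) (tt N7650 F204594) (tt N7638 F93533) (tt N10590 (iv F204603)) (tt N7636 F93534) (tt N11298 (iv F204638)) (tt N7632 (iv D21790)))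
theorem Q9375 : ∀ i, i < 9375 → P i := stepQ 9374 Q9374 (allL N9374 (tt N11377 D31753) (tt N7634 (iv D21791)) (tt N7650 F93535) (tt N11369 (iv F133960)) (tt N11376 (iv F204629)) (tt N7639 F93536) (tt N10570 (iv F127127)) (tt N11374 (iv F134021)) (tt N11278 (iv F132791)) (tt N11375 (iv F204627)))
theorem Q9376 : ∀ i, i < 9376 → P i := stepQ 9375 Q9375 (allL N9375 (tt N11348 (iv F133826)) (tt N11376 (iv F204628)) (tt N7635 F93537) (tt N11378 D31756) (tt N7634 (iv D21792)) (tt N7826 F93538) (tt N10571 (iv F127130)) (tt N11375 (iv F134024)) (tt N11279 (iv F132794)) (tt N11374 F204589))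
theorem Q9377 : ∀ i, i < 9377 → P i := stepQ 9376 Q9376 (allL N9376 (tt N10560 (iv F204508)) (tt N11375 (iv F204626)) (tt N7636 F93539) (tt N10541 (iv F204506)) (tt N11374 F204587) (tt N7640 F93540) (tt N10572 (iv F127133)) (tt N11376 (iv F134027)) (tt N11379 D31758) (tt N7634 (iv D21793)))
theorem Q9378 : ∀ i, i < 9378 → P i := stepQ 9377 Q9377 (allL N9377 (tt N10561 (iv F204511)) (tt N7647 (iv F204562)) (tt N11374 (iv F204566)) (tt N9377 F93542) (tt N7636 F93543) (tt N7652 (iv F204568)) (tt N10573 (iv F127138)) (tt N7650 (iv F204569)) (tt N11293 (iv F204571)) (tt N7635 (iv D21794)))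
theorem Q9379 : ∀ i, i < 9379 → P i := stepQ 9378 Q9378 (allL N9378 (tt N10550 F204408) (tt N7651 F93545) (tt N11379 (iv F134049)) (tt N10535 F204409) (tt N11293 F204595) (tt N7641 F93546) (tt N10574 (iv F127141)) (tt N11298 (iv F204637)) (tt N7636 (iv D21795)) (tt N11282 (iv F132802)))
theorem Q9380 : ∀ i, i < 9380 → P i := stepQ 9379 Q9379 (allL N9379 (tt N11380 D31760) (tt N7637 (iv D21796)) (tt N7652 F93547) (tt N11371 (iv F133974)) (tt N7827 (iv F204630)) (tt N11374 (iv F134020)) (tt N9379 F93549) (tt N7639 F93550) (tt N11283 (iv F132807)) (tt N7826 (iv F204631)))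
theorem Q9381 : ∀ i, i < 9381 → P i := stepQ 9380 Q9380 (allL N9380 (tt N10562 F204415) (tt N7826 F204695) (tt N7638 F93551) (tt N10543 F204416) (tt N7825 (iv F204765)) (tt N11376 (iv F134026)) (tt N9380 F93553) (tt N7640 F93554) (tt N11381 D31762) (tt N7637 (iv D21797)))
theorem Q9382 : ∀ i, i < 9382 → P i := stepQ 9381 Q9381 (allL N9381 (tt N10552 F204418) (tt N7653 F93555) (tt N11381 (iv F134063)) (tt N10536 F204419) (tt N7803 (iv F204788)) (tt N11298 F204711) (tt N9381 F93557) (tt N7641 F93558) (tt N7638 (iv D21798)) (tt N11285 (iv F132816)))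
theorem Q9383 : ∀ i, i < 9383 → P i := stepQ 9382 Q9382 (allL N9382 (tt N7639 (iv D21799)) (tt N11350 (iv F133854)) (tt N7654 F93559) (tt N11372 (iv F133988)) (tt N7828 F93560) (tt N11377 (iv F134037)) (tt N7642 F93561) (tt N11380 (iv F134057)) (tt N11286 (iv F132820)) (tt N11382 D31763))
theorem Q9384 : ∀ i, i < 9384 → P i := stepQ 9383 Q9383 (allL N9383 (tt N11382 (iv F134067)) (tt N7640 F93562) (tt N7655 F93563) (tt N10544 (iv F204514)) (tt N7824 (iv F204760)) (tt N11375 F204691) (tt N7643 F93565) (tt N7826 F204692) (tt N11383 D31764) (tt N7639 (iv D21800)))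
theorem Q9385 : ∀ i, i < 9385 → P i := stepQ 9384 Q9384 (allL N9384 (tt N10554 F204468) (tt N11383 (iv F134071)) (tt N7641 F93566) (tt N11384 D31765) (tt N7829 F93567) (tt N11379 (iv F134050)) (tt N7644 F93568) (tt N11381 (iv F134066)) (tt N7640 (iv D21801)) (tt N11288 (iv F132828)))
theorem Q9386 : ∀ i, i < 9386 → P i := stepQ 9385 Q9385 (allL N9385 (tt N7643 F93569) (tt N10564 (iv F204520)) (tt N7657 F93570) (tt N10545 (iv F204516)) (tt N7830 F93571) (tt N10581 (iv F127167)) (tt N11382 (iv F134070)) (tt N9385 F93572) (tt N11385 D31766) (tt N7642 (iv D21802)))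
theorem Q9387 : ∀ i, i < 9387 → P i := stepQ 9386 Q9386 (allL N9386 (tt N11385 (iv F134076)) (tt N7644 F93573) (tt N7658 F93574) (tt N11386 D31767) (tt N7831 F93575) (tt N10582 (iv F127172)) (tt N11383 (iv F134074)) (tt N9386 F93576) (tt N7643 (iv D21803)) (tt N11290 (iv F132837)))
theorem Q9388 : ∀ i, i < 9388 → P i := stepQ 9387 Q9387 (allL N9387 (tt N10444 F204198) (tt N11386 (iv F134080)) (tt N10412 F204199) (tt N7644 (iv D21804)) (tt N11387 D31768) (tt N10583 (iv F127174)) (tt N11384 (iv F134075)) (tt N9387 F93577) (tt N10419 F204200) (tt N11291 (iv F132839)))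
theorem Q9389 : ∀ i, i < 9389 → P i := stepQ 9388 Q9388 (allL N9388 (tt N7650 (iv D21813)) (tt N9388 F93609) (tt N11377 (iv F134036)) (tt N9388 F93610) (tt N10559 (iv F204635)) (tt N7654 F93611) (tt N10589 (iv F127213)) (tt N10561 F204591) (tt N11297 (iv F132873)) (tt N11346 (iv F204636)))
theorem Q9390 : ∀ i, i < 9390 → P i := stepQ 9389 Q9389 (allL N9389 (tt N7652 (iv D21820)) (tt N9389 F93631) (tt N11380 (iv F134054)) (tt N9389 F93632) (tt N7815 (iv F204632)) (tt N10561 F204590) (tt N9389 F93634) (tt N7654 F93635) (tt N11301 (iv F132897)) (tt N7814 (iv F204634)))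
theorem Q9391 : ∀ i, i < 9391 → P i := stepQ 9390 Q9390 (allL N9390 (tt N7655 F93646) (tt N9390 F93647) (tt N11382 (iv F134068)) (tt N9390 F93648) (tt N7812 (iv F204780)) (tt N11346 F204705) (tt N7657 F93650) (tt N7814 F204706) (tt N11388 D31795) (tt N7654 (iv D21823)))
theorem Q9392 : ∀ i, i < 9392 → P i := stepQ 9391 Q9391 (allL N9391 (tt N11388 (iv F134183)) (tt N7656 F93651) (tt N11383 (iv F134072)) (tt N11389 D31796) (tt N7788 (iv F204794)) (tt N11276 F204720) (tt N7658 F93653) (tt N7791 F204721) (tt N7655 (iv D21824)) (tt N11304 (iv F132915)))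
theorem Q9393 : ∀ i, i < 9393 → P i := stepQ 9392 Q9392 (allL N9392 (tt N9392 F93654) (tt N11389 (iv F134187)) (tt N11336 (iv F133581)) (tt N7656 (iv D21825)) (tt N7735 (iv F204860)) (tt N11104 F204805) (tt N7659 F93655) (tt N7738 F204806) (tt N9392 F93656) (tt N11305 (iv F132918)))
theorem Q9394 : ∀ i, i < 9394 → P i := stepQ 9393 Q9393 (allL N9393 (tt N7658 F93657) (tt N9393 F93658) (tt N11385 (iv F134077)) (tt N9749 F204249) (tt N7833 F93659) (tt N10600 (iv F127268)) (tt N11388 (iv F134186)) (tt N9393 F93660) (tt N7657 (iv D21826)) (tt N11306 (iv F132923)))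
theorem Q9395 : ∀ i, i < 9395 → P i := stepQ 9394 Q9394 (allL N9394 (tt N9749 (iv F204014)) (tt N7659 F93661) (tt N9975 F203703) (tt N7658 (iv D21827)) (tt N9739 F203704) (tt N10601 (iv F127271)) (tt N11389 (iv F134188)) (tt N9394 F93662) (tt N9394 F93663) (tt N11307 (iv F132926)))
theorem Q9396 : ∀ i, i < 9396 → P i := stepQ 9395 Q9395 (allL N9395 (tt N9395 F93664) (tt N9739 F203701) (tt N11339 (iv F133592)) (tt N7734 (iv F204932)) (tt N7659 (iv D21828)) (tt N9737 F203702) (tt N7735 F204913) (tt N9395 F93666) (tt N9395 F93667) (tt N11308 (iv F132930)))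
theorem Q9397 : ∀ i, i < 9397 → P i := stepQ 9396 Q9396 (allL N9396 (tt N7670 F93751) (tt N9723 (iv F205370)) (tt N7665 F93752) (tt N9845 (iv F205397)) (tt N7662 F93753) (tt N9396 F93754) (tt N9721 F205275) (tt N7697 F93755) (tt N9396 F93756) (tt N7660 (iv D21845)))
theorem Q9398 : ∀ i, i < 9398 → P i := stepQ 9397 Q9397 (allL N9397 (tt N7673 F93766) (tt N9722 (iv F205413)) (tt N7667 F93767) (tt N10634 F202150) (tt N9721 F205320) (tt N9397 F93768) (tt N7662 F93769) (tt N9732 F205321) (tt N9397 F93770) (tt N7661 (iv D21848)))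
theorem Q9399 : ∀ i, i < 9399 → P i := stepQ 9398 Q9398 (allL N9398 (tt N7680 F93808) (tt N9398 F93809) (tt N9836 (iv F205215)) (tt N7663 (iv D21857)) (tt N10935 (iv F131005)) (tt N9719 (iv F205165)) (tt N7664 F93810) (tt N9727 F205131) (tt N9398 F93811) (tt N11390 D31851))
theorem Q9400 : ∀ i, i < 9400 → P i := stepQ 9399 Q9399 (allL N9399 (tt N7681 F93812) (tt N9399 F93813) (tt N9721 (iv F205213)) (tt N11390 (iv F134451)) (tt N7667 F93814) (tt N9720 (iv F205217)) (tt N7665 F93815) (tt N9728 F205135) (tt N9399 F93816) (tt N7663 (iv D21858)))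
theorem Q9401 : ∀ i, i < 9401 → P i := stepQ 9400 Q9400 (allL N9400 (tt N7682 F93817) (tt N10120 (iv F205401)) (tt N7664 (iv D21859)) (tt N9835 (iv F205392)) (tt N10937 (iv F131013)) (tt N9400 F93818) (tt N9836 F205325) (tt N7704 F93819) (tt N9400 F93820) (tt N11391 D31853))
theorem Q9402 : ∀ i, i < 9402 → P i := stepQ 9401 Q9401 (allL N9401 (tt N7683 F93821) (tt N9401 F93822) (tt N11391 (iv F134458)) (tt N7665 F93823) (tt N10938 (iv F131019)) (tt N9401 F93824) (tt N11390 (iv F134452)) (tt N7705 F93825) (tt N11392 D31854) (tt N7664 (iv D21860)))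
theorem Q9403 : ∀ i, i < 9403 → P i := stepQ 9402 Q9402 (allL N9402 (tt N7684 F93826) (tt N9402 F93827) (tt N9732 (iv F205210)) (tt N10939 (iv F131023)) (tt N9728 F205132) (tt N9402 F93828) (tt N7706 F93829) (tt N7667 F93830) (tt N9402 F93831) (tt N7666 (iv D21861)))
theorem Q9404 : ∀ i, i < 9404 → P i := stepQ 9403 Q9403 (allL N9403 (tt N9721 (iv F205212)) (tt N9403 F93874) (tt N7681 F93875) (tt N9830 (iv F205238)) (tt N7673 F93876) (tt N9718 (iv F205234)) (tt N7670 F93877) (tt N9726 F205153) (tt N9403 F93878) (tt N7668 (iv D21871)))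
theorem Q9405 : ∀ i, i < 9405 → P i := stepQ 9404 Q9404 (allL N9404 (tt N9835 (iv F205391)) (tt N11393 D31873) (tt N7669 (iv D21872)) (tt N7682 F93879) (tt N11394 D31874) (tt N9404 F93880) (tt N9825 F205338) (tt N7713 F93881) (tt N9824 (iv F205432)) (tt N11395 D31875))
theorem Q9406 : ∀ i, i < 9406 → P i := stepQ 9405 Q9405 (allL N9405 (tt N9842 (iv F205394)) (tt N9405 F93882) (tt N11394 (iv F134548)) (tt N7674 F93883) (tt N7669 (iv D21873)) (tt N11396 D31876) (tt N9829 F205339) (tt N7714 F93884) (tt N9828 (iv F205434)) (tt N11397 D31877))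
theorem Q9407 : ∀ i, i < 9407 → P i := stepQ 9406 Q9406 (allL N9406 (tt N9845 (iv F205396)) (tt N9406 F93885) (tt N11395 (iv F134550)) (tt N7670 F93886) (tt N11397 (iv F134560)) (tt N9406 F93887) (tt N9830 F205340) (tt N7715 F93888) (tt N11398 D31878) (tt N7669 (iv D21874)))
theorem Q9408 : ∀ i, i < 9408 → P i := stepQ 9407 Q9407 (allL N9407 (tt N9731 (iv F205205)) (tt N9407 F93889) (tt N7852 F201893) (tt N7671 (iv D21875)) (tt N9889 (iv F205235)) (tt N9407 F93890) (tt N7716 F93891) (tt N7672 F93892) (tt N7835 F201894) (tt N11399 D31880))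
theorem Q9409 : ∀ i, i < 9409 → P i := stepQ 9408 Q9408 (allL N9408 (tt N9732 (iv F205209)) (tt N9408 F93894) (tt N7684 F93895) (tt N11399 (iv F134571)) (tt N9726 F205152) (tt N9408 F93896) (tt N7717 F93897) (tt N7673 F93898) (tt N9408 F93899) (tt N7671 (iv D21876)))
theorem Q9410 : ∀ i, i < 9410 → P i := stepQ 9409 Q9409 (allL N9409 (tt N9843 (iv F205416)) (tt N9409 F93900) (tt N10649 F201783) (tt N9829 F205342) (tt N7672 (iv D21877)) (tt N10645 (iv F205445)) (tt N7674 F93901) (tt N9889 F205343) (tt N7970 F93902) (tt N11400 D31882))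
theorem Q9411 : ∀ i, i < 9411 → P i := stepQ 9410 Q9410 (allL N9410 (tt N10634 F201911) (tt N9410 F93903) (tt N10952 (iv F131073)) (tt N7673 F93904) (tt N11400 (iv F134579)) (tt N9410 F93905) (tt N7675 F93906) (tt N11399 (iv F134574)) (tt N10648 (iv F202132)) (tt N7672 (iv D21878)))
theorem Q9412 : ∀ i, i < 9412 → P i := stepQ 9411 Q9411 (allL N9411 (tt N9810 F202693) (tt N9411 F93907) (tt N10953 (iv F131077)) (tt N11396 (iv F134555)) (tt N7676 F93908) (tt N7674 (iv D21879)) (tt N11401 D31884) (tt N7720 F93909) (tt N7971 F93910) (tt N11402 D31885))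
theorem Q9413 : ∀ i, i < 9413 → P i := stepQ 9412 Q9412 (allL N9412 (tt N10633 F202694) (tt N9412 F93911) (tt N10954 (iv F131081)) (tt N11397 (iv F134559)) (tt N7675 F93912) (tt N11402 (iv F134591)) (tt N11400 (iv F134580)) (tt N7721 F93913) (tt N10646 F202695) (tt N7674 (iv D21880)))
theorem Q9414 : ∀ i, i < 9414 → P i := stepQ 9413 Q9413 (allL N9413 (tt N9812 F202846) (tt N9413 F93919) (tt N10955 (iv F131088)) (tt N9413 F93920) (tt N11401 (iv F134587)) (tt N9413 F93921) (tt N7676 (iv D21882)) (tt N11403 D31887) (tt N7972 F93922) (tt N11398 (iv F206463)))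
theorem Q9415 : ∀ i, i < 9415 → P i := stepQ 9414 Q9414 (allL N9414 (tt N9813 F202847) (tt N9414 F93923) (tt N10956 (iv F131091)) (tt N9414 F93924) (tt N11402 (iv F134590)) (tt N7677 F93925) (tt N11398 (iv F206462)) (tt N7723 F93926) (tt N9830 F202848) (tt N7676 (iv D21883)))
theorem Q9416 : ∀ i, i < 9416 → P i := stepQ 9415 Q9415 (allL N9415 (tt N9719 (iv F205164)) (tt N7686 F93942) (tt N9826 (iv F205166)) (tt N7678 (iv D21887)) (tt N11404 D31895) (tt N7680 F93943) (tt N9415 F93944) (tt N9724 F205091) (tt N9415 F93945) (tt N11405 D31896))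
theorem Q9417 : ∀ i, i < 9417 → P i := stepQ 9416 Q9416 (allL N9416 (tt N9720 (iv F205216)) (tt N7687 F93946) (tt N9718 (iv F205233)) (tt N11405 (iv F134638)) (tt N9416 F93947) (tt N7681 F93948) (tt N9416 F93949) (tt N9725 F205149) (tt N9416 F93950) (tt N7678 (iv D21888)))
theorem Q9418 : ∀ i, i < 9418 → P i := stepQ 9417 Q9417 (allL N9417 (tt N9727 (iv F205056)) (tt N7688 F93951) (tt N9882 (iv F205081)) (tt N7679 (iv D21889)) (tt N10961 (iv F131114)) (tt N9724 (iv F205026)) (tt N7727 F93952) (tt N7680 F93953) (tt N9417 F93954) (tt N11406 D31898))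
theorem Q9419 : ∀ i, i < 9419 → P i := stepQ 9418 Q9418 (allL N9418 (tt N9728 (iv F205060)) (tt N7689 F93955) (tt N9726 (iv F205079)) (tt N11406 (iv F134645)) (tt N7684 F93956) (tt N9725 (iv F205074)) (tt N7728 F93957) (tt N7681 F93958) (tt N9418 F93959) (tt N7679 (iv D21890)))
theorem Q9420 : ∀ i, i < 9420 → P i := stepQ 9419 Q9419 (allL N9419 (tt N9836 (iv F205214)) (tt N11407 D31899) (tt N7680 (iv D21891)) (tt N9825 (iv F205237)) (tt N10963 (iv F131122)) (tt N9826 (iv F205167)) (tt N7682 F93960) (tt N9882 F205157) (tt N9419 F93961) (tt N11408 D31900))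
theorem Q9421 : ∀ i, i < 9421 → P i := stepQ 9420 Q9420 (allL N9420 (tt N11390 (iv F134449)) (tt N7691 F93962) (tt N11408 (iv F134651)) (tt N7681 F93963) (tt N10964 (iv F131127)) (tt N11405 (iv F134639)) (tt N7683 F93964) (tt N11406 (iv F134647)) (tt N11409 D31901) (tt N7680 (iv D21892)))
theorem Q9422 : ∀ i, i < 9422 → P i := stepQ 9421 Q9421 (allL N9421 (tt N11410 D31902) (tt N7682 (iv D21893)) (tt N7692 F93965) (tt N11393 (iv F134545)) (tt N10965 (iv F131130)) (tt N9421 F93966) (tt N11407 (iv F134649)) (tt N7731 F93967) (tt N9421 F93968) (tt N11411 D31903))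
theorem Q9423 : ∀ i, i < 9423 → P i := stepQ 9422 Q9422 (allL N9422 (tt N11391 (iv F134457)) (tt N11411 (iv F134661)) (tt N7683 F93969) (tt N11395 (iv F134551)) (tt N10966 (iv F131134)) (tt N9422 F93970) (tt N11408 (iv F134652)) (tt N7732 F93971) (tt N11412 D31904) (tt N7682 (iv D21894)))
theorem Q9424 : ∀ i, i < 9424 → P i := stepQ 9423 Q9423 (allL N9423 (tt N11392 (iv F134461)) (tt N7694 F93972) (tt N11412 (iv F134665)) (tt N9423 F93973) (tt N10967 (iv F131137)) (tt N9423 F93974) (tt N11409 (iv F134655)) (tt N7733 F93975) (tt N7683 (iv D21895)) (tt N9423 F93976))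
theorem Q9425 : ∀ i, i < 9425 → P i := stepQ 9424 Q9424 (allL N9424 (tt N9424 F93983) (tt N9724 (iv F205025)) (tt N11413 D31907) (tt N7685 (iv D21897)) (tt N11414 D31908) (tt N7688 F93984) (tt N9737 F204986) (tt N7686 F93985) (tt N9424 F93986) (tt N11415 D31909))
theorem Q9426 : ∀ i, i < 9426 → P i := stepQ 9425 Q9425 (allL N9425 (tt N9425 F93987) (tt N9725 F205089) (tt N9425 F93988) (tt N11415 (iv F134691)) (tt N9425 F93989) (tt N7689 F93990) (tt N9738 F205090) (tt N7687 F93991) (tt N9425 F93992) (tt N7685 (iv D21898)))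
theorem Q9427 : ∀ i, i < 9427 → P i := stepQ 9426 Q9426 (allL N9426 (tt N9426 F93993) (tt N11416 D31910) (tt N7686 (iv D21899)) (tt N9426 F93994) (tt N11417 D31911) (tt N7690 F93995) (tt N9426 F93996) (tt N11413 (iv F134684)) (tt N9426 F93997) (tt N11418 D31912))
theorem Q9428 : ∀ i, i < 9428 → P i := stepQ 9427 Q9427 (allL N9427 (tt N9427 F93998) (tt N11404 (iv F134633)) (tt N11417 (iv F134699)) (tt N9427 F93999) (tt N7686 (iv D21900)) (tt N10970 (iv F131157)) (tt N9427 F94000) (tt N11414 (iv F134688)) (tt N9427 F94001) (tt N11419 D31913))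
theorem Q9429 : ∀ i, i < 9429 → P i := stepQ 9428 Q9428 (allL N9428 (tt N9428 F94002) (tt N11405 (iv F134637)) (tt N11418 (iv F134703)) (tt N7687 F94003) (tt N11419 (iv F134709)) (tt N7691 F94004) (tt N9428 F94005) (tt N11415 (iv F134693)) (tt N11420 D31914) (tt N7686 (iv D21901)))
theorem Q9430 : ∀ i, i < 9430 → P i := stepQ 9429 Q9429 (allL N9429 (tt N9429 F94006) (tt N11421 D31915) (tt N7688 (iv D21902)) (tt N9429 F94007) (tt N10972 (iv F131163)) (tt N11413 (iv F134683)) (tt N7740 F94008) (tt N7690 F94009) (tt N9429 F94010) (tt N11422 D31916))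
theorem Q9431 : ∀ i, i < 9431 → P i := stepQ 9430 Q9430 (allL N9430 (tt N9430 F94011) (tt N11406 (iv F134644)) (tt N11422 (iv F134721)) (tt N7689 F94012) (tt N10973 (iv F131169)) (tt N11415 (iv F134692)) (tt N7741 F94013) (tt N7691 F94014) (tt N11423 D31917) (tt N7688 (iv D21903)))
theorem Q9432 : ∀ i, i < 9432 → P i := stepQ 9431 Q9431 (allL N9431 (tt N11424 D31918) (tt N7690 (iv D21904)) (tt N11407 (iv F134648)) (tt N9431 F94015) (tt N10974 (iv F131172)) (tt N11416 (iv F134695)) (tt N7692 F94016) (tt N11421 (iv F134718)) (tt N9431 F94017) (tt N11425 D31919))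
theorem Q9433 : ∀ i, i < 9433 → P i := stepQ 9432 Q9432 (allL N9432 (tt N9432 F94018) (tt N11425 (iv F134734)) (tt N7691 F94019) (tt N9432 F94020) (tt N10975 (iv F131177)) (tt N11418 (iv F134705)) (tt N7693 F94021) (tt N11422 (iv F134724)) (tt N11426 D31920) (tt N7690 (iv D21905)))
theorem Q9434 : ∀ i, i < 9434 → P i := stepQ 9433 Q9433 (allL N9433 (tt N9433 F94022) (tt N11409 (iv F134653)) (tt N11426 (iv F134738)) (tt N9433 F94023) (tt N10976 (iv F131180)) (tt N11420 (iv F134713)) (tt N7694 F94024) (tt N11423 (iv F134728)) (tt N7691 (iv D21906)) (tt N9433 F94025))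
theorem Q9435 : ∀ i, i < 9435 → P i := stepQ 9434 Q9434 (allL N9434 (tt N7692 (iv D21907)) (tt N9434 F94026) (tt N11410 (iv F134657)) (tt N9434 F94027) (tt N10977 (iv F131184)) (tt N9434 F94028) (tt N11424 (iv F134732)) (tt N7745 F94029) (tt N9434 F94030) (tt N11427 D31921))
theorem Q9436 : ∀ i, i < 9436 → P i := stepQ 9435 Q9435 (allL N9435 (tt N11427 (iv F134741)) (tt N7693 F94031) (tt N11411 (iv F134662)) (tt N9435 F94032) (tt N10978 (iv F131188)) (tt N9435 F94033) (tt N11425 (iv F134736)) (tt N7746 F94034) (tt N11428 D31922) (tt N7692 (iv D21908)))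
theorem Q9437 : ∀ i, i < 9437 → P i := stepQ 9436 Q9436 (allL N9436 (tt N9436 F94035) (tt N11428 (iv F134746)) (tt N7694 F94036) (tt N11429 D31923) (tt N10979 (iv F131192)) (tt N9436 F94037) (tt N11426 (iv F134739)) (tt N7747 F94038) (tt N7693 (iv D21909)) (tt N9436 F94039))
theorem Q9438 : ∀ i, i < 9438 → P i := stepQ 9437 Q9437 (allL N9437 (tt N7712 F94168) (tt N9736 (iv F205183)) (tt N7703 F94169) (tt N9914 (iv F205197)) (tt N7699 F94170) (tt N9758 F205106) (tt N7697 F94171) (tt N9733 F205107) (tt N9437 F94172) (tt N7695 (iv D21938)))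
theorem Q9439 : ∀ i, i < 9439 → P i := stepQ 9438 Q9438 (allL N9438 (tt N7713 F94173) (tt N10119 (iv F205399)) (tt N7696 (iv D21939)) (tt N7704 F94174) (tt N10683 F203630) (tt N9438 F94175) (tt N9899 F205276) (tt N9835 (iv F205393)) (tt N9834 (iv F205387)) (tt N11430 D31975))
theorem Q9440 : ∀ i, i < 9440 → P i := stepQ 9439 Q9439 (allL N9439 (tt N7715 F94178) (tt N9848 (iv F205374)) (tt N11430 (iv F134973)) (tt N7697 F94179) (tt N10684 F203632) (tt N9439 F94180) (tt N9914 F205278) (tt N9845 (iv F205398)) (tt N11431 D31978) (tt N7696 (iv D21941)))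
theorem Q9441 : ∀ i, i < 9441 → P i := stepQ 9440 Q9440 (allL N9440 (tt N7717 F94185) (tt N9734 (iv F205201)) (tt N7706 F94186) (tt N10685 F202593) (tt N9733 F205121) (tt N7754 F94187) (tt N9732 (iv F205211)) (tt N7699 F94188) (tt N9440 F94189) (tt N7698 (iv D21943)))
theorem Q9442 : ∀ i, i < 9442 → P i := stepQ 9441 Q9441 (allL N9441 (tt N7725 F94228) (tt N9441 F94229) (tt N10001 (iv F205047)) (tt N7700 (iv D21954)) (tt N11432 D31995) (tt N7702 F94230) (tt N9441 F94231) (tt N9747 F204996) (tt N9441 F94232) (tt N11433 D31996))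
theorem Q9443 : ∀ i, i < 9443 → P i := stepQ 9442 Q9442 (allL N9442 (tt N7726 F94233) (tt N9442 F94234) (tt N9758 (iv F205042)) (tt N11433 (iv F135055)) (tt N7757 F94235) (tt N7703 F94236) (tt N9442 F94237) (tt N9748 F204997) (tt N9442 F94238) (tt N7700 (iv D21955)))
theorem Q9444 : ∀ i, i < 9444 → P i := stepQ 9443 Q9443 (allL N9443 (tt N7727 F94239) (tt N9443 F94240) (tt N9900 (iv F205055)) (tt N7701 (iv D21956)) (tt N11050 (iv F131640)) (tt N9747 F205003) (tt N9727 (iv F205057)) (tt N7702 F94241) (tt N9443 F94242) (tt N11434 D31998))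
theorem Q9445 : ∀ i, i < 9445 → P i := stepQ 9444 Q9444 (allL N9444 (tt N7728 F94243) (tt N9444 F94244) (tt N9733 (iv F205053)) (tt N11434 (iv F135063)) (tt N7706 F94245) (tt N9748 F205006) (tt N9728 (iv F205061)) (tt N7703 F94246) (tt N9444 F94247) (tt N7701 (iv D21957)))
theorem Q9446 : ∀ i, i < 9446 → P i := stepQ 9445 Q9445 (allL N9445 (tt N7729 F94248) (tt N10265 (iv F205198)) (tt N7702 (iv D21958)) (tt N9899 (iv F205194)) (tt N11052 (iv F131648)) (tt N10001 F205108) (tt N7704 F94249) (tt N9900 F205109) (tt N9445 F94250) (tt N11435 D32000))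
theorem Q9447 : ∀ i, i < 9447 → P i := stepQ 9446 Q9446 (allL N9446 (tt N7730 F94251) (tt N9446 F94252) (tt N11435 (iv F135069)) (tt N7703 F94253) (tt N11053 (iv F131654)) (tt N11433 (iv F135056)) (tt N7705 F94254) (tt N11434 (iv F135064)) (tt N11436 D32001) (tt N7702 (iv D21959)))
theorem Q9448 : ∀ i, i < 9448 → P i := stepQ 9447 Q9447 (allL N9447 (tt N11437 D32002) (tt N7704 (iv D21960)) (tt N9447 F94255) (tt N10119 (iv F205400)) (tt N11054 (iv F131657)) (tt N9447 F94256) (tt N10265 F205287) (tt N10120 (iv F205402)) (tt N9447 F94257) (tt N11438 D32003))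
theorem Q9449 : ∀ i, i < 9449 → P i := stepQ 9448 Q9448 (allL N9448 (tt N7732 F94258) (tt N11438 (iv F135080)) (tt N7705 F94259) (tt N11430 (iv F134974)) (tt N11055 (iv F131661)) (tt N9448 F94260) (tt N11435 (iv F135070)) (tt N11391 (iv F134460)) (tt N11439 D32004) (tt N7704 (iv D21961)))
theorem Q9450 : ∀ i, i < 9450 → P i := stepQ 9449 Q9449 (allL N9449 (tt N7733 F94261) (tt N9449 F94262) (tt N11439 (iv F135084)) (tt N9449 F94263) (tt N11056 (iv F131664)) (tt N9449 F94264) (tt N11436 (iv F135074)) (tt N11392 (iv F134465)) (tt N7705 (iv D21962)) (tt N9449 F94265))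
theorem Q9451 : ∀ i, i < 9451 → P i := stepQ 9450 Q9450 (allL N9450 (tt N9834 (iv F205386)) (tt N11440 D32014) (tt N7707 (iv D21968)) (tt N9450 F94289) (tt N11441 D32015) (tt N9450 F94290) (tt N9880 F205335) (tt N9824 (iv F205431)) (tt N7713 F94291) (tt N11442 D32016))
theorem Q9452 : ∀ i, i < 9452 → P i := stepQ 9451 Q9451 (allL N9451 (tt N9841 (iv F205388)) (tt N9451 F94292) (tt N11441 (iv F135130)) (tt N7977 F94293) (tt N7707 (iv D21969)) (tt N11443 D32017) (tt N9887 F205336) (tt N9828 (iv F205433)) (tt N7714 F94294) (tt N11444 D32018))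
theorem Q9453 : ∀ i, i < 9453 → P i := stepQ 9452 Q9452 (allL N9452 (tt N9811 (iv F205390)) (tt N9452 F94295) (tt N11442 (iv F135132)) (tt N7708 F94296) (tt N11444 (iv F135141)) (tt N9452 F94297) (tt N7985 F205337) (tt N7972 (iv F205435)) (tt N11403 (iv F205441)) (tt N7707 (iv D21970)))
theorem Q9454 : ∀ i, i < 9454 → P i := stepQ 9453 Q9453 (allL N9453 (tt N9758 (iv F205041)) (tt N9453 F94311) (tt N7726 F94312) (tt N9987 (iv F205072)) (tt N7767 F94313) (tt N7712 F94314) (tt N9453 F94315) (tt N9745 F205010) (tt N9453 F94316) (tt N7709 (iv D21974)))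
theorem Q9455 : ∀ i, i < 9455 → P i := stepQ 9454 Q9454 (allL N9454 (tt N9733 (iv F205052)) (tt N9454 F94319) (tt N7728 F94320) (tt N9891 (iv F205076)) (tt N7717 F94321) (tt N9745 F205016) (tt N9726 (iv F205080)) (tt N7712 F94322) (tt N9454 F94323) (tt N7710 (iv D21976)))
theorem Q9456 : ∀ i, i < 9456 → P i := stepQ 9455 Q9455 (allL N9455 (tt N9899 (iv F205193)) (tt N11445 D32029) (tt N7711 (iv D21977)) (tt N7729 F94324) (tt N11446 D32030) (tt N9972 F205142) (tt N7713 F94325) (tt N9881 F205143) (tt N9880 (iv F205230)) (tt N11447 D32031))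
theorem Q9457 : ∀ i, i < 9457 → P i := stepQ 9456 Q9456 (allL N9456 (tt N9909 (iv F205195)) (tt N9456 F94326) (tt N11446 (iv F135181)) (tt N7718 F94327) (tt N7711 (iv D21978)) (tt N11448 D32032) (tt N7714 F94328) (tt N9888 F205144) (tt N9887 (iv F205231)) (tt N11449 D32033))
theorem Q9458 : ∀ i, i < 9458 → P i := stepQ 9457 Q9457 (allL N9457 (tt N9914 (iv F205196)) (tt N9457 F94329) (tt N11447 (iv F135183)) (tt N7712 F94330) (tt N11449 (iv F135190)) (tt N9987 F205145) (tt N7715 F94331) (tt N9891 F205146) (tt N11450 D32034) (tt N7711 (iv D21979)))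
theorem Q9459 : ∀ i, i < 9459 → P i := stepQ 9458 Q9458 (allL N9458 (tt N11451 D32035) (tt N7713 (iv D21980)) (tt N9458 F94332) (tt N7731 F94333) (tt N11452 D32036) (tt N9458 F94334) (tt N11445 (iv F135180)) (tt N11393 (iv F134547)) (tt N11440 (iv F135129)) (tt N11453 D32037))
theorem Q9460 : ∀ i, i < 9460 → P i := stepQ 9459 Q9459 (allL N9459 (tt N10683 F203537) (tt N11452 (iv F135198)) (tt N7714 F94335) (tt N11075 (iv F131709)) (tt N7713 (iv D21981)) (tt N11454 D32038) (tt N11446 (iv F135182)) (tt N11394 (iv F134549)) (tt N11441 (iv F135131)) (tt N11455 D32039))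
theorem Q9461 : ∀ i, i < 9461 → P i := stepQ 9460 Q9460 (allL N9460 (tt N11430 (iv F134972)) (tt N11453 (iv F135200)) (tt N7715 F94336) (tt N7732 F94337) (tt N11455 (iv F135207)) (tt N9460 F94338) (tt N11447 (iv F135185)) (tt N11395 (iv F134553)) (tt N11456 D32040) (tt N7713 (iv D21982)))
theorem Q9462 : ∀ i, i < 9462 → P i := stepQ 9461 Q9461 (allL N9461 (tt N9860 F203538) (tt N9461 F94339) (tt N11454 (iv F135204)) (tt N7720 F94340) (tt N9461 F94341) (tt N7714 (iv D21983)) (tt N11457 D32041) (tt N11396 (iv F134557)) (tt N11443 (iv F135138)) (tt N11458 D32042))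
theorem Q9463 : ∀ i, i < 9463 → P i := stepQ 9462 Q9462 (allL N9462 (tt N10684 F203539) (tt N9462 F94342) (tt N11455 (iv F135206)) (tt N7721 F94343) (tt N7715 F94344) (tt N11458 (iv F135216)) (tt N11449 (iv F135191)) (tt N11397 (iv F134561)) (tt N11459 D32043) (tt N7714 (iv D21984)))
theorem Q9464 : ∀ i, i < 9464 → P i := stepQ 9463 Q9463 (allL N9463 (tt N11431 (iv F134982)) (tt N9463 F94345) (tt N11456 (iv F135208)) (tt N9463 F94346) (tt N11459 (iv F135218)) (tt N9463 F94347) (tt N11450 (iv F135194)) (tt N11398 (iv F134565)) (tt N7715 (iv D21985)) (tt N11403 (iv F205442)))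
theorem Q9465 : ∀ i, i < 9465 → P i := stepQ 9464 Q9464 (allL N9464 (tt N9910 (iv F205203)) (tt N9464 F94348) (tt N10710 F202497) (tt N9888 F205150) (tt N7716 (iv D21986)) (tt N11460 D32044) (tt N9889 (iv F205236)) (tt N7718 F94349) (tt N7982 F94350) (tt N11461 D32045))
theorem Q9466 : ∀ i, i < 9466 → P i := stepQ 9465 Q9465 (allL N9465 (tt N10685 F202585) (tt N9465 F94351) (tt N11080 (iv F131718)) (tt N7717 F94352) (tt N11461 (iv F135224)) (tt N7780 F94353) (tt N11399 (iv F134573)) (tt N7719 F94354) (tt N10708 F202586) (tt N7716 (iv D21987)))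
theorem Q9467 : ∀ i, i < 9467 → P i := stepQ 9466 Q9466 (allL N9466 (tt N10681 F203443) (tt N9466 F94355) (tt N11081 (iv F131722)) (tt N11448 (iv F135187)) (tt N7781 F94356) (tt N7718 (iv D21988)) (tt N11462 D32047) (tt N11460 (iv F135221)) (tt N7983 F94357) (tt N11463 D32048))
theorem Q9468 : ∀ i, i < 9468 → P i := stepQ 9467 Q9467 (allL N9467 (tt N10682 F203445) (tt N9467 F94358) (tt N11082 (iv F131725)) (tt N11449 (iv F135189)) (tt N7719 F94359) (tt N11463 (iv F135237)) (tt N7721 F94360) (tt N11461 (iv F135225)) (tt N10706 F203446) (tt N7718 (iv D21989)))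
theorem Q9469 : ∀ i, i < 9469 → P i := stepQ 9468 Q9468 (allL N9468 (tt N9859 F203540) (tt N9468 F94366) (tt N11083 (iv F131732)) (tt N11457 (iv F135211)) (tt N7722 F94367) (tt N11462 (iv F135233)) (tt N7720 (iv D21991)) (tt N11464 D32050) (tt N7984 F94368) (tt N11465 D32051))
theorem Q9470 : ∀ i, i < 9470 → P i := stepQ 9469 Q9469 (allL N9469 (tt N9861 F203541) (tt N9469 F94369) (tt N11084 (iv F131735)) (tt N11458 (iv F135214)) (tt N7723 F94370) (tt N7721 F94371) (tt N11465 (iv F135247)) (tt N11402 (iv F134592)) (tt N9890 F203542) (tt N7720 (iv D21992)))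
theorem Q9471 : ∀ i, i < 9471 → P i := stepQ 9470 Q9470 (allL N9470 (tt N9862 F203681) (tt N9470 F94375) (tt N11085 (iv F131741)) (tt N9470 F94376) (tt N11464 (iv F135243)) (tt N7785 F94377) (tt N11403 (iv F134600)) (tt N7722 (iv D21994)) (tt N7985 F94378) (tt N11450 (iv F206457)))
theorem Q9472 : ∀ i, i < 9472 → P i := stepQ 9471 Q9471 (allL N9471 (tt N9863 F203682) (tt N9471 F94379) (tt N11086 (iv F131744)) (tt N9471 F94380) (tt N11465 (iv F135246)) (tt N7786 F94381) (tt N7723 F94382) (tt N11450 (iv F206456)) (tt N9891 F203683) (tt N7722 (iv D21995)))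
theorem Q9473 : ∀ i, i < 9473 → P i := stepQ 9472 Q9472 (allL N9472 (tt N9747 (iv F204958)) (tt N7735 F94395) (tt N9973 (iv F204980)) (tt N7724 (iv D21999)) (tt N11389 (iv F204795)) (tt N7727 F94396) (tt N9739 (iv F204934)) (tt N7725 F94397) (tt N9472 F94398) (tt N11466 D32062))
theorem Q9474 : ∀ i, i < 9474 → P i := stepQ 9473 Q9473 (allL N9473 (tt N9748 (iv F204960)) (tt N7736 F94399) (tt N9745 (iv F204978)) (tt N11466 (iv F135288)) (tt N7789 F94400) (tt N7728 F94401) (tt N9740 (iv F204975)) (tt N7726 F94402) (tt N9473 F94403) (tt N7724 (iv D22000)))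
theorem Q9475 : ∀ i, i < 9475 → P i := stepQ 9474 Q9474 (allL N9474 (tt N10001 (iv F205046)) (tt N11467 D32063) (tt N7725 (iv D22001)) (tt N9972 (iv F205070)) (tt N11468 D32064) (tt N7729 F94404) (tt N9474 F94405) (tt N9973 F205018) (tt N9474 F94406) (tt N11469 D32065))
theorem Q9476 : ∀ i, i < 9476 → P i := stepQ 9475 Q9475 (allL N9475 (tt N11432 (iv F135048)) (tt N7738 F94407) (tt N11468 (iv F135295)) (tt N7791 F94408) (tt N7725 (iv D22002)) (tt N11091 (iv F131767)) (tt N9475 F94409) (tt N11389 (iv F204797)) (tt N9475 F94410) (tt N11470 D32066))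
theorem Q9477 : ∀ i, i < 9477 → P i := stepQ 9476 Q9476 (allL N9476 (tt N11433 (iv F135053)) (tt N7739 F94411) (tt N11469 (iv F135298)) (tt N7726 F94412) (tt N11470 (iv F135303)) (tt N7730 F94413) (tt N9476 F94414) (tt N11466 (iv F135290)) (tt N11471 D32067) (tt N7725 (iv D22003)))
theorem Q9478 : ∀ i, i < 9478 → P i := stepQ 9477 Q9477 (allL N9477 (tt N9900 (iv F205054)) (tt N11472 D32068) (tt N7727 (iv D22004)) (tt N9881 (iv F205075)) (tt N11093 (iv F131772)) (tt N9973 F205017) (tt N9882 (iv F205082)) (tt N7729 F94415) (tt N9477 F94416) (tt N11473 D32069))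
theorem Q9479 : ∀ i, i < 9479 → P i := stepQ 9478 Q9478 (allL N9478 (tt N11434 (iv F135061)) (tt N7741 F94417) (tt N11473 (iv F135313)) (tt N7728 F94418) (tt N11094 (iv F131777)) (tt N11466 (iv F135289)) (tt N11406 (iv F134646)) (tt N7730 F94419) (tt N11474 D32070) (tt N7727 (iv D22005)))
theorem Q9480 : ∀ i, i < 9480 → P i := stepQ 9479 Q9479 (allL N9479 (tt N11475 D32071) (tt N7729 (iv D22006)) (tt N7742 F94420) (tt N11445 (iv F135179)) (tt N11095 (iv F131780)) (tt N11467 (iv F135292)) (tt N7731 F94421) (tt N11472 (iv F135311)) (tt N9479 F94422) (tt N11476 D32072))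
theorem Q9481 : ∀ i, i < 9481 → P i := stepQ 9480 Q9480 (allL N9480 (tt N11435 (iv F135068)) (tt N11476 (iv F135322)) (tt N7730 F94423) (tt N11447 (iv F135184)) (tt N11096 (iv F131784)) (tt N11469 (iv F135299)) (tt N7732 F94424) (tt N11473 (iv F135314)) (tt N11477 D32073) (tt N7729 (iv D22007)))
theorem Q9482 : ∀ i, i < 9482 → P i := stepQ 9481 Q9481 (allL N9481 (tt N11436 (iv F135071)) (tt N7744 F94425) (tt N11477 (iv F135325)) (tt N9481 F94426) (tt N11097 (iv F131787)) (tt N11471 (iv F135307)) (tt N7733 F94427) (tt N11474 (iv F135317)) (tt N7730 (iv D22008)) (tt N9481 F94428))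
theorem Q9483 : ∀ i, i < 9483 → P i := stepQ 9482 Q9482 (allL N9482 (tt N7731 (iv D22009)) (tt N11437 (iv F135076)) (tt N7745 F94429) (tt N11451 (iv F135196)) (tt N11098 (iv F131791)) (tt N9482 F94430) (tt N11475 (iv F135320)) (tt N11410 (iv F134659)) (tt N9482 F94431) (tt N11478 D32074))
theorem Q9484 : ∀ i, i < 9484 → P i := stepQ 9483 Q9483 (allL N9483 (tt N11478 (iv F135328)) (tt N7732 F94432) (tt N7746 F94433) (tt N11453 (iv F135202)) (tt N11099 (iv F131795)) (tt N9483 F94434) (tt N11476 (iv F135324)) (tt N11411 (iv F134664)) (tt N11479 D32075) (tt N7731 (iv D22010)))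
theorem Q9485 : ∀ i, i < 9485 → P i := stepQ 9484 Q9484 (allL N9484 (tt N11439 (iv F135083)) (tt N11479 (iv F135331)) (tt N7733 F94435) (tt N11480 D32076) (tt N11100 (iv F131797)) (tt N9484 F94436) (tt N11477 (iv F135326)) (tt N11412 (iv F134667)) (tt N7732 (iv D22011)) (tt N9484 F94437))
theorem Q9486 : ∀ i, i < 9486 → P i := stepQ 9485 Q9485 (allL N9485 (tt N9485 F94442) (tt N9740 F204984) (tt N9485 F94443) (tt N11308 F204985) (tt N7801 F94444) (tt N9738 (iv F205024)) (tt N7736 F94445) (tt N9485 F94446) (tt N9485 F94447) (tt N7734 (iv D22013)))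
theorem Q9487 : ∀ i, i < 9487 → P i := stepQ 9486 Q9486 (allL N9486 (tt N9486 F94448) (tt N11481 D32080) (tt N7735 (iv D22014)) (tt N9486 F94449) (tt N11336 F204914) (tt N7740 F94450) (tt N11339 (iv F204935)) (tt N7737 F94451) (tt N9486 F94452) (tt N11482 D32082))
theorem Q9488 : ∀ i, i < 9488 → P i := stepQ 9487 Q9487 (allL N9487 (tt N9487 F94457) (tt N11466 (iv F135287)) (tt N11482 (iv F135361)) (tt N7736 F94458) (tt N11305 F204915) (tt N7741 F94459) (tt N11308 (iv F204936)) (tt N7739 F94460) (tt N11483 D32084) (tt N7735 (iv D22016)))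
theorem Q9489 : ∀ i, i < 9489 → P i := stepQ 9488 Q9488 (allL N9488 (tt N11484 D32085) (tt N7737 (iv D22017)) (tt N11467 (iv F135291)) (tt N9488 F94461) (tt N11485 D32086) (tt N7742 F94462) (tt N9488 F94463) (tt N11481 (iv F135354)) (tt N9488 F94464) (tt N11486 D32087))
theorem Q9490 : ∀ i, i < 9490 → P i := stepQ 9489 Q9489 (allL N9489 (tt N9489 F94465) (tt N11485 (iv F135379)) (tt N7738 F94466) (tt N11333 (iv F204870)) (tt N7737 (iv D22018)) (tt N11107 (iv F131822)) (tt N9489 F94467) (tt N11336 (iv F204859)) (tt N9489 F94468) (tt N11487 D32089))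
theorem Q9491 : ∀ i, i < 9491 → P i := stepQ 9490 Q9490 (allL N9490 (tt N9490 F94469) (tt N11486 (iv F135382)) (tt N7739 F94470) (tt N9490 F94471) (tt N11487 (iv F135392)) (tt N7743 F94472) (tt N9490 F94473) (tt N11482 (iv F135364)) (tt N11488 D32090) (tt N7737 (iv D22019)))
theorem Q9492 : ∀ i, i < 9492 → P i := stepQ 9491 Q9491 (allL N9491 (tt N9491 F94474) (tt N11470 (iv F135301)) (tt N11487 (iv F135391)) (tt N7805 F94475) (tt N7739 F94476) (tt N11109 (iv F131830)) (tt N9491 F94477) (tt N11305 (iv F204862)) (tt N11489 D32091) (tt N7738 (iv D22020)))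
theorem Q9493 : ∀ i, i < 9493 → P i := stepQ 9492 Q9492 (allL N9492 (tt N9492 F94478) (tt N11471 (iv F135305)) (tt N11488 (iv F135395)) (tt N9492 F94479) (tt N11489 (iv F135400)) (tt N7744 F94480) (tt N9492 F94481) (tt N11483 (iv F135372)) (tt N7739 (iv D22021)) (tt N9492 F94482))
theorem Q9494 : ∀ i, i < 9494 → P i := stepQ 9493 Q9493 (allL N9493 (tt N11490 D32092) (tt N7740 (iv D22022)) (tt N11472 (iv F135310)) (tt N9493 F94483) (tt N11111 (iv F131834)) (tt N11481 (iv F135353)) (tt N11421 (iv F134717)) (tt N7742 F94484) (tt N9493 F94485) (tt N11491 D32093))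
theorem Q9495 : ∀ i, i < 9495 → P i := stepQ 9494 Q9494 (allL N9494 (tt N9494 F94486) (tt N11491 (iv F135407)) (tt N7741 F94487) (tt N9494 F94488) (tt N11112 (iv F131839)) (tt N11482 (iv F135363)) (tt N11422 (iv F134723)) (tt N7743 F94489) (tt N11492 D32094) (tt N7740 (iv D22023)))
theorem Q9496 : ∀ i, i < 9496 → P i := stepQ 9495 Q9495 (allL N9495 (tt N9495 F94490) (tt N11474 (iv F135315)) (tt N11492 (iv F135411)) (tt N9495 F94491) (tt N11113 (iv F131842)) (tt N11483 (iv F135371)) (tt N11423 (iv F134727)) (tt N7744 F94492) (tt N7741 (iv D22024)) (tt N9495 F94493))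
theorem Q9497 : ∀ i, i < 9497 → P i := stepQ 9496 Q9496 (allL N9496 (tt N7742 (iv D22025)) (tt N9496 F94494) (tt N11475 (iv F135319)) (tt N9496 F94495) (tt N11114 (iv F131846)) (tt N11484 (iv F135376)) (tt N7745 F94496) (tt N11490 (iv F135405)) (tt N9496 F94497) (tt N11493 D32095))
theorem Q9498 : ∀ i, i < 9498 → P i := stepQ 9497 Q9497 (allL N9497 (tt N11493 (iv F135414)) (tt N7743 F94498) (tt N11476 (iv F135323)) (tt N9497 F94499) (tt N11115 (iv F131850)) (tt N11486 (iv F135384)) (tt N7746 F94500) (tt N11491 (iv F135409)) (tt N11494 D32096) (tt N7742 (iv D22026)))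
theorem Q9499 : ∀ i, i < 9499 → P i := stepQ 9498 Q9498 (allL N9498 (tt N9498 F94501) (tt N11494 (iv F135418)) (tt N7744 F94502) (tt N11495 D32097) (tt N11116 (iv F131854)) (tt N11488 (iv F135396)) (tt N7747 F94503) (tt N11492 (iv F135412)) (tt N7743 (iv D22027)) (tt N9498 F94504))
theorem Q9500 : ∀ i, i < 9500 → P i := stepQ 9499 Q9499 (allL N9499 (tt N7746 F94505) (tt N9499 F94506) (tt N11478 (iv F135329)) (tt N9499 F94507) (tt N11117 (iv F131859)) (tt N9499 F94508) (tt N11493 (iv F135417)) (tt N11427 (iv F134745)) (tt N11496 D32098) (tt N7745 (iv D22028)))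
theorem Q9501 : ∀ i, i < 9501 → P i := stepQ 9500 Q9500 (allL N9500 (tt N11496 (iv F135426)) (tt N7747 F94509) (tt N11479 (iv F135332)) (tt N11497 D32099) (tt N11118 (iv F131861)) (tt N9500 F94510) (tt N11494 (iv F135419)) (tt N11428 (iv F134748)) (tt N7746 (iv D22029)) (tt N9500 F94511))
theorem Q9502 : ∀ i, i < 9502 → P i := stepQ 9501 Q9501 (allL N9501 (tt N9501 F94512) (tt N11497 (iv F135430)) (tt N9501 F94513) (tt N7747 (iv D22030)) (tt N11498 D32100) (tt N9501 F94514) (tt N11495 (iv F135423)) (tt N11429 (iv F134753)) (tt N9501 F94515) (tt N9501 F94516))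
theorem Q9503 : ∀ i, i < 9503 → P i := stepQ 9502 Q9502 (allL N9502 (tt N7766 F94646) (tt N9761 (iv F205035)) (tt N11499 D32145) (tt N7748 (iv D22058)) (tt N10015 (iv F205045)) (tt N7750 F94647) (tt N9502 F94648) (tt N9754 F204994) (tt N9502 F94649) (tt N11500 D32147))
theorem Q9504 : ∀ i, i < 9504 → P i := stepQ 9503 Q9503 (allL N9503 (tt N7767 F94650) (tt N9762 (iv F205036)) (tt N7757 F94651) (tt N11500 (iv F135657)) (tt N9758 (iv F205043)) (tt N7751 F94652) (tt N9503 F94653) (tt N9755 F204995) (tt N9503 F94654) (tt N7748 (iv D22059)))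
theorem Q9505 : ∀ i, i < 9505 → P i := stepQ 9504 Q9504 (allL N9504 (tt N7768 F94655) (tt N9759 (iv F205048)) (tt N11501 D32148) (tt N7749 (iv D22060)) (tt N10775 F203489) (tt N9754 F204999) (tt N9504 F94656) (tt N7750 F94657) (tt N9504 F94658) (tt N11502 D32150))
theorem Q9506 : ∀ i, i < 9506 → P i := stepQ 9505 Q9505 (allL N9505 (tt N7769 F94659) (tt N9760 (iv F205050)) (tt N7759 F94660) (tt N11502 (iv F135671)) (tt N7754 F94661) (tt N9755 F205002) (tt N9505 F94662) (tt N7751 F94663) (tt N9505 F94664) (tt N7749 (iv D22061)))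
theorem Q9507 : ∀ i, i < 9507 → P i := stepQ 9506 Q9506 (allL N9506 (tt N7770 F94665) (tt N11503 D32151) (tt N7750 (iv D22062)) (tt N7760 F94666) (tt N10777 F204089) (tt N11499 (iv F135650)) (tt N7752 F94667) (tt N11501 (iv F135663)) (tt N9506 F94668) (tt N11504 D32153))
theorem Q9508 : ∀ i, i < 9508 → P i := stepQ 9507 Q9507 (allL N9507 (tt N7772 F94673) (tt N10754 F204091) (tt N11504 (iv F135682)) (tt N7751 F94674) (tt N10778 F204092) (tt N11500 (iv F135658)) (tt N7753 F94675) (tt N11502 (iv F135673)) (tt N11505 D32156) (tt N7750 (iv D22064)))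
theorem Q9509 : ∀ i, i < 9509 → P i := stepQ 9508 Q9508 (allL N9508 (tt N11506 D32157) (tt N7752 (iv D22065)) (tt N10755 F204255) (tt N7762 F94676) (tt N10779 F204256) (tt N9508 F94677) (tt N11503 (iv F135675)) (tt N9508 F94678) (tt N9508 F94679) (tt N11507 D32159))
theorem Q9510 : ∀ i, i < 9510 → P i := stepQ 9509 Q9509 (allL N9509 (tt N7775 F94684) (tt N11507 (iv F135704)) (tt N7753 F94685) (tt N7763 F94686) (tt N10780 F204252) (tt N9509 F94687) (tt N11504 (iv F135684)) (tt N9509 F94688) (tt N11508 D32162) (tt N7752 (iv D22067)))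
theorem Q9511 : ∀ i, i < 9511 → P i := stepQ 9510 Q9510 (allL N9510 (tt N7778 F94698) (tt N10757 F204253) (tt N11508 (iv F135718)) (tt N9510 F94699) (tt N10781 F204254) (tt N9510 F94700) (tt N11505 (iv F135694)) (tt N9510 F94701) (tt N7753 (iv D22070)) (tt N9510 F94702))
theorem Q9512 : ∀ i, i < 9512 → P i := stepQ 9511 Q9511 (allL N9511 (tt N7788 F94752) (tt N9511 F94753) (tt N11509 D32182) (tt N7755 (iv D22084)) (tt N11388 F204844) (tt N7758 F94754) (tt N7833 (iv F204901)) (tt N7756 F94755) (tt N7812 F94756) (tt N11510 D32184))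
theorem Q9513 : ∀ i, i < 9513 → P i := stepQ 9512 Q9512 (allL N9512 (tt N7789 F94757) (tt N9512 F94758) (tt N9755 (iv F204957)) (tt N11510 (iv F135811)) (tt N9748 (iv F204961)) (tt N7759 F94759) (tt N9746 (iv F204953)) (tt N7757 F94760) (tt N9512 F94761) (tt N7755 (iv D22085)))
theorem Q9514 : ∀ i, i < 9514 → P i := stepQ 9513 Q9513 (allL N9513 (tt N7790 F94762) (tt N11511 D32185) (tt N7756 (iv D22086)) (tt N11499 (iv F135649)) (tt N11512 D32186) (tt N7760 F94763) (tt N9513 F94764) (tt N11509 (iv F135803)) (tt N7813 F94765) (tt N11513 D32187))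
theorem Q9515 : ∀ i, i < 9515 → P i := stepQ 9514 Q9514 (allL N9514 (tt N7791 F94766) (tt N9514 F94767) (tt N11512 (iv F135819)) (tt N11432 (iv F135050)) (tt N7756 (iv D22087)) (tt N11217 (iv F132575)) (tt N9514 F94768) (tt N11388 (iv F204786)) (tt N7814 F94769) (tt N11514 D32188))
theorem Q9516 : ∀ i, i < 9516 → P i := stepQ 9515 Q9515 (allL N9515 (tt N7792 F94770) (tt N9515 F94771) (tt N11513 (iv F135823)) (tt N7757 F94772) (tt N11514 (iv F135828)) (tt N7761 F94773) (tt N9515 F94774) (tt N11510 (iv F135813)) (tt N11515 D32189) (tt N7756 (iv D22088)))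
theorem Q9517 : ∀ i, i < 9517 → P i := stepQ 9516 Q9516 (allL N9516 (tt N7793 F94775) (tt N11516 D32190) (tt N7758 (iv D22089)) (tt N11501 (iv F135661)) (tt N11219 (iv F132582)) (tt N11509 (iv F135802)) (tt N9516 F94776) (tt N7760 F94777) (tt N7816 F94778) (tt N11517 D32191))
theorem Q9518 : ∀ i, i < 9518 → P i := stepQ 9517 Q9517 (allL N9517 (tt N7794 F94779) (tt N9517 F94780) (tt N11517 (iv F135841)) (tt N7759 F94781) (tt N11220 (iv F132589)) (tt N11510 (iv F135812)) (tt N9517 F94782) (tt N7761 F94783) (tt N11518 D32192) (tt N7758 (iv D22090)))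
theorem Q9519 : ∀ i, i < 9519 → P i := stepQ 9518 Q9518 (allL N9518 (tt N11519 D32193) (tt N7760 (iv D22091)) (tt N9518 F94784) (tt N11503 (iv F135674)) (tt N11221 (iv F132593)) (tt N11511 (iv F135815)) (tt N7762 F94785) (tt N11516 (iv F135838)) (tt N7818 F94786) (tt N11520 D32194))
theorem Q9520 : ∀ i, i < 9520 → P i := stepQ 9519 Q9519 (allL N9519 (tt N7796 F94787) (tt N11520 (iv F135854)) (tt N7761 F94788) (tt N11504 (iv F135683)) (tt N11222 (iv F132598)) (tt N11513 (iv F135824)) (tt N7763 F94789) (tt N11517 (iv F135843)) (tt N11521 D32195) (tt N7760 (iv D22092)))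
theorem Q9521 : ∀ i, i < 9521 → P i := stepQ 9520 Q9520 (allL N9520 (tt N7797 F94790) (tt N9520 F94791) (tt N11521 (iv F135858)) (tt N9520 F94792) (tt N10555 F204397) (tt N11515 (iv F135833)) (tt N7764 F94793) (tt N11518 (iv F135848)) (tt N7761 (iv D22093)) (tt N7820 F94794))
theorem Q9522 : ∀ i, i < 9522 → P i := stepQ 9521 Q9521 (allL N9521 (tt N7762 (iv D22094)) (tt N7798 F94795) (tt N9521 F94796) (tt N11506 (iv F135697)) (tt N11223 (iv F132607)) (tt N9521 F94797) (tt N11519 (iv F135852)) (tt N9521 F94798) (tt N7821 F94799) (tt N11522 D32196))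
theorem Q9523 : ∀ i, i < 9523 → P i := stepQ 9522 Q9522 (allL N9522 (tt N11522 (iv F135861)) (tt N7763 F94800) (tt N9522 F94801) (tt N11507 (iv F135705)) (tt N11224 (iv F132612)) (tt N9522 F94802) (tt N11520 (iv F135856)) (tt N9522 F94803) (tt N11523 D32197) (tt N7762 (iv D22095)))
theorem Q9524 : ∀ i, i < 9524 → P i := stepQ 9523 Q9523 (allL N9523 (tt N7800 F94804) (tt N11523 (iv F135866)) (tt N7764 F94805) (tt N11524 D32198) (tt N10557 F204467) (tt N9523 F94806) (tt N11521 (iv F135859)) (tt N9523 F94807) (tt N7763 (iv D22096)) (tt N7823 F94808))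
theorem Q9525 : ∀ i, i < 9525 → P i := stepQ 9524 Q9524 (allL N9524 (tt N9754 (iv F204954)) (tt N9524 F94814) (tt N11525 D32201) (tt N7765 (iv D22098)) (tt N9983 (iv F204976)) (tt N7768 F94815) (tt N9743 (iv F204971)) (tt N7766 F94816) (tt N9524 F94817) (tt N11526 D32203))
theorem Q9526 : ∀ i, i < 9526 → P i := stepQ 9525 Q9525 (allL N9525 (tt N9755 (iv F204956)) (tt N9525 F94818) (tt N7789 F94819) (tt N11526 (iv F135895)) (tt N9745 (iv F204979)) (tt N7769 F94820) (tt N9744 (iv F204973)) (tt N7767 F94821) (tt N9525 F94822) (tt N7765 (iv D22099)))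
theorem Q9527 : ∀ i, i < 9527 → P i := stepQ 9526 Q9526 (allL N9526 (tt N11499 (iv F135648)) (tt N11527 D32204) (tt N7766 (iv D22100)) (tt N7790 F94823) (tt N11528 D32205) (tt N7770 F94824) (tt N9526 F94825) (tt N11525 (iv F135889)) (tt N9526 F94826) (tt N11529 D32206))
theorem Q9528 : ∀ i, i < 9528 → P i := stepQ 9527 Q9527 (allL N9527 (tt N10015 (iv F205044)) (tt N9527 F94827) (tt N11528 (iv F135903)) (tt N9982 (iv F205071)) (tt N7766 (iv D22101)) (tt N11530 D32207) (tt N9527 F94828) (tt N9983 F205012) (tt N9527 F94829) (tt N11531 D32208))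
theorem Q9529 : ∀ i, i < 9529 → P i := stepQ 9528 Q9528 (allL N9528 (tt N11500 (iv F135656)) (tt N9528 F94830) (tt N11529 (iv F135906)) (tt N7767 F94831) (tt N11531 (iv F135914)) (tt N7772 F94832) (tt N9528 F94833) (tt N11526 (iv F135897)) (tt N11532 D32209) (tt N7766 (iv D22102)))
theorem Q9530 : ∀ i, i < 9530 → P i := stepQ 9529 Q9529 (allL N9529 (tt N11501 (iv F135660)) (tt N11533 D32210) (tt N7768 (iv D22103)) (tt N7793 F94834) (tt N11534 D32211) (tt N11525 (iv F135888)) (tt N9529 F94835) (tt N7770 F94836) (tt N9529 F94837) (tt N11535 D32212))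
theorem Q9531 : ∀ i, i < 9531 → P i := stepQ 9530 Q9530 (allL N9530 (tt N10775 F203481) (tt N9530 F94838) (tt N11534 (iv F135926)) (tt N7779 F94839) (tt N7768 (iv D22104)) (tt N11536 D32213) (tt N9530 F94840) (tt N7771 F94841) (tt N9530 F94842) (tt N11537 D32214))
theorem Q9532 : ∀ i, i < 9532 → P i := stepQ 9531 Q9531 (allL N9531 (tt N11502 (iv F135670)) (tt N9531 F94843) (tt N11535 (iv F135930)) (tt N7769 F94844) (tt N11537 (iv F135940)) (tt N11526 (iv F135896)) (tt N9531 F94845) (tt N7772 F94846) (tt N11538 D32215) (tt N7768 (iv D22105)))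
theorem Q9533 : ∀ i, i < 9533 → P i := stepQ 9532 Q9532 (allL N9532 (tt N11539 D32216) (tt N7770 (iv D22106)) (tt N9532 F94847) (tt N7795 F94848) (tt N11540 D32217) (tt N11527 (iv F135900)) (tt N7773 F94849) (tt N11533 (iv F135924)) (tt N9532 F94850) (tt N11541 D32218))
theorem Q9534 : ∀ i, i < 9534 → P i := stepQ 9533 Q9533 (allL N9533 (tt N10777 F204087) (tt N11540 (iv F135952)) (tt N7771 F94851) (tt N11252 (iv F132692)) (tt N7770 (iv D22107)) (tt N11542 D32219) (tt N7774 F94852) (tt N11534 (iv F135928)) (tt N9533 F94853) (tt N11543 D32220))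
theorem Q9535 : ∀ i, i < 9535 → P i := stepQ 9534 Q9534 (allL N9534 (tt N11504 (iv F135681)) (tt N11541 (iv F135956)) (tt N7772 F94854) (tt N7796 F94855) (tt N11543 (iv F135963)) (tt N11529 (iv F135908)) (tt N7775 F94856) (tt N11535 (iv F135933)) (tt N11544 D32221) (tt N7770 (iv D22108)))
theorem Q9536 : ∀ i, i < 9536 → P i := stepQ 9535 Q9535 (allL N9535 (tt N10773 F204069) (tt N9535 F94857) (tt N11542 (iv F135960)) (tt N7781 F94858) (tt N11530 (iv F135911)) (tt N7771 (iv D22109)) (tt N11545 D32222) (tt N11536 (iv F135936)) (tt N9535 F94859) (tt N11546 D32223))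
theorem Q9537 : ∀ i, i < 9537 → P i := stepQ 9536 Q9536 (allL N9536 (tt N10778 F204088) (tt N9536 F94860) (tt N11543 (iv F135962)) (tt N7782 F94861) (tt N7772 F94862) (tt N11546 (iv F135974)) (tt N7777 F94863) (tt N11537 (iv F135942)) (tt N11547 D32224) (tt N7771 (iv D22110)))
theorem Q9538 : ∀ i, i < 9538 → P i := stepQ 9537 Q9537 (allL N9537 (tt N11505 (iv F135692)) (tt N9537 F94864) (tt N11544 (iv F135965)) (tt N9537 F94865) (tt N11547 (iv F135976)) (tt N11532 (iv F135918)) (tt N7778 F94866) (tt N11538 (iv F135946)) (tt N7772 (iv D22111)) (tt N9537 F94867))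
theorem Q9539 : ∀ i, i < 9539 → P i := stepQ 9538 Q9538 (allL N9538 (tt N7773 (iv D22112)) (tt N11506 (iv F135696)) (tt N9538 F94868) (tt N7798 F94869) (tt N11548 D32225) (tt N9538 F94870) (tt N11539 (iv F135950)) (tt N9538 F94871) (tt N9538 F94872) (tt N11549 D32226))
theorem Q9540 : ∀ i, i < 9540 → P i := stepQ 9539 Q9539 (allL N9539 (tt N11548 (iv F135979)) (tt N7774 F94873) (tt N9539 F94874) (tt N11258 (iv F132705)) (tt N7773 (iv D22113)) (tt N11550 D32227) (tt N11540 (iv F135954)) (tt N9539 F94875) (tt N9539 F94876) (tt N11551 D32228))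
theorem Q9541 : ∀ i, i < 9541 → P i := stepQ 9540 Q9540 (allL N9540 (tt N11549 (iv F135983)) (tt N7775 F94877) (tt N9540 F94878) (tt N7799 F94879) (tt N11551 (iv F135995)) (tt N9540 F94880) (tt N11541 (iv F135959)) (tt N9540 F94881) (tt N11552 D32229) (tt N7773 (iv D22114)))
theorem Q9542 : ∀ i, i < 9542 → P i := stepQ 9541 Q9541 (allL N9541 (tt N9942 F204219) (tt N11550 (iv F135988)) (tt N7776 F94882) (tt N11260 (iv F132711)) (tt N9541 F94883) (tt N7774 (iv D22115)) (tt N11553 D32230) (tt N9541 F94884) (tt N9541 F94885) (tt N11554 D32231))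
theorem Q9543 : ∀ i, i < 9543 → P i := stepQ 9542 Q9542 (allL N9542 (tt N10780 F204220) (tt N11551 (iv F135993)) (tt N7777 F94886) (tt N11261 (iv F132714)) (tt N7775 F94887) (tt N11554 (iv F136007)) (tt N11543 (iv F135964)) (tt N9542 F94888) (tt N11555 D32232) (tt N7774 (iv D22116)))
theorem Q9544 : ∀ i, i < 9544 → P i := stepQ 9543 Q9543 (allL N9543 (tt N11508 (iv F135717)) (tt N11552 (iv F135997)) (tt N7778 F94889) (tt N11556 D32233) (tt N11555 (iv F136010)) (tt N9543 F94890) (tt N11544 (iv F135966)) (tt N9543 F94891) (tt N7775 (iv D22117)) (tt N9543 F94892))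
theorem Q9545 : ∀ i, i < 9545 → P i := stepQ 9544 Q9544 (allL N9544 (tt N9940 F204221) (tt N9544 F94893) (tt N11553 (iv F136002)) (tt N7783 F94894) (tt N9544 F94895) (tt N11545 (iv F135970)) (tt N7776 (iv D22118)) (tt N11557 D32234) (tt N9544 F94896) (tt N11558 D32235))
theorem Q9546 : ∀ i, i < 9546 → P i := stepQ 9545 Q9545 (allL N9545 (tt N9943 F204222) (tt N9545 F94897) (tt N11554 (iv F136005)) (tt N7784 F94898) (tt N9545 F94899) (tt N7777 F94900) (tt N11558 (iv F136026)) (tt N9545 F94901) (tt N11559 D32236) (tt N7776 (iv D22119)))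
theorem Q9547 : ∀ i, i < 9547 → P i := stepQ 9546 Q9546 (allL N9546 (tt N10781 F204223) (tt N9546 F94902) (tt N11555 (iv F136009)) (tt N10830 F204224) (tt N7778 F94903) (tt N11559 (iv F136029)) (tt N11547 (iv F135977)) (tt N9546 F94904) (tt N7777 (iv D22120)) (tt N9546 F94905))
theorem Q9548 : ∀ i, i < 9548 → P i := stepQ 9547 Q9547 (allL N9547 (tt N10772 F203440) (tt N9547 F94906) (tt N11266 (iv F132725)) (tt N11536 (iv F135935)) (tt N11460 (iv F135220)) (tt N7779 (iv D22121)) (tt N11560 D32238) (tt N7781 F94907) (tt N7986 F94908) (tt N11561 D32239))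
theorem Q9549 : ∀ i, i < 9549 → P i := stepQ 9548 Q9548 (allL N9548 (tt N10776 F203482) (tt N9548 F94909) (tt N11267 (iv F132728)) (tt N11537 (iv F135939)) (tt N7780 F94910) (tt N11561 (iv F136041)) (tt N9548 F94911) (tt N7782 F94912) (tt N10825 F203483) (tt N7779 (iv D22122)))
theorem Q9550 : ∀ i, i < 9550 → P i := stepQ 9549 Q9549 (allL N9549 (tt N9938 F204068) (tt N9549 F94918) (tt N11268 (iv F132736)) (tt N11545 (iv F135969)) (tt N11462 (iv F135232)) (tt N7783 F94919) (tt N7781 (iv D22124)) (tt N11562 D32241) (tt N7987 F94920) (tt N11563 D32242))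
theorem Q9551 : ∀ i, i < 9551 → P i := stepQ 9550 Q9550 (allL N9550 (tt N10774 F204070) (tt N9550 F94921) (tt N11269 (iv F132739)) (tt N11546 (iv F135973)) (tt N11463 (iv F135236)) (tt N7782 F94922) (tt N11563 (iv F136053)) (tt N11561 (iv F136042)) (tt N10823 F204071) (tt N7781 (iv D22125)))
theorem Q9552 : ∀ i, i < 9552 → P i := stepQ 9551 Q9551 (allL N9551 (tt N9939 F204225) (tt N9551 F94927) (tt N11270 (iv F132745)) (tt N11557 (iv F136019)) (tt N7785 F94928) (tt N11562 (iv F136049)) (tt N9551 F94929) (tt N7783 (iv D22127)) (tt N7988 F94930) (tt N11564 D32245))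
theorem Q9553 : ∀ i, i < 9553 → P i := stepQ 9552 Q9552 (allL N9552 (tt N9941 F204226) (tt N9552 F94931) (tt N11271 (iv F132749)) (tt N11558 (iv F136024)) (tt N7786 F94932) (tt N11563 (iv F136052)) (tt N7784 F94933) (tt N11564 (iv F136064)) (tt N9984 F204227) (tt N7783 (iv D22128)))
theorem Q9554 : ∀ i, i < 9554 → P i := stepQ 9553 Q9553 (allL N9553 (tt N9944 F204228) (tt N9553 F94943) (tt N11272 (iv F132759)) (tt N9553 F94944) (tt N11564 (iv F136062)) (tt N11450 (iv F206455)) (tt N9553 F94945) (tt N7786 F94946) (tt N9987 F204229) (tt N7785 (iv D22131)))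
theorem Q9555 : ∀ i, i < 9555 → P i := stepQ 9554 Q9554 (allL N9554 (tt N9746 (iv F204952)) (tt N7801 F94964) (tt N9744 (iv F204972)) (tt N7811 F204927) (tt N9740 (iv F204974)) (tt N9554 F94965) (tt N7789 F94966) (tt N9554 F94967) (tt N9554 F94968) (tt N7787 (iv D22136)))
theorem Q9556 : ∀ i, i < 9556 → P i := stepQ 9555 Q9555 (allL N9555 (tt N11509 (iv F135801)) (tt N7829 F204834) (tt N7788 (iv D22137)) (tt N11525 (iv F135887)) (tt N11383 F204835) (tt N7793 F94969) (tt N7831 (iv F204886)) (tt N7790 F94970) (tt N7824 F94971) (tt N11565 D32259))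
theorem Q9557 : ∀ i, i < 9557 → P i := stepQ 9556 Q9556 (allL N9556 (tt N11510 (iv F135809)) (tt N7802 F94975) (tt N11565 (iv F136118)) (tt N7789 F94976) (tt N11304 F204849) (tt N7794 F94977) (tt N7811 (iv F204907)) (tt N7792 F94978) (tt N7809 F204850) (tt N7788 (iv D22139)))
theorem Q9558 : ∀ i, i < 9558 → P i := stepQ 9557 Q9557 (allL N9557 (tt N11566 D32262) (tt N7790 (iv D22140)) (tt N7803 F94979) (tt N11527 (iv F135899)) (tt N11381 F204836) (tt N7795 F94980) (tt N9557 F94981) (tt N7829 F204837) (tt N7825 F94982) (tt N11567 D32264))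
theorem Q9559 : ∀ i, i < 9559 → P i := stepQ 9558 Q9558 (allL N9558 (tt N11512 (iv F135818)) (tt N11381 (iv F204769)) (tt N7791 F94983) (tt N11568 D32265) (tt N7790 (iv D22141)) (tt N11279 (iv F132793)) (tt N9558 F94984) (tt N11383 (iv F204763)) (tt N7826 F94985) (tt N11569 D32266))
theorem Q9560 : ∀ i, i < 9560 → P i := stepQ 9559 Q9559 (allL N9559 (tt N11513 (iv F135822)) (tt N11567 (iv F136137)) (tt N7792 F94986) (tt N11529 (iv F135907)) (tt N11569 (iv F136143)) (tt N7796 F94987) (tt N9559 F94988) (tt N11565 (iv F136120)) (tt N11570 D32267) (tt N7790 (iv D22142)))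
theorem Q9561 : ∀ i, i < 9561 → P i := stepQ 9560 Q9560 (allL N9560 (tt N11514 (iv F135826)) (tt N7805 F94989) (tt N11569 (iv F136142)) (tt N11470 (iv F135302)) (tt N7792 F94990) (tt N11281 (iv F132799)) (tt N9560 F94991) (tt N11304 (iv F204799)) (tt N11302 F204722) (tt N7791 (iv D22143)))
theorem Q9562 : ∀ i, i < 9562 → P i := stepQ 9561 Q9561 (allL N9561 (tt N11515 (iv F135830)) (tt N7806 F94992) (tt N11570 (iv F136145)) (tt N9561 F94993) (tt N11302 F204718) (tt N7797 F94994) (tt N9561 F94995) (tt N7809 (iv F204793)) (tt N7792 (iv D22144)) (tt N7807 F204719))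
theorem Q9563 : ∀ i, i < 9563 → P i := stepQ 9562 Q9562 (allL N9562 (tt N11571 D32269) (tt N7793 (iv D22145)) (tt N7807 F94997) (tt N11533 (iv F135922)) (tt N11283 (iv F132804)) (tt N7829 (iv F204771)) (tt N9562 F94998) (tt N7795 F94999) (tt N7827 F204702) (tt N11570 (iv F204776)))
theorem Q9564 : ∀ i, i < 9564 → P i := stepQ 9563 Q9563 (allL N9563 (tt N11517 (iv F135840)) (tt N11570 (iv F204773)) (tt N7794 F95001) (tt N11535 (iv F135931)) (tt N11284 (iv F132809)) (tt N11565 (iv F136119)) (tt N9563 F95002) (tt N7796 F95003) (tt N11567 (iv F204897)) (tt N7793 (iv D22146)))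
theorem Q9565 : ∀ i, i < 9565 → P i := stepQ 9564 Q9564 (allL N9564 (tt N11518 (iv F135844)) (tt N7804 (iv F204866)) (tt N11567 (iv F204894)) (tt N9564 F95005) (tt N11285 (iv F132813)) (tt N7809 F204845) (tt N9564 F95006) (tt N7797 F95007) (tt N7794 (iv D22147)) (tt N7803 F204846))
theorem Q9566 : ∀ i, i < 9566 → P i := stepQ 9565 Q9565 (allL N9565 (tt N7795 (iv D22148)) (tt N11519 (iv F135850)) (tt N7808 F95009) (tt N11539 (iv F135949)) (tt N11286 (iv F132818)) (tt N11566 (iv F136130)) (tt N7798 F95010) (tt N11571 (iv F136155)) (tt N7828 F95011) (tt N11572 D32272))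
theorem Q9567 : ∀ i, i < 9567 → P i := stepQ 9566 Q9566 (allL N9566 (tt N11572 (iv F136165)) (tt N7796 F95012) (tt N7809 F95013) (tt N11541 (iv F135958)) (tt N11287 (iv F132823)) (tt N11567 (iv F136139)) (tt N7799 F95014) (tt N11570 (iv F204775)) (tt N11565 (iv F204892)) (tt N7795 (iv D22149)))
theorem Q9568 : ∀ i, i < 9568 → P i := stepQ 9567 Q9567 (allL N9567 (tt N11521 (iv F135857)) (tt N11565 (iv F204889)) (tt N7797 F95015) (tt N11573 D32274) (tt N11288 (iv F132826)) (tt N11570 (iv F136146)) (tt N7800 F95016) (tt N11567 (iv F204896)) (tt N7796 (iv D22150)) (tt N7829 F95017))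
theorem Q9569 : ∀ i, i < 9569 → P i := stepQ 9568 Q9568 (allL N9568 (tt N7799 F95018) (tt N11522 (iv F135862)) (tt N7810 F95019) (tt N11549 (iv F135985)) (tt N11289 (iv F132831)) (tt N9568 F95020) (tt N11572 (iv F136167)) (tt N9568 F95021) (tt N11574 D32275) (tt N7798 (iv D22151)))
theorem Q9570 : ∀ i, i < 9570 → P i := stepQ 9569 Q9569 (allL N9569 (tt N11574 (iv F136175)) (tt N7800 F95022) (tt N7811 F95023) (tt N11575 D32276) (tt N11290 (iv F132835)) (tt N9569 F95024) (tt N11565 (iv F204891)) (tt N9569 F95025) (tt N7799 (iv D22152)) (tt N7831 F95026))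
theorem Q9571 : ∀ i, i < 9571 → P i := stepQ 9570 Q9570 (allL N9570 (tt N11524 (iv F135871)) (tt N11575 (iv F136180)) (tt N9570 F95027) (tt N7800 (iv D22153)) (tt N11576 D32277) (tt N9570 F95028) (tt N11573 (iv F136173)) (tt N9570 F95029) (tt N11556 (iv F136016)) (tt N7832 F95030))
theorem Q9572 : ∀ i, i < 9572 → P i := stepQ 9571 Q9571 (allL N9571 (tt N7803 (iv D22162)) (tt N9571 F95067) (tt N11566 (iv F136129)) (tt N9571 F95068) (tt N10552 F204840) (tt N7808 F95069) (tt N9571 F95070) (tt N7820 F204841) (tt N7817 F204842) (tt N11518 (iv F204900)))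
theorem Q9573 : ∀ i, i < 9573 → P i := stepQ 9572 Q9572 (allL N9572 (tt N7807 (iv D22169)) (tt N9572 F95095) (tt N11571 (iv F136153)) (tt N9572 F95096) (tt N11301 (iv F132894)) (tt N7820 (iv F204779)) (tt N9572 F95097) (tt N7808 F95098) (tt N7815 F204704) (tt N11515 (iv F204784)))
theorem Q9574 : ∀ i, i < 9574 → P i := stepQ 9573 Q9573 (allL N9573 (tt N7809 F95109) (tt N9573 F95110) (tt N11572 (iv F136166)) (tt N9573 F95111) (tt N11303 (iv F132910)) (tt N11518 (iv F204899)) (tt N7810 F95112) (tt N11515 (iv F204783)) (tt N11510 (iv F204904)) (tt N7808 (iv D22172)))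
theorem Q9575 : ∀ i, i < 9575 → P i := stepQ 9574 Q9574 (allL N9574 (tt N7811 F95121) (tt N9574 F95122) (tt N11574 (iv F136176)) (tt N9746 F204251) (tt N11306 (iv F132921)) (tt N9574 F95123) (tt N11510 (iv F204903)) (tt N9574 F95124) (tt N7810 (iv D22175)) (tt N7833 F95125))
theorem Q9576 : ∀ i, i < 9576 → P i := stepQ 9575 Q9575 (allL N9575 (tt N7824 F95149) (tt N11577 D32314) (tt N7812 (iv D22180)) (tt N9575 F95150) (tt N11382 F204831) (tt N7816 F95151) (tt N7830 (iv F204883)) (tt N7813 F95152) (tt N11509 (iv F135804)) (tt N7828 F204832))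
theorem Q9577 : ∀ i, i < 9577 → P i := stepQ 9576 Q9576 (allL N9576 (tt N11578 D32319) (tt N7813 (iv D22183)) (tt N9576 F95162) (tt N9576 F95163) (tt N11579 D32320) (tt N7818 F95164) (tt N9576 F95165) (tt N11577 (iv F136355)) (tt N11511 (iv F135817)) (tt N11580 D32321))
theorem Q9578 : ∀ i, i < 9578 → P i := stepQ 9577 Q9577 (allL N9577 (tt N7826 F95166) (tt N11579 (iv F136379)) (tt N7814 F95167) (tt N11581 D32322) (tt N7813 (iv D22184)) (tt N11348 (iv F133828)) (tt N9577 F95168) (tt N11382 (iv F204757)) (tt N11512 (iv F135821)) (tt N11380 F204687))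
theorem Q9579 : ∀ i, i < 9579 → P i := stepQ 9578 Q9578 (allL N9578 (tt N7827 F95169) (tt N11580 (iv F136382)) (tt N7815 F95170) (tt N9578 F95171) (tt N11380 F204686) (tt N7819 F95172) (tt N9578 F95173) (tt N7828 (iv F204753)) (tt N11571 (iv F204755)) (tt N7813 (iv D22185)))
theorem Q9580 : ∀ i, i < 9580 → P i := stepQ 9579 Q9579 (allL N9579 (tt N11580 (iv F204750)) (tt N7816 (iv D22188)) (tt N9579 F95184) (tt N9579 F95185) (tt N11349 (iv F133841)) (tt N11577 (iv F136354)) (tt N9579 F95186) (tt N7818 F95187) (tt N11516 (iv F135839)) (tt N11578 (iv F204875)))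
theorem Q9581 : ∀ i, i < 9581 → P i := stepQ 9580 Q9580 (allL N9580 (tt N7825 F204829) (tt N11578 (iv F204872)) (tt N7817 F95189) (tt N9580 F95190) (tt N10562 F204439) (tt N7828 F204830) (tt N9580 F95191) (tt N7819 F95192) (tt N11566 (iv F204878)) (tt N7816 (iv D22189)))
theorem Q9582 : ∀ i, i < 9582 → P i := stepQ 9581 Q9581 (allL N9581 (tt N7818 (iv D22191)) (tt N7828 F95198) (tt N9581 F95199) (tt N9581 F95200) (tt N11350 (iv F133856)) (tt N11578 (iv F136377)) (tt N7821 F95201) (tt N11580 (iv F204752)) (tt N11519 (iv F135853)) (tt N11577 (iv F204882)))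
theorem Q9583 : ∀ i, i < 9583 → P i := stepQ 9582 Q9582 (allL N9582 (tt N11577 (iv F204879)) (tt N7819 F95202) (tt N9582 F95203) (tt N9582 F95204) (tt N10563 F204523) (tt N11580 (iv F136385)) (tt N7822 F95205) (tt N11578 (iv F204874)) (tt N11582 D32330) (tt N7818 (iv D22192)))
theorem Q9584 : ∀ i, i < 9584 → P i := stepQ 9583 Q9583 (allL N9583 (tt N7829 F95206) (tt N11582 (iv F136422)) (tt N7820 F95207) (tt N11583 D32331) (tt N10554 F204474) (tt N11571 (iv F204754)) (tt N7823 F95208) (tt N11566 (iv F204877)) (tt N7819 (iv D22193)) (tt N11521 (iv F135860)))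
theorem Q9585 : ∀ i, i < 9585 → P i := stepQ 9584 Q9584 (allL N9584 (tt N7822 F95209) (tt N7830 F95210) (tt N9584 F95211) (tt N9584 F95212) (tt N10564 F204541) (tt N9584 F95213) (tt N11577 (iv F204881)) (tt N9584 F95214) (tt N11584 D32332) (tt N7821 (iv D22194)))
theorem Q9586 : ∀ i, i < 9586 → P i := stepQ 9585 Q9585 (allL N9585 (tt N11584 (iv F136429)) (tt N7823 F95215) (tt N9585 F95216) (tt N11585 D32333) (tt N10556 F204477) (tt N9585 F95217) (tt N11582 (iv F136424)) (tt N9585 F95218) (tt N7822 (iv D22195)) (tt N11523 (iv F135870)))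
theorem Q9587 : ∀ i, i < 9587 → P i := stepQ 9586 Q9586 (allL N9586 (tt N7832 F95219) (tt N11585 (iv F136434)) (tt N9586 F95220) (tt N7823 (iv D22196)) (tt N11586 D32334) (tt N9586 F95221) (tt N11583 (iv F136427)) (tt N9586 F95222) (tt N9586 F95223) (tt N11524 (iv F135875)))
theorem Q9588 : ∀ i, i < 9588 → P i := stepQ 9587 Q9587 (allL N9587 (tt N11581 (iv F136387)) (tt N10543 (iv F204768)) (tt N9587 F95267) (tt N7826 (iv D22208)) (tt N9587 F95268) (tt N11378 (iv F134045)) (tt N9587 F95269) (tt N10544 (iv F204758)) (tt N11587 D32353) (tt N11371 F204700))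
theorem Q9589 : ∀ i, i < 9589 → P i := stepQ 9588 Q9588 (allL N9588 (tt N11583 (iv F136425)) (tt N11525 (iv F204887)) (tt N9588 F95298) (tt N7829 (iv D22217)) (tt N11588 D32363) (tt N11533 (iv F204772)) (tt N7832 F95299) (tt N11527 (iv F204893)) (tt N9588 F95300) (tt N11573 (iv F136174)))
theorem Q9590 : ∀ i, i < 9590 → P i := stepQ 9589 Q9589 (allL N9589 (tt N7831 F95301) (tt N11584 (iv F136430)) (tt N7833 F95302) (tt N9756 (iv F204376)) (tt N11385 (iv F134078)) (tt N9589 F95303) (tt N11509 (iv F204885)) (tt N9589 F95304) (tt N7830 (iv D22218)) (tt N11574 (iv F136179)))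
theorem Q9591 : ∀ i, i < 9591 → P i := stepQ 9590 Q9590 (allL N9590 (tt N9756 (iv F204375)) (tt N7832 F95305) (tt N9743 F204237) (tt N7831 (iv D22219)) (tt N9985 F204238) (tt N9590 F95306) (tt N11525 (iv F204888)) (tt N9590 F95307) (tt N9590 F95308) (tt N11575 (iv F136183)))
theorem Q9592 : ∀ i, i < 9592 → P i := stepQ 9591 Q9591 (allL N9591 (tt N11586 (iv F136438)) (tt N9985 F204235) (tt N9591 F95309) (tt N11387 (iv F134082)) (tt N7832 (iv D22220)) (tt N10828 F204236) (tt N11588 (iv F136550)) (tt N9591 F95310) (tt N9591 F95311) (tt N11576 (iv F136186)))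
theorem Q9593 : ∀ i, i < 9593 → P i := stepQ 9592 Q9592 (allL N9592 (tt N8004 F95664) (tt N11589 D32473) (tt N7834 (iv D22298)) (tt N9592 F95665) (tt N9592 F95666) (tt N9592 F95667) (tt N9592 F95668) (tt N9592 F95669) (tt N9592 F95670) (tt N9592 F195460))
theorem Q9594 : ∀ i, i < 9594 → P i := stepQ 9593 Q9593 (allL N9593 (tt N10057 F201124) (tt N7888 F97793) (tt N9593 F97794) (tt N9593 F97795) (tt N10940 (iv F201474)) (tt N7842 (iv D22784)) (tt N11590 D33206) (tt N7855 F97796) (tt N10657 (iv F128899)) (tt N9821 (iv F201344)))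
theorem Q9595 : ∀ i, i < 9595 → P i := stepQ 9594 Q9594 (allL N9594 (tt N7898 F201805) (tt N7893 F98217) (tt N10647 F197050) (tt N7896 F201806) (tt N10672 (iv F129221)) (tt N9594 F98218) (tt N10697 (iv F197400)) (tt N10639 F197051) (tt N7843 (iv D22889)) (tt N11591 D33362))
theorem Q9596 : ∀ i, i < 9596 → P i := stepQ 9595 Q9595 (allL N9595 (tt N7852 F98372) (tt N10914 (iv F196667)) (tt N9731 F205314) (tt N10930 (iv F201412)) (tt N9912 (iv F205415)) (tt N9595 F98373) (tt N10678 (iv F196660)) (tt N10631 F196407) (tt N7848 (iv D22933)) (tt N11592 D33429))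
theorem Q9597 : ∀ i, i < 9597 → P i := stepQ 9596 Q9596 (allL N9596 (tt N11592 (iv F141024)) (tt N7899 F98464) (tt N11399 (iv F202319)) (tt N10951 F201895) (tt N10712 (iv F129457)) (tt N9596 F98465) (tt N11080 (iv F202207)) (tt N10952 F201896) (tt N11591 (iv F140798)) (tt N7852 (iv D22959)))
theorem Q9598 : ∀ i, i < 9598 → P i := stepQ 9597 Q9597 (allL N9597 (tt N10172 F201897) (tt N7902 F98508) (tt N9597 F98509) (tt N10943 F201898) (tt N7855 F98510) (tt N7854 (iv D22972)) (tt N11593 D33488) (tt N10940 F201899) (tt N10724 (iv F129502)) (tt N9872 F201900))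
theorem Q9599 : ∀ i, i < 9599 → P i := stepQ 9598 Q9598 (allL N9598 (tt N10173 F201993) (tt N7903 F98517) (tt N9598 F98518) (tt N9598 F98519) (tt N11593 (iv F141226)) (tt N7880 F98520) (tt N7855 (iv D22975)) (tt N11594 D33491) (tt N10726 (iv F129513)) (tt N9873 F201994))
theorem Q9600 : ∀ i, i < 9600 → P i := stepQ 9599 Q9599 (allL N9599 (tt N7870 F197948) (tt N7908 F99156) (tt N9599 F99157) (tt N7858 F99158) (tt N10803 (iv F198236)) (tt N7856 (iv D23127)) (tt N9599 F99159) (tt N7863 F197949) (tt N11595 D33719) (tt N7869 F99160))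
theorem Q9601 : ∀ i, i < 9601 → P i := stepQ 9600 Q9600 (allL N9600 (tt N7869 (iv F197466)) (tt N7909 F99161) (tt N9600 F99162) (tt N7859 F99163) (tt N10759 (iv F130007)) (tt N7863 (iv F197509)) (tt N9600 F99164) (tt N7856 (iv D23128)) (tt N11596 D33720) (tt N7870 F99165))
theorem Q9602 : ∀ i, i < 9602 → P i := stepQ 9601 Q9601 (allL N9601 (tt N7923 (iv F203168)) (tt N7910 F99166) (tt N9601 F99167) (tt N7918 (iv F203155)) (tt N10760 (iv F130012)) (tt N11595 (iv F142193)) (tt N7857 F99168) (tt N11596 (iv F142198)) (tt N7856 (iv D23129)) (tt N11597 D33722))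
theorem Q9603 : ∀ i, i < 9603 → P i := stepQ 9602 Q9602 (allL N9602 (tt N7926 (iv F203279)) (tt N7912 F99173) (tt N9602 F99174) (tt N7919 (iv F203278)) (tt N10762 (iv F130019)) (tt N9602 F99175) (tt N11597 (iv F142204)) (tt N9602 F99176) (tt N7873 F99177) (tt N7857 (iv D23131)))
theorem Q9604 : ∀ i, i < 9604 → P i := stepQ 9603 Q9603 (allL N9603 (tt N7914 (iv F202464)) (tt N9603 F99344) (tt N7860 (iv D23175)) (tt N7881 F202866) (tt N10530 (iv F203046)) (tt N9603 F99346) (tt N7939 F198757) (tt N9603 F99347) (tt N10309 (iv F203293)) (tt N7875 F202867))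
theorem Q9605 : ∀ i, i < 9605 → P i := stepQ 9604 Q9604 (allL N9604 (tt N7913 (iv F202314)) (tt N7863 F99349) (tt N7939 (iv F198337)) (tt N7861 F99350) (tt N10793 (iv F130182)) (tt N7909 F197966) (tt N7860 (iv D23176)) (tt N7908 (iv F198294)) (tt N11598 D33789) (tt N7874 F202720))
theorem Q9606 : ∀ i, i < 9606 → P i := stepQ 9605 Q9605 (allL N9605 (tt N7911 (iv F202463)) (tt N7864 F99352) (tt N10309 (iv F203292)) (tt N7905 (iv F202462)) (tt N10794 (iv F130185)) (tt N9605 F99353) (tt N11598 (iv F142458)) (tt N9605 F99354) (tt N7860 (iv D23177)) (tt N11599 D33791))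
theorem Q9607 : ∀ i, i < 9607 → P i := stepQ 9606 Q9606 (allL N9606 (tt N7871 F99433) (tt N11598 (iv F142457)) (tt N9606 F99434) (tt N11600 D33821) (tt N10804 (iv F130268)) (tt N11596 (iv F197511)) (tt N7864 F99435) (tt N11595 (iv F198304)) (tt N7863 (iv D23196)) (tt N11601 D33822))
theorem Q9608 : ∀ i, i < 9608 → P i := stepQ 9607 Q9607 (allL N9607 (tt N7872 F99436) (tt N7905 (iv F202461)) (tt N10330 (iv F202564)) (tt N7864 (iv D23197)) (tt N10384 (iv F202566)) (tt N9607 F99437) (tt N11600 (iv F142592)) (tt N9607 F99438) (tt N7866 F99439) (tt N11602 D33825))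
theorem Q9609 : ∀ i, i < 9609 → P i := stepQ 9608 Q9608 (allL N9608 (tt N7873 F99440) (tt N11599 (iv F142465)) (tt N9608 F99441) (tt N11602 (iv F142606)) (tt N10806 (iv F130275)) (tt N9608 F99442) (tt N11601 (iv F142596)) (tt N9608 F99443) (tt N7926 (iv F203280)) (tt N7864 (iv D23198)))
theorem Q9610 : ∀ i, i < 9610 → P i := stepQ 9609 Q9609 (allL N9609 (tt N7874 F99456) (tt N7904 (iv F202311)) (tt N7958 (iv F202544)) (tt N7865 (iv D23202)) (tt N10519 (iv F202543)) (tt N7917 (iv F202282)) (tt N7866 F99457) (tt N7916 (iv F202308)) (tt N11600 (iv F142593)) (tt N7913 (iv F202296)))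
theorem Q9611 : ∀ i, i < 9611 → P i := stepQ 9610 Q9610 (allL N9610 (tt N10759 F197871) (tt N7920 F99567) (tt N9610 F99568) (tt N7929 F202726) (tt N7869 (iv D23228)) (tt N10831 (iv F130396)) (tt N9610 F99569) (tt N7927 (iv F203145)) (tt N11603 D33867) (tt N10803 (iv F198237)))
theorem Q9612 : ∀ i, i < 9612 → P i := stepQ 9611 Q9611 (allL N9611 (tt N11596 (iv F197510)) (tt N7921 F99574) (tt N9611 F99575) (tt N7922 F202727) (tt N11603 (iv F142780)) (tt N7871 F99576) (tt N9611 F99577) (tt N7923 (iv F203170)) (tt N7869 (iv D23230)) (tt N11604 D33871))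
theorem Q9613 : ∀ i, i < 9613 → P i := stepQ 9612 Q9612 (allL N9612 (tt N11595 (iv F198302)) (tt N7922 F99578) (tt N9612 F99579) (tt N7921 F202725) (tt N10834 (iv F130406)) (tt N7923 (iv F203169)) (tt N9612 F99580) (tt N7871 F99581) (tt N7870 (iv D23231)) (tt N11605 D33873))
theorem Q9614 : ∀ i, i < 9614 → P i := stepQ 9613 Q9613 (allL N9613 (tt N11600 (iv F142591)) (tt N7923 F99582) (tt N7964 (iv F203209)) (tt N7871 (iv D23232)) (tt N11606 D33875) (tt N7922 F202766) (tt N7872 F99583) (tt N7921 F202767) (tt N7874 F99584) (tt N11607 D33876))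
theorem Q9615 : ∀ i, i < 9615 → P i := stepQ 9614 Q9614 (allL N9614 (tt N11601 (iv F142594)) (tt N7924 F99585) (tt N9614 F99586) (tt N11607 (iv F142815)) (tt N10836 (iv F130414)) (tt N11604 (iv F142797)) (tt N7873 F99587) (tt N11605 (iv F142806)) (tt N11597 (iv F142205)) (tt N7871 (iv D23233)))
theorem Q9616 : ∀ i, i < 9616 → P i := stepQ 9615 Q9615 (allL N9615 (tt N10330 (iv F202563)) (tt N9615 F99588) (tt N7872 (iv D23234)) (tt N9615 F99589) (tt N10397 (iv F202577)) (tt N9615 F99590) (tt N7964 (iv F203210)) (tt N9615 F99591) (tt N7875 F99592) (tt N11608 D33878))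
theorem Q9617 : ∀ i, i < 9617 → P i := stepQ 9616 Q9616 (allL N9616 (tt N10384 (iv F202565)) (tt N7925 F99593) (tt N10397 (iv F202576)) (tt N10838 (iv F130420)) (tt N7872 (iv D23235)) (tt N11169 (iv F202574)) (tt N11606 (iv F142812)) (tt N9616 F99594) (tt N7876 F99595) (tt N11609 D33880))
theorem Q9618 : ∀ i, i < 9618 → P i := stepQ 9617 Q9617 (allL N9617 (tt N11602 (iv F142605)) (tt N7926 F99596) (tt N11608 (iv F142822)) (tt N7873 F99597) (tt N11609 (iv F142831)) (tt N9617 F99598) (tt N11607 (iv F142816)) (tt N9617 F99599) (tt N11599 (iv F203296)) (tt N7872 (iv D23236)))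
theorem Q9619 : ∀ i, i < 9619 → P i := stepQ 9618 Q9618 (allL N9618 (tt N10519 (iv F202542)) (tt N7927 F99626) (tt N7962 (iv F203082)) (tt N7878 F99627) (tt N7874 (iv D23244)) (tt N11225 (iv F203218)) (tt N7876 F99628) (tt N7920 F202770) (tt N11606 (iv F142813)) (tt N10793 (iv F203006)))
theorem Q9620 : ∀ i, i < 9620 → P i := stepQ 9619 Q9619 (allL N9619 (tt N11121 (iv F202307)) (tt N7929 F99652) (tt N9619 F99653) (tt N7920 (iv F202517)) (tt N7877 (iv D23251)) (tt N11057 (iv F202519)) (tt N9619 F99654) (tt N7878 F99655) (tt N10855 (iv F130476)) (tt N10796 (iv F202295)))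
theorem Q9621 : ∀ i, i < 9621 → P i := stepQ 9620 Q9620 (allL N9620 (tt N11120 F202771) (tt N7930 F99661) (tt N9620 F99662) (tt N11225 (iv F203217)) (tt N11058 F202772) (tt N7878 (iv D23253)) (tt N11610 D33905) (tt N11057 F202773) (tt N10857 (iv F130484)) (tt N10795 (iv F203007)))
theorem Q9622 : ∀ i, i < 9622 → P i := stepQ 9621 Q9621 (allL N9621 (tt N10332 F202868) (tt N7931 F99670) (tt N9621 F99671) (tt N11321 (iv F202573)) (tt N7880 F99672) (tt N11610 (iv F142926)) (tt N7879 (iv D23256)) (tt N11611 D33908) (tt N10859 (iv F130496)) (tt N9957 F202869))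
theorem Q9623 : ∀ i, i < 9623 → P i := stepQ 9622 Q9622 (allL N9622 (tt N10334 F202870) (tt N7932 F99682) (tt N9622 F99683) (tt N9622 F99684) (tt N11611 (iv F142936)) (tt N11594 (iv F141237)) (tt N9622 F99685) (tt N7880 (iv D23259)) (tt N10861 (iv F130510)) (tt N9959 F202871))
theorem Q9624 : ∀ i, i < 9624 → P i := stepQ 9623 Q9623 (allL N9623 (tt N10915 (iv F201372)) (tt N10639 F197064) (tt N9623 F99888) (tt N10900 (iv F201369)) (tt N10909 (iv F130760)) (tt N9623 F99889) (tt N10636 F197065) (tt N7893 F99890) (tt N7884 (iv D23303)) (tt N11612 D33971))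
theorem Q9625 : ∀ i, i < 9625 → P i := stepQ 9624 Q9624 (allL N9624 (tt N7886 F100067) (tt N10900 F197059) (tt N9624 F100068) (tt N10639 (iv F201400)) (tt N10924 (iv F130933)) (tt N9624 F100069) (tt N10640 F201331) (tt N7896 F100070) (tt N7885 (iv D23347)) (tt N11613 D34038))
theorem Q9626 : ∀ i, i < 9626 → P i := stepQ 9625 Q9625 (allL N9625 (tt N11613 (iv F143481)) (tt N10952 (iv F201473)) (tt N9625 F100178) (tt N10654 (iv F201403)) (tt N10942 (iv F131039)) (tt N9625 F100179) (tt N10656 (iv F201406)) (tt N7899 F100180) (tt N11612 (iv F143218)) (tt N7886 (iv D23373)))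
theorem Q9627 : ∀ i, i < 9627 → P i := stepQ 9626 Q9626 (allL N9626 (tt N9804 F201785) (tt N10940 F201786) (tt N7971 F100218) (tt N10650 F201787) (tt N7888 F100219) (tt N7887 (iv D23386)) (tt N11614 D34097) (tt N7902 F100220) (tt N10953 (iv F131080)) (tt N9823 F201788))
theorem Q9628 : ∀ i, i < 9628 → P i := stepQ 9627 Q9627 (allL N9627 (tt N9805 F201985) (tt N11590 (iv F140188)) (tt N7972 F100227) (tt N9627 F100228) (tt N11614 (iv F143703)) (tt N9627 F100229) (tt N7888 (iv D23389)) (tt N11442 (iv F205437)) (tt N10955 (iv F131090)) (tt N9824 F201986))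
theorem Q9629 : ∀ i, i < 9629 → P i := stepQ 9628 Q9628 (allL N9628 (tt N7893 F100385) (tt N10930 F197896) (tt N9628 F100386) (tt N10914 F201725) (tt N10982 (iv F131238)) (tt N9628 F100387) (tt N11010 (iv F202202)) (tt N10915 F201726) (tt N7889 (iv D23428)) (tt N11615 D34160))
theorem Q9630 : ∀ i, i < 9630 → P i := stepQ 9629 Q9629 (allL N9629 (tt N11010 (iv F202200)) (tt N10697 F197885) (tt N9629 F100486) (tt N10988 (iv F202196)) (tt N10999 (iv F131334)) (tt N10800 (iv F198234)) (tt N7893 F100487) (tt N10691 F197886) (tt N7892 (iv D23452)) (tt N11616 D34195))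
theorem Q9631 : ∀ i, i < 9631 → P i := stepQ 9630 Q9630 (allL N9630 (tt N10914 F201721) (tt N7896 F201722) (tt N10907 F201723) (tt N7893 (iv D23453)) (tt N11032 (iv F202195)) (tt N9630 F100488) (tt N10988 (iv F202197)) (tt N10900 F201724) (tt N7894 F100489) (tt N11617 D34198))
theorem Q9632 : ∀ i, i < 9632 → P i := stepQ 9631 Q9631 (allL N9631 (tt N11615 (iv F143948)) (tt N11591 (iv F140796)) (tt N9631 F100490) (tt N11617 (iv F144097)) (tt N11001 (iv F131338)) (tt N9631 F100491) (tt N11616 (iv F144091)) (tt N11612 (iv F143217)) (tt N7899 F100492) (tt N7893 (iv D23454)))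
theorem Q9633 : ∀ i, i < 9633 → P i := stepQ 9632 Q9632 (allL N9632 (tt N7897 F100710) (tt N10988 F197879) (tt N9632 F100711) (tt N10697 F201872) (tt N11035 (iv F131549)) (tt N10815 (iv F202305)) (tt N7896 F100712) (tt N10698 F201873) (tt N7895 (iv D23519)) (tt N11618 D34296))
theorem Q9634 : ∀ i, i < 9634 → P i := stepQ 9633 Q9633 (allL N9633 (tt N7899 F100716) (tt N11617 (iv F202198)) (tt N9633 F100717) (tt N11591 (iv F202263)) (tt N11037 (iv F131555)) (tt N9633 F100718) (tt N11618 (iv F144423)) (tt N11613 (iv F143484)) (tt N11615 (iv F143951)) (tt N7896 (iv D23521)))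
theorem Q9635 : ∀ i, i < 9635 → P i := stepQ 9634 Q9634 (allL N9634 (tt N11618 (iv F144421)) (tt N11080 (iv F202206)) (tt N9634 F100848) (tt N10721 (iv F202193)) (tt N11061 (iv F131680)) (tt N10856 (iv F202520)) (tt N7899 F100849) (tt N10723 (iv F202266)) (tt N11616 (iv F144092)) (tt N7897 (iv D23556)))
theorem Q9636 : ∀ i, i < 9636 → P i := stepQ 9635 Q9635 (allL N9635 (tt N10672 F201799) (tt N10945 F201800) (tt N10660 (iv F202143)) (tt N11063 (iv F131684)) (tt N7898 (iv D23558)) (tt N11619 D34354) (tt N10715 (iv F202191)) (tt N10651 F201801) (tt N7900 F100853) (tt N11620 D34355))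
theorem Q9637 : ∀ i, i < 9637 → P i := stepQ 9636 Q9636 (allL N9636 (tt N11591 (iv F202262)) (tt N10951 F201808) (tt N10665 (iv F202144)) (tt N7899 F100854) (tt N11620 (iv F144628)) (tt N9636 F100855) (tt N10721 (iv F202194)) (tt N10654 F201809) (tt N11592 (iv F202192)) (tt N7898 (iv D23559)))
theorem Q9638 : ∀ i, i < 9638 → P i := stepQ 9637 Q9637 (allL N9637 (tt N9849 F201796) (tt N10943 F201797) (tt N10619 F205946) (tt N7902 F100886) (tt N9637 F100887) (tt N7900 (iv D23572)) (tt N11621 D34378) (tt N10650 F201798) (tt N11619 (iv F144627)) (tt N9877 (iv F202099)))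
theorem Q9639 : ∀ i, i < 9639 → P i := stepQ 9638 Q9638 (allL N9638 (tt N10673 F202502) (tt N11058 F202503) (tt N7983 F100897) (tt N10713 F202504) (tt N7930 F100898) (tt N7901 (iv D23577)) (tt N11622 D34384) (tt N10709 F202505) (tt N11081 (iv F131724)) (tt N10693 F202506))
theorem Q9640 : ∀ i, i < 9640 → P i := stepQ 9639 Q9639 (allL N9639 (tt N9850 F202700) (tt N11593 (iv F141224)) (tt N7984 F100905) (tt N11621 (iv F144683)) (tt N7903 F100906) (tt N11622 (iv F144700)) (tt N7902 (iv D23580)) (tt N11623 D34387) (tt N11083 (iv F131734)) (tt N9878 F202701))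
theorem Q9641 : ∀ i, i < 9641 → P i := stepQ 9640 Q9640 (allL N9640 (tt N9852 F202854) (tt N11594 (iv F141234)) (tt N7985 F100912) (tt N9640 F100913) (tt N11623 (iv F144708)) (tt N7932 F100914) (tt N11442 (iv F205436)) (tt N7903 (iv D23583)) (tt N11085 (iv F131743)) (tt N9880 F202855))
theorem Q9642 : ∀ i, i < 9642 → P i := stepQ 9641 Q9641 (allL N9641 (tt N7908 F101112) (tt N7917 F198736) (tt N7933 F101113) (tt N7906 F101114) (tt N11191 (iv F198904)) (tt N7904 (iv D23635)) (tt N9641 F101115) (tt N7913 F202713) (tt N11624 D34462) (tt N7916 F101116))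
theorem Q9643 : ∀ i, i < 9643 → P i := stepQ 9642 Q9642 (allL N9642 (tt N7909 F101117) (tt N7916 (iv F198289)) (tt N7934 F101118) (tt N7907 F101119) (tt N10518 (iv F203187)) (tt N7913 F202714) (tt N9642 F101120) (tt N7904 (iv D23636)) (tt N11625 D34463) (tt N7917 F101121))
theorem Q9644 : ∀ i, i < 9644 → P i := stepQ 9643 Q9643 (allL N9643 (tt N7910 F101122) (tt N11600 (iv F202549)) (tt N7935 F101123) (tt N11598 (iv F203166)) (tt N10382 (iv F203189)) (tt N11624 (iv F144990)) (tt N7905 F101124) (tt N11625 (iv F144995)) (tt N7904 (iv D23637)) (tt N11626 D34465))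
theorem Q9645 : ∀ i, i < 9645 → P i := stepQ 9644 Q9644 (allL N9644 (tt N7912 F101129) (tt N11602 (iv F202568)) (tt N7936 F101130) (tt N11599 (iv F203295)) (tt N10385 (iv F203374)) (tt N9644 F101131) (tt N11626 (iv F145001)) (tt N9644 F101132) (tt N7919 F101133) (tt N7905 (iv D23639)))
theorem Q9646 : ∀ i, i < 9646 → P i := stepQ 9645 Q9645 (allL N9645 (tt N11191 (iv F198903)) (tt N10803 F198703) (tt N7938 F101259) (tt N10796 F198704) (tt N7908 (iv D23668)) (tt N11133 (iv F132085)) (tt N9645 F101260) (tt N10793 F198705) (tt N11627 D34509) (tt N7920 F101261))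
theorem Q9647 : ∀ i, i < 9647 → P i := stepQ 9646 Q9646 (allL N9646 (tt N11624 (iv F144988)) (tt N11595 (iv F142191)) (tt N7940 F101266) (tt N11625 (iv F203151)) (tt N11627 (iv F145188)) (tt N7910 F101267) (tt N9646 F101268) (tt N11598 (iv F198340)) (tt N7908 (iv D23670)) (tt N11628 D34513))
theorem Q9648 : ∀ i, i < 9648 → P i := stepQ 9647 Q9647 (allL N9647 (tt N11625 (iv F144992)) (tt N11596 (iv F142195)) (tt N7941 F101269) (tt N11624 (iv F203148)) (tt N11136 (iv F132094)) (tt N11598 (iv F198339)) (tt N9647 F101270) (tt N7910 F101271) (tt N7909 (iv D23671)) (tt N11629 D34515))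
theorem Q9649 : ∀ i, i < 9649 → P i := stepQ 9648 Q9648 (allL N9648 (tt N11598 (iv F203165)) (tt N7918 (iv F203154)) (tt N11630 D34516) (tt N7910 (iv D23672)) (tt N11192 (iv F203192)) (tt N11625 (iv F203152)) (tt N7911 F101272) (tt N11624 (iv F203149)) (tt N7913 F101273) (tt N11631 D34518))
theorem Q9650 : ∀ i, i < 9650 → P i := stepQ 9649 Q9649 (allL N9649 (tt N11626 (iv F144999)) (tt N11597 (iv F142202)) (tt N7943 F101274) (tt N11631 (iv F145217)) (tt N11138 (iv F132100)) (tt N11628 (iv F145202)) (tt N7912 F101275) (tt N11629 (iv F145210)) (tt N7924 F101276) (tt N7910 (iv D23673)))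
theorem Q9651 : ∀ i, i < 9651 → P i := stepQ 9650 Q9650 (allL N9650 (tt N10309 F203069) (tt N7951 (iv F203401)) (tt N7911 (iv D23674)) (tt N7944 F101277) (tt N10531 (iv F193626)) (tt N9650 F101278) (tt N11630 (iv F145213)) (tt N9650 F101279) (tt N7914 F101280) (tt N11632 D34521))
theorem Q9652 : ∀ i, i < 9652 → P i := stepQ 9651 Q9651 (allL N9651 (tt N11599 (iv F203294)) (tt N7919 (iv F203277)) (tt N11632 (iv F145226)) (tt N7912 F101283) (tt N11193 (iv F203398)) (tt N9651 F101284) (tt N11631 (iv F145218)) (tt N9651 F101285) (tt N11602 (iv F202567)) (tt N7911 (iv D23676)))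
theorem Q9653 : ∀ i, i < 9653 → P i := stepQ 9652 Q9652 (allL N9652 (tt N7939 (iv F203164)) (tt N7950 (iv F203207)) (tt N7913 (iv D23683)) (tt N7915 F101306) (tt N10528 (iv F193625)) (tt N7934 (iv F203150)) (tt N7914 F101307) (tt N7933 (iv F203147)) (tt N11630 (iv F145214)) (tt N7958 F202765))
theorem Q9654 : ∀ i, i < 9654 → P i := stepQ 9653 Q9653 (allL N9653 (tt N7920 F101590) (tt N10518 (iv F203185)) (tt N7957 F101591) (tt N11121 F198698) (tt N7916 (iv D23762)) (tt N11195 (iv F132428)) (tt N9653 F101592) (tt N10519 F203028) (tt N11633 D34647) (tt N11191 (iv F198905)))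
theorem Q9655 : ∀ i, i < 9655 → P i := stepQ 9654 Q9654 (allL N9654 (tt N7921 F101597) (tt N11625 (iv F198335)) (tt N7959 F101598) (tt N11595 (iv F202315)) (tt N11633 (iv F145672)) (tt N7918 F101599) (tt N9654 F101600) (tt N11600 (iv F202553)) (tt N7916 (iv D23764)) (tt N11634 D34651))
theorem Q9656 : ∀ i, i < 9656 → P i := stepQ 9655 Q9655 (allL N9655 (tt N7922 F101601) (tt N11624 (iv F198936)) (tt N7960 F101602) (tt N11596 (iv F202293)) (tt N11198 (iv F132438)) (tt N11600 (iv F202552)) (tt N9655 F101603) (tt N7918 F101604) (tt N7917 (iv D23765)) (tt N11635 D34653))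
theorem Q9657 : ∀ i, i < 9657 → P i := stepQ 9656 Q9656 (allL N9656 (tt N7924 F101609) (tt N11631 (iv F203205)) (tt N7961 F101610) (tt N11597 (iv F203178)) (tt N11200 (iv F132446)) (tt N11634 (iv F145690)) (tt N7919 F101611) (tt N11635 (iv F145700)) (tt N11626 (iv F145002)) (tt N7918 (iv D23767)))
theorem Q9658 : ∀ i, i < 9658 → P i := stepQ 9657 Q9657 (allL N9657 (tt N11633 (iv F145670)) (tt N11603 (iv F142778)) (tt N7963 F101726) (tt N11636 D34689) (tt N7921 F101727) (tt N11226 (iv F132624)) (tt N9657 F101728) (tt N11606 (iv F203213)) (tt N7920 (iv D23796)) (tt N11637 D34690))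
theorem Q9659 : ∀ i, i < 9659 → P i := stepQ 9658 Q9658 (allL N9658 (tt N11634 (iv F145688)) (tt N11604 (iv F142795)) (tt N7965 F101740) (tt N11605 (iv F203171)) (tt N11637 (iv F145846)) (tt N7924 F101741) (tt N9658 F101742) (tt N11607 (iv F203216)) (tt N11628 (iv F145204)) (tt N7921 (iv D23800)))
theorem Q9660 : ∀ i, i < 9660 → P i := stepQ 9659 Q9659 (allL N9659 (tt N11635 (iv F145697)) (tt N11605 (iv F142803)) (tt N7966 F101747) (tt N11604 (iv F203175)) (tt N11232 (iv F132639)) (tt N11607 (iv F203215)) (tt N9659 F101748) (tt N7924 F101749) (tt N11629 (iv F145211)) (tt N7922 (iv D23802)))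
theorem Q9661 : ∀ i, i < 9661 → P i := stepQ 9660 Q9660 (allL N9660 (tt N10760 F203546) (tt N11606 (iv F142811)) (tt N9660 F101750) (tt N11234 (iv F132645)) (tt N7923 (iv D23803)) (tt N11638 D34698) (tt N7925 F101751) (tt N11603 (iv F203174)) (tt N7927 F101752) (tt N11639 D34699))
theorem Q9662 : ∀ i, i < 9662 → P i := stepQ 9661 Q9661 (allL N9661 (tt N11597 (iv F203177)) (tt N11607 (iv F142814)) (tt N9661 F101753) (tt N7924 F101754) (tt N11639 (iv F145877)) (tt N11605 (iv F203172)) (tt N7926 F101755) (tt N11604 (iv F203176)) (tt N11601 (iv F203167)) (tt N7923 (iv D23804)))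
theorem Q9663 : ∀ i, i < 9663 → P i := stepQ 9662 Q9662 (allL N9662 (tt N9925 F203695) (tt N11169 F203078) (tt N9662 F101756) (tt N11239 (iv F132660)) (tt N9662 F101757) (tt N7925 (iv D23805)) (tt N11640 D34701) (tt N9662 F101758) (tt N7928 F101759) (tt N11641 D34702))
theorem Q9664 : ∀ i, i < 9664 → P i := stepQ 9663 Q9663 (allL N9663 (tt N10762 F203711) (tt N11609 (iv F142830)) (tt N9663 F101760) (tt N11240 (iv F132663)) (tt N7926 F101761) (tt N11641 (iv F145887)) (tt N11639 (iv F145878)) (tt N9663 F101762) (tt N10806 F203712) (tt N7925 (iv D23806)))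
theorem Q9665 : ∀ i, i < 9665 → P i := stepQ 9664 Q9664 (allL N9664 (tt N10758 F203447) (tt N11225 F203448) (tt N9664 F101791) (tt N7930 F101792) (tt N10832 F203449) (tt N7927 (iv D23815)) (tt N11642 D34714) (tt N10831 F203450) (tt N11638 (iv F145875)) (tt N10802 F203451))
theorem Q9666 : ∀ i, i < 9666 → P i := stepQ 9665 Q9665 (allL N9665 (tt N9924 F203693) (tt N11321 F203077) (tt N9665 F101799) (tt N7931 F101800) (tt N9665 F101801) (tt N11642 (iv F145928)) (tt N7928 (iv D23818)) (tt N11643 D34717) (tt N11640 (iv F145884)) (tt N9965 F203694))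
theorem Q9667 : ∀ i, i < 9667 → P i := stepQ 9666 Q9666 (allL N9666 (tt N10763 F202499) (tt N11057 (iv F202518)) (tt N7986 F101810) (tt N10831 (iv F203001)) (tt N10709 F202500) (tt N7929 (iv D23821)) (tt N11644 D34721) (tt N7930 F101811) (tt N11266 (iv F132727)) (tt N10807 F202501))
theorem Q9668 : ∀ i, i < 9668 → P i := stepQ 9667 Q9667 (allL N9667 (tt N9926 F203452) (tt N11610 (iv F142924)) (tt N7987 F101819) (tt N11642 (iv F145927)) (tt N11622 (iv F144699)) (tt N7931 F101820) (tt N7930 (iv D23824)) (tt N11645 D34724) (tt N11268 (iv F132738)) (tt N9967 F203453))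
theorem Q9669 : ∀ i, i < 9669 → P i := stepQ 9668 Q9668 (allL N9668 (tt N9927 F203696) (tt N11611 (iv F142934)) (tt N7988 F101826) (tt N11643 (iv F145936)) (tt N7932 F101827) (tt N11645 (iv F145959)) (tt N9668 F101828) (tt N7931 (iv D23827)) (tt N11270 (iv F132748)) (tt N9968 F203697))
theorem Q9670 : ∀ i, i < 9670 → P i := stepQ 9669 Q9669 (allL N9669 (tt N7938 F101962) (tt N10506 (iv F203924)) (tt N11191 F199146) (tt N9669 F101963) (tt N7933 (iv D23857)) (tt N10517 (iv F203950)) (tt N9669 F101964) (tt N10528 F203622) (tt N11646 D34772) (tt N7957 F101965))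
theorem Q9671 : ∀ i, i < 9671 → P i := stepQ 9670 Q9670 (allL N9670 (tt N7940 F101970) (tt N10324 (iv F203955)) (tt N11624 (iv F144989)) (tt N10319 (iv F203960)) (tt N11646 (iv F146165)) (tt N7935 F101971) (tt N9670 F101972) (tt N11630 (iv F203204)) (tt N7933 (iv D23859)) (tt N11647 D34776))
theorem Q9672 : ∀ i, i < 9672 → P i := stepQ 9671 Q9671 (allL N9671 (tt N7941 F101973) (tt N10326 (iv F203928)) (tt N11625 (iv F144993)) (tt N10320 (iv F203937)) (tt N10380 (iv F203935)) (tt N11630 (iv F203203)) (tt N9671 F101974) (tt N7935 F101975) (tt N7934 (iv D23860)) (tt N11648 D34778))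
theorem Q9673 : ∀ i, i < 9673 → P i := stepQ 9672 Q9672 (allL N9672 (tt N7943 F101979) (tt N10329 (iv F203958)) (tt N11626 (iv F145000)) (tt N10321 (iv F203962)) (tt N10383 (iv F203954)) (tt N11647 (iv F146180)) (tt N7936 F101980) (tt N11648 (iv F146189)) (tt N7961 F101981) (tt N7935 (iv D23862)))
theorem Q9674 : ∀ i, i < 9674 → P i := stepQ 9673 Q9673 (allL N9673 (tt N10528 F203470) (tt N9673 F102092) (tt N10793 F198755) (tt N9673 F102093) (tt N7939 F102094) (tt N11309 (iv F133266)) (tt N10530 F203471) (tt N7938 (iv D23886)) (tt N11649 D34811) (tt N7962 F102095))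
theorem Q9675 : ∀ i, i < 9675 → P i := stepQ 9674 Q9674 (allL N9674 (tt N11646 (iv F146164)) (tt N9674 F102096) (tt N11627 (iv F145187)) (tt N11650 D34812) (tt N7940 F102097) (tt N11310 (iv F133270)) (tt N9674 F102098) (tt N11649 (iv F146338)) (tt N7938 (iv D23887)) (tt N11651 D34813))
theorem Q9676 : ∀ i, i < 9676 → P i := stepQ 9675 Q9675 (allL N9675 (tt N11630 (iv F203200)) (tt N9675 F102104) (tt N11598 (iv F198338)) (tt N10308 (iv F203879)) (tt N11649 (iv F146337)) (tt N7941 F102105) (tt N10309 F203748) (tt N7940 F102106) (tt N7939 (iv D23889)) (tt N11652 D34816))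
theorem Q9677 : ∀ i, i < 9677 → P i := stepQ 9676 Q9676 (allL N9676 (tt N10319 (iv F203959)) (tt N9676 F102107) (tt N10320 (iv F203896)) (tt N7940 (iv D23890)) (tt N10311 (iv F204058)) (tt N7942 F102108) (tt N9676 F102109) (tt N10308 (iv F203881)) (tt N7946 F102110) (tt N11653 D34819))
theorem Q9678 : ∀ i, i < 9678 → P i := stepQ 9677 Q9677 (allL N9677 (tt N11647 (iv F146179)) (tt N9677 F102111) (tt N11628 (iv F145201)) (tt N11653 (iv F146365)) (tt N11651 (iv F146343)) (tt N7943 F102112) (tt N9677 F102113) (tt N11652 (iv F146356)) (tt N7965 F102114) (tt N7940 (iv D23891)))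
theorem Q9679 : ∀ i, i < 9679 → P i := stepQ 9678 Q9678 (allL N9678 (tt N10320 (iv F203936)) (tt N9678 F102115) (tt N10319 (iv F203969)) (tt N7941 (iv D23892)) (tt N10306 (iv F204047)) (tt N10308 (iv F203880)) (tt N9678 F102116) (tt N7942 F102117) (tt N7947 F102118) (tt N11654 D34822))
theorem Q9680 : ∀ i, i < 9680 → P i := stepQ 9679 Q9679 (allL N9679 (tt N11648 (iv F146187)) (tt N9679 F102119) (tt N11629 (iv F145208)) (tt N11654 (iv F146377)) (tt N11314 (iv F133289)) (tt N11652 (iv F146355)) (tt N9679 F102120) (tt N7943 F102121) (tt N7966 F102122) (tt N7941 (iv D23893)))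
theorem Q9681 : ∀ i, i < 9681 → P i := stepQ 9680 Q9680 (allL N9680 (tt N10308 F203798) (tt N10323 (iv F204050)) (tt N7942 (iv D23894)) (tt N11630 (iv F145212)) (tt N10302 (iv F204055)) (tt N10320 (iv F203897)) (tt N7944 F102123) (tt N10319 (iv F203970)) (tt N7948 F102124) (tt N11655 D34825))
theorem Q9682 : ∀ i, i < 9682 → P i := stepQ 9681 Q9681 (allL N9681 (tt N10321 (iv F203961)) (tt N9681 F102128) (tt N11655 (iv F146387)) (tt N7943 F102129) (tt N10307 (iv F204057)) (tt N11653 (iv F146366)) (tt N7945 F102130) (tt N11654 (iv F146379)) (tt N9681 F102131) (tt N7942 (iv D23896)))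
theorem Q9683 : ∀ i, i < 9683 → P i := stepQ 9682 Q9682 (allL N9682 (tt N9682 F193621) (tt N7944 (iv D23897)) (tt N9682 F102132) (tt N7951 F203862) (tt N10299 (iv F204059)) (tt N9682 F102133) (tt N10323 (iv F204051)) (tt N9682 F102134) (tt N7949 F102135) (tt N11656 D34830))
theorem Q9684 : ∀ i, i < 9684 → P i := stepQ 9683 Q9683 (allL N9683 (tt N10310 F203846) (tt N11656 (iv F146404)) (tt N7945 F102139) (tt N11632 (iv F145227)) (tt N10304 (iv F204060)) (tt N9683 F102140) (tt N11655 (iv F146388)) (tt N9683 F102141) (tt N9683 F102142) (tt N7944 (iv D23899)))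
theorem Q9685 : ∀ i, i < 9685 → P i := stepQ 9684 Q9684 (allL N9684 (tt N9684 F102303) (tt N11630 (iv F203201)) (tt N7954 F102304) (tt N10323 (iv F204049)) (tt N10529 (iv F203963)) (tt N10326 (iv F203930)) (tt N7951 F102305) (tt N10324 (iv F203957)) (tt N7950 (iv D23935)) (tt N11657 D34877))
theorem Q9686 : ∀ i, i < 9686 → P i := stepQ 9685 Q9685 (allL N9685 (tt N9685 F102311) (tt N11632 (iv F203402)) (tt N7955 F102312) (tt N11656 (iv F204063)) (tt N10399 (iv F204061)) (tt N9685 F102313) (tt N11657 (iv F146614)) (tt N9685 F102314) (tt N10331 F203863) (tt N7951 (iv D23937)))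
theorem Q9687 : ∀ i, i < 9687 → P i := stepQ 9686 Q9686 (allL N9686 (tt N9686 F102323) (tt N7959 F102324) (tt N10326 (iv F203929)) (tt N9686 F102325) (tt N10392 (iv F204054)) (tt N7954 F102326) (tt N9686 F102327) (tt N10328 F203796) (tt N7952 (iv D23940)) (tt N11658 D34884))
theorem Q9688 : ∀ i, i < 9688 → P i := stepQ 9687 Q9687 (allL N9687 (tt N9687 F102328) (tt N7960 F102329) (tt N10324 (iv F203956)) (tt N9687 F102330) (tt N10527 (iv F203927)) (tt N10328 F203786) (tt N9687 F102331) (tt N7954 F102332) (tt N7953 (iv D23941)) (tt N11659 D34885))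
theorem Q9689 : ∀ i, i < 9689 → P i := stepQ 9688 Q9688 (allL N9688 (tt N9688 F102333) (tt N7961 F102334) (tt N11657 (iv F146613)) (tt N9688 F102335) (tt N10396 F204113) (tt N11658 (iv F146645)) (tt N7955 F102336) (tt N11659 (iv F146651)) (tt N10329 F204114) (tt N7954 (iv D23942)))
theorem Q9690 : ∀ i, i < 9690 → P i := stepQ 9689 Q9689 (allL N9689 (tt N7963 F102347) (tt N10392 (iv F204053)) (tt N11633 (iv F145671)) (tt N11660 D34888) (tt N7959 F102348) (tt N11340 (iv F133707)) (tt N9689 F102349) (tt N10394 F203878) (tt N7957 (iv D23945)) (tt N11661 D34889))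
theorem Q9691 : ∀ i, i < 9691 → P i := stepQ 9690 Q9690 (allL N9690 (tt N7964 F102354) (tt N10328 (iv F203463)) (tt N11600 (iv F202550)) (tt N9690 F102355) (tt N10394 (iv F203462)) (tt N7960 F102356) (tt N10330 F203031) (tt N7959 F102357) (tt N7958 (iv D23947)) (tt N11662 D34891))
theorem Q9692 : ∀ i, i < 9692 → P i := stepQ 9691 Q9691 (allL N9691 (tt N7965 F102358) (tt N11658 (iv F146643)) (tt N11634 (iv F145689)) (tt N9691 F102359) (tt N11661 (iv F146664)) (tt N7961 F102360) (tt N9691 F102361) (tt N11662 (iv F146674)) (tt N11647 (iv F146182)) (tt N7959 (iv D23948)))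
theorem Q9693 : ∀ i, i < 9693 → P i := stepQ 9692 Q9692 (allL N9692 (tt N7966 F102362) (tt N11659 (iv F146648)) (tt N11635 (iv F145698)) (tt N9692 F102363) (tt N11343 (iv F133725)) (tt N11662 (iv F146673)) (tt N9692 F102364) (tt N7961 F102365) (tt N11648 (iv F146190)) (tt N7960 (iv D23949)))
theorem Q9694 : ∀ i, i < 9694 → P i := stepQ 9693 Q9693 (allL N9693 (tt N10394 F203478) (tt N9693 F102370) (tt N11606 (iv F203211)) (tt N11663 D34894) (tt N7964 F102371) (tt N11351 (iv F133882)) (tt N10397 F203479) (tt N7963 F102372) (tt N7962 (iv D23951)) (tt N11664 D34895))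
theorem Q9695 : ∀ i, i < 9695 → P i := stepQ 9694 Q9694 (allL N9694 (tt N11660 (iv F146659)) (tt N9694 F102373) (tt N11665 D34896) (tt N7963 (iv D23952)) (tt N9694 F102374) (tt N11352 (iv F133885)) (tt N9694 F102375) (tt N11663 (iv F146685)) (tt N9694 F102376) (tt N11666 D34897))
theorem Q9696 : ∀ i, i < 9696 → P i := stepQ 9695 Q9695 (allL N9695 (tt N11661 (iv F146663)) (tt N9695 F102377) (tt N11637 (iv F145845)) (tt N11666 (iv F146694)) (tt N7965 F102378) (tt N11353 (iv F133889)) (tt N9695 F102379) (tt N11664 (iv F146689)) (tt N11651 (iv F146345)) (tt N7963 (iv D23953)))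
theorem Q9697 : ∀ i, i < 9697 → P i := stepQ 9696 Q9696 (allL N9696 (tt N11662 (iv F146671)) (tt N9696 F102385) (tt N11607 (iv F203214)) (tt N9696 F102386) (tt N11664 (iv F146688)) (tt N7966 F102387) (tt N11608 (iv F203291)) (tt N7965 F102388) (tt N11652 (iv F146357)) (tt N7964 (iv D23955)))
theorem Q9698 : ∀ i, i < 9698 → P i := stepQ 9697 Q9697 (allL N9697 (tt N9781 (iv F205680)) (tt N9697 F102655) (tt N10605 F202526) (tt N9828 F205600) (tt N7967 (iv D24015)) (tt N11667 D34992) (tt N9778 (iv F205725)) (tt N7977 F102656) (tt N7969 F102657) (tt N11668 D34993))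
theorem Q9699 : ∀ i, i < 9699 → P i := stepQ 9698 Q9698 (allL N9698 (tt N9774 (iv F205682)) (tt N9698 F102658) (tt N9775 F206114) (tt N7968 F102659) (tt N11668 (iv F147108)) (tt N7994 F102660) (tt N7996 (iv F205727)) (tt N7978 F102661) (tt N9772 F206115) (tt N7967 (iv D24016)))
theorem Q9700 : ∀ i, i < 9700 → P i := stepQ 9699 Q9699 (allL N9699 (tt N9773 F202522) (tt N9699 F102704) (tt N10604 F202523) (tt N7971 F102705) (tt N7996 F102706) (tt N7969 (iv D24028)) (tt N11668 (iv F205733)) (tt N7981 F102707) (tt N11667 (iv F147106)) (tt N9778 F202524))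
theorem Q9701 : ∀ i, i < 9701 → P i := stepQ 9700 Q9700 (allL N9700 (tt N10606 (iv F205709)) (tt N9700 F102724) (tt N9831 F201779) (tt N9779 (iv F202255)) (tt N9700 F102725) (tt N7970 (iv D24033)) (tt N11669 D35021) (tt N9795 (iv F202100)) (tt N10645 F205611) (tt N10643 (iv F201870)))
theorem Q9702 : ∀ i, i < 9702 → P i := stepQ 9701 Q9701 (allL N9701 (tt N9809 F202696) (tt N9701 F102733) (tt N11614 (iv F143702)) (tt N11668 (iv F205732)) (tt N7972 F102734) (tt N11669 (iv F147210)) (tt N7971 (iv D24036)) (tt N11444 (iv F205440)) (tt N11401 (iv F134588)) (tt N9828 F202697))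
theorem Q9703 : ∀ i, i < 9703 → P i := stepQ 9702 Q9702 (allL N9702 (tt N9799 (iv F205384)) (tt N9702 F103144) (tt N10616 F202669) (tt N9887 F205331) (tt N7974 (iv D24142)) (tt N11670 D35175) (tt N7977 F103145) (tt N9794 (iv F205426)) (tt N7979 F103146) (tt N11671 D35176))
theorem Q9704 : ∀ i, i < 9704 → P i := stepQ 9703 Q9703 (allL N9703 (tt N9787 (iv F205385)) (tt N9703 F103147) (tt N9788 F205769) (tt N7975 F103148) (tt N11671 (iv F147803)) (tt N9703 F103149) (tt N7978 F103150) (tt N7998 (iv F205427)) (tt N9784 F205770) (tt N7974 (iv D24143)))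
theorem Q9705 : ∀ i, i < 9705 → P i := stepQ 9704 Q9704 (allL N9704 (tt N10609 F202534) (tt N9793 (iv F206070)) (tt N7977 F103155) (tt N11672 D35181) (tt N7976 (iv D24145)) (tt N10611 (iv F206040)) (tt N10616 F202536) (tt N10605 F202537) (tt N7980 F103156) (tt N9786 (iv F206010)))
theorem Q9706 : ∀ i, i < 9706 → P i := stepQ 9705 Q9705 (allL N9705 (tt N9786 F203309) (tt N9705 F103160) (tt N10611 (iv F206039)) (tt N11443 (iv F135136)) (tt N7997 F103161) (tt N7977 (iv D24147)) (tt N11673 D35185) (tt N11667 (iv F147105)) (tt N7981 F103162) (tt N10609 (iv F206003)))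
theorem Q9707 : ∀ i, i < 9707 → P i := stepQ 9706 Q9706 (allL N9706 (tt N10611 F203310) (tt N9706 F103163) (tt N9786 (iv F206009)) (tt N11444 (iv F135140)) (tt N7978 F103164) (tt N10609 (iv F206002)) (tt N11671 (iv F147804)) (tt N11668 (iv F147109)) (tt N9783 F205968) (tt N7977 (iv D24148)))
theorem Q9708 : ∀ i, i < 9708 → P i := stepQ 9707 Q9707 (allL N9707 (tt N10610 F202664) (tt N9707 F103189) (tt N10614 F202665) (tt N7983 F103190) (tt N9707 F103191) (tt N7979 (iv D24156)) (tt N11674 D35200) (tt N10613 F202666) (tt N11670 (iv F147801)) (tt N10612 F202667))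
theorem Q9709 : ∀ i, i < 9709 → P i := stepQ 9708 Q9708 (allL N9708 (tt N9785 F203307) (tt N9708 F103215) (tt N10618 (iv F205729)) (tt N7984 F103216) (tt N7998 F103217) (tt N11674 (iv F147884)) (tt N7981 (iv D24165)) (tt N11671 (iv F205430)) (tt N11673 (iv F147832)) (tt N9794 F203308))
theorem Q9710 : ∀ i, i < 9710 → P i := stepQ 9709 Q9709 (allL N9709 (tt N10680 F202490) (tt N9709 F103224) (tt N10709 F202491) (tt N10613 F202492) (tt N7986 F103225) (tt N7982 (iv D24168)) (tt N11675 D35216) (tt N7983 F103226) (tt N11460 (iv F135222)) (tt N10702 F202493))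
theorem Q9711 : ∀ i, i < 9711 → P i := stepQ 9710 Q9710 (allL N9710 (tt N9857 F203441) (tt N9710 F103234) (tt N11622 (iv F144698)) (tt N11674 (iv F147882)) (tt N7987 F103235) (tt N7984 F103236) (tt N7983 (iv D24171)) (tt N11676 D35219) (tt N11462 (iv F135234)) (tt N9886 F203442))
theorem Q9712 : ∀ i, i < 9712 → P i := stepQ 9711 Q9711 (allL N9711 (tt N9858 F203543) (tt N9711 F103243) (tt N11623 (iv F144707)) (tt N11671 (iv F205429)) (tt N7985 F103244) (tt N11676 (iv F147941)) (tt N11444 (iv F205439)) (tt N7984 (iv D24174)) (tt N11464 (iv F135244)) (tt N9887 F203544))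
theorem Q9713 : ∀ i, i < 9713 → P i := stepQ 9712 Q9712 (allL N9712 (tt N10771 F203436) (tt N9712 F103499) (tt N11644 (iv F145949)) (tt N9712 F103500) (tt N11675 (iv F147931)) (tt N9712 F103501) (tt N7986 (iv D24240)) (tt N11677 D35305) (tt N11560 (iv F136039)) (tt N10820 F203437))
theorem Q9714 : ∀ i, i < 9714 → P i := stepQ 9713 Q9713 (allL N9713 (tt N9937 F204066) (tt N9713 F103510) (tt N11645 (iv F145958)) (tt N9713 F103511) (tt N11676 (iv F147940)) (tt N7988 F103512) (tt N11677 (iv F148274)) (tt N7987 (iv D24243)) (tt N11562 (iv F136050)) (tt N9980 F204067))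
theorem Q9715 : ∀ i, i < 9715 → P i := stepQ 9714 Q9714 (allL N9714 (tt N9770 F203522) (tt N9714 F103880) (tt N9769 F206157) (tt N9714 F103881) (tt N7990 (iv D24324)) (tt N9768 (iv F206078)) (tt N7993 F103882) (tt N9714 F103883) (tt N7995 F103884) (tt N9771 F206158))
theorem Q9716 : ∀ i, i < 9716 → P i := stepQ 9715 Q9715 (allL N9715 (tt N9769 (iv F206035)) (tt N9715 F103885) (tt N9770 F206221) (tt N7991 F103886) (tt N9771 F206222) (tt N7995 (iv F206076)) (tt N7994 F103887) (tt N9715 F103888) (tt N9768 F206223) (tt N7990 (iv D24325)))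
theorem Q9717 : ∀ i, i < 9717 → P i := stepQ 9716 Q9716 (allL N9716 (tt N9775 F203457) (tt N9716 F103899) (tt N9774 (iv F206042)) (tt N9716 F103900) (tt N11667 (iv F147104)) (tt N7993 (iv D24329)) (tt N9772 F205869) (tt N7997 F103901) (tt N7996 F103902) (tt N9780 (iv F206004)))
theorem Q9718 : ∀ i, i < 9718 → P i := stepQ 9717 Q9717 (allL N9717 (tt N9788 F204034) (tt N9717 F104395) (tt N9787 (iv F205730)) (tt N9717 F104396) (tt N11673 (iv F147831)) (tt N9717 F104397) (tt N7997 (iv D24447)) (tt N9784 F205599) (tt N7998 F104398) (tt N9797 (iv F205731)))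
theorem Q9719 : ∀ i, i < 9719 → P i := stepQ 9718 Q9718 (allL N9718 (tt N8011 F121013) (tt N9718 F121014) (tt N9416 F205233) (tt N8121 F121015) (tt N9718 F121016) (tt N9403 F205234) (tt N9718 F121017) (tt N8017 F121018) (tt N9718 F121019) (tt N8008 (iv D28517)))
theorem Q9720 : ∀ i, i < 9720 → P i := stepQ 9719 Q9719 (allL N9719 (tt N9415 F205164) (tt N9719 F121041) (tt N8125 F121042) (tt N8009 (iv D28522)) (tt N11678 D41535) (tt N9398 F205165) (tt N9719 F121043) (tt N8019 F121044) (tt N9719 F121045) (tt N11679 D41536))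
theorem Q9721 : ∀ i, i < 9721 → P i := stepQ 9720 Q9720 (allL N9720 (tt N9416 F205216) (tt N9720 F121046) (tt N8011 F121047) (tt N11679 (iv F173547)) (tt N9720 F121048) (tt N9399 F205217) (tt N9720 F121049) (tt N8020 F121050) (tt N9720 F121051) (tt N8009 (iv D28523)))
theorem Q9722 : ∀ i, i < 9722 → P i := stepQ 9721 Q9721 (allL N9721 (tt N9403 F205212) (tt N8014 F121068) (tt N9399 F205213) (tt N8131 F121069) (tt N9397 (iv F205320)) (tt N8011 F121070) (tt N9396 (iv F205275)) (tt N8023 F121071) (tt N9721 F121072) (tt N8010 (iv D28528)))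
theorem Q9723 : ∀ i, i < 9723 → P i := stepQ 9722 Q9722 (allL N9722 (tt N9722 F121091) (tt N9397 F205413) (tt N9722 F121092) (tt N8758 (iv F205555)) (tt N8014 F121093) (tt N9722 F121094) (tt N8747 (iv F205478)) (tt N8026 F121095) (tt N9722 F121096) (tt N8012 (iv D28533)))
theorem Q9724 : ∀ i, i < 9724 → P i := stepQ 9723 Q9723 (allL N9723 (tt N9723 F121103) (tt N9396 F205370) (tt N9723 F121104) (tt N8138 F121105) (tt N8747 (iv F205477)) (tt N9723 F121106) (tt N8014 F121107) (tt N8793 F205371) (tt N9723 F121108) (tt N8013 (iv D28535)))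
theorem Q9725 : ∀ i, i < 9725 → P i := stepQ 9724 Q9724 (allL N9724 (tt N8019 F121131) (tt N9424 F205025) (tt N8161 F121132) (tt N8015 (iv D28541)) (tt N11680 D41564) (tt N9417 F205026) (tt N8031 F121133) (tt N9415 (iv F205091)) (tt N9724 F121134) (tt N11681 D41565))
theorem Q9726 : ∀ i, i < 9726 → P i := stepQ 9725 Q9725 (allL N9725 (tt N8020 F121135) (tt N9425 (iv F205089)) (tt N8017 F121136) (tt N11681 (iv F173681)) (tt N9725 F121137) (tt N9418 F205074) (tt N8032 F121138) (tt N9416 (iv F205149)) (tt N9725 F121139) (tt N8015 (iv D28542)))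
theorem Q9727 : ∀ i, i < 9727 → P i := stepQ 9726 Q9726 (allL N9726 (tt N8023 F121158) (tt N9726 F121159) (tt N9418 F205079) (tt N8167 F121160) (tt N9408 (iv F205152)) (tt N8017 F121161) (tt N9454 F205080) (tt N9403 (iv F205153)) (tt N9726 F121162) (tt N8016 (iv D28547)))
theorem Q9728 : ∀ i, i < 9728 → P i := stepQ 9727 Q9727 (allL N9727 (tt N9417 F205056) (tt N9727 F121184) (tt N8173 F121185) (tt N8018 (iv D28553)) (tt N11682 D41583) (tt N8019 F121186) (tt N9443 F205057) (tt N9398 (iv F205131)) (tt N9727 F121187) (tt N11683 D41584))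
theorem Q9729 : ∀ i, i < 9729 → P i := stepQ 9728 Q9728 (allL N9728 (tt N9418 F205060) (tt N9728 F121188) (tt N8023 F121189) (tt N11683 (iv F173762)) (tt N9402 (iv F205132)) (tt N8020 F121190) (tt N9444 F205061) (tt N9399 (iv F205135)) (tt N9728 F121191) (tt N8018 (iv D28554)))
theorem Q9730 : ∀ i, i < 9730 → P i := stepQ 9729 Q9729 (allL N9729 (tt N11680 (iv F173674)) (tt N9729 F121192) (tt N8175 F121193) (tt N9729 F121194) (tt N8019 (iv D28555)) (tt N11684 D41585) (tt N8040 F121195) (tt N11678 (iv F173543)) (tt N9729 F121196) (tt N11685 D41586))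
theorem Q9731 : ∀ i, i < 9731 → P i := stepQ 9730 Q9730 (allL N9730 (tt N11681 (iv F173679)) (tt N9730 F121197) (tt N8176 F121198) (tt N8020 F121199) (tt N11685 (iv F173771)) (tt N11683 (iv F173763)) (tt N8041 F121200) (tt N11679 (iv F173549)) (tt N11686 D41587) (tt N8019 (iv D28556)))
theorem Q9732 : ∀ i, i < 9732 → P i := stepQ 9731 Q9731 (allL N9731 (tt N9407 F205205) (tt N8025 F121211) (tt N9595 (iv F205314)) (tt N8021 (iv D28560)) (tt N8180 F121212) (tt N9731 F121213) (tt N8806 F205206) (tt N8755 (iv F205315)) (tt N8754 (iv F205316)) (tt N11687 D41594))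
theorem Q9733 : ∀ i, i < 9733 → P i := stepQ 9732 Q9732 (allL N9732 (tt N9408 F205209) (tt N8026 F121214) (tt N9402 F205210) (tt N11687 (iv F173799)) (tt N8023 F121215) (tt N9732 F121216) (tt N9440 F205211) (tt N9397 (iv F205321)) (tt N9732 F121217) (tt N8021 (iv D28561)))
theorem Q9734 : ∀ i, i < 9734 → P i := stepQ 9733 Q9733 (allL N9733 (tt N9454 F205052) (tt N8028 F121222) (tt N9444 F205053) (tt N8183 F121223) (tt N9440 (iv F205121)) (tt N8046 F121224) (tt N8023 F121225) (tt N9437 (iv F205107)) (tt N9733 F121226) (tt N8022 (iv D28563)))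
theorem Q9735 : ∀ i, i < 9735 → P i := stepQ 9734 Q9734 (allL N9734 (tt N9734 F121244) (tt N9440 F205201) (tt N9734 F121245) (tt N8812 (iv F205300)) (tt N8028 F121246) (tt N8869 F205202) (tt N8026 F121247) (tt N8794 (iv F205250)) (tt N9734 F121248) (tt N8024 (iv D28568)))
theorem Q9736 : ∀ i, i < 9736 → P i := stepQ 9735 Q9735 (allL N9735 (tt N9735 F121253) (tt N11687 (iv F173798)) (tt N8997 (iv F205554)) (tt N8026 F121254) (tt N8190 F121255) (tt N9735 F121256) (tt N8812 F205412) (tt N8758 (iv F205556)) (tt N8792 (iv F205557)) (tt N8025 (iv D28570)))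
theorem Q9737 : ∀ i, i < 9737 → P i := stepQ 9736 Q9736 (allL N9736 (tt N9736 F121257) (tt N9437 F205183) (tt N9736 F121258) (tt N8191 F121259) (tt N8794 (iv F205249)) (tt N8053 F121260) (tt N8793 (iv F205255)) (tt N8028 F121261) (tt N9736 F121262) (tt N8027 (iv D28571)))
theorem Q9738 : ∀ i, i < 9738 → P i := stepQ 9737 Q9737 (allL N9737 (tt N9737 F121279) (tt N8031 F121280) (tt N11688 D41614) (tt N8029 (iv D28575)) (tt N11689 D41615) (tt N9395 (iv F203702)) (tt N9424 (iv F204986)) (tt N9737 F121281) (tt N9737 F121282) (tt N11690 D41616))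
theorem Q9739 : ∀ i, i < 9739 → P i := stepQ 9738 Q9738 (allL N9738 (tt N9738 F121283) (tt N8032 F121284) (tt N9738 F121285) (tt N11690 (iv F173904)) (tt N9738 F121286) (tt N9485 F205024) (tt N9425 (iv F205090)) (tt N9738 F121287) (tt N9738 F121288) (tt N8029 (iv D28576)))
theorem Q9740 : ∀ i, i < 9740 → P i := stepQ 9739 Q9739 (allL N9739 (tt N8038 F121312) (tt N9395 (iv F203701)) (tt N8225 F121313) (tt N8030 (iv D28582)) (tt N9394 (iv F203704)) (tt N8031 F121314) (tt N9472 F204934) (tt N9739 F121315) (tt N9739 F121316) (tt N11691 D41628))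
theorem Q9741 : ∀ i, i < 9741 → P i := stepQ 9740 Q9740 (allL N9740 (tt N8039 F121317) (tt N9485 (iv F204984)) (tt N8035 F121318) (tt N11691 (iv F173956)) (tt N9554 F204974) (tt N8032 F121319) (tt N9473 F204975) (tt N9740 F121320) (tt N9740 F121321) (tt N8030 (iv D28583)))
theorem Q9742 : ∀ i, i < 9742 → P i := stepQ 9741 Q9741 (allL N9741 (tt N8040 F121322) (tt N11689 (iv F173898)) (tt N8227 F121323) (tt N9741 F121324) (tt N8031 (iv D28584)) (tt N11692 D41629) (tt N11680 (iv F173677)) (tt N9741 F121325) (tt N9741 F121326) (tt N11693 D41630))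
theorem Q9743 : ∀ i, i < 9743 → P i := stepQ 9742 Q9742 (allL N9742 (tt N8041 F121327) (tt N11690 (iv F173903)) (tt N8228 F121328) (tt N8032 F121329) (tt N11693 (iv F173967)) (tt N11691 (iv F173957)) (tt N11681 (iv F173682)) (tt N9742 F121330) (tt N11694 D41631) (tt N8031 (iv D28585)))
theorem Q9744 : ∀ i, i < 9744 → P i := stepQ 9743 Q9743 (allL N9743 (tt N8043 F121346) (tt N9743 F121347) (tt N9590 (iv F204237)) (tt N8033 (iv D28589)) (tt N8232 F121348) (tt N9743 F121349) (tt N9524 F204971) (tt N9743 F121350) (tt N9743 F121351) (tt N11695 D41638))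
theorem Q9745 : ∀ i, i < 9745 → P i := stepQ 9744 Q9744 (allL N9744 (tt N8044 F121352) (tt N9744 F121353) (tt N9554 F204972) (tt N11695 (iv F174005)) (tt N8035 F121354) (tt N9744 F121355) (tt N9525 F204973) (tt N9744 F121356) (tt N9744 F121357) (tt N8033 (iv D28590)))
theorem Q9746 : ∀ i, i < 9746 → P i := stepQ 9745 Q9745 (allL N9745 (tt N8046 F121363) (tt N9745 F121364) (tt N9473 F204978) (tt N8235 F121365) (tt N9525 F204979) (tt N9454 (iv F205016)) (tt N8035 F121366) (tt N9453 (iv F205010)) (tt N9745 F121367) (tt N8034 (iv D28592)))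
theorem Q9747 : ∀ i, i < 9747 → P i := stepQ 9746 Q9746 (allL N9746 (tt N9554 F204952) (tt N9746 F121394) (tt N8044 F121395) (tt N9574 (iv F204251)) (tt N8039 F121396) (tt N9746 F121397) (tt N9512 F204953) (tt N9746 F121398) (tt N9746 F121399) (tt N8036 (iv D28599)))
theorem Q9748 : ∀ i, i < 9748 → P i := stepQ 9747 Q9747 (allL N9747 (tt N9472 F204958) (tt N9747 F121404) (tt N8244 F121405) (tt N8037 (iv D28601)) (tt N11696 D41655) (tt N9443 (iv F205003)) (tt N8038 F121406) (tt N9441 (iv F204996)) (tt N9747 F121407) (tt N11697 D41656))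
theorem Q9749 : ∀ i, i < 9749 → P i := stepQ 9748 Q9748 (allL N9748 (tt N9473 F204960) (tt N9748 F121408) (tt N8046 F121409) (tt N11697 (iv F174086)) (tt N9512 F204961) (tt N9444 (iv F205006)) (tt N8039 F121410) (tt N9442 (iv F204997)) (tt N9748 F121411) (tt N8037 (iv D28602)))
theorem Q9750 : ∀ i, i < 9750 → P i := stepQ 9749 Q9749 (allL N9749 (tt N9394 F204014) (tt N9749 F121412) (tt N8246 F121413) (tt N9393 (iv F204249)) (tt N8038 (iv D28603)) (tt N11698 D41657) (tt N11696 (iv F174082)) (tt N9749 F121414) (tt N9749 F121415) (tt N11699 D41658))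
theorem Q9751 : ∀ i, i < 9751 → P i := stepQ 9750 Q9750 (allL N9750 (tt N11691 (iv F173954)) (tt N9750 F121416) (tt N8247 F121417) (tt N8039 F121418) (tt N11699 (iv F174095)) (tt N8041 F121419) (tt N11697 (iv F174087)) (tt N9750 F121420) (tt N11700 D41659) (tt N8038 (iv D28604)))
theorem Q9752 : ∀ i, i < 9752 → P i := stepQ 9751 Q9751 (allL N9751 (tt N11692 (iv F173959)) (tt N9751 F121421) (tt N8248 F121422) (tt N9751 F121423) (tt N11698 (iv F174090)) (tt N8040 (iv D28605)) (tt N11701 D41660) (tt N9751 F121424) (tt N9751 F121425) (tt N11702 D41661))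
theorem Q9753 : ∀ i, i < 9753 → P i := stepQ 9752 Q9752 (allL N9752 (tt N11693 (iv F173964)) (tt N9752 F121426) (tt N8249 F121427) (tt N9752 F121428) (tt N8041 F121429) (tt N11702 (iv F174110)) (tt N11685 (iv F173772)) (tt N9752 F121430) (tt N11703 D41662) (tt N8040 (iv D28606)))
theorem Q9754 : ∀ i, i < 9754 → P i := stepQ 9753 Q9753 (allL N9753 (tt N11694 (iv F173969)) (tt N9753 F121431) (tt N8250 F121432) (tt N9753 F121433) (tt N11703 (iv F174114)) (tt N11700 (iv F174100)) (tt N11686 (iv F173776)) (tt N9753 F121434) (tt N8041 (iv D28607)) (tt N9753 F121435))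
theorem Q9755 : ∀ i, i < 9755 → P i := stepQ 9754 Q9754 (allL N9754 (tt N9524 F204954) (tt N8049 F121447) (tt N11704 D41669) (tt N8042 (iv D28611)) (tt N8254 F121448) (tt N9504 (iv F204999)) (tt N8043 F121449) (tt N9502 (iv F204994)) (tt N9754 F121450) (tt N11705 D41670))
theorem Q9756 : ∀ i, i < 9756 → P i := stepQ 9755 Q9755 (allL N9755 (tt N9525 F204956) (tt N8050 F121451) (tt N9512 F204957) (tt N11705 (iv F174147)) (tt N8046 F121452) (tt N9505 (iv F205002)) (tt N8044 F121453) (tt N9503 (iv F204995)) (tt N9755 F121454) (tt N8042 (iv D28612)))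
theorem Q9757 : ∀ i, i < 9757 → P i := stepQ 9756 Q9756 (allL N9756 (tt N9590 F204375) (tt N11706 D41671) (tt N8043 (iv D28613)) (tt N9589 F204376) (tt N8256 F121455) (tt N9756 F121456) (tt N11704 (iv F174144)) (tt N9756 F121457) (tt N9756 F121458) (tt N11707 D41672))
theorem Q9758 : ∀ i, i < 9758 → P i := stepQ 9757 Q9757 (allL N9757 (tt N11695 (iv F174003)) (tt N8052 F121459) (tt N11707 (iv F174155)) (tt N8044 F121460) (tt N8257 F121461) (tt N9757 F121462) (tt N11705 (iv F174149)) (tt N9757 F121463) (tt N11708 D41673) (tt N8043 (iv D28614)))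
theorem Q9759 : ∀ i, i < 9759 → P i := stepQ 9758 Q9758 (allL N9758 (tt N9453 F205041) (tt N8053 F121464) (tt N9442 F205042) (tt N8258 F121465) (tt N9503 F205043) (tt N9437 (iv F205106)) (tt N9758 F121466) (tt N8046 F121467) (tt N9758 F121468) (tt N8045 (iv D28615)))
theorem Q9760 : ∀ i, i < 9760 → P i := stepQ 9759 Q9759 (allL N9759 (tt N9759 F121479) (tt N9504 F205048) (tt N11709 D41677) (tt N8047 (iv D28618)) (tt N8891 (iv F205112)) (tt N8049 F121480) (tt N9759 F121481) (tt N8865 (iv F205097)) (tt N9759 F121482) (tt N11710 D41679))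
theorem Q9761 : ∀ i, i < 9761 → P i := stepQ 9760 Q9760 (allL N9760 (tt N9760 F121483) (tt N9505 F205050) (tt N9760 F121484) (tt N11710 (iv F174189)) (tt N8869 (iv F205117)) (tt N8050 F121485) (tt N9760 F121486) (tt N8866 (iv F205099)) (tt N9760 F121487) (tt N8047 (iv D28619)))
theorem Q9762 : ∀ i, i < 9762 → P i := stepQ 9761 Q9761 (allL N9761 (tt N9761 F121488) (tt N9502 F205035) (tt N11711 D41680) (tt N8048 (iv D28620)) (tt N8263 F121489) (tt N8865 (iv F205096)) (tt N9761 F121490) (tt N8049 F121491) (tt N9761 F121492) (tt N11712 D41681))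
theorem Q9763 : ∀ i, i < 9763 → P i := stepQ 9762 Q9762 (allL N9762 (tt N9762 F121493) (tt N9503 F205036) (tt N9762 F121494) (tt N11712 (iv F174199)) (tt N8053 F121495) (tt N8866 (iv F205098)) (tt N9762 F121496) (tt N8050 F121497) (tt N9762 F121498) (tt N8048 (iv D28621)))
theorem Q9764 : ∀ i, i < 9764 → P i := stepQ 9763 Q9763 (allL N9763 (tt N9763 F121499) (tt N11713 D41682) (tt N8049 (iv D28622)) (tt N9763 F121500) (tt N8265 F121501) (tt N11709 (iv F174181)) (tt N8051 F121502) (tt N11711 (iv F174196)) (tt N9763 F121503) (tt N11714 D41683))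
theorem Q9765 : ∀ i, i < 9765 → P i := stepQ 9764 Q9764 (allL N9764 (tt N9764 F121504) (tt N11705 (iv F174146)) (tt N11714 (iv F174208)) (tt N8050 F121505) (tt N8266 F121506) (tt N11710 (iv F174190)) (tt N8052 F121507) (tt N11712 (iv F174202)) (tt N11715 D41684) (tt N8049 (iv D28623)))
theorem Q9766 : ∀ i, i < 9766 → P i := stepQ 9765 Q9765 (allL N9765 (tt N11716 D41685) (tt N8051 (iv D28624)) (tt N11706 (iv F174150)) (tt N9765 F121508) (tt N8267 F121509) (tt N9765 F121510) (tt N11713 (iv F174205)) (tt N9765 F121511) (tt N9765 F121512) (tt N11717 D41686))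
theorem Q9767 : ∀ i, i < 9767 → P i := stepQ 9766 Q9766 (allL N9766 (tt N9766 F121513) (tt N11717 (iv F174223)) (tt N8052 F121514) (tt N9766 F121515) (tt N8268 F121516) (tt N9766 F121517) (tt N11714 (iv F174211)) (tt N9766 F121518) (tt N11718 D41687) (tt N8051 (iv D28625)))
theorem Q9768 : ∀ i, i < 9768 → P i := stepQ 9767 Q9767 (allL N9767 (tt N9767 F121519) (tt N11708 (iv F174159)) (tt N11718 (iv F174229)) (tt N9767 F121520) (tt N8269 F121521) (tt N9767 F121522) (tt N11715 (iv F174215)) (tt N9767 F121523) (tt N8052 (iv D28626)) (tt N9767 F121524))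
theorem Q9769 : ∀ i, i < 9769 → P i := stepQ 9768 Q9768 (allL N9768 (tt N8707 F195807) (tt N9768 F121538) (tt N8054 (iv D28629)) (tt N9768 F121539) (tt N8706 F121540) (tt N9714 F206078) (tt N8064 F121541) (tt N9768 F121542) (tt N9715 (iv F206223)) (tt N8061 F121543))
theorem Q9770 : ∀ i, i < 9770 → P i := stepQ 9769 Q9769 (allL N9769 (tt N9715 F206035) (tt N8056 F121544) (tt N9714 (iv F206157)) (tt N8055 F121545) (tt N8708 (iv F206224)) (tt N8054 (iv D28630)) (tt N8712 F206038) (tt N9769 F121546) (tt N8707 (iv F206153)) (tt N8062 F121547))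
theorem Q9771 : ∀ i, i < 9771 → P i := stepQ 9770 Q9770 (allL N9770 (tt N9714 (iv F203522)) (tt N8057 F121548) (tt N9715 (iv F206221)) (tt N9770 F121549) (tt N8062 F206034) (tt N8707 (iv F206152)) (tt N8066 F121551) (tt N9770 F121552) (tt N8054 (iv D28631)) (tt N8708 (iv F206225)))
theorem Q9772 : ∀ i, i < 9772 → P i := stepQ 9771 Q9771 (allL N9771 (tt N8708 F206030) (tt N9771 F121608) (tt N8062 F121609) (tt N9771 F121610) (tt N9715 (iv F206222)) (tt N8061 (iv D28642)) (tt N8710 F206032) (tt N9771 F121611) (tt N8706 (iv F206151)) (tt N9714 (iv F206158)))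
theorem Q9773 : ∀ i, i < 9773 → P i := stepQ 9772 Q9772 (allL N9772 (tt N8718 F206005) (tt N9772 F121679) (tt N8065 F121680) (tt N9772 F121681) (tt N11719 D41737) (tt N8064 (iv D28658)) (tt N9716 (iv F205869)) (tt N8080 F121682) (tt N9698 (iv F206115)) (tt N8074 F121683))
theorem Q9774 : ∀ i, i < 9774 → P i := stepQ 9773 Q9773 (allL N9773 (tt N9699 (iv F202522)) (tt N8068 F121688) (tt N11719 (iv F174474)) (tt N8105 F121689) (tt N8065 (iv D28660)) (tt N8711 F121690) (tt N11720 D41742) (tt N8081 F121691) (tt N11721 D41743) (tt N8075 F121692))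
theorem Q9775 : ∀ i, i < 9775 → P i := stepQ 9774 Q9774 (allL N9774 (tt N9698 F205682) (tt N8069 F121693) (tt N9716 F206042) (tt N8067 F121694) (tt N11720 (iv F174497)) (tt N8712 (iv F205858)) (tt N8065 (iv D28661)) (tt N8727 F205683) (tt N8718 (iv F205867)) (tt N8076 F121695))
theorem Q9776 : ∀ i, i < 9776 → P i := stepQ 9775 Q9775 (allL N9775 (tt N9716 (iv F203457)) (tt N8070 F121696) (tt N9698 (iv F206114)) (tt N9775 F121697) (tt N11721 (iv F174500)) (tt N8066 F121698) (tt N8718 F206006) (tt N8083 F121699) (tt N8065 (iv D28662)) (tt N8717 (iv F206105)))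
theorem Q9777 : ∀ i, i < 9777 → P i := stepQ 9776 Q9776 (allL N9776 (tt N9776 F121711) (tt N11720 (iv F174495)) (tt N9776 F121712) (tt N8110 F121713) (tt N8069 F121714) (tt N8720 F206248) (tt N8068 (iv D28665)) (tt N8729 F206019) (tt N8719 F206249) (tt N8078 F121715))
theorem Q9778 : ∀ i, i < 9778 → P i := stepQ 9777 Q9777 (allL N9777 (tt N9777 F121716) (tt N11721 (iv F174499)) (tt N9777 F121717) (tt N8132 F206017) (tt N8070 F121718) (tt N8078 F206018) (tt N8719 (iv F206123)) (tt N8086 F121720) (tt N8068 (iv D28666)) (tt N8720 (iv F206125)))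
theorem Q9779 : ∀ i, i < 9779 → P i := stepQ 9778 Q9778 (allL N9778 (tt N8075 F121749) (tt N9778 F121750) (tt N8716 (iv F205948)) (tt N8118 F121751) (tt N8073 (iv D28673)) (tt N8713 F121752) (tt N9697 F205725) (tt N8090 F121753) (tt N8714 F205726) (tt N9699 (iv F202524)))
theorem Q9780 : ∀ i, i < 9780 → P i := stepQ 9779 Q9779 (allL N9779 (tt N8716 (iv F205947)) (tt N9779 F121770) (tt N8075 F121771) (tt N9700 F202255) (tt N8074 (iv D28678)) (tt N8714 F121772) (tt N11722 D41767) (tt N8092 F121773) (tt N8713 (iv F205955)) (tt N11719 (iv F174477)))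
theorem Q9781 : ∀ i, i < 9781 → P i := stepQ 9780 Q9780 (allL N9780 (tt N8717 F205678) (tt N9780 F121774) (tt N8076 F121775) (tt N9780 F121776) (tt N11722 (iv F174606)) (tt N8710 (iv F205857)) (tt N8074 (iv D28679)) (tt N8724 F205679) (tt N8709 (iv F205850)) (tt N9716 F206004))
theorem Q9782 : ∀ i, i < 9782 → P i := stepQ 9781 Q9781 (allL N9781 (tt N9697 F205680) (tt N8078 F121788) (tt N11722 (iv F174605)) (tt N8127 F121789) (tt N8076 F121790) (tt N11721 (iv F205863)) (tt N8075 (iv D28683)) (tt N8726 F205681) (tt N8711 (iv F205852)) (tt N11720 (iv F174498)))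
theorem Q9783 : ∀ i, i < 9783 → P i := stepQ 9782 Q9782 (allL N9782 (tt N8714 F205711) (tt N8079 F121791) (tt N8713 (iv F205954)) (tt N8752 F205712) (tt N8077 F121792) (tt N8716 F121793) (tt N8711 (iv F205851)) (tt N8095 F121794) (tt N8075 (iv D28684)) (tt N8715 (iv F205956)))
theorem Q9784 : ∀ i, i < 9784 → P i := stepQ 9783 Q9783 (allL N9783 (tt N8737 (iv F205957)) (tt N9783 F121873) (tt N8081 F121874) (tt N11723 D41802) (tt N8080 (iv D28703)) (tt N8722 F121875) (tt N11724 D41803) (tt N11719 (iv F174476)) (tt N9706 (iv F205968)) (tt N8092 F121876))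
theorem Q9785 : ∀ i, i < 9785 → P i := stepQ 9784 Q9784 (allL N9784 (tt N8739 F205640) (tt N9784 F121877) (tt N8082 F121878) (tt N9784 F121879) (tt N11724 (iv F174752)) (tt N9784 F121880) (tt N8080 (iv D28704)) (tt N9717 (iv F205599)) (tt N9703 (iv F205770)) (tt N8093 F121881))
theorem Q9786 : ∀ i, i < 9786 → P i := stepQ 9785 Q9785 (allL N9785 (tt N9708 (iv F203307)) (tt N8085 F121894) (tt N11724 (iv F174751)) (tt N8144 F121895) (tt N8082 F121896) (tt N11725 D41811) (tt N8081 (iv D28708)) (tt N11726 D41812) (tt N11727 D41813) (tt N8094 F121897))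
theorem Q9787 : ∀ i, i < 9787 → P i := stepQ 9786 Q9786 (allL N9786 (tt N9705 (iv F203309)) (tt N8086 F121898) (tt N9706 F206009) (tt N11728 D41814) (tt N8083 F121899) (tt N8726 F121900) (tt N11727 (iv F174795)) (tt N11721 (iv F174502)) (tt N8081 (iv D28709)) (tt N9704 F206010))
theorem Q9788 : ∀ i, i < 9788 → P i := stepQ 9787 Q9787 (allL N9787 (tt N9703 F205385) (tt N8087 F121901) (tt N9717 F205730) (tt N8084 F121902) (tt N11726 (iv F174791)) (tt N9787 F121903) (tt N8727 (iv F205507)) (tt N8082 (iv D28710)) (tt N8739 (iv F205514)) (tt N8096 F121904))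
theorem Q9789 : ∀ i, i < 9789 → P i := stepQ 9788 Q9788 (allL N9788 (tt N9717 (iv F204034)) (tt N8088 F121905) (tt N9703 (iv F205769)) (tt N9788 F121906) (tt N11727 (iv F174794)) (tt N9788 F121907) (tt N8083 F121908) (tt N8739 F205641) (tt N8082 (iv D28711)) (tt N8738 (iv F205758)))
theorem Q9790 : ∀ i, i < 9790 → P i := stepQ 9789 Q9789 (allL N9789 (tt N9789 F121913) (tt N11725 (iv F174784)) (tt N9789 F121914) (tt N8149 F121915) (tt N9789 F121916) (tt N8085 (iv D28713)) (tt N8728 F121917) (tt N11729 D41818) (tt N11730 D41819) (tt N8098 F121918))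
theorem Q9791 : ∀ i, i < 9791 → P i := stepQ 9790 Q9790 (allL N9790 (tt N9790 F121919) (tt N11726 (iv F174789)) (tt N9790 F121920) (tt N8150 F121921) (tt N8087 F121922) (tt N11729 (iv F174817)) (tt N8729 (iv F205788)) (tt N8085 (iv D28714)) (tt N8744 (iv F205794)) (tt N8099 F121923))
theorem Q9792 : ∀ i, i < 9792 → P i := stepQ 9791 Q9791 (allL N9791 (tt N9791 F121924) (tt N11727 (iv F174793)) (tt N9791 F121925) (tt N11731 D41821) (tt N8088 F121926) (tt N11730 (iv F174822)) (tt N8086 F121927) (tt N8744 (iv F205793)) (tt N8085 (iv D28715)) (tt N8742 (iv F205938)))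
theorem Q9793 : ∀ i, i < 9793 → P i := stepQ 9792 Q9792 (allL N9792 (tt N9792 F121928) (tt N11728 (iv F174796)) (tt N8339 (iv F205797)) (tt N8086 (iv D28716)) (tt N9792 F121929) (tt N8133 F205661) (tt N11731 (iv F174830)) (tt N8132 (iv F205795)) (tt N8152 F121931) (tt N11732 D41824))
theorem Q9794 : ∀ i, i < 9794 → P i := stepQ 9793 Q9793 (allL N9793 (tt N9793 F121932) (tt N9704 F206070) (tt N9793 F121933) (tt N11732 (iv F174843)) (tt N8089 F121934) (tt N8729 F121935) (tt N8742 F206071) (tt N8720 (iv F206124)) (tt N8102 F121936) (tt N8086 (iv D28717)))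
theorem Q9795 : ∀ i, i < 9795 → P i := stepQ 9794 Q9794 (allL N9794 (tt N8094 F121974) (tt N9794 F121975) (tt N8735 (iv F205595)) (tt N8163 F121976) (tt N8091 F121977) (tt N11733 D41840) (tt N8090 (iv D28727)) (tt N9702 F205426) (tt N8732 (iv F205463)) (tt N9708 (iv F203308)))
theorem Q9796 : ∀ i, i < 9796 → P i := stepQ 9795 Q9795 (allL N9795 (tt N8736 (iv F205581)) (tt N9795 F121993) (tt N8168 F121994) (tt N8092 (iv D28732)) (tt N9795 F121995) (tt N8731 F121996) (tt N11734 D41847) (tt N9700 F202100) (tt N8828 F205444) (tt N11723 (iv F174749)))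
theorem Q9797 : ∀ i, i < 9797 → P i := stepQ 9796 Q9796 (allL N9796 (tt N8735 F205638) (tt N9796 F121997) (tt N8094 F121998) (tt N11734 (iv F174937)) (tt N8093 F121999) (tt N11735 D41849) (tt N8092 (iv D28733)) (tt N11736 D41850) (tt N8730 F205639) (tt N11724 (iv F174753)))
theorem Q9798 : ∀ i, i < 9798 → P i := stepQ 9797 Q9797 (allL N9797 (tt N8738 F205383) (tt N9797 F122004) (tt N8096 F122005) (tt N9797 F122006) (tt N11736 (iv F174949)) (tt N9797 F122007) (tt N8724 (iv F205504)) (tt N8093 (iv D28735)) (tt N8723 (iv F205496)) (tt N9717 F205731))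
theorem Q9799 : ∀ i, i < 9799 → P i := stepQ 9798 Q9798 (allL N9798 (tt N11733 (iv F174906)) (tt N8098 F122025) (tt N11735 (iv F174944)) (tt N8177 F122026) (tt N9798 F122027) (tt N8094 (iv D28741)) (tt N8733 F122028) (tt N11737 D41862) (tt N11738 D41863) (tt N11725 (iv F174788)))
theorem Q9800 : ∀ i, i < 9800 → P i := stepQ 9799 Q9799 (allL N9799 (tt N9702 F205384) (tt N8099 F122029) (tt N11736 (iv F174948)) (tt N8178 F122030) (tt N8096 F122031) (tt N11737 (iv F174990)) (tt N8726 (iv F205506)) (tt N8094 (iv D28742)) (tt N8725 (iv F205498)) (tt N11726 (iv F174792)))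
theorem Q9801 : ∀ i, i < 9801 → P i := stepQ 9800 Q9800 (allL N9800 (tt N8732 (iv F205462)) (tt N8100 F122032) (tt N8730 (iv F205583)) (tt N8802 F205421) (tt N8097 F122033) (tt N11738 (iv F174993)) (tt N8095 F122034) (tt N8725 (iv F205497)) (tt N8094 (iv D28743)) (tt N8734 (iv F205589)))
theorem Q9802 : ∀ i, i < 9802 → P i := stepQ 9801 Q9801 (allL N9801 (tt N8731 F205418) (tt N8101 F122035) (tt N8817 (iv F205571)) (tt N8095 (iv D28744)) (tt N8754 F205419) (tt N8736 F122036) (tt N8802 F205420) (tt N8752 (iv F205575)) (tt N8180 F122037) (tt N8780 (iv F205582)))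
theorem Q9803 : ∀ i, i < 9803 → P i := stepQ 9802 Q9802 (allL N9802 (tt N9802 F122047) (tt N11737 (iv F174987)) (tt N9802 F122048) (tt N8184 F122049) (tt N9802 F122050) (tt N8099 F122051) (tt N11730 (iv F205790)) (tt N8098 (iv D28748)) (tt N8728 (iv F205780)) (tt N11729 (iv F174818)))
theorem Q9804 : ∀ i, i < 9804 → P i := stepQ 9803 Q9803 (allL N9803 (tt N9803 F122052) (tt N11738 (iv F174991)) (tt N9803 F122053) (tt N8808 F205689) (tt N9803 F122054) (tt N8100 F122055) (tt N8741 F122056) (tt N8728 (iv F205779)) (tt N8098 (iv D28749)) (tt N8740 (iv F205896)))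
theorem Q9805 : ∀ i, i < 9805 → P i := stepQ 9804 Q9804 (allL N9804 (tt N9626 (iv F201785)) (tt N8294 F122125) (tt N8105 F122126) (tt N11739 D41893) (tt N8103 (iv D28764)) (tt N8748 F122127) (tt N11740 D41894) (tt N8139 F122128) (tt N11741 D41895) (tt N8122 F122129))
theorem Q9806 : ∀ i, i < 9806 → P i := stepQ 9805 Q9805 (allL N9805 (tt N9627 (iv F201985)) (tt N8295 F122130) (tt N8106 F122131) (tt N9805 F122132) (tt N11740 (iv F175125)) (tt N9805 F122133) (tt N8103 (iv D28765)) (tt N11742 D41896) (tt N11743 D41897) (tt N8123 F122134))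
theorem Q9807 : ∀ i, i < 9807 → P i := stepQ 9806 Q9806 (allL N9806 (tt N9025 (iv F201972)) (tt N8296 F122135) (tt N8107 F122136) (tt N11744 D41898) (tt N11741 (iv F175129)) (tt N8104 F122137) (tt N11743 (iv F175141)) (tt N8141 F122138) (tt N8103 (iv D28766)) (tt N11745 D41899))
theorem Q9808 : ∀ i, i < 9808 → P i := stepQ 9807 Q9807 (allL N9807 (tt N8330 (iv F201971)) (tt N8297 F122139) (tt N9807 F122140) (tt N8104 (iv D28767)) (tt N8316 (iv F201965)) (tt N11744 (iv F175144)) (tt N9807 F122141) (tt N8142 F122142) (tt N9807 F122143) (tt N11746 D41901))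
theorem Q9809 : ∀ i, i < 9809 → P i := stepQ 9808 Q9808 (allL N9808 (tt N9026 (iv F201973)) (tt N8298 F122144) (tt N8108 F122145) (tt N11746 (iv F175160)) (tt N8751 F122146) (tt N11745 (iv F175149)) (tt N9808 F122147) (tt N8143 F122148) (tt N8126 F122149) (tt N8104 (iv D28768)))
theorem Q9810 : ∀ i, i < 9810 → P i := stepQ 9809 Q9809 (allL N9809 (tt N9701 (iv F202696)) (tt N8110 F122150) (tt N11740 (iv F175124)) (tt N11720 (iv F174496)) (tt N8106 F122151) (tt N11747 D41902) (tt N8105 (iv D28769)) (tt N11748 D41903) (tt N11749 D41904) (tt N8127 F122152))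
theorem Q9811 : ∀ i, i < 9811 → P i := stepQ 9810 Q9810 (allL N9810 (tt N9411 (iv F202693)) (tt N8111 F122153) (tt N11741 (iv F175128)) (tt N11750 D41905) (tt N8107 F122154) (tt N8753 F122155) (tt N11749 (iv F175173)) (tt N8145 F122156) (tt N8105 (iv D28770)) (tt N11751 D41906))
theorem Q9812 : ∀ i, i < 9812 → P i := stepQ 9811 Q9811 (allL N9811 (tt N9452 F205390) (tt N8112 F122157) (tt N11742 (iv F175133)) (tt N8109 F122158) (tt N11748 (iv F175168)) (tt N9811 F122159) (tt N8146 F122160) (tt N8106 (iv D28771)) (tt N11752 D41907) (tt N8129 F122161))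
theorem Q9813 : ∀ i, i < 9813 → P i := stepQ 9812 Q9812 (allL N9812 (tt N9413 (iv F202846)) (tt N8113 F122162) (tt N11743 (iv F175139)) (tt N9812 F122163) (tt N11749 (iv F175172)) (tt N9812 F122164) (tt N8107 F122165) (tt N11752 (iv F175187)) (tt N8106 (iv D28772)) (tt N11753 D41908))
theorem Q9814 : ∀ i, i < 9814 → P i := stepQ 9813 Q9813 (allL N9813 (tt N9414 (iv F202847)) (tt N8114 F122166) (tt N11745 (iv F175148)) (tt N9813 F122167) (tt N11751 (iv F175179)) (tt N8108 F122168) (tt N11753 (iv F175191)) (tt N8148 F122169) (tt N8131 F122170) (tt N8107 (iv D28773)))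
theorem Q9815 : ∀ i, i < 9815 → P i := stepQ 9814 Q9814 (allL N9814 (tt N9814 F122171) (tt N11747 (iv F175163)) (tt N8304 F122172) (tt N8720 (iv F206212)) (tt N9814 F122173) (tt N8110 (iv D28774)) (tt N8721 F206061) (tt N11732 (iv F205804)) (tt N8788 F206062) (tt N8132 F122175))
theorem Q9816 : ∀ i, i < 9816 → P i := stepQ 9815 Q9815 (allL N9815 (tt N9815 F122176) (tt N11748 (iv F175167)) (tt N8305 F122177) (tt N8729 (iv F205787)) (tt N8112 F122178) (tt N11732 (iv F205803)) (tt N8150 F122179) (tt N8110 (iv D28775)) (tt N11754 D41911) (tt N8133 F122180))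
theorem Q9817 : ∀ i, i < 9817 → P i := stepQ 9816 Q9816 (allL N9816 (tt N9816 F122181) (tt N11749 (iv F175171)) (tt N8306 F122182) (tt N8786 F206023) (tt N8113 F122183) (tt N8788 F206024) (tt N8111 F122184) (tt N11754 (iv F175207)) (tt N8110 (iv D28776)) (tt N11755 D41913))
theorem Q9818 : ∀ i, i < 9818 → P i := stepQ 9817 Q9817 (allL N9817 (tt N9817 F122185) (tt N11750 (iv F175174)) (tt N8340 (iv F205815)) (tt N8111 (iv D28777)) (tt N9817 F122186) (tt N8134 F205666) (tt N8786 (iv F205817)) (tt N8152 F122188) (tt N8132 (iv F205796)) (tt N11756 D41915))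
theorem Q9819 : ∀ i, i < 9819 → P i := stepQ 9818 Q9818 (allL N9818 (tt N9818 F122189) (tt N11751 (iv F175178)) (tt N8308 F122190) (tt N11756 (iv F175222)) (tt N8114 F122191) (tt N8757 F122192) (tt N11755 (iv F175214)) (tt N8153 F122193) (tt N8136 F122194) (tt N8111 (iv D28778)))
theorem Q9820 : ∀ i, i < 9820 → P i := stepQ 9819 Q9819 (allL N9819 (tt N9819 F122195) (tt N11752 (iv F175183)) (tt N8309 F122196) (tt N9819 F122197) (tt N11754 (iv F175205)) (tt N9819 F122198) (tt N8154 F122199) (tt N8113 F122200) (tt N8112 (iv D28779)) (tt N11757 D41916))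
theorem Q9821 : ∀ i, i < 9821 → P i := stepQ 9820 Q9820 (allL N9820 (tt N9820 F122201) (tt N11753 (iv F175188)) (tt N8310 F122202) (tt N9820 F122203) (tt N11755 (iv F175213)) (tt N9820 F122204) (tt N8114 F122205) (tt N11757 (iv F175231)) (tt N8138 F122206) (tt N8113 (iv D28780)))
theorem Q9822 : ∀ i, i < 9822 → P i := stepQ 9821 Q9821 (allL N9821 (tt N8311 F122207) (tt N8116 F122208) (tt N9821 F122209) (tt N9821 F122210) (tt N11758 D41917) (tt N8115 (iv D28781)) (tt N11759 D41918) (tt N8156 F122211) (tt N11760 D41919) (tt N9593 F201344))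
theorem Q9823 : ∀ i, i < 9823 → P i := stepQ 9822 Q9822 (allL N9822 (tt N8312 F122212) (tt N8117 F122213) (tt N9822 F122214) (tt N11761 D41920) (tt N8760 F122215) (tt N11760 (iv F175246)) (tt N9822 F122216) (tt N8157 F122217) (tt N8115 (iv D28782)) (tt N11762 D41921))
theorem Q9824 : ∀ i, i < 9824 → P i := stepQ 9823 Q9823 (allL N9823 (tt N8122 F122218) (tt N11758 (iv F175234)) (tt N8118 F122219) (tt N11763 D41922) (tt N8116 (iv D28783)) (tt N8761 F122220) (tt N11764 D41923) (tt N8158 F122221) (tt N11765 D41924) (tt N9626 (iv F201788)))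
theorem Q9825 : ∀ i, i < 9825 → P i := stepQ 9824 Q9824 (allL N9824 (tt N8123 F122222) (tt N11759 (iv F175239)) (tt N8119 F122223) (tt N9824 F122224) (tt N11764 (iv F175265)) (tt N9824 F122225) (tt N8116 (iv D28784)) (tt N9450 F205431) (tt N9404 F205432) (tt N9627 (iv F201986)))
theorem Q9826 : ∀ i, i < 9826 → P i := stepQ 9825 Q9825 (allL N9825 (tt N8124 F122226) (tt N11760 (iv F175244)) (tt N8120 F122227) (tt N9419 F205237) (tt N11765 (iv F175268)) (tt N8117 F122228) (tt N9404 (iv F205338)) (tt N8160 F122229) (tt N8116 (iv D28785)) (tt N11766 D41928))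
theorem Q9827 : ∀ i, i < 9827 → P i := stepQ 9826 Q9826 (allL N9826 (tt N8125 F122230) (tt N11761 (iv F175249)) (tt N9415 F205166) (tt N8117 (iv D28786)) (tt N11767 D41929) (tt N9419 F205167) (tt N9826 F122231) (tt N8161 F122232) (tt N9826 F122233) (tt N11768 D41930))
theorem Q9828 : ∀ i, i < 9828 → P i := stepQ 9827 Q9827 (allL N9827 (tt N8126 F122234) (tt N11762 (iv F175254)) (tt N8121 F122235) (tt N11768 (iv F175294)) (tt N8765 F122236) (tt N11766 (iv F175286)) (tt N9827 F122237) (tt N8162 F122238) (tt N9026 (iv F201974)) (tt N8117 (iv D28787)))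
theorem Q9829 : ∀ i, i < 9829 → P i := stepQ 9828 Q9828 (allL N9828 (tt N8127 F122239) (tt N9828 F122240) (tt N11764 (iv F175264)) (tt N9697 (iv F205600)) (tt N8119 F122241) (tt N11769 D41931) (tt N8118 (iv D28788)) (tt N9451 F205433) (tt N9405 F205434) (tt N9701 (iv F202697)))
theorem Q9830 : ∀ i, i < 9830 → P i := stepQ 9829 Q9829 (allL N9829 (tt N8128 F122242) (tt N9829 F122243) (tt N11765 (iv F175267)) (tt N9409 (iv F205342)) (tt N8120 F122244) (tt N8767 F122245) (tt N9405 (iv F205339)) (tt N8164 F122246) (tt N8118 (iv D28789)) (tt N11770 D41935))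
theorem Q9831 : ∀ i, i < 9831 → P i := stepQ 9830 Q9830 (allL N9830 (tt N8131 F122256) (tt N9830 F122257) (tt N11766 (iv F175285)) (tt N9403 F205238) (tt N11770 (iv F175315)) (tt N8121 F122258) (tt N9406 (iv F205340)) (tt N8167 F122259) (tt N9414 (iv F202848)) (tt N8120 (iv D28792)))
theorem Q9832 : ∀ i, i < 9832 → P i := stepQ 9831 Q9831 (allL N9831 (tt N11763 (iv F175259)) (tt N8323 F122260) (tt N9700 (iv F201779)) (tt N8122 (iv D28793)) (tt N9831 F122261) (tt N8771 F122262) (tt N11771 D41938) (tt N8168 F122263) (tt N11772 D41939) (tt N11739 (iv F175122)))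
theorem Q9833 : ∀ i, i < 9833 → P i := stepQ 9832 Q9832 (allL N9832 (tt N11764 (iv F175263)) (tt N8324 F122264) (tt N8127 F122265) (tt N11771 (iv F175328)) (tt N8123 F122266) (tt N11773 D41940) (tt N8122 (iv D28794)) (tt N11774 D41941) (tt N11775 D41942) (tt N11740 (iv F175126)))
theorem Q9834 : ∀ i, i < 9834 → P i := stepQ 9833 Q9833 (allL N9833 (tt N11765 (iv F175266)) (tt N8325 F122267) (tt N8128 F122268) (tt N11776 D41943) (tt N8124 F122269) (tt N8773 F122270) (tt N11775 (iv F175345)) (tt N8170 F122271) (tt N8122 (iv D28795)) (tt N11777 D41944))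
theorem Q9835 : ∀ i, i < 9835 → P i := stepQ 9834 Q9834 (allL N9834 (tt N9450 F205386) (tt N8326 F122272) (tt N8129 F122273) (tt N9834 F122274) (tt N11774 (iv F175340)) (tt N9834 F122275) (tt N8171 F122276) (tt N8123 (iv D28796)) (tt N9438 F205387) (tt N11742 (iv F175137)))
theorem Q9836 : ∀ i, i < 9836 → P i := stepQ 9835 Q9835 (allL N9835 (tt N9404 F205391) (tt N8327 F122277) (tt N8130 F122278) (tt N9400 F205392) (tt N11775 (iv F175344)) (tt N9835 F122279) (tt N8124 F122280) (tt N9438 F205393) (tt N8123 (iv D28797)) (tt N11778 D41947))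
theorem Q9837 : ∀ i, i < 9837 → P i := stepQ 9836 Q9836 (allL N9836 (tt N9419 F205214) (tt N8328 F122281) (tt N9398 F205215) (tt N8124 (iv D28798)) (tt N11779 D41948) (tt N8125 F122282) (tt N9400 (iv F205325)) (tt N8173 F122283) (tt N9836 F122284) (tt N11780 D41949))
theorem Q9838 : ∀ i, i < 9838 → P i := stepQ 9837 Q9837 (allL N9837 (tt N11766 (iv F175284)) (tt N8329 F122285) (tt N8131 F122286) (tt N11780 (iv F175371)) (tt N11777 (iv F175351)) (tt N8126 F122287) (tt N11778 (iv F175366)) (tt N8174 F122288) (tt N11745 (iv F175151)) (tt N8124 (iv D28799)))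
theorem Q9839 : ∀ i, i < 9839 → P i := stepQ 9838 Q9838 (allL N9838 (tt N11767 (iv F175288)) (tt N8330 F122289) (tt N11678 (iv F173540)) (tt N8777 F122290) (tt N8125 (iv D28800)) (tt N11781 D41950) (tt N9838 F122291) (tt N8175 F122292) (tt N9838 F122293) (tt N11782 D41951))
theorem Q9840 : ∀ i, i < 9840 → P i := stepQ 9839 Q9839 (allL N9839 (tt N11768 (iv F175293)) (tt N8331 F122294) (tt N11679 (iv F173546)) (tt N8126 F122295) (tt N11782 (iv F175380)) (tt N11780 (iv F175372)) (tt N9839 F122296) (tt N8176 F122297) (tt N11783 D41952) (tt N8125 (iv D28801)))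
theorem Q9841 : ∀ i, i < 9841 → P i := stepQ 9840 Q9840 (allL N9840 (tt N11769 (iv F175297)) (tt N8132 F122298) (tt N11773 (iv F175335)) (tt N11721 (iv F205862)) (tt N9840 F122299) (tt N8127 (iv D28802)) (tt N8779 F122300) (tt N11728 (iv F205517)) (tt N11750 (iv F205524)) (tt N11747 (iv F175166)))
theorem Q9842 : ∀ i, i < 9842 → P i := stepQ 9841 Q9841 (allL N9841 (tt N9451 F205388) (tt N8133 F122301) (tt N11774 (iv F175339)) (tt N8726 (iv F205505)) (tt N8129 F122302) (tt N11728 (iv F205516)) (tt N8178 F122303) (tt N8127 (iv D28803)) (tt N8804 F205389) (tt N11748 (iv F175170)))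
theorem Q9843 : ∀ i, i < 9843 → P i := stepQ 9842 Q9842 (allL N9842 (tt N9405 F205394) (tt N8134 F122304) (tt N11775 (iv F175343)) (tt N8753 (iv F205520)) (tt N8130 F122305) (tt N11750 (iv F205522)) (tt N8128 F122306) (tt N8804 F205395) (tt N8127 (iv D28804)) (tt N11784 D41957))
theorem Q9844 : ∀ i, i < 9844 → P i := stepQ 9843 Q9843 (allL N9843 (tt N9409 F205416) (tt N8135 F122307) (tt N11785 D41958) (tt N8128 (iv D28805)) (tt N8755 F205417) (tt N8782 F122308) (tt N8753 (iv F205521)) (tt N8180 F122309) (tt N8752 (iv F205576)) (tt N11786 D41959))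
theorem Q9845 : ∀ i, i < 9845 → P i := stepQ 9844 Q9844 (allL N9844 (tt N11770 (iv F175313)) (tt N8136 F122310) (tt N11777 (iv F175350)) (tt N11786 (iv F175406)) (tt N8131 F122311) (tt N8783 F122312) (tt N11784 (iv F175402)) (tt N8181 F122313) (tt N11751 (iv F175182)) (tt N8128 (iv D28806)))
theorem Q9846 : ∀ i, i < 9846 → P i := stepQ 9845 Q9845 (allL N9845 (tt N9406 F205396) (tt N8138 F122318) (tt N11778 (iv F175364)) (tt N9396 F205397) (tt N11784 (iv F175401)) (tt N9845 F122319) (tt N8131 F122320) (tt N9439 F205398) (tt N11753 (iv F175192)) (tt N8130 (iv D28808)))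
theorem Q9847 : ∀ i, i < 9847 → P i := stepQ 9846 Q9846 (allL N9846 (tt N9846 F122337) (tt N11784 (iv F175400)) (tt N8343 F122338) (tt N8757 (iv F205807)) (tt N8138 F122339) (tt N11756 (iv F205819)) (tt N8136 F122340) (tt N8811 F205667) (tt N11755 (iv F175215)) (tt N8134 (iv D28813)))
theorem Q9848 : ∀ i, i < 9848 → P i := stepQ 9847 Q9847 (allL N9847 (tt N9847 F122345) (tt N11786 (iv F175405)) (tt N8995 (iv F205918)) (tt N8136 F122346) (tt N8758 F205702) (tt N8791 F122347) (tt N8757 (iv F205808)) (tt N8190 F122348) (tt N8789 (iv F205926)) (tt N8135 (iv D28815)))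
theorem Q9849 : ∀ i, i < 9849 → P i := stepQ 9848 Q9848 (allL N9848 (tt N9848 F122349) (tt N9439 F205374) (tt N8346 F122350) (tt N8793 F205375) (tt N8811 (iv F205485)) (tt N9848 F122351) (tt N8191 F122352) (tt N8138 F122353) (tt N11757 (iv F175232)) (tt N8137 (iv D28816)))
theorem Q9850 : ∀ i, i < 9850 → P i := stepQ 9849 Q9849 (allL N9849 (tt N9637 (iv F201796)) (tt N8384 F122408) (tt N11723 (iv F174746)) (tt N8139 (iv D28829)) (tt N9849 F122409) (tt N8795 F122410) (tt N11787 D41993) (tt N11739 (iv F175121)) (tt N11788 D41994) (tt N8168 F122411))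
theorem Q9851 : ∀ i, i < 9851 → P i := stepQ 9850 Q9850 (allL N9850 (tt N9639 (iv F202700)) (tt N8385 F122412) (tt N8144 F122413) (tt N11787 (iv F175553)) (tt N8140 F122414) (tt N11789 D41995) (tt N8139 (iv D28830)) (tt N11790 D41996) (tt N11791 D41997) (tt N8169 F122415))
theorem Q9852 : ∀ i, i < 9852 → P i := stepQ 9851 Q9851 (allL N9851 (tt N9127 (iv F202689)) (tt N8386 F122416) (tt N8145 F122417) (tt N11792 D41998) (tt N8141 F122418) (tt N8797 F122419) (tt N11791 (iv F175571)) (tt N11741 (iv F175131)) (tt N8139 (iv D28831)) (tt N11793 D41999))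
theorem Q9853 : ∀ i, i < 9853 → P i := stepQ 9852 Q9852 (allL N9852 (tt N9640 (iv F202854)) (tt N8387 F122420) (tt N8146 F122421) (tt N9852 F122422) (tt N11790 (iv F175566)) (tt N8195 F122423) (tt N11742 (iv F175136)) (tt N8140 (iv D28832)) (tt N11794 D42000) (tt N8171 F122424))
theorem Q9854 : ∀ i, i < 9854 → P i := stepQ 9853 Q9853 (allL N9853 (tt N9129 (iv F202811)) (tt N8388 F122425) (tt N8147 F122426) (tt N11795 D42001) (tt N11791 (iv F175570)) (tt N8196 F122427) (tt N8141 F122428) (tt N11794 (iv F175582)) (tt N8140 (iv D28833)) (tt N11796 D42002))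
theorem Q9855 : ∀ i, i < 9855 → P i := stepQ 9854 Q9854 (allL N9854 (tt N8439 (iv F202796)) (tt N8389 F122429) (tt N9854 F122430) (tt N8141 (iv D28834)) (tt N11797 D42003) (tt N8142 F122431) (tt N11795 (iv F175586)) (tt N11744 (iv F175145)) (tt N9854 F122432) (tt N11798 D42004))
theorem Q9856 : ∀ i, i < 9856 → P i := stepQ 9855 Q9855 (allL N9855 (tt N9130 (iv F202812)) (tt N8390 F122433) (tt N8148 F122434) (tt N11798 (iv F175598)) (tt N11793 (iv F175576)) (tt N8143 F122435) (tt N11796 (iv F175591)) (tt N11745 (iv F175150)) (tt N8174 F122436) (tt N8141 (iv D28835)))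
theorem Q9857 : ∀ i, i < 9857 → P i := stepQ 9856 Q9856 (allL N9856 (tt N8440 (iv F202797)) (tt N8392 F122442) (tt N9856 F122443) (tt N8143 F122444) (tt N8419 (iv F202790)) (tt N11798 (iv F175599)) (tt N8199 F122445) (tt N11746 (iv F175162)) (tt N11799 D42007) (tt N8142 (iv D28837)))
theorem Q9858 : ∀ i, i < 9858 → P i := stepQ 9857 Q9857 (allL N9857 (tt N9710 (iv F203441)) (tt N8149 F122446) (tt N11789 (iv F175560)) (tt N11725 (iv F174785)) (tt N8200 F122447) (tt N8144 (iv D28838)) (tt N8801 F122448) (tt N11800 D42008) (tt N11801 D42009) (tt N8177 F122449))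
theorem Q9859 : ∀ i, i < 9859 → P i := stepQ 9858 Q9858 (allL N9858 (tt N9711 (iv F203543)) (tt N8150 F122450) (tt N11790 (iv F175565)) (tt N11726 (iv F174790)) (tt N8146 F122451) (tt N11800 (iv F175616)) (tt N11748 (iv F175169)) (tt N8144 (iv D28839)) (tt N11802 D42010) (tt N8178 F122452))
theorem Q9860 : ∀ i, i < 9860 → P i := stepQ 9859 Q9859 (allL N9859 (tt N9468 (iv F203540)) (tt N8151 F122453) (tt N11791 (iv F175569)) (tt N11803 D42011) (tt N8147 F122454) (tt N11801 (iv F175620)) (tt N8145 F122455) (tt N11802 (iv F175624)) (tt N8144 (iv D28840)) (tt N11804 D42012))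
theorem Q9861 : ∀ i, i < 9861 → P i := stepQ 9860 Q9860 (allL N9860 (tt N9461 (iv F203538)) (tt N8152 F122456) (tt N11805 D42013) (tt N8145 (iv D28841)) (tt N9860 F122457) (tt N8804 F122458) (tt N11803 (iv F175627)) (tt N11750 (iv F175177)) (tt N11728 (iv F174799)) (tt N11806 D42014))
theorem Q9862 : ∀ i, i < 9862 → P i := stepQ 9861 Q9861 (allL N9861 (tt N9469 (iv F203541)) (tt N8153 F122459) (tt N11793 (iv F175575)) (tt N11806 (iv F175635)) (tt N8148 F122460) (tt N8805 F122461) (tt N11804 (iv F175630)) (tt N11751 (iv F175181)) (tt N8181 F122462) (tt N8145 (iv D28842)))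
theorem Q9863 : ∀ i, i < 9863 → P i := stepQ 9862 Q9862 (allL N9862 (tt N9470 (iv F203681)) (tt N8154 F122463) (tt N11794 (iv F175580)) (tt N9862 F122464) (tt N11802 (iv F175623)) (tt N8205 F122465) (tt N11752 (iv F175186)) (tt N8147 F122466) (tt N8146 (iv D28843)) (tt N11807 D42015))
theorem Q9864 : ∀ i, i < 9864 → P i := stepQ 9863 Q9863 (allL N9863 (tt N9471 (iv F203682)) (tt N8155 F122467) (tt N11796 (iv F175589)) (tt N9863 F122468) (tt N11804 (iv F175629)) (tt N8206 F122469) (tt N8148 F122470) (tt N11807 (iv F175641)) (tt N8183 F122471) (tt N8147 (iv D28844)))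
theorem Q9865 : ∀ i, i < 9865 → P i := stepQ 9864 Q9864 (allL N9864 (tt N9864 F122472) (tt N11800 (iv F175614)) (tt N8400 F122473) (tt N11729 (iv F174815)) (tt N8207 F122474) (tt N8150 F122475) (tt N11808 D42016) (tt N8149 (iv D28845)) (tt N11809 D42017) (tt N8184 F122476))
theorem Q9866 : ∀ i, i < 9866 → P i := stepQ 9865 Q9865 (allL N9865 (tt N9865 F122477) (tt N11801 (iv F175618)) (tt N8401 F122478) (tt N11810 D42018) (tt N8208 F122479) (tt N8151 F122480) (tt N8809 F122481) (tt N11809 (iv F175652)) (tt N8149 (iv D28846)) (tt N11811 D42019))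
theorem Q9867 : ∀ i, i < 9867 → P i := stepQ 9866 Q9866 (allL N9866 (tt N9866 F122482) (tt N11802 (iv F175622)) (tt N8402 F122483) (tt N11812 D42020) (tt N8154 F122484) (tt N11809 (iv F175651)) (tt N11754 (iv F175206)) (tt N8151 F122485) (tt N8150 (iv D28847)) (tt N11813 D42021))
theorem Q9868 : ∀ i, i < 9868 → P i := stepQ 9867 Q9867 (allL N9867 (tt N9867 F122486) (tt N11803 (iv F175625)) (tt N11814 D42022) (tt N8151 (iv D28848)) (tt N9867 F122487) (tt N11810 (iv F175654)) (tt N8152 F122488) (tt N11812 (iv F175664)) (tt N11731 (iv F174831)) (tt N11815 D42023))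
theorem Q9869 : ∀ i, i < 9869 → P i := stepQ 9868 Q9868 (allL N9868 (tt N9868 F122489) (tt N11804 (iv F175628)) (tt N8404 F122490) (tt N11815 (iv F175675)) (tt N8155 F122491) (tt N11811 (iv F175659)) (tt N8153 F122492) (tt N11813 (iv F175668)) (tt N8188 F122493) (tt N8151 (iv D28849)))
theorem Q9870 : ∀ i, i < 9870 → P i := stepQ 9869 Q9869 (allL N9869 (tt N9869 F122494) (tt N11816 D42024) (tt N8152 (iv D28850)) (tt N8405 F122495) (tt N9869 F122496) (tt N8341 F205670) (tt N11814 (iv F175673)) (tt N8340 (iv F205816)) (tt N8339 (iv F205798)) (tt N11817 D42025))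
theorem Q9871 : ∀ i, i < 9871 → P i := stepQ 9870 Q9870 (allL N9870 (tt N9870 F122498) (tt N11806 (iv F175634)) (tt N11817 (iv F175682)) (tt N8153 F122499) (tt N9870 F122500) (tt N8811 F122501) (tt N11815 (iv F175677)) (tt N11756 (iv F175225)) (tt N11818 D42026) (tt N8152 (iv D28851)))
theorem Q9872 : ∀ i, i < 9872 → P i := stepQ 9871 Q9871 (allL N9871 (tt N9871 F122502) (tt N11807 (iv F175638)) (tt N8407 F122503) (tt N9871 F122504) (tt N11813 (iv F175667)) (tt N8214 F122505) (tt N11757 (iv F175230)) (tt N8155 F122506) (tt N8191 F122507) (tt N8154 (iv D28852)))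
theorem Q9873 : ∀ i, i < 9873 → P i := stepQ 9872 Q9872 (allL N9872 (tt N8408 F122508) (tt N8158 F122509) (tt N9872 F122510) (tt N11819 D42027) (tt N8156 (iv D28853)) (tt N8813 F122511) (tt N11820 D42028) (tt N11758 (iv F175237)) (tt N11821 D42029) (tt N9597 (iv F201900)))
theorem Q9874 : ∀ i, i < 9874 → P i := stepQ 9873 Q9873 (allL N9873 (tt N8409 F122512) (tt N8159 F122513) (tt N9873 F122514) (tt N9873 F122515) (tt N11820 (iv F175697)) (tt N8216 F122516) (tt N8156 (iv D28854)) (tt N11822 D42030) (tt N11823 D42031) (tt N9598 (iv F201994)))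
theorem Q9875 : ∀ i, i < 9875 → P i := stepQ 9874 Q9874 (allL N9874 (tt N8410 F122517) (tt N8160 F122518) (tt N9874 F122519) (tt N11824 D42032) (tt N11821 (iv F175701)) (tt N8157 F122520) (tt N11823 (iv F175712)) (tt N11760 (iv F175247)) (tt N8156 (iv D28855)) (tt N11825 D42033))
theorem Q9876 : ∀ i, i < 9876 → P i := stepQ 9875 Q9875 (allL N9875 (tt N8391 (iv F202052)) (tt N8161 F122522) (tt N11826 D42034) (tt N8157 (iv D28856)) (tt N8377 (iv F202055)) (tt N11824 (iv F175715)) (tt N8218 F122523) (tt N11761 (iv F175251)) (tt N9875 F122524) (tt N11827 D42036))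
theorem Q9877 : ∀ i, i < 9877 → P i := stepQ 9876 Q9876 (allL N9876 (tt N8411 F122525) (tt N8162 F122526) (tt N9876 F122527) (tt N11827 (iv F175732)) (tt N8816 F122528) (tt N11825 (iv F175720)) (tt N8219 F122529) (tt N11762 (iv F175258)) (tt N8845 (iv F201946)) (tt N8157 (iv D28857)))
theorem Q9878 : ∀ i, i < 9878 → P i := stepQ 9877 Q9877 (allL N9877 (tt N8168 F122530) (tt N11819 (iv F175691)) (tt N8736 F205707) (tt N8158 (iv D28858)) (tt N9877 F122531) (tt N8817 F122532) (tt N11828 D42037) (tt N11763 (iv F175262)) (tt N8851 F205708) (tt N9637 F202099))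
theorem Q9879 : ∀ i, i < 9879 → P i := stepQ 9878 Q9878 (allL N9878 (tt N8169 F122533) (tt N11820 (iv F175695)) (tt N8163 F122534) (tt N11828 (iv F175735)) (tt N8159 F122535) (tt N11829 D42039) (tt N8158 (iv D28859)) (tt N11830 D42040) (tt N11831 D42041) (tt N9639 (iv F202701)))
theorem Q9880 : ∀ i, i < 9880 → P i := stepQ 9879 Q9879 (allL N9879 (tt N8170 F122536) (tt N11821 (iv F175699)) (tt N8164 F122537) (tt N11832 D42042) (tt N8160 F122538) (tt N8819 F122539) (tt N11831 (iv F175750)) (tt N11765 (iv F175270)) (tt N8158 (iv D28860)) (tt N11833 D42043))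
theorem Q9881 : ∀ i, i < 9881 → P i := stepQ 9880 Q9880 (allL N9880 (tt N8171 F122540) (tt N11822 (iv F175704)) (tt N8165 F122541) (tt N9880 F122542) (tt N11830 (iv F175746)) (tt N8223 F122543) (tt N9450 (iv F205335)) (tt N8159 (iv D28861)) (tt N9455 F205230) (tt N9640 (iv F202855)))
theorem Q9882 : ∀ i, i < 9882 → P i := stepQ 9881 Q9881 (allL N9881 (tt N8172 F122544) (tt N11823 (iv F175709)) (tt N8166 F122545) (tt N9477 F205075) (tt N11831 (iv F175749)) (tt N8224 F122546) (tt N8160 F122547) (tt N9455 (iv F205143)) (tt N8159 (iv D28862)) (tt N11834 D42046))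
theorem Q9883 : ∀ i, i < 9883 → P i := stepQ 9882 Q9882 (allL N9882 (tt N8173 F122548) (tt N11824 (iv F175714)) (tt N9417 F205081) (tt N8160 (iv D28863)) (tt N11835 D42047) (tt N8161 F122549) (tt N9477 F205082) (tt N9419 (iv F205157)) (tt N9882 F122550) (tt N11836 D42048))
theorem Q9884 : ∀ i, i < 9884 → P i := stepQ 9883 Q9883 (allL N9883 (tt N8174 F122551) (tt N11825 (iv F175718)) (tt N8167 F122552) (tt N11836 (iv F175772)) (tt N11833 (iv F175755)) (tt N8162 F122553) (tt N11834 (iv F175768)) (tt N11766 (iv F175287)) (tt N9130 (iv F202813)) (tt N8160 (iv D28864)))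
theorem Q9885 : ∀ i, i < 9885 → P i := stepQ 9884 Q9884 (allL N9884 (tt N8175 F122554) (tt N8377 (iv F202054)) (tt N11680 (iv F173675)) (tt N8373 F201705) (tt N8161 (iv D28865)) (tt N11837 D42049) (tt N8227 F122556) (tt N11767 (iv F175291)) (tt N9884 F122557) (tt N11838 D42050))
theorem Q9886 : ∀ i, i < 9886 → P i := stepQ 9885 Q9885 (allL N9885 (tt N8176 F122558) (tt N11827 (iv F175731)) (tt N11681 (iv F173680)) (tt N8162 F122559) (tt N11838 (iv F175779)) (tt N11836 (iv F175773)) (tt N8228 F122560) (tt N11768 (iv F175296)) (tt N11839 D42051) (tt N8161 (iv D28866)))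
theorem Q9887 : ∀ i, i < 9887 → P i := stepQ 9886 Q9886 (allL N9886 (tt N8177 F122561) (tt N9886 F122562) (tt N11829 (iv F175741)) (tt N11733 (iv F174908)) (tt N8229 F122563) (tt N8163 (iv D28867)) (tt N8825 F122564) (tt N11840 D42052) (tt N11841 D42053) (tt N9710 (iv F203442)))
theorem Q9888 : ∀ i, i < 9888 → P i := stepQ 9887 Q9887 (allL N9887 (tt N8178 F122565) (tt N9887 F122566) (tt N11830 (iv F175745)) (tt N9702 (iv F205331)) (tt N8165 F122567) (tt N11840 (iv F175787)) (tt N9451 (iv F205336)) (tt N8163 (iv D28868)) (tt N9456 F205231) (tt N9711 (iv F203544)))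
theorem Q9889 : ∀ i, i < 9889 → P i := stepQ 9888 Q9888 (allL N9888 (tt N8179 F122568) (tt N9888 F122569) (tt N11831 (iv F175748)) (tt N9464 (iv F205150)) (tt N8166 F122570) (tt N11841 (iv F175791)) (tt N8164 F122571) (tt N9456 (iv F205144)) (tt N8163 (iv D28869)) (tt N11842 D42056))
theorem Q9890 : ∀ i, i < 9890 → P i := stepQ 9889 Q9889 (allL N9889 (tt N8180 F122572) (tt N9889 F122573) (tt N8833 (iv F205341)) (tt N8164 (iv D28870)) (tt N9407 F205235) (tt N8828 F122574) (tt N9464 F205236) (tt N9409 (iv F205343)) (tt N8731 (iv F205344)) (tt N11843 D42058))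
theorem Q9891 : ∀ i, i < 9891 → P i := stepQ 9890 Q9890 (allL N9890 (tt N8181 F122575) (tt N9890 F122576) (tt N11833 (iv F175754)) (tt N11843 (iv F175808)) (tt N8167 F122577) (tt N8829 F122578) (tt N11842 (iv F175803)) (tt N11770 (iv F175317)) (tt N9469 (iv F203542)) (tt N8164 (iv D28871)))
theorem Q9892 : ∀ i, i < 9892 → P i := stepQ 9891 Q9891 (allL N9891 (tt N8183 F122583) (tt N9891 F122584) (tt N11834 (iv F175766)) (tt N9454 F205076) (tt N11842 (iv F175802)) (tt N8235 F122585) (tt N8167 F122586) (tt N9457 (iv F205146)) (tt N9471 (iv F203683)) (tt N8166 (iv D28873)))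
theorem Q9893 : ∀ i, i < 9893 → P i := stepQ 9892 Q9892 (allL N9892 (tt N11828 (iv F175734)) (tt N8427 F122587) (tt N11734 (iv F174936)) (tt N8169 F122588) (tt N9892 F122589) (tt N11844 D42060) (tt N8168 (iv D28874)) (tt N11845 D42061) (tt N11846 D42062) (tt N11787 (iv F175555)))
theorem Q9894 : ∀ i, i < 9894 → P i := stepQ 9893 Q9893 (allL N9893 (tt N8851 (iv F205565)) (tt N8428 F122590) (tt N8828 F205443) (tt N11847 D42063) (tt N9893 F122591) (tt N8833 F122592) (tt N11846 (iv F175822)) (tt N11772 (iv F175333)) (tt N8168 (iv D28875)) (tt N11848 D42064))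
theorem Q9895 : ∀ i, i < 9895 → P i := stepQ 9894 Q9894 (allL N9894 (tt N11829 (iv F175740)) (tt N8429 F122593) (tt N8177 F122594) (tt N11844 (iv F175815)) (tt N8238 F122595) (tt N8169 (iv D28876)) (tt N8834 F122596) (tt N11849 D42065) (tt N11850 D42066) (tt N11789 (iv F175563)))
theorem Q9896 : ∀ i, i < 9896 → P i := stepQ 9895 Q9895 (allL N9895 (tt N11830 (iv F175744)) (tt N8430 F122597) (tt N8178 F122598) (tt N11845 (iv F175818)) (tt N8171 F122599) (tt N11849 (iv F175832)) (tt N11774 (iv F175341)) (tt N8169 (iv D28877)) (tt N11851 D42067) (tt N11790 (iv F175567)))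
theorem Q9897 : ∀ i, i < 9897 → P i := stepQ 9896 Q9896 (allL N9896 (tt N11831 (iv F175747)) (tt N8431 F122600) (tt N8179 F122601) (tt N11852 D42068) (tt N8172 F122602) (tt N11850 (iv F175836)) (tt N8170 F122603) (tt N11851 (iv F175841)) (tt N8169 (iv D28878)) (tt N11853 D42069))
theorem Q9898 : ∀ i, i < 9898 → P i := stepQ 9897 Q9897 (allL N9897 (tt N11832 (iv F175751)) (tt N8432 F122604) (tt N11854 D42070) (tt N8170 (iv D28879)) (tt N11855 D42071) (tt N8837 F122605) (tt N11852 (iv F175843)) (tt N11776 (iv F175348)) (tt N11847 (iv F175825)) (tt N11856 D42072))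
theorem Q9899 : ∀ i, i < 9899 → P i := stepQ 9898 Q9898 (allL N9898 (tt N11833 (iv F175753)) (tt N8433 F122606) (tt N8181 F122607) (tt N11856 (iv F175853)) (tt N8174 F122608) (tt N8838 F122609) (tt N11853 (iv F175847)) (tt N11777 (iv F175353)) (tt N11793 (iv F175578)) (tt N8170 (iv D28880)))
theorem Q9900 : ∀ i, i < 9900 → P i := stepQ 9899 Q9899 (allL N9899 (tt N9455 F205193) (tt N8434 F122610) (tt N8182 F122611) (tt N9445 F205194) (tt N11851 (iv F175840)) (tt N8243 F122612) (tt N9438 (iv F205276)) (tt N8172 F122613) (tt N8171 (iv D28881)) (tt N11857 D42074))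
theorem Q9901 : ∀ i, i < 9901 → P i := stepQ 9900 Q9900 (allL N9900 (tt N9477 F205054) (tt N8435 F122614) (tt N9443 F205055) (tt N8172 (iv D28882)) (tt N11858 D42075) (tt N8244 F122615) (tt N8173 F122616) (tt N9445 (iv F205109)) (tt N9900 F122617) (tt N11859 D42076))
theorem Q9902 : ∀ i, i < 9902 → P i := stepQ 9901 Q9901 (allL N9901 (tt N11834 (iv F175765)) (tt N8436 F122618) (tt N8183 F122619) (tt N11859 (iv F175867)) (tt N11853 (iv F175846)) (tt N8245 F122620) (tt N8174 F122621) (tt N11857 (iv F175862)) (tt N11796 (iv F175592)) (tt N8172 (iv D28883)))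
theorem Q9903 : ∀ i, i < 9903 → P i := stepQ 9902 Q9902 (allL N9902 (tt N11835 (iv F175769)) (tt N8437 F122622) (tt N11682 (iv F173758)) (tt N11855 (iv F175851)) (tt N8173 (iv D28884)) (tt N11860 D42077) (tt N11858 (iv F175864)) (tt N11779 (iv F175368)) (tt N9902 F122623) (tt N11861 D42078))
theorem Q9904 : ∀ i, i < 9904 → P i := stepQ 9903 Q9903 (allL N9903 (tt N11836 (iv F175771)) (tt N8438 F122624) (tt N11683 (iv F173761)) (tt N8174 F122625) (tt N11861 (iv F175874)) (tt N8176 F122626) (tt N11859 (iv F175869)) (tt N11780 (iv F175373)) (tt N11862 D42079) (tt N8173 (iv D28885)))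
theorem Q9905 : ∀ i, i < 9905 → P i := stepQ 9904 Q9904 (allL N9904 (tt N11837 (iv F175774)) (tt N8439 F122627) (tt N11684 (iv F173765)) (tt N8844 F122628) (tt N11860 (iv F175871)) (tt N8175 (iv D28886)) (tt N11863 D42080) (tt N11781 (iv F175376)) (tt N9904 F122629) (tt N11864 D42081))
theorem Q9906 : ∀ i, i < 9906 → P i := stepQ 9905 Q9905 (allL N9905 (tt N11838 (iv F175777)) (tt N8440 F122630) (tt N11685 (iv F173769)) (tt N8845 F122631) (tt N8176 F122632) (tt N11864 (iv F175884)) (tt N8249 F122633) (tt N11782 (iv F175382)) (tt N11865 D42082) (tt N8175 (iv D28887)))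
theorem Q9907 : ∀ i, i < 9907 → P i := stepQ 9906 Q9906 (allL N9906 (tt N11839 (iv F175781)) (tt N8441 F122634) (tt N11686 (iv F173774)) (tt N11799 (iv F175611)) (tt N11865 (iv F175886)) (tt N11862 (iv F175876)) (tt N8250 F122635) (tt N11783 (iv F175385)) (tt N8176 (iv D28888)) (tt N9906 F122636))
theorem Q9908 : ∀ i, i < 9908 → P i := stepQ 9907 Q9907 (allL N9907 (tt N11840 (iv F175784)) (tt N8184 F122637) (tt N11849 (iv F175830)) (tt N11737 (iv F174988)) (tt N8251 F122638) (tt N8178 F122639) (tt N11866 D42083) (tt N8177 (iv D28889)) (tt N11867 D42084) (tt N11800 (iv F175617)))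
theorem Q9909 : ∀ i, i < 9909 → P i := stepQ 9908 Q9908 (allL N9908 (tt N11841 (iv F175788)) (tt N8185 F122640) (tt N11850 (iv F175834)) (tt N11868 D42085) (tt N8252 F122641) (tt N8179 F122642) (tt N8847 F122643) (tt N11867 (iv F175895)) (tt N8177 (iv D28890)) (tt N11869 D42086))
theorem Q9910 : ∀ i, i < 9910 → P i := stepQ 9909 Q9909 (allL N9909 (tt N9456 F205195) (tt N8186 F122644) (tt N11851 (iv F175839)) (tt N8803 (iv F205280)) (tt N8182 F122645) (tt N11867 (iv F175894)) (tt N8804 (iv F205277)) (tt N8179 F122646) (tt N8178 (iv D28891)) (tt N11870 D42088))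
theorem Q9911 : ∀ i, i < 9911 → P i := stepQ 9910 Q9910 (allL N9910 (tt N9464 F205203) (tt N8187 F122647) (tt N11871 D42089) (tt N8179 (iv D28892)) (tt N8806 F205204) (tt N11868 (iv F175897)) (tt N8180 F122648) (tt N8803 (iv F205281)) (tt N8802 (iv F205310)) (tt N11872 D42090))
theorem Q9912 : ∀ i, i < 9912 → P i := stepQ 9911 Q9911 (allL N9911 (tt N11842 (iv F175800)) (tt N8188 F122649) (tt N11853 (iv F175845)) (tt N11872 (iv F175910)) (tt N8183 F122650) (tt N11869 (iv F175901)) (tt N8181 F122651) (tt N11870 (iv F175907)) (tt N11804 (iv F175631)) (tt N8179 (iv D28893)))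
theorem Q9913 : ∀ i, i < 9913 → P i := stepQ 9912 Q9912 (allL N9912 (tt N8833 F205414) (tt N11873 D42091) (tt N8180 (iv D28894)) (tt N11854 (iv F175848)) (tt N9595 F205415) (tt N8851 F122652) (tt N11871 (iv F175908)) (tt N11785 (iv F175404)) (tt N8817 (iv F205572)) (tt N11874 D42092))
theorem Q9914 : ∀ i, i < 9914 → P i := stepQ 9913 Q9913 (allL N9913 (tt N11843 (iv F175806)) (tt N8190 F122653) (tt N11874 (iv F175914)) (tt N8181 F122654) (tt N11687 (iv F173800)) (tt N8852 F122655) (tt N11872 (iv F175911)) (tt N11786 (iv F175408)) (tt N11875 D42093) (tt N8180 (iv D28895)))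
theorem Q9915 : ∀ i, i < 9915 → P i := stepQ 9914 Q9914 (allL N9914 (tt N9457 F205196) (tt N8191 F122656) (tt N11857 (iv F175860)) (tt N9437 F205197) (tt N11870 (iv F175906)) (tt N8258 F122657) (tt N9439 (iv F205278)) (tt N8183 F122658) (tt N11807 (iv F175642)) (tt N8182 (iv D28896)))
theorem Q9916 : ∀ i, i < 9916 → P i := stepQ 9915 Q9915 (allL N9915 (tt N9915 F122659) (tt N11866 (iv F175889)) (tt N8450 F122660) (tt N11730 (iv F205789)) (tt N8259 F122661) (tt N11731 (iv F205800)) (tt N8184 (iv D28897)) (tt N8854 F122662) (tt N11810 (iv F205492)) (tt N11808 (iv F175647)))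
theorem Q9917 : ∀ i, i < 9917 → P i := stepQ 9916 Q9916 (allL N9916 (tt N9916 F122663) (tt N11867 (iv F175892)) (tt N8451 F122664) (tt N8809 (iv F205479)) (tt N8260 F122665) (tt N8186 F122666) (tt N11810 (iv F205490)) (tt N8185 F122667) (tt N8184 (iv D28898)) (tt N11876 D42096))
theorem Q9918 : ∀ i, i < 9918 → P i := stepQ 9917 Q9917 (allL N9917 (tt N9917 F122668) (tt N11868 (iv F175896)) (tt N9082 (iv F205529)) (tt N8185 (iv D28899)) (tt N8888 F205403) (tt N8187 F122669) (tt N8856 F122670) (tt N8809 (iv F205480)) (tt N8808 (iv F205530)) (tt N11877 D42099))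
theorem Q9919 : ∀ i, i < 9919 → P i := stepQ 9918 Q9918 (allL N9918 (tt N9918 F122671) (tt N11869 (iv F175899)) (tt N8453 F122672) (tt N11877 (iv F175939)) (tt N8262 F122673) (tt N8188 F122674) (tt N8857 F122675) (tt N11876 (iv F175930)) (tt N11811 (iv F175661)) (tt N8185 (iv D28900)))
theorem Q9920 : ∀ i, i < 9920 → P i := stepQ 9919 Q9919 (allL N9919 (tt N9919 F122678) (tt N11870 (iv F175905)) (tt N8455 F122679) (tt N8810 (iv F205481)) (tt N8191 F122680) (tt N11876 (iv F175929)) (tt N8811 (iv F205486)) (tt N8188 F122681) (tt N11813 (iv F175669)) (tt N8186 (iv D28902)))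
theorem Q9921 : ∀ i, i < 9921 → P i := stepQ 9920 Q9920 (allL N9920 (tt N9920 F122685) (tt N11872 (iv F175909)) (tt N9085 (iv F205548)) (tt N8188 F122686) (tt N8812 F205407) (tt N11877 (iv F175940)) (tt N8190 F122687) (tt N8810 (iv F205482)) (tt N8859 (iv F205553)) (tt N8187 (iv D28904)))
theorem Q9922 : ∀ i, i < 9922 → P i := stepQ 9921 Q9921 (allL N9921 (tt N11878 D42105) (tt N8189 (iv D28905)) (tt N11873 (iv F175912)) (tt N8458 F122688) (tt N8993 F205692) (tt N8862 F122689) (tt N9075 F205693) (tt N8990 (iv F205910)) (tt N8989 (iv F205911)) (tt N11879 D42106))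
theorem Q9923 : ∀ i, i < 9923 → P i := stepQ 9922 Q9922 (allL N9922 (tt N9922 F122690) (tt N11879 (iv F175959)) (tt N8190 F122691) (tt N8459 F122692) (tt N8997 F205698) (tt N8863 F122693) (tt N9085 F205699) (tt N8995 (iv F205919)) (tt N9040 (iv F205921)) (tt N8189 (iv D28906)))
theorem Q9924 : ∀ i, i < 9924 → P i := stepQ 9923 Q9923 (allL N9923 (tt N9923 F122694) (tt N11875 (iv F175916)) (tt N9040 (iv F205920)) (tt N11818 (iv F175687)) (tt N8792 F205704) (tt N8864 F122695) (tt N8859 F205705) (tt N8789 (iv F205925)) (tt N8190 (iv D28907)) (tt N8787 (iv F205930)))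
theorem Q9925 : ∀ i, i < 9925 → P i := stepQ 9924 Q9924 (allL N9924 (tt N9665 (iv F203693)) (tt N8509 F122801) (tt N9924 F122802) (tt N8193 F122803) (tt N9924 F122804) (tt N11880 D42141) (tt N8192 (iv D28929)) (tt N11881 D42142) (tt N11882 D42143) (tt N8236 F122805))
theorem Q9926 : ∀ i, i < 9926 → P i := stepQ 9925 Q9925 (allL N9925 (tt N9662 (iv F203695)) (tt N8510 F122806) (tt N9925 F122807) (tt N11883 D42144) (tt N9925 F122808) (tt N8871 F122809) (tt N11882 (iv F176140)) (tt N9925 F122810) (tt N8192 (iv D28930)) (tt N11884 D42145))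
theorem Q9927 : ∀ i, i < 9927 → P i := stepQ 9926 Q9926 (allL N9926 (tt N9667 (iv F203452)) (tt N8511 F122811) (tt N8200 F122812) (tt N11880 (iv F176128)) (tt N11789 (iv F175561)) (tt N8193 (iv D28931)) (tt N8872 F122813) (tt N11885 D42146) (tt N11886 D42147) (tt N8238 F122814))
theorem Q9928 : ∀ i, i < 9928 → P i := stepQ 9927 Q9927 (allL N9927 (tt N9668 (iv F203696)) (tt N8512 F122815) (tt N8201 F122816) (tt N11881 (iv F176133)) (tt N8195 F122817) (tt N11885 (iv F176153)) (tt N9927 F122818) (tt N8193 (iv D28932)) (tt N11887 D42148) (tt N8239 F122819))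
theorem Q9929 : ∀ i, i < 9929 → P i := stepQ 9928 Q9928 (allL N9928 (tt N9267 (iv F203672)) (tt N8513 F122820) (tt N8202 F122821) (tt N11888 D42149) (tt N8196 F122822) (tt N11886 (iv F176157)) (tt N8194 F122823) (tt N11887 (iv F176163)) (tt N8193 (iv D28933)) (tt N11889 D42150))
theorem Q9930 : ∀ i, i < 9930 → P i := stepQ 9929 Q9929 (allL N9929 (tt N9260 (iv F203665)) (tt N8514 F122824) (tt N11890 D42151) (tt N8194 (iv D28934)) (tt N11891 D42152) (tt N8875 F122825) (tt N11888 (iv F176165)) (tt N9929 F122826) (tt N11883 (iv F176144)) (tt N11892 D42153))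
theorem Q9931 : ∀ i, i < 9931 → P i := stepQ 9930 Q9930 (allL N9930 (tt N9268 (iv F203673)) (tt N8515 F122827) (tt N8204 F122828) (tt N11892 (iv F176178)) (tt N8198 F122829) (tt N8876 F122830) (tt N11889 (iv F176169)) (tt N9930 F122831) (tt N8242 F122832) (tt N8194 (iv D28935)))
theorem Q9932 : ∀ i, i < 9932 → P i := stepQ 9931 Q9931 (allL N9931 (tt N9269 (iv F203678)) (tt N8516 F122833) (tt N8205 F122834) (tt N11893 D42154) (tt N11887 (iv F176161)) (tt N11794 (iv F175581)) (tt N9931 F122835) (tt N8196 F122836) (tt N8195 (iv D28936)) (tt N11894 D42155))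
theorem Q9933 : ∀ i, i < 9933 → P i := stepQ 9932 Q9932 (allL N9932 (tt N8590 (iv F203660)) (tt N8517 F122837) (tt N9932 F122838) (tt N8196 (iv D28937)) (tt N11895 D42156) (tt N11795 (iv F175585)) (tt N8197 F122839) (tt N11893 (iv F176184)) (tt N9932 F122840) (tt N11896 D42157))
theorem Q9934 : ∀ i, i < 9934 → P i := stepQ 9933 Q9933 (allL N9933 (tt N9270 (iv F203679)) (tt N8518 F122841) (tt N8206 F122842) (tt N11896 (iv F176197)) (tt N11889 (iv F176168)) (tt N11796 (iv F175590)) (tt N8198 F122843) (tt N11894 (iv F176189)) (tt N8245 F122844) (tt N8196 (iv D28938)))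
theorem Q9935 : ∀ i, i < 9935 → P i := stepQ 9934 Q9934 (allL N9934 (tt N8587 (iv F203659)) (tt N8519 F122845) (tt N9934 F122846) (tt N11891 (iv F176175)) (tt N8197 (iv D28939)) (tt N8559 (iv F203647)) (tt N11895 (iv F176193)) (tt N9934 F122847) (tt N9934 F122848) (tt N11897 D42159))
theorem Q9936 : ∀ i, i < 9936 → P i := stepQ 9935 Q9935 (allL N9935 (tt N8591 (iv F203661)) (tt N8520 F122849) (tt N9935 F122850) (tt N8198 F122851) (tt N11897 (iv F176206)) (tt N8199 F122852) (tt N11896 (iv F176198)) (tt N9935 F122853) (tt N11898 D42160) (tt N8197 (iv D28940)))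
theorem Q9937 : ∀ i, i < 9937 → P i := stepQ 9936 Q9936 (allL N9936 (tt N8592 (iv F203662)) (tt N8523 F122864) (tt N9936 F122865) (tt N8250 F122866) (tt N8561 (iv F203650)) (tt N11898 (iv F176211)) (tt N11799 (iv F175612)) (tt N9936 F122867) (tt N8199 (iv D28943)) (tt N9936 F122868))
theorem Q9938 : ∀ i, i < 9938 → P i := stepQ 9937 Q9937 (allL N9937 (tt N9713 (iv F204066)) (tt N8207 F122869) (tt N11885 (iv F176152)) (tt N9937 F122870) (tt N11800 (iv F175615)) (tt N8201 F122871) (tt N11899 D42164) (tt N8200 (iv D28944)) (tt N11900 D42165) (tt N8251 F122872))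
theorem Q9939 : ∀ i, i < 9939 → P i := stepQ 9938 Q9938 (allL N9938 (tt N9549 (iv F204068)) (tt N8208 F122873) (tt N11886 (iv F176156)) (tt N11901 D42166) (tt N11801 (iv F175619)) (tt N8202 F122874) (tt N8880 F122875) (tt N11900 (iv F176235)) (tt N8200 (iv D28945)) (tt N11902 D42167))
theorem Q9940 : ∀ i, i < 9940 → P i := stepQ 9939 Q9939 (allL N9939 (tt N9551 (iv F204225)) (tt N8209 F122876) (tt N11887 (iv F176160)) (tt N11903 D42168) (tt N8205 F122877) (tt N11900 (iv F176234)) (tt N9939 F122878) (tt N8202 F122879) (tt N8201 (iv D28946)) (tt N11904 D42169))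
theorem Q9941 : ∀ i, i < 9941 → P i := stepQ 9940 Q9940 (allL N9940 (tt N9544 (iv F204221)) (tt N8210 F122880) (tt N11905 D42170) (tt N8202 (iv D28947)) (tt N9940 F122881) (tt N11901 (iv F176237)) (tt N8203 F122882) (tt N11903 (iv F176247)) (tt N9940 F122883) (tt N11906 D42171))
theorem Q9942 : ∀ i, i < 9942 → P i := stepQ 9941 Q9941 (allL N9941 (tt N9552 (iv F204226)) (tt N8211 F122884) (tt N11889 (iv F176167)) (tt N11906 (iv F176258)) (tt N8206 F122885) (tt N11902 (iv F176241)) (tt N8204 F122886) (tt N11904 (iv F176252)) (tt N8255 F122887) (tt N8202 (iv D28948)))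
theorem Q9943 : ∀ i, i < 9943 → P i := stepQ 9942 Q9942 (allL N9942 (tt N9541 (iv F204219)) (tt N11907 D42172) (tt N8203 (iv D28949)) (tt N11890 (iv F176171)) (tt N9942 F122888) (tt N8884 F122889) (tt N11905 (iv F176255)) (tt N9942 F122890) (tt N9942 F122891) (tt N11908 D42173))
theorem Q9944 : ∀ i, i < 9944 → P i := stepQ 9943 Q9943 (allL N9943 (tt N9545 (iv F204222)) (tt N8213 F122892) (tt N11908 (iv F176266)) (tt N8204 F122893) (tt N9943 F122894) (tt N8885 F122895) (tt N11906 (iv F176260)) (tt N9943 F122896) (tt N11909 D42174) (tt N8203 (iv D28950)))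
theorem Q9945 : ∀ i, i < 9945 → P i := stepQ 9944 Q9944 (allL N9944 (tt N9553 (iv F204228)) (tt N8214 F122897) (tt N11894 (iv F176187)) (tt N9944 F122898) (tt N11904 (iv F176250)) (tt N11807 (iv F175640)) (tt N9944 F122899) (tt N8206 F122900) (tt N8258 F122901) (tt N8205 (iv D28951)))
theorem Q9946 : ∀ i, i < 9946 → P i := stepQ 9945 Q9945 (allL N9945 (tt N9945 F122902) (tt N11899 (iv F176228)) (tt N8532 F122903) (tt N9945 F122904) (tt N11808 (iv F175645)) (tt N9945 F122905) (tt N8207 (iv D28952)) (tt N8887 F122906) (tt N11910 D42175) (tt N8259 F122907))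
theorem Q9947 : ∀ i, i < 9947 → P i := stepQ 9946 Q9946 (allL N9946 (tt N9946 F122908) (tt N11900 (iv F176233)) (tt N8533 F122909) (tt N11911 D42176) (tt N11809 (iv F175650)) (tt N8209 F122910) (tt N11910 (iv F176279)) (tt N8208 F122911) (tt N8207 (iv D28953)) (tt N11912 D42177))
theorem Q9948 : ∀ i, i < 9948 → P i := stepQ 9947 Q9947 (allL N9947 (tt N9947 F122912) (tt N11901 (iv F176236)) (tt N11913 D42178) (tt N8208 (iv D28954)) (tt N11914 D42179) (tt N8210 F122913) (tt N8889 F122914) (tt N11911 (iv F176283)) (tt N9947 F122915) (tt N11915 D42180))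
theorem Q9949 : ∀ i, i < 9949 → P i := stepQ 9948 Q9948 (allL N9948 (tt N9948 F122916) (tt N11902 (iv F176240)) (tt N8535 F122917) (tt N11915 (iv F176300)) (tt N11811 (iv F175658)) (tt N8211 F122918) (tt N8890 F122919) (tt N11912 (iv F176288)) (tt N8262 F122920) (tt N8208 (iv D28955)))
theorem Q9950 : ∀ i, i < 9950 → P i := stepQ 9949 Q9949 (allL N9949 (tt N9949 F122921) (tt N11903 (iv F176244)) (tt N11916 D42181) (tt N8209 (iv D28956)) (tt N9949 F122922) (tt N11911 (iv F176282)) (tt N9949 F122923) (tt N8210 F122924) (tt N9949 F122925) (tt N11917 D42182))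
theorem Q9951 : ∀ i, i < 9951 → P i := stepQ 9950 Q9950 (allL N9950 (tt N9950 F122926) (tt N11904 (iv F176249)) (tt N8537 F122927) (tt N11917 (iv F176310)) (tt N8214 F122928) (tt N11912 (iv F176287)) (tt N9950 F122929) (tt N8211 F122930) (tt N8264 F122931) (tt N8209 (iv D28957)))
theorem Q9952 : ∀ i, i < 9952 → P i := stepQ 9951 Q9951 (allL N9951 (tt N9951 F122932) (tt N11918 D42183) (tt N8210 (iv D28958)) (tt N8538 F122933) (tt N9951 F122934) (tt N11913 (iv F176292)) (tt N8212 F122935) (tt N11916 (iv F176307)) (tt N9951 F122936) (tt N11919 D42184))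
theorem Q9953 : ∀ i, i < 9953 → P i := stepQ 9952 Q9952 (allL N9952 (tt N9952 F122937) (tt N11906 (iv F176257)) (tt N11919 (iv F176319)) (tt N8211 F122938) (tt N9952 F122939) (tt N11915 (iv F176301)) (tt N8213 F122940) (tt N11917 (iv F176313)) (tt N11920 D42185) (tt N8210 (iv D28959)))
theorem Q9954 : ∀ i, i < 9954 → P i := stepQ 9953 Q9953 (allL N9953 (tt N11921 D42186) (tt N8212 (iv D28960)) (tt N11907 (iv F176261)) (tt N8540 F122941) (tt N9953 F122942) (tt N8895 F122943) (tt N11918 (iv F176316)) (tt N9953 F122944) (tt N9953 F122945) (tt N11922 D42187))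
theorem Q9955 : ∀ i, i < 9955 → P i := stepQ 9954 Q9954 (allL N9954 (tt N9954 F122946) (tt N11922 (iv F176334)) (tt N8213 F122947) (tt N8541 F122948) (tt N9954 F122949) (tt N8896 F122950) (tt N11919 (iv F176322)) (tt N9954 F122951) (tt N11923 D42188) (tt N8212 (iv D28961)))
theorem Q9956 : ∀ i, i < 9956 → P i := stepQ 9955 Q9955 (allL N9955 (tt N9955 F122952) (tt N11909 (iv F176270)) (tt N11923 (iv F176340)) (tt N8269 F122953) (tt N9955 F122954) (tt N8897 F122955) (tt N11920 (iv F176326)) (tt N9955 F122956) (tt N8213 (iv D28962)) (tt N9955 F122957))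
theorem Q9957 : ∀ i, i < 9957 → P i := stepQ 9956 Q9956 (allL N9956 (tt N8543 F122958) (tt N8220 F122959) (tt N9334 (iv F203466)) (tt N8215 (iv D28963)) (tt N9956 F122960) (tt N8898 F122961) (tt N11924 D42190) (tt N9956 F122962) (tt N11925 D42191) (tt N9317 F203037))
theorem Q9958 : ∀ i, i < 9958 → P i := stepQ 9957 Q9957 (allL N9957 (tt N8544 F122963) (tt N8221 F122964) (tt N9957 F122965) (tt N11924 (iv F176353)) (tt N8216 F122966) (tt N11926 D42192) (tt N8215 (iv D28964)) (tt N11927 D42193) (tt N11928 D42194) (tt N9621 (iv F202869)))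
theorem Q9959 : ∀ i, i < 9959 → P i := stepQ 9958 Q9958 (allL N9958 (tt N8545 F122967) (tt N8222 F122968) (tt N9958 F122969) (tt N11929 D42195) (tt N8217 F122970) (tt N8900 F122971) (tt N11928 (iv F176373)) (tt N9958 F122972) (tt N8215 (iv D28965)) (tt N11930 D42196))
theorem Q9960 : ∀ i, i < 9960 → P i := stepQ 9959 Q9959 (allL N9959 (tt N8546 F122973) (tt N8223 F122974) (tt N9959 F122975) (tt N9959 F122976) (tt N11927 (iv F176367)) (tt N11822 (iv F175707)) (tt N9959 F122977) (tt N8216 (iv D28966)) (tt N11931 D42197) (tt N9622 (iv F202871)))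
theorem Q9961 : ∀ i, i < 9961 → P i := stepQ 9960 Q9960 (allL N9960 (tt N8547 F122978) (tt N8224 F122979) (tt N9960 F122980) (tt N11932 D42198) (tt N11928 (iv F176372)) (tt N11823 (iv F175711)) (tt N8217 F122981) (tt N11931 (iv F176388)) (tt N8216 (iv D28967)) (tt N11933 D42199))
theorem Q9962 : ∀ i, i < 9962 → P i := stepQ 9961 Q9961 (allL N9961 (tt N8521 (iv F202939)) (tt N8225 F122983) (tt N11934 D42200) (tt N8217 (iv D28968)) (tt N11935 D42201) (tt N8218 F122984) (tt N11932 (iv F176391)) (tt N9961 F122985) (tt N9961 F122986) (tt N11936 D42202))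
theorem Q9963 : ∀ i, i < 9963 → P i := stepQ 9962 Q9962 (allL N9962 (tt N8548 F122987) (tt N8226 F122988) (tt N9962 F122989) (tt N11936 (iv F176408)) (tt N11930 (iv F176381)) (tt N8219 F122990) (tt N11933 (iv F176396)) (tt N9962 F122991) (tt N8944 (iv F202818)) (tt N8217 (iv D28969)))
theorem Q9964 : ∀ i, i < 9964 → P i := stepQ 9963 Q9963 (allL N9963 (tt N8476 (iv F202938)) (tt N11688 (iv F173893)) (tt N8218 (iv D28970)) (tt N9963 F122993) (tt N8465 (iv F202954)) (tt N11934 (iv F176399)) (tt N11826 (iv F175723)) (tt N9963 F122994) (tt N9963 F122995) (tt N11937 D42204))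
theorem Q9965 : ∀ i, i < 9965 → P i := stepQ 9964 Q9964 (allL N9964 (tt N8522 (iv F202936)) (tt N8228 F123002) (tt N11937 (iv F176416)) (tt N8219 F123003) (tt N8502 (iv F202956)) (tt N11936 (iv F176409)) (tt N11827 (iv F175733)) (tt N9964 F123004) (tt N11938 D42207) (tt N8218 (iv D28972)))
theorem Q9966 : ∀ i, i < 9966 → P i := stepQ 9965 Q9965 (allL N9965 (tt N8236 F123005) (tt N11924 (iv F176352)) (tt N9965 F123006) (tt N8221 F123007) (tt N9965 F123008) (tt N11939 D42208) (tt N8220 (iv D28973)) (tt N11940 D42209) (tt N11941 D42210) (tt N9665 (iv F203694)))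
theorem Q9967 : ∀ i, i < 9967 → P i := stepQ 9966 Q9966 (allL N9966 (tt N8237 F123009) (tt N11925 (iv F176356)) (tt N9966 F123010) (tt N11942 D42211) (tt N9966 F123011) (tt N8905 F123012) (tt N11941 (iv F176445)) (tt N9966 F123013) (tt N8220 (iv D28974)) (tt N11943 D42212))
theorem Q9968 : ∀ i, i < 9968 → P i := stepQ 9967 Q9967 (allL N9967 (tt N8238 F123014) (tt N11926 (iv F176361)) (tt N8229 F123015) (tt N11939 (iv F176435)) (tt N11829 (iv F175742)) (tt N8221 (iv D28975)) (tt N8906 F123016) (tt N11944 D42213) (tt N11945 D42214) (tt N9667 (iv F203453)))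
theorem Q9969 : ∀ i, i < 9969 → P i := stepQ 9968 Q9968 (allL N9968 (tt N8239 F123017) (tt N11927 (iv F176365)) (tt N8230 F123018) (tt N11940 (iv F176439)) (tt N8223 F123019) (tt N11944 (iv F176457)) (tt N9968 F123020) (tt N8221 (iv D28976)) (tt N11946 D42215) (tt N9668 (iv F203697)))
theorem Q9970 : ∀ i, i < 9970 → P i := stepQ 9969 Q9969 (allL N9969 (tt N8240 F123021) (tt N11928 (iv F176370)) (tt N8231 F123022) (tt N11947 D42216) (tt N8224 F123023) (tt N11945 (iv F176460)) (tt N8222 F123024) (tt N11946 (iv F176466)) (tt N8221 (iv D28977)) (tt N11948 D42217))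
theorem Q9971 : ∀ i, i < 9971 → P i := stepQ 9970 Q9970 (allL N9970 (tt N8241 F123025) (tt N11929 (iv F176375)) (tt N11949 D42218) (tt N8222 (iv D28978)) (tt N11950 D42219) (tt N8909 F123026) (tt N11947 (iv F176468)) (tt N9970 F123027) (tt N11942 (iv F176449)) (tt N11951 D42220))
theorem Q9972 : ∀ i, i < 9972 → P i := stepQ 9971 Q9971 (allL N9971 (tt N8242 F123028) (tt N11930 (iv F176379)) (tt N8233 F123029) (tt N11951 (iv F176481)) (tt N8226 F123030) (tt N8910 F123031) (tt N11948 (iv F176472)) (tt N9971 F123032) (tt N9268 (iv F203674)) (tt N8222 (iv D28979)))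
theorem Q9973 : ∀ i, i < 9973 → P i := stepQ 9972 Q9972 (allL N9972 (tt N8243 F123033) (tt N11931 (iv F176385)) (tt N8234 F123034) (tt N9474 F205070) (tt N11946 (iv F176464)) (tt N9455 (iv F205142)) (tt N9972 F123035) (tt N8224 F123036) (tt N8223 (iv D28980)) (tt N11952 D42222))
theorem Q9974 : ∀ i, i < 9974 → P i := stepQ 9973 Q9973 (allL N9973 (tt N8244 F123037) (tt N11932 (iv F176390)) (tt N9472 F204980) (tt N8224 (iv D28981)) (tt N11953 D42223) (tt N9477 (iv F205017)) (tt N8225 F123038) (tt N9474 (iv F205018)) (tt N9973 F123039) (tt N11954 D42224))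
theorem Q9975 : ∀ i, i < 9975 → P i := stepQ 9974 Q9974 (allL N9974 (tt N8245 F123040) (tt N11933 (iv F176394)) (tt N8235 F123041) (tt N11954 (iv F176496)) (tt N11948 (iv F176471)) (tt N11834 (iv F175767)) (tt N8226 F123042) (tt N11952 (iv F176491)) (tt N9270 (iv F203680)) (tt N8224 (iv D28982)))
theorem Q9976 : ∀ i, i < 9976 → P i := stepQ 9975 Q9975 (allL N9975 (tt N8246 F123043) (tt N11935 (iv F176403)) (tt N9394 (iv F203703)) (tt N11950 (iv F176478)) (tt N8225 (iv D28983)) (tt N11955 D42225) (tt N11953 (iv F176493)) (tt N9975 F123044) (tt N9975 F123045) (tt N11956 D42226))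
theorem Q9977 : ∀ i, i < 9977 → P i := stepQ 9976 Q9976 (allL N9976 (tt N8247 F123046) (tt N11936 (iv F176407)) (tt N11691 (iv F173955)) (tt N8226 F123047) (tt N11956 (iv F176503)) (tt N8228 F123048) (tt N11954 (iv F176497)) (tt N9976 F123049) (tt N11957 D42227) (tt N8225 (iv D28984)))
theorem Q9978 : ∀ i, i < 9978 → P i := stepQ 9977 Q9977 (allL N9977 (tt N8248 F123050) (tt N8500 (iv F202953)) (tt N11692 (iv F173960)) (tt N8494 F202559) (tt N11955 (iv F176499)) (tt N8227 (iv D28985)) (tt N11958 D42228) (tt N9977 F123052) (tt N9977 F123053) (tt N11959 D42229))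
theorem Q9979 : ∀ i, i < 9979 → P i := stepQ 9978 Q9978 (allL N9978 (tt N8249 F123054) (tt N8502 (iv F202955)) (tt N11693 (iv F173965)) (tt N8495 F202558) (tt N8228 F123056) (tt N11959 (iv F176514)) (tt N11838 (iv F175780)) (tt N9978 F123057) (tt N11960 D42230) (tt N8227 (iv D28986)))
theorem Q9980 : ∀ i, i < 9980 → P i := stepQ 9979 Q9979 (allL N9979 (tt N8250 F123058) (tt N11938 (iv F176430)) (tt N11694 (iv F173970)) (tt N8592 (iv F203663)) (tt N11960 (iv F176517)) (tt N11957 (iv F176506)) (tt N11839 (iv F175782)) (tt N9979 F123059) (tt N8228 (iv D28987)) (tt N9979 F123060))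
theorem Q9981 : ∀ i, i < 9981 → P i := stepQ 9980 Q9980 (allL N9980 (tt N8251 F123061) (tt N9980 F123062) (tt N11944 (iv F176456)) (tt N9980 F123063) (tt N11840 (iv F175786)) (tt N8230 F123064) (tt N11961 D42231) (tt N8229 (iv D28988)) (tt N11962 D42232) (tt N9713 (iv F204067)))
theorem Q9982 : ∀ i, i < 9982 → P i := stepQ 9981 Q9981 (allL N9981 (tt N8252 F123065) (tt N9981 F123066) (tt N11945 (iv F176459)) (tt N11963 D42233) (tt N11841 (iv F175790)) (tt N8231 F123067) (tt N8917 F123068) (tt N11962 (iv F176528)) (tt N8229 (iv D28989)) (tt N11964 D42234))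
theorem Q9983 : ∀ i, i < 9983 → P i := stepQ 9982 Q9982 (allL N9982 (tt N8253 F123069) (tt N9982 F123070) (tt N11946 (iv F176463)) (tt N9527 F205071) (tt N8234 F123071) (tt N11962 (iv F176527)) (tt N9982 F123072) (tt N8231 F123073) (tt N8230 (iv D28990)) (tt N11965 D42236))
theorem Q9984 : ∀ i, i < 9984 → P i := stepQ 9983 Q9983 (allL N9983 (tt N8254 F123074) (tt N9983 F123075) (tt N11966 D42237) (tt N8231 (iv D28991)) (tt N9524 F204976) (tt N11963 (iv F176531)) (tt N8232 F123076) (tt N9527 (iv F205012)) (tt N9983 F123077) (tt N11967 D42238))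
theorem Q9985 : ∀ i, i < 9985 → P i := stepQ 9984 Q9984 (allL N9984 (tt N8255 F123078) (tt N9984 F123079) (tt N11948 (iv F176470)) (tt N11967 (iv F176553)) (tt N8235 F123080) (tt N11964 (iv F176536)) (tt N8233 F123081) (tt N11965 (iv F176547)) (tt N9552 (iv F204227)) (tt N8231 (iv D28992)))
theorem Q9986 : ∀ i, i < 9986 → P i := stepQ 9985 Q9985 (allL N9985 (tt N8256 F123082) (tt N9591 (iv F204235)) (tt N8232 (iv D28993)) (tt N11949 (iv F176474)) (tt N9590 (iv F204238)) (tt N8921 F123083) (tt N11966 (iv F176549)) (tt N9985 F123084) (tt N9985 F123085) (tt N11968 D42240))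
theorem Q9987 : ∀ i, i < 9987 → P i := stepQ 9986 Q9986 (allL N9986 (tt N8257 F123086) (tt N9986 F123087) (tt N11968 (iv F176560)) (tt N8233 F123088) (tt N11695 (iv F174006)) (tt N8922 F123089) (tt N11967 (iv F176554)) (tt N9986 F123090) (tt N11969 D42241) (tt N8232 (iv D28994)))
theorem Q9988 : ∀ i, i < 9988 → P i := stepQ 9987 Q9987 (allL N9987 (tt N8258 F123091) (tt N9987 F123092) (tt N11952 (iv F176489)) (tt N9453 F205072) (tt N11965 (iv F176545)) (tt N9457 (iv F205145)) (tt N9987 F123093) (tt N8235 F123094) (tt N9553 (iv F204229)) (tt N8234 (iv D28995)))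
theorem Q9989 : ∀ i, i < 9989 → P i := stepQ 9988 Q9988 (allL N9988 (tt N11939 (iv F176433)) (tt N8570 F123095) (tt N9988 F123096) (tt N8238 F123097) (tt N11970 D42242) (tt N8236 (iv D28996)) (tt N8924 F123098) (tt N11971 D42243) (tt N11972 D42244) (tt N11880 (iv F176130)))
theorem Q9990 : ∀ i, i < 9990 → P i := stepQ 9989 Q9989 (allL N9989 (tt N11940 (iv F176437)) (tt N8571 F123099) (tt N9989 F123100) (tt N8239 F123101) (tt N9989 F123102) (tt N11971 (iv F176575)) (tt N9989 F123103) (tt N8236 (iv D28997)) (tt N11973 D42245) (tt N11881 (iv F176136)))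
theorem Q9991 : ∀ i, i < 9991 → P i := stepQ 9990 Q9990 (allL N9990 (tt N11941 (iv F176442)) (tt N8572 F123104) (tt N9990 F123105) (tt N11974 D42246) (tt N9990 F123106) (tt N11972 (iv F176578)) (tt N8237 F123107) (tt N11973 (iv F176584)) (tt N8236 (iv D28998)) (tt N11975 D42247))
theorem Q9992 : ∀ i, i < 9992 → P i := stepQ 9991 Q9991 (allL N9991 (tt N11942 (iv F176446)) (tt N8573 F123108) (tt N11976 D42248) (tt N8237 (iv D28999)) (tt N11977 D42249) (tt N8927 F123109) (tt N11974 (iv F176586)) (tt N9991 F123110) (tt N8241 F123111) (tt N11978 D42250))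
theorem Q9993 : ∀ i, i < 9993 → P i := stepQ 9992 Q9992 (allL N9992 (tt N11943 (iv F176450)) (tt N8574 F123112) (tt N9992 F123113) (tt N11978 (iv F176601)) (tt N9992 F123114) (tt N8928 F123115) (tt N11975 (iv F176591)) (tt N9992 F123116) (tt N11884 (iv F176150)) (tt N8237 (iv D29000)))
theorem Q9994 : ∀ i, i < 9994 → P i := stepQ 9993 Q9993 (allL N9993 (tt N11944 (iv F176455)) (tt N8575 F123117) (tt N8251 F123118) (tt N11971 (iv F176574)) (tt N11849 (iv F175831)) (tt N8239 F123119) (tt N11979 D42251) (tt N8238 (iv D29001)) (tt N11980 D42252) (tt N11885 (iv F176154)))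
theorem Q9995 : ∀ i, i < 9995 → P i := stepQ 9994 Q9994 (allL N9994 (tt N11945 (iv F176458)) (tt N8576 F123120) (tt N8252 F123121) (tt N11981 D42253) (tt N11850 (iv F175835)) (tt N8240 F123122) (tt N8930 F123123) (tt N11980 (iv F176611)) (tt N8238 (iv D29002)) (tt N11982 D42254))
theorem Q9996 : ∀ i, i < 9996 → P i := stepQ 9995 Q9995 (allL N9995 (tt N11946 (iv F176462)) (tt N8577 F123124) (tt N8253 F123125) (tt N11983 D42255) (tt N8243 F123126) (tt N11980 (iv F176610)) (tt N9995 F123127) (tt N8240 F123128) (tt N8239 (iv D29003)) (tt N11984 D42256))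
theorem Q9997 : ∀ i, i < 9997 → P i := stepQ 9996 Q9996 (allL N9996 (tt N11947 (iv F176467)) (tt N8578 F123129) (tt N11985 D42257) (tt N8240 (iv D29004)) (tt N11986 D42258) (tt N11981 (iv F176613)) (tt N8241 F123130) (tt N11983 (iv F176621)) (tt N11974 (iv F176587)) (tt N11987 D42259))
theorem Q9998 : ∀ i, i < 9998 → P i := stepQ 9997 Q9997 (allL N9997 (tt N11948 (iv F176469)) (tt N8579 F123131) (tt N8255 F123132) (tt N11987 (iv F176633)) (tt N8245 F123133) (tt N11982 (iv F176617)) (tt N8242 F123134) (tt N11984 (iv F176626)) (tt N11889 (iv F176170)) (tt N8240 (iv D29005)))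
theorem Q9999 : ∀ i, i < 9999 → P i := stepQ 9998 Q9998 (allL N9998 (tt N11949 (iv F176473)) (tt N11988 D42260) (tt N8241 (iv D29006)) (tt N8256 F123135) (tt N11989 D42261) (tt N8934 F123136) (tt N11985 (iv F176628)) (tt N9998 F123137) (tt N11976 (iv F176595)) (tt N11990 D42262))
theorem Q10000 : ∀ i, i < 10000 → P i := stepQ 9999 Q9999 (allL N9999 (tt N11950 (iv F176477)) (tt N8581 F123138) (tt N11989 (iv F176639)) (tt N8246 F123139) (tt N8241 (iv D29007)) (tt N11991 D42263) (tt N11986 (iv F176631)) (tt N9999 F123140) (tt N11977 (iv F176599)) (tt N11992 D42264))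
theorem Q10001 : ∀ i, i < 10001 → P i := stepQ 10000 Q10000 (allL N10000 (tt N11951 (iv F176480)) (tt N8582 F123141) (tt N11990 (iv F176641)) (tt N8242 F123142) (tt N11992 (iv F176651)) (tt N8936 F123143) (tt N11987 (iv F176634)) (tt N10000 F123144) (tt N11993 D42265) (tt N8241 (iv D29008)))
theorem Q10002 : ∀ i, i < 10002 → P i := stepQ 10001 Q10001 (allL N10001 (tt N9474 F205046) (tt N8583 F123145) (tt N9441 F205047) (tt N8243 (iv D29009)) (tt N11994 D42266) (tt N9445 (iv F205108)) (tt N10001 F123146) (tt N8244 F123147) (tt N10001 F123148) (tt N11995 D42267))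
theorem Q10003 : ∀ i, i < 10003 → P i := stepQ 10002 Q10002 (allL N10002 (tt N11952 (iv F176488)) (tt N8584 F123149) (tt N8258 F123150) (tt N11995 (iv F176661)) (tt N11984 (iv F176624)) (tt N11857 (iv F175861)) (tt N10002 F123151) (tt N8245 F123152) (tt N11894 (iv F176190)) (tt N8243 (iv D29010)))
theorem Q10004 : ∀ i, i < 10004 → P i := stepQ 10003 Q10003 (allL N10003 (tt N11953 (iv F176492)) (tt N8585 F123153) (tt N11696 (iv F174081)) (tt N11986 (iv F176630)) (tt N8244 (iv D29011)) (tt N11996 D42268) (tt N8246 F123154) (tt N11994 (iv F176658)) (tt N10003 F123155) (tt N11997 D42269))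
theorem Q10005 : ∀ i, i < 10005 → P i := stepQ 10004 Q10004 (allL N10004 (tt N11954 (iv F176495)) (tt N8586 F123156) (tt N11697 (iv F174085)) (tt N8245 F123157) (tt N11997 (iv F176667)) (tt N11859 (iv F175868)) (tt N8247 F123158) (tt N11995 (iv F176663)) (tt N11998 D42270) (tt N8244 (iv D29012)))
theorem Q10006 : ∀ i, i < 10006 → P i := stepQ 10005 Q10005 (allL N10005 (tt N11955 (iv F176498)) (tt N8587 F123159) (tt N11698 (iv F174089)) (tt N11991 (iv F176646)) (tt N8248 F123160) (tt N8246 (iv D29013)) (tt N11999 D42271) (tt N10005 F123161) (tt N10005 F123162) (tt N12000 D42272))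
theorem Q10007 : ∀ i, i < 10007 → P i := stepQ 10006 Q10006 (allL N10006 (tt N11956 (iv F176502)) (tt N8588 F123163) (tt N11699 (iv F174094)) (tt N11992 (iv F176650)) (tt N8247 F123164) (tt N12000 (iv F176677)) (tt N11997 (iv F176668)) (tt N10006 F123165) (tt N12001 D42273) (tt N8246 (iv D29014)))
theorem Q10008 : ∀ i, i < 10008 → P i := stepQ 10007 Q10007 (allL N10007 (tt N11957 (iv F176505)) (tt N8589 F123166) (tt N11700 (iv F174098)) (tt N11898 (iv F176210)) (tt N12001 (iv F176680)) (tt N8250 F123167) (tt N11998 (iv F176670)) (tt N10007 F123168) (tt N8247 (iv D29015)) (tt N10007 F123169))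
theorem Q10009 : ∀ i, i < 10009 → P i := stepQ 10008 Q10008 (allL N10008 (tt N11958 (iv F176509)) (tt N8590 F123170) (tt N11701 (iv F174104)) (tt N8943 F123171) (tt N11999 (iv F176673)) (tt N11863 (iv F175880)) (tt N8248 (iv D29016)) (tt N12002 D42274) (tt N10008 F123172) (tt N12003 D42275))
theorem Q10010 : ∀ i, i < 10010 → P i := stepQ 10009 Q10009 (allL N10009 (tt N11959 (iv F176512)) (tt N8591 F123173) (tt N11702 (iv F174108)) (tt N8944 F123174) (tt N12000 (iv F176676)) (tt N8249 F123175) (tt N12003 (iv F176689)) (tt N10009 F123176) (tt N12004 D42276) (tt N8248 (iv D29017)))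
theorem Q10011 : ∀ i, i < 10011 → P i := stepQ 10010 Q10010 (allL N10010 (tt N11960 (iv F176516)) (tt N8592 F123177) (tt N11703 (iv F174113)) (tt N11938 (iv F203040)) (tt N8250 F123178) (tt N12004 (iv F176691)) (tt N11865 (iv F175887)) (tt N10010 F123179) (tt N8249 (iv D29018)) (tt N10010 F123180))
theorem Q10012 : ∀ i, i < 10012 → P i := stepQ 10011 Q10011 (allL N10011 (tt N11961 (iv F176520)) (tt N8259 F123181) (tt N11979 (iv F176605)) (tt N10011 F123182) (tt N11866 (iv F175890)) (tt N10011 F123183) (tt N8251 (iv D29019)) (tt N8945 F123184) (tt N12005 D42278) (tt N11899 (iv F176232)))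
theorem Q10013 : ∀ i, i < 10013 → P i := stepQ 10012 Q10012 (allL N10012 (tt N11962 (iv F176525)) (tt N8260 F123185) (tt N11980 (iv F176609)) (tt N12006 D42279) (tt N11867 (iv F175893)) (tt N8253 F123186) (tt N12005 (iv F176700)) (tt N8252 F123187) (tt N8251 (iv D29020)) (tt N12007 D42280))
theorem Q10014 : ∀ i, i < 10014 → P i := stepQ 10013 Q10013 (allL N10013 (tt N11963 (iv F176529)) (tt N8261 F123188) (tt N12008 D42281) (tt N8252 (iv D29021)) (tt N12009 D42282) (tt N8254 F123189) (tt N8947 F123190) (tt N12006 (iv F176704)) (tt N10013 F123191) (tt N12010 D42283))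
theorem Q10015 : ∀ i, i < 10015 → P i := stepQ 10014 Q10014 (allL N10014 (tt N11964 (iv F176534)) (tt N8262 F123192) (tt N11982 (iv F176616)) (tt N12010 (iv F176716)) (tt N11869 (iv F175900)) (tt N8255 F123193) (tt N8948 F123194) (tt N12007 (iv F176708)) (tt N11902 (iv F176243)) (tt N8252 (iv D29022)))
theorem Q10016 : ∀ i, i < 10016 → P i := stepQ 10015 Q10015 (allL N10015 (tt N9527 F205044) (tt N8263 F123195) (tt N12011 D42284) (tt N8253 (iv D29023)) (tt N9502 F205045) (tt N12006 (iv F176703)) (tt N10015 F123196) (tt N8254 F123197) (tt N10015 F123198) (tt N12012 D42285))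
theorem Q10017 : ∀ i, i < 10017 → P i := stepQ 10016 Q10016 (allL N10016 (tt N11965 (iv F176543)) (tt N8264 F123199) (tt N11984 (iv F176623)) (tt N12012 (iv F176723)) (tt N8258 F123200) (tt N12007 (iv F176707)) (tt N10016 F123201) (tt N8255 F123202) (tt N11904 (iv F176253)) (tt N8253 (iv D29024)))
theorem Q10018 : ∀ i, i < 10018 → P i := stepQ 10017 Q10017 (allL N10017 (tt N11966 (iv F176548)) (tt N12013 D42286) (tt N8254 (iv D29025)) (tt N11985 (iv F176627)) (tt N11704 (iv F174143)) (tt N12008 (iv F176709)) (tt N8256 F123203) (tt N12011 (iv F176720)) (tt N10017 F123204) (tt N12014 D42287))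
theorem Q10019 : ∀ i, i < 10019 → P i := stepQ 10018 Q10018 (allL N10018 (tt N11967 (iv F176551)) (tt N8266 F123205) (tt N12014 (iv F176729)) (tt N8255 F123206) (tt N11705 (iv F174148)) (tt N12010 (iv F176717)) (tt N8257 F123207) (tt N12012 (iv F176725)) (tt N12015 D42288) (tt N8254 (iv D29026)))
theorem Q10020 : ∀ i, i < 10020 → P i := stepQ 10019 Q10019 (allL N10019 (tt N12016 D42289) (tt N8256 (iv D29027)) (tt N8267 F123208) (tt N11988 (iv F176636)) (tt N11706 (iv F174151)) (tt N8953 F123209) (tt N12013 (iv F176727)) (tt N10019 F123210) (tt N10019 F123211) (tt N12017 D42290))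
theorem Q10021 : ∀ i, i < 10021 → P i := stepQ 10020 Q10020 (allL N10020 (tt N11968 (iv F176559)) (tt N12017 (iv F176738)) (tt N8257 F123212) (tt N11990 (iv F176642)) (tt N11707 (iv F174156)) (tt N8954 F123213) (tt N12014 (iv F176730)) (tt N10020 F123214) (tt N12018 D42291) (tt N8256 (iv D29028)))
theorem Q10022 : ∀ i, i < 10022 → P i := stepQ 10021 Q10021 (allL N10021 (tt N11969 (iv F176563)) (tt N8269 F123215) (tt N12018 (iv F176742)) (tt N11909 (iv F176271)) (tt N11708 (iv F174161)) (tt N8955 F123216) (tt N12015 (iv F176732)) (tt N10021 F123217) (tt N8257 (iv D29029)) (tt N10021 F123218))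
theorem Q10023 : ∀ i, i < 10023 → P i := stepQ 10022 Q10022 (allL N10022 (tt N10022 F123219) (tt N12005 (iv F176698)) (tt N8604 F123220) (tt N11914 (iv F205260)) (tt N11810 (iv F205489)) (tt N10022 F123221) (tt N8260 F123222) (tt N8956 F123223) (tt N8259 (iv D29030)) (tt N12019 D42293))
theorem Q10024 : ∀ i, i < 10024 → P i := stepQ 10023 Q10023 (allL N10023 (tt N10023 F123224) (tt N12006 (iv F176702)) (tt N12020 D42294) (tt N8260 (iv D29031)) (tt N8889 (iv F205258)) (tt N8263 F123225) (tt N11914 (iv F205261)) (tt N8261 F123226) (tt N10023 F123227) (tt N12021 D42296))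
theorem Q10025 : ∀ i, i < 10025 → P i := stepQ 10024 Q10024 (allL N10024 (tt N10024 F123228) (tt N12007 (iv F176706)) (tt N8606 F123229) (tt N12021 (iv F176765)) (tt N11876 (iv F175928)) (tt N8264 F123230) (tt N12019 (iv F176754)) (tt N8262 F123231) (tt N11912 (iv F176289)) (tt N8260 (iv D29032)))
theorem Q10026 : ∀ i, i < 10026 → P i := stepQ 10025 Q10025 (allL N10025 (tt N10025 F123232) (tt N12022 D42297) (tt N8261 (iv D29033)) (tt N8607 F123233) (tt N12023 D42298) (tt N8265 F123234) (tt N8959 F123235) (tt N12020 (iv F176759)) (tt N10025 F123236) (tt N12024 D42299))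
theorem Q10027 : ∀ i, i < 10027 → P i := stepQ 10026 Q10026 (allL N10026 (tt N10026 F123237) (tt N12009 (iv F176712)) (tt N12023 (iv F176773)) (tt N8888 (iv F205294)) (tt N8261 (iv D29034)) (tt N8891 F205199) (tt N8960 F123238) (tt N8889 (iv F205259)) (tt N10026 F123239) (tt N12025 D42300))
theorem Q10028 : ∀ i, i < 10028 → P i := stepQ 10027 Q10027 (allL N10027 (tt N10027 F123240) (tt N12010 (iv F176715)) (tt N12024 (iv F176777)) (tt N8262 F123241) (tt N12025 (iv F176782)) (tt N8266 F123242) (tt N8961 F123243) (tt N12021 (iv F176767)) (tt N12026 D42301) (tt N8261 (iv D29035)))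
theorem Q10029 : ∀ i, i < 10029 → P i := stepQ 10028 Q10028 (allL N10028 (tt N10028 F123244) (tt N12027 D42302) (tt N8263 (iv D29036)) (tt N8610 F123245) (tt N11711 (iv F174194)) (tt N12020 (iv F176758)) (tt N10028 F123246) (tt N8265 F123247) (tt N10028 F123248) (tt N12028 D42303))
theorem Q10030 : ∀ i, i < 10030 → P i := stepQ 10029 Q10029 (allL N10029 (tt N10029 F123249) (tt N12012 (iv F176722)) (tt N12028 (iv F176793)) (tt N8264 F123250) (tt N11712 (iv F174200)) (tt N12021 (iv F176766)) (tt N10029 F123251) (tt N8266 F123252) (tt N12029 D42304) (tt N8263 (iv D29037)))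
theorem Q10031 : ∀ i, i < 10031 → P i := stepQ 10030 Q10030 (allL N10030 (tt N12030 D42305) (tt N8265 (iv D29038)) (tt N12013 (iv F176726)) (tt N8612 F123253) (tt N11713 (iv F174204)) (tt N12022 (iv F176769)) (tt N8267 F123254) (tt N12027 (iv F176790)) (tt N10030 F123255) (tt N12031 D42306))
theorem Q10032 : ∀ i, i < 10032 → P i := stepQ 10031 Q10031 (allL N10031 (tt N10031 F123256) (tt N12031 (iv F176805)) (tt N8266 F123257) (tt N8613 F123258) (tt N11714 (iv F174210)) (tt N12024 (iv F176779)) (tt N8268 F123259) (tt N12028 (iv F176796)) (tt N12032 D42307) (tt N8265 (iv D29039)))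
theorem Q10033 : ∀ i, i < 10033 → P i := stepQ 10032 Q10032 (allL N10032 (tt N10032 F123260) (tt N12015 (iv F176731)) (tt N12032 (iv F176809)) (tt N11920 (iv F176324)) (tt N11715 (iv F174214)) (tt N12026 (iv F176785)) (tt N8269 F123261) (tt N12029 (iv F176799)) (tt N8266 (iv D29040)) (tt N10032 F123262))
theorem Q10034 : ∀ i, i < 10034 → P i := stepQ 10033 Q10033 (allL N10033 (tt N8267 (iv D29041)) (tt N10033 F123263) (tt N12016 (iv F176734)) (tt N8615 F123264) (tt N11716 (iv F174219)) (tt N8967 F123265) (tt N12030 (iv F176803)) (tt N10033 F123266) (tt N10033 F123267) (tt N12033 D42308))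
theorem Q10035 : ∀ i, i < 10035 → P i := stepQ 10034 Q10034 (allL N10034 (tt N12033 (iv F176812)) (tt N8268 F123268) (tt N12017 (iv F176739)) (tt N8616 F123269) (tt N11717 (iv F174225)) (tt N8968 F123270) (tt N12031 (iv F176807)) (tt N10034 F123271) (tt N12034 D42309) (tt N8267 (iv D29042)))
theorem Q10036 : ∀ i, i < 10036 → P i := stepQ 10035 Q10035 (allL N10035 (tt N10035 F123272) (tt N12034 (iv F176817)) (tt N8269 F123273) (tt N12035 D42310) (tt N11718 (iv F174230)) (tt N8969 F123274) (tt N12032 (iv F176810)) (tt N10035 F123275) (tt N8268 (iv D29043)) (tt N10035 F123276))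
theorem Q10037 : ∀ i, i < 10037 → P i := stepQ 10036 Q10036 (allL N10036 (tt N10036 F123277) (tt N8270 (iv D29044)) (tt N10036 F123278) (tt N10036 F123279) (tt N10036 F123280) (tt N8281 F199616) (tt N10036 F123281) (tt N8347 F123282) (tt N12036 D42312) (tt N10036 F123283))
theorem Q10038 : ∀ i, i < 10038 → P i := stepQ 10037 Q10037 (allL N10037 (tt N8274 F123284) (tt N8281 (iv F199573)) (tt N8271 F123285) (tt N10037 F123286) (tt N8277 (iv F199562)) (tt N8270 (iv D29045)) (tt N8276 (iv F199567)) (tt N8348 F123287) (tt N12037 D42315) (tt N10037 F123288))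
theorem Q10039 : ∀ i, i < 10039 → P i := stepQ 10038 Q10038 (allL N10038 (tt N8275 F123289) (tt N12036 (iv F176833)) (tt N8272 F123290) (tt N12038 D42316) (tt N10038 F123291) (tt N12037 (iv F176850)) (tt N10038 F123292) (tt N8349 F123293) (tt N8270 (iv D29046)) (tt N12039 D42317))
theorem Q10040 : ∀ i, i < 10040 → P i := stepQ 10039 Q10039 (allL N10039 (tt N8276 F123294) (tt N10039 F123295) (tt N8277 F199614) (tt N10039 F123296) (tt N8271 (iv D29047)) (tt N10039 F123297) (tt N8274 F199615) (tt N8350 F123298) (tt N12040 D42319) (tt N10039 F123299))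
theorem Q10041 : ∀ i, i < 10041 → P i := stepQ 10040 Q10040 (allL N10040 (tt N8277 F123300) (tt N10040 F123301) (tt N8276 (iv F199566)) (tt N8273 F123302) (tt N8274 (iv F199568)) (tt N10040 F123303) (tt N8271 (iv D29048)) (tt N8355 F199492) (tt N12041 D42321) (tt N10040 F123304))
theorem Q10042 : ∀ i, i < 10042 → P i := stepQ 10041 Q10041 (allL N10041 (tt N8278 F123305) (tt N10041 F123306) (tt N12037 (iv F176849)) (tt N8291 F123307) (tt N12040 (iv F176870)) (tt N8272 F123308) (tt N12041 (iv F176883)) (tt N8352 F123309) (tt N8271 (iv D29049)) (tt N12042 D42322))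
theorem Q10043 : ∀ i, i < 10043 → P i := stepQ 10042 Q10042 (allL N10042 (tt N8279 F123310) (tt N10042 F123311) (tt N12039 (iv F176858)) (tt N8292 F123312) (tt N10042 F123313) (tt N12042 (iv F176887)) (tt N10042 F123314) (tt N8353 F123315) (tt N10042 F123316) (tt N8272 (iv D29050)))
theorem Q10044 : ∀ i, i < 10044 → P i := stepQ 10043 Q10043 (allL N10043 (tt N8280 F123317) (tt N10043 F123318) (tt N10043 F123319) (tt N8355 F199491) (tt N10043 F123320) (tt N10043 F123321) (tt N8354 F123322) (tt N8273 (iv D29051)) (tt N8293 F123323) (tt N10043 F123324))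
theorem Q10045 : ∀ i, i < 10045 → P i := stepQ 10044 Q10044 (allL N10044 (tt N12037 (iv F176848)) (tt N10044 F123335) (tt N8278 F123336) (tt N12043 D42328) (tt N12041 (iv F199570)) (tt N8275 F123337) (tt N12040 (iv F199650)) (tt N8357 F123338) (tt N8274 (iv D29054)) (tt N12044 D42329))
theorem Q10046 : ∀ i, i < 10046 → P i := stepQ 10045 Q10045 (allL N10045 (tt N12038 (iv F176852)) (tt N10045 F123339) (tt N8297 F123340) (tt N8275 (iv D29055)) (tt N12045 D42330) (tt N12043 (iv F176917)) (tt N10045 F123341) (tt N8358 F123342) (tt N10045 F123343) (tt N12046 D42331))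
theorem Q10047 : ∀ i, i < 10047 → P i := stepQ 10046 Q10046 (allL N10046 (tt N12039 (iv F176857)) (tt N10046 F123344) (tt N8279 F123345) (tt N12046 (iv F176933)) (tt N10046 F123346) (tt N12044 (iv F176922)) (tt N10046 F123347) (tt N8359 F123348) (tt N10046 F123349) (tt N8275 (iv D29056)))
theorem Q10048 : ∀ i, i < 10048 → P i := stepQ 10047 Q10047 (allL N10047 (tt N12040 (iv F176868)) (tt N8282 F123354) (tt N12041 (iv F199569)) (tt N12047 D42335) (tt N8278 F123355) (tt N10047 F123356) (tt N12037 (iv F199578)) (tt N8361 F123357) (tt N8276 (iv D29058)) (tt N12048 D42336))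
theorem Q10049 : ∀ i, i < 10049 → P i := stepQ 10048 Q10048 (allL N10048 (tt N8355 F199489) (tt N8283 F123358) (tt N8350 (iv F199558)) (tt N8280 F123359) (tt N8348 F199490) (tt N10048 F123360) (tt N8362 F123361) (tt N8277 (iv D29059)) (tt N12049 D42337) (tt N10048 F123362))
theorem Q10050 : ∀ i, i < 10050 → P i := stepQ 10049 Q10049 (allL N10049 (tt N12041 (iv F176879)) (tt N8284 F123363) (tt N12040 (iv F199649)) (tt N8302 F123364) (tt N12037 (iv F199577)) (tt N10049 F123365) (tt N8278 F123366) (tt N12049 (iv F176963)) (tt N8277 (iv D29060)) (tt N12050 D42338))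
theorem Q10051 : ∀ i, i < 10051 → P i := stepQ 10050 Q10050 (allL N10050 (tt N12042 (iv F176884)) (tt N8285 F123367) (tt N12044 (iv F176921)) (tt N8303 F123368) (tt N12048 (iv F176955)) (tt N8279 F123369) (tt N12050 (iv F176967)) (tt N8364 F123370) (tt N10050 F123371) (tt N8278 (iv D29061)))
theorem Q10052 : ∀ i, i < 10052 → P i := stepQ 10051 Q10051 (allL N10051 (tt N10051 F123378) (tt N8348 F199493) (tt N10051 F123379) (tt N10051 F123380) (tt N8283 F123381) (tt N8347 (iv F199572)) (tt N8366 F123382) (tt N8281 (iv D29063)) (tt N12051 D42341) (tt N10051 F123383))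
theorem Q10053 : ∀ i, i < 10053 → P i := stepQ 10052 Q10052 (allL N10052 (tt N10052 F123384) (tt N12037 (iv F199576)) (tt N10052 F123385) (tt N12052 D42342) (tt N8284 F123386) (tt N12036 (iv F199651)) (tt N8282 F123387) (tt N12051 (iv F176984)) (tt N8281 (iv D29064)) (tt N12053 D42343))
theorem Q10054 : ∀ i, i < 10054 → P i := stepQ 10053 Q10053 (allL N10053 (tt N10053 F123388) (tt N12047 (iv F176949)) (tt N12054 D42344) (tt N8282 (iv D29065)) (tt N8307 F123389) (tt N10053 F123390) (tt N12052 (iv F176987)) (tt N8368 F123391) (tt N10053 F123392) (tt N12055 D42345))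
theorem Q10055 : ∀ i, i < 10055 → P i := stepQ 10054 Q10054 (allL N10054 (tt N10054 F123393) (tt N12048 (iv F176954)) (tt N10054 F123394) (tt N12055 (iv F177001)) (tt N8285 F123395) (tt N10054 F123396) (tt N12053 (iv F176992)) (tt N8369 F123397) (tt N10054 F123398) (tt N8282 (iv D29066)))
theorem Q10056 : ∀ i, i < 10056 → P i := stepQ 10055 Q10055 (allL N10055 (tt N10055 F123399) (tt N12049 (iv F176959)) (tt N10055 F123400) (tt N8309 F123401) (tt N12051 (iv F176982)) (tt N10055 F123402) (tt N8370 F123403) (tt N8284 F123404) (tt N8283 (iv D29067)) (tt N12056 D42346))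
theorem Q10057 : ∀ i, i < 10057 → P i := stepQ 10056 Q10056 (allL N10056 (tt N10056 F123405) (tt N12050 (iv F176964)) (tt N10056 F123406) (tt N8310 F123407) (tt N12053 (iv F176991)) (tt N10056 F123408) (tt N8285 F123409) (tt N12056 (iv F177010)) (tt N10056 F123410) (tt N8284 (iv D29068)))
theorem Q10058 : ∀ i, i < 10058 → P i := stepQ 10057 Q10057 (allL N10057 (tt N9593 (iv F201124)) (tt N8287 F123411) (tt N10057 F123412) (tt N10057 F123413) (tt N12057 D42347) (tt N8286 (iv D29069)) (tt N12058 D42348) (tt N8372 F123414) (tt N12059 D42349) (tt N8311 F123415))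
theorem Q10059 : ∀ i, i < 10059 → P i := stepQ 10058 Q10058 (allL N10058 (tt N8777 (iv F201118)) (tt N8288 F123416) (tt N10058 F123417) (tt N11767 (iv F201354)) (tt N8764 F200990) (tt N12059 (iv F177024)) (tt N10058 F123419) (tt N8373 F123420) (tt N8286 (iv D29070)) (tt N12060 D42351))
theorem Q10060 : ∀ i, i < 10060 → P i := stepQ 10059 Q10059 (allL N10059 (tt N8294 F123421) (tt N12057 (iv F177012)) (tt N8289 F123422) (tt N12061 D42352) (tt N8287 (iv D29071)) (tt N8971 F123423) (tt N12062 D42353) (tt N8374 F123424) (tt N12063 D42354) (tt N8313 F123425))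
theorem Q10061 : ∀ i, i < 10061 → P i := stepQ 10060 Q10060 (allL N10060 (tt N8295 F123426) (tt N12058 (iv F177017)) (tt N8290 F123427) (tt N10060 F123428) (tt N12062 (iv F177044)) (tt N10060 F123429) (tt N8287 (iv D29072)) (tt N12064 D42355) (tt N12065 D42356) (tt N8314 F123430))
theorem Q10062 : ∀ i, i < 10062 → P i := stepQ 10061 Q10061 (allL N10061 (tt N8296 F123431) (tt N12059 (iv F177022)) (tt N8291 F123432) (tt N12066 D42357) (tt N12063 (iv F177048)) (tt N8288 F123433) (tt N12065 (iv F177060)) (tt N8376 F123434) (tt N8287 (iv D29073)) (tt N12067 D42358))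
theorem Q10063 : ∀ i, i < 10063 → P i := stepQ 10062 Q10062 (allL N10062 (tt N8297 F123435) (tt N11767 (iv F201353)) (tt N12038 (iv F176853)) (tt N8288 (iv D29074)) (tt N11761 (iv F201346)) (tt N12066 (iv F177062)) (tt N10062 F123436) (tt N8377 F123437) (tt N10062 F123438) (tt N12068 D42360))
theorem Q10064 : ∀ i, i < 10064 → P i := stepQ 10063 Q10063 (allL N10063 (tt N8298 F123439) (tt N12060 (iv F177030)) (tt N8292 F123440) (tt N12068 (iv F177076)) (tt N8974 F123441) (tt N12067 (iv F177067)) (tt N10063 F123442) (tt N8378 F123443) (tt N8317 F123444) (tt N8288 (iv D29075)))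
theorem Q10065 : ∀ i, i < 10065 → P i := stepQ 10064 Q10064 (allL N10064 (tt N8299 F123445) (tt N10064 F123446) (tt N12062 (iv F177043)) (tt N10064 F123447) (tt N8290 F123448) (tt N12069 D42361) (tt N8289 (iv D29076)) (tt N12070 D42362) (tt N12071 D42363) (tt N8318 F123449))
theorem Q10066 : ∀ i, i < 10066 → P i := stepQ 10065 Q10065 (allL N10065 (tt N8300 F123450) (tt N10065 F123451) (tt N12063 (iv F177047)) (tt N12072 D42364) (tt N8291 F123452) (tt N8976 F123453) (tt N12071 (iv F177094)) (tt N8380 F123454) (tt N8289 (iv D29077)) (tt N12073 D42365))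
theorem Q10067 : ∀ i, i < 10067 → P i := stepQ 10066 Q10066 (allL N10066 (tt N8301 F123455) (tt N10066 F123456) (tt N12064 (iv F177052)) (tt N8293 F123457) (tt N12070 (iv F177088)) (tt N10066 F123458) (tt N8381 F123459) (tt N8290 (iv D29078)) (tt N12074 D42366) (tt N8320 F123460))
theorem Q10068 : ∀ i, i < 10068 → P i := stepQ 10067 Q10067 (allL N10067 (tt N8302 F123461) (tt N10067 F123462) (tt N12065 (iv F177058)) (tt N12041 (iv F176881)) (tt N12071 (iv F177093)) (tt N10067 F123463) (tt N8291 F123464) (tt N12074 (iv F177110)) (tt N8290 (iv D29079)) (tt N12075 D42367))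
theorem Q10069 : ∀ i, i < 10069 → P i := stepQ 10068 Q10068 (allL N10068 (tt N8303 F123465) (tt N10068 F123466) (tt N12067 (iv F177066)) (tt N12042 (iv F176886)) (tt N12073 (iv F177102)) (tt N8292 F123467) (tt N12075 (iv F177114)) (tt N8383 F123468) (tt N8322 F123469) (tt N8291 (iv D29080)))
theorem Q10070 : ∀ i, i < 10070 → P i := stepQ 10069 Q10069 (allL N10069 (tt N12061 (iv F177036)) (tt N11739 (iv F175118)) (tt N10069 F123470) (tt N8294 (iv D29081)) (tt N10069 F123471) (tt N8980 F123472) (tt N12076 D42368) (tt N8384 F123473) (tt N12077 D42369) (tt N8323 F123474))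
theorem Q10071 : ∀ i, i < 10071 → P i := stepQ 10070 Q10070 (allL N10070 (tt N12062 (iv F177042)) (tt N11740 (iv F175123)) (tt N8299 F123475) (tt N12076 (iv F177117)) (tt N8295 F123476) (tt N12078 D42370) (tt N8294 (iv D29082)) (tt N12079 D42371) (tt N12080 D42372) (tt N8324 F123477))
theorem Q10072 : ∀ i, i < 10072 → P i := stepQ 10071 Q10071 (allL N10071 (tt N12063 (iv F177046)) (tt N11741 (iv F175127)) (tt N8300 F123478) (tt N12081 D42373) (tt N8296 F123479) (tt N8982 F123480) (tt N12080 (iv F177134)) (tt N8386 F123481) (tt N8294 (iv D29083)) (tt N12082 D42374))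
theorem Q10073 : ∀ i, i < 10073 → P i := stepQ 10072 Q10072 (allL N10072 (tt N12064 (iv F177051)) (tt N11742 (iv F175132)) (tt N8301 F123482) (tt N10072 F123483) (tt N12079 (iv F177129)) (tt N10072 F123484) (tt N8387 F123485) (tt N8295 (iv D29084)) (tt N12083 D42375) (tt N8326 F123486))
theorem Q10074 : ∀ i, i < 10074 → P i := stepQ 10073 Q10073 (allL N10073 (tt N12065 (iv F177057)) (tt N11743 (iv F175138)) (tt N8302 F123487) (tt N12084 D42376) (tt N12080 (iv F177133)) (tt N10073 F123488) (tt N8296 F123489) (tt N12083 (iv F177145)) (tt N8295 (iv D29085)) (tt N12085 D42377))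
theorem Q10075 : ∀ i, i < 10075 → P i := stepQ 10074 Q10074 (allL N10074 (tt N12066 (iv F177061)) (tt N11744 (iv F175142)) (tt N12043 (iv F176916)) (tt N8296 (iv D29086)) (tt N12086 D42378) (tt N8297 F123490) (tt N12084 (iv F177147)) (tt N8389 F123491) (tt N10074 F123492) (tt N12087 D42379))
theorem Q10076 : ∀ i, i < 10076 → P i := stepQ 10075 Q10075 (allL N10075 (tt N12067 (iv F177065)) (tt N11745 (iv F175147)) (tt N8303 F123493) (tt N12087 (iv F177155)) (tt N12082 (iv F177138)) (tt N8298 F123494) (tt N12085 (iv F177151)) (tt N8390 F123495) (tt N8329 F123496) (tt N8296 (iv D29087)))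
theorem Q10077 : ∀ i, i < 10077 → P i := stepQ 10076 Q10076 (allL N10076 (tt N11761 F201653) (tt N8316 (iv F201964)) (tt N12045 (iv F176926)) (tt N8312 F201654) (tt N8297 (iv D29088)) (tt N12088 D42380) (tt N10076 F123498) (tt N8391 F123499) (tt N10076 F123500) (tt N12089 D42381))
theorem Q10078 : ∀ i, i < 10078 → P i := stepQ 10077 Q10077 (allL N10077 (tt N12068 (iv F177075)) (tt N11746 (iv F175158)) (tt N12046 (iv F176932)) (tt N8298 F123501) (tt N12089 (iv F177162)) (tt N12087 (iv F177156)) (tt N10077 F123502) (tt N8392 F123503) (tt N12090 D42382) (tt N8297 (iv D29089)))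
theorem Q10079 : ∀ i, i < 10079 → P i := stepQ 10078 Q10078 (allL N10078 (tt N12069 (iv F177079)) (tt N8304 F123504) (tt N12078 (iv F177124)) (tt N10078 F123505) (tt N10078 F123506) (tt N8299 (iv D29090)) (tt N8988 F123507) (tt N12091 D42383) (tt N12092 D42384) (tt N8332 F123508))
theorem Q10080 : ∀ i, i < 10080 → P i := stepQ 10079 Q10079 (allL N10079 (tt N12070 (iv F177085)) (tt N8305 F123509) (tt N12079 (iv F177128)) (tt N10079 F123510) (tt N8301 F123511) (tt N12091 (iv F177172)) (tt N8394 F123512) (tt N8299 (iv D29091)) (tt N12093 D42385) (tt N8333 F123513))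
theorem Q10081 : ∀ i, i < 10081 → P i := stepQ 10080 Q10080 (allL N10080 (tt N12071 (iv F177091)) (tt N8306 F123514) (tt N12080 (iv F177132)) (tt N12094 D42386) (tt N8302 F123515) (tt N12092 (iv F177176)) (tt N8300 F123516) (tt N12093 (iv F177181)) (tt N8299 (iv D29092)) (tt N12095 D42387))
theorem Q10082 : ∀ i, i < 10082 → P i := stepQ 10081 Q10081 (allL N10081 (tt N12072 (iv F177095)) (tt N8307 F123517) (tt N12096 D42388) (tt N8300 (iv D29093)) (tt N12047 (iv F176950)) (tt N8991 F123518) (tt N12094 (iv F177183)) (tt N8396 F123519) (tt N10081 F123520) (tt N12097 D42389))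
theorem Q10083 : ∀ i, i < 10083 → P i := stepQ 10082 Q10082 (allL N10082 (tt N12073 (iv F177100)) (tt N8308 F123521) (tt N12082 (iv F177137)) (tt N12097 (iv F177193)) (tt N8303 F123522) (tt N8992 F123523) (tt N12095 (iv F177187)) (tt N8397 F123524) (tt N8336 F123525) (tt N8300 (iv D29094)))
theorem Q10084 : ∀ i, i < 10084 → P i := stepQ 10083 Q10083 (allL N10083 (tt N12074 (iv F177106)) (tt N8309 F123526) (tt N12083 (iv F177142)) (tt N12049 (iv F176960)) (tt N12093 (iv F177179)) (tt N10083 F123527) (tt N8398 F123528) (tt N8302 F123529) (tt N8301 (iv D29095)) (tt N12098 D42390))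
theorem Q10085 : ∀ i, i < 10085 → P i := stepQ 10084 Q10084 (allL N10084 (tt N12075 (iv F177111)) (tt N8310 F123530) (tt N12085 (iv F177149)) (tt N12050 (iv F176965)) (tt N12095 (iv F177186)) (tt N10084 F123531) (tt N8303 F123532) (tt N12098 (iv F177199)) (tt N8338 F123533) (tt N8302 (iv D29096)))
theorem Q10086 : ∀ i, i < 10086 → P i := stepQ 10085 Q10085 (allL N10085 (tt N10085 F123534) (tt N12091 (iv F177169)) (tt N11732 (iv F205802)) (tt N10085 F123535) (tt N10085 F123536) (tt N8305 F123537) (tt N12099 D42391) (tt N8304 (iv D29097)) (tt N12100 D42392) (tt N8339 F123538))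
theorem Q10087 : ∀ i, i < 10087 → P i := stepQ 10086 Q10086 (allL N10086 (tt N10086 F123539) (tt N12092 (iv F177174)) (tt N8788 F206052) (tt N9041 (iv F206178)) (tt N10086 F123540) (tt N8306 F123541) (tt N8790 F206053) (tt N12100 (iv F177210)) (tt N8304 (iv D29098)) (tt N12101 D42394))
theorem Q10088 : ∀ i, i < 10088 → P i := stepQ 10087 Q10087 (allL N10087 (tt N10087 F123543) (tt N12093 (iv F177178)) (tt N11754 (iv F175204)) (tt N12102 D42395) (tt N8309 F123544) (tt N12100 (iv F177209)) (tt N8402 F123545) (tt N8306 F123546) (tt N8305 (iv D29099)) (tt N12103 D42396))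
theorem Q10089 : ∀ i, i < 10089 → P i := stepQ 10088 Q10088 (allL N10088 (tt N10088 F123547) (tt N12094 (iv F177182)) (tt N9037 F206254) (tt N8306 (iv D29100)) (tt N12052 (iv F176986)) (tt N9041 F206255) (tt N8307 F123548) (tt N12102 (iv F177222)) (tt N10088 F123549) (tt N12104 D42398))
theorem Q10090 : ∀ i, i < 10090 → P i := stepQ 10089 Q10089 (allL N10089 (tt N10089 F123550) (tt N12095 (iv F177185)) (tt N11755 (iv F175212)) (tt N12104 (iv F177233)) (tt N8310 F123551) (tt N12101 (iv F177217)) (tt N8308 F123552) (tt N12103 (iv F177227)) (tt N8343 F123553) (tt N8306 (iv D29101)))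
theorem Q10091 : ∀ i, i < 10091 → P i := stepQ 10090 Q10090 (allL N10090 (tt N10090 F123554) (tt N12105 D42399) (tt N8307 (iv D29102)) (tt N8340 F206026) (tt N12054 (iv F176996)) (tt N8342 F206027) (tt N9037 (iv F206145)) (tt N8405 F123556) (tt N10090 F123557) (tt N12106 D42400))
theorem Q10092 : ∀ i, i < 10092 → P i := stepQ 10091 Q10091 (allL N10091 (tt N10091 F123558) (tt N12097 (iv F177192)) (tt N12106 (iv F177239)) (tt N8308 F123559) (tt N12055 (iv F177002)) (tt N8996 F123560) (tt N12104 (iv F177234)) (tt N8406 F123561) (tt N12107 D42401) (tt N8307 (iv D29103)))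
theorem Q10093 : ∀ i, i < 10093 → P i := stepQ 10092 Q10092 (allL N10092 (tt N10092 F123562) (tt N12098 (iv F177196)) (tt N11757 (iv F175227)) (tt N12056 (iv F177007)) (tt N12103 (iv F177225)) (tt N10092 F123563) (tt N8407 F123564) (tt N8310 F123565) (tt N8346 F123566) (tt N8309 (iv D29104)))
theorem Q10094 : ∀ i, i < 10094 → P i := stepQ 10093 Q10093 (allL N10093 (tt N11758 (iv F175233)) (tt N8313 F123567) (tt N10093 F123568) (tt N12108 D42402) (tt N8311 (iv D29105)) (tt N8998 F123569) (tt N12109 D42403) (tt N8408 F123570) (tt N12110 D42404) (tt N12057 (iv F177016)))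
theorem Q10095 : ∀ i, i < 10095 → P i := stepQ 10094 Q10094 (allL N10094 (tt N11759 (iv F175238)) (tt N8314 F123571) (tt N10094 F123572) (tt N10094 F123573) (tt N12109 (iv F177253)) (tt N10094 F123574) (tt N8311 (iv D29106)) (tt N12111 D42405) (tt N12112 D42406) (tt N12058 (iv F177021)))
theorem Q10096 : ∀ i, i < 10096 → P i := stepQ 10095 Q10095 (allL N10095 (tt N11760 (iv F175243)) (tt N8315 F123575) (tt N10095 F123576) (tt N12088 (iv F202063)) (tt N12110 (iv F177256)) (tt N8312 F123577) (tt N12112 (iv F177267)) (tt N8410 F123578) (tt N8311 (iv D29107)) (tt N12113 D42408))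
theorem Q10097 : ∀ i, i < 10097 → P i := stepQ 10096 Q10096 (allL N10096 (tt N11762 (iv F175253)) (tt N8317 F123583) (tt N10096 F123584) (tt N12089 (iv F202065)) (tt N8987 F201655) (tt N12113 (iv F177274)) (tt N10096 F123586) (tt N8411 F123587) (tt N12060 (iv F177035)) (tt N8312 (iv D29109)))
theorem Q10098 : ∀ i, i < 10098 → P i := stepQ 10097 Q10097 (allL N10097 (tt N8323 F123588) (tt N12108 (iv F177247)) (tt N10097 F123589) (tt N8313 (iv D29110)) (tt N10097 F123590) (tt N9000 F123591) (tt N12114 D42412) (tt N8412 F123592) (tt N12115 D42413) (tt N12061 (iv F177041)))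
theorem Q10099 : ∀ i, i < 10099 → P i := stepQ 10098 Q10098 (allL N10098 (tt N8324 F123593) (tt N12109 (iv F177251)) (tt N8318 F123594) (tt N12114 (iv F177292)) (tt N8314 F123595) (tt N12116 D42414) (tt N8313 (iv D29111)) (tt N12117 D42415) (tt N12118 D42416) (tt N12062 (iv F177045)))
theorem Q10100 : ∀ i, i < 10100 → P i := stepQ 10099 Q10099 (allL N10099 (tt N8325 F123596) (tt N12110 (iv F177254)) (tt N8319 F123597) (tt N12119 D42417) (tt N8315 F123598) (tt N9002 F123599) (tt N12118 (iv F177310)) (tt N8414 F123600) (tt N8313 (iv D29112)) (tt N12120 D42418))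
theorem Q10101 : ∀ i, i < 10101 → P i := stepQ 10100 Q10100 (allL N10100 (tt N8326 F123601) (tt N12111 (iv F177259)) (tt N8320 F123602) (tt N10100 F123603) (tt N12117 (iv F177305)) (tt N10100 F123604) (tt N8415 F123605) (tt N8314 (iv D29113)) (tt N12121 D42419) (tt N12064 (iv F177056)))
theorem Q10102 : ∀ i, i < 10102 → P i := stepQ 10101 Q10101 (allL N10101 (tt N8327 F123606) (tt N12112 (iv F177264)) (tt N8321 F123607) (tt N12122 D42420) (tt N12118 (iv F177309)) (tt N10101 F123608) (tt N8315 F123609) (tt N12121 (iv F177323)) (tt N8314 (iv D29114)) (tt N12123 D42421))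
theorem Q10103 : ∀ i, i < 10103 → P i := stepQ 10102 Q10102 (allL N10102 (tt N8328 F123610) (tt N12088 (iv F202062)) (tt N10102 F123611) (tt N8315 (iv D29115)) (tt N12124 D42422) (tt N8316 F123612) (tt N12122 (iv F177327)) (tt N8417 F123613) (tt N10102 F123614) (tt N12125 D42423))
theorem Q10104 : ∀ i, i < 10104 → P i := stepQ 10103 Q10103 (allL N10103 (tt N8329 F123615) (tt N12113 (iv F177272)) (tt N8322 F123616) (tt N12125 (iv F177339)) (tt N12120 (iv F177316)) (tt N8317 F123617) (tt N12123 (iv F177332)) (tt N8418 F123618) (tt N12067 (iv F177069)) (tt N8315 (iv D29116)))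
theorem Q10105 : ∀ i, i < 10105 → P i := stepQ 10104 Q10104 (allL N10104 (tt N8331 F123625) (tt N12089 (iv F202064)) (tt N10104 F123626) (tt N8317 F123627) (tt N11746 (iv F202073)) (tt N12125 (iv F177340)) (tt N10104 F123628) (tt N8419 F123629) (tt N12126 D42426) (tt N8316 (iv D29118)))
theorem Q10106 : ∀ i, i < 10106 → P i := stepQ 10105 Q10105 (allL N10105 (tt N8332 F123630) (tt N10105 F123631) (tt N12116 (iv F177300)) (tt N10105 F123632) (tt N10105 F123633) (tt N8318 (iv D29119)) (tt N9006 F123634) (tt N12127 D42427) (tt N12128 D42428) (tt N12069 (iv F177084)))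
theorem Q10107 : ∀ i, i < 10107 → P i := stepQ 10106 Q10106 (allL N10106 (tt N8333 F123635) (tt N10106 F123636) (tt N12117 (iv F177304)) (tt N10106 F123637) (tt N8320 F123638) (tt N12127 (iv F177362)) (tt N8421 F123639) (tt N8318 (iv D29120)) (tt N12129 D42429) (tt N12070 (iv F177090)))
theorem Q10108 : ∀ i, i < 10108 → P i := stepQ 10107 Q10107 (allL N10107 (tt N8334 F123640) (tt N10107 F123641) (tt N12118 (iv F177308)) (tt N12130 D42430) (tt N8321 F123642) (tt N12128 (iv F177366)) (tt N8319 F123643) (tt N12129 (iv F177372)) (tt N8318 (iv D29121)) (tt N12131 D42431))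
theorem Q10109 : ∀ i, i < 10109 → P i := stepQ 10108 Q10108 (allL N10108 (tt N8335 F123644) (tt N10108 F123645) (tt N12132 D42432) (tt N8319 (iv D29122)) (tt N10108 F123646) (tt N9009 F123647) (tt N12130 (iv F177376)) (tt N8423 F123648) (tt N10108 F123649) (tt N12133 D42433))
theorem Q10110 : ∀ i, i < 10110 → P i := stepQ 10109 Q10109 (allL N10109 (tt N8336 F123650) (tt N10109 F123651) (tt N12120 (iv F177315)) (tt N12133 (iv F177389)) (tt N8322 F123652) (tt N9010 F123653) (tt N12131 (iv F177381)) (tt N8424 F123654) (tt N12073 (iv F177105)) (tt N8319 (iv D29123)))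
theorem Q10111 : ∀ i, i < 10111 → P i := stepQ 10110 Q10110 (allL N10110 (tt N8337 F123655) (tt N10110 F123656) (tt N12121 (iv F177320)) (tt N10110 F123657) (tt N12129 (iv F177370)) (tt N10110 F123658) (tt N8425 F123659) (tt N8321 F123660) (tt N8320 (iv D29124)) (tt N12134 D42434))
theorem Q10112 : ∀ i, i < 10112 → P i := stepQ 10111 Q10111 (allL N10111 (tt N8338 F123661) (tt N10111 F123662) (tt N12123 (iv F177330)) (tt N10111 F123663) (tt N12131 (iv F177380)) (tt N10111 F123664) (tt N8322 F123665) (tt N12134 (iv F177398)) (tt N12075 (iv F177115)) (tt N8321 (iv D29125)))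
theorem Q10113 : ∀ i, i < 10113 → P i := stepQ 10112 Q10112 (allL N10112 (tt N12114 (iv F177290)) (tt N11771 (iv F175327)) (tt N10112 F123666) (tt N8324 F123667) (tt N10112 F123668) (tt N12135 D42435) (tt N8323 (iv D29126)) (tt N12136 D42436) (tt N12137 D42437) (tt N12076 (iv F177119)))
theorem Q10114 : ∀ i, i < 10114 → P i := stepQ 10113 Q10113 (allL N10113 (tt N12115 (iv F177294)) (tt N11772 (iv F175330)) (tt N10113 F123669) (tt N12138 D42438) (tt N10113 F123670) (tt N9014 F123671) (tt N12137 (iv F177408)) (tt N8428 F123672) (tt N8323 (iv D29127)) (tt N12139 D42439))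
theorem Q10115 : ∀ i, i < 10115 → P i := stepQ 10114 Q10114 (allL N10114 (tt N12116 (iv F177299)) (tt N11773 (iv F175334)) (tt N8332 F123673) (tt N12135 (iv F177400)) (tt N10114 F123674) (tt N8324 (iv D29128)) (tt N9015 F123675) (tt N12140 D42440) (tt N12141 D42441) (tt N12078 (iv F177127)))
theorem Q10116 : ∀ i, i < 10116 → P i := stepQ 10115 Q10115 (allL N10115 (tt N12117 (iv F177303)) (tt N11774 (iv F175338)) (tt N8333 F123676) (tt N12136 (iv F177403)) (tt N8326 F123677) (tt N12140 (iv F177418)) (tt N8430 F123678) (tt N8324 (iv D29129)) (tt N12142 D42442) (tt N12079 (iv F177131)))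
theorem Q10117 : ∀ i, i < 10117 → P i := stepQ 10116 Q10116 (allL N10116 (tt N12118 (iv F177307)) (tt N11775 (iv F175342)) (tt N8334 F123679) (tt N12143 D42443) (tt N8327 F123680) (tt N12141 (iv F177421)) (tt N8325 F123681) (tt N12142 (iv F177426)) (tt N8324 (iv D29130)) (tt N12144 D42444))
theorem Q10118 : ∀ i, i < 10118 → P i := stepQ 10117 Q10117 (allL N10117 (tt N12119 (iv F177311)) (tt N11776 (iv F175346)) (tt N12145 D42445) (tt N8325 (iv D29131)) (tt N12146 D42446) (tt N9018 F123682) (tt N12143 (iv F177427)) (tt N8432 F123683) (tt N12138 (iv F177411)) (tt N12147 D42447))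
theorem Q10119 : ∀ i, i < 10119 → P i := stepQ 10118 Q10118 (allL N10118 (tt N12120 (iv F177314)) (tt N11777 (iv F175349)) (tt N8336 F123684) (tt N12147 (iv F177436)) (tt N8329 F123685) (tt N9019 F123686) (tt N12144 (iv F177430)) (tt N8433 F123687) (tt N12082 (iv F177141)) (tt N8325 (iv D29132)))
theorem Q10120 : ∀ i, i < 10120 → P i := stepQ 10119 Q10119 (allL N10119 (tt N12121 (iv F177319)) (tt N9438 F205399) (tt N8337 F123688) (tt N9447 F205400) (tt N12142 (iv F177424)) (tt N10119 F123689) (tt N8434 F123690) (tt N8327 F123691) (tt N8326 (iv D29133)) (tt N12148 D42449))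
theorem Q10121 : ∀ i, i < 10121 → P i := stepQ 10120 Q10120 (allL N10120 (tt N12122 (iv F177324)) (tt N9400 F205401) (tt N10120 F123692) (tt N8327 (iv D29134)) (tt N12149 D42450) (tt N10120 F123693) (tt N8328 F123694) (tt N9447 F205402) (tt N10120 F123695) (tt N12150 D42451))
theorem Q10122 : ∀ i, i < 10122 → P i := stepQ 10121 Q10121 (allL N10121 (tt N12123 (iv F177329)) (tt N11778 (iv F175363)) (tt N8338 F123696) (tt N12150 (iv F177452)) (tt N12144 (iv F177429)) (tt N10121 F123697) (tt N8329 F123698) (tt N12148 (iv F177447)) (tt N12085 (iv F177152)) (tt N8327 (iv D29135)))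
theorem Q10123 : ∀ i, i < 10123 → P i := stepQ 10122 Q10122 (allL N10122 (tt N12124 (iv F177333)) (tt N11779 (iv F175367)) (tt N10122 F123699) (tt N12146 (iv F177434)) (tt N8328 (iv D29136)) (tt N12151 D42452) (tt N12149 (iv F177449)) (tt N8437 F123700) (tt N10122 F123701) (tt N12152 D42453))
theorem Q10124 : ∀ i, i < 10124 → P i := stepQ 10123 Q10123 (allL N10123 (tt N12125 (iv F177337)) (tt N11780 (iv F175370)) (tt N10123 F123702) (tt N8329 F123703) (tt N12152 (iv F177460)) (tt N8331 F123704) (tt N12150 (iv F177454)) (tt N8438 F123705) (tt N12153 D42454) (tt N8328 (iv D29137)))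
theorem Q10125 : ∀ i, i < 10125 → P i := stepQ 10124 Q10124 (allL N10124 (tt N11744 (iv F202070)) (tt N11781 (iv F175374)) (tt N10124 F123706) (tt N9025 F123707) (tt N12151 (iv F177456)) (tt N8330 (iv D29138)) (tt N12154 D42455) (tt N8439 F123708) (tt N10124 F123709) (tt N12155 D42456))
theorem Q10126 : ∀ i, i < 10126 → P i := stepQ 10125 Q10125 (allL N10125 (tt N11746 (iv F202072)) (tt N11782 (iv F175378)) (tt N10125 F123710) (tt N9026 F123711) (tt N8331 F123712) (tt N12155 (iv F177472)) (tt N10125 F123713) (tt N8440 F123714) (tt N12156 D42457) (tt N8330 (iv D29139)))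
theorem Q10127 : ∀ i, i < 10127 → P i := stepQ 10126 Q10126 (allL N10126 (tt N12126 (iv F177353)) (tt N11783 (iv F175383)) (tt N10126 F123715) (tt N12090 (iv F177165)) (tt N12156 (iv F177475)) (tt N12153 (iv F177463)) (tt N10126 F123716) (tt N8441 F123717) (tt N8331 (iv D29140)) (tt N10126 F123718))
theorem Q10128 : ∀ i, i < 10128 → P i := stepQ 10127 Q10127 (allL N10127 (tt N12127 (iv F177358)) (tt N8339 F123719) (tt N12140 (iv F177416)) (tt N10127 F123720) (tt N10127 F123721) (tt N8333 F123722) (tt N12157 D42458) (tt N8332 (iv D29141)) (tt N11816 (iv F205829)) (tt N12091 (iv F177173)))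
theorem Q10129 : ∀ i, i < 10129 → P i := stepQ 10128 Q10128 (allL N10128 (tt N12128 (iv F177363)) (tt N8340 F123723) (tt N12141 (iv F177419)) (tt N12105 (iv F206140)) (tt N10128 F123724) (tt N8334 F123725) (tt N9028 F123726) (tt N11816 (iv F205828)) (tt N8332 (iv D29142)) (tt N12158 D42461))
theorem Q10130 : ∀ i, i < 10130 → P i := stepQ 10129 Q10129 (allL N10129 (tt N12129 (iv F177368)) (tt N8341 F123727) (tt N12142 (iv F177423)) (tt N9087 (iv F205825)) (tt N8337 F123728) (tt N11816 (iv F205827)) (tt N8444 F123729) (tt N8334 F123730) (tt N8333 (iv D29143)) (tt N12159 D42463))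
theorem Q10131 : ∀ i, i < 10131 → P i := stepQ 10130 Q10130 (allL N10130 (tt N12130 (iv F177373)) (tt N8342 F123731) (tt N12160 D42464) (tt N8334 (iv D29144)) (tt N10130 F123732) (tt N12105 (iv F206141)) (tt N8335 F123733) (tt N9087 F206025) (tt N10130 F123734) (tt N12161 D42465))
theorem Q10132 : ∀ i, i < 10132 → P i := stepQ 10131 Q10131 (allL N10131 (tt N12131 (iv F177378)) (tt N8343 F123735) (tt N12144 (iv F177428)) (tt N12161 (iv F177509)) (tt N8338 F123736) (tt N12158 (iv F177494)) (tt N8336 F123737) (tt N12159 (iv F177504)) (tt N12095 (iv F177188)) (tt N8334 (iv D29145)))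
theorem Q10133 : ∀ i, i < 10133 → P i := stepQ 10132 Q10132 (allL N10132 (tt N12132 (iv F177382)) (tt N12162 D42466) (tt N8335 (iv D29146)) (tt N12145 (iv F177431)) (tt N10132 F123738) (tt N9032 F123739) (tt N12160 (iv F177506)) (tt N8447 F123740) (tt N10132 F123741) (tt N12163 D42467))
theorem Q10134 : ∀ i, i < 10134 → P i := stepQ 10133 Q10133 (allL N10133 (tt N12133 (iv F177387)) (tt N8345 F123742) (tt N12163 (iv F177517)) (tt N8336 F123743) (tt N10133 F123744) (tt N9033 F123745) (tt N12161 (iv F177511)) (tt N8448 F123746) (tt N12164 D42468) (tt N8335 (iv D29147)))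
theorem Q10135 : ∀ i, i < 10135 → P i := stepQ 10134 Q10134 (allL N10134 (tt N12134 (iv F177393)) (tt N8346 F123747) (tt N12148 (iv F177444)) (tt N10134 F123748) (tt N12159 (iv F177502)) (tt N10134 F123749) (tt N8449 F123750) (tt N8338 F123751) (tt N12098 (iv F177200)) (tt N8337 (iv D29148)))
theorem Q10136 : ∀ i, i < 10136 → P i := stepQ 10135 Q10135 (allL N10135 (tt N10135 F123752) (tt N12157 (iv F177479)) (tt N11731 (iv F205799)) (tt N10135 F123753) (tt N10135 F123754) (tt N8450 F123755) (tt N8339 (iv D29149)) (tt N9035 F123756) (tt N11814 (iv F205835)) (tt N12099 (iv F177206)))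
theorem Q10137 : ∀ i, i < 10137 → P i := stepQ 10136 Q10136 (allL N10136 (tt N10136 F123765) (tt N12158 (iv F177492)) (tt N11756 (iv F205818)) (tt N12106 (iv F206146)) (tt N10136 F123766) (tt N8343 F123767) (tt N9038 F123768) (tt N11817 (iv F205837)) (tt N12101 (iv F177219)) (tt N8340 (iv D29152)))
theorem Q10138 : ∀ i, i < 10138 → P i := stepQ 10137 Q10137 (allL N10137 (tt N10137 F123774) (tt N12159 (iv F177501)) (tt N8811 F205671) (tt N9088 (iv F205831)) (tt N8346 F123775) (tt N11817 (iv F205836)) (tt N8455 F123776) (tt N8343 F123777) (tt N12103 (iv F177228)) (tt N8341 (iv D29154)))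
theorem Q10139 : ∀ i, i < 10139 → P i := stepQ 10138 Q10138 (allL N10138 (tt N10138 F123782) (tt N12161 (iv F177508)) (tt N8996 (iv F206130)) (tt N8343 F123783) (tt N10138 F123784) (tt N12106 (iv F206147)) (tt N8345 F123785) (tt N9088 F206028) (tt N12165 D42479) (tt N8342 (iv D29156)))
theorem Q10140 : ∀ i, i < 10140 → P i := stepQ 10139 Q10139 (allL N10139 (tt N12166 D42480) (tt N8344 (iv D29157)) (tt N12162 (iv F177512)) (tt N8990 F206047) (tt N10139 F123786) (tt N9043 F123787) (tt N8991 (iv F206129)) (tt N8458 F123788) (tt N10139 F123789) (tt N12167 D42481))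
theorem Q10141 : ∀ i, i < 10141 → P i := stepQ 10140 Q10140 (allL N10140 (tt N10140 F123790) (tt N12167 (iv F177578)) (tt N8345 F123791) (tt N8995 F206048) (tt N10140 F123792) (tt N9044 F123793) (tt N8996 (iv F206131)) (tt N8459 F123794) (tt N12168 D42482) (tt N8344 (iv D29158)))
theorem Q10142 : ∀ i, i < 10142 → P i := stepQ 10141 Q10141 (allL N10141 (tt N10141 F123795) (tt N12164 (iv F177521)) (tt N12168 (iv F177583)) (tt N12107 (iv F177243)) (tt N10141 F123796) (tt N9045 F123797) (tt N12165 (iv F177571)) (tt N8460 F123798) (tt N8345 (iv D29159)) (tt N10141 F123799))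
theorem Q10143 : ∀ i, i < 10143 → P i := stepQ 10142 Q10142 (allL N10142 (tt N10142 F123805) (tt N8349 F123806) (tt N10142 F123807) (tt N12169 D42486) (tt N10142 F123808) (tt N12051 (iv F199575)) (tt N8462 F123809) (tt N12036 (iv F176837)) (tt N8347 (iv D29161)) (tt N12170 D42487))
theorem Q10144 : ∀ i, i < 10144 → P i := stepQ 10143 Q10143 (allL N10143 (tt N8356 F123814) (tt N8366 (iv F199414)) (tt N8351 F123815) (tt N10143 F123816) (tt N8362 (iv F199408)) (tt N8463 F123817) (tt N8348 (iv D29163)) (tt N8360 (iv F199404)) (tt N12171 D42492) (tt N10143 F123818))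
theorem Q10145 : ∀ i, i < 10145 → P i := stepQ 10144 Q10144 (allL N10144 (tt N8357 F123819) (tt N12051 (iv F199574)) (tt N8352 F123820) (tt N12172 D42493) (tt N12049 (iv F199565)) (tt N8349 F123821) (tt N12171 (iv F177634)) (tt N12037 (iv F176851)) (tt N8348 (iv D29164)) (tt N12173 D42494))
theorem Q10146 : ∀ i, i < 10146 → P i := stepQ 10145 Q10145 (allL N10145 (tt N8358 F123822) (tt N12169 (iv F177604)) (tt N8377 F123823) (tt N8349 (iv D29165)) (tt N11826 (iv F202159)) (tt N12172 (iv F177637)) (tt N8465 F123824) (tt N12038 (iv F176855)) (tt N10145 F123825) (tt N12174 D42496))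
theorem Q10147 : ∀ i, i < 10147 → P i := stepQ 10146 Q10146 (allL N10146 (tt N8359 F123826) (tt N12170 (iv F177608)) (tt N8353 F123827) (tt N12174 (iv F177650)) (tt N10146 F123828) (tt N12173 (iv F177641)) (tt N8466 F123829) (tt N12039 (iv F176861)) (tt N10146 F123830) (tt N8349 (iv D29166)))
theorem Q10148 : ∀ i, i < 10148 → P i := stepQ 10147 Q10147 (allL N10147 (tt N8360 F123831) (tt N10147 F123832) (tt N8362 F199486) (tt N10147 F123833) (tt N8351 F123834) (tt N8472 F199487) (tt N8350 (iv D29167)) (tt N8356 F199488) (tt N12175 D42499) (tt N10147 F123835))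
theorem Q10149 : ∀ i, i < 10149 → P i := stepQ 10148 Q10148 (allL N10148 (tt N8361 F123836) (tt N10148 F123837) (tt N12049 (iv F199564)) (tt N12176 D42500) (tt N8352 F123838) (tt N10148 F123839) (tt N12175 (iv F177666)) (tt N12040 (iv F176872)) (tt N8350 (iv D29168)) (tt N12177 D42501))
theorem Q10150 : ∀ i, i < 10150 → P i := stepQ 10149 Q10149 (allL N10149 (tt N8362 F123840) (tt N10149 F123841) (tt N8360 (iv F199403)) (tt N8354 F123842) (tt N8356 (iv F199409)) (tt N8467 F123843) (tt N8355 (iv F199410)) (tt N8351 (iv D29169)) (tt N12178 D42502) (tt N10149 F123844))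
theorem Q10151 : ∀ i, i < 10151 → P i := stepQ 10150 Q10150 (allL N10150 (tt N8363 F123845) (tt N10150 F123846) (tt N12171 (iv F177632)) (tt N8382 F123847) (tt N12175 (iv F177665)) (tt N8468 F123848) (tt N8352 F123849) (tt N12178 (iv F177681)) (tt N8351 (iv D29170)) (tt N12179 D42503))
theorem Q10152 : ∀ i, i < 10152 → P i := stepQ 10151 Q10151 (allL N10151 (tt N8364 F123850) (tt N10151 F123851) (tt N12173 (iv F177640)) (tt N8383 F123852) (tt N12177 (iv F177674)) (tt N8353 F123853) (tt N12179 (iv F177686)) (tt N12042 (iv F176888)) (tt N10151 F123854) (tt N8352 (iv D29171)))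
theorem Q10153 : ∀ i, i < 10153 → P i := stepQ 10152 Q10152 (allL N10152 (tt N12049 (iv F199563)) (tt N10152 F123864) (tt N8361 F123865) (tt N12074 (iv F206838)) (tt N8357 F123866) (tt N10152 F123867) (tt N12178 (iv F199413)) (tt N12041 (iv F199571)) (tt N8355 (iv D29174)) (tt N12180 D42510))
theorem Q10154 : ∀ i, i < 10154 → P i := stepQ 10153 Q10153 (allL N10153 (tt N12171 (iv F177631)) (tt N10153 F123873) (tt N8363 F123874) (tt N12181 D42512) (tt N12178 (iv F199412)) (tt N8473 F123875) (tt N8357 F123876) (tt N12175 (iv F199561)) (tt N8356 (iv D29176)) (tt N12182 D42513))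
theorem Q10155 : ∀ i, i < 10155 → P i := stepQ 10154 Q10154 (allL N10154 (tt N12172 (iv F177635)) (tt N10154 F123877) (tt N8389 F123878) (tt N8357 (iv D29177)) (tt N12183 D42514) (tt N8358 F123879) (tt N12181 (iv F177724)) (tt N12043 (iv F176918)) (tt N10154 F123880) (tt N12184 D42515))
theorem Q10156 : ∀ i, i < 10156 → P i := stepQ 10155 Q10155 (allL N10155 (tt N12173 (iv F177639)) (tt N10155 F123881) (tt N8364 F123882) (tt N12184 (iv F177736)) (tt N12180 (iv F177714)) (tt N8359 F123883) (tt N12182 (iv F177729)) (tt N12044 (iv F176923)) (tt N10155 F123884) (tt N8357 (iv D29178)))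
theorem Q10157 : ∀ i, i < 10157 → P i := stepQ 10156 Q10156 (allL N10156 (tt N11826 F202453) (tt N10156 F123885) (tt N8391 F123886) (tt N10156 F123887) (tt N8358 (iv D29179)) (tt N12185 D42516) (tt N8476 F123888) (tt N12045 (iv F176929)) (tt N10156 F123889) (tt N12186 D42517))
theorem Q10158 : ∀ i, i < 10158 → P i := stepQ 10157 Q10157 (allL N10157 (tt N12174 (iv F177648)) (tt N10157 F123890) (tt N8392 F123891) (tt N8359 F123892) (tt N12186 (iv F177745)) (tt N12184 (iv F177737)) (tt N8477 F123893) (tt N12046 (iv F176935)) (tt N12187 D42518) (tt N8358 (iv D29180)))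
theorem Q10159 : ∀ i, i < 10159 → P i := stepQ 10158 Q10158 (allL N10158 (tt N8472 (iv F199396)) (tt N8365 F123894) (tt N8467 F199283) (tt N10158 F123895) (tt N8478 F123896) (tt N8360 (iv D29181)) (tt N10158 F123897) (tt N8463 F199284) (tt N12188 D42520) (tt N10158 F123898))
theorem Q10160 : ∀ i, i < 10160 → P i := stepQ 10159 Q10159 (allL N10159 (tt N12175 (iv F177663)) (tt N8367 F123903) (tt N12178 (iv F199411)) (tt N12189 D42522) (tt N8363 F123904) (tt N12188 (iv F177759)) (tt N8361 F123905) (tt N12171 (iv F199419)) (tt N8360 (iv D29183)) (tt N12190 D42523))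
theorem Q10161 : ∀ i, i < 10161 → P i := stepQ 10160 Q10160 (allL N10160 (tt N12176 (iv F177667)) (tt N8368 F123906) (tt N12191 D42524) (tt N8361 (iv D29184)) (tt N8396 F123907) (tt N10160 F123908) (tt N12189 (iv F177766)) (tt N12047 (iv F176952)) (tt N10160 F123909) (tt N12192 D42525))
theorem Q10162 : ∀ i, i < 10162 → P i := stepQ 10161 Q10161 (allL N10161 (tt N12177 (iv F177672)) (tt N8369 F123910) (tt N12180 (iv F177713)) (tt N12192 (iv F177776)) (tt N8364 F123911) (tt N10161 F123912) (tt N12190 (iv F177770)) (tt N12048 (iv F176957)) (tt N10161 F123913) (tt N8361 (iv D29185)))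
theorem Q10163 : ∀ i, i < 10163 → P i := stepQ 10162 Q10162 (allL N10162 (tt N12178 (iv F177677)) (tt N8370 F123914) (tt N12175 (iv F199559)) (tt N8398 F123915) (tt N12171 (iv F199418)) (tt N8482 F123916) (tt N12049 (iv F176962)) (tt N8363 F123917) (tt N8362 (iv D29186)) (tt N12193 D42526))
theorem Q10164 : ∀ i, i < 10164 → P i := stepQ 10163 Q10163 (allL N10163 (tt N12179 (iv F177682)) (tt N8371 F123918) (tt N12182 (iv F177727)) (tt N8399 F123919) (tt N12190 (iv F177769)) (tt N8483 F123920) (tt N8364 F123921) (tt N12193 (iv F177782)) (tt N10163 F123922) (tt N8363 (iv D29187)))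
theorem Q10165 : ∀ i, i < 10165 → P i := stepQ 10164 Q10164 (allL N10164 (tt N10164 F123923) (tt N8463 F199285) (tt N10164 F123924) (tt N10164 F123925) (tt N8484 F123926) (tt N8366 F123927) (tt N8461 (iv F199401)) (tt N8365 (iv D29188)) (tt N12194 D42528) (tt N10164 F123928))
theorem Q10166 : ∀ i, i < 10166 → P i := stepQ 10165 Q10165 (allL N10165 (tt N10165 F123929) (tt N12188 (iv F177757)) (tt N10165 F123930) (tt N12195 D42529) (tt N8485 F123931) (tt N8367 F123932) (tt N10165 F123933) (tt N12194 (iv F177794)) (tt N8365 (iv D29189)) (tt N12196 D42530))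
theorem Q10167 : ∀ i, i < 10167 → P i := stepQ 10166 Q10166 (allL N10166 (tt N10166 F123934) (tt N12171 (iv F199417)) (tt N10166 F123935) (tt N12197 D42531) (tt N8370 F123936) (tt N12194 (iv F177793)) (tt N12051 (iv F176983)) (tt N8367 F123937) (tt N8366 (iv D29190)) (tt N12198 D42532))
theorem Q10168 : ∀ i, i < 10168 → P i := stepQ 10167 Q10167 (allL N10167 (tt N10167 F123938) (tt N12189 (iv F177764)) (tt N12199 D42533) (tt N8367 (iv D29191)) (tt N8403 F123939) (tt N12195 (iv F177796)) (tt N8368 F123940) (tt N12197 (iv F177807)) (tt N10167 F123941) (tt N12200 D42534))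
theorem Q10169 : ∀ i, i < 10169 → P i := stepQ 10168 Q10168 (allL N10168 (tt N10168 F123942) (tt N12190 (iv F177768)) (tt N10168 F123943) (tt N12200 (iv F177820)) (tt N8371 F123944) (tt N12196 (iv F177802)) (tt N8369 F123945) (tt N12198 (iv F177812)) (tt N10168 F123946) (tt N8367 (iv D29192)))
theorem Q10170 : ∀ i, i < 10170 → P i := stepQ 10169 Q10169 (allL N10169 (tt N10169 F123947) (tt N12201 D42535) (tt N8368 (iv D29193)) (tt N10169 F123948) (tt N8405 F123949) (tt N10169 F123950) (tt N12199 (iv F177817)) (tt N12054 (iv F176998)) (tt N10169 F123951) (tt N12202 D42536))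
theorem Q10171 : ∀ i, i < 10171 → P i := stepQ 10170 Q10170 (allL N10170 (tt N10170 F123952) (tt N12192 (iv F177775)) (tt N12202 (iv F177828)) (tt N8369 F123953) (tt N8406 F123954) (tt N10170 F123955) (tt N12200 (iv F177822)) (tt N12055 (iv F177004)) (tt N12203 D42537) (tt N8368 (iv D29194)))
theorem Q10172 : ∀ i, i < 10172 → P i := stepQ 10171 Q10171 (allL N10171 (tt N10171 F123956) (tt N12193 (iv F177779)) (tt N10171 F123957) (tt N8407 F123958) (tt N12198 (iv F177811)) (tt N8491 F123959) (tt N12056 (iv F177009)) (tt N8371 F123960) (tt N10171 F123961) (tt N8370 (iv D29195)))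
theorem Q10173 : ∀ i, i < 10173 → P i := stepQ 10172 Q10172 (allL N10172 (tt N9597 (iv F201897)) (tt N8374 F123962) (tt N10172 F123963) (tt N12204 D42538) (tt N8372 (iv D29196)) (tt N9046 F123964) (tt N12205 D42539) (tt N12057 (iv F177015)) (tt N12206 D42540) (tt N8408 F123965))
theorem Q10174 : ∀ i, i < 10174 → P i := stepQ 10173 Q10173 (allL N10173 (tt N9598 (iv F201993)) (tt N8375 F123966) (tt N10173 F123967) (tt N10173 F123968) (tt N12205 (iv F177843)) (tt N8493 F123969) (tt N8372 (iv D29197)) (tt N12207 D42541) (tt N12208 D42542) (tt N8409 F123970))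
theorem Q10175 : ∀ i, i < 10175 → P i := stepQ 10174 Q10174 (allL N10174 (tt N8844 (iv F201944)) (tt N8376 F123971) (tt N10174 F123972) (tt N11837 (iv F202168)) (tt N12206 (iv F177847)) (tt N8373 F123973) (tt N12208 (iv F177857)) (tt N12059 (iv F177025)) (tt N8372 (iv D29198)) (tt N12209 D42544))
theorem Q10176 : ∀ i, i < 10176 → P i := stepQ 10175 Q10175 (allL N10175 (tt N8845 (iv F201945)) (tt N8378 F123977) (tt N10175 F123978) (tt N11838 (iv F202165)) (tt N8824 F201704) (tt N12209 (iv F177863)) (tt N8495 F123980) (tt N12060 (iv F177034)) (tt N8411 F123981) (tt N8373 (iv D29200)))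
theorem Q10177 : ∀ i, i < 10177 → P i := stepQ 10176 Q10176 (allL N10176 (tt N8384 F123982) (tt N12204 (iv F177837)) (tt N10176 F123983) (tt N8374 (iv D29201)) (tt N10176 F123984) (tt N9048 F123985) (tt N12210 D42548) (tt N12061 (iv F177040)) (tt N12211 D42549) (tt N8412 F123986))
theorem Q10178 : ∀ i, i < 10178 → P i := stepQ 10177 Q10177 (allL N10177 (tt N8385 F123987) (tt N12205 (iv F177841)) (tt N8379 F123988) (tt N12210 (iv F177877)) (tt N8375 F123989) (tt N12212 D42550) (tt N8374 (iv D29202)) (tt N12213 D42551) (tt N12214 D42552) (tt N8413 F123990))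
theorem Q10179 : ∀ i, i < 10179 → P i := stepQ 10178 Q10178 (allL N10178 (tt N8386 F123991) (tt N12206 (iv F177845)) (tt N8380 F123992) (tt N12215 D42553) (tt N8376 F123993) (tt N9050 F123994) (tt N12214 (iv F177896)) (tt N12063 (iv F177050)) (tt N8374 (iv D29203)) (tt N12216 D42554))
theorem Q10180 : ∀ i, i < 10180 → P i := stepQ 10179 Q10179 (allL N10179 (tt N8387 F123995) (tt N12207 (iv F177849)) (tt N8381 F123996) (tt N10179 F123997) (tt N12213 (iv F177891)) (tt N8498 F123998) (tt N12064 (iv F177055)) (tt N8375 (iv D29204)) (tt N12217 D42555) (tt N8415 F123999))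
theorem Q10181 : ∀ i, i < 10181 → P i := stepQ 10180 Q10180 (allL N10180 (tt N8388 F124000) (tt N12208 (iv F177854)) (tt N8382 F124001) (tt N12218 D42556) (tt N12214 (iv F177895)) (tt N8499 F124002) (tt N8376 F124003) (tt N12217 (iv F177907)) (tt N8375 (iv D29205)) (tt N12219 D42557))
theorem Q10182 : ∀ i, i < 10182 → P i := stepQ 10181 Q10181 (allL N10181 (tt N8389 F124004) (tt N11837 (iv F202167)) (tt N12172 (iv F177636)) (tt N8376 (iv D29206)) (tt N12220 D42558) (tt N8377 F124005) (tt N12218 (iv F177910)) (tt N12066 (iv F177063)) (tt N10181 F124006) (tt N12221 D42559))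
theorem Q10183 : ∀ i, i < 10183 → P i := stepQ 10182 Q10182 (allL N10182 (tt N8390 F124007) (tt N12209 (iv F177861)) (tt N8383 F124008) (tt N12221 (iv F177920)) (tt N12216 (iv F177901)) (tt N8378 F124009) (tt N12219 (iv F177915)) (tt N12067 (iv F177068)) (tt N8418 F124010) (tt N8376 (iv D29207)))
theorem Q10184 : ∀ i, i < 10184 → P i := stepQ 10183 Q10183 (allL N10183 (tt N8392 F124015) (tt N11838 (iv F202164)) (tt N12174 (iv F177649)) (tt N8378 F124016) (tt N11827 (iv F202160)) (tt N12221 (iv F177921)) (tt N8502 F124017) (tt N12068 (iv F177078)) (tt N12222 D42562) (tt N8377 (iv D29209)))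
theorem Q10185 : ∀ i, i < 10185 → P i := stepQ 10184 Q10184 (allL N10184 (tt N8393 F124018) (tt N10184 F124019) (tt N12212 (iv F177885)) (tt N10184 F124020) (tt N8503 F124021) (tt N8379 (iv D29210)) (tt N9054 F124022) (tt N12223 D42563) (tt N12224 D42564) (tt N8420 F124023))
theorem Q10186 : ∀ i, i < 10186 → P i := stepQ 10185 Q10185 (allL N10185 (tt N8394 F124024) (tt N10185 F124025) (tt N12213 (iv F177890)) (tt N10185 F124026) (tt N8381 F124027) (tt N12223 (iv F177937)) (tt N12070 (iv F177089)) (tt N8379 (iv D29211)) (tt N12225 D42565) (tt N8421 F124028))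
theorem Q10187 : ∀ i, i < 10187 → P i := stepQ 10186 Q10186 (allL N10186 (tt N8395 F124029) (tt N10186 F124030) (tt N12214 (iv F177894)) (tt N12226 D42566) (tt N8382 F124031) (tt N12224 (iv F177942)) (tt N8380 F124032) (tt N12225 (iv F177947)) (tt N8379 (iv D29212)) (tt N12227 D42567))
theorem Q10188 : ∀ i, i < 10188 → P i := stepQ 10187 Q10187 (allL N10187 (tt N8396 F124033) (tt N10187 F124034) (tt N12228 D42568) (tt N8380 (iv D29213)) (tt N12176 (iv F177669)) (tt N9057 F124035) (tt N12226 (iv F177950)) (tt N12072 (iv F177098)) (tt N10187 F124036) (tt N12229 D42569))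
theorem Q10189 : ∀ i, i < 10189 → P i := stepQ 10188 Q10188 (allL N10188 (tt N8397 F124037) (tt N10188 F124038) (tt N12216 (iv F177900)) (tt N12229 (iv F177962)) (tt N8383 F124039) (tt N9058 F124040) (tt N12227 (iv F177955)) (tt N12073 (iv F177104)) (tt N8424 F124041) (tt N8380 (iv D29214)))
theorem Q10190 : ∀ i, i < 10190 → P i := stepQ 10189 Q10189 (allL N10189 (tt N8398 F124042) (tt N10189 F124043) (tt N12217 (iv F177905)) (tt N12178 (iv F177679)) (tt N12225 (iv F177946)) (tt N8507 F124044) (tt N12074 (iv F177109)) (tt N8382 F124045) (tt N8381 (iv D29215)) (tt N12230 D42570))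
theorem Q10191 : ∀ i, i < 10191 → P i := stepQ 10190 Q10190 (allL N10190 (tt N8399 F124046) (tt N10190 F124047) (tt N12219 (iv F177913)) (tt N12179 (iv F177684)) (tt N12227 (iv F177954)) (tt N8508 F124048) (tt N8383 F124049) (tt N12230 (iv F177967)) (tt N8426 F124050) (tt N8382 (iv D29216)))
theorem Q10192 : ∀ i, i < 10192 → P i := stepQ 10191 Q10191 (allL N10191 (tt N12210 (iv F177875)) (tt N11787 (iv F175552)) (tt N10191 F124051) (tt N8385 F124052) (tt N10191 F124053) (tt N12231 D42571) (tt N8384 (iv D29217)) (tt N12232 D42572) (tt N12233 D42573) (tt N8427 F124054))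
theorem Q10193 : ∀ i, i < 10193 → P i := stepQ 10192 Q10192 (allL N10192 (tt N12211 (iv F177880)) (tt N11788 (iv F175556)) (tt N10192 F124055) (tt N12234 D42574) (tt N10192 F124056) (tt N9062 F124057) (tt N12233 (iv F177979)) (tt N12077 (iv F177123)) (tt N8384 (iv D29218)) (tt N12235 D42575))
theorem Q10194 : ∀ i, i < 10194 → P i := stepQ 10193 Q10193 (allL N10193 (tt N12212 (iv F177884)) (tt N11789 (iv F175559)) (tt N8393 F124058) (tt N12231 (iv F177970)) (tt N8511 F124059) (tt N8385 (iv D29219)) (tt N9063 F124060) (tt N12236 D42576) (tt N12237 D42577) (tt N8429 F124061))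
theorem Q10195 : ∀ i, i < 10195 → P i := stepQ 10194 Q10194 (allL N10194 (tt N12213 (iv F177889)) (tt N11790 (iv F175564)) (tt N8394 F124062) (tt N12232 (iv F177974)) (tt N8387 F124063) (tt N12236 (iv F177988)) (tt N12079 (iv F177130)) (tt N8385 (iv D29220)) (tt N12238 D42578) (tt N8430 F124064))
theorem Q10196 : ∀ i, i < 10196 → P i := stepQ 10195 Q10195 (allL N10195 (tt N12214 (iv F177893)) (tt N11791 (iv F175568)) (tt N8395 F124065) (tt N12239 D42579) (tt N8388 F124066) (tt N12237 (iv F177992)) (tt N8386 F124067) (tt N12238 (iv F177996)) (tt N8385 (iv D29221)) (tt N12240 D42580))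
theorem Q10197 : ∀ i, i < 10197 → P i := stepQ 10196 Q10196 (allL N10196 (tt N12215 (iv F177897)) (tt N11792 (iv F175572)) (tt N12241 D42581) (tt N8386 (iv D29222)) (tt N12242 D42582) (tt N9066 F124068) (tt N12239 (iv F177997)) (tt N12081 (iv F177136)) (tt N12234 (iv F177981)) (tt N12243 D42583))
theorem Q10198 : ∀ i, i < 10198 → P i := stepQ 10197 Q10197 (allL N10197 (tt N12216 (iv F177899)) (tt N11793 (iv F175574)) (tt N8397 F124069) (tt N12243 (iv F178005)) (tt N8390 F124070) (tt N9067 F124071) (tt N12240 (iv F178000)) (tt N12082 (iv F177140)) (tt N8433 F124072) (tt N8386 (iv D29223)))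
theorem Q10199 : ∀ i, i < 10199 → P i := stepQ 10198 Q10198 (allL N10198 (tt N12217 (iv F177904)) (tt N11794 (iv F175579)) (tt N8398 F124073) (tt N12244 D42584) (tt N12238 (iv F177995)) (tt N8516 F124074) (tt N12083 (iv F177144)) (tt N8388 F124075) (tt N8387 (iv D29224)) (tt N12245 D42585))
theorem Q10200 : ∀ i, i < 10200 → P i := stepQ 10199 Q10199 (allL N10199 (tt N12218 (iv F177908)) (tt N11795 (iv F175583)) (tt N12181 (iv F177722)) (tt N8388 (iv D29225)) (tt N12246 D42586) (tt N8517 F124076) (tt N8389 F124077) (tt N12244 (iv F178008)) (tt N10199 F124078) (tt N12247 D42587))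
theorem Q10201 : ∀ i, i < 10201 → P i := stepQ 10200 Q10200 (allL N10200 (tt N12219 (iv F177912)) (tt N11796 (iv F175588)) (tt N8399 F124079) (tt N12247 (iv F178016)) (tt N12240 (iv F177999)) (tt N8518 F124080) (tt N8390 F124081) (tt N12245 (iv F178012)) (tt N8436 F124082) (tt N8388 (iv D29226)))
theorem Q10202 : ∀ i, i < 10202 → P i := stepQ 10201 Q10201 (allL N10201 (tt N12220 (iv F177917)) (tt N11797 (iv F175593)) (tt N12183 (iv F177732)) (tt N12242 (iv F178004)) (tt N8389 (iv D29227)) (tt N12248 D42588) (tt N12246 (iv F178014)) (tt N12086 (iv F177153)) (tt N10201 F124083) (tt N12249 D42589))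
theorem Q10203 : ∀ i, i < 10203 → P i := stepQ 10202 Q10202 (allL N10202 (tt N12221 (iv F177919)) (tt N11798 (iv F175596)) (tt N12184 (iv F177735)) (tt N8390 F124084) (tt N12249 (iv F178021)) (tt N8392 F124085) (tt N12247 (iv F178018)) (tt N12087 (iv F177157)) (tt N12250 D42590) (tt N8389 (iv D29228)))
theorem Q10204 : ∀ i, i < 10204 → P i := stepQ 10203 Q10203 (allL N10203 (tt N11824 F202454) (tt N8417 (iv F202786)) (tt N12185 (iv F177739)) (tt N8410 F202455) (tt N12248 (iv F178019)) (tt N8391 (iv D29229)) (tt N12251 D42591) (tt N12088 (iv F177159)) (tt N10203 F124087) (tt N12252 D42592))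
theorem Q10205 : ∀ i, i < 10205 → P i := stepQ 10204 Q10204 (allL N10204 (tt N11827 F202446) (tt N8419 (iv F202789)) (tt N12186 (iv F177743)) (tt N8411 F202447) (tt N8392 F124089) (tt N12252 (iv F178029)) (tt N8522 F124090) (tt N12089 (iv F177164)) (tt N12253 D42593) (tt N8391 (iv D29230)))
theorem Q10206 : ∀ i, i < 10206 → P i := stepQ 10205 Q10205 (allL N10205 (tt N12222 (iv F177929)) (tt N11799 (iv F175609)) (tt N12187 (iv F177748)) (tt N8441 F124091) (tt N12253 (iv F178030)) (tt N12250 (iv F178023)) (tt N8523 F124092) (tt N12090 (iv F177167)) (tt N8392 (iv D29231)) (tt N10205 F124093))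
theorem Q10207 : ∀ i, i < 10207 → P i := stepQ 10206 Q10206 (allL N10206 (tt N12223 (iv F177933)) (tt N8400 F124094) (tt N12236 (iv F177986)) (tt N10206 F124095) (tt N8524 F124096) (tt N8394 F124097) (tt N12254 D42594) (tt N8393 (iv D29232)) (tt N12255 D42595) (tt N8442 F124098))
theorem Q10208 : ∀ i, i < 10208 → P i := stepQ 10207 Q10207 (allL N10207 (tt N12224 (iv F177939)) (tt N8401 F124099) (tt N12237 (iv F177990)) (tt N12256 D42596) (tt N8525 F124100) (tt N8395 F124101) (tt N9074 F124102) (tt N12255 (iv F178041)) (tt N8393 (iv D29233)) (tt N12257 D42597))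
theorem Q10209 : ∀ i, i < 10209 → P i := stepQ 10208 Q10208 (allL N10208 (tt N12225 (iv F177944)) (tt N8402 F124103) (tt N12238 (iv F177994)) (tt N12258 D42598) (tt N8398 F124104) (tt N12255 (iv F178040)) (tt N12093 (iv F177180)) (tt N8395 F124105) (tt N8394 (iv D29234)) (tt N12259 D42599))
theorem Q10210 : ∀ i, i < 10210 → P i := stepQ 10209 Q10209 (allL N10209 (tt N12226 (iv F177948)) (tt N8403 F124106) (tt N12260 D42600) (tt N8395 (iv D29235)) (tt N12189 (iv F177765)) (tt N12256 (iv F178043)) (tt N8396 F124107) (tt N12258 (iv F178052)) (tt N10209 F124108) (tt N12261 D42601))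
theorem Q10211 : ∀ i, i < 10211 → P i := stepQ 10210 Q10210 (allL N10210 (tt N12227 (iv F177952)) (tt N8404 F124109) (tt N12240 (iv F177998)) (tt N12261 (iv F178061)) (tt N8399 F124110) (tt N12257 (iv F178048)) (tt N8397 F124111) (tt N12259 (iv F178056)) (tt N8446 F124112) (tt N8395 (iv D29236)))
theorem Q10212 : ∀ i, i < 10212 → P i := stepQ 10211 Q10211 (allL N10211 (tt N12228 (iv F177957)) (tt N12262 D42602) (tt N8396 (iv D29237)) (tt N12241 (iv F178002)) (tt N12191 (iv F177772)) (tt N9078 F124113) (tt N12260 (iv F178058)) (tt N12096 (iv F177190)) (tt N10211 F124114) (tt N12263 D42603))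
theorem Q10213 : ∀ i, i < 10213 → P i := stepQ 10212 Q10212 (allL N10212 (tt N12229 (iv F177960)) (tt N8406 F124115) (tt N12263 (iv F178066)) (tt N8397 F124116) (tt N12192 (iv F177777)) (tt N9079 F124117) (tt N12261 (iv F178062)) (tt N12097 (iv F177195)) (tt N12264 D42604) (tt N8396 (iv D29238)))
theorem Q10214 : ∀ i, i < 10214 → P i := stepQ 10213 Q10213 (allL N10213 (tt N12230 (iv F177964)) (tt N8407 F124118) (tt N12245 (iv F178010)) (tt N12193 (iv F177780)) (tt N12259 (iv F178055)) (tt N8531 F124119) (tt N12098 (iv F177198)) (tt N8399 F124120) (tt N8449 F124121) (tt N8398 (iv D29239)))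
theorem Q10215 : ∀ i, i < 10215 → P i := stepQ 10214 Q10214 (allL N10214 (tt N10214 F124122) (tt N12254 (iv F178033)) (tt N11808 (iv F175644)) (tt N10214 F124123) (tt N8532 F124124) (tt N12099 (iv F177204)) (tt N8400 (iv D29240)) (tt N9081 F124125) (tt N12265 D42605) (tt N8450 F124126))
theorem Q10216 : ∀ i, i < 10216 → P i := stepQ 10215 Q10215 (allL N10215 (tt N10215 F124127) (tt N12255 (iv F178038)) (tt N11809 (iv F175649)) (tt N12266 D42606) (tt N8533 F124128) (tt N8402 F124129) (tt N12265 (iv F178074)) (tt N8401 F124130) (tt N8400 (iv D29241)) (tt N12267 D42607))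
theorem Q10217 : ∀ i, i < 10217 → P i := stepQ 10216 Q10216 (allL N10216 (tt N10216 F124131) (tt N12256 (iv F178042)) (tt N12268 D42608) (tt N8401 (iv D29242)) (tt N12269 D42609) (tt N8403 F124132) (tt N9083 F124133) (tt N12266 (iv F178078)) (tt N10216 F124134) (tt N12270 D42610))
theorem Q10218 : ∀ i, i < 10218 → P i := stepQ 10217 Q10217 (allL N10217 (tt N10217 F124135) (tt N12257 (iv F178046)) (tt N11811 (iv F175657)) (tt N12270 (iv F178094)) (tt N8535 F124136) (tt N8404 F124137) (tt N9084 F124138) (tt N12267 (iv F178083)) (tt N8453 F124139) (tt N8401 (iv D29243)))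
theorem Q10219 : ∀ i, i < 10219 → P i := stepQ 10218 Q10218 (allL N10218 (tt N10218 F124140) (tt N12258 (iv F178051)) (tt N12271 D42611) (tt N8402 (iv D29244)) (tt N12197 (iv F177806)) (tt N12266 (iv F178077)) (tt N12102 (iv F177221)) (tt N8403 F124141) (tt N10218 F124142) (tt N12272 D42612))
theorem Q10220 : ∀ i, i < 10220 → P i := stepQ 10219 Q10219 (allL N10219 (tt N10219 F124143) (tt N12259 (iv F178054)) (tt N11813 (iv F175666)) (tt N12272 (iv F178101)) (tt N8407 F124144) (tt N12267 (iv F178082)) (tt N12103 (iv F177226)) (tt N8404 F124145) (tt N8455 F124146) (tt N8402 (iv D29245)))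
theorem Q10221 : ∀ i, i < 10221 → P i := stepQ 10220 Q10220 (allL N10220 (tt N10220 F124147) (tt N12273 D42613) (tt N8403 (iv D29246)) (tt N11814 (iv F175671)) (tt N12199 (iv F177816)) (tt N12268 (iv F178086)) (tt N8405 F124148) (tt N12271 (iv F178098)) (tt N10220 F124149) (tt N12274 D42614))
theorem Q10222 : ∀ i, i < 10222 → P i := stepQ 10221 Q10221 (allL N10221 (tt N10221 F124150) (tt N12261 (iv F178060)) (tt N12274 (iv F178106)) (tt N8404 F124151) (tt N12200 (iv F177821)) (tt N12270 (iv F178095)) (tt N8406 F124152) (tt N12272 (iv F178102)) (tt N12275 D42615) (tt N8403 (iv D29247)))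
theorem Q10223 : ∀ i, i < 10223 → P i := stepQ 10222 Q10222 (allL N10222 (tt N12276 D42616) (tt N8405 (iv D29248)) (tt N12262 (iv F178063)) (tt N11816 (iv F175678)) (tt N12201 (iv F177824)) (tt N9087 F124153) (tt N12273 (iv F178103)) (tt N12105 (iv F177236)) (tt N10222 F124154) (tt N12277 D42617))
theorem Q10224 : ∀ i, i < 10224 → P i := stepQ 10223 Q10223 (allL N10223 (tt N10223 F124155) (tt N12277 (iv F178115)) (tt N8406 F124156) (tt N11817 (iv F175683)) (tt N12202 (iv F177830)) (tt N9088 F124157) (tt N12274 (iv F178107)) (tt N12106 (iv F177241)) (tt N12278 D42618) (tt N8405 (iv D29249)))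
theorem Q10225 : ∀ i, i < 10225 → P i := stepQ 10224 Q10224 (allL N10224 (tt N10224 F124158) (tt N12264 (iv F178068)) (tt N12278 (iv F178118)) (tt N8460 F124159) (tt N12203 (iv F177834)) (tt N9089 F124160) (tt N12275 (iv F178110)) (tt N12107 (iv F177245)) (tt N8406 (iv D29250)) (tt N10224 F124161))
theorem Q10226 : ∀ i, i < 10226 → P i := stepQ 10225 Q10225 (allL N10225 (tt N11819 (iv F175690)) (tt N8412 F124162) (tt N12279 D42619) (tt N8408 (iv D29251)) (tt N10225 F124163) (tt N9090 F124164) (tt N12280 D42620) (tt N12108 (iv F177250)) (tt N12281 D42621) (tt N12204 (iv F177840)))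
theorem Q10227 : ∀ i, i < 10227 → P i := stepQ 10226 Q10226 (allL N10226 (tt N11820 (iv F175694)) (tt N8413 F124165) (tt N10226 F124166) (tt N12280 (iv F178126)) (tt N8409 F124167) (tt N12282 D42622) (tt N8408 (iv D29252)) (tt N12283 D42623) (tt N12284 D42624) (tt N12205 (iv F177844)))
theorem Q10228 : ∀ i, i < 10228 → P i := stepQ 10227 Q10227 (allL N10227 (tt N11821 (iv F175698)) (tt N8414 F124168) (tt N10227 F124169) (tt N12285 D42625) (tt N8410 F124170) (tt N9071 F202302) (tt N12284 (iv F178141)) (tt N12110 (iv F177258)) (tt N8408 (iv D29253)) (tt N12286 D42626))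
theorem Q10229 : ∀ i, i < 10229 → P i := stepQ 10228 Q10228 (allL N10228 (tt N11822 (iv F175703)) (tt N8415 F124172) (tt N10228 F124173) (tt N10228 F124174) (tt N12283 (iv F178137)) (tt N8546 F124175) (tt N12111 (iv F177263)) (tt N8409 (iv D29254)) (tt N12287 D42627) (tt N12207 (iv F177853)))
theorem Q10230 : ∀ i, i < 10230 → P i := stepQ 10229 Q10229 (allL N10229 (tt N11823 (iv F175708)) (tt N8416 F124176) (tt N10229 F124177) (tt N12251 (iv F202952)) (tt N12284 (iv F178140)) (tt N8547 F124178) (tt N8410 F124179) (tt N12287 (iv F178151)) (tt N8409 (iv D29255)) (tt N12288 D42629))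
theorem Q10231 : ∀ i, i < 10231 → P i := stepQ 10230 Q10230 (allL N10230 (tt N11825 (iv F175717)) (tt N8418 F124183) (tt N10230 F124184) (tt N12252 (iv F202943)) (tt N12286 (iv F178146)) (tt N8411 F124185) (tt N12288 (iv F178159)) (tt N12113 (iv F177275)) (tt N12209 (iv F177864)) (tt N8410 (iv D29257)))
theorem Q10232 : ∀ i, i < 10232 → P i := stepQ 10231 Q10231 (allL N10231 (tt N8427 F124197) (tt N12280 (iv F178125)) (tt N10231 F124198) (tt N8413 F124199) (tt N10231 F124200) (tt N12289 D42638) (tt N8412 (iv D29261)) (tt N12290 D42639) (tt N12291 D42640) (tt N12210 (iv F177879)))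
theorem Q10233 : ∀ i, i < 10233 → P i := stepQ 10232 Q10232 (allL N10232 (tt N8428 F124201) (tt N12281 (iv F178128)) (tt N10232 F124202) (tt N12292 D42641) (tt N10232 F124203) (tt N9094 F124204) (tt N12291 (iv F178198)) (tt N12115 (iv F177298)) (tt N8412 (iv D29262)) (tt N12293 D42642))
theorem Q10234 : ∀ i, i < 10234 → P i := stepQ 10233 Q10233 (allL N10233 (tt N8429 F124205) (tt N12282 (iv F178131)) (tt N8420 F124206) (tt N12289 (iv F178189)) (tt N8551 F124207) (tt N8413 (iv D29263)) (tt N9095 F124208) (tt N12294 D42643) (tt N12295 D42644) (tt N12212 (iv F177888)))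
theorem Q10235 : ∀ i, i < 10235 → P i := stepQ 10234 Q10234 (allL N10234 (tt N8430 F124209) (tt N12283 (iv F178135)) (tt N8421 F124210) (tt N12290 (iv F178193)) (tt N8415 F124211) (tt N12294 (iv F178209)) (tt N12117 (iv F177306)) (tt N8413 (iv D29264)) (tt N12296 D42645) (tt N12213 (iv F177892)))
theorem Q10236 : ∀ i, i < 10236 → P i := stepQ 10235 Q10235 (allL N10235 (tt N8431 F124212) (tt N12284 (iv F178138)) (tt N8422 F124213) (tt N12297 D42646) (tt N8416 F124214) (tt N12295 (iv F178213)) (tt N8414 F124215) (tt N12296 (iv F178218)) (tt N8413 (iv D29265)) (tt N12298 D42647))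
theorem Q10237 : ∀ i, i < 10237 → P i := stepQ 10236 Q10236 (allL N10236 (tt N8432 F124216) (tt N12285 (iv F178142)) (tt N12299 D42648) (tt N8414 (iv D29266)) (tt N12300 D42649) (tt N9098 F124217) (tt N12297 (iv F178220)) (tt N12119 (iv F177313)) (tt N12292 (iv F178201)) (tt N12301 D42650))
theorem Q10238 : ∀ i, i < 10238 → P i := stepQ 10237 Q10237 (allL N10237 (tt N8433 F124218) (tt N12286 (iv F178144)) (tt N8424 F124219) (tt N12301 (iv F178231)) (tt N8418 F124220) (tt N9099 F124221) (tt N12298 (iv F178224)) (tt N12120 (iv F177318)) (tt N12216 (iv F177903)) (tt N8414 (iv D29267)))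
theorem Q10239 : ∀ i, i < 10239 → P i := stepQ 10238 Q10238 (allL N10238 (tt N8434 F124222) (tt N12287 (iv F178148)) (tt N8425 F124223) (tt N12302 D42651) (tt N12296 (iv F178217)) (tt N8556 F124224) (tt N12121 (iv F177322)) (tt N8416 F124225) (tt N8415 (iv D29268)) (tt N12303 D42652))
theorem Q10240 : ∀ i, i < 10240 → P i := stepQ 10239 Q10239 (allL N10239 (tt N8435 F124226) (tt N12251 (iv F202951)) (tt N10239 F124227) (tt N8416 (iv D29269)) (tt N12304 D42653) (tt N8557 F124228) (tt N8417 F124229) (tt N12302 (iv F178236)) (tt N10239 F124230) (tt N12305 D42654))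
theorem Q10241 : ∀ i, i < 10241 → P i := stepQ 10240 Q10240 (allL N10240 (tt N8436 F124231) (tt N12288 (iv F178156)) (tt N8426 F124232) (tt N12305 (iv F178248)) (tt N12298 (iv F178223)) (tt N8558 F124233) (tt N8418 F124234) (tt N12303 (iv F178241)) (tt N12219 (iv F177916)) (tt N8416 (iv D29270)))
theorem Q10242 : ∀ i, i < 10242 → P i := stepQ 10241 Q10241 (allL N10241 (tt N8437 F124235) (tt N12248 (iv F202950)) (tt N10241 F124236) (tt N12300 (iv F178229)) (tt N8417 (iv D29271)) (tt N11797 (iv F202865)) (tt N12304 (iv F178244)) (tt N12124 (iv F177335)) (tt N10241 F124237) (tt N12306 D42656))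
theorem Q10243 : ∀ i, i < 10243 → P i := stepQ 10242 Q10242 (allL N10242 (tt N8438 F124238) (tt N12252 (iv F202942)) (tt N10242 F124239) (tt N8418 F124240) (tt N12306 (iv F178257)) (tt N8419 F124241) (tt N12305 (iv F178250)) (tt N12125 (iv F177341)) (tt N12307 D42657) (tt N8417 (iv D29272)))
theorem Q10244 : ∀ i, i < 10244 → P i := stepQ 10243 Q10243 (allL N10243 (tt N8441 F124251) (tt N12253 (iv F202944)) (tt N10243 F124252) (tt N12222 (iv F177930)) (tt N11799 (iv F202842)) (tt N12307 (iv F178260)) (tt N8561 F124253) (tt N12126 (iv F177356)) (tt N8419 (iv D29275)) (tt N10243 F124254))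
theorem Q10245 : ∀ i, i < 10245 → P i := stepQ 10244 Q10244 (allL N10244 (tt N8442 F124255) (tt N10244 F124256) (tt N12294 (iv F178207)) (tt N10244 F124257) (tt N8562 F124258) (tt N8421 F124259) (tt N12308 D42661) (tt N8420 (iv D29276)) (tt N12309 D42662) (tt N12223 (iv F177938)))
theorem Q10246 : ∀ i, i < 10246 → P i := stepQ 10245 Q10245 (allL N10245 (tt N8443 F124260) (tt N10245 F124261) (tt N12295 (iv F178211)) (tt N12310 D42663) (tt N8563 F124262) (tt N8422 F124263) (tt N9103 F124264) (tt N12309 (iv F178285)) (tt N8420 (iv D29277)) (tt N12311 D42664))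
theorem Q10247 : ∀ i, i < 10247 → P i := stepQ 10246 Q10246 (allL N10246 (tt N8444 F124265) (tt N10246 F124266) (tt N12296 (iv F178216)) (tt N12312 D42665) (tt N8425 F124267) (tt N12309 (iv F178284)) (tt N12129 (iv F177371)) (tt N8422 F124268) (tt N8421 (iv D29278)) (tt N12313 D42666))
theorem Q10248 : ∀ i, i < 10248 → P i := stepQ 10247 Q10247 (allL N10247 (tt N8445 F124269) (tt N10247 F124270) (tt N12314 D42667) (tt N8422 (iv D29279)) (tt N10247 F124271) (tt N12310 (iv F178288)) (tt N8423 F124272) (tt N12312 (iv F178299)) (tt N10247 F124273) (tt N12315 D42668))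
theorem Q10249 : ∀ i, i < 10249 → P i := stepQ 10248 Q10248 (allL N10248 (tt N8446 F124274) (tt N10248 F124275) (tt N12298 (iv F178222)) (tt N12315 (iv F178311)) (tt N8426 F124276) (tt N12311 (iv F178294)) (tt N8424 F124277) (tt N12313 (iv F178304)) (tt N12227 (iv F177956)) (tt N8422 (iv D29280)))
theorem Q10250 : ∀ i, i < 10250 → P i := stepQ 10249 Q10249 (allL N10249 (tt N8447 F124278) (tt N12316 D42669) (tt N8423 (iv D29281)) (tt N12299 (iv F178226)) (tt N10249 F124279) (tt N9107 F124280) (tt N12314 (iv F178307)) (tt N12132 (iv F177385)) (tt N10249 F124281) (tt N12317 D42670))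
theorem Q10251 : ∀ i, i < 10251 → P i := stepQ 10250 Q10250 (allL N10250 (tt N8448 F124282) (tt N10250 F124283) (tt N12317 (iv F178319)) (tt N8424 F124284) (tt N10250 F124285) (tt N9108 F124286) (tt N12315 (iv F178313)) (tt N12133 (iv F177392)) (tt N12318 D42671) (tt N8423 (iv D29282)))
theorem Q10252 : ∀ i, i < 10252 → P i := stepQ 10251 Q10251 (allL N10251 (tt N8449 F124287) (tt N10251 F124288) (tt N12303 (iv F178239)) (tt N10251 F124289) (tt N12313 (iv F178303)) (tt N8569 F124290) (tt N12134 (iv F177397)) (tt N8426 F124291) (tt N12230 (iv F177968)) (tt N8425 (iv D29283)))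
theorem Q10253 : ∀ i, i < 10253 → P i := stepQ 10252 Q10252 (allL N10252 (tt N12289 (iv F178187)) (tt N11844 (iv F175814)) (tt N10252 F124292) (tt N8429 F124293) (tt N12319 D42672) (tt N8427 (iv D29284)) (tt N9110 F124294) (tt N12320 D42673) (tt N12321 D42674) (tt N12231 (iv F177972)))
theorem Q10254 : ∀ i, i < 10254 → P i := stepQ 10253 Q10253 (allL N10253 (tt N12290 (iv F178191)) (tt N11845 (iv F175817)) (tt N10253 F124295) (tt N8430 F124296) (tt N10253 F124297) (tt N12320 (iv F178333)) (tt N12136 (iv F177405)) (tt N8427 (iv D29285)) (tt N12322 D42675) (tt N12232 (iv F177976)))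
theorem Q10255 : ∀ i, i < 10255 → P i := stepQ 10254 Q10254 (allL N10254 (tt N12291 (iv F178195)) (tt N11846 (iv F175820)) (tt N10254 F124298) (tt N12323 D42676) (tt N10254 F124299) (tt N12321 (iv F178335)) (tt N8428 F124300) (tt N12322 (iv F178339)) (tt N8427 (iv D29286)) (tt N12324 D42677))
theorem Q10256 : ∀ i, i < 10256 → P i := stepQ 10255 Q10255 (allL N10255 (tt N12292 (iv F178199)) (tt N11847 (iv F175823)) (tt N12325 D42678) (tt N8428 (iv D29287)) (tt N12326 D42679) (tt N9113 F124301) (tt N12323 (iv F178340)) (tt N12138 (iv F177410)) (tt N8432 F124302) (tt N12327 D42680))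
theorem Q10257 : ∀ i, i < 10257 → P i := stepQ 10256 Q10256 (allL N10256 (tt N12293 (iv F178202)) (tt N11848 (iv F175826)) (tt N10256 F124303) (tt N12327 (iv F178350)) (tt N10256 F124304) (tt N9114 F124305) (tt N12324 (iv F178344)) (tt N12139 (iv F177415)) (tt N12235 (iv F177985)) (tt N8428 (iv D29288)))
theorem Q10258 : ∀ i, i < 10258 → P i := stepQ 10257 Q10257 (allL N10257 (tt N12294 (iv F178206)) (tt N11849 (iv F175829)) (tt N8442 F124306) (tt N12320 (iv F178332)) (tt N8575 F124307) (tt N8430 F124308) (tt N12328 D42681) (tt N8429 (iv D29289)) (tt N12329 D42682) (tt N12236 (iv F177989)))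
theorem Q10259 : ∀ i, i < 10259 → P i := stepQ 10258 Q10258 (allL N10258 (tt N12295 (iv F178210)) (tt N11850 (iv F175833)) (tt N8443 F124309) (tt N12330 D42683) (tt N8576 F124310) (tt N8431 F124311) (tt N9116 F124312) (tt N12329 (iv F178358)) (tt N8429 (iv D29290)) (tt N12331 D42684))
theorem Q10260 : ∀ i, i < 10260 → P i := stepQ 10259 Q10259 (allL N10259 (tt N12296 (iv F178215)) (tt N11851 (iv F175838)) (tt N8444 F124313) (tt N12332 D42685) (tt N8434 F124314) (tt N12329 (iv F178357)) (tt N12142 (iv F177425)) (tt N8431 F124315) (tt N8430 (iv D29291)) (tt N12333 D42686))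
theorem Q10261 : ∀ i, i < 10261 → P i := stepQ 10260 Q10260 (allL N10260 (tt N12297 (iv F178219)) (tt N11852 (iv F175842)) (tt N12334 D42687) (tt N8431 (iv D29292)) (tt N12335 D42688) (tt N12330 (iv F178359)) (tt N8432 F124316) (tt N12332 (iv F178365)) (tt N12323 (iv F178341)) (tt N12336 D42689))
theorem Q10262 : ∀ i, i < 10262 → P i := stepQ 10261 Q10261 (allL N10261 (tt N12298 (iv F178221)) (tt N11853 (iv F175844)) (tt N8446 F124317) (tt N12336 (iv F178373)) (tt N8436 F124318) (tt N12331 (iv F178363)) (tt N8433 F124319) (tt N12333 (iv F178368)) (tt N12240 (iv F178001)) (tt N8431 (iv D29293)))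
theorem Q10263 : ∀ i, i < 10263 → P i := stepQ 10262 Q10262 (allL N10262 (tt N12299 (iv F178225)) (tt N12337 D42690) (tt N8432 (iv D29294)) (tt N8447 F124320) (tt N12338 D42691) (tt N9120 F124321) (tt N12334 (iv F178370)) (tt N12145 (iv F177433)) (tt N12325 (iv F178347)) (tt N12339 D42692))
theorem Q10264 : ∀ i, i < 10264 → P i := stepQ 10263 Q10263 (allL N10263 (tt N12300 (iv F178228)) (tt N11855 (iv F175850)) (tt N12338 (iv F178377)) (tt N8437 F124322) (tt N8432 (iv D29295)) (tt N12340 D42693) (tt N12335 (iv F178372)) (tt N12146 (iv F177435)) (tt N12326 (iv F178349)) (tt N12341 D42694))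
theorem Q10265 : ∀ i, i < 10265 → P i := stepQ 10264 Q10264 (allL N10264 (tt N12301 (iv F178230)) (tt N11856 (iv F175852)) (tt N12339 (iv F178379)) (tt N8433 F124323) (tt N12341 (iv F178385)) (tt N9122 F124324) (tt N12336 (iv F178374)) (tt N12147 (iv F177438)) (tt N12342 D42695) (tt N8432 (iv D29296)))
theorem Q10266 : ∀ i, i < 10266 → P i := stepQ 10265 Q10265 (allL N10265 (tt N12302 (iv F178233)) (tt N9445 F205198) (tt N10265 F124325) (tt N8434 (iv D29297)) (tt N12343 D42696) (tt N8583 F124326) (tt N9447 (iv F205287)) (tt N8435 F124327) (tt N10265 F124328) (tt N12344 D42697))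
theorem Q10267 : ∀ i, i < 10267 → P i := stepQ 10266 Q10266 (allL N10266 (tt N12303 (iv F178238)) (tt N11857 (iv F175859)) (tt N8449 F124329) (tt N12344 (iv F178391)) (tt N12333 (iv F178367)) (tt N8584 F124330) (tt N12148 (iv F177446)) (tt N8436 F124331) (tt N12245 (iv F178013)) (tt N8434 (iv D29298)))
theorem Q10268 : ∀ i, i < 10268 → P i := stepQ 10267 Q10267 (allL N10267 (tt N12304 (iv F178242)) (tt N11858 (iv F175863)) (tt N10267 F124332) (tt N12335 (iv F178371)) (tt N8435 (iv D29299)) (tt N12345 D42698) (tt N8437 F124333) (tt N12343 (iv F178388)) (tt N10267 F124334) (tt N12346 D42699))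
theorem Q10269 : ∀ i, i < 10269 → P i := stepQ 10268 Q10268 (allL N10268 (tt N12305 (iv F178246)) (tt N11859 (iv F175866)) (tt N10268 F124335) (tt N8436 F124336) (tt N12346 (iv F178398)) (tt N8586 F124337) (tt N8438 F124338) (tt N12344 (iv F178393)) (tt N12347 D42700) (tt N8435 (iv D29300)))
theorem Q10270 : ∀ i, i < 10270 → P i := stepQ 10269 Q10269 (allL N10269 (tt N11797 (iv F202864)) (tt N11860 (iv F175870)) (tt N10269 F124339) (tt N12340 (iv F178382)) (tt N8439 F124340) (tt N8437 (iv D29301)) (tt N12348 D42701) (tt N12151 (iv F177457)) (tt N10269 F124341) (tt N12349 D42702))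
theorem Q10271 : ∀ i, i < 10271 → P i := stepQ 10270 Q10270 (allL N10270 (tt N12306 (iv F178255)) (tt N11861 (iv F175873)) (tt N10270 F124342) (tt N12341 (iv F178384)) (tt N8438 F124343) (tt N12349 (iv F178409)) (tt N12346 (iv F178399)) (tt N12152 (iv F177461)) (tt N12350 D42703) (tt N8437 (iv D29302)))
theorem Q10272 : ∀ i, i < 10272 → P i := stepQ 10271 Q10271 (allL N10271 (tt N12307 (iv F178258)) (tt N11862 (iv F175875)) (tt N10271 F124344) (tt N12250 (iv F178022)) (tt N12350 (iv F178411)) (tt N8441 F124345) (tt N12347 (iv F178402)) (tt N12153 (iv F177464)) (tt N8438 (iv D29303)) (tt N10271 F124346))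
theorem Q10273 : ∀ i, i < 10273 → P i := stepQ 10272 Q10272 (allL N10272 (tt N11795 (iv F202863)) (tt N11863 (iv F175878)) (tt N10272 F124347) (tt N9129 F124348) (tt N12348 (iv F178405)) (tt N8590 F124349) (tt N8439 (iv D29304)) (tt N12351 D42704) (tt N10272 F124350) (tt N12352 D42705))
theorem Q10274 : ∀ i, i < 10274 → P i := stepQ 10273 Q10273 (allL N10273 (tt N11798 (iv F202839)) (tt N11864 (iv F175882)) (tt N10273 F124351) (tt N9130 F124352) (tt N12349 (iv F178408)) (tt N8440 F124353) (tt N12352 (iv F178420)) (tt N12155 (iv F177473)) (tt N12353 D42706) (tt N8439 (iv D29305)))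
theorem Q10275 : ∀ i, i < 10275 → P i := stepQ 10274 Q10274 (allL N10274 (tt N11799 (iv F202841)) (tt N11865 (iv F175885)) (tt N10274 F124354) (tt N11839 (iv F202837)) (tt N8441 F124355) (tt N12353 (iv F178422)) (tt N8592 F124356) (tt N12156 (iv F177477)) (tt N8440 (iv D29306)) (tt N10274 F124357))
theorem Q10276 : ∀ i, i < 10276 → P i := stepQ 10275 Q10275 (allL N10275 (tt N12308 (iv F178276)) (tt N8450 F124358) (tt N12328 (iv F178352)) (tt N10275 F124359) (tt N8593 F124360) (tt N12157 (iv F177482)) (tt N8442 (iv D29307)) (tt N9131 F124361) (tt N12354 D42708) (tt N12254 (iv F178037)))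
theorem Q10277 : ∀ i, i < 10277 → P i := stepQ 10276 Q10276 (allL N10276 (tt N12309 (iv F178281)) (tt N8451 F124362) (tt N12329 (iv F178355)) (tt N12355 D42709) (tt N8594 F124363) (tt N8444 F124364) (tt N12354 (iv F178429)) (tt N8443 F124365) (tt N8442 (iv D29308)) (tt N12356 D42710))
theorem Q10278 : ∀ i, i < 10278 → P i := stepQ 10277 Q10277 (allL N10277 (tt N12310 (iv F178286)) (tt N8452 F124366) (tt N12357 D42711) (tt N8443 (iv D29309)) (tt N12358 D42712) (tt N8445 F124367) (tt N9133 F124368) (tt N12355 (iv F178433)) (tt N10277 F124369) (tt N12359 D42713))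
theorem Q10279 : ∀ i, i < 10279 → P i := stepQ 10278 Q10278 (allL N10278 (tt N12311 (iv F178291)) (tt N8453 F124370) (tt N12331 (iv F178361)) (tt N12359 (iv F178448)) (tt N8596 F124371) (tt N8446 F124372) (tt N9134 F124373) (tt N12356 (iv F178438)) (tt N12257 (iv F178050)) (tt N8443 (iv D29310)))
theorem Q10280 : ∀ i, i < 10280 → P i := stepQ 10279 Q10279 (allL N10279 (tt N12312 (iv F178296)) (tt N8454 F124374) (tt N12360 D42714) (tt N8444 (iv D29311)) (tt N10279 F124375) (tt N12355 (iv F178432)) (tt N9087 (iv F205826)) (tt N8445 F124376) (tt N10279 F124377) (tt N12361 D42715))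
theorem Q10281 : ∀ i, i < 10281 → P i := stepQ 10280 Q10280 (allL N10280 (tt N12313 (iv F178301)) (tt N8455 F124378) (tt N12333 (iv F178366)) (tt N12361 (iv F178455)) (tt N8449 F124379) (tt N12356 (iv F178437)) (tt N12159 (iv F177503)) (tt N8446 F124380) (tt N12259 (iv F178057)) (tt N8444 (iv D29312)))
theorem Q10282 : ∀ i, i < 10282 → P i := stepQ 10281 Q10281 (allL N10281 (tt N12314 (iv F178305)) (tt N12362 D42716) (tt N8445 (iv D29313)) (tt N12334 (iv F178369)) (tt N10281 F124381) (tt N12357 (iv F178439)) (tt N8447 F124382) (tt N12360 (iv F178452)) (tt N10281 F124383) (tt N12363 D42717))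
theorem Q10283 : ∀ i, i < 10283 → P i := stepQ 10282 Q10282 (allL N10282 (tt N12315 (iv F178309)) (tt N8457 F124384) (tt N12363 (iv F178462)) (tt N8446 F124385) (tt N10282 F124386) (tt N12359 (iv F178449)) (tt N8448 F124387) (tt N12361 (iv F178457)) (tt N12364 D42718) (tt N8445 (iv D29314)))
theorem Q10284 : ∀ i, i < 10284 → P i := stepQ 10283 Q10283 (allL N10283 (tt N12365 D42719) (tt N8447 (iv D29315)) (tt N8458 F124388) (tt N12337 (iv F178375)) (tt N10283 F124389) (tt N9139 F124390) (tt N12362 (iv F178460)) (tt N12162 (iv F177515)) (tt N10283 F124391) (tt N12366 D42720))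
theorem Q10285 : ∀ i, i < 10285 → P i := stepQ 10284 Q10284 (allL N10284 (tt N12317 (iv F178318)) (tt N12366 (iv F178473)) (tt N8448 F124392) (tt N12339 (iv F178380)) (tt N10284 F124393) (tt N9140 F124394) (tt N12363 (iv F178464)) (tt N12163 (iv F177520)) (tt N12367 D42721) (tt N8447 (iv D29316)))
theorem Q10286 : ∀ i, i < 10286 → P i := stepQ 10285 Q10285 (allL N10285 (tt N12318 (iv F178322)) (tt N8460 F124395) (tt N12367 (iv F178477)) (tt N12264 (iv F178069)) (tt N10285 F124396) (tt N9141 F124397) (tt N12364 (iv F178467)) (tt N12164 (iv F177524)) (tt N8448 (iv D29317)) (tt N10285 F124398))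
theorem Q10287 : ∀ i, i < 10287 → P i := stepQ 10286 Q10286 (allL N10286 (tt N10286 F124399) (tt N12354 (iv F178427)) (tt N11810 (iv F205488)) (tt N12268 (iv F205844)) (tt N8604 F124400) (tt N11814 (iv F205833)) (tt N8451 F124401) (tt N9142 F124402) (tt N8450 (iv D29318)) (tt N12368 D42723))
theorem Q10288 : ∀ i, i < 10288 → P i := stepQ 10287 Q10287 (allL N10287 (tt N10287 F124403) (tt N12355 (iv F178431)) (tt N9083 (iv F205810)) (tt N8451 (iv D29319)) (tt N12369 D42725) (tt N8454 F124404) (tt N12268 (iv F205845)) (tt N8452 F124405) (tt N10287 F124406) (tt N12370 D42726))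
theorem Q10289 : ∀ i, i < 10289 → P i := stepQ 10288 Q10288 (allL N10288 (tt N10288 F124407) (tt N12356 (iv F178435)) (tt N11876 (iv F175927)) (tt N12370 (iv F178499)) (tt N8606 F124408) (tt N8455 F124409) (tt N12368 (iv F178487)) (tt N8453 F124410) (tt N12267 (iv F178084)) (tt N8451 (iv D29320)))
theorem Q10290 : ∀ i, i < 10290 → P i := stepQ 10289 Q10289 (allL N10289 (tt N10289 F124411) (tt N12371 D42727) (tt N8452 (iv D29321)) (tt N9082 F205684) (tt N12372 D42728) (tt N8456 F124412) (tt N9145 F124413) (tt N9083 (iv F205811)) (tt N10289 F124414) (tt N12373 D42729))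
theorem Q10291 : ∀ i, i < 10291 → P i := stepQ 10290 Q10290 (allL N10290 (tt N10290 F124415) (tt N12358 (iv F178442)) (tt N12372 (iv F178506)) (tt N8608 F124416) (tt N8452 (iv D29322)) (tt N10290 F124417) (tt N9146 F124418) (tt N12369 (iv F178496)) (tt N10290 F124419) (tt N12374 D42730))
theorem Q10292 : ∀ i, i < 10292 → P i := stepQ 10291 Q10291 (allL N10291 (tt N10291 F124420) (tt N12359 (iv F178447)) (tt N12373 (iv F178511)) (tt N8453 F124421) (tt N12374 (iv F178516)) (tt N8457 F124422) (tt N9147 F124423) (tt N12370 (iv F178501)) (tt N12375 D42731) (tt N8452 (iv D29323)))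
theorem Q10293 : ∀ i, i < 10293 → P i := stepQ 10292 Q10292 (allL N10292 (tt N10292 F124428) (tt N12361 (iv F178454)) (tt N9086 (iv F205812)) (tt N8455 F124429) (tt N10292 F124430) (tt N12370 (iv F178500)) (tt N9088 (iv F205832)) (tt N8457 F124431) (tt N12376 D42734) (tt N8454 (iv D29325)))
theorem Q10294 : ∀ i, i < 10294 → P i := stepQ 10293 Q10293 (allL N10293 (tt N12377 D42735) (tt N8456 (iv D29326)) (tt N12362 (iv F178458)) (tt N9075 F205690) (tt N10293 F124432) (tt N12371 (iv F178502)) (tt N8458 F124433) (tt N9076 (iv F205809)) (tt N10293 F124434) (tt N12378 D42736))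
theorem Q10295 : ∀ i, i < 10295 → P i := stepQ 10294 Q10294 (allL N10294 (tt N10294 F124435) (tt N12378 (iv F178538)) (tt N8457 F124436) (tt N9085 F205691) (tt N10294 F124437) (tt N12373 (iv F178512)) (tt N8459 F124438) (tt N9086 (iv F205813)) (tt N12379 D42737) (tt N8456 (iv D29327)))
theorem Q10296 : ∀ i, i < 10296 → P i := stepQ 10295 Q10295 (allL N10295 (tt N10295 F124439) (tt N12364 (iv F178465)) (tt N12379 (iv F178542)) (tt N12275 (iv F178109)) (tt N10295 F124440) (tt N12375 (iv F178520)) (tt N8460 F124441) (tt N12376 (iv F178532)) (tt N8457 (iv D29328)) (tt N10295 F124442))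
theorem Q10297 : ∀ i, i < 10297 → P i := stepQ 10296 Q10296 (allL N10296 (tt N8458 (iv D29329)) (tt N10296 F124443) (tt N12365 (iv F178469)) (tt N11878 (iv F175957)) (tt N10296 F124444) (tt N9153 F124445) (tt N12377 (iv F178536)) (tt N12166 (iv F177576)) (tt N10296 F124446) (tt N12380 D42738))
theorem Q10298 : ∀ i, i < 10298 → P i := stepQ 10297 Q10297 (allL N10297 (tt N12380 (iv F178546)) (tt N8459 F124447) (tt N12366 (iv F178474)) (tt N11879 (iv F175960)) (tt N10297 F124448) (tt N9154 F124449) (tt N12378 (iv F178540)) (tt N12167 (iv F177581)) (tt N12381 D42739) (tt N8458 (iv D29330)))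
theorem Q10299 : ∀ i, i < 10299 → P i := stepQ 10298 Q10298 (allL N10298 (tt N10298 F124450) (tt N12381 (iv F178550)) (tt N8460 F124451) (tt N12382 D42740) (tt N10298 F124452) (tt N9155 F124453) (tt N12379 (iv F178544)) (tt N12168 (iv F177586)) (tt N8459 (iv D29331)) (tt N10298 F124454))
theorem Q10300 : ∀ i, i < 10300 → P i := stepQ 10299 Q10299 (allL N10299 (tt N10299 F124466) (tt N8464 F124467) (tt N10299 F124468) (tt N12383 D42746) (tt N9682 F204059) (tt N8462 F124469) (tt N12194 (iv F199416)) (tt N10299 F124470) (tt N8461 (iv D29334)) (tt N12384 D42747))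
theorem Q10301 : ∀ i, i < 10301 → P i := stepQ 10300 Q10300 (allL N10300 (tt N10300 F124471) (tt N8465 F124472) (tt N11689 (iv F203051)) (tt N8462 (iv D29335)) (tt N11688 (iv F203042)) (tt N12383 (iv F178586)) (tt N12169 (iv F177605)) (tt N10300 F124473) (tt N10300 F124474) (tt N12385 D42750))
theorem Q10302 : ∀ i, i < 10302 → P i := stepQ 10301 Q10301 (allL N10301 (tt N10301 F124475) (tt N8466 F124476) (tt N10301 F124477) (tt N12385 (iv F178607)) (tt N10301 F124478) (tt N12384 (iv F178592)) (tt N12170 (iv F177611)) (tt N10301 F124479) (tt N10301 F124480) (tt N8462 (iv D29336)))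
theorem Q10303 : ∀ i, i < 10303 → P i := stepQ 10302 Q10302 (allL N10302 (tt N8473 F124501) (tt N12194 (iv F199415)) (tt N8468 F124502) (tt N12386 D42759) (tt N9680 F204055) (tt N12171 (iv F177633)) (tt N8464 F124503) (tt N12188 (iv F199407)) (tt N8463 (iv D29341)) (tt N12387 D42760))
theorem Q10304 : ∀ i, i < 10304 → P i := stepQ 10303 Q10303 (allL N10303 (tt N8474 F124504) (tt N12383 (iv F178585)) (tt N8500 F124505) (tt N8464 (iv D29342)) (tt N12388 D42761) (tt N8465 F124506) (tt N12386 (iv F178647)) (tt N10303 F124507) (tt N10303 F124508) (tt N12389 D42762))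
theorem Q10305 : ∀ i, i < 10305 → P i := stepQ 10304 Q10304 (allL N10304 (tt N8475 F124509) (tt N12384 (iv F178590)) (tt N8469 F124510) (tt N12389 (iv F178659)) (tt N9683 F204060) (tt N8466 F124511) (tt N12387 (iv F178651)) (tt N10304 F124512) (tt N10304 F124513) (tt N8464 (iv D29343)))
theorem Q10306 : ∀ i, i < 10306 → P i := stepQ 10305 Q10305 (allL N10305 (tt N8477 F124519) (tt N12385 (iv F178606)) (tt N8502 F124520) (tt N8466 F124521) (tt N11937 (iv F203043)) (tt N12389 (iv F178660)) (tt N12174 (iv F177651)) (tt N10305 F124522) (tt N12390 D42765) (tt N8465 (iv D29345)))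
theorem Q10307 : ∀ i, i < 10307 → P i := stepQ 10306 Q10306 (allL N10306 (tt N8482 F124550) (tt N10306 F124551) (tt N12188 (iv F199406)) (tt N8507 F124552) (tt N9678 F204047) (tt N12178 (iv F177680)) (tt N10306 F124553) (tt N8468 F124554) (tt N8467 (iv D29351)) (tt N12391 D42773))
theorem Q10308 : ∀ i, i < 10308 → P i := stepQ 10307 Q10307 (allL N10307 (tt N8483 F124555) (tt N10307 F124556) (tt N12387 (iv F178650)) (tt N8508 F124557) (tt N9681 F204057) (tt N12179 (iv F177685)) (tt N8469 F124558) (tt N12391 (iv F178716)) (tt N10307 F124559) (tt N8468 (iv D29352)))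
theorem Q10309 : ∀ i, i < 10309 → P i := stepQ 10308 Q10308 (allL N10308 (tt N9680 (iv F203798)) (tt N10308 F124579) (tt N8480 F124580) (tt N9675 F203879) (tt N8473 F124581) (tt N9678 F203880) (tt N8471 F124582) (tt N9676 F203881) (tt N8470 (iv D29357)) (tt N12392 D42783))
theorem Q10310 : ∀ i, i < 10310 → P i := stepQ 10309 Q10309 (allL N10309 (tt N9650 (iv F203069)) (tt N10309 F124583) (tt N9605 F203292) (tt N8471 (iv D29358)) (tt N12393 D42785) (tt N10309 F124584) (tt N9675 (iv F203748)) (tt N10309 F124585) (tt N9603 F203293) (tt N12394 D42786))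
theorem Q10311 : ∀ i, i < 10311 → P i := stepQ 10310 Q10310 (allL N10310 (tt N9683 (iv F203846)) (tt N10310 F124586) (tt N8481 F124587) (tt N12394 (iv F178770)) (tt N8475 F124588) (tt N10310 F124589) (tt N12392 (iv F178761)) (tt N10310 F124590) (tt N10310 F124591) (tt N8471 (iv D29359)))
theorem Q10312 : ∀ i, i < 10312 → P i := stepQ 10311 Q10311 (allL N10311 (tt N12188 (iv F199405)) (tt N10311 F124592) (tt N8482 F124593) (tt N12395 D42787) (tt N9676 F204058) (tt N12175 (iv F199560)) (tt N10311 F124594) (tt N8473 F124595) (tt N8472 (iv D29360)) (tt N12396 D42788))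
theorem Q10313 : ∀ i, i < 10313 → P i := stepQ 10312 Q10312 (allL N10312 (tt N12386 (iv F178645)) (tt N10312 F124596) (tt N8517 F124597) (tt N8473 (iv D29361)) (tt N12397 D42789) (tt N12181 (iv F177723)) (tt N8474 F124598) (tt N12395 (iv F178776)) (tt N10312 F124599) (tt N12398 D42790))
theorem Q10314 : ∀ i, i < 10314 → P i := stepQ 10313 Q10313 (allL N10313 (tt N12387 (iv F178649)) (tt N10313 F124600) (tt N8483 F124601) (tt N12398 (iv F178789)) (tt N12392 (iv F178760)) (tt N12182 (iv F177728)) (tt N8475 F124602) (tt N12396 (iv F178781)) (tt N10313 F124603) (tt N8473 (iv D29362)))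
theorem Q10315 : ∀ i, i < 10315 → P i := stepQ 10314 Q10314 (allL N10314 (tt N12388 (iv F178653)) (tt N10314 F124604) (tt N8519 F124605) (tt N12393 (iv F178767)) (tt N8474 (iv D29363)) (tt N12399 D42791) (tt N12397 (iv F178785)) (tt N10314 F124606) (tt N10314 F124607) (tt N12400 D42792))
theorem Q10316 : ∀ i, i < 10316 → P i := stepQ 10315 Q10315 (allL N10315 (tt N12389 (iv F178657)) (tt N10315 F124608) (tt N8520 F124609) (tt N8475 F124610) (tt N12400 (iv F178798)) (tt N8477 F124611) (tt N12398 (iv F178790)) (tt N10315 F124612) (tt N12401 D42793) (tt N8474 (iv D29364)))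
theorem Q10317 : ∀ i, i < 10317 → P i := stepQ 10316 Q10316 (allL N10316 (tt N11934 F203386) (tt N10316 F124613) (tt N8521 F124614) (tt N10316 F124615) (tt N12399 (iv F178793)) (tt N8476 (iv D29365)) (tt N12402 D42794) (tt N10316 F124616) (tt N10316 F124617) (tt N12403 D42795))
theorem Q10318 : ∀ i, i < 10318 → P i := stepQ 10317 Q10317 (allL N10317 (tt N11937 F203381) (tt N10317 F124618) (tt N8522 F124619) (tt N10317 F124620) (tt N8477 F124621) (tt N12403 (iv F178813)) (tt N12186 (iv F177746)) (tt N10317 F124622) (tt N12404 D42796) (tt N8476 (iv D29366)))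
theorem Q10319 : ∀ i, i < 10319 → P i := stepQ 10318 Q10318 (allL N10318 (tt N12390 (iv F178672)) (tt N10318 F124623) (tt N8523 F124624) (tt N10318 F124625) (tt N12404 (iv F178817)) (tt N12401 (iv F178803)) (tt N12187 (iv F177750)) (tt N10318 F124626) (tt N8477 (iv D29367)) (tt N10318 F124627))
theorem Q10320 : ∀ i, i < 10320 → P i := stepQ 10319 Q10319 (allL N10319 (tt N9676 F203959) (tt N8485 F124632) (tt N9678 F203969) (tt N9670 F203960) (tt N12188 (iv F177758)) (tt N8480 F124633) (tt N10319 F124634) (tt N9680 F203970) (tt N8478 (iv D29369)) (tt N12405 D42800))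
theorem Q10321 : ∀ i, i < 10321 → P i := stepQ 10320 Q10320 (allL N10320 (tt N9678 F203936) (tt N8486 F124635) (tt N9676 F203896) (tt N9671 F203937) (tt N8482 F124636) (tt N9680 F203897) (tt N10320 F124637) (tt N8480 F124638) (tt N8479 (iv D29370)) (tt N12406 D42802))
theorem Q10322 : ∀ i, i < 10322 → P i := stepQ 10321 Q10321 (allL N10321 (tt N9681 F203961) (tt N8488 F124643) (tt N12392 (iv F178759)) (tt N9672 F203962) (tt N8483 F124644) (tt N12405 (iv F178833)) (tt N8481 F124645) (tt N12406 (iv F178844)) (tt N10321 F124646) (tt N8480 (iv D29372)))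
theorem Q10323 : ∀ i, i < 10323 → P i := stepQ 10322 Q10322 (allL N10322 (tt N12391 (iv F178712)) (tt N8491 F124656) (tt N12396 (iv F178779)) (tt N8531 F124657) (tt N12406 (iv F178842)) (tt N12193 (iv F177781)) (tt N10322 F124658) (tt N8483 F124659) (tt N10322 F124660) (tt N8482 (iv D29375)))
theorem Q10324 : ∀ i, i < 10324 → P i := stepQ 10323 Q10323 (allL N10323 (tt N10323 F124667) (tt N9680 F204050) (tt N10323 F124668) (tt N9684 F204049) (tt N12194 (iv F177792)) (tt N8486 F124669) (tt N9682 F204051) (tt N8485 F124670) (tt N8484 (iv D29377)) (tt N12407 D42810))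
theorem Q10325 : ∀ i, i < 10325 → P i := stepQ 10324 Q10324 (allL N10324 (tt N10324 F124671) (tt N9670 F203955) (tt N9687 F203956) (tt N8485 (iv D29378)) (tt N12408 D42812) (tt N8487 F124672) (tt N10324 F124673) (tt N9684 F203957) (tt N8618 F124674) (tt N12409 D42813))
theorem Q10326 : ∀ i, i < 10326 → P i := stepQ 10325 Q10325 (allL N10325 (tt N10325 F124675) (tt N12405 (iv F178832)) (tt N10325 F124676) (tt N12409 (iv F178892)) (tt N12196 (iv F177801)) (tt N8488 F124677) (tt N10325 F124678) (tt N12407 (iv F178880)) (tt N10325 F124679) (tt N8485 (iv D29379)))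
theorem Q10327 : ∀ i, i < 10327 → P i := stepQ 10326 Q10326 (allL N10326 (tt N10326 F124680) (tt N9671 F203928) (tt N9686 F203929) (tt N8486 (iv D29380)) (tt N8536 F124681) (tt N9684 F203930) (tt N10326 F124682) (tt N8487 F124683) (tt N8619 F124684) (tt N12410 D42815))
theorem Q10328 : ∀ i, i < 10328 → P i := stepQ 10327 Q10327 (allL N10327 (tt N10327 F124685) (tt N12406 (iv F178841)) (tt N10327 F124686) (tt N12410 (iv F178902)) (tt N8491 F124687) (tt N12407 (iv F178879)) (tt N10327 F124688) (tt N8488 F124689) (tt N10327 F124690) (tt N8486 (iv D29381)))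
theorem Q10329 : ∀ i, i < 10329 → P i := stepQ 10328 Q10328 (allL N10328 (tt N10328 F124691) (tt N9690 F203463) (tt N8487 (iv D29382)) (tt N10328 F124692) (tt N8538 F124693) (tt N9687 (iv F203786)) (tt N8489 F124694) (tt N9686 (iv F203796)) (tt N8620 F124695) (tt N12411 D42817))
theorem Q10330 : ∀ i, i < 10330 → P i := stepQ 10329 Q10329 (allL N10329 (tt N10329 F124696) (tt N9672 F203958) (tt N12411 (iv F178911)) (tt N8488 F124697) (tt N8539 F124698) (tt N12409 (iv F178893)) (tt N8490 F124699) (tt N12410 (iv F178905)) (tt N9688 (iv F204114)) (tt N8487 (iv D29383)))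
theorem Q10331 : ∀ i, i < 10331 → P i := stepQ 10330 Q10330 (allL N10330 (tt N9615 F202563) (tt N8489 (iv D29384)) (tt N9607 F202564) (tt N10330 F124700) (tt N8540 F124701) (tt N10330 F124702) (tt N9690 (iv F203031)) (tt N10330 F124703) (tt N8621 F124704) (tt N12412 D42820))
theorem Q10332 : ∀ i, i < 10332 → P i := stepQ 10331 Q10331 (allL N10331 (tt N10331 F124705) (tt N12412 (iv F178926)) (tt N8490 F124706) (tt N10331 F124707) (tt N8541 F124708) (tt N10331 F124709) (tt N12411 (iv F178914)) (tt N10331 F124710) (tt N9685 (iv F203863)) (tt N8489 (iv D29385)))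
theorem Q10333 : ∀ i, i < 10333 → P i := stepQ 10332 Q10332 (allL N10332 (tt N9621 (iv F202868)) (tt N8496 F124722) (tt N10332 F124723) (tt N9316 (iv F203074)) (tt N8493 F124724) (tt N12413 D42825) (tt N8492 (iv D29388)) (tt N12414 D42826) (tt N12415 D42827) (tt N8544 F124725))
theorem Q10334 : ∀ i, i < 10334 → P i := stepQ 10333 Q10333 (allL N10333 (tt N8941 (iv F202814)) (tt N8497 F124726) (tt N10333 F124727) (tt N12416 D42828) (tt N8494 F124728) (tt N8914 F202560) (tt N12415 (iv F178963)) (tt N10333 F124730) (tt N8492 (iv D29389)) (tt N12417 D42829))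
theorem Q10335 : ∀ i, i < 10335 → P i := stepQ 10334 Q10334 (allL N10334 (tt N9622 (iv F202870)) (tt N8498 F124731) (tt N10334 F124732) (tt N10334 F124733) (tt N12414 (iv F178957)) (tt N12207 (iv F177852)) (tt N10334 F124734) (tt N8493 (iv D29390)) (tt N12418 D42830) (tt N8546 F124735))
theorem Q10336 : ∀ i, i < 10336 → P i := stepQ 10335 Q10335 (allL N10335 (tt N8943 (iv F202816)) (tt N8499 F124736) (tt N10335 F124737) (tt N11958 (iv F203059)) (tt N12415 (iv F178962)) (tt N12208 (iv F177856)) (tt N8494 F124738) (tt N12418 (iv F178976)) (tt N8493 (iv D29391)) (tt N12419 D42832))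
theorem Q10337 : ∀ i, i < 10337 → P i := stepQ 10336 Q10336 (allL N10336 (tt N8944 (iv F202817)) (tt N8501 F124743) (tt N10336 F124744) (tt N11959 (iv F203055)) (tt N12417 (iv F178969)) (tt N8495 F124745) (tt N12419 (iv F178982)) (tt N10336 F124746) (tt N8548 F124747) (tt N8494 (iv D29393)))
theorem Q10338 : ∀ i, i < 10338 → P i := stepQ 10337 Q10337 (allL N10337 (tt N8511 F124768) (tt N12413 (iv F178951)) (tt N8503 F124769) (tt N9313 (iv F203597)) (tt N12212 (iv F177886)) (tt N8496 (iv D29399)) (tt N9158 F124770) (tt N12420 D42846) (tt N12421 D42847) (tt N8551 F124771))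
theorem Q10339 : ∀ i, i < 10339 → P i := stepQ 10338 Q10338 (allL N10338 (tt N8512 F124772) (tt N12414 (iv F178955)) (tt N8504 F124773) (tt N9315 (iv F203808)) (tt N8498 F124774) (tt N12420 (iv F179040)) (tt N10338 F124775) (tt N8496 (iv D29400)) (tt N12422 D42848) (tt N8552 F124776))
theorem Q10340 : ∀ i, i < 10340 → P i := stepQ 10339 Q10339 (allL N10339 (tt N8513 F124777) (tt N12415 (iv F178960)) (tt N8505 F124778) (tt N12423 D42849) (tt N8499 F124779) (tt N12421 (iv F179044)) (tt N8497 F124780) (tt N12422 (iv F179050)) (tt N8496 (iv D29401)) (tt N12424 D42850))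
theorem Q10341 : ∀ i, i < 10341 → P i := stepQ 10340 Q10340 (allL N10340 (tt N8514 F124781) (tt N12416 (iv F178964)) (tt N9173 F203368) (tt N8497 (iv D29402)) (tt N12425 D42852) (tt N9161 F124782) (tt N12423 (iv F179052)) (tt N10340 F124783) (tt N9180 (iv F203810)) (tt N12426 D42853))
theorem Q10342 : ∀ i, i < 10342 → P i := stepQ 10341 Q10341 (allL N10341 (tt N8515 F124784) (tt N12417 (iv F178967)) (tt N8506 F124785) (tt N12426 (iv F179066)) (tt N8501 F124786) (tt N9162 F124787) (tt N12424 (iv F179056)) (tt N10341 F124788) (tt N8555 F124789) (tt N8497 (iv D29403)))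
theorem Q10343 : ∀ i, i < 10343 → P i := stepQ 10342 Q10342 (allL N10342 (tt N8516 F124790) (tt N12418 (iv F178973)) (tt N8507 F124791) (tt N12427 D42854) (tt N12422 (iv F179048)) (tt N12217 (iv F177906)) (tt N10342 F124792) (tt N8499 F124793) (tt N8498 (iv D29404)) (tt N12428 D42855))
theorem Q10344 : ∀ i, i < 10344 → P i := stepQ 10343 Q10343 (allL N10343 (tt N8517 F124794) (tt N11958 (iv F203058)) (tt N12386 (iv F178646)) (tt N8499 (iv D29405)) (tt N12429 D42856) (tt N12218 (iv F177909)) (tt N8500 F124795) (tt N12427 (iv F179071)) (tt N10343 F124796) (tt N12430 D42857))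
theorem Q10345 : ∀ i, i < 10345 → P i := stepQ 10344 Q10344 (allL N10344 (tt N8518 F124797) (tt N12419 (iv F178980)) (tt N8508 F124798) (tt N12430 (iv F179082)) (tt N12424 (iv F179055)) (tt N12219 (iv F177914)) (tt N8501 F124799) (tt N12428 (iv F179076)) (tt N8558 F124800) (tt N8499 (iv D29406)))
theorem Q10346 : ∀ i, i < 10346 → P i := stepQ 10345 Q10345 (allL N10345 (tt N8519 F124801) (tt N11955 (iv F203057)) (tt N12388 (iv F178654)) (tt N12425 (iv F179063)) (tt N8500 (iv D29407)) (tt N11935 (iv F203041)) (tt N12429 (iv F179079)) (tt N10345 F124802) (tt N10345 F124803) (tt N12431 D42859))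
theorem Q10347 : ∀ i, i < 10347 → P i := stepQ 10346 Q10346 (allL N10346 (tt N8520 F124804) (tt N11959 (iv F203054)) (tt N12389 (iv F178658)) (tt N8501 F124805) (tt N12431 (iv F179089)) (tt N8502 F124806) (tt N12430 (iv F179083)) (tt N10346 F124807) (tt N12432 D42860) (tt N8500 (iv D29408)))
theorem Q10348 : ∀ i, i < 10348 → P i := stepQ 10347 Q10347 (allL N10347 (tt N8523 F124816) (tt N11960 (iv F203056)) (tt N12390 (iv F178673)) (tt N8561 F124817) (tt N11938 (iv F203044)) (tt N12432 (iv F179093)) (tt N12222 (iv F177931)) (tt N10347 F124818) (tt N8502 (iv D29411)) (tt N10347 F124819))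
theorem Q10349 : ∀ i, i < 10349 → P i := stepQ 10348 Q10348 (allL N10348 (tt N8524 F124820) (tt N10348 F124821) (tt N12420 (iv F179039)) (tt N8622 F124822) (tt N12223 (iv F177936)) (tt N8504 F124823) (tt N12433 D42864) (tt N8503 (iv D29412)) (tt N12434 D42865) (tt N8562 F124824))
theorem Q10350 : ∀ i, i < 10350 → P i := stepQ 10349 Q10349 (allL N10349 (tt N8525 F124825) (tt N10349 F124826) (tt N12421 (iv F179043)) (tt N9307 F203944) (tt N12224 (iv F177941)) (tt N8505 F124827) (tt N9166 F124828) (tt N12434 (iv F179116)) (tt N8503 (iv D29413)) (tt N12435 D42867))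
theorem Q10351 : ∀ i, i < 10351 → P i := stepQ 10350 Q10350 (allL N10350 (tt N8526 F124829) (tt N10350 F124830) (tt N12422 (iv F179047)) (tt N9308 F204046) (tt N8507 F124831) (tt N12434 (iv F179115)) (tt N10350 F124832) (tt N8505 F124833) (tt N8504 (iv D29414)) (tt N12436 D42869))
theorem Q10352 : ∀ i, i < 10352 → P i := stepQ 10351 Q10351 (allL N10351 (tt N8528 F124838) (tt N10351 F124839) (tt N12424 (iv F179054)) (tt N9309 F204056) (tt N8508 F124840) (tt N12435 (iv F179124)) (tt N8506 F124841) (tt N12436 (iv F179136)) (tt N8566 F124842) (tt N8505 (iv D29416)))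
theorem Q10353 : ∀ i, i < 10353 → P i := stepQ 10352 Q10352 (allL N10352 (tt N8531 F124852) (tt N10352 F124853) (tt N12428 (iv F179074)) (tt N12391 (iv F178714)) (tt N12436 (iv F179134)) (tt N12230 (iv F177966)) (tt N10352 F124854) (tt N8508 F124855) (tt N8569 F124856) (tt N8507 (iv D29419)))
theorem Q10354 : ∀ i, i < 10354 → P i := stepQ 10353 Q10353 (allL N10353 (tt N9313 (iv F203596)) (tt N11880 (iv F176126)) (tt N8623 F124857) (tt N8511 F124858) (tt N12437 D42875) (tt N8509 (iv D29420)) (tt N9170 F124859) (tt N12438 D42876) (tt N12439 D42877) (tt N8570 F124860))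
theorem Q10355 : ∀ i, i < 10355 → P i := stepQ 10354 Q10354 (allL N10354 (tt N9315 (iv F203807)) (tt N11881 (iv F176131)) (tt N8624 F124861) (tt N8512 F124862) (tt N10354 F124863) (tt N12438 (iv F179165)) (tt N10354 F124864) (tt N8509 (iv D29421)) (tt N12440 D42878) (tt N8571 F124865))
theorem Q10356 : ∀ i, i < 10356 → P i := stepQ 10355 Q10355 (allL N10355 (tt N9194 (iv F203779)) (tt N11882 (iv F176137)) (tt N8625 F124866) (tt N12441 D42879) (tt N10355 F124867) (tt N12439 (iv F179168)) (tt N8510 F124868) (tt N12440 (iv F179173)) (tt N8509 (iv D29422)) (tt N12442 D42880))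
theorem Q10357 : ∀ i, i < 10357 → P i := stepQ 10356 Q10356 (allL N10356 (tt N9180 (iv F203809)) (tt N11883 (iv F176141)) (tt N9161 F203375) (tt N8510 (iv D29423)) (tt N12443 D42882) (tt N9173 F124869) (tt N12441 (iv F179174)) (tt N10356 F124870) (tt N8514 F124871) (tt N12444 D42883))
theorem Q10358 : ∀ i, i < 10358 → P i := stepQ 10357 Q10357 (allL N10357 (tt N9197 (iv F203811)) (tt N11884 (iv F176145)) (tt N8626 F124872) (tt N12444 (iv F179187)) (tt N10357 F124873) (tt N9174 F124874) (tt N12442 (iv F179178)) (tt N10357 F124875) (tt N8574 F124876) (tt N8510 (iv D29424)))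
theorem Q10359 : ∀ i, i < 10359 → P i := stepQ 10358 Q10358 (allL N10358 (tt N12420 (iv F179038)) (tt N11885 (iv F176151)) (tt N8524 F124877) (tt N12438 (iv F179164)) (tt N12236 (iv F177987)) (tt N8512 F124878) (tt N12445 D42884) (tt N8511 (iv D29425)) (tt N12446 D42885) (tt N8575 F124879))
theorem Q10360 : ∀ i, i < 10360 → P i := stepQ 10359 Q10359 (allL N10359 (tt N12421 (iv F179042)) (tt N11886 (iv F176155)) (tt N8525 F124880) (tt N12447 D42886) (tt N12237 (iv F177991)) (tt N8513 F124881) (tt N9176 F124882) (tt N12446 (iv F179196)) (tt N8511 (iv D29426)) (tt N12448 D42887))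
theorem Q10361 : ∀ i, i < 10361 → P i := stepQ 10360 Q10360 (allL N10360 (tt N12422 (iv F179046)) (tt N11887 (iv F176159)) (tt N8526 F124883) (tt N12449 D42888) (tt N8516 F124884) (tt N12446 (iv F179195)) (tt N10360 F124885) (tt N8513 F124886) (tt N8512 (iv D29427)) (tt N12450 D42889))
theorem Q10362 : ∀ i, i < 10362 → P i := stepQ 10361 Q10361 (allL N10361 (tt N12423 (iv F179051)) (tt N11888 (iv F176164)) (tt N12451 D42890) (tt N8513 (iv D29428)) (tt N12452 D42891) (tt N12447 (iv F179197)) (tt N8514 F124887) (tt N12449 (iv F179204)) (tt N12441 (iv F179175)) (tt N12453 D42892))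
theorem Q10363 : ∀ i, i < 10363 → P i := stepQ 10362 Q10362 (allL N10362 (tt N12424 (iv F179053)) (tt N11889 (iv F176166)) (tt N8528 F124888) (tt N12453 (iv F179214)) (tt N8518 F124889) (tt N12448 (iv F179200)) (tt N8515 F124890) (tt N12450 (iv F179208)) (tt N8579 F124891) (tt N8513 (iv D29429)))
theorem Q10364 : ∀ i, i < 10364 → P i := stepQ 10363 Q10363 (allL N10363 (tt N9173 F203371) (tt N12454 D42893) (tt N8514 (iv D29430)) (tt N8529 F124892) (tt N12455 D42894) (tt N9180 F124893) (tt N12451 (iv F179211)) (tt N10363 F124894) (tt N9161 F203372) (tt N12456 D42895))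
theorem Q10365 : ∀ i, i < 10365 → P i := stepQ 10364 Q10364 (allL N10364 (tt N12425 (iv F179062)) (tt N11891 (iv F176174)) (tt N12455 (iv F179219)) (tt N8519 F124895) (tt N8514 (iv D29431)) (tt N12457 D42896) (tt N12452 (iv F179213)) (tt N10364 F124896) (tt N12443 (iv F179186)) (tt N12458 D42897))
theorem Q10366 : ∀ i, i < 10366 → P i := stepQ 10365 Q10365 (allL N10365 (tt N12426 (iv F179065)) (tt N11892 (iv F176177)) (tt N12456 (iv F179221)) (tt N8515 F124897) (tt N12458 (iv F179229)) (tt N9182 F124898) (tt N12453 (iv F179215)) (tt N10365 F124899) (tt N12459 D42898) (tt N8514 (iv D29432)))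
theorem Q10367 : ∀ i, i < 10367 → P i := stepQ 10366 Q10366 (allL N10366 (tt N12427 (iv F179069)) (tt N11893 (iv F176181)) (tt N12395 (iv F178774)) (tt N8516 (iv D29433)) (tt N12460 D42899) (tt N12244 (iv F178007)) (tt N10366 F124900) (tt N8517 F124901) (tt N10366 F124902) (tt N12461 D42900))
theorem Q10368 : ∀ i, i < 10368 → P i := stepQ 10367 Q10367 (allL N10367 (tt N12428 (iv F179073)) (tt N11894 (iv F176186)) (tt N8531 F124903) (tt N12461 (iv F179237)) (tt N12450 (iv F179206)) (tt N12245 (iv F178011)) (tt N10367 F124904) (tt N8518 F124905) (tt N8584 F124906) (tt N8516 (iv D29434)))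
theorem Q10369 : ∀ i, i < 10369 → P i := stepQ 10368 Q10368 (allL N10368 (tt N12429 (iv F179078)) (tt N11895 (iv F176191)) (tt N12397 (iv F178784)) (tt N12452 (iv F179212)) (tt N8517 (iv D29435)) (tt N12462 D42901) (tt N8519 F124907) (tt N12460 (iv F179235)) (tt N10368 F124908) (tt N12463 D42902))
theorem Q10370 : ∀ i, i < 10370 → P i := stepQ 10369 Q10369 (allL N10369 (tt N12430 (iv F179081)) (tt N11896 (iv F176195)) (tt N12398 (iv F178788)) (tt N8518 F124909) (tt N12463 (iv F179241)) (tt N12247 (iv F178017)) (tt N8520 F124910) (tt N12461 (iv F179239)) (tt N12464 D42903) (tt N8517 (iv D29436)))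
theorem Q10371 : ∀ i, i < 10371 → P i := stepQ 10370 Q10370 (allL N10370 (tt N11935 F203387) (tt N8559 (iv F203646)) (tt N12399 (iv F178792)) (tt N12457 (iv F179225)) (tt N8521 F124911) (tt N8519 (iv D29437)) (tt N12465 D42904) (tt N10370 F124912) (tt N10370 F124913) (tt N12466 D42905))
theorem Q10372 : ∀ i, i < 10372 → P i := stepQ 10371 Q10371 (allL N10371 (tt N12431 (iv F179088)) (tt N11897 (iv F176204)) (tt N12400 (iv F178797)) (tt N12458 (iv F179228)) (tt N8520 F124914) (tt N12466 (iv F179249)) (tt N12463 (iv F179242)) (tt N10371 F124915) (tt N12467 D42906) (tt N8519 (iv D29438)))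
theorem Q10373 : ∀ i, i < 10373 → P i := stepQ 10372 Q10372 (allL N10372 (tt N12432 (iv F179091)) (tt N11898 (iv F176208)) (tt N12401 (iv F178801)) (tt N8589 F124916) (tt N12467 (iv F179251)) (tt N8523 F124917) (tt N12464 (iv F179244)) (tt N10372 F124918) (tt N8520 (iv D29439)) (tt N10372 F124919))
theorem Q10374 : ∀ i, i < 10374 → P i := stepQ 10373 Q10373 (allL N10373 (tt N11932 F203388) (tt N8557 (iv F203643)) (tt N12402 (iv F178807)) (tt N8547 F203389) (tt N12465 (iv F179246)) (tt N12251 (iv F178026)) (tt N8521 (iv D29440)) (tt N12468 D42907) (tt N10373 F124921) (tt N12469 D42908))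
theorem Q10375 : ∀ i, i < 10375 → P i := stepQ 10374 Q10374 (allL N10374 (tt N11936 F203382) (tt N8560 (iv F203648)) (tt N12403 (iv F178811)) (tt N8548 F203383) (tt N12466 (iv F179248)) (tt N8522 F124923) (tt N12469 (iv F179258)) (tt N10374 F124924) (tt N12470 D42909) (tt N8521 (iv D29441)))
theorem Q10376 : ∀ i, i < 10376 → P i := stepQ 10375 Q10375 (allL N10375 (tt N11938 F203384) (tt N8561 (iv F203649)) (tt N12404 (iv F178816)) (tt N11960 (iv F203053)) (tt N8523 F124925) (tt N12470 (iv F179259)) (tt N12253 (iv F178031)) (tt N10375 F124926) (tt N8522 (iv D29442)) (tt N10375 F124927))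
theorem Q10377 : ∀ i, i < 10377 → P i := stepQ 10376 Q10376 (allL N10376 (tt N12433 (iv F179107)) (tt N8532 F124928) (tt N12445 (iv F179190)) (tt N8628 F124929) (tt N12254 (iv F178035)) (tt N10376 F124930) (tt N8524 (iv D29443)) (tt N9188 F124931) (tt N12471 D42911) (tt N8593 F124932))
theorem Q10378 : ∀ i, i < 10378 → P i := stepQ 10377 Q10377 (allL N10377 (tt N12434 (iv F179113)) (tt N8533 F124933) (tt N12446 (iv F179194)) (tt N12472 D42912) (tt N12255 (iv F178039)) (tt N8526 F124934) (tt N12471 (iv F179268)) (tt N8525 F124935) (tt N8524 (iv D29444)) (tt N12473 D42913))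
theorem Q10379 : ∀ i, i < 10379 → P i := stepQ 10378 Q10378 (allL N10378 (tt N9307 F203952) (tt N8534 F124936) (tt N12474 D42914) (tt N8525 (iv D29445)) (tt N12475 D42915) (tt N8527 F124937) (tt N9190 F124938) (tt N12472 (iv F179272)) (tt N8630 F124939) (tt N12476 D42916))
theorem Q10380 : ∀ i, i < 10380 → P i := stepQ 10379 Q10379 (allL N10379 (tt N12435 (iv F179122)) (tt N8535 F124940) (tt N12448 (iv F179199)) (tt N12476 (iv F179285)) (tt N12257 (iv F178047)) (tt N8528 F124941) (tt N9191 F124942) (tt N12473 (iv F179276)) (tt N8596 F124943) (tt N8525 (iv D29446)))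
theorem Q10381 : ∀ i, i < 10381 → P i := stepQ 10380 Q10380 (allL N10380 (tt N9308 F203934) (tt N8536 F124944) (tt N12477 D42917) (tt N8526 (iv D29447)) (tt N9671 F203935) (tt N12472 (iv F179271)) (tt N10380 F124945) (tt N8527 F124946) (tt N8631 F124947) (tt N12478 D42918))
theorem Q10382 : ∀ i, i < 10382 → P i := stepQ 10381 Q10381 (allL N10381 (tt N12436 (iv F179132)) (tt N8537 F124948) (tt N12450 (iv F179205)) (tt N12478 (iv F179292)) (tt N8531 F124949) (tt N12473 (iv F179275)) (tt N10381 F124950) (tt N8528 F124951) (tt N8598 F124952) (tt N8526 (iv D29448)))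
theorem Q10383 : ∀ i, i < 10383 → P i := stepQ 10382 Q10382 (allL N10382 (tt N9172 F203188) (tt N12479 D42919) (tt N8527 (iv D29449)) (tt N12451 (iv F179210)) (tt N9643 F203189) (tt N12474 (iv F179278)) (tt N8529 F124953) (tt N12477 (iv F179289)) (tt N8632 F124954) (tt N12480 D42920))
theorem Q10384 : ∀ i, i < 10384 → P i := stepQ 10383 Q10383 (allL N10383 (tt N9309 F203953) (tt N8539 F124955) (tt N12480 (iv F179298)) (tt N8528 F124956) (tt N9672 F203954) (tt N12476 (iv F179286)) (tt N8530 F124957) (tt N12478 (iv F179294)) (tt N9341 (iv F204110)) (tt N8527 (iv D29450)))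
theorem Q10385 : ∀ i, i < 10385 → P i := stepQ 10384 Q10384 (allL N10384 (tt N9616 F202565) (tt N8529 (iv D29451)) (tt N8540 F124958) (tt N12454 (iv F179216)) (tt N9607 F202566) (tt N9196 F124959) (tt N12479 (iv F179296)) (tt N10384 F124960) (tt N8633 F124961) (tt N12481 D42923))
theorem Q10386 : ∀ i, i < 10386 → P i := stepQ 10385 Q10385 (allL N10385 (tt N9174 F203373) (tt N12481 (iv F179308)) (tt N8530 F124962) (tt N12456 (iv F179222)) (tt N9644 F203374) (tt N9197 F124963) (tt N12480 (iv F179299)) (tt N10385 F124964) (tt N9220 (iv F203655)) (tt N8529 (iv D29452)))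
theorem Q10387 : ∀ i, i < 10387 → P i := stepQ 10386 Q10386 (allL N10386 (tt N10386 F124970) (tt N12471 (iv F179266)) (tt N11910 (iv F176277)) (tt N12482 D42925) (tt N12265 (iv F178073)) (tt N10386 F124971) (tt N8533 F124972) (tt N9198 F124973) (tt N8532 (iv D29454)) (tt N12483 D42926))
theorem Q10388 : ∀ i, i < 10388 → P i := stepQ 10387 Q10387 (allL N10387 (tt N10387 F124974) (tt N12472 (iv F179270)) (tt N12484 D42927) (tt N8533 (iv D29455)) (tt N12485 D42928) (tt N8536 F124975) (tt N12482 (iv F179318)) (tt N8534 F124976) (tt N8635 F124977) (tt N12486 D42929))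
theorem Q10389 : ∀ i, i < 10389 → P i := stepQ 10388 Q10388 (allL N10388 (tt N10388 F124978) (tt N12473 (iv F179274)) (tt N11912 (iv F176286)) (tt N12486 (iv F179334)) (tt N12267 (iv F178081)) (tt N8537 F124979) (tt N12483 (iv F179323)) (tt N8535 F124980) (tt N8606 F124981) (tt N8533 (iv D29456)))
theorem Q10390 : ∀ i, i < 10390 → P i := stepQ 10389 Q10389 (allL N10389 (tt N10389 F124982) (tt N12487 D42930) (tt N8534 (iv D29457)) (tt N11913 (iv F176291)) (tt N12488 D42931) (tt N8538 F124983) (tt N9201 F124984) (tt N12484 (iv F179328)) (tt N8637 F124985) (tt N12489 D42932))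
theorem Q10391 : ∀ i, i < 10391 → P i := stepQ 10390 Q10390 (allL N10390 (tt N10390 F124986) (tt N12475 (iv F179281)) (tt N12488 (iv F179341)) (tt N12269 (iv F178090)) (tt N8534 (iv D29458)) (tt N12408 (iv F178888)) (tt N9202 F124987) (tt N12485 (iv F179331)) (tt N8638 F124988) (tt N12490 D42933))
theorem Q10392 : ∀ i, i < 10392 → P i := stepQ 10391 Q10391 (allL N10391 (tt N10391 F124989) (tt N12476 (iv F179284)) (tt N12489 (iv F179345)) (tt N8535 F124990) (tt N12490 (iv F179349)) (tt N8539 F124991) (tt N9203 F124992) (tt N12486 (iv F179336)) (tt N12491 D42934) (tt N8534 (iv D29459)))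
theorem Q10393 : ∀ i, i < 10393 → P i := stepQ 10392 Q10392 (allL N10392 (tt N10392 F124993) (tt N9689 F204053) (tt N8536 (iv D29460)) (tt N11916 (iv F176304)) (tt N9686 F204054) (tt N12484 (iv F179327)) (tt N10392 F124994) (tt N8538 F124995) (tt N8640 F124996) (tt N12492 D42936))
theorem Q10394 : ∀ i, i < 10394 → P i := stepQ 10393 Q10393 (allL N10393 (tt N10393 F124997) (tt N12478 (iv F179291)) (tt N12492 (iv F179360)) (tt N8537 F124998) (tt N12410 (iv F178903)) (tt N12486 (iv F179335)) (tt N10393 F124999) (tt N8539 F125000) (tt N12493 D42937) (tt N8536 (iv D29461)))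
theorem Q10395 : ∀ i, i < 10395 → P i := stepQ 10394 Q10394 (allL N10394 (tt N9693 (iv F203478)) (tt N8538 (iv D29462)) (tt N12479 (iv F179295)) (tt N11918 (iv F176314)) (tt N9690 F203462) (tt N12487 (iv F179337)) (tt N8540 F125001) (tt N9689 (iv F203878)) (tt N8642 F125002) (tt N12494 D42939))
theorem Q10396 : ∀ i, i < 10396 → P i := stepQ 10395 Q10395 (allL N10395 (tt N10395 F125003) (tt N12494 (iv F179371)) (tt N8539 F125004) (tt N11919 (iv F176320)) (tt N12411 (iv F178913)) (tt N12489 (iv F179346)) (tt N8541 F125005) (tt N12492 (iv F179362)) (tt N12495 D42940) (tt N8538 (iv D29463)))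
theorem Q10397 : ∀ i, i < 10397 → P i := stepQ 10396 Q10396 (allL N10396 (tt N10396 F125006) (tt N9341 (iv F204109)) (tt N12495 (iv F179374)) (tt N8614 F125007) (tt N9688 (iv F204113)) (tt N12491 (iv F179353)) (tt N8542 F125008) (tt N12493 (iv F179366)) (tt N8539 (iv D29464)) (tt N8644 F125009))
theorem Q10398 : ∀ i, i < 10398 → P i := stepQ 10397 Q10397 (allL N10397 (tt N8540 (iv D29465)) (tt N10397 F125010) (tt N9616 F202576) (tt N11921 (iv F176329)) (tt N9615 F202577) (tt N9209 F125011) (tt N9693 (iv F203479)) (tt N10397 F125012) (tt N8645 F125013) (tt N12496 D42941))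
theorem Q10399 : ∀ i, i < 10399 → P i := stepQ 10398 Q10398 (allL N10398 (tt N12496 (iv F179377)) (tt N8541 F125014) (tt N12481 (iv F179309)) (tt N11922 (iv F176335)) (tt N12412 (iv F178928)) (tt N9210 F125015) (tt N12494 (iv F179372)) (tt N10398 F125016) (tt N12497 D42942) (tt N8540 (iv D29466)))
theorem Q10400 : ∀ i, i < 10400 → P i := stepQ 10399 Q10399 (allL N10399 (tt N10399 F125017) (tt N12497 (iv F179381)) (tt N8542 F125018) (tt N12498 D42943) (tt N9685 F204061) (tt N9211 F125019) (tt N12495 (iv F179375)) (tt N10399 F125020) (tt N8541 (iv D29467)) (tt N8647 F125021))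
theorem Q10401 : ∀ i, i < 10401 → P i := stepQ 10400 Q10400 (allL N10400 (tt N11924 (iv F176351)) (tt N8549 F125027) (tt N9332 (iv F203848)) (tt N8544 F125028) (tt N10400 F125029) (tt N12499 D42946) (tt N8543 (iv D29469)) (tt N12500 D42947) (tt N12501 D42948) (tt N9316 F203395))
theorem Q10402 : ∀ i, i < 10402 → P i := stepQ 10401 Q10401 (allL N10401 (tt N11925 (iv F176355)) (tt N8550 F125030) (tt N9335 (iv F203849)) (tt N12502 D42949) (tt N10401 F125031) (tt N9213 F125032) (tt N12501 (iv F179408)) (tt N10401 F125033) (tt N8543 (iv D29470)) (tt N12503 D42950))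
theorem Q10403 : ∀ i, i < 10403 → P i := stepQ 10402 Q10402 (allL N10402 (tt N11926 (iv F176360)) (tt N8551 F125034) (tt N10402 F125035) (tt N12499 (iv F179400)) (tt N12282 (iv F178133)) (tt N8544 (iv D29471)) (tt N9214 F125036) (tt N12504 D42951) (tt N12505 D42952) (tt N12413 (iv F178954)))
theorem Q10404 : ∀ i, i < 10404 → P i := stepQ 10403 Q10403 (allL N10403 (tt N11927 (iv F176364)) (tt N8552 F125037) (tt N10403 F125038) (tt N12500 (iv F179403)) (tt N8546 F125039) (tt N12504 (iv F179419)) (tt N10403 F125040) (tt N8544 (iv D29472)) (tt N12506 D42953) (tt N12414 (iv F178959)))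
theorem Q10405 : ∀ i, i < 10405 → P i := stepQ 10404 Q10404 (allL N10404 (tt N11928 (iv F176369)) (tt N8553 F125041) (tt N10404 F125042) (tt N12507 D42954) (tt N8547 F125043) (tt N12505 (iv F179422)) (tt N8545 F125044) (tt N12506 (iv F179428)) (tt N8544 (iv D29473)) (tt N12508 D42955))
theorem Q10406 : ∀ i, i < 10406 → P i := stepQ 10405 Q10405 (allL N10405 (tt N11929 (iv F176374)) (tt N8554 F125045) (tt N12509 D42956) (tt N8545 (iv D29474)) (tt N12457 (iv F203840)) (tt N9181 F203390) (tt N12507 (iv F179430)) (tt N10405 F125047) (tt N12502 (iv F179412)) (tt N12510 D42958))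
theorem Q10407 : ∀ i, i < 10407 → P i := stepQ 10406 Q10406 (allL N10406 (tt N11930 (iv F176378)) (tt N8555 F125048) (tt N10406 F125049) (tt N12510 (iv F179442)) (tt N8548 F125050) (tt N9187 F203385) (tt N12508 (iv F179434)) (tt N10406 F125052) (tt N12417 (iv F178972)) (tt N8545 (iv D29475)))
theorem Q10408 : ∀ i, i < 10408 → P i := stepQ 10407 Q10407 (allL N10407 (tt N11931 (iv F176384)) (tt N8556 F125053) (tt N10407 F125054) (tt N12468 (iv F203843)) (tt N12506 (iv F179426)) (tt N12287 (iv F178150)) (tt N10407 F125055) (tt N8547 F125056) (tt N8546 (iv D29476)) (tt N12511 D42960))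
theorem Q10409 : ∀ i, i < 10409 → P i := stepQ 10408 Q10408 (allL N10408 (tt N11933 (iv F176393)) (tt N8558 F125060) (tt N10408 F125061) (tt N12469 (iv F203836)) (tt N12508 (iv F179433)) (tt N12288 (iv F178158)) (tt N8548 F125062) (tt N12511 (iv F179452)) (tt N12419 (iv F178983)) (tt N8547 (iv D29478)))
theorem Q10410 : ∀ i, i < 10410 → P i := stepQ 10409 Q10409 (allL N10409 (tt N8570 F125094) (tt N12499 (iv F179399)) (tt N8648 F125095) (tt N8551 F125096) (tt N12512 D42976) (tt N8549 (iv D29487)) (tt N9216 F125097) (tt N12513 D42977) (tt N12514 D42978) (tt N9313 F203895))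
theorem Q10411 : ∀ i, i < 10411 → P i := stepQ 10410 Q10410 (allL N10410 (tt N8571 F125098) (tt N12500 (iv F179402)) (tt N8649 F125099) (tt N8552 F125100) (tt N10410 F125101) (tt N12513 (iv F179517)) (tt N10410 F125102) (tt N8549 (iv D29488)) (tt N12515 D42979) (tt N9315 F203982))
theorem Q10412 : ∀ i, i < 10412 → P i := stepQ 10411 Q10411 (allL N10411 (tt N8572 F125103) (tt N12501 (iv F179406)) (tt N8650 F125104) (tt N12516 D42980) (tt N10411 F125105) (tt N12514 (iv F179520)) (tt N8550 F125106) (tt N12515 (iv F179526)) (tt N8549 (iv D29489)) (tt N12517 D42981))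
theorem Q10413 : ∀ i, i < 10413 → P i := stepQ 10412 Q10412 (allL N10412 (tt N8573 F125107) (tt N12502 (iv F179409)) (tt N9387 (iv F204199)) (tt N8550 (iv D29490)) (tt N12518 D42983) (tt N9219 F125108) (tt N12516 (iv F179528)) (tt N10412 F125109) (tt N8554 F125110) (tt N12519 D42984))
theorem Q10414 : ∀ i, i < 10414 → P i := stepQ 10413 Q10413 (allL N10413 (tt N8574 F125111) (tt N12503 (iv F179413)) (tt N8651 F125112) (tt N12519 (iv F179544)) (tt N10413 F125113) (tt N9220 F125114) (tt N12517 (iv F179533)) (tt N10413 F125115) (tt N9197 F203984) (tt N8550 (iv D29491)))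
theorem Q10415 : ∀ i, i < 10415 → P i := stepQ 10414 Q10414 (allL N10414 (tt N8575 F125116) (tt N12504 (iv F179417)) (tt N8562 F125117) (tt N12513 (iv F179516)) (tt N12294 (iv F178208)) (tt N8552 F125118) (tt N12520 D42985) (tt N8551 (iv D29492)) (tt N12521 D42986) (tt N12420 (iv F179041)))
theorem Q10416 : ∀ i, i < 10416 → P i := stepQ 10415 Q10415 (allL N10415 (tt N8576 F125119) (tt N12505 (iv F179420)) (tt N8563 F125120) (tt N12522 D42987) (tt N12295 (iv F178212)) (tt N8553 F125121) (tt N9222 F125122) (tt N12521 (iv F179554)) (tt N8551 (iv D29493)) (tt N12523 D42988))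
theorem Q10417 : ∀ i, i < 10417 → P i := stepQ 10416 Q10416 (allL N10416 (tt N8577 F125123) (tt N12506 (iv F179424)) (tt N8564 F125124) (tt N12524 D42989) (tt N8556 F125125) (tt N12521 (iv F179553)) (tt N10416 F125126) (tt N8553 F125127) (tt N8552 (iv D29494)) (tt N12525 D42990))
theorem Q10418 : ∀ i, i < 10418 → P i := stepQ 10417 Q10417 (allL N10417 (tt N8578 F125128) (tt N12507 (iv F179429)) (tt N12526 D42991) (tt N8553 (iv D29495)) (tt N12527 D42992) (tt N12522 (iv F179556)) (tt N8554 F125129) (tt N12524 (iv F179564)) (tt N12516 (iv F179529)) (tt N12528 D42993))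
theorem Q10419 : ∀ i, i < 10419 → P i := stepQ 10418 Q10418 (allL N10418 (tt N8579 F125130) (tt N12508 (iv F179431)) (tt N8566 F125131) (tt N12528 (iv F179577)) (tt N8558 F125132) (tt N12523 (iv F179560)) (tt N8555 F125133) (tt N12525 (iv F179569)) (tt N12424 (iv F179057)) (tt N8553 (iv D29496)))
theorem Q10420 : ∀ i, i < 10420 → P i := stepQ 10419 Q10419 (allL N10419 (tt N8580 F125134) (tt N12529 D42994) (tt N8554 (iv D29497)) (tt N8567 F125135) (tt N12530 D42995) (tt N9226 F125136) (tt N12526 (iv F179572)) (tt N10419 F125137) (tt N9387 (iv F204200)) (tt N12531 D42996))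
theorem Q10421 : ∀ i, i < 10421 → P i := stepQ 10420 Q10420 (allL N10420 (tt N8581 F125138) (tt N12457 (iv F203839)) (tt N12530 (iv F179583)) (tt N8559 F125139) (tt N8554 (iv D29498)) (tt N11891 (iv F203721)) (tt N12527 (iv F179575)) (tt N10420 F125140) (tt N12518 (iv F179542)) (tt N12532 D42998))
theorem Q10422 : ∀ i, i < 10422 → P i := stepQ 10421 Q10421 (allL N10421 (tt N8582 F125141) (tt N12510 (iv F179441)) (tt N12531 (iv F179587)) (tt N8555 F125142) (tt N12532 (iv F179597)) (tt N9227 F125143) (tt N12528 (iv F179578)) (tt N10421 F125144) (tt N12533 D42999) (tt N8554 (iv D29499)))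
theorem Q10423 : ∀ i, i < 10423 → P i := stepQ 10422 Q10422 (allL N10422 (tt N8583 F125145) (tt N12468 (iv F203842)) (tt N10422 F125146) (tt N8556 (iv D29500)) (tt N12534 D43000) (tt N12302 (iv F178235)) (tt N10422 F125147) (tt N8557 F125148) (tt N10422 F125149) (tt N12535 D43001))
theorem Q10424 : ∀ i, i < 10424 → P i := stepQ 10423 Q10423 (allL N10423 (tt N8584 F125150) (tt N12511 (iv F179449)) (tt N8569 F125151) (tt N12535 (iv F179609)) (tt N12525 (iv F179567)) (tt N12303 (iv F178240)) (tt N10423 F125152) (tt N8558 F125153) (tt N12428 (iv F179077)) (tt N8556 (iv D29501)))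
theorem Q10425 : ∀ i, i < 10425 → P i := stepQ 10424 Q10424 (allL N10424 (tt N8585 F125154) (tt N12465 (iv F203841)) (tt N10424 F125155) (tt N12527 (iv F179574)) (tt N8557 (iv D29502)) (tt N12536 D43002) (tt N8559 F125156) (tt N12534 (iv F179605)) (tt N10424 F125157) (tt N12537 D43003))
theorem Q10426 : ∀ i, i < 10426 → P i := stepQ 10425 Q10425 (allL N10425 (tt N8586 F125158) (tt N12469 (iv F203835)) (tt N10425 F125159) (tt N8558 F125160) (tt N12537 (iv F179617)) (tt N12305 (iv F178249)) (tt N8560 F125161) (tt N12535 (iv F179611)) (tt N12538 D43004) (tt N8557 (iv D29503)))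
theorem Q10427 : ∀ i, i < 10427 → P i := stepQ 10426 Q10426 (allL N10426 (tt N8588 F125167) (tt N12466 (iv F203834)) (tt N10426 F125168) (tt N12532 (iv F179596)) (tt N8560 F125169) (tt N11897 (iv F203727)) (tt N12537 (iv F179618)) (tt N10426 F125170) (tt N12539 D43007) (tt N8559 (iv D29505)))
theorem Q10428 : ∀ i, i < 10428 → P i := stepQ 10427 Q10427 (allL N10427 (tt N8589 F125171) (tt N12470 (iv F203837)) (tt N10427 F125172) (tt N12432 (iv F179092)) (tt N12539 (iv F179634)) (tt N8561 F125173) (tt N12538 (iv F179621)) (tt N10427 F125174) (tt N8560 (iv D29506)) (tt N10427 F125175))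
theorem Q10429 : ∀ i, i < 10429 → P i := stepQ 10428 Q10428 (allL N10428 (tt N8593 F125190) (tt N10428 F125191) (tt N12520 (iv F179548)) (tt N8653 F125192) (tt N12308 (iv F178279)) (tt N10428 F125193) (tt N8562 (iv D29510)) (tt N9229 F125194) (tt N12540 D43012) (tt N12433 (iv F179112)))
theorem Q10430 : ∀ i, i < 10430 → P i := stepQ 10429 Q10429 (allL N10429 (tt N8594 F125195) (tt N10429 F125196) (tt N12521 (iv F179552)) (tt N12541 D43013) (tt N12309 (iv F178283)) (tt N8564 F125197) (tt N12540 (iv F179658)) (tt N8563 F125198) (tt N8562 (iv D29511)) (tt N12542 D43014))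
theorem Q10431 : ∀ i, i < 10431 → P i := stepQ 10430 Q10430 (allL N10430 (tt N8595 F125199) (tt N10430 F125200) (tt N12543 D43015) (tt N8563 (iv D29512)) (tt N12544 D43016) (tt N8565 F125201) (tt N9231 F125202) (tt N12541 (iv F179663)) (tt N8655 F125203) (tt N12545 D43017))
theorem Q10432 : ∀ i, i < 10432 → P i := stepQ 10431 Q10431 (allL N10431 (tt N8596 F125204) (tt N10431 F125205) (tt N12523 (iv F179559)) (tt N12545 (iv F179680)) (tt N12311 (iv F178293)) (tt N8566 F125206) (tt N9232 F125207) (tt N12542 (iv F179668)) (tt N12435 (iv F179126)) (tt N8563 (iv D29513)))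
theorem Q10433 : ∀ i, i < 10433 → P i := stepQ 10432 Q10432 (allL N10432 (tt N8597 F125208) (tt N10432 F125209) (tt N12546 D43018) (tt N8564 (iv D29514)) (tt N10432 F125210) (tt N12541 (iv F179662)) (tt N10432 F125211) (tt N8565 F125212) (tt N8656 F125213) (tt N12547 D43019))
theorem Q10434 : ∀ i, i < 10434 → P i := stepQ 10433 Q10433 (allL N10433 (tt N8598 F125214) (tt N10433 F125215) (tt N12525 (iv F179566)) (tt N12547 (iv F179690)) (tt N8569 F125216) (tt N12542 (iv F179667)) (tt N10433 F125217) (tt N8566 F125218) (tt N12436 (iv F179137)) (tt N8564 (iv D29515)))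
theorem Q10435 : ∀ i, i < 10435 → P i := stepQ 10434 Q10434 (allL N10434 (tt N8599 F125219) (tt N12548 D43020) (tt N8565 (iv D29516)) (tt N12526 (iv F179571)) (tt N10434 F125220) (tt N12543 (iv F179670)) (tt N8567 F125221) (tt N12546 (iv F179686)) (tt N8657 F125222) (tt N12549 D43021))
theorem Q10436 : ∀ i, i < 10436 → P i := stepQ 10435 Q10435 (allL N10435 (tt N8600 F125223) (tt N10435 F125224) (tt N12549 (iv F179699)) (tt N8566 F125225) (tt N10435 F125226) (tt N12545 (iv F179681)) (tt N8568 F125227) (tt N12547 (iv F179693)) (tt N9359 F204354) (tt N8565 (iv D29517)))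
theorem Q10437 : ∀ i, i < 10437 → P i := stepQ 10436 Q10436 (allL N10436 (tt N12550 D43023) (tt N8567 (iv D29518)) (tt N10436 F125228) (tt N12529 (iv F179579)) (tt N10436 F125229) (tt N9237 F125230) (tt N12548 (iv F179696)) (tt N10436 F125231) (tt N8658 F125232) (tt N12551 D43024))
theorem Q10438 : ∀ i, i < 10438 → P i := stepQ 10437 Q10437 (allL N10437 (tt N8602 F125233) (tt N12551 (iv F179713)) (tt N8568 F125234) (tt N12531 (iv F179588)) (tt N10437 F125235) (tt N9238 F125236) (tt N12549 (iv F179701)) (tt N10437 F125237) (tt N9361 F204355) (tt N8567 (iv D29519)))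
theorem Q10439 : ∀ i, i < 10439 → P i := stepQ 10438 Q10438 (allL N10438 (tt N12512 (iv F179510)) (tt N11970 (iv F176568)) (tt N8659 F125244) (tt N12319 (iv F178328)) (tt N8570 (iv D29521)) (tt N10438 F125245) (tt N9239 F125246) (tt N12552 D43026) (tt N12553 D43027) (tt N12437 (iv F179162)))
theorem Q10440 : ∀ i, i < 10440 → P i := stepQ 10439 Q10439 (allL N10439 (tt N12513 (iv F179514)) (tt N11971 (iv F176572)) (tt N8660 F125247) (tt N8575 F125248) (tt N12552 (iv F179725)) (tt N8571 F125249) (tt N12554 D43028) (tt N8570 (iv D29522)) (tt N12555 D43029) (tt N12438 (iv F179166)))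
theorem Q10441 : ∀ i, i < 10441 → P i := stepQ 10440 Q10440 (allL N10440 (tt N12514 (iv F179518)) (tt N11972 (iv F176576)) (tt N8661 F125250) (tt N12556 D43030) (tt N12553 (iv F179728)) (tt N8572 F125251) (tt N9241 F125252) (tt N12555 (iv F179737)) (tt N8570 (iv D29523)) (tt N12557 D43031))
theorem Q10442 : ∀ i, i < 10442 → P i := stepQ 10441 Q10441 (allL N10441 (tt N12515 (iv F179522)) (tt N11973 (iv F176580)) (tt N8662 F125253) (tt N12558 D43032) (tt N10441 F125254) (tt N12555 (iv F179736)) (tt N10441 F125255) (tt N8572 F125256) (tt N8571 (iv D29524)) (tt N12559 D43033))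
theorem Q10443 : ∀ i, i < 10443 → P i := stepQ 10442 Q10442 (allL N10442 (tt N12516 (iv F179527)) (tt N11974 (iv F176585)) (tt N12560 D43034) (tt N8572 (iv D29525)) (tt N12561 D43035) (tt N12556 (iv F179738)) (tt N8573 F125257) (tt N12558 (iv F179745)) (tt N8578 F125258) (tt N12562 D43036))
theorem Q10444 : ∀ i, i < 10444 → P i := stepQ 10443 Q10443 (allL N10443 (tt N12517 (iv F179530)) (tt N11975 (iv F176588)) (tt N8664 F125259) (tt N12562 (iv F179757)) (tt N10443 F125260) (tt N12557 (iv F179742)) (tt N8574 F125261) (tt N12559 (iv F179750)) (tt N12442 (iv F179179)) (tt N8572 (iv D29526)))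
theorem Q10445 : ∀ i, i < 10445 → P i := stepQ 10444 Q10444 (allL N10444 (tt N9387 (iv F204198)) (tt N12563 D43037) (tt N8573 (iv D29527)) (tt N8665 F125262) (tt N12564 D43038) (tt N9245 F125263) (tt N12560 (iv F179752)) (tt N10444 F125264) (tt N8580 F125265) (tt N12565 D43039))
theorem Q10446 : ∀ i, i < 10446 → P i := stepQ 10445 Q10445 (allL N10445 (tt N12518 (iv F179539)) (tt N11977 (iv F176596)) (tt N12564 (iv F179763)) (tt N10445 F125266) (tt N8573 (iv D29528)) (tt N12566 D43040) (tt N12561 (iv F179755)) (tt N10445 F125267) (tt N8581 F125268) (tt N12567 D43041))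
theorem Q10447 : ∀ i, i < 10447 → P i := stepQ 10446 Q10446 (allL N10446 (tt N12519 (iv F179543)) (tt N11978 (iv F176600)) (tt N12565 (iv F179766)) (tt N8574 F125269) (tt N12567 (iv F179775)) (tt N9247 F125270) (tt N12562 (iv F179758)) (tt N10446 F125271) (tt N12568 D43042) (tt N8573 (iv D29529)))
theorem Q10448 : ∀ i, i < 10448 → P i := stepQ 10447 Q10447 (allL N10447 (tt N12520 (iv F179547)) (tt N11979 (iv F176604)) (tt N8593 F125272) (tt N12554 (iv F179732)) (tt N12328 (iv F178353)) (tt N10447 F125273) (tt N8575 (iv D29530)) (tt N9248 F125274) (tt N12569 D43043) (tt N12445 (iv F179193)))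
theorem Q10449 : ∀ i, i < 10449 → P i := stepQ 10448 Q10448 (allL N10448 (tt N12521 (iv F179551)) (tt N11980 (iv F176608)) (tt N8594 F125275) (tt N12570 D43044) (tt N12329 (iv F178356)) (tt N8577 F125276) (tt N12569 (iv F179782)) (tt N8576 F125277) (tt N8575 (iv D29531)) (tt N12571 D43045))
theorem Q10450 : ∀ i, i < 10450 → P i := stepQ 10449 Q10449 (allL N10449 (tt N12522 (iv F179555)) (tt N11981 (iv F176612)) (tt N12572 D43046) (tt N8576 (iv D29532)) (tt N12573 D43047) (tt N8578 F125278) (tt N9250 F125279) (tt N12570 (iv F179785)) (tt N12556 (iv F179740)) (tt N12574 D43048))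
theorem Q10451 : ∀ i, i < 10451 → P i := stepQ 10450 Q10450 (allL N10450 (tt N12523 (iv F179558)) (tt N11982 (iv F176615)) (tt N8596 F125280) (tt N12574 (iv F179793)) (tt N12331 (iv F178362)) (tt N8579 F125281) (tt N9251 F125282) (tt N12571 (iv F179788)) (tt N12448 (iv F179202)) (tt N8576 (iv D29533)))
theorem Q10452 : ∀ i, i < 10452 → P i := stepQ 10451 Q10451 (allL N10451 (tt N12524 (iv F179562)) (tt N11983 (iv F176619)) (tt N12575 D43049) (tt N8577 (iv D29534)) (tt N12576 D43050) (tt N12570 (iv F179784)) (tt N10451 F125283) (tt N8578 F125284) (tt N12558 (iv F179746)) (tt N12577 D43051))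
theorem Q10453 : ∀ i, i < 10453 → P i := stepQ 10452 Q10452 (allL N10452 (tt N12525 (iv F179565)) (tt N11984 (iv F176622)) (tt N8598 F125285) (tt N12577 (iv F179802)) (tt N8584 F125286) (tt N12571 (iv F179787)) (tt N10452 F125287) (tt N8579 F125288) (tt N12450 (iv F179209)) (tt N8577 (iv D29535)))
theorem Q10454 : ∀ i, i < 10454 → P i := stepQ 10453 Q10453 (allL N10453 (tt N12526 (iv F179570)) (tt N12578 D43052) (tt N8578 (iv D29536)) (tt N8599 F125289) (tt N12579 D43053) (tt N12572 (iv F179790)) (tt N8580 F125290) (tt N12575 (iv F179798)) (tt N12560 (iv F179753)) (tt N12580 D43054))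
theorem Q10455 : ∀ i, i < 10455 → P i := stepQ 10454 Q10454 (allL N10454 (tt N12527 (iv F179573)) (tt N11986 (iv F176629)) (tt N12579 (iv F179807)) (tt N8585 F125291) (tt N8578 (iv D29537)) (tt N12581 D43055) (tt N8581 F125292) (tt N12576 (iv F179801)) (tt N12561 (iv F179756)) (tt N12582 D43056))
theorem Q10456 : ∀ i, i < 10456 → P i := stepQ 10455 Q10455 (allL N10455 (tt N12528 (iv F179576)) (tt N11987 (iv F176632)) (tt N12580 (iv F179810)) (tt N8579 F125293) (tt N12582 (iv F179815)) (tt N12574 (iv F179794)) (tt N8582 F125294) (tt N12577 (iv F179804)) (tt N12583 D43057) (tt N8578 (iv D29538)))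
theorem Q10457 : ∀ i, i < 10457 → P i := stepQ 10456 Q10456 (allL N10456 (tt N12584 D43058) (tt N8580 (iv D29539)) (tt N11988 (iv F176635)) (tt N8601 F125295) (tt N12585 D43059) (tt N9257 F125296) (tt N12578 (iv F179806)) (tt N10456 F125297) (tt N12563 (iv F179762)) (tt N12586 D43060))
theorem Q10458 : ∀ i, i < 10458 → P i := stepQ 10457 Q10457 (allL N10457 (tt N12530 (iv F179582)) (tt N12585 (iv F179821)) (tt N8581 F125298) (tt N10457 F125299) (tt N8580 (iv D29540)) (tt N12587 D43061) (tt N12579 (iv F179809)) (tt N10457 F125300) (tt N12564 (iv F179765)) (tt N12588 D43062))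
theorem Q10459 : ∀ i, i < 10459 → P i := stepQ 10458 Q10458 (allL N10458 (tt N12531 (iv F179586)) (tt N12586 (iv F179824)) (tt N8582 F125301) (tt N8602 F125302) (tt N12588 (iv F179834)) (tt N9259 F125303) (tt N12580 (iv F179812)) (tt N10458 F125304) (tt N12589 D43063) (tt N8580 (iv D29541)))
theorem Q10460 : ∀ i, i < 10460 → P i := stepQ 10459 Q10459 (allL N10459 (tt N11891 (iv F203720)) (tt N11991 (iv F176645)) (tt N12587 (iv F179828)) (tt N8587 F125305) (tt N9260 F125306) (tt N8581 (iv D29542)) (tt N12590 D43064) (tt N10459 F125307) (tt N12566 (iv F179773)) (tt N12591 D43065))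
theorem Q10461 : ∀ i, i < 10461 → P i := stepQ 10460 Q10460 (allL N10460 (tt N12532 (iv F179595)) (tt N11992 (iv F176649)) (tt N12588 (iv F179832)) (tt N8588 F125308) (tt N8582 F125309) (tt N12591 (iv F179843)) (tt N12582 (iv F179816)) (tt N10460 F125310) (tt N12592 D43066) (tt N8581 (iv D29543)))
theorem Q10462 : ∀ i, i < 10462 → P i := stepQ 10461 Q10461 (allL N10461 (tt N12533 (iv F179599)) (tt N11993 (iv F176653)) (tt N12589 (iv F179836)) (tt N12459 (iv F179231)) (tt N12592 (iv F179845)) (tt N9262 F125311) (tt N12583 (iv F179817)) (tt N10461 F125312) (tt N8582 (iv D29544)) (tt N12568 (iv F179779)))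
theorem Q10463 : ∀ i, i < 10463 → P i := stepQ 10462 Q10462 (allL N10462 (tt N12534 (iv F179602)) (tt N11994 (iv F176656)) (tt N10462 F125313) (tt N12576 (iv F179799)) (tt N8583 (iv D29545)) (tt N12593 D43067) (tt N10462 F125314) (tt N8585 F125315) (tt N10462 F125316) (tt N12594 D43068))
theorem Q10464 : ∀ i, i < 10464 → P i := stepQ 10463 Q10463 (allL N10463 (tt N12535 (iv F179607)) (tt N11995 (iv F176660)) (tt N10463 F125317) (tt N8584 F125318) (tt N12594 (iv F179851)) (tt N12344 (iv F178392)) (tt N10463 F125319) (tt N8586 F125320) (tt N12595 D43069) (tt N8583 (iv D29546)))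
theorem Q10465 : ∀ i, i < 10465 → P i := stepQ 10464 Q10464 (allL N10464 (tt N12536 (iv F179612)) (tt N11996 (iv F176664)) (tt N10464 F125321) (tt N12581 (iv F179813)) (tt N12345 (iv F178395)) (tt N8585 (iv D29547)) (tt N12596 D43070) (tt N12593 (iv F179848)) (tt N10464 F125322) (tt N12597 D43071))
theorem Q10466 : ∀ i, i < 10466 → P i := stepQ 10465 Q10465 (allL N10465 (tt N12537 (iv F179615)) (tt N11997 (iv F176666)) (tt N10465 F125323) (tt N12582 (iv F179814)) (tt N8586 F125324) (tt N12597 (iv F179862)) (tt N8588 F125325) (tt N12594 (iv F179853)) (tt N12598 D43072) (tt N8585 (iv D29548)))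
theorem Q10467 : ∀ i, i < 10467 → P i := stepQ 10466 Q10466 (allL N10466 (tt N12538 (iv F179619)) (tt N11998 (iv F176669)) (tt N10466 F125326) (tt N12464 (iv F179243)) (tt N12598 (iv F179864)) (tt N12347 (iv F178401)) (tt N8589 F125327) (tt N12595 (iv F179856)) (tt N8586 (iv D29549)) (tt N10466 F125328))
theorem Q10468 : ∀ i, i < 10468 → P i := stepQ 10467 Q10467 (allL N10467 (tt N11895 (iv F203725)) (tt N11999 (iv F176672)) (tt N10467 F125329) (tt N12590 (iv F179839)) (tt N8590 F125330) (tt N12596 (iv F179859)) (tt N8587 (iv D29550)) (tt N12599 D43073) (tt N10467 F125331) (tt N12600 D43074))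
theorem Q10469 : ∀ i, i < 10469 → P i := stepQ 10468 Q10468 (allL N10468 (tt N11897 (iv F203726)) (tt N12000 (iv F176675)) (tt N10468 F125332) (tt N12591 (iv F179841)) (tt N8591 F125333) (tt N8588 F125334) (tt N12600 (iv F179873)) (tt N10468 F125335) (tt N12601 D43075) (tt N8587 (iv D29551)))
theorem Q10470 : ∀ i, i < 10470 → P i := stepQ 10469 Q10469 (allL N10469 (tt N12539 (iv F179632)) (tt N12001 (iv F176679)) (tt N10469 F125336) (tt N12602 D43076) (tt N8589 F125337) (tt N12601 (iv F179876)) (tt N12598 (iv F179865)) (tt N10469 F125338) (tt N8588 (iv D29552)) (tt N10469 F125339))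
theorem Q10471 : ∀ i, i < 10471 → P i := stepQ 10470 Q10470 (allL N10470 (tt N11893 (iv F203722)) (tt N12002 (iv F176683)) (tt N10470 F125340) (tt N9269 F125341) (tt N12599 (iv F179868)) (tt N12351 (iv F178415)) (tt N10470 F125342) (tt N8590 (iv D29553)) (tt N10470 F125343) (tt N12603 D43077))
theorem Q10472 : ∀ i, i < 10472 → P i := stepQ 10471 Q10471 (allL N10471 (tt N11896 (iv F203724)) (tt N12003 (iv F176687)) (tt N10471 F125344) (tt N9270 F125345) (tt N12600 (iv F179872)) (tt N12352 (iv F178419)) (tt N8591 F125346) (tt N12603 (iv F179884)) (tt N12604 D43078) (tt N8590 (iv D29554)))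
theorem Q10473 : ∀ i, i < 10473 → P i := stepQ 10472 Q10472 (allL N10472 (tt N11898 (iv F203728)) (tt N12004 (iv F176690)) (tt N10472 F125347) (tt N11957 (iv F203709)) (tt N12601 (iv F179875)) (tt N8592 F125348) (tt N12604 (iv F179886)) (tt N10472 F125349) (tt N8591 (iv D29555)) (tt N10472 F125350))
theorem Q10474 : ∀ i, i < 10474 → P i := stepQ 10473 Q10473 (allL N10473 (tt N12540 (iv F179655)) (tt N8604 F125354) (tt N12569 (iv F179780)) (tt N12605 D43081) (tt N12354 (iv F178428)) (tt N10473 F125355) (tt N8594 F125356) (tt N9271 F125357) (tt N8593 (iv D29557)) (tt N12606 D43082))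
theorem Q10475 : ∀ i, i < 10475 → P i := stepQ 10474 Q10474 (allL N10474 (tt N12541 (iv F179660)) (tt N8605 F125358) (tt N12607 D43083) (tt N8594 (iv D29558)) (tt N12608 D43084) (tt N8597 F125359) (tt N12605 (iv F179898)) (tt N8595 F125360) (tt N8674 F125361) (tt N12609 D43085))
theorem Q10476 : ∀ i, i < 10476 → P i := stepQ 10475 Q10475 (allL N10475 (tt N12542 (iv F179665)) (tt N8606 F125362) (tt N12571 (iv F179786)) (tt N12609 (iv F179913)) (tt N12356 (iv F178436)) (tt N8598 F125363) (tt N12606 (iv F179903)) (tt N8596 F125364) (tt N12473 (iv F179277)) (tt N8594 (iv D29559)))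
theorem Q10477 : ∀ i, i < 10477 → P i := stepQ 10476 Q10476 (allL N10476 (tt N12543 (iv F179669)) (tt N12610 D43086) (tt N8595 (iv D29560)) (tt N12572 (iv F179789)) (tt N12611 D43087) (tt N8599 F125365) (tt N9274 F125366) (tt N12607 (iv F179906)) (tt N8676 F125367) (tt N12612 D43088))
theorem Q10478 : ∀ i, i < 10478 → P i := stepQ 10477 Q10477 (allL N10477 (tt N12544 (iv F179673)) (tt N8608 F125368) (tt N12611 (iv F179920)) (tt N12358 (iv F178443)) (tt N8595 (iv D29561)) (tt N10477 F125369) (tt N9275 F125370) (tt N12608 (iv F179910)) (tt N8677 F125371) (tt N12613 D43089))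
theorem Q10479 : ∀ i, i < 10479 → P i := stepQ 10478 Q10478 (allL N10478 (tt N12545 (iv F179678)) (tt N8609 F125372) (tt N12612 (iv F179924)) (tt N8596 F125373) (tt N12613 (iv F179928)) (tt N8600 F125374) (tt N9276 F125375) (tt N12609 (iv F179915)) (tt N12614 D43090) (tt N8595 (iv D29562)))
theorem Q10480 : ∀ i, i < 10480 → P i := stepQ 10479 Q10479 (allL N10479 (tt N12546 (iv F179683)) (tt N12615 D43091) (tt N8597 (iv D29563)) (tt N12575 (iv F179796)) (tt N10479 F125376) (tt N12607 (iv F179905)) (tt N10479 F125377) (tt N8599 F125378) (tt N8679 F125379) (tt N12616 D43092))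
theorem Q10481 : ∀ i, i < 10481 → P i := stepQ 10480 Q10480 (allL N10480 (tt N12547 (iv F179688)) (tt N8611 F125380) (tt N12616 (iv F179940)) (tt N8598 F125381) (tt N10480 F125382) (tt N12609 (iv F179914)) (tt N10480 F125383) (tt N8600 F125384) (tt N12617 D43093) (tt N8597 (iv D29564)))
theorem Q10482 : ∀ i, i < 10482 → P i := stepQ 10481 Q10481 (allL N10481 (tt N12618 D43094) (tt N8599 (iv D29565)) (tt N8612 F125385) (tt N12578 (iv F179805)) (tt N10481 F125386) (tt N12610 (iv F179917)) (tt N8601 F125387) (tt N12615 (iv F179938)) (tt N8681 F125388) (tt N12619 D43095))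
theorem Q10483 : ∀ i, i < 10483 → P i := stepQ 10482 Q10482 (allL N10482 (tt N12549 (iv F179698)) (tt N12619 (iv F179953)) (tt N8600 F125389) (tt N12580 (iv F179811)) (tt N10482 F125390) (tt N12612 (iv F179925)) (tt N8602 F125391) (tt N12616 (iv F179943)) (tt N12620 D43096) (tt N8599 (iv D29566)))
theorem Q10484 : ∀ i, i < 10484 → P i := stepQ 10483 Q10483 (allL N10483 (tt N9359 F204319) (tt N8614 F125392) (tt N12620 (iv F179957)) (tt N9341 F204320) (tt N10483 F125393) (tt N12614 (iv F179932)) (tt N8603 F125394) (tt N12617 (iv F179947)) (tt N8600 (iv D29567)) (tt N8683 F125395))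
theorem Q10485 : ∀ i, i < 10485 → P i := stepQ 10484 Q10484 (allL N10484 (tt N8601 (iv D29568)) (tt N12550 (iv F179707)) (tt N8615 F125396) (tt N12584 (iv F179818)) (tt N10484 F125397) (tt N9282 F125398) (tt N12618 (iv F179951)) (tt N10484 F125399) (tt N8684 F125400) (tt N12621 D43097))
theorem Q10486 : ∀ i, i < 10486 → P i := stepQ 10485 Q10485 (allL N10485 (tt N12621 (iv F179961)) (tt N8602 F125401) (tt N8616 F125402) (tt N12586 (iv F179825)) (tt N10485 F125403) (tt N9283 F125404) (tt N12619 (iv F179956)) (tt N10485 F125405) (tt N12622 D43098) (tt N8601 (iv D29569)))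
theorem Q10487 : ∀ i, i < 10487 → P i := stepQ 10486 Q10486 (allL N10486 (tt N9361 F204364) (tt N12622 (iv F179966)) (tt N8603 F125406) (tt N12623 D43099) (tt N10486 F125407) (tt N9284 F125408) (tt N12620 (iv F179959)) (tt N10486 F125409) (tt N8602 (iv D29570)) (tt N8686 F125410))
theorem Q10488 : ∀ i, i < 10488 → P i := stepQ 10487 Q10487 (allL N10487 (tt N10487 F125411) (tt N12605 (iv F179896)) (tt N12624 D43100) (tt N8604 (iv D29571)) (tt N12625 D43101) (tt N10487 F125412) (tt N8605 F125413) (tt N9285 F125414) (tt N8687 F125415) (tt N12626 D43102))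
theorem Q10489 : ∀ i, i < 10489 → P i := stepQ 10488 Q10488 (allL N10488 (tt N10488 F125416) (tt N12606 (iv F179901)) (tt N12019 (iv F176752)) (tt N12626 (iv F179985)) (tt N12368 (iv F178486)) (tt N10488 F125417) (tt N8606 F125418) (tt N9286 F125419) (tt N12483 (iv F179325)) (tt N8604 (iv D29572)))
theorem Q10490 : ∀ i, i < 10490 → P i := stepQ 10489 Q10489 (allL N10489 (tt N10489 F125420) (tt N12627 D43103) (tt N8605 (iv D29573)) (tt N12020 (iv F176757)) (tt N12628 D43104) (tt N8610 F125421) (tt N12624 (iv F179977)) (tt N8607 F125422) (tt N8689 F125423) (tt N12629 D43105))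
theorem Q10491 : ∀ i, i < 10491 → P i := stepQ 10490 Q10490 (allL N10490 (tt N10490 F125424) (tt N12608 (iv F179908)) (tt N12628 (iv F179993)) (tt N12369 (iv F178494)) (tt N8605 (iv D29574)) (tt N10490 F125425) (tt N12625 (iv F179981)) (tt N8608 F125426) (tt N8690 F125427) (tt N12630 D43106))
theorem Q10492 : ∀ i, i < 10492 → P i := stepQ 10491 Q10491 (allL N10491 (tt N10491 F125428) (tt N12609 (iv F179912)) (tt N12629 (iv F179998)) (tt N8606 F125429) (tt N12630 (iv F180002)) (tt N8611 F125430) (tt N12626 (iv F179987)) (tt N8609 F125431) (tt N12631 D43107) (tt N8605 (iv D29575)))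
theorem Q10493 : ∀ i, i < 10493 → P i := stepQ 10492 Q10492 (allL N10492 (tt N12632 D43108) (tt N8607 (iv D29576)) (tt N12610 (iv F179916)) (tt N12022 (iv F176768)) (tt N12633 D43109) (tt N8612 F125432) (tt N9290 F125433) (tt N12627 (iv F179990)) (tt N8692 F125434) (tt N12634 D43110))
theorem Q10494 : ∀ i, i < 10494 → P i := stepQ 10493 Q10493 (allL N10493 (tt N10493 F125435) (tt N12633 (iv F180013)) (tt N8608 F125436) (tt N12635 D43111) (tt N8607 (iv D29577)) (tt N10493 F125437) (tt N9291 F125438) (tt N12628 (iv F179995)) (tt N8693 F125439) (tt N12636 D43112))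
theorem Q10495 : ∀ i, i < 10495 → P i := stepQ 10494 Q10494 (allL N10494 (tt N10494 F125440) (tt N12634 (iv F180017)) (tt N8609 F125441) (tt N12024 (iv F176778)) (tt N12636 (iv F180025)) (tt N8613 F125442) (tt N9292 F125443) (tt N12629 (iv F180000)) (tt N12637 D43113) (tt N8607 (iv D29578)))
theorem Q10496 : ∀ i, i < 10496 → P i := stepQ 10495 Q10495 (allL N10495 (tt N10495 F125444) (tt N12613 (iv F179927)) (tt N12636 (iv F180024)) (tt N12374 (iv F178515)) (tt N8609 F125445) (tt N10495 F125446) (tt N9293 F125447) (tt N12630 (iv F180004)) (tt N12638 D43114) (tt N8608 (iv D29579)))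
theorem Q10497 : ∀ i, i < 10497 → P i := stepQ 10496 Q10496 (allL N10496 (tt N10496 F125448) (tt N12614 (iv F179931)) (tt N12637 (iv F180029)) (tt N12491 (iv F179352)) (tt N12638 (iv F180034)) (tt N8614 F125449) (tt N9294 F125450) (tt N12631 (iv F180007)) (tt N8609 (iv D29580)) (tt N8696 F125451))
theorem Q10498 : ∀ i, i < 10498 → P i := stepQ 10497 Q10497 (allL N10497 (tt N12639 D43115) (tt N8610 (iv D29581)) (tt N12615 (iv F179935)) (tt N12027 (iv F176788)) (tt N10497 F125452) (tt N12627 (iv F179989)) (tt N10497 F125453) (tt N8612 F125454) (tt N8697 F125455) (tt N12640 D43116))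
theorem Q10499 : ∀ i, i < 10499 → P i := stepQ 10498 Q10498 (allL N10498 (tt N10498 F125456) (tt N12640 (iv F180043)) (tt N8611 F125457) (tt N12028 (iv F176794)) (tt N10498 F125458) (tt N12629 (iv F179999)) (tt N10498 F125459) (tt N8613 F125460) (tt N12641 D43117) (tt N8610 (iv D29582)))
theorem Q10500 : ∀ i, i < 10500 → P i := stepQ 10499 Q10499 (allL N10499 (tt N10499 F125461) (tt N12617 (iv F179944)) (tt N12641 (iv F180048)) (tt N12493 (iv F179364)) (tt N10499 F125462) (tt N12631 (iv F180006)) (tt N10499 F125463) (tt N8614 F125464) (tt N8611 (iv D29583)) (tt N8699 F125465))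
theorem Q10501 : ∀ i, i < 10501 → P i := stepQ 10500 Q10500 (allL N10500 (tt N8612 (iv D29584)) (tt N10500 F125466) (tt N12618 (iv F179949)) (tt N12030 (iv F176802)) (tt N10500 F125467) (tt N12632 (iv F180010)) (tt N8615 F125468) (tt N12639 (iv F180041)) (tt N8700 F125469) (tt N12642 D43118))
theorem Q10502 : ∀ i, i < 10502 → P i := stepQ 10501 Q10501 (allL N10501 (tt N12642 (iv F180053)) (tt N8613 F125470) (tt N12619 (iv F179954)) (tt N12031 (iv F176806)) (tt N10501 F125471) (tt N12634 (iv F180018)) (tt N8616 F125472) (tt N12640 (iv F180046)) (tt N12643 D43119) (tt N8612 (iv D29585)))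
theorem Q10503 : ∀ i, i < 10503 → P i := stepQ 10502 Q10502 (allL N10502 (tt N10502 F125473) (tt N12643 (iv F180057)) (tt N8614 F125474) (tt N12644 D43120) (tt N10502 F125475) (tt N12637 (iv F180030)) (tt N8617 F125476) (tt N12641 (iv F180051)) (tt N8613 (iv D29586)) (tt N8702 F125477))
theorem Q10504 : ∀ i, i < 10504 → P i := stepQ 10503 Q10503 (allL N10503 (tt N8616 F125478) (tt N10503 F125479) (tt N12621 (iv F179962)) (tt N12033 (iv F176814)) (tt N10503 F125480) (tt N9301 F125481) (tt N12642 (iv F180056)) (tt N10503 F125482) (tt N12645 D43121) (tt N8615 (iv D29587)))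
theorem Q10505 : ∀ i, i < 10505 → P i := stepQ 10504 Q10504 (allL N10504 (tt N12645 (iv F180064)) (tt N8617 F125483) (tt N12622 (iv F179967)) (tt N12646 D43122) (tt N10504 F125484) (tt N9302 F125485) (tt N12643 (iv F180059)) (tt N10504 F125486) (tt N8616 (iv D29588)) (tt N8704 F125487))
theorem Q10506 : ∀ i, i < 10506 → P i := stepQ 10505 Q10505 (allL N10505 (tt N10505 F125488) (tt N12646 (iv F180070)) (tt N12498 (iv F179386)) (tt N8617 (iv D29589)) (tt N12647 D43123) (tt N9303 F125489) (tt N12644 (iv F180062)) (tt N10505 F125490) (tt N12035 (iv F176824)) (tt N8705 F125491))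
theorem Q10507 : ∀ i, i < 10507 → P i := stepQ 10506 Q10506 (allL N10506 (tt N10506 F126080) (tt N9669 F203924) (tt N8641 F203921) (tt N10506 F126081) (tt N8618 (iv D29716)) (tt N8638 F126082) (tt N10506 F126083) (tt N8643 F203922) (tt N12408 (iv F178890)) (tt N8640 F203923))
theorem Q10508 : ∀ i, i < 10508 → P i := stepQ 10507 Q10507 (allL N10507 (tt N8628 F126320) (tt N10507 F126321) (tt N9311 F204340) (tt N12433 (iv F179109)) (tt N10507 F126322) (tt N10507 F126323) (tt N8622 (iv D29768)) (tt N9304 F126324) (tt N9310 F204341) (tt N8653 F126325))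
theorem Q10509 : ∀ i, i < 10509 → P i := stepQ 10508 Q10508 (allL N10508 (tt N9314 (iv F204160)) (tt N10508 F126369) (tt N12437 (iv F179159)) (tt N10508 F126370) (tt N8623 (iv D29779)) (tt N10508 F126371) (tt N9305 F126372) (tt N12648 D43408) (tt N12649 D43409) (tt N8659 F126373))
theorem Q10510 : ∀ i, i < 10510 → P i := stepQ 10509 Q10509 (allL N10509 (tt N9312 (iv F204163)) (tt N10509 F126374) (tt N12438 (iv F179163)) (tt N8627 F126375) (tt N12648 (iv F181349)) (tt N8624 F126376) (tt N12650 D43410) (tt N8623 (iv D29780)) (tt N12651 D43411) (tt N8660 F126377))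
theorem Q10511 : ∀ i, i < 10511 → P i := stepQ 10510 Q10510 (allL N10510 (tt N9190 F203945) (tt N10510 F126378) (tt N12439 (iv F179167)) (tt N9166 F203946) (tt N12649 (iv F181353)) (tt N8625 F126379) (tt N9307 F126380) (tt N12651 (iv F181363)) (tt N8623 (iv D29781)) (tt N12652 D43413))
theorem Q10512 : ∀ i, i < 10512 → P i := stepQ 10511 Q10511 (allL N10511 (tt N9192 F203919) (tt N10511 F126381) (tt N12440 (iv F179170)) (tt N9167 F203920) (tt N10511 F126382) (tt N12651 (iv F181362)) (tt N10511 F126383) (tt N8625 F126384) (tt N8624 (iv D29782)) (tt N12653 D43415))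
theorem Q10513 : ∀ i, i < 10513 → P i := stepQ 10512 Q10512 (allL N10512 (tt N9195 F203947) (tt N10512 F126388) (tt N12442 (iv F179176)) (tt N9168 F203948) (tt N10512 F126389) (tt N12652 (iv F181369)) (tt N8626 F126390) (tt N12653 (iv F181379)) (tt N8664 F126391) (tt N8625 (iv D29784)))
theorem Q10514 : ∀ i, i < 10514 → P i := stepQ 10513 Q10513 (allL N10513 (tt N9311 F204342) (tt N10513 F126403) (tt N8628 F126404) (tt N12650 (iv F181357)) (tt N10513 F126405) (tt N10513 F126406) (tt N8627 (iv D29788)) (tt N9310 F126407) (tt N9304 F204343) (tt N8667 F126408))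
theorem Q10515 : ∀ i, i < 10515 → P i := stepQ 10514 Q10514 (allL N10514 (tt N9310 F204331) (tt N8634 F126507) (tt N9304 F204332) (tt N12654 D43461) (tt N10514 F126508) (tt N10514 F126509) (tt N8629 F126510) (tt N9311 F126511) (tt N8628 (iv D29814)) (tt N9342 F204333))
theorem Q10516 : ∀ i, i < 10516 → P i := stepQ 10515 Q10515 (allL N10515 (tt N9306 F203931) (tt N8635 F126512) (tt N12655 D43463) (tt N8629 (iv D29815)) (tt N12656 D43464) (tt N8631 F126513) (tt N12654 (iv F181552)) (tt N8630 F126514) (tt N12472 (iv F179273)) (tt N9338 F203932))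
theorem Q10517 : ∀ i, i < 10517 → P i := stepQ 10516 Q10516 (allL N10516 (tt N9170 F203182) (tt N12657 D43466) (tt N8630 (iv D29817)) (tt N9158 F203183) (tt N12658 D43467) (tt N8632 F126520) (tt N9313 F126521) (tt N12655 (iv F181561)) (tt N12474 (iv F179280)) (tt N9216 (iv F203535)))
theorem Q10518 : ∀ i, i < 10518 → P i := stepQ 10517 Q10517 (allL N10517 (tt N9305 F203949) (tt N8638 F126522) (tt N12658 (iv F181572)) (tt N10517 F126523) (tt N8630 (iv D29818)) (tt N9669 F203950) (tt N9314 F126524) (tt N12656 (iv F181564)) (tt N12475 (iv F179283)) (tt N9337 (iv F204104)))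
theorem Q10519 : ∀ i, i < 10519 → P i := stepQ 10518 Q10518 (allL N10518 (tt N9171 F203184) (tt N9653 F203185) (tt N8631 (iv D29820)) (tt N9159 F203186) (tt N9642 F203187) (tt N12655 (iv F181560)) (tt N10518 F126529) (tt N8632 F126530) (tt N12477 (iv F179290)) (tt N9217 (iv F203536)))
theorem Q10520 : ∀ i, i < 10520 → P i := stepQ 10519 Q10519 (allL N10519 (tt N9618 F202542) (tt N8632 (iv D29822)) (tt N8642 F126535) (tt N9156 F202541) (tt N9609 F202543) (tt N12657 (iv F181570)) (tt N8633 F126536) (tt N9653 (iv F203028)) (tt N12479 (iv F179297)) (tt N9212 (iv F202735)))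
theorem Q10521 : ∀ i, i < 10521 → P i := stepQ 10520 Q10520 (allL N10520 (tt N10520 F126552) (tt N12654 (iv F181550)) (tt N9326 F204347) (tt N8634 (iv D29828)) (tt N9325 F204348) (tt N10520 F126553) (tt N8635 F126554) (tt N9318 F126555) (tt N12482 (iv F179320)) (tt N9324 F204349))
theorem Q10522 : ∀ i, i < 10522 → P i := stepQ 10521 Q10521 (allL N10521 (tt N10521 F126556) (tt N9342 F204325) (tt N10521 F126557) (tt N9324 F204346) (tt N10521 F126558) (tt N10521 F126559) (tt N8636 F126560) (tt N9319 F126561) (tt N8688 F126562) (tt N8634 (iv D29829)))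
theorem Q10523 : ∀ i, i < 10523 → P i := stepQ 10522 Q10522 (allL N10522 (tt N10522 F126563) (tt N9337 F204052) (tt N8635 (iv D29830)) (tt N10522 F126564) (tt N8639 (iv F204167)) (tt N8640 F126565) (tt N9326 (iv F204172)) (tt N8637 F126566) (tt N12484 (iv F179329)) (tt N8638 (iv F204136)))
theorem Q10524 : ∀ i, i < 10524 → P i := stepQ 10523 Q10523 (allL N10523 (tt N10523 F126567) (tt N12656 (iv F181562)) (tt N8639 (iv F204166)) (tt N10523 F126568) (tt N8635 (iv D29831)) (tt N8643 F204048) (tt N9325 (iv F204278)) (tt N8638 F126569) (tt N12485 (iv F179332)) (tt N8637 (iv F204174)))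
theorem Q10525 : ∀ i, i < 10525 → P i := stepQ 10524 Q10524 (allL N10524 (tt N10524 F126570) (tt N9338 F203925) (tt N8638 (iv F204135)) (tt N8636 F126571) (tt N8637 (iv F204173)) (tt N8641 F126572) (tt N9324 (iv F204272)) (tt N8639 F126573) (tt N12488 (iv F204276)) (tt N8635 (iv D29832)))
theorem Q10526 : ∀ i, i < 10526 → P i := stepQ 10525 Q10525 (allL N10525 (tt N9350 (iv F203477)) (tt N8637 (iv D29833)) (tt N12657 (iv F181569)) (tt N10525 F126574) (tt N9338 (iv F203873)) (tt N8642 F126575) (tt N9323 F126576) (tt N9337 (iv F203874)) (tt N12487 (iv F179339)) (tt N12656 (iv F203968)))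
theorem Q10527 : ∀ i, i < 10527 → P i := stepQ 10526 Q10526 (allL N10526 (tt N10526 F126589) (tt N9339 F204310) (tt N12485 (iv F204168)) (tt N8696 F126590) (tt N12484 (iv F204175)) (tt N8644 F126591) (tt N9327 F126592) (tt N12488 (iv F204275)) (tt N8639 (iv D29837)) (tt N12491 (iv F179355)))
theorem Q10528 : ∀ i, i < 10528 → P i := stepQ 10527 Q10527 (allL N10527 (tt N10527 F126601) (tt N9340 F203926) (tt N12408 (iv F204137)) (tt N8699 F126602) (tt N9687 F203927) (tt N12488 (iv F204274)) (tt N10527 F126603) (tt N8644 F126604) (tt N8641 (iv D29840)) (tt N12493 (iv F179367)))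
theorem Q10529 : ∀ i, i < 10529 → P i := stepQ 10528 Q10528 (allL N10528 (tt N9673 (iv F203470)) (tt N8643 F126608) (tt N9212 F203191) (tt N10528 F126609) (tt N9652 F193625) (tt N12656 (iv F203966)) (tt N8646 F126610) (tt N9669 (iv F203622)) (tt N12659 D43499) (tt N8642 (iv D29842)))
theorem Q10530 : ∀ i, i < 10530 → P i := stepQ 10529 Q10529 (allL N10529 (tt N10529 F126611) (tt N12659 (iv F181687)) (tt N8644 F126612) (tt N12660 D43500) (tt N9684 F203963) (tt N12485 (iv F204169)) (tt N8647 F126613) (tt N12408 (iv F204138)) (tt N8643 (iv D29843)) (tt N12495 (iv F179376)))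
theorem Q10531 : ∀ i, i < 10531 → P i := stepQ 10530 Q10530 (allL N10530 (tt N8646 F126614) (tt N10530 F126615) (tt N8898 F203045) (tt N10530 F126616) (tt N9603 F203046) (tt N9334 F126617) (tt N9673 (iv F203471)) (tt N10530 F126618) (tt N12393 (iv F203747)) (tt N8645 (iv D29844)))
theorem Q10532 : ∀ i, i < 10532 → P i := stepQ 10531 Q10531 (allL N10531 (tt N12393 (iv F203745)) (tt N8647 F126619) (tt N9213 F203394) (tt N12388 (iv F206389)) (tt N9650 F193626) (tt N9335 F126620) (tt N12659 (iv F181688)) (tt N10531 F126621) (tt N8646 (iv D29845)) (tt N12497 (iv F179384)))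
theorem Q10533 : ∀ i, i < 10533 → P i := stepQ 10532 Q10532 (allL N10532 (tt N10532 F126622) (tt N12388 (iv F206388)) (tt N8705 F126623) (tt N8647 (iv D29846)) (tt N12383 (iv F204283)) (tt N9336 F126624) (tt N12660 (iv F181691)) (tt N10532 F126625) (tt N10532 F126626) (tt N12498 (iv F179389)))
theorem Q10534 : ∀ i, i < 10534 → P i := stepQ 10533 Q10533 (allL N10533 (tt N8659 F126754) (tt N9326 F204311) (tt N12512 (iv F179511)) (tt N10533 F126755) (tt N8648 (iv D29872)) (tt N10533 F126756) (tt N9337 F126757) (tt N12661 D43545) (tt N12662 D43546) (tt N9314 F204312))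
theorem Q10535 : ∀ i, i < 10535 → P i := stepQ 10534 Q10534 (allL N10534 (tt N8660 F126758) (tt N9322 F204313) (tt N12513 (iv F179515)) (tt N8652 F126759) (tt N12661 (iv F181908)) (tt N8649 F126760) (tt N12663 D43547) (tt N8648 (iv D29873)) (tt N12664 D43548) (tt N9312 F204314))
theorem Q10536 : ∀ i, i < 10536 → P i := stepQ 10535 Q10535 (allL N10535 (tt N8661 F126761) (tt N9327 F204315) (tt N12514 (iv F179519)) (tt N9378 (iv F204409)) (tt N12662 (iv F181911)) (tt N8650 F126762) (tt N9339 F126763) (tt N12664 (iv F181920)) (tt N8648 (iv D29874)) (tt N12665 D43550))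
theorem Q10537 : ∀ i, i < 10537 → P i := stepQ 10536 Q10536 (allL N10536 (tt N8662 F126764) (tt N9330 F204368) (tt N12515 (iv F179523)) (tt N9381 (iv F204419)) (tt N10536 F126765) (tt N12664 (iv F181919)) (tt N10536 F126766) (tt N8650 F126767) (tt N8649 (iv D29875)) (tt N12666 D43552))
theorem Q10538 : ∀ i, i < 10538 → P i := stepQ 10537 Q10537 (allL N10537 (tt N8664 F126771) (tt N9208 F204044) (tt N12517 (iv F179531)) (tt N9281 (iv F204192)) (tt N10537 F126772) (tt N12665 (iv F181926)) (tt N8651 F126773) (tt N12666 (iv F181935)) (tt N9195 F204045) (tt N8650 (iv D29877)))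
theorem Q10539 : ∀ i, i < 10539 → P i := stepQ 10538 Q10538 (allL N10538 (tt N8667 F126787) (tt N9319 F204326) (tt N8653 F126788) (tt N12663 (iv F181915)) (tt N10538 F126789) (tt N10538 F126790) (tt N8652 (iv D29881)) (tt N9342 F126791) (tt N9370 (iv F204422)) (tt N9311 F204327))
theorem Q10540 : ∀ i, i < 10540 → P i := stepQ 10539 Q10539 (allL N10539 (tt N8673 F126874) (tt N10539 F126875) (tt N9370 (iv F204421)) (tt N12667 D43588) (tt N10539 F126876) (tt N10539 F126877) (tt N8654 F126878) (tt N9343 F126879) (tt N8653 (iv D29901)) (tt N9362 F204338))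
theorem Q10541 : ∀ i, i < 10541 → P i := stepQ 10540 Q10540 (allL N10540 (tt N8674 F126880) (tt N10540 F126881) (tt N12668 D43590) (tt N8654 (iv D29902)) (tt N12669 D43591) (tt N8656 F126882) (tt N12667 (iv F182082)) (tt N8655 F126883) (tt N12541 (iv F179664)) (tt N9363 F204381))
theorem Q10542 : ∀ i, i < 10542 → P i := stepQ 10541 Q10541 (allL N10541 (tt N8676 F126889) (tt N12670 D43593) (tt N8655 (iv D29904)) (tt N9376 F204506) (tt N12671 D43594) (tt N8657 F126890) (tt N9345 F126891) (tt N12668 (iv F182092)) (tt N12543 (iv F179672)) (tt N9364 F204507))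
theorem Q10543 : ∀ i, i < 10543 → P i := stepQ 10542 Q10542 (allL N10542 (tt N8677 F126892) (tt N10542 F126893) (tt N12671 (iv F182107)) (tt N10542 F126894) (tt N8655 (iv D29905)) (tt N10542 F126895) (tt N9346 F126896) (tt N12669 (iv F182097)) (tt N12544 (iv F179677)) (tt N9365 F204510))
theorem Q10544 : ∀ i, i < 10544 → P i := stepQ 10543 Q10543 (allL N10543 (tt N8679 F126902) (tt N9587 F204768) (tt N8656 (iv D29907)) (tt N9380 (iv F204416)) (tt N10543 F126903) (tt N12668 (iv F182091)) (tt N10543 F126904) (tt N8657 F126905) (tt N12546 (iv F179687)) (tt N9366 F204382))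
theorem Q10545 : ∀ i, i < 10545 → P i := stepQ 10544 Q10544 (allL N10544 (tt N12672 D43601) (tt N8657 (iv D29909)) (tt N10544 F126912) (tt N9383 F204514) (tt N10544 F126913) (tt N12670 (iv F182104)) (tt N8658 F126914) (tt N9587 F204758) (tt N12548 (iv F179697)) (tt N9367 F204515))
theorem Q10546 : ∀ i, i < 10546 → P i := stepQ 10545 Q10545 (allL N10545 (tt N8658 (iv D29912)) (tt N8684 F126923) (tt N10545 F126924) (tt N9385 F204516) (tt N10545 F126925) (tt N9349 F126926) (tt N12672 (iv F182141)) (tt N10545 F126927) (tt N12550 (iv F179712)) (tt N9368 F204517))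
theorem Q10547 : ∀ i, i < 10547 → P i := stepQ 10546 Q10546 (allL N10546 (tt N12661 (iv F181906)) (tt N10546 F126938) (tt N12552 (iv F179724)) (tt N10546 F126939) (tt N8660 F126940) (tt N10546 F126941) (tt N12673 D43607) (tt N8659 (iv D29915)) (tt N12674 D43608) (tt N12648 (iv F181351)))
theorem Q10548 : ∀ i, i < 10548 → P i := stepQ 10547 Q10547 (allL N10547 (tt N12662 (iv F181910)) (tt N10547 F126942) (tt N12553 (iv F179727)) (tt N12675 D43609) (tt N8661 F126943) (tt N10547 F126944) (tt N9351 F126945) (tt N12674 (iv F182171)) (tt N8659 (iv D29916)) (tt N12676 D43610))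
theorem Q10549 : ∀ i, i < 10549 → P i := stepQ 10548 Q10548 (allL N10548 (tt N12663 (iv F181914)) (tt N10548 F126946) (tt N12554 (iv F179731)) (tt N8667 F126947) (tt N12673 (iv F182166)) (tt N10548 F126948) (tt N8660 (iv D29917)) (tt N9352 F126949) (tt N12677 D43611) (tt N12650 (iv F181360)))
theorem Q10550 : ∀ i, i < 10550 → P i := stepQ 10549 Q10549 (allL N10549 (tt N12664 (iv F181918)) (tt N10549 F126950) (tt N12555 (iv F179735)) (tt N12678 D43612) (tt N12674 (iv F182169)) (tt N8662 F126951) (tt N12677 (iv F182182)) (tt N8661 F126952) (tt N8660 (iv D29918)) (tt N12679 D43613))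
theorem Q10551 : ∀ i, i < 10551 → P i := stepQ 10550 Q10550 (allL N10550 (tt N9378 (iv F204408)) (tt N10550 F126953) (tt N12680 D43614) (tt N8661 (iv D29919)) (tt N12681 D43615) (tt N8663 F126954) (tt N9354 F126955) (tt N12678 (iv F182186)) (tt N8669 F126956) (tt N12682 D43616))
theorem Q10552 : ∀ i, i < 10552 → P i := stepQ 10551 Q10551 (allL N10551 (tt N12665 (iv F181925)) (tt N10551 F126957) (tt N12557 (iv F179741)) (tt N12682 (iv F182198)) (tt N12676 (iv F182177)) (tt N8664 F126958) (tt N9355 F126959) (tt N12679 (iv F182190)) (tt N12652 (iv F181371)) (tt N8661 (iv D29920)))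
theorem Q10553 : ∀ i, i < 10553 → P i := stepQ 10552 Q10552 (allL N10552 (tt N9381 (iv F204418)) (tt N10552 F126960) (tt N12683 D43617) (tt N8662 (iv D29921)) (tt N9571 (iv F204840)) (tt N12678 (iv F182185)) (tt N10552 F126961) (tt N8663 F126962) (tt N8670 F126963) (tt N12684 D43619))
theorem Q10554 : ∀ i, i < 10554 → P i := stepQ 10553 Q10553 (allL N10553 (tt N12666 (iv F181932)) (tt N10553 F126964) (tt N12559 (iv F179747)) (tt N12684 (iv F182210)) (tt N10553 F126965) (tt N12679 (iv F182189)) (tt N10553 F126966) (tt N8664 F126967) (tt N12653 (iv F181380)) (tt N8662 (iv D29922)))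
theorem Q10555 : ∀ i, i < 10555 → P i := stepQ 10554 Q10554 (allL N10554 (tt N9384 (iv F204468)) (tt N12685 D43620) (tt N8663 (iv D29923)) (tt N12560 (iv F179751)) (tt N9583 (iv F204474)) (tt N12680 (iv F182191)) (tt N8665 F126968) (tt N12683 (iv F182202)) (tt N8671 F126969) (tt N12686 D43622))
theorem Q10556 : ∀ i, i < 10556 → P i := stepQ 10555 Q10555 (allL N10555 (tt N9281 F204300) (tt N10555 F126974) (tt N12686 (iv F182219)) (tt N8664 F126975) (tt N9520 (iv F204397)) (tt N12682 (iv F182199)) (tt N8666 F126976) (tt N12684 (iv F182212)) (tt N9236 F204301) (tt N8663 (iv D29925)))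
theorem Q10557 : ∀ i, i < 10557 → P i := stepQ 10556 Q10556 (allL N10556 (tt N12687 D43626) (tt N8665 (iv D29926)) (tt N10556 F126977) (tt N12563 (iv F179759)) (tt N9585 (iv F204477)) (tt N9360 F126978) (tt N12685 (iv F182214)) (tt N10556 F126979) (tt N8672 F126980) (tt N12688 D43628))
theorem Q10558 : ∀ i, i < 10558 → P i := stepQ 10557 Q10557 (allL N10557 (tt N9284 F204361) (tt N12688 (iv F182241)) (tt N8666 F126985) (tt N12565 (iv F179767)) (tt N9523 (iv F204467)) (tt N9361 F126986) (tt N12686 (iv F182220)) (tt N10557 F126987) (tt N9238 F204362) (tt N8665 (iv D29928)))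
theorem Q10559 : ∀ i, i < 10559 → P i := stepQ 10558 Q10558 (allL N10558 (tt N9370 (iv F204420)) (tt N10558 F126997) (tt N8673 F126998) (tt N12689 D43633) (tt N10558 F126999) (tt N10558 F127000) (tt N8668 F127001) (tt N9362 F127002) (tt N8667 (iv D29931)) (tt N9343 F204339))
theorem Q10560 : ∀ i, i < 10560 → P i := stepQ 10559 Q10559 (allL N10559 (tt N9373 (iv F204417)) (tt N10559 F127003) (tt N12690 D43635) (tt N8668 (iv D29932)) (tt N9388 F204635) (tt N8670 F127004) (tt N12689 (iv F182264)) (tt N8669 F127005) (tt N12678 (iv F182187)) (tt N9344 F204337))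
theorem Q10561 : ∀ i, i < 10561 → P i := stepQ 10560 Q10560 (allL N10560 (tt N9376 F204508) (tt N12691 D43638) (tt N8669 (iv D29934)) (tt N8676 F127011) (tt N12692 D43639) (tt N8671 F127012) (tt N9364 F127013) (tt N12690 (iv F182274)) (tt N12680 (iv F182193)) (tt N9345 F204509))
theorem Q10562 : ∀ i, i < 10562 → P i := stepQ 10561 Q10561 (allL N10561 (tt N9377 F204511) (tt N10561 F127014) (tt N12692 (iv F182286)) (tt N10561 F127015) (tt N8669 (iv D29935)) (tt N9389 (iv F204590)) (tt N9365 F127016) (tt N9388 (iv F204591)) (tt N12681 (iv F182196)) (tt N9346 F204512))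
theorem Q10563 : ∀ i, i < 10563 → P i := stepQ 10562 Q10562 (allL N10562 (tt N9380 (iv F204415)) (tt N12693 D43644) (tt N8670 (iv D29937)) (tt N8679 F127021) (tt N9580 (iv F204439)) (tt N12690 (iv F182273)) (tt N10562 F127022) (tt N8671 F127023) (tt N12683 (iv F182203)) (tt N9347 F204344))
theorem Q10564 : ∀ i, i < 10564 → P i := stepQ 10563 Q10563 (allL N10563 (tt N12694 D43650) (tt N8671 (iv D29940)) (tt N10563 F127032) (tt N8681 F127033) (tt N9582 (iv F204523)) (tt N12691 (iv F182284)) (tt N8672 F127034) (tt N12693 (iv F182306)) (tt N12685 (iv F182215)) (tt N9348 F204503))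
theorem Q10565 : ∀ i, i < 10565 → P i := stepQ 10564 Q10564 (allL N10564 (tt N8672 (iv D29946)) (tt N9385 F204520) (tt N10564 F127050) (tt N8684 F127051) (tt N9584 (iv F204541)) (tt N9368 F127052) (tt N12694 (iv F182328)) (tt N10564 F127053) (tt N12687 (iv F182235)) (tt N9349 F204521))
theorem Q10566 : ∀ i, i < 10566 → P i := stepQ 10565 Q10565 (allL N10565 (tt N12667 (iv F182079)) (tt N8687 F127106) (tt N12695 D43671) (tt N8673 (iv D29958)) (tt N12696 D43672) (tt N10565 F127107) (tt N8674 F127108) (tt N9369 F127109) (tt N12605 (iv F179900)) (tt N12697 D43673))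
theorem Q10567 : ∀ i, i < 10567 → P i := stepQ 10566 Q10566 (allL N10566 (tt N9362 F204328) (tt N8688 F127110) (tt N9343 F204329) (tt N12697 (iv F182422)) (tt N10566 F127111) (tt N10566 F127112) (tt N8675 F127113) (tt N9370 F127114) (tt N9342 F204330) (tt N8673 (iv D29959)))
theorem Q10568 : ∀ i, i < 10568 → P i := stepQ 10567 Q10567 (allL N10567 (tt N12668 (iv F182090)) (tt N12698 D43674) (tt N8674 (iv D29960)) (tt N12690 (iv F182272)) (tt N12699 D43675) (tt N8679 F127115) (tt N12695 (iv F182415)) (tt N8676 F127116) (tt N12607 (iv F179907)) (tt N12700 D43676))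
theorem Q10569 : ∀ i, i < 10569 → P i := stepQ 10568 Q10568 (allL N10568 (tt N12669 (iv F182093)) (tt N8690 F127117) (tt N12699 (iv F182429)) (tt N10568 F127118) (tt N8674 (iv D29961)) (tt N10568 F127119) (tt N12696 (iv F182419)) (tt N8677 F127120) (tt N12608 (iv F179911)) (tt N12701 D43677))
theorem Q10570 : ∀ i, i < 10570 → P i := stepQ 10569 Q10569 (allL N10569 (tt N9363 F204334) (tt N8691 F127121) (tt N12700 (iv F182432)) (tt N8675 F127122) (tt N12701 (iv F182437)) (tt N8680 F127123) (tt N12697 (iv F182424)) (tt N8678 F127124) (tt N12702 D43678) (tt N8674 (iv D29962)))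
theorem Q10571 : ∀ i, i < 10571 → P i := stepQ 10570 Q10570 (allL N10570 (tt N12703 D43679) (tt N8676 (iv D29963)) (tt N8692 F127125) (tt N12691 (iv F182283)) (tt N12704 D43680) (tt N8681 F127126) (tt N9374 F127127) (tt N12698 (iv F182428)) (tt N12610 (iv F179919)) (tt N12705 D43681))
theorem Q10572 : ∀ i, i < 10572 → P i := stepQ 10571 Q10571 (allL N10571 (tt N12671 (iv F182106)) (tt N12704 (iv F182446)) (tt N8677 F127128) (tt N12706 D43682) (tt N8676 (iv D29964)) (tt N10571 F127129) (tt N9375 F127130) (tt N12699 (iv F182431)) (tt N12611 (iv F179923)) (tt N12707 D43683))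
theorem Q10573 : ∀ i, i < 10573 → P i := stepQ 10572 Q10572 (allL N10572 (tt N9364 F204504) (tt N12705 (iv F182450)) (tt N8678 F127131) (tt N9345 F204505) (tt N12707 (iv F182458)) (tt N8682 F127132) (tt N9376 F127133) (tt N12700 (iv F182434)) (tt N12708 D43684) (tt N8676 (iv D29965)))
theorem Q10574 : ∀ i, i < 10574 → P i := stepQ 10573 Q10573 (allL N10573 (tt N9365 F204513) (tt N8695 F127134) (tt N12707 (iv F182457)) (tt N10573 F127135) (tt N8678 F127136) (tt N10573 F127137) (tt N9377 F127138) (tt N12701 (iv F182439)) (tt N12709 D43685) (tt N8677 (iv D29966)))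
theorem Q10575 : ∀ i, i < 10575 → P i := stepQ 10574 Q10574 (allL N10574 (tt N9354 F204316) (tt N8696 F127139) (tt N12708 (iv F182461)) (tt N9339 F204317) (tt N12709 (iv F182465)) (tt N8683 F127140) (tt N9378 F127141) (tt N12702 (iv F182442)) (tt N8678 (iv D29967)) (tt N12614 (iv F179934)))
theorem Q10576 : ∀ i, i < 10576 → P i := stepQ 10575 Q10575 (allL N10575 (tt N12710 D43686) (tt N8679 (iv D29968)) (tt N8697 F127142) (tt N12693 (iv F182304)) (tt N10575 F127143) (tt N12698 (iv F182427)) (tt N10575 F127144) (tt N8681 F127145) (tt N12615 (iv F179939)) (tt N12711 D43687))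
theorem Q10577 : ∀ i, i < 10577 → P i := stepQ 10576 Q10576 (allL N10576 (tt N9366 F204335) (tt N12711 (iv F182472)) (tt N8680 F127146) (tt N9347 F204336) (tt N10576 F127147) (tt N12700 (iv F182433)) (tt N10576 F127148) (tt N8682 F127149) (tt N12712 D43688) (tt N8679 (iv D29969)))
theorem Q10578 : ∀ i, i < 10578 → P i := stepQ 10577 Q10577 (allL N10577 (tt N9356 (iv F204144)) (tt N8699 F127150) (tt N12712 (iv F182477)) (tt N9340 F203933) (tt N10577 F127151) (tt N12702 (iv F182441)) (tt N10577 F127152) (tt N8683 F127153) (tt N8680 (iv D29970)) (tt N12617 (iv F179948)))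
theorem Q10579 : ∀ i, i < 10579 → P i := stepQ 10578 Q10578 (allL N10578 (tt N8681 (iv D29971)) (tt N12672 (iv F182138)) (tt N8700 F127154) (tt N12694 (iv F182327)) (tt N10578 F127155) (tt N12703 (iv F182444)) (tt N8684 F127156) (tt N12710 (iv F182471)) (tt N12618 (iv F179952)) (tt N12713 D43689))
theorem Q10580 : ∀ i, i < 10580 → P i := stepQ 10579 Q10579 (allL N10579 (tt N12713 (iv F182481)) (tt N8682 F127157) (tt N8701 F127158) (tt N9348 F204502) (tt N10579 F127159) (tt N12705 (iv F182452)) (tt N8685 F127160) (tt N12711 (iv F182476)) (tt N12714 D43690) (tt N8681 (iv D29972)))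
theorem Q10581 : ∀ i, i < 10581 → P i := stepQ 10580 Q10580 (allL N10580 (tt N9358 F204318) (tt N12714 (iv F182485)) (tt N8683 F127161) (tt N12715 D43691) (tt N10580 F127162) (tt N12708 (iv F182462)) (tt N8686 F127163) (tt N12712 (iv F182480)) (tt N8682 (iv D29973)) (tt N12620 (iv F179960)))
theorem Q10582 : ∀ i, i < 10582 → P i := stepQ 10581 Q10581 (allL N10581 (tt N8685 F127164) (tt N9368 F204518) (tt N8703 F127165) (tt N9349 F204519) (tt N10581 F127166) (tt N9385 F127167) (tt N12713 (iv F182484)) (tt N10581 F127168) (tt N12716 D43692) (tt N8684 (iv D29974)))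
theorem Q10583 : ∀ i, i < 10583 → P i := stepQ 10582 Q10582 (allL N10582 (tt N12716 (iv F182490)) (tt N8686 F127169) (tt N8704 F127170) (tt N12717 D43693) (tt N10582 F127171) (tt N9386 F127172) (tt N12714 (iv F182488)) (tt N10582 F127173) (tt N8685 (iv D29975)) (tt N12622 (iv F179971)))
theorem Q10584 : ∀ i, i < 10584 → P i := stepQ 10583 Q10583 (allL N10583 (tt N9245 (iv F204207)) (tt N12717 (iv F182495)) (tt N9219 F203991) (tt N8686 (iv D29976)) (tt N12718 D43694) (tt N9387 F127174) (tt N12715 (iv F182489)) (tt N10583 F127175) (tt N9226 (iv F204184)) (tt N12623 (iv F179974)))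
theorem Q10585 : ∀ i, i < 10585 → P i := stepQ 10584 Q10584 (allL N10584 (tt N10584 F127176) (tt N12701 F204564) (tt N8687 (iv D29977)) (tt N10584 F127177) (tt N8691 (iv F204576)) (tt N10584 F127178) (tt N8689 F127179) (tt N8695 F204565) (tt N12624 (iv F179979)) (tt N8690 (iv F204581)))
theorem Q10586 : ∀ i, i < 10586 → P i := stepQ 10585 Q10585 (allL N10585 (tt N10585 F127181) (tt N12696 (iv F182417)) (tt N8691 F204609) (tt N10585 F127182) (tt N8687 (iv D29978)) (tt N8698 (iv F204660)) (tt N8690 F127183) (tt N8694 F204610) (tt N12625 (iv F179983)) (tt N8689 F204611))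
theorem Q10587 : ∀ i, i < 10587 → P i := stepQ 10586 Q10586 (allL N10586 (tt N10586 F127185) (tt N12697 (iv F182421)) (tt N8690 F204616) (tt N8688 F127186) (tt N8689 F204617) (tt N10586 F127187) (tt N8691 F127188) (tt N8693 F204618) (tt N12628 (iv F204675)) (tt N8687 (iv D29979)))
theorem Q10588 : ∀ i, i < 10588 → P i := stepQ 10587 Q10587 (allL N10587 (tt N12719 D43701) (tt N8689 (iv D29980)) (tt N12698 (iv F182426)) (tt N10587 F127190) (tt N12697 (iv F204658)) (tt N8697 F127191) (tt N12701 (iv F204560)) (tt N8692 F127192) (tt N12627 (iv F179991)) (tt N12696 (iv F204650)))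
theorem Q10589 : ∀ i, i < 10589 → P i := stepQ 10588 Q10588 (allL N10588 (tt N10588 F127207) (tt N12702 (iv F182440)) (tt N12625 (iv F204665)) (tt N12488 (iv F204273)) (tt N12624 (iv F204579)) (tt N8699 F127208) (tt N12628 (iv F204674)) (tt N8696 F127209) (tt N8691 (iv D29984)) (tt N12631 (iv F180008)))
theorem Q10590 : ∀ i, i < 10590 → P i := stepQ 10589 Q10589 (allL N10589 (tt N8692 (iv D29985)) (tt N10589 F127210) (tt N12703 (iv F182443)) (tt N10589 F127211) (tt N12689 (iv F204654)) (tt N8700 F127212) (tt N9388 F127213) (tt N12719 (iv F182531)) (tt N12632 (iv F180012)) (tt N12720 D43709))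
theorem Q10591 : ∀ i, i < 10591 → P i := stepQ 10590 Q10590 (allL N10590 (tt N12689 (iv F204653)) (tt N8693 F127214) (tt N12704 (iv F182447)) (tt N9370 (iv F204657)) (tt N8692 (iv D29986)) (tt N10590 F127215) (tt N9373 F204603) (tt N12697 (iv F204659)) (tt N12633 (iv F180016)) (tt N9369 F204604))
theorem Q10592 : ∀ i, i < 10592 → P i := stepQ 10591 Q10591 (allL N10591 (tt N12720 (iv F182561)) (tt N8694 F127217) (tt N12705 (iv F182451)) (tt N10591 F127218) (tt N9369 F204601) (tt N8701 F127219) (tt N9372 F204602) (tt N12696 (iv F204649)) (tt N12721 D43712) (tt N8692 (iv D29987)))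
theorem Q10593 : ∀ i, i < 10593 → P i := stepQ 10592 Q10592 (allL N10592 (tt N10592 F127231) (tt N12721 (iv F182574)) (tt N8696 F127232) (tt N12722 D43716) (tt N9285 F204612) (tt N8702 F127233) (tt N9288 (iv F204664)) (tt N12625 (iv F204667)) (tt N8694 (iv D29990)) (tt N12637 (iv F180032)))
theorem Q10594 : ∀ i, i < 10594 → P i := stepQ 10593 Q10593 (allL N10593 (tt N10593 F127235) (tt N12709 (iv F182464)) (tt N9285 (iv F204573)) (tt N12723 D43717) (tt N8696 F127236) (tt N10593 F127237) (tt N9287 (iv F204577)) (tt N12624 (iv F204580)) (tt N8695 (iv D29991)) (tt N12638 (iv F180037)))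
theorem Q10595 : ∀ i, i < 10595 → P i := stepQ 10594 Q10594 (allL N10594 (tt N8697 (iv D29992)) (tt N10594 F127239) (tt N12710 (iv F182468)) (tt N10594 F127240) (tt N10594 F127241) (tt N12719 (iv F182530)) (tt N10594 F127242) (tt N8700 F127243) (tt N12639 (iv F180042)) (tt N12724 D43718))
theorem Q10596 : ∀ i, i < 10596 → P i := stepQ 10595 Q10595 (allL N10595 (tt N12724 (iv F182601)) (tt N8698 F127244) (tt N12711 (iv F182473)) (tt N10595 F127245) (tt N10595 F127246) (tt N12696 (iv F204648)) (tt N10595 F127247) (tt N8701 F127248) (tt N12725 D43719) (tt N8697 (iv D29993)))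
theorem Q10597 : ∀ i, i < 10597 → P i := stepQ 10596 Q10596 (allL N10596 (tt N10596 F127249) (tt N12725 (iv F182607)) (tt N8699 F127250) (tt N12726 D43720) (tt N10596 F127251) (tt N12625 (iv F204666)) (tt N10596 F127252) (tt N8702 F127253) (tt N8698 (iv D29994)) (tt N12641 (iv F180052)))
theorem Q10598 : ∀ i, i < 10598 → P i := stepQ 10597 Q10597 (allL N10597 (tt N8701 F127254) (tt N10597 F127255) (tt N12713 (iv F182482)) (tt N10597 F127256) (tt N10597 F127257) (tt N12720 (iv F182564)) (tt N8703 F127258) (tt N12724 (iv F182606)) (tt N12727 D43721) (tt N8700 (iv D29995)))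
theorem Q10599 : ∀ i, i < 10599 → P i := stepQ 10598 Q10598 (allL N10598 (tt N12727 (iv F182615)) (tt N8702 F127259) (tt N12714 (iv F182486)) (tt N12728 D43722) (tt N10598 F127260) (tt N12721 (iv F182575)) (tt N8704 F127261) (tt N12725 (iv F182610)) (tt N8701 (iv D29996)) (tt N12643 (iv F180060)))
theorem Q10600 : ∀ i, i < 10600 → P i := stepQ 10599 Q10599 (allL N10599 (tt N10599 F127262) (tt N12728 (iv F182619)) (tt N12660 (iv F181690)) (tt N8702 (iv D29997)) (tt N12729 D43723) (tt N12722 (iv F182594)) (tt N8705 F127263) (tt N12726 (iv F182613)) (tt N10599 F127264) (tt N12644 (iv F180063)))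
theorem Q10601 : ∀ i, i < 10601 → P i := stepQ 10600 Q10600 (allL N10600 (tt N8704 F127265) (tt N10600 F127266) (tt N12716 (iv F182491)) (tt N11698 (iv F204258)) (tt N10600 F127267) (tt N9393 F127268) (tt N12727 (iv F182618)) (tt N10600 F127269) (tt N8703 (iv D29998)) (tt N12645 (iv F180069)))
theorem Q10602 : ∀ i, i < 10602 → P i := stepQ 10601 Q10601 (allL N10601 (tt N11698 (iv F204257)) (tt N8705 F127270) (tt N11955 (iv F203052)) (tt N8704 (iv D29999)) (tt N11692 (iv F203050)) (tt N9394 F127271) (tt N12728 (iv F182620)) (tt N10601 F127272) (tt N10601 F127273) (tt N12646 (iv F180073)))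
theorem Q10603 : ∀ i, i < 10603 → P i := stepQ 10602 Q10602 (allL N10602 (tt N10602 F127274) (tt N11692 (iv F203049)) (tt N12383 (iv F204282)) (tt N10602 F127275) (tt N8705 (iv D30000)) (tt N11689 (iv F203048)) (tt N12729 (iv F182624)) (tt N10602 F127276) (tt N10602 F127277) (tt N12647 (iv F180077)))
theorem Q10604 : ∀ i, i < 10604 → P i := stepQ 10603 Q10603 (allL N10603 (tt N8715 F196147) (tt N10603 F127756) (tt N8711 F127757) (tt N8766 (iv F196378)) (tt N8709 (iv D30100)) (tt N11719 (iv F174475)) (tt N8713 F196148) (tt N8722 F127758) (tt N11722 (iv F205861)) (tt N8714 F127759))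
theorem Q10605 : ∀ i, i < 10605 → P i := stepQ 10604 Q10604 (allL N10604 (tt N11719 (iv F196387)) (tt N8719 F127904) (tt N9699 (iv F202523)) (tt N8779 F127905) (tt N8718 F206072) (tt N8715 (iv D30138)) (tt N11721 (iv F205864)) (tt N8737 F206073) (tt N11720 (iv F206220)) (tt N8716 F206074))
theorem Q10606 : ∀ i, i < 10606 → P i := stepQ 10605 Q10605 (allL N10605 (tt N11722 (iv F205859)) (tt N8720 F127910) (tt N9697 (iv F202526)) (tt N11747 (iv F205949)) (tt N8717 F127911) (tt N11720 (iv F206219)) (tt N8716 F127912) (tt N9704 (iv F202537)) (tt N8715 (iv D30140)) (tt N11721 (iv F206116)))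
theorem Q10607 : ∀ i, i < 10607 → P i := stepQ 10606 Q10606 (allL N10606 (tt N9700 F205709) (tt N8721 F127913) (tt N11763 (iv F205944)) (tt N8716 (iv D30141)) (tt N10606 F127914) (tt N8752 F205710) (tt N11747 (iv F205950)) (tt N8736 F127915) (tt N8782 F127916) (tt N8779 (iv F205953)))
theorem Q10608 : ∀ i, i < 10608 → P i := stepQ 10607 Q10607 (allL N10607 (tt N8780 F196645) (tt N10607 F128188) (tt N8795 F128189) (tt N8722 (iv D30206)) (tt N8768 F196646) (tt N11723 (iv F174748)) (tt N8826 (iv F197046)) (tt N8766 F196647) (tt N12730 D44038) (tt N8731 F128191))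
theorem Q10609 : ∀ i, i < 10609 → P i := stepQ 10608 Q10608 (allL N10608 (tt N8734 F196655) (tt N10608 F128192) (tt N8725 F128193) (tt N8826 (iv F197045)) (tt N8723 F128194) (tt N12731 D44039) (tt N8722 (iv D30207)) (tt N8730 F196656) (tt N11736 (iv F205510)) (tt N8732 F128195))
theorem Q10610 : ∀ i, i < 10610 → P i := stepQ 10609 Q10609 (allL N10609 (tt N9704 (iv F202534)) (tt N10609 F128196) (tt N8726 F128197) (tt N12732 D44042) (tt N8724 F128198) (tt N9706 F206002) (tt N11736 (iv F205509)) (tt N11722 (iv F205860)) (tt N8722 (iv D30208)) (tt N9705 F206003))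
theorem Q10611 : ∀ i, i < 10611 → P i := stepQ 10610 Q10610 (allL N10610 (tt N9707 (iv F202664)) (tt N8728 F128221) (tt N12731 (iv F183998)) (tt N8801 F128222) (tt N10610 F128223) (tt N8725 (iv D30215)) (tt N11725 (iv F174787)) (tt N11738 (iv F205587)) (tt N11737 (iv F205511)) (tt N8733 F128224))
theorem Q10612 : ∀ i, i < 10612 → P i := stepQ 10611 Q10611 (allL N10611 (tt N9706 (iv F203310)) (tt N8729 F128234) (tt N9705 F206039) (tt N11748 (iv F205518)) (tt N8727 F128235) (tt N9704 F206040) (tt N11726 (iv F205512)) (tt N11720 (iv F205865)) (tt N8737 F128236) (tt N8726 (iv D30219)))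
theorem Q10613 : ∀ i, i < 10613 → P i := stepQ 10612 Q10612 (allL N10612 (tt N8733 F128328) (tt N10612 F128329) (tt N11738 (iv F205585)) (tt N8825 F128330) (tt N10612 F128331) (tt N8730 (iv D30244)) (tt N11733 (iv F174910)) (tt N12731 (iv F197074)) (tt N11735 (iv F205767)) (tt N9707 (iv F202667)))
theorem Q10614 : ∀ i, i < 10614 → P i := stepQ 10613 Q10613 (allL N10613 (tt N11738 (iv F205584)) (tt N10613 F128364) (tt N8733 F128365) (tt N9709 (iv F202492)) (tt N10613 F128366) (tt N8732 (iv D30253)) (tt N11735 (iv F174946)) (tt N9707 (iv F202666)) (tt N11733 (iv F205598)) (tt N12731 (iv F184000)))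
theorem Q10615 : ∀ i, i < 10615 → P i := stepQ 10614 Q10614 (allL N10614 (tt N12731 (iv F197072)) (tt N8740 F128409) (tt N9707 (iv F202665)) (tt N8846 F128410) (tt N10614 F128411) (tt N8734 F128412) (tt N12733 D44127) (tt N8733 (iv D30266)) (tt N12734 D44128) (tt N11738 (iv F205588)))
theorem Q10616 : ∀ i, i < 10616 → P i := stepQ 10615 Q10615 (allL N10615 (tt N11735 (iv F205766)) (tt N8741 F128413) (tt N11733 (iv F205597)) (tt N12735 D44129) (tt N10615 F128414) (tt N8735 F128415) (tt N11738 (iv F174994)) (tt N12734 (iv F184321)) (tt N8733 (iv D30267)) (tt N12733 (iv F206167)))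
theorem Q10617 : ∀ i, i < 10617 → P i := stepQ 10616 Q10616 (allL N10616 (tt N11736 (iv F205508)) (tt N8742 F128416) (tt N9702 (iv F202669)) (tt N12736 D44131) (tt N8738 F128417) (tt N12734 (iv F184320)) (tt N9704 (iv F202536)) (tt N8735 F128418) (tt N8734 (iv D30268)) (tt N11727 (iv F205772)))
theorem Q10618 : ∀ i, i < 10618 → P i := stepQ 10617 Q10617 (allL N10617 (tt N11734 (iv F205609)) (tt N8743 F128419) (tt N11828 (iv F205942)) (tt N8735 (iv D30269)) (tt N10617 F128420) (tt N12735 (iv F184323)) (tt N8736 F128421) (tt N12736 (iv F184330)) (tt N8849 F128422) (tt N12737 D44134))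
theorem Q10619 : ∀ i, i < 10619 → P i := stepQ 10618 Q10618 (allL N10618 (tt N11724 (iv F205768)) (tt N8744 F128423) (tt N9708 F205729) (tt N12737 (iv F184339)) (tt N8739 F128424) (tt N12733 (iv F206166)) (tt N8737 F128425) (tt N11727 (iv F205771)) (tt N11726 (iv F205513)) (tt N8735 (iv D30270)))
theorem Q10620 : ∀ i, i < 10620 → P i := stepQ 10619 Q10619 (allL N10619 (tt N11723 F205718) (tt N8746 F128428) (tt N9637 (iv F205946)) (tt N8737 F128429) (tt N10619 F128430) (tt N8780 F205719) (tt N12737 (iv F184341)) (tt N8779 (iv F205952)) (tt N12738 D44137) (tt N8736 (iv D30272)))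
theorem Q10621 : ∀ i, i < 10621 → P i := stepQ 10620 Q10620 (allL N10620 (tt N10620 F128435) (tt N12733 (iv F184315)) (tt N10620 F128436) (tt N8854 F128437) (tt N10620 F128438) (tt N8744 (iv F206168)) (tt N8740 (iv D30274)) (tt N11730 (iv F205791)) (tt N11729 (iv F206170)) (tt N8741 F206044))
theorem Q10622 : ∀ i, i < 10622 → P i := stepQ 10621 Q10621 (allL N10621 (tt N10621 F128439) (tt N12734 (iv F184318)) (tt N10621 F128440) (tt N11808 (iv F205891)) (tt N10621 F128441) (tt N8742 F128442) (tt N11729 (iv F206169)) (tt N8741 F128443) (tt N8740 (iv D30275)) (tt N11730 (iv F205940)))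
theorem Q10623 : ∀ i, i < 10623 → P i := stepQ 10622 Q10622 (allL N10622 (tt N10622 F128444) (tt N12735 (iv F184322)) (tt N9081 (iv F205883)) (tt N8741 (iv D30276)) (tt N8887 F205687) (tt N8743 F128445) (tt N8808 F205688) (tt N11808 (iv F205893)) (tt N8856 F128446) (tt N8854 (iv F205895)))
theorem Q10624 : ∀ i, i < 10624 → P i := stepQ 10623 Q10623 (allL N10623 (tt N10623 F128451) (tt N12736 (iv F184328)) (tt N12099 (iv F206161)) (tt N8742 (iv D30278)) (tt N10623 F128452) (tt N11808 (iv F205892)) (tt N11732 (iv F206213)) (tt N8743 F128453) (tt N8858 F128454) (tt N11731 (iv F205939)))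
theorem Q10625 : ∀ i, i < 10625 → P i := stepQ 10624 Q10624 (allL N10624 (tt N10624 F128459) (tt N12739 D44146) (tt N8743 (iv D30280)) (tt N10624 F128460) (tt N10624 F128461) (tt N9081 F206043) (tt N8745 F128462) (tt N12099 (iv F206162)) (tt N8860 F128463) (tt N9035 (iv F206165)))
theorem Q10626 : ∀ i, i < 10626 → P i := stepQ 10625 Q10625 (allL N10625 (tt N10625 F128464) (tt N12737 (iv F184338)) (tt N9035 (iv F206164)) (tt N8744 F128465) (tt N10625 F128466) (tt N8854 F206045) (tt N8746 F128467) (tt N11731 F206046) (tt N11812 (iv F206402)) (tt N8743 (iv D30281)))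
theorem Q10627 : ∀ i, i < 10627 → P i := stepQ 10626 Q10626 (allL N10626 (tt N12279 (iv F206191)) (tt N8745 (iv D30282)) (tt N11819 F206050) (tt N10626 F128468) (tt N10626 F128469) (tt N8989 F206051) (tt N12739 (iv F184385)) (tt N8988 (iv F206187)) (tt N8862 F128470) (tt N9027 (iv F206193)))
theorem Q10628 : ∀ i, i < 10628 → P i := stepQ 10627 Q10627 (allL N10627 (tt N10627 F128475) (tt N12738 (iv F184347)) (tt N9036 (iv F206202)) (tt N11754 (iv F205805)) (tt N10627 F128476) (tt N8787 F206067) (tt N11812 (iv F206401)) (tt N8786 (iv F206215)) (tt N8746 (iv D30284)) (tt N8864 F128477))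
theorem Q10629 : ∀ i, i < 10629 → P i := stepQ 10628 Q10628 (allL N10628 (tt N8772 F196651) (tt N8980 F128662) (tt N8766 F196652) (tt N8748 (iv D30322)) (tt N8762 F196653) (tt N11739 (iv F175120)) (tt N8761 F196654) (tt N8795 F128664) (tt N12740 D44210) (tt N8771 F128665))
theorem Q10630 : ∀ i, i < 10630 → P i := stepQ 10629 Q10629 (allL N10629 (tt N8771 (iv F196368)) (tt N8981 F128666) (tt N8752 F128667) (tt N8761 (iv F196417)) (tt N8749 F128668) (tt N11763 (iv F196420)) (tt N8748 (iv D30323)) (tt N8817 (iv F196405)) (tt N11785 (iv F205570)) (tt N8772 F128669))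
theorem Q10631 : ∀ i, i < 10631 → P i := stepQ 10630 Q10630 (allL N10630 (tt N9023 (iv F201773)) (tt N8982 F128670) (tt N8753 F128671) (tt N12741 D44214) (tt N8750 F128672) (tt N11741 (iv F175130)) (tt N11785 (iv F205569)) (tt N8797 F128673) (tt N8748 (iv D30324)) (tt N12742 D44215))
theorem Q10632 : ∀ i, i < 10632 → P i := stepQ 10631 Q10631 (allL N10631 (tt N9021 F201370) (tt N8984 F128680) (tt N8755 F128681) (tt N9004 F201371) (tt N11785 (iv F205568)) (tt N10631 F128682) (tt N8750 F128683) (tt N9595 (iv F196407)) (tt N8749 (iv D30326)) (tt N12743 D44218))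
theorem Q10633 : ∀ i, i < 10633 → P i := stepQ 10632 Q10632 (allL N10632 (tt N9024 (iv F201775)) (tt N8986 F128688) (tt N8756 F128689) (tt N9005 (iv F201770)) (tt N12742 (iv F184706)) (tt N8751 F128690) (tt N12743 (iv F184721)) (tt N8800 F128691) (tt N8776 F128692) (tt N8750 (iv D30328)))
theorem Q10634 : ∀ i, i < 10634 → P i := stepQ 10633 Q10633 (allL N10633 (tt N9412 (iv F202694)) (tt N8757 F128713) (tt N12742 (iv F184705)) (tt N11784 (iv F205525)) (tt N8756 F128714) (tt N11751 (iv F175180)) (tt N11786 (iv F205578)) (tt N8805 F128715) (tt N8783 F128716) (tt N8753 (iv D30335)))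
theorem Q10635 : ∀ i, i < 10635 → P i := stepQ 10634 Q10634 (allL N10634 (tt N9410 (iv F201911)) (tt N8758 F128721) (tt N12743 (iv F184719)) (tt N9397 (iv F202150)) (tt N11786 (iv F205577)) (tt N10634 F128722) (tt N8756 F128723) (tt N11687 (iv F205318)) (tt N8785 F128724) (tt N8755 (iv D30337)))
theorem Q10636 : ∀ i, i < 10636 → P i := stepQ 10635 Q10635 (allL N10635 (tt N8998 F128758) (tt N8761 F128759) (tt N10635 F128760) (tt N8981 F196669) (tt N8759 (iv D30346)) (tt N11758 (iv F175236)) (tt N8980 (iv F197063)) (tt N8813 F128761) (tt N12744 D44245) (tt N9013 (iv F197017)))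
theorem Q10637 : ∀ i, i < 10637 → P i := stepQ 10636 Q10636 (allL N10636 (tt N8985 (iv F201064)) (tt N8763 F128768) (tt N10636 F128769) (tt N8973 (iv F201067)) (tt N12744 (iv F184820)) (tt N8760 F128770) (tt N9623 (iv F197065)) (tt N8815 F128771) (tt N8759 (iv D30348)) (tt N12745 D44249))
theorem Q10638 : ∀ i, i < 10638 → P i := stepQ 10637 Q10637 (allL N10637 (tt N8987 (iv F201250)) (tt N8765 F128778) (tt N10637 F128779) (tt N8974 (iv F201252)) (tt N11762 (iv F175256)) (tt N12745 (iv F184841)) (tt N10637 F128780) (tt N8816 F128781) (tt N8778 (iv F201119)) (tt N8760 (iv D30350)))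
theorem Q10639 : ∀ i, i < 10639 → P i := stepQ 10638 Q10638 (allL N10638 (tt N8773 F128788) (tt N12744 (iv F184818)) (tt N8767 F128789) (tt N12746 D44258) (tt N8763 F128790) (tt N11765 (iv F175269)) (tt N12740 (iv F197071)) (tt N8819 F128791) (tt N8761 (iv D30353)) (tt N12747 D44259))
theorem Q10640 : ∀ i, i < 10640 → P i := stepQ 10639 Q10639 (allL N10639 (tt N8774 F128797) (tt N9623 (iv F197064)) (tt N8769 F128798) (tt N9624 F201400) (tt N12740 (iv F197070)) (tt N10639 F128799) (tt N8763 F128800) (tt N9594 (iv F197051)) (tt N8762 (iv D30355)) (tt N12748 D44262))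
theorem Q10641 : ∀ i, i < 10641 → P i := stepQ 10640 Q10640 (allL N10640 (tt N8775 F128801) (tt N8973 (iv F201066)) (tt N10640 F128802) (tt N8763 (iv D30356)) (tt N12749 D44263) (tt N8764 F128803) (tt N9624 (iv F201331)) (tt N8822 F128804) (tt N8970 F200982) (tt N12750 D44264))
theorem Q10642 : ∀ i, i < 10642 → P i := stepQ 10641 Q10641 (allL N10641 (tt N8776 F128806) (tt N12745 (iv F184839)) (tt N8770 F128807) (tt N12750 (iv F184902)) (tt N12747 (iv F184880)) (tt N8765 F128808) (tt N12748 (iv F184895)) (tt N8823 F128809) (tt N9024 (iv F201776)) (tt N8763 (iv D30357)))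
theorem Q10643 : ∀ i, i < 10643 → P i := stepQ 10642 Q10642 (allL N10642 (tt N8778 F128815) (tt N8974 (iv F201251)) (tt N10642 F128816) (tt N8765 F128817) (tt N12060 (iv F201351)) (tt N12750 (iv F184903)) (tt N10642 F128818) (tt N8824 F128819) (tt N8987 (iv F201243)) (tt N8764 (iv D30359)))
theorem Q10644 : ∀ i, i < 10644 → P i := stepQ 10643 Q10643 (allL N10643 (tt N8779 F128820) (tt N10643 F128821) (tt N11739 (iv F197067)) (tt N11719 (iv F196388)) (tt N10643 F128822) (tt N8766 (iv D30360)) (tt N11769 (iv F175300)) (tt N11723 (iv F197053)) (tt N12751 D44269) (tt N9700 F201870))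
theorem Q10645 : ∀ i, i < 10645 → P i := stepQ 10644 Q10644 (allL N10644 (tt N8781 F128827) (tt N10644 F128828) (tt N12740 (iv F197069)) (tt N12752 D44271) (tt N8769 F128829) (tt N12751 (iv F184926)) (tt N8767 F128830) (tt N12730 (iv F197057)) (tt N8766 (iv D30362)) (tt N12753 D44272))
theorem Q10646 : ∀ i, i < 10646 → P i := stepQ 10645 Q10645 (allL N10645 (tt N8782 F128831) (tt N10645 F128832) (tt N11772 (iv F205606)) (tt N8767 (iv D30363)) (tt N10645 F128833) (tt N9409 F205445) (tt N12752 (iv F184935)) (tt N8828 F128834) (tt N9700 (iv F205611)) (tt N12754 D44274))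
theorem Q10647 : ∀ i, i < 10647 → P i := stepQ 10646 Q10646 (allL N10646 (tt N8783 F128835) (tt N10646 F128836) (tt N12747 (iv F184879)) (tt N12754 (iv F184945)) (tt N8770 F128837) (tt N11770 (iv F175316)) (tt N12753 (iv F184939)) (tt N8829 F128838) (tt N9412 (iv F202695)) (tt N8767 (iv D30364)))
theorem Q10648 : ∀ i, i < 10648 → P i := stepQ 10647 Q10647 (allL N10647 (tt N8784 F128839) (tt N10647 F128840) (tt N9594 (iv F197050)) (tt N10647 F128841) (tt N12730 (iv F197055)) (tt N10647 F128842) (tt N8830 F128843) (tt N8769 F128844) (tt N8768 (iv D30365)) (tt N12755 D44275))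
theorem Q10649 : ∀ i, i < 10649 → P i := stepQ 10648 Q10648 (allL N10648 (tt N8785 F128845) (tt N10648 F128846) (tt N12748 (iv F184893)) (tt N10648 F128847) (tt N12753 (iv F184938)) (tt N10648 F128848) (tt N8770 F128849) (tt N12755 (iv F184953)) (tt N9410 F202132) (tt N8769 (iv D30366)))
theorem Q10650 : ∀ i, i < 10650 → P i := stepQ 10649 Q10649 (allL N10649 (tt N11785 (iv F205566)) (tt N9014 F128853) (tt N9409 (iv F201783)) (tt N12756 D44279) (tt N9021 F201395) (tt N11772 (iv F175332)) (tt N9023 (iv F201774)) (tt N8833 F128855) (tt N8771 (iv D30368)) (tt N12757 D44280))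
theorem Q10651 : ∀ i, i < 10651 → P i := stepQ 10650 Q10650 (allL N10650 (tt N11739 (iv F197066)) (tt N9015 F128856) (tt N8779 F128857) (tt N9626 (iv F201787)) (tt N10650 F128858) (tt N8772 (iv D30369)) (tt N11773 (iv F175337)) (tt N9637 (iv F201798)) (tt N12758 D44282) (tt N11763 (iv F196421)))
theorem Q10652 : ∀ i, i < 10652 → P i := stepQ 10651 Q10651 (allL N10651 (tt N12740 (iv F197068)) (tt N9017 F128863) (tt N8781 F128864) (tt N12759 D44284) (tt N8774 F128865) (tt N12758 (iv F184976)) (tt N8773 F128866) (tt N9635 (iv F201801)) (tt N8772 (iv D30371)) (tt N12760 D44285))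
theorem Q10653 : ∀ i, i < 10653 → P i := stepQ 10652 Q10652 (allL N10652 (tt N12746 (iv F184876)) (tt N9018 F128867) (tt N12761 D44286) (tt N8773 (iv D30372)) (tt N12762 D44287) (tt N11776 (iv F175347)) (tt N12759 (iv F184983)) (tt N8837 F128868) (tt N12756 (iv F184965)) (tt N12763 D44288))
theorem Q10654 : ∀ i, i < 10654 → P i := stepQ 10653 Q10653 (allL N10653 (tt N12747 (iv F184878)) (tt N9019 F128869) (tt N8783 F128870) (tt N12763 (iv F184994)) (tt N8776 F128871) (tt N11777 (iv F175352)) (tt N12760 (iv F184987)) (tt N8838 F128872) (tt N12742 (iv F184708)) (tt N8773 (iv D30373)))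
theorem Q10655 : ∀ i, i < 10655 → P i := stepQ 10654 Q10654 (allL N10654 (tt N12748 (iv F184892)) (tt N9022 F128883) (tt N8785 F128884) (tt N9625 F201403) (tt N12760 (iv F184986)) (tt N10654 F128885) (tt N8776 F128886) (tt N9636 (iv F201809)) (tt N12743 (iv F184722)) (tt N8774 (iv D30376)))
theorem Q10656 : ∀ i, i < 10656 → P i := stepQ 10655 Q10655 (allL N10655 (tt N12749 (iv F184896)) (tt N9023 F128887) (tt N10655 F128888) (tt N12762 (iv F184991)) (tt N8775 (iv D30377)) (tt N12764 D44293) (tt N9014 F201404) (tt N8842 F128889) (tt N9013 F201405) (tt N12765 D44294))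
theorem Q10657 : ∀ i, i < 10657 → P i := stepQ 10656 Q10656 (allL N10656 (tt N12750 (iv F184900)) (tt N9024 F128891) (tt N10656 F128892) (tt N8776 F128893) (tt N12765 (iv F185023)) (tt N8778 F128894) (tt N9625 F201406) (tt N8843 F128895) (tt N12745 (iv F201336)) (tt N8775 (iv D30378)))
theorem Q10658 : ∀ i, i < 10658 → P i := stepQ 10657 Q10657 (allL N10657 (tt N12059 (iv F201355)) (tt N9025 F128896) (tt N10657 F128897) (tt N11781 (iv F175375)) (tt N12764 (iv F185018)) (tt N8777 (iv D30379)) (tt N12766 D44296) (tt N8844 F128898) (tt N9593 F128899) (tt N12767 D44297))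
theorem Q10659 : ∀ i, i < 10659 → P i := stepQ 10658 Q10658 (allL N10658 (tt N12060 (iv F201350)) (tt N9026 F128900) (tt N10658 F128901) (tt N11782 (iv F175379)) (tt N8778 F128902) (tt N12767 (iv F185036)) (tt N10658 F128903) (tt N8845 F128904) (tt N11762 (iv F201345)) (tt N8777 (iv D30380)))
theorem Q10660 : ∀ i, i < 10660 → P i := stepQ 10659 Q10659 (allL N10659 (tt N12751 (iv F184923)) (tt N8786 F128913) (tt N12758 (iv F184974)) (tt N11749 (iv F206132)) (tt N10659 F128914) (tt N8781 F128915) (tt N11750 (iv F205523)) (tt N12738 (iv F205962)) (tt N8779 (iv D30383)) (tt N12768 D44302))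
theorem Q10661 : ∀ i, i < 10661 → P i := stepQ 10660 Q10660 (allL N10660 (tt N12730 (iv F197054)) (tt N8787 F128916) (tt N9635 F202143) (tt N12769 D44303) (tt N8784 F128917) (tt N12738 (iv F205961)) (tt N8848 F128918) (tt N8781 F128919) (tt N8780 (iv D30384)) (tt N11875 (iv F205934)))
theorem Q10662 : ∀ i, i < 10662 → P i := stepQ 10661 Q10661 (allL N10661 (tt N12752 (iv F184932)) (tt N8788 F128920) (tt N12770 D44305) (tt N8781 (iv D30385)) (tt N10661 F128921) (tt N11749 (iv F206133)) (tt N8782 F128922) (tt N12769 (iv F185059)) (tt N11747 (iv F205951)) (tt N12771 D44306))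
theorem Q10663 : ∀ i, i < 10663 → P i := stepQ 10662 Q10662 (allL N10662 (tt N12753 (iv F184936)) (tt N8789 F128923) (tt N12760 (iv F184985)) (tt N12771 (iv F185067)) (tt N8785 F128924) (tt N12768 (iv F185055)) (tt N8783 F128925) (tt N11875 (iv F205933)) (tt N11786 (iv F205579)) (tt N8781 (iv D30386)))
theorem Q10664 : ∀ i, i < 10664 → P i := stepQ 10663 Q10663 (allL N10663 (tt N11772 (iv F205605)) (tt N12772 D44307) (tt N8782 (iv D30387)) (tt N12761 (iv F184988)) (tt N10663 F128926) (tt N11785 (iv F175403)) (tt N12770 (iv F185065)) (tt N8851 F128927) (tt N11763 (iv F205945)) (tt N12773 D44308))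
theorem Q10665 : ∀ i, i < 10665 → P i := stepQ 10664 Q10664 (allL N10664 (tt N12754 (iv F184943)) (tt N8791 F128928) (tt N12773 (iv F185073)) (tt N8783 F128929) (tt N10664 F128930) (tt N11786 (iv F175407)) (tt N12771 (iv F185069)) (tt N8852 F128931) (tt N12768 (iv F206217)) (tt N8782 (iv D30388)))
theorem Q10666 : ∀ i, i < 10666 → P i := stepQ 10665 Q10665 (allL N10665 (tt N12755 (iv F184948)) (tt N8792 F128932) (tt N9636 F202144) (tt N10665 F128933) (tt N11875 (iv F205931)) (tt N10665 F128934) (tt N8853 F128935) (tt N8785 F128936) (tt N11687 (iv F205319)) (tt N8784 (iv D30389)))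
theorem Q10667 : ∀ i, i < 10667 → P i := stepQ 10666 Q10666 (allL N10666 (tt N10666 F128948) (tt N12768 (iv F185053)) (tt N9038 F128949) (tt N11755 (iv F206135)) (tt N10666 F128950) (tt N8789 F128951) (tt N11756 (iv F205820)) (tt N8864 F206065) (tt N8791 F206066) (tt N8786 (iv D30393)))
theorem Q10668 : ∀ i, i < 10668 → P i := stepQ 10667 Q10667 (allL N10667 (tt N10667 F128952) (tt N12769 (iv F185056)) (tt N12100 (iv F206194)) (tt N8787 (iv D30394)) (tt N10667 F128953) (tt N11754 (iv F206134)) (tt N8858 F128954) (tt N8788 F128955) (tt N11732 (iv F206214)) (tt N11818 (iv F205937)))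
theorem Q10669 : ∀ i, i < 10669 → P i := stepQ 10668 Q10668 (allL N10668 (tt N10668 F128965) (tt N12771 (iv F185066)) (tt N12101 (iv F206197)) (tt N8789 F128966) (tt N10668 F128967) (tt N11755 (iv F206136)) (tt N8791 F128968) (tt N11818 (iv F205936)) (tt N11756 (iv F206218)) (tt N8788 (iv D30397)))
theorem Q10670 : ∀ i, i < 10670 → P i := stepQ 10669 Q10669 (allL N10669 (tt N12774 D44321) (tt N8790 (iv D30398)) (tt N12772 (iv F185070)) (tt N9043 F128969) (tt N10669 F128970) (tt N8990 F206049) (tt N12092 (iv F206186)) (tt N8862 F128971) (tt N8988 (iv F206188)) (tt N12775 D44322))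
theorem Q10671 : ∀ i, i < 10671 → P i := stepQ 10670 Q10670 (allL N10670 (tt N10670 F128972) (tt N12775 (iv F185126)) (tt N8791 F128973) (tt N9044 F128974) (tt N10670 F128975) (tt N8995 F206057) (tt N12101 (iv F206199)) (tt N8863 F128976) (tt N9038 (iv F206201)) (tt N8790 (iv D30399)))
theorem Q10672 : ∀ i, i < 10672 → P i := stepQ 10671 Q10671 (allL N10671 (tt N8835 F197396) (tt N9061 F129216) (tt N8826 F197397) (tt N8796 F129217) (tt N8820 F197398) (tt N12776 D44412) (tt N8795 (iv D30458)) (tt N8818 F197399) (tt N12777 D44414) (tt N8832 F129219))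
theorem Q10673 : ∀ i, i < 10673 → P i := stepQ 10672 Q10672 (allL N10672 (tt N9635 (iv F201799)) (tt N9062 F129220) (tt N12730 (iv F183995)) (tt N12778 D44415) (tt N9594 F129221) (tt N11788 (iv F175558)) (tt N12777 (iv F185502)) (tt N12740 (iv F184688)) (tt N8795 (iv D30459)) (tt N12779 D44416))
theorem Q10674 : ∀ i, i < 10674 → P i := stepQ 10673 Q10673 (allL N10673 (tt N9638 (iv F202502)) (tt N9063 F129222) (tt N8801 F129223) (tt N12776 (iv F185494)) (tt N8872 F129224) (tt N8796 (iv D30460)) (tt N11789 (iv F175562)) (tt N12780 D44417) (tt N12781 D44418) (tt N8834 F129225))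
theorem Q10675 : ∀ i, i < 10675 → P i := stepQ 10674 Q10674 (allL N10674 (tt N8832 (iv F197032)) (tt N9064 F129226) (tt N8802 F129227) (tt N8818 (iv F197082)) (tt N8798 F129228) (tt N12780 (iv F185511)) (tt N8817 F196659) (tt N8796 (iv D30461)) (tt N11871 (iv F205306)) (tt N8835 F129229))
theorem Q10676 : ∀ i, i < 10676 → P i := stepQ 10675 Q10675 (allL N10675 (tt N9125 (iv F202510)) (tt N9065 F129230) (tt N8803 F129231) (tt N12782 D44420) (tt N8799 F129232) (tt N12781 (iv F185516)) (tt N8797 F129233) (tt N11871 (iv F205305)) (tt N8796 (iv D30462)) (tt N12783 D44421))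
theorem Q10677 : ∀ i, i < 10677 → P i := stepQ 10676 Q10676 (allL N10676 (tt N9121 (iv F202688)) (tt N9066 F129234) (tt N12784 D44422) (tt N8797 (iv D30463)) (tt N9098 (iv F202683)) (tt N11792 (iv F175573)) (tt N12782 (iv F185522)) (tt N12741 (iv F184703)) (tt N12778 (iv F185504)) (tt N12785 D44424))
theorem Q10678 : ∀ i, i < 10678 → P i := stepQ 10677 Q10677 (allL N10677 (tt N9128 (iv F202690)) (tt N9067 F129235) (tt N8805 F129236) (tt N12785 (iv F185532)) (tt N8800 F129237) (tt N11793 (iv F175577)) (tt N12783 (iv F185526)) (tt N12742 (iv F184707)) (tt N8838 F129238) (tt N8797 (iv D30464)))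
theorem Q10679 : ∀ i, i < 10679 → P i := stepQ 10678 Q10678 (allL N10678 (tt N9123 (iv F201727)) (tt N9068 F129239) (tt N8806 F129240) (tt N9100 (iv F201731)) (tt N11871 (iv F205304)) (tt N8877 F129241) (tt N9595 F196660) (tt N8799 F129242) (tt N8798 (iv D30465)) (tt N12786 D44426))
theorem Q10680 : ∀ i, i < 10680 → P i := stepQ 10679 Q10679 (allL N10679 (tt N9126 (iv F202613)) (tt N9070 F129247) (tt N8807 F129248) (tt N9101 (iv F202620)) (tt N12783 (iv F185525)) (tt N8878 F129249) (tt N8800 F129250) (tt N12786 (iv F185540)) (tt N8841 F129251) (tt N8799 (iv D30467)))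
theorem Q10681 : ∀ i, i < 10681 → P i := stepQ 10680 Q10680 (allL N10680 (tt N9709 (iv F202490)) (tt N8808 F129266) (tt N12780 (iv F185509)) (tt N11738 (iv F205586)) (tt N8879 F129267) (tt N8802 F129268) (tt N12735 (iv F205889)) (tt N8801 (iv D30473)) (tt N11868 (iv F205309)) (tt N8846 F129269))
theorem Q10682 : ∀ i, i < 10682 → P i := stepQ 10681 Q10681 (allL N10681 (tt N9466 (iv F203443)) (tt N8809 F129270) (tt N12781 (iv F185514)) (tt N11867 (iv F205282)) (tt N8880 F129271) (tt N8803 F129272) (tt N11801 (iv F175621)) (tt N11868 (iv F205308)) (tt N8801 (iv D30474)) (tt N12787 D44438))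
theorem Q10683 : ∀ i, i < 10683 → P i := stepQ 10682 Q10682 (allL N10682 (tt N9467 (iv F203445)) (tt N8810 F129278) (tt N12783 (iv F185524)) (tt N11870 (iv F205283)) (tt N8807 F129279) (tt N12787 (iv F185578)) (tt N8805 F129280) (tt N11872 (iv F205312)) (tt N8850 F129281) (tt N8803 (iv D30477)))
theorem Q10684 : ∀ i, i < 10684 → P i := stepQ 10683 Q10683 (allL N10683 (tt N9459 (iv F203537)) (tt N12142 (iv F205824)) (tt N8804 (iv D30478)) (tt N12784 (iv F185528)) (tt N9438 (iv F203630)) (tt N11805 (iv F175633)) (tt N11851 (iv F205279)) (tt N11775 (iv F205519)) (tt N11774 (iv F205515)) (tt N12788 D44444))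
theorem Q10685 : ∀ i, i < 10685 → P i := stepQ 10684 Q10684 (allL N10684 (tt N9462 (iv F203539)) (tt N8811 F129282) (tt N12788 (iv F185591)) (tt N8805 F129283) (tt N9439 (iv F203632)) (tt N11806 (iv F175637)) (tt N11870 (iv F205284)) (tt N11784 (iv F205526)) (tt N12789 D44445) (tt N8804 (iv D30479)))
theorem Q10686 : ∀ i, i < 10686 → P i := stepQ 10685 Q10685 (allL N10685 (tt N9465 (iv F202585)) (tt N8812 F129284) (tt N12786 (iv F185538)) (tt N9440 (iv F202593)) (tt N11872 (iv F205311)) (tt N8886 F129285) (tt N11687 (iv F205317)) (tt N8807 F129286) (tt N8853 F129287) (tt N8806 (iv D30480)))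
theorem Q10687 : ∀ i, i < 10687 → P i := stepQ 10686 Q10686 (allL N10686 (tt N10686 F129299) (tt N12787 (iv F185576)) (tt N9084 F129300) (tt N11876 (iv F205493)) (tt N8890 F129301) (tt N8810 F129302) (tt N11811 (iv F175660)) (tt N11877 (iv F205533)) (tt N8857 F129303) (tt N8809 (iv D30484)))
theorem Q10688 : ∀ i, i < 10688 → P i := stepQ 10687 Q10687 (allL N10687 (tt N10687 F129321) (tt N12789 (iv F185592)) (tt N12103 (iv F205838)) (tt N8864 F129322) (tt N11757 (iv F205487)) (tt N11818 (iv F175689)) (tt N11813 (iv F205495)) (tt N11755 (iv F205822)) (tt N8811 (iv D30491)) (tt N11754 (iv F205806)))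
theorem Q10689 : ∀ i, i < 10689 → P i := stepQ 10688 Q10688 (allL N10688 (tt N9090 F129323) (tt N8817 F129324) (tt N8989 F196664) (tt N8813 (iv D30492)) (tt N8983 F196665) (tt N11819 (iv F175693)) (tt N9064 (iv F197081)) (tt N8981 F196666) (tt N11873 (iv F205562)) (tt N9016 (iv F197100)))
theorem Q10690 : ∀ i, i < 10690 → P i := stepQ 10689 Q10689 (allL N10689 (tt N9091 F129326) (tt N8818 F129327) (tt N10689 F129328) (tt N9064 F197409) (tt N8814 F129329) (tt N12790 D44463) (tt N8813 (iv D30493)) (tt N9061 (iv F197884)) (tt N12791 D44465) (tt N9111 (iv F197851)))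
theorem Q10691 : ∀ i, i < 10691 → P i := stepQ 10690 Q10690 (allL N10690 (tt N9071 (iv F201867)) (tt N8819 F129331) (tt N10690 F129332) (tt N12792 D44466) (tt N8815 F129333) (tt N11821 (iv F175702)) (tt N12791 (iv F185658)) (tt N12744 (iv F184821)) (tt N8813 (iv D30494)) (tt N12793 D44467))
theorem Q10692 : ∀ i, i < 10692 → P i := stepQ 10691 Q10691 (allL N10691 (tt N9069 (iv F201862)) (tt N8821 F129340) (tt N10691 F129341) (tt N9052 (iv F201881)) (tt N12791 (iv F185657)) (tt N8902 F129342) (tt N8815 F129343) (tt N9629 (iv F197886)) (tt N8814 (iv D30496)) (tt N12794 D44470))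
theorem Q10693 : ∀ i, i < 10693 → P i := stepQ 10692 Q10692 (allL N10692 (tt N9072 (iv F201869)) (tt N8823 F129349) (tt N10692 F129350) (tt N9053 (iv F201883)) (tt N12793 (iv F185664)) (tt N8816 F129351) (tt N12794 (iv F185679)) (tt N12745 (iv F184842)) (tt N8843 (iv F201811)) (tt N8815 (iv D30498)))
theorem Q10694 : ∀ i, i < 10694 → P i := stepQ 10693 Q10693 (allL N10693 (tt N8834 F129370) (tt N12790 (iv F185647)) (tt N8825 F129371) (tt N12780 (iv F197084)) (tt N8906 F129372) (tt N8818 (iv D30504)) (tt N11829 (iv F175743)) (tt N12776 (iv F197890)) (tt N12795 D44485) (tt N9638 (iv F202506)))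
theorem Q10695 : ∀ i, i < 10695 → P i := stepQ 10694 Q10694 (allL N10694 (tt N8836 F129376) (tt N12791 (iv F185655)) (tt N8827 F129377) (tt N12796 D44487) (tt N8821 F129378) (tt N12795 (iv F185732)) (tt N8819 F129379) (tt N12777 (iv F197894)) (tt N8818 (iv D30506)) (tt N12797 D44488))
theorem Q10696 : ∀ i, i < 10696 → P i := stepQ 10695 Q10695 (allL N10695 (tt N8837 F129380) (tt N12792 (iv F185660)) (tt N11847 (iv F205602)) (tt N8819 (iv D30507)) (tt N12798 D44490) (tt N11832 (iv F175752)) (tt N12796 (iv F185738)) (tt N12746 (iv F184877)) (tt N11854 (iv F205564)) (tt N12799 D44491))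
theorem Q10697 : ∀ i, i < 10697 → P i := stepQ 10696 Q10696 (allL N10696 (tt N8838 F129381) (tt N12793 (iv F185662)) (tt N8829 F129382) (tt N12799 (iv F185748)) (tt N8823 F129383) (tt N11833 (iv F175756)) (tt N12797 (iv F185742)) (tt N12747 (iv F184881)) (tt N9128 (iv F202691)) (tt N8819 (iv D30508)))
theorem Q10698 : ∀ i, i < 10698 → P i := stepQ 10697 Q10697 (allL N10697 (tt N8839 F129384) (tt N9629 (iv F197885)) (tt N8830 F129385) (tt N9632 (iv F201872)) (tt N12777 (iv F197893)) (tt N8911 F129386) (tt N9594 F197400) (tt N8821 F129387) (tt N8820 (iv D30509)) (tt N12800 D44493))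
theorem Q10699 : ∀ i, i < 10699 → P i := stepQ 10698 Q10698 (allL N10698 (tt N8840 F129388) (tt N9052 (iv F201880)) (tt N10698 F129389) (tt N8821 (iv D30510)) (tt N12801 D44494) (tt N8912 F129390) (tt N8822 F129391) (tt N9632 (iv F201873)) (tt N9047 F201693) (tt N12802 D44495))
theorem Q10700 : ∀ i, i < 10700 → P i := stepQ 10699 Q10699 (allL N10699 (tt N8841 F129393) (tt N12794 (iv F185676)) (tt N8831 F129394) (tt N12802 (iv F185764)) (tt N12797 (iv F185741)) (tt N8913 F129395) (tt N8823 F129396) (tt N12800 (iv F185757)) (tt N9126 (iv F202614)) (tt N8821 (iv D30511)))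
theorem Q10701 : ∀ i, i < 10701 → P i := stepQ 10700 Q10700 (allL N10700 (tt N8842 F129397) (tt N9050 (iv F201879)) (tt N10700 F129398) (tt N12798 (iv F185746)) (tt N8822 (iv D30512)) (tt N12206 (iv F202153)) (tt N12801 (iv F185760)) (tt N12749 (iv F184898)) (tt N9046 F201698) (tt N12803 D44497))
theorem Q10702 : ∀ i, i < 10702 → P i := stepQ 10701 Q10701 (allL N10701 (tt N8843 F129400) (tt N9053 (iv F201882)) (tt N10701 F129401) (tt N8823 F129402) (tt N12803 (iv F185773)) (tt N8824 F129403) (tt N12802 (iv F185766)) (tt N12750 (iv F184904)) (tt N9072 (iv F201864)) (tt N8822 (iv D30513)))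
theorem Q10703 : ∀ i, i < 10703 → P i := stepQ 10702 Q10702 (allL N10702 (tt N8846 F129415) (tt N10702 F129416) (tt N12776 (iv F197888)) (tt N12731 (iv F197073)) (tt N8916 F129417) (tt N8826 F129418) (tt N12804 D44502) (tt N8825 (iv D30517)) (tt N12805 D44503) (tt N9709 (iv F202493)))
theorem Q10704 : ∀ i, i < 10704 → P i := stepQ 10703 Q10703 (allL N10703 (tt N8847 F129419) (tt N10703 F129420) (tt N12795 (iv F185730)) (tt N12806 D44504) (tt N8917 F129421) (tt N8827 F129422) (tt N11841 (iv F175792)) (tt N12805 (iv F185797)) (tt N8825 (iv D30518)) (tt N12807 D44505))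
theorem Q10705 : ∀ i, i < 10705 → P i := stepQ 10704 Q10704 (allL N10704 (tt N8848 F129423) (tt N10704 F129424) (tt N12777 (iv F197892)) (tt N12808 D44506) (tt N8830 F129425) (tt N12805 (iv F185796)) (tt N12730 (iv F197056)) (tt N8827 F129426) (tt N8826 (iv D30519)) (tt N12809 D44507))
theorem Q10706 : ∀ i, i < 10706 → P i := stepQ 10705 Q10705 (allL N10705 (tt N8849 F129427) (tt N10705 F129428) (tt N11846 (iv F205604)) (tt N8827 (iv D30520)) (tt N10705 F129429) (tt N12806 (iv F185800)) (tt N8828 F129430) (tt N12808 (iv F185808)) (tt N11734 (iv F205610)) (tt N12810 D44509))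
theorem Q10707 : ∀ i, i < 10707 → P i := stepQ 10706 Q10706 (allL N10706 (tt N8850 F129431) (tt N10706 F129432) (tt N12797 (iv F185740)) (tt N12810 (iv F185818)) (tt N8831 F129433) (tt N12807 (iv F185804)) (tt N8829 F129434) (tt N12809 (iv F185812)) (tt N9467 (iv F203446)) (tt N8827 (iv D30521)))
theorem Q10708 : ∀ i, i < 10708 → P i := stepQ 10707 Q10707 (allL N10707 (tt N8852 F129437) (tt N10707 F129438) (tt N11848 (iv F205608)) (tt N8829 F129439) (tt N10707 F129440) (tt N11843 (iv F175809)) (tt N12810 (iv F185820)) (tt N12754 (iv F184947)) (tt N12811 D44512) (tt N8828 (iv D30523)))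
theorem Q10709 : ∀ i, i < 10709 → P i := stepQ 10708 Q10708 (allL N10708 (tt N8853 F129441) (tt N10708 F129442) (tt N12800 (iv F185755)) (tt N10708 F129443) (tt N12809 (iv F185811)) (tt N8923 F129444) (tt N12755 (iv F184952)) (tt N8831 F129445) (tt N9465 (iv F202586)) (tt N8830 (iv D30524)))
theorem Q10710 : ∀ i, i < 10710 → P i := stepQ 10709 Q10709 (allL N10709 (tt N12780 (iv F197083)) (tt N9110 F129446) (tt N9709 (iv F202491)) (tt N8834 F129447) (tt N9666 (iv F202500)) (tt N8832 (iv D30525)) (tt N11844 (iv F175816)) (tt N9638 (iv F202505)) (tt N12812 D44515) (tt N12776 (iv F185495)))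
theorem Q10711 : ∀ i, i < 10711 → P i := stepQ 10710 Q10710 (allL N10710 (tt N11871 (iv F205302)) (tt N9112 F129451) (tt N9464 (iv F202497)) (tt N12813 D44517) (tt N9123 F202113) (tt N12812 (iv F185836)) (tt N8833 F129453) (tt N9125 (iv F202511)) (tt N8832 (iv D30527)) (tt N12814 D44518))
theorem Q10712 : ∀ i, i < 10712 → P i := stepQ 10711 Q10711 (allL N10711 (tt N11854 (iv F205563)) (tt N9113 F129454) (tt N11832 (iv F206561)) (tt N8833 (iv D30528)) (tt N12815 D44520) (tt N11847 (iv F175824)) (tt N12813 (iv F185841)) (tt N12756 (iv F184964)) (tt N8837 F129455) (tt N12816 D44521))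
theorem Q10713 : ∀ i, i < 10713 → P i := stepQ 10712 Q10712 (allL N10712 (tt N11874 (iv F205573)) (tt N9114 F129456) (tt N11843 (iv F205345)) (tt N12816 (iv F185851)) (tt N9596 F129457) (tt N11848 (iv F175828)) (tt N12814 (iv F185845)) (tt N12757 (iv F184968)) (tt N12779 (iv F185507)) (tt N8833 (iv D30529)))
theorem Q10714 : ∀ i, i < 10714 → P i := stepQ 10713 Q10713 (allL N10713 (tt N12776 (iv F197887)) (tt N9115 F129458) (tt N8846 F129459) (tt N9638 (iv F202504)) (tt N8929 F129460) (tt N8835 F129461) (tt N12817 D44522) (tt N8834 (iv D30530)) (tt N12818 D44523) (tt N12780 (iv F185512)))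
theorem Q10715 : ∀ i, i < 10715 → P i := stepQ 10714 Q10714 (allL N10714 (tt N12795 (iv F185729)) (tt N9116 F129462) (tt N8847 F129463) (tt N12819 D44524) (tt N8930 F129464) (tt N8836 F129465) (tt N11850 (iv F175837)) (tt N12818 (iv F185859)) (tt N8834 (iv D30531)) (tt N12820 D44525))
theorem Q10716 : ∀ i, i < 10716 → P i := stepQ 10715 Q10715 (allL N10715 (tt N12777 (iv F197891)) (tt N9117 F129466) (tt N8848 F129467) (tt N12821 D44526) (tt N8839 F129468) (tt N12818 (iv F185858)) (tt N9635 F202191) (tt N8836 F129469) (tt N8835 (iv D30532)) (tt N12822 D44527))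
theorem Q10717 : ∀ i, i < 10717 → P i := stepQ 10716 Q10716 (allL N10716 (tt N12796 (iv F185737)) (tt N9118 F129470) (tt N12823 D44528) (tt N8836 (iv D30533)) (tt N12824 D44529) (tt N12819 (iv F185861)) (tt N8837 F129471) (tt N12821 (iv F185867)) (tt N12813 (iv F185842)) (tt N12825 D44530))
theorem Q10718 : ∀ i, i < 10718 → P i := stepQ 10717 Q10717 (allL N10717 (tt N12797 (iv F185739)) (tt N9119 F129472) (tt N8850 F129473) (tt N12825 (iv F185878)) (tt N8841 F129474) (tt N12820 (iv F185865)) (tt N8838 F129475) (tt N12822 (iv F185871)) (tt N12783 (iv F185527)) (tt N8836 (iv D30534)))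
theorem Q10719 : ∀ i, i < 10719 → P i := stepQ 10718 Q10718 (allL N10718 (tt N11847 (iv F205601)) (tt N12826 D44531) (tt N8837 (iv D30535)) (tt N8851 F129476) (tt N12827 D44532) (tt N11854 (iv F175849)) (tt N12823 (iv F185873)) (tt N12761 (iv F184989)) (tt N11832 (iv F206562)) (tt N12828 D44533))
theorem Q10720 : ∀ i, i < 10720 → P i := stepQ 10719 Q10719 (allL N10719 (tt N12798 (iv F185745)) (tt N9121 F129477) (tt N12827 (iv F185882)) (tt N8842 F129478) (tt N8837 (iv D30536)) (tt N12829 D44534) (tt N12824 (iv F185876)) (tt N12762 (iv F184992)) (tt N12815 (iv F185849)) (tt N12830 D44535))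
theorem Q10721 : ∀ i, i < 10721 → P i := stepQ 10720 Q10720 (allL N10720 (tt N12799 (iv F185747)) (tt N9122 F129479) (tt N12828 (iv F185884)) (tt N8838 F129480) (tt N12830 (iv F185890)) (tt N11856 (iv F175854)) (tt N12825 (iv F185879)) (tt N12763 (iv F184995)) (tt N12831 D44536) (tt N8837 (iv D30537)))
theorem Q10722 : ∀ i, i < 10722 → P i := stepQ 10721 Q10721 (allL N10721 (tt N12800 (iv F185754)) (tt N9124 F129486) (tt N8853 F129487) (tt N9634 F202193) (tt N12822 (iv F185870)) (tt N8938 F129488) (tt N9636 F202194) (tt N8841 F129489) (tt N12786 (iv F185541)) (tt N8839 (iv D30539)))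
theorem Q10723 : ∀ i, i < 10723 → P i := stepQ 10722 Q10722 (allL N10722 (tt N12801 (iv F185758)) (tt N9125 F129490) (tt N10722 F129491) (tt N12824 (iv F185875)) (tt N8840 (iv D30540)) (tt N12832 D44539) (tt N8842 F129492) (tt N9112 F202264) (tt N9111 F202265) (tt N12833 D44540))
theorem Q10724 : ∀ i, i < 10724 → P i := stepQ 10723 Q10723 (allL N10723 (tt N12802 (iv F185762)) (tt N9126 F129494) (tt N10723 F129495) (tt N8841 F129496) (tt N12833 (iv F185907)) (tt N8940 F129497) (tt N8843 F129498) (tt N9634 F202266) (tt N12794 (iv F202121)) (tt N8840 (iv D30541)))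
theorem Q10725 : ∀ i, i < 10725 → P i := stepQ 10724 Q10724 (allL N10724 (tt N12206 (iv F202152)) (tt N9127 F129499) (tt N10724 F129500) (tt N12829 (iv F185887)) (tt N8844 F129501) (tt N8842 (iv D30542)) (tt N12834 D44542) (tt N12764 (iv F185019)) (tt N9597 F129502) (tt N12835 D44543))
theorem Q10726 : ∀ i, i < 10726 → P i := stepQ 10725 Q10725 (allL N10725 (tt N12803 (iv F185771)) (tt N9128 F129503) (tt N10725 F129504) (tt N12830 (iv F185889)) (tt N8843 F129505) (tt N12835 (iv F185921)) (tt N12833 (iv F185908)) (tt N12765 (iv F185024)) (tt N12793 (iv F202122)) (tt N8842 (iv D30543)))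
theorem Q10727 : ∀ i, i < 10727 → P i := stepQ 10726 Q10726 (allL N10726 (tt N12208 (iv F202169)) (tt N9129 F129510) (tt N10726 F129511) (tt N11863 (iv F175879)) (tt N12834 (iv F185916)) (tt N8943 F129512) (tt N8844 (iv D30545)) (tt N12836 D44545) (tt N9598 F129513) (tt N12837 D44546))
theorem Q10728 : ∀ i, i < 10728 → P i := stepQ 10727 Q10727 (allL N10727 (tt N12209 (iv F202166)) (tt N9130 F129514) (tt N10727 F129515) (tt N11864 (iv F175883)) (tt N12835 (iv F185920)) (tt N8845 F129516) (tt N12837 (iv F185933)) (tt N12767 (iv F185037)) (tt N11825 (iv F202158)) (tt N8844 (iv D30546)))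
theorem Q10729 : ∀ i, i < 10729 → P i := stepQ 10728 Q10728 (allL N10728 (tt N12804 (iv F185790)) (tt N8854 F129522) (tt N12817 (iv F185853)) (tt N12733 (iv F184316)) (tt N8945 F129523) (tt N12737 (iv F205960)) (tt N8846 (iv D30548)) (tt N11866 (iv F175891)) (tt N12838 D44549) (tt N12735 (iv F205890)))
theorem Q10730 : ∀ i, i < 10730 → P i := stepQ 10729 Q10729 (allL N10729 (tt N12805 (iv F185793)) (tt N8855 F129524) (tt N12818 (iv F185856)) (tt N12839 D44550) (tt N8946 F129525) (tt N8848 F129526) (tt N12838 (iv F185943)) (tt N8847 F129527) (tt N8846 (iv D30549)) (tt N12840 D44551))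
theorem Q10731 : ∀ i, i < 10731 → P i := stepQ 10730 Q10730 (allL N10730 (tt N12806 (iv F185798)) (tt N8856 F129528) (tt N12841 D44552) (tt N8847 (iv D30550)) (tt N12842 D44553) (tt N8849 F129529) (tt N11868 (iv F175898)) (tt N12839 (iv F185946)) (tt N12735 (iv F184324)) (tt N12843 D44554))
theorem Q10732 : ∀ i, i < 10732 → P i := stepQ 10731 Q10731 (allL N10731 (tt N12807 (iv F185801)) (tt N8857 F129530) (tt N12820 (iv F185863)) (tt N12843 (iv F185956)) (tt N8948 F129531) (tt N8850 F129532) (tt N11869 (iv F175902)) (tt N12840 (iv F185950)) (tt N12787 (iv F185579)) (tt N8847 (iv D30551)))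
theorem Q10733 : ∀ i, i < 10733 → P i := stepQ 10732 Q10732 (allL N10732 (tt N12808 (iv F185805)) (tt N8858 F129533) (tt N12844 D44555) (tt N8848 (iv D30552)) (tt N10732 F129534) (tt N12839 (iv F185945)) (tt N12769 (iv F185058)) (tt N8849 F129535) (tt N12736 (iv F184331)) (tt N12845 D44556))
theorem Q10734 : ∀ i, i < 10734 → P i := stepQ 10733 Q10733 (allL N10733 (tt N12809 (iv F185809)) (tt N8859 F129536) (tt N12822 (iv F185869)) (tt N12845 (iv F185961)) (tt N8853 F129537) (tt N12840 (iv F185949)) (tt N11875 (iv F205932)) (tt N8850 F129538) (tt N11872 (iv F205313)) (tt N8848 (iv D30553)))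
theorem Q10735 : ∀ i, i < 10735 → P i := stepQ 10734 Q10734 (allL N10734 (tt N11846 (iv F205603)) (tt N12846 D44557) (tt N8849 (iv D30554)) (tt N12823 (iv F185872)) (tt N10734 F129539) (tt N12841 (iv F185951)) (tt N8851 F129540) (tt N12844 (iv F185959)) (tt N11828 (iv F205943)) (tt N12847 D44558))
theorem Q10736 : ∀ i, i < 10736 → P i := stepQ 10735 Q10735 (allL N10735 (tt N12810 (iv F185816)) (tt N8861 F129541) (tt N12847 (iv F185967)) (tt N8850 F129542) (tt N10735 F129543) (tt N12843 (iv F185957)) (tt N8852 F129544) (tt N12845 (iv F185963)) (tt N12848 D44559) (tt N8849 (iv D30555)))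
theorem Q10737 : ∀ i, i < 10737 → P i := stepQ 10736 Q10736 (allL N10736 (tt N12281 (iv F206508)) (tt N8851 (iv D30556)) (tt N8862 F129545) (tt N12826 (iv F185881)) (tt N10736 F129546) (tt N11873 (iv F175913)) (tt N12846 (iv F185966)) (tt N12772 (iv F185072)) (tt N11819 (iv F205941)) (tt N12849 D44561))
theorem Q10738 : ∀ i, i < 10738 → P i := stepQ 10737 Q10737 (allL N10737 (tt N11848 (iv F205607)) (tt N12849 (iv F185975)) (tt N8852 F129547) (tt N12828 (iv F185885)) (tt N10737 F129548) (tt N11874 (iv F175915)) (tt N12847 (iv F185969)) (tt N12773 (iv F185075)) (tt N12850 D44562) (tt N8851 (iv D30557)))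
theorem Q10739 : ∀ i, i < 10739 → P i := stepQ 10738 Q10738 (allL N10738 (tt N12811 (iv F185826)) (tt N8864 F129549) (tt N12850 (iv F185978)) (tt N12789 (iv F185593)) (tt N10738 F129550) (tt N11875 (iv F175917)) (tt N12848 (iv F185972)) (tt N12768 (iv F206216)) (tt N8852 (iv D30558)) (tt N12738 (iv F184349)))
theorem Q10740 : ∀ i, i < 10740 → P i := stepQ 10739 Q10739 (allL N10739 (tt N10739 F129551) (tt N12838 (iv F185941)) (tt N9142 F129552) (tt N11809 (iv F206394)) (tt N8956 F129553) (tt N11812 (iv F206400)) (tt N8855 F129554) (tt N11810 (iv F205491)) (tt N8854 (iv D30559)) (tt N12851 D44564))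
theorem Q10741 : ∀ i, i < 10741 → P i := stepQ 10740 Q10740 (allL N10740 (tt N10740 F129555) (tt N12839 (iv F185944)) (tt N12265 (iv F205879)) (tt N8855 (iv D30560)) (tt N11910 (iv F205539)) (tt N8858 F129556) (tt N11809 (iv F206395)) (tt N8856 F129557) (tt N11808 (iv F205894)) (tt N12852 D44567))
theorem Q10742 : ∀ i, i < 10742 → P i := stepQ 10741 Q10741 (allL N10741 (tt N10741 F129558) (tt N12840 (iv F185947)) (tt N9144 F129559) (tt N12852 (iv F185995)) (tt N8958 F129560) (tt N8859 F129561) (tt N12851 (iv F185985)) (tt N8857 F129562) (tt N11877 (iv F205534)) (tt N8855 (iv D30561)))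
theorem Q10743 : ∀ i, i < 10743 → P i := stepQ 10742 Q10742 (allL N10742 (tt N10742 F129563) (tt N12853 D44568) (tt N8856 (iv D30562)) (tt N9145 F129564) (tt N9198 F205685) (tt N8860 F129565) (tt N9082 F205686) (tt N12265 (iv F205882)) (tt N9081 (iv F205884)) (tt N12854 D44570))
theorem Q10744 : ∀ i, i < 10744 → P i := stepQ 10743 Q10743 (allL N10743 (tt N10743 F129566) (tt N12842 (iv F185952)) (tt N9198 (iv F205537)) (tt N8960 F129567) (tt N8856 (iv D30563)) (tt N10743 F129568) (tt N8888 F205404) (tt N11910 (iv F205540)) (tt N8887 (iv F205541)) (tt N12855 D44571))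
theorem Q10745 : ∀ i, i < 10745 → P i := stepQ 10744 Q10744 (allL N10744 (tt N10744 F129569) (tt N12843 (iv F185955)) (tt N12854 (iv F186004)) (tt N8857 F129570) (tt N12855 (iv F186009)) (tt N8861 F129571) (tt N11877 (iv F175941)) (tt N12852 (iv F185997)) (tt N12851 (iv F206405)) (tt N8856 (iv D30564)))
theorem Q10746 : ∀ i, i < 10746 → P i := stepQ 10745 Q10745 (allL N10745 (tt N10745 F129572) (tt N12856 D44573) (tt N8858 (iv D30565)) (tt N9148 F129573) (tt N10745 F129574) (tt N12265 (iv F205881)) (tt N12100 (iv F206196)) (tt N8860 F129575) (tt N12099 (iv F206163)) (tt N12857 D44574))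
theorem Q10747 : ∀ i, i < 10747 → P i := stepQ 10746 Q10746 (allL N10746 (tt N10746 F129576) (tt N12845 (iv F185960)) (tt N12857 (iv F186017)) (tt N8859 F129577) (tt N10746 F129578) (tt N12852 (iv F185996)) (tt N11818 (iv F205935)) (tt N8861 F129579) (tt N11815 (iv F206407)) (tt N8858 (iv D30566)))
theorem Q10748 : ∀ i, i < 10748 → P i := stepQ 10747 Q10747 (allL N10747 (tt N12858 D44576) (tt N8860 (iv D30567)) (tt N12846 (iv F185964)) (tt N9150 F129580) (tt N10747 F129581) (tt N12853 (iv F185999)) (tt N8862 F129582) (tt N12856 (iv F186015)) (tt N12739 (iv F184386)) (tt N12859 D44577))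
theorem Q10749 : ∀ i, i < 10749 → P i := stepQ 10748 Q10748 (allL N10748 (tt N10748 F129583) (tt N12859 (iv F186028)) (tt N8861 F129584) (tt N9151 F129585) (tt N10748 F129586) (tt N12854 (iv F186006)) (tt N8863 F129587) (tt N12857 (iv F186020)) (tt N12860 D44578) (tt N8860 (iv D30568)))
theorem Q10750 : ∀ i, i < 10750 → P i := stepQ 10749 Q10749 (allL N10749 (tt N10749 F129588) (tt N12848 (iv F185970)) (tt N12860 (iv F186033)) (tt N11813 (iv F205494)) (tt N10749 F129589) (tt N12851 (iv F206404)) (tt N8864 F129590) (tt N11815 (iv F206406)) (tt N8861 (iv D30569)) (tt N11812 (iv F206403)))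
theorem Q10751 : ∀ i, i < 10751 → P i := stepQ 10750 Q10750 (allL N10750 (tt N8862 (iv D30570)) (tt N10750 F129591) (tt N12281 (iv F206509)) (tt N9153 F129592) (tt N10750 F129593) (tt N11878 (iv F175958)) (tt N12858 (iv F186027)) (tt N12774 (iv F185125)) (tt N12279 (iv F206192)) (tt N12861 D44579))
theorem Q10752 : ∀ i, i < 10752 → P i := stepQ 10751 Q10751 (allL N10751 (tt N12861 (iv F186036)) (tt N8863 F129594) (tt N12849 (iv F185976)) (tt N9154 F129595) (tt N10751 F129596) (tt N11879 (iv F175961)) (tt N12859 (iv F186031)) (tt N12775 (iv F185129)) (tt N12862 D44580) (tt N8862 (iv D30571)))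
theorem Q10753 : ∀ i, i < 10753 → P i := stepQ 10752 Q10752 (allL N10752 (tt N10752 F129597) (tt N12862 (iv F186040)) (tt N8864 F129598) (tt N12863 D44581) (tt N10752 F129599) (tt N9040 F206060) (tt N12860 (iv F186035)) (tt N9038 (iv F206200)) (tt N8863 (iv D30572)) (tt N9036 (iv F206203)))
theorem Q10754 : ∀ i, i < 10754 → P i := stepQ 10753 Q10753 (allL N10753 (tt N10753 F129836) (tt N12864 D44657) (tt N8865 (iv D30623)) (tt N10753 F129837) (tt N8893 F129838) (tt N11711 (iv F205100)) (tt N8867 F129839) (tt N11709 (iv F205111)) (tt N10753 F129840) (tt N12865 D44658))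
theorem Q10755 : ∀ i, i < 10755 → P i := stepQ 10754 Q10754 (allL N10754 (tt N10754 F129841) (tt N9507 (iv F204091)) (tt N12865 (iv F186398)) (tt N8866 F129842) (tt N8894 F129843) (tt N11712 (iv F205101)) (tt N8868 F129844) (tt N11710 (iv F205114)) (tt N12866 D44659) (tt N8865 (iv D30624)))
theorem Q10756 : ∀ i, i < 10756 → P i := stepQ 10755 Q10755 (allL N10755 (tt N12867 D44660) (tt N8867 (iv D30625)) (tt N9508 (iv F204255)) (tt N10755 F129845) (tt N8895 F129846) (tt N10755 F129847) (tt N12864 (iv F186395)) (tt N10755 F129848) (tt N10755 F129849) (tt N12868 D44661))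
theorem Q10757 : ∀ i, i < 10757 → P i := stepQ 10756 Q10756 (allL N10756 (tt N10756 F129850) (tt N12868 (iv F186413)) (tt N8868 F129851) (tt N10756 F129852) (tt N8896 F129853) (tt N10756 F129854) (tt N12865 (iv F186401)) (tt N10756 F129855) (tt N12869 D44662) (tt N8867 (iv D30626)))
theorem Q10758 : ∀ i, i < 10758 → P i := stepQ 10757 Q10757 (allL N10757 (tt N10757 F129856) (tt N9510 (iv F204253)) (tt N12869 (iv F186419)) (tt N10757 F129857) (tt N8897 F129858) (tt N10757 F129859) (tt N12866 (iv F186405)) (tt N10757 F129860) (tt N8868 (iv D30627)) (tt N10757 F129861))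
theorem Q10759 : ∀ i, i < 10759 → P i := stepQ 10758 Q10758 (allL N10758 (tt N9664 (iv F203447)) (tt N9170 F130000) (tt N10758 F130001) (tt N8872 F130002) (tt N12870 D44716) (tt N8870 (iv D30661)) (tt N11880 (iv F176129)) (tt N12871 D44717) (tt N12872 D44718) (tt N8924 F130003))
theorem Q10760 : ∀ i, i < 10760 → P i := stepQ 10759 Q10759 (allL N10759 (tt N9610 (iv F197871)) (tt N9171 F130004) (tt N10759 F130005) (tt N8873 F130006) (tt N9600 F130007) (tt N12871 (iv F186651)) (tt N10759 F130008) (tt N8870 (iv D30662)) (tt N12873 D44719) (tt N8925 F130009))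
theorem Q10761 : ∀ i, i < 10761 → P i := stepQ 10760 Q10760 (allL N10760 (tt N9660 (iv F203546)) (tt N9172 F130010) (tt N10760 F130011) (tt N12874 D44720) (tt N9601 F130012) (tt N12872 (iv F186655)) (tt N8871 F130013) (tt N12873 (iv F186660)) (tt N8870 (iv D30663)) (tt N12875 D44721))
theorem Q10762 : ∀ i, i < 10762 → P i := stepQ 10761 Q10761 (allL N10761 (tt N9246 (iv F203666)) (tt N9173 F130014) (tt N12718 (iv F204016)) (tt N8871 (iv D30664)) (tt N9219 (iv F203654)) (tt N11883 (iv F176142)) (tt N12874 (iv F186662)) (tt N10761 F130015) (tt N8875 F130016) (tt N12876 D44724))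
theorem Q10763 : ∀ i, i < 10763 → P i := stepQ 10762 Q10762 (allL N10762 (tt N9663 (iv F203711)) (tt N9174 F130017) (tt N10762 F130018) (tt N12876 (iv F186677)) (tt N9602 F130019) (tt N11884 (iv F176148)) (tt N12875 (iv F186667)) (tt N10762 F130020) (tt N8928 F130021) (tt N8871 (iv D30665)))
theorem Q10764 : ∀ i, i < 10764 → P i := stepQ 10763 Q10763 (allL N10763 (tt N9666 (iv F202499)) (tt N9175 F130022) (tt N8879 F130023) (tt N12871 (iv F186650)) (tt N12780 (iv F185510)) (tt N8873 F130024) (tt N12877 D44725) (tt N8872 (iv D30666)) (tt N12878 D44726) (tt N8929 F130025))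
theorem Q10765 : ∀ i, i < 10765 → P i := stepQ 10764 Q10764 (allL N10764 (tt N9265 (iv F203454)) (tt N9176 F130026) (tt N8880 F130027) (tt N12879 D44727) (tt N12781 (iv F185515)) (tt N8874 F130028) (tt N11886 (iv F176158)) (tt N12878 (iv F186686)) (tt N8872 (iv D30667)) (tt N12880 D44728))
theorem Q10766 : ∀ i, i < 10766 → P i := stepQ 10765 Q10765 (allL N10765 (tt N9263 (iv F202609)) (tt N9177 F130029) (tt N8881 F130030) (tt N12881 D44729) (tt N8877 F130031) (tt N12878 (iv F186685)) (tt N10765 F130032) (tt N8874 F130033) (tt N8873 (iv D30668)) (tt N12882 D44730))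
theorem Q10767 : ∀ i, i < 10767 → P i := stepQ 10766 Q10766 (allL N10766 (tt N9255 (iv F203502)) (tt N9178 F130034) (tt N12883 D44731) (tt N8874 (iv D30669)) (tt N9224 (iv F203506)) (tt N12879 (iv F186688)) (tt N8875 F130035) (tt N12881 (iv F186695)) (tt N12874 (iv F186663)) (tt N12884 D44733))
theorem Q10768 : ∀ i, i < 10768 → P i := stepQ 10767 Q10767 (allL N10767 (tt N9266 (iv F203503)) (tt N9179 F130036) (tt N8883 F130037) (tt N12884 (iv F186708)) (tt N8878 F130038) (tt N12880 (iv F186691)) (tt N8876 F130039) (tt N12882 (iv F186700)) (tt N8933 F130040) (tt N8874 (iv D30670)))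
theorem Q10769 : ∀ i, i < 10769 → P i := stepQ 10768 Q10768 (allL N10768 (tt N9258 (iv F203664)) (tt N12885 D44734) (tt N8875 (iv D30671)) (tt N8884 F130041) (tt N9226 (iv F203656)) (tt N11890 (iv F176172)) (tt N12883 (iv F186703)) (tt N10768 F130042) (tt N12718 (iv F204017)) (tt N12886 D44736))
theorem Q10770 : ∀ i, i < 10770 → P i := stepQ 10769 Q10769 (allL N10769 (tt N9261 (iv F203667)) (tt N9182 F130046) (tt N12886 (iv F186715)) (tt N8876 F130047) (tt N9227 (iv F203658)) (tt N11892 (iv F176179)) (tt N12884 (iv F186709)) (tt N10769 F130048) (tt N12887 D44739) (tt N8875 (iv D30673)))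
theorem Q10771 : ∀ i, i < 10771 → P i := stepQ 10770 Q10770 (allL N10770 (tt N9264 (iv F202611)) (tt N9184 F130053) (tt N8886 F130054) (tt N9228 (iv F202617)) (tt N12882 (iv F186698)) (tt N12786 (iv F185539)) (tt N10770 F130055) (tt N8878 F130056) (tt N8938 F130057) (tt N8877 (iv D30675)))
theorem Q10772 : ∀ i, i < 10772 → P i := stepQ 10771 Q10771 (allL N10771 (tt N9712 (iv F203436)) (tt N8887 F130085) (tt N12877 (iv F186680)) (tt N10771 F130086) (tt N12735 (iv F205888)) (tt N10771 F130087) (tt N8879 (iv D30684)) (tt N11899 (iv F176231)) (tt N12842 (iv F205536)) (tt N8945 F130088))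
theorem Q10773 : ∀ i, i < 10773 → P i := stepQ 10772 Q10772 (allL N10772 (tt N9547 (iv F203440)) (tt N8888 F130089) (tt N12878 (iv F186684)) (tt N12009 (iv F205288)) (tt N11868 (iv F205307)) (tt N8881 F130090) (tt N12842 (iv F205535)) (tt N8880 F130091) (tt N8879 (iv D30685)) (tt N12888 D44754))
theorem Q10774 : ∀ i, i < 10774 → P i := stepQ 10773 Q10773 (allL N10773 (tt N9535 (iv F204069)) (tt N8889 F130092) (tt N12889 D44755) (tt N8880 (iv D30686)) (tt N12006 (iv F205256)) (tt N8882 F130093) (tt N11901 (iv F176238)) (tt N12009 (iv F205290)) (tt N10773 F130094) (tt N12890 D44757))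
theorem Q10775 : ∀ i, i < 10775 → P i := stepQ 10774 Q10774 (allL N10774 (tt N9550 (iv F204070)) (tt N8890 F130095) (tt N12880 (iv F186690)) (tt N12890 (iv F186785)) (tt N12787 (iv F185577)) (tt N8883 F130096) (tt N11902 (iv F176242)) (tt N12888 (iv F186778)) (tt N8948 F130097) (tt N8880 (iv D30687)))
theorem Q10776 : ∀ i, i < 10776 → P i := stepQ 10775 Q10775 (allL N10775 (tt N9530 (iv F203481)) (tt N8891 F130098) (tt N12891 D44758) (tt N8881 (iv D30688)) (tt N9504 (iv F203489)) (tt N12009 (iv F205289)) (tt N10775 F130099) (tt N8882 F130100) (tt N10775 F130101) (tt N12892 D44759))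
theorem Q10777 : ∀ i, i < 10777 → P i := stepQ 10776 Q10776 (allL N10776 (tt N9548 (iv F203482)) (tt N8892 F130102) (tt N12882 (iv F186697)) (tt N12892 (iv F186791)) (tt N8886 F130103) (tt N12888 (iv F186777)) (tt N10776 F130104) (tt N8883 F130105) (tt N8950 F130106) (tt N8881 (iv D30689)))
theorem Q10778 : ∀ i, i < 10778 → P i := stepQ 10777 Q10777 (allL N10777 (tt N9533 (iv F204087)) (tt N12893 D44760) (tt N8882 (iv D30690)) (tt N12883 (iv F186702)) (tt N9506 (iv F204089)) (tt N12889 (iv F186780)) (tt N8884 F130107) (tt N12891 (iv F186788)) (tt N10777 F130108) (tt N12894 D44761))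
theorem Q10779 : ∀ i, i < 10779 → P i := stepQ 10778 Q10778 (allL N10778 (tt N9536 (iv F204088)) (tt N8894 F130109) (tt N12894 (iv F186797)) (tt N8883 F130110) (tt N9507 (iv F204092)) (tt N12890 (iv F186786)) (tt N8885 F130111) (tt N12892 (iv F186793)) (tt N12895 D44762) (tt N8882 (iv D30691)))
theorem Q10780 : ∀ i, i < 10780 → P i := stepQ 10779 Q10779 (allL N10779 (tt N12896 D44763) (tt N8884 (iv D30692)) (tt N8895 F130112) (tt N12885 (iv F186711)) (tt N9508 (iv F204256)) (tt N11907 (iv F176263)) (tt N12893 (iv F186795)) (tt N10779 F130113) (tt N10779 F130114) (tt N12897 D44764))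
theorem Q10781 : ∀ i, i < 10781 → P i := stepQ 10780 Q10780 (allL N10780 (tt N9542 (iv F204220)) (tt N12897 (iv F186806)) (tt N8885 F130115) (tt N12886 (iv F186716)) (tt N9509 (iv F204252)) (tt N11908 (iv F176268)) (tt N12894 (iv F186798)) (tt N10780 F130116) (tt N12898 D44765) (tt N8884 (iv D30693)))
theorem Q10782 : ∀ i, i < 10782 → P i := stepQ 10781 Q10781 (allL N10781 (tt N9546 (iv F204223)) (tt N8897 F130117) (tt N12898 (iv F186809)) (tt N8955 F130118) (tt N9510 (iv F204254)) (tt N11909 (iv F176273)) (tt N12895 (iv F186801)) (tt N10781 F130119) (tt N8885 (iv D30694)) (tt N10781 F130120))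
theorem Q10783 : ∀ i, i < 10783 → P i := stepQ 10782 Q10782 (allL N10782 (tt N10782 F130129) (tt N12888 (iv F186776)) (tt N9200 F130130) (tt N12025 (iv F205295)) (tt N11877 (iv F205532)) (tt N8892 F130131) (tt N12855 (iv F205543)) (tt N8890 F130132) (tt N8958 F130133) (tt N8888 (iv D30697)))
theorem Q10784 : ∀ i, i < 10784 → P i := stepQ 10783 Q10783 (allL N10783 (tt N10783 F130134) (tt N12899 D44771) (tt N8889 (iv D30698)) (tt N9201 F130135) (tt N12020 (iv F205257)) (tt N8893 F130136) (tt N11913 (iv F176293)) (tt N12023 (iv F205293)) (tt N10783 F130137) (tt N12900 D44773))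
theorem Q10785 : ∀ i, i < 10785 → P i := stepQ 10784 Q10784 (allL N10784 (tt N10784 F130140) (tt N12890 (iv F186784)) (tt N12900 (iv F186840)) (tt N8890 F130141) (tt N12021 (iv F205263)) (tt N8894 F130142) (tt N11915 (iv F176302)) (tt N12025 (iv F205297)) (tt N12901 D44775) (tt N8889 (iv D30700)))
theorem Q10786 : ∀ i, i < 10786 → P i := stepQ 10785 Q10785 (allL N10785 (tt N10785 F130143) (tt N12902 D44776) (tt N8891 (iv D30701)) (tt N9204 F130144) (tt N11709 (iv F205110)) (tt N12023 (iv F205292)) (tt N10785 F130145) (tt N8893 F130146) (tt N10785 F130147) (tt N12903 D44777))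
theorem Q10787 : ∀ i, i < 10787 → P i := stepQ 10786 Q10786 (allL N10786 (tt N10786 F130148) (tt N12892 (iv F186790)) (tt N12903 (iv F186854)) (tt N8892 F130149) (tt N11710 (iv F205113)) (tt N12025 (iv F205296)) (tt N10786 F130150) (tt N8894 F130151) (tt N12904 D44778) (tt N8891 (iv D30702)))
theorem Q10788 : ∀ i, i < 10788 → P i := stepQ 10787 Q10787 (allL N10787 (tt N12905 D44779) (tt N8893 (iv D30703)) (tt N12893 (iv F186794)) (tt N9206 F130152) (tt N12864 (iv F186394)) (tt N12899 (iv F186834)) (tt N8895 F130153) (tt N12902 (iv F186851)) (tt N10787 F130154) (tt N12906 D44780))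
theorem Q10789 : ∀ i, i < 10789 → P i := stepQ 10788 Q10788 (allL N10788 (tt N10788 F130155) (tt N12906 (iv F186867)) (tt N8894 F130156) (tt N9207 F130157) (tt N12865 (iv F186400)) (tt N12900 (iv F186842)) (tt N8896 F130158) (tt N12903 (iv F186857)) (tt N12907 D44781) (tt N8893 (iv D30704)))
theorem Q10790 : ∀ i, i < 10790 → P i := stepQ 10789 Q10789 (allL N10789 (tt N10789 F130159) (tt N12895 (iv F186799)) (tt N12907 (iv F186871)) (tt N8966 F130160) (tt N12866 (iv F186404)) (tt N12901 (iv F186847)) (tt N8897 F130161) (tt N12904 (iv F186861)) (tt N8894 (iv D30705)) (tt N10789 F130162))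
theorem Q10791 : ∀ i, i < 10791 → P i := stepQ 10790 Q10790 (allL N10790 (tt N8895 (iv D30706)) (tt N10790 F130163) (tt N12896 (iv F186803)) (tt N9209 F130164) (tt N12867 (iv F186409)) (tt N11921 (iv F176331)) (tt N12905 (iv F186865)) (tt N10790 F130165) (tt N10790 F130166) (tt N12908 D44782))
theorem Q10792 : ∀ i, i < 10792 → P i := stepQ 10791 Q10791 (allL N10791 (tt N12908 (iv F186874)) (tt N8896 F130167) (tt N12897 (iv F186807)) (tt N9210 F130168) (tt N12868 (iv F186415)) (tt N11922 (iv F176337)) (tt N12906 (iv F186869)) (tt N10791 F130169) (tt N12909 D44783) (tt N8895 (iv D30707)))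
theorem Q10793 : ∀ i, i < 10793 → P i := stepQ 10792 Q10792 (allL N10792 (tt N10792 F130170) (tt N12909 (iv F186878)) (tt N8897 F130171) (tt N12910 D44784) (tt N12869 (iv F186420)) (tt N11923 (iv F176342)) (tt N12907 (iv F186872)) (tt N10792 F130172) (tt N8896 (iv D30708)) (tt N10792 F130173))
theorem Q10794 : ∀ i, i < 10794 → P i := stepQ 10793 Q10793 (allL N10793 (tt N9212 F130179) (tt N8904 F130180) (tt N9673 (iv F198755)) (tt N8899 F130181) (tt N9604 F130182) (tt N12911 D44787) (tt N8898 (iv D30710)) (tt N9645 (iv F198705)) (tt N12912 D44789) (tt N9618 F203006))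
theorem Q10795 : ∀ i, i < 10795 → P i := stepQ 10794 Q10794 (allL N10794 (tt N9213 F130183) (tt N8905 F130184) (tt N12393 (iv F203472)) (tt N12455 (iv F203474)) (tt N9605 F130185) (tt N11925 (iv F176358)) (tt N12912 (iv F186907)) (tt N10794 F130186) (tt N8898 (iv D30711)) (tt N12913 D44791))
theorem Q10796 : ∀ i, i < 10796 → P i := stepQ 10795 Q10795 (allL N10795 (tt N9214 F130187) (tt N8906 F130188) (tt N10795 F130189) (tt N12911 (iv F186898)) (tt N12790 (iv F185649)) (tt N8899 (iv D30712)) (tt N11926 (iv F176363)) (tt N12914 D44792) (tt N12915 D44793) (tt N9620 F203007))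
theorem Q10797 : ∀ i, i < 10797 → P i := stepQ 10796 Q10796 (allL N10796 (tt N9215 F130190) (tt N8907 F130191) (tt N10796 F130192) (tt N9645 (iv F198704)) (tt N8901 F130193) (tt N12914 (iv F186919)) (tt N10796 F130194) (tt N8899 (iv D30713)) (tt N12916 D44794) (tt N9619 F202295))
theorem Q10798 : ∀ i, i < 10798 → P i := stepQ 10797 Q10797 (allL N10797 (tt N9185 (iv F202736)) (tt N8908 F130196) (tt N10797 F130197) (tt N12917 D44795) (tt N8902 F130198) (tt N12915 (iv F186923)) (tt N8900 F130199) (tt N12916 (iv F186929)) (tt N8899 (iv D30714)) (tt N12918 D44796))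
theorem Q10799 : ∀ i, i < 10799 → P i := stepQ 10798 Q10798 (allL N10798 (tt N9181 (iv F202948)) (tt N8909 F130201) (tt N12443 (iv F203476)) (tt N8900 (iv D30715)) (tt N9161 (iv F202958)) (tt N11929 (iv F176376)) (tt N12917 (iv F186932)) (tt N10798 F130202) (tt N12455 (iv F203475)) (tt N12919 D44799))
theorem Q10800 : ∀ i, i < 10800 → P i := stepQ 10799 Q10799 (allL N10799 (tt N9187 (iv F202949)) (tt N8910 F130204) (tt N10799 F130205) (tt N12919 (iv F186947)) (tt N8903 F130206) (tt N11930 (iv F176382)) (tt N12918 (iv F186937)) (tt N10799 F130207) (tt N8942 (iv F202815)) (tt N8900 (iv D30716)))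
theorem Q10801 : ∀ i, i < 10801 → P i := stepQ 10800 Q10800 (allL N10800 (tt N9183 (iv F202603)) (tt N8911 F130209) (tt N10800 F130210) (tt N9163 (iv F202602)) (tt N12916 (iv F186927)) (tt N9629 F198234) (tt N10800 F130211) (tt N8902 F130212) (tt N8901 (iv D30717)) (tt N12920 D44801))
theorem Q10802 : ∀ i, i < 10802 → P i := stepQ 10801 Q10801 (allL N10801 (tt N9186 (iv F202738)) (tt N8913 F130218) (tt N10801 F130219) (tt N9164 (iv F202754)) (tt N12918 (iv F186936)) (tt N12794 (iv F185678)) (tt N8903 F130220) (tt N12920 (iv F186958)) (tt N8940 (iv F202702)) (tt N8902 (iv D30719)))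
theorem Q10803 : ∀ i, i < 10803 → P i := stepQ 10802 Q10802 (allL N10802 (tt N8924 F130258) (tt N12911 (iv F186897)) (tt N10802 F130259) (tt N8906 F130260) (tt N12871 (iv F197968)) (tt N8904 (iv D30728)) (tt N11939 (iv F176436)) (tt N12870 (iv F198715)) (tt N12921 D44819) (tt N9664 (iv F203451)))
theorem Q10804 : ∀ i, i < 10804 → P i := stepQ 10803 Q10803 (allL N10803 (tt N8925 F130261) (tt N9645 (iv F198703)) (tt N10803 F130262) (tt N8907 F130263) (tt N9599 F198236) (tt N12870 (iv F198714)) (tt N10803 F130265) (tt N8904 (iv D30729)) (tt N12922 D44820) (tt N9610 F198237))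
theorem Q10805 : ∀ i, i < 10805 → P i := stepQ 10804 Q10804 (allL N10804 (tt N8926 F130266) (tt N12912 (iv F186905)) (tt N10804 F130267) (tt N12923 D44821) (tt N9606 F130268) (tt N12921 (iv F187037)) (tt N8905 F130269) (tt N12922 (iv F187042)) (tt N8904 (iv D30730)) (tt N12924 D44822))
theorem Q10806 : ∀ i, i < 10806 → P i := stepQ 10805 Q10805 (allL N10805 (tt N8927 F130270) (tt N12455 (iv F203473)) (tt N12925 D44823) (tt N8905 (iv D30731)) (tt N12454 (iv F203071)) (tt N11942 (iv F176447)) (tt N12923 (iv F187044)) (tt N10805 F130271) (tt N8909 F130272) (tt N12926 D44825))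
theorem Q10807 : ∀ i, i < 10807 → P i := stepQ 10806 Q10806 (allL N10806 (tt N8928 F130273) (tt N12913 (iv F186913)) (tt N10806 F130274) (tt N12926 (iv F187059)) (tt N9608 F130275) (tt N11943 (iv F176453)) (tt N12924 (iv F187049)) (tt N10806 F130276) (tt N9663 (iv F203712)) (tt N8905 (iv D30732)))
theorem Q10808 : ∀ i, i < 10808 → P i := stepQ 10807 Q10807 (allL N10807 (tt N8929 F130277) (tt N12914 (iv F186917)) (tt N8916 F130278) (tt N12870 (iv F198713)) (tt N12776 (iv F197889)) (tt N8907 F130279) (tt N12927 D44826) (tt N8906 (iv D30733)) (tt N12928 D44827) (tt N9666 (iv F202501)))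
theorem Q10809 : ∀ i, i < 10809 → P i := stepQ 10808 Q10808 (allL N10808 (tt N8930 F130280) (tt N12915 (iv F186921)) (tt N8917 F130281) (tt N12929 D44828) (tt N12795 (iv F185731)) (tt N8908 F130282) (tt N11945 (iv F176461)) (tt N12928 (iv F187067)) (tt N8906 (iv D30734)) (tt N12930 D44829))
theorem Q10810 : ∀ i, i < 10810 → P i := stepQ 10809 Q10809 (allL N10809 (tt N8931 F130283) (tt N12916 (iv F186925)) (tt N8918 F130284) (tt N12931 D44830) (tt N8911 F130285) (tt N12928 (iv F187066)) (tt N10809 F130286) (tt N8908 F130287) (tt N8907 (iv D30735)) (tt N12932 D44831))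
theorem Q10811 : ∀ i, i < 10811 → P i := stepQ 10810 Q10810 (allL N10810 (tt N8932 F130288) (tt N12917 (iv F186931)) (tt N12933 D44832) (tt N8908 (iv D30736)) (tt N12934 D44833) (tt N12929 (iv F187069)) (tt N8909 F130289) (tt N12931 (iv F187075)) (tt N12923 (iv F187045)) (tt N12935 D44834))
theorem Q10812 : ∀ i, i < 10812 → P i := stepQ 10811 Q10811 (allL N10811 (tt N8933 F130290) (tt N12918 (iv F186934)) (tt N8920 F130291) (tt N12935 (iv F187088)) (tt N8913 F130292) (tt N12930 (iv F187072)) (tt N8910 F130293) (tt N12932 (iv F187080)) (tt N9266 (iv F203504)) (tt N8908 (iv D30737)))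
theorem Q10813 : ∀ i, i < 10813 → P i := stepQ 10812 Q10812 (allL N10812 (tt N8934 F130294) (tt N12936 D44835) (tt N8909 (iv D30738)) (tt N8921 F130295) (tt N12937 D44836) (tt N11949 (iv F176475)) (tt N12933 (iv F187083)) (tt N10812 F130296) (tt N12925 (iv F187053)) (tt N12938 D44837))
theorem Q10814 : ∀ i, i < 10814 → P i := stepQ 10813 Q10813 (allL N10813 (tt N8935 F130297) (tt N9161 (iv F202957)) (tt N12937 (iv F187093)) (tt N8914 F130298) (tt N8909 (iv D30739)) (tt N12416 (iv F203061)) (tt N12934 (iv F187086)) (tt N10813 F130299) (tt N12454 (iv F203072)) (tt N12939 D44839))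
theorem Q10815 : ∀ i, i < 10815 → P i := stepQ 10814 Q10814 (allL N10814 (tt N8936 F130300) (tt N12919 (iv F186946)) (tt N12938 (iv F187097)) (tt N8910 F130301) (tt N12939 (iv F187105)) (tt N11951 (iv F176482)) (tt N12935 (iv F187089)) (tt N10814 F130302) (tt N12940 D44840) (tt N8909 (iv D30740)))
theorem Q10816 : ∀ i, i < 10816 → P i := stepQ 10815 Q10815 (allL N10815 (tt N8937 F130303) (tt N9163 (iv F202601)) (tt N10815 F130304) (tt N8911 (iv D30741)) (tt N12941 D44841) (tt N9632 F202305) (tt N10815 F130305) (tt N8912 F130306) (tt N9157 F202306) (tt N12942 D44842))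
theorem Q10817 : ∀ i, i < 10817 → P i := stepQ 10816 Q10816 (allL N10816 (tt N8938 F130308) (tt N12920 (iv F186955)) (tt N8923 F130309) (tt N12942 (iv F187116)) (tt N12932 (iv F187078)) (tt N12800 (iv F185756)) (tt N10816 F130310) (tt N8913 F130311) (tt N9264 (iv F202612)) (tt N8911 (iv D30742)))
theorem Q10818 : ∀ i, i < 10818 → P i := stepQ 10817 Q10817 (allL N10817 (tt N8939 F130312) (tt N9160 (iv F202752)) (tt N10817 F130313) (tt N12934 (iv F187085)) (tt N8912 (iv D30743)) (tt N12943 D44843) (tt N8914 F130314) (tt N12941 (iv F187112)) (tt N9156 F202521) (tt N12944 D44844))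
theorem Q10819 : ∀ i, i < 10819 → P i := stepQ 10818 Q10818 (allL N10818 (tt N8940 F130316) (tt N9164 (iv F202753)) (tt N10818 F130317) (tt N8913 F130318) (tt N12944 (iv F187124)) (tt N12802 (iv F185765)) (tt N8915 F130319) (tt N12942 (iv F187118)) (tt N9186 (iv F202733)) (tt N8912 (iv D30744)))
theorem Q10820 : ∀ i, i < 10820 → P i := stepQ 10819 Q10819 (allL N10819 (tt N8942 F130325) (tt N9162 (iv F202959)) (tt N10819 F130326) (tt N12939 (iv F187104)) (tt N8915 F130327) (tt N12417 (iv F203065)) (tt N12944 (iv F187125)) (tt N10819 F130328) (tt N9187 (iv F202935)) (tt N8914 (iv D30746)))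
theorem Q10821 : ∀ i, i < 10821 → P i := stepQ 10820 Q10820 (allL N10820 (tt N8945 F130346) (tt N10820 F130347) (tt N12927 (iv F187062)) (tt N10820 F130348) (tt N12804 (iv F185792)) (tt N10820 F130349) (tt N8916 (iv D30751)) (tt N11961 (iv F176524)) (tt N12945 D44853) (tt N9712 (iv F203437)))
theorem Q10822 : ∀ i, i < 10822 → P i := stepQ 10821 Q10821 (allL N10821 (tt N8946 F130350) (tt N10821 F130351) (tt N12928 (iv F187065)) (tt N12946 D44854) (tt N12805 (iv F185795)) (tt N8918 F130352) (tt N12945 (iv F187162)) (tt N8917 F130353) (tt N8916 (iv D30752)) (tt N12947 D44855))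
theorem Q10823 : ∀ i, i < 10823 → P i := stepQ 10822 Q10822 (allL N10822 (tt N8947 F130354) (tt N10822 F130355) (tt N12948 D44856) (tt N8917 (iv D30753)) (tt N12949 D44857) (tt N8919 F130356) (tt N11963 (iv F176532)) (tt N12946 (iv F187166)) (tt N10822 F130357) (tt N12950 D44858))
theorem Q10824 : ∀ i, i < 10824 → P i := stepQ 10823 Q10823 (allL N10823 (tt N8948 F130358) (tt N10823 F130359) (tt N12930 (iv F187071)) (tt N12950 (iv F187181)) (tt N12807 (iv F185803)) (tt N8920 F130360) (tt N11964 (iv F176537)) (tt N12947 (iv F187171)) (tt N9550 (iv F204071)) (tt N8917 (iv D30754)))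
theorem Q10825 : ∀ i, i < 10825 → P i := stepQ 10824 Q10824 (allL N10824 (tt N8949 F130361) (tt N10824 F130362) (tt N12951 D44859) (tt N8918 (iv D30755)) (tt N10824 F130363) (tt N12946 (iv F187165)) (tt N10824 F130364) (tt N8919 F130365) (tt N10824 F130366) (tt N12952 D44860))
theorem Q10826 : ∀ i, i < 10826 → P i := stepQ 10825 Q10825 (allL N10825 (tt N8950 F130367) (tt N10825 F130368) (tt N12932 (iv F187077)) (tt N12952 (iv F187190)) (tt N8923 F130369) (tt N12947 (iv F187170)) (tt N10825 F130370) (tt N8920 F130371) (tt N9548 (iv F203483)) (tt N8918 (iv D30756)))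
theorem Q10827 : ∀ i, i < 10827 → P i := stepQ 10826 Q10826 (allL N10826 (tt N8951 F130372) (tt N12953 D44861) (tt N8919 (iv D30757)) (tt N12933 (iv F187082)) (tt N10826 F130373) (tt N12948 (iv F187173)) (tt N8921 F130374) (tt N12951 (iv F187186)) (tt N10826 F130375) (tt N12954 D44862))
theorem Q10828 : ∀ i, i < 10828 → P i := stepQ 10827 Q10827 (allL N10827 (tt N8952 F130376) (tt N10827 F130377) (tt N12954 (iv F187199)) (tt N8920 F130378) (tt N10827 F130379) (tt N12950 (iv F187182)) (tt N8922 F130380) (tt N12952 (iv F187193)) (tt N12955 D44863) (tt N8919 (iv D30758)))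
theorem Q10829 : ∀ i, i < 10829 → P i := stepQ 10828 Q10828 (allL N10828 (tt N12956 D44864) (tt N8921 (iv D30759)) (tt N10828 F130381) (tt N12936 (iv F187090)) (tt N10828 F130382) (tt N9591 (iv F204236)) (tt N12953 (iv F187196)) (tt N10828 F130383) (tt N10828 F130384) (tt N12957 D44865))
theorem Q10830 : ∀ i, i < 10830 → P i := stepQ 10829 Q10829 (allL N10829 (tt N8954 F130385) (tt N12957 (iv F187212)) (tt N8922 F130386) (tt N12938 (iv F187098)) (tt N10829 F130387) (tt N11968 (iv F176561)) (tt N12954 (iv F187201)) (tt N10829 F130388) (tt N12958 D44866) (tt N8921 (iv D30760)))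
theorem Q10831 : ∀ i, i < 10831 → P i := stepQ 10830 Q10830 (allL N10830 (tt N8955 F130389) (tt N10830 F130390) (tt N12958 (iv F187217)) (tt N9546 (iv F204224)) (tt N10830 F130391) (tt N11969 (iv F176565)) (tt N12955 (iv F187205)) (tt N10830 F130392) (tt N8922 (iv D30761)) (tt N10830 F130393))
theorem Q10832 : ∀ i, i < 10832 → P i := stepQ 10831 Q10831 (allL N10831 (tt N12871 (iv F197967)) (tt N9239 F130394) (tt N10831 F130395) (tt N9666 F203001) (tt N8924 (iv D30762)) (tt N9610 F130396) (tt N11970 (iv F176571)) (tt N9664 (iv F203450)) (tt N12959 D44868) (tt N12870 (iv F186647)))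
theorem Q10833 : ∀ i, i < 10833 → P i := stepQ 10832 Q10832 (allL N10832 (tt N12870 (iv F198712)) (tt N9240 F130397) (tt N10832 F130398) (tt N8929 F130399) (tt N9664 (iv F203449)) (tt N8925 F130400) (tt N12960 D44869) (tt N8924 (iv D30763)) (tt N12961 D44870) (tt N12871 (iv F186652)))
theorem Q10834 : ∀ i, i < 10834 → P i := stepQ 10833 Q10833 (allL N10833 (tt N12921 (iv F187035)) (tt N9241 F130401) (tt N10833 F130402) (tt N12962 D44871) (tt N12959 (iv F187227)) (tt N8926 F130403) (tt N11972 (iv F176579)) (tt N12961 (iv F187236)) (tt N8924 (iv D30764)) (tt N12963 D44872))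
theorem Q10835 : ∀ i, i < 10835 → P i := stepQ 10834 Q10834 (allL N10834 (tt N12922 (iv F187038)) (tt N9242 F130404) (tt N10834 F130405) (tt N12964 D44873) (tt N9612 F130406) (tt N12961 (iv F187235)) (tt N10834 F130407) (tt N8926 F130408) (tt N8925 (iv D30765)) (tt N12965 D44874))
theorem Q10836 : ∀ i, i < 10836 → P i := stepQ 10835 Q10835 (allL N10835 (tt N12923 (iv F187043)) (tt N9243 F130409) (tt N12966 D44875) (tt N8926 (iv D30766)) (tt N12967 D44876) (tt N12962 (iv F187238)) (tt N8927 F130410) (tt N12964 (iv F187245)) (tt N8932 F130411) (tt N12968 D44877))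
theorem Q10837 : ∀ i, i < 10837 → P i := stepQ 10836 Q10836 (allL N10836 (tt N12924 (iv F187046)) (tt N9244 F130412) (tt N10836 F130413) (tt N12968 (iv F187260)) (tt N9614 F130414) (tt N12963 (iv F187242)) (tt N8928 F130415) (tt N12965 (iv F187251)) (tt N12875 (iv F186668)) (tt N8926 (iv D30767)))
theorem Q10838 : ∀ i, i < 10838 → P i := stepQ 10837 Q10837 (allL N10837 (tt N12925 (iv F187050)) (tt N12969 D44878) (tt N8927 (iv D30768)) (tt N10837 F130416) (tt N12970 D44879) (tt N11976 (iv F176593)) (tt N12966 (iv F187253)) (tt N10837 F130417) (tt N8934 F130418) (tt N12971 D44880))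
theorem Q10839 : ∀ i, i < 10839 → P i := stepQ 10838 Q10838 (allL N10838 (tt N12454 (iv F203070)) (tt N9246 F130419) (tt N12970 (iv F187266)) (tt N9616 F130420) (tt N8927 (iv D30769)) (tt N12972 D44881) (tt N12967 (iv F187257)) (tt N10838 F130421) (tt N8935 F130422) (tt N12973 D44882))
theorem Q10840 : ∀ i, i < 10840 → P i := stepQ 10839 Q10839 (allL N10839 (tt N12926 (iv F187058)) (tt N9247 F130423) (tt N12971 (iv F187269)) (tt N8928 F130424) (tt N12973 (iv F187278)) (tt N11978 (iv F176602)) (tt N12968 (iv F187261)) (tt N10839 F130425) (tt N12974 D44883) (tt N8927 (iv D30770)))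
theorem Q10841 : ∀ i, i < 10841 → P i := stepQ 10840 Q10840 (allL N10840 (tt N12927 (iv F187061)) (tt N9248 F130426) (tt N8945 F130427) (tt N12960 (iv F187231)) (tt N12817 (iv F185854)) (tt N10840 F130428) (tt N8929 (iv D30771)) (tt N11979 (iv F176607)) (tt N12975 D44884) (tt N12877 (iv F186682)))
theorem Q10842 : ∀ i, i < 10842 → P i := stepQ 10841 Q10841 (allL N10841 (tt N12928 (iv F187064)) (tt N9249 F130429) (tt N8946 F130430) (tt N12976 D44885) (tt N12818 (iv F185857)) (tt N8931 F130431) (tt N12975 (iv F187286)) (tt N8930 F130432) (tt N8929 (iv D30772)) (tt N12977 D44886))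
theorem Q10843 : ∀ i, i < 10843 → P i := stepQ 10842 Q10842 (allL N10842 (tt N12929 (iv F187068)) (tt N9250 F130433) (tt N12978 D44887) (tt N8930 (iv D30773)) (tt N12979 D44888) (tt N8932 F130434) (tt N11981 (iv F176614)) (tt N12976 (iv F187289)) (tt N12962 (iv F187239)) (tt N12980 D44889))
theorem Q10844 : ∀ i, i < 10844 → P i := stepQ 10843 Q10843 (allL N10843 (tt N12930 (iv F187070)) (tt N9251 F130435) (tt N8948 F130436) (tt N12980 (iv F187298)) (tt N12820 (iv F185864)) (tt N8933 F130437) (tt N11982 (iv F176618)) (tt N12977 (iv F187293)) (tt N12880 (iv F186692)) (tt N8930 (iv D30774)))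
theorem Q10845 : ∀ i, i < 10845 → P i := stepQ 10844 Q10844 (allL N10844 (tt N12931 (iv F187073)) (tt N9252 F130438) (tt N12981 D44890) (tt N8931 (iv D30775)) (tt N12982 D44891) (tt N12976 (iv F187288)) (tt N10844 F130439) (tt N8932 F130440) (tt N12964 (iv F187246)) (tt N12983 D44892))
theorem Q10846 : ∀ i, i < 10846 → P i := stepQ 10845 Q10845 (allL N10845 (tt N12932 (iv F187076)) (tt N9253 F130441) (tt N8950 F130442) (tt N12983 (iv F187308)) (tt N8938 F130443) (tt N12977 (iv F187292)) (tt N10845 F130444) (tt N8933 F130445) (tt N12882 (iv F186701)) (tt N8931 (iv D30776)))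
theorem Q10847 : ∀ i, i < 10847 → P i := stepQ 10846 Q10846 (allL N10846 (tt N12933 (iv F187081)) (tt N12984 D44893) (tt N8932 (iv D30777)) (tt N8951 F130446) (tt N12985 D44894) (tt N12978 (iv F187295)) (tt N8934 F130447) (tt N12981 (iv F187302)) (tt N12966 (iv F187254)) (tt N12986 D44895))
theorem Q10848 : ∀ i, i < 10848 → P i := stepQ 10847 Q10847 (allL N10847 (tt N12934 (iv F187084)) (tt N9255 F130448) (tt N12985 (iv F187314)) (tt N8939 F130449) (tt N8932 (iv D30778)) (tt N12987 D44896) (tt N8935 F130450) (tt N12982 (iv F187306)) (tt N12967 (iv F187258)) (tt N12988 D44897))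
theorem Q10849 : ∀ i, i < 10849 → P i := stepQ 10848 Q10848 (allL N10848 (tt N12935 (iv F187087)) (tt N9256 F130451) (tt N12986 (iv F187317)) (tt N8933 F130452) (tt N12988 (iv F187324)) (tt N12980 (iv F187299)) (tt N8936 F130453) (tt N12983 (iv F187310)) (tt N12989 D44898) (tt N8932 (iv D30779)))
theorem Q10850 : ∀ i, i < 10850 → P i := stepQ 10849 Q10849 (allL N10849 (tt N12990 D44899) (tt N8934 (iv D30780)) (tt N9257 F130454) (tt N8953 F130455) (tt N12991 D44900) (tt N11988 (iv F176637)) (tt N12984 (iv F187313)) (tt N10849 F130456) (tt N12969 (iv F187265)) (tt N12992 D44901))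
theorem Q10851 : ∀ i, i < 10851 → P i := stepQ 10850 Q10850 (allL N10850 (tt N12937 (iv F187092)) (tt N12991 (iv F187331)) (tt N8935 F130457) (tt N10850 F130458) (tt N8934 (iv D30781)) (tt N12993 D44902) (tt N12985 (iv F187316)) (tt N10850 F130459) (tt N12970 (iv F187268)) (tt N12994 D44903))
theorem Q10852 : ∀ i, i < 10852 → P i := stepQ 10851 Q10851 (allL N10851 (tt N12938 (iv F187096)) (tt N12992 (iv F187335)) (tt N8936 F130460) (tt N8954 F130461) (tt N12994 (iv F187344)) (tt N11990 (iv F176643)) (tt N12986 (iv F187319)) (tt N10851 F130462) (tt N12995 D44904) (tt N8934 (iv D30782)))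
theorem Q10853 : ∀ i, i < 10853 → P i := stepQ 10852 Q10852 (allL N10852 (tt N12416 (iv F203060)) (tt N9260 F130463) (tt N12993 (iv F187339)) (tt N8941 F130464) (tt N11991 (iv F176647)) (tt N8935 (iv D30783)) (tt N12996 D44905) (tt N10852 F130465) (tt N12972 (iv F187275)) (tt N12997 D44906))
theorem Q10854 : ∀ i, i < 10854 → P i := stepQ 10853 Q10853 (allL N10853 (tt N12939 (iv F187103)) (tt N9261 F130466) (tt N12994 (iv F187342)) (tt N8942 F130467) (tt N8936 F130468) (tt N12997 (iv F187352)) (tt N12988 (iv F187325)) (tt N10853 F130469) (tt N12998 D44907) (tt N8935 (iv D30784)))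
theorem Q10855 : ∀ i, i < 10855 → P i := stepQ 10854 Q10854 (allL N10854 (tt N12940 (iv F187107)) (tt N9262 F130470) (tt N12995 (iv F187346)) (tt N12887 (iv F186726)) (tt N12998 (iv F187355)) (tt N11993 (iv F176654)) (tt N12989 (iv F187327)) (tt N10854 F130471) (tt N8936 (iv D30785)) (tt N12974 (iv F187282)))
theorem Q10856 : ∀ i, i < 10856 → P i := stepQ 10855 Q10855 (allL N10855 (tt N12941 (iv F187109)) (tt N9263 F130472) (tt N10855 F130473) (tt N12982 (iv F187304)) (tt N8937 (iv D30786)) (tt N12999 D44908) (tt N10855 F130474) (tt N8939 F130475) (tt N9619 F130476) (tt N13000 D44909))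
theorem Q10857 : ∀ i, i < 10857 → P i := stepQ 10856 Q10856 (allL N10856 (tt N12942 (iv F187114)) (tt N9264 F130477) (tt N10856 F130478) (tt N8938 F130479) (tt N13000 (iv F187363)) (tt N9634 F202520) (tt N10856 F130480) (tt N8940 F130481) (tt N12920 (iv F202732)) (tt N8937 (iv D30787)))
theorem Q10858 : ∀ i, i < 10858 → P i := stepQ 10857 Q10857 (allL N10857 (tt N12943 (iv F187119)) (tt N9265 F130482) (tt N10857 F130483) (tt N12987 (iv F187321)) (tt N12832 (iv F185903)) (tt N8939 (iv D30788)) (tt N13001 D44911) (tt N12999 (iv F187359)) (tt N9620 F130484) (tt N13002 D44912))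
theorem Q10859 : ∀ i, i < 10859 → P i := stepQ 10858 Q10858 (allL N10858 (tt N12944 (iv F187122)) (tt N9266 F130485) (tt N10858 F130486) (tt N12988 (iv F187323)) (tt N8940 F130487) (tt N13002 (iv F187377)) (tt N8942 F130488) (tt N13000 (iv F187365)) (tt N12918 (iv F203008)) (tt N8939 (iv D30789)))
theorem Q10860 : ∀ i, i < 10860 → P i := stepQ 10859 Q10859 (allL N10859 (tt N12415 (iv F203066)) (tt N9267 F130493) (tt N10859 F130494) (tt N12996 (iv F187349)) (tt N8943 F130495) (tt N13001 (iv F187373)) (tt N8941 (iv D30791)) (tt N13003 D44914) (tt N9621 F130496) (tt N13004 D44915))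
theorem Q10861 : ∀ i, i < 10861 → P i := stepQ 10860 Q10860 (allL N10860 (tt N12417 (iv F203064)) (tt N9268 F130497) (tt N10860 F130498) (tt N12997 (iv F187351)) (tt N8944 F130499) (tt N8942 F130500) (tt N13004 (iv F187391)) (tt N10860 F130501) (tt N11930 (iv F203038)) (tt N8941 (iv D30792)))
theorem Q10862 : ∀ i, i < 10862 → P i := stepQ 10861 Q10861 (allL N10861 (tt N12418 (iv F203068)) (tt N9269 F130507) (tt N10861 F130508) (tt N12002 (iv F176684)) (tt N13003 (iv F187385)) (tt N12836 (iv F185928)) (tt N10861 F130509) (tt N8943 (iv D30794)) (tt N9622 F130510) (tt N13005 D44918))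
theorem Q10863 : ∀ i, i < 10863 → P i := stepQ 10862 Q10862 (allL N10862 (tt N12419 (iv F203067)) (tt N9270 F130511) (tt N10862 F130512) (tt N12003 (iv F176688)) (tt N13004 (iv F187390)) (tt N12837 (iv F185932)) (tt N8944 F130513) (tt N13005 (iv F187404)) (tt N11933 (iv F203036)) (tt N8943 (iv D30795)))
theorem Q10864 : ∀ i, i < 10864 → P i := stepQ 10863 Q10863 (allL N10863 (tt N12945 (iv F187159)) (tt N8956 F130522) (tt N12975 (iv F187284)) (tt N13006 D44922) (tt N12838 (iv F185942)) (tt N10863 F130523) (tt N8946 F130524) (tt N12005 (iv F176701)) (tt N8945 (iv D30798)) (tt N13007 D44923))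
theorem Q10865 : ∀ i, i < 10865 → P i := stepQ 10864 Q10864 (allL N10864 (tt N12946 (iv F187163)) (tt N8957 F130525) (tt N13008 D44924) (tt N8946 (iv D30799)) (tt N13009 D44925) (tt N8949 F130526) (tt N13006 (iv F187418)) (tt N8947 F130527) (tt N10864 F130528) (tt N13010 D44926))
theorem Q10866 : ∀ i, i < 10866 → P i := stepQ 10865 Q10865 (allL N10865 (tt N12947 (iv F187168)) (tt N8958 F130529) (tt N12977 (iv F187291)) (tt N13010 (iv F187431)) (tt N12840 (iv F185948)) (tt N8950 F130530) (tt N13007 (iv F187422)) (tt N8948 F130531) (tt N12888 (iv F186779)) (tt N8946 (iv D30800)))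
theorem Q10867 : ∀ i, i < 10867 → P i := stepQ 10866 Q10866 (allL N10866 (tt N12948 (iv F187172)) (tt N13011 D44927) (tt N8947 (iv D30801)) (tt N12978 (iv F187294)) (tt N13012 D44928) (tt N8951 F130532) (tt N12008 (iv F176710)) (tt N13008 (iv F187424)) (tt N10866 F130533) (tt N13013 D44929))
theorem Q10868 : ∀ i, i < 10868 → P i := stepQ 10867 Q10867 (allL N10867 (tt N12949 (iv F187175)) (tt N8960 F130534) (tt N13012 (iv F187437)) (tt N12842 (iv F185953)) (tt N8947 (iv D30802)) (tt N10867 F130535) (tt N12009 (iv F176713)) (tt N13009 (iv F187428)) (tt N10867 F130536) (tt N13014 D44930))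
theorem Q10869 : ∀ i, i < 10869 → P i := stepQ 10868 Q10868 (allL N10868 (tt N12950 (iv F187179)) (tt N8961 F130537) (tt N13013 (iv F187440)) (tt N8948 F130538) (tt N13014 (iv F187443)) (tt N8952 F130539) (tt N12010 (iv F176718)) (tt N13010 (iv F187433)) (tt N13015 D44931) (tt N8947 (iv D30803)))
theorem Q10870 : ∀ i, i < 10870 → P i := stepQ 10869 Q10869 (allL N10869 (tt N12951 (iv F187183)) (tt N13016 D44932) (tt N8949 (iv D30804)) (tt N12981 (iv F187300)) (tt N10869 F130540) (tt N13008 (iv F187423)) (tt N10869 F130541) (tt N8951 F130542) (tt N10869 F130543) (tt N13017 D44933))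
theorem Q10871 : ∀ i, i < 10871 → P i := stepQ 10870 Q10870 (allL N10870 (tt N12952 (iv F187188)) (tt N8963 F130544) (tt N13017 (iv F187453)) (tt N8950 F130545) (tt N10870 F130546) (tt N13010 (iv F187432)) (tt N10870 F130547) (tt N8952 F130548) (tt N13018 D44934) (tt N8949 (iv D30805)))
theorem Q10872 : ∀ i, i < 10872 → P i := stepQ 10871 Q10871 (allL N10871 (tt N13019 D44935) (tt N8951 (iv D30806)) (tt N8964 F130549) (tt N12984 (iv F187312)) (tt N10871 F130550) (tt N13011 (iv F187435)) (tt N8953 F130551) (tt N13016 (iv F187451)) (tt N10871 F130552) (tt N13020 D44936))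
theorem Q10873 : ∀ i, i < 10873 → P i := stepQ 10872 Q10872 (allL N10872 (tt N12954 (iv F187198)) (tt N13020 (iv F187466)) (tt N8952 F130553) (tt N12986 (iv F187318)) (tt N10872 F130554) (tt N13013 (iv F187441)) (tt N8954 F130555) (tt N13017 (iv F187456)) (tt N13021 D44937) (tt N8951 (iv D30807)))
theorem Q10874 : ∀ i, i < 10874 → P i := stepQ 10873 Q10873 (allL N10873 (tt N12955 (iv F187202)) (tt N8966 F130556) (tt N13021 (iv F187470)) (tt N12895 (iv F186800)) (tt N10873 F130557) (tt N13015 (iv F187446)) (tt N8955 F130558) (tt N13018 (iv F187460)) (tt N8952 (iv D30808)) (tt N10873 F130559))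
theorem Q10875 : ∀ i, i < 10875 → P i := stepQ 10874 Q10874 (allL N10874 (tt N8953 (iv D30809)) (tt N12956 (iv F187207)) (tt N8967 F130560) (tt N12990 (iv F187329)) (tt N10874 F130561) (tt N12016 (iv F176735)) (tt N13019 (iv F187464)) (tt N10874 F130562) (tt N10874 F130563) (tt N13022 D44938))
theorem Q10876 : ∀ i, i < 10876 → P i := stepQ 10875 Q10875 (allL N10875 (tt N13022 (iv F187474)) (tt N8954 F130564) (tt N8968 F130565) (tt N12992 (iv F187337)) (tt N10875 F130566) (tt N12017 (iv F176740)) (tt N13020 (iv F187469)) (tt N10875 F130567) (tt N13023 D44939) (tt N8953 (iv D30810)))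
theorem Q10877 : ∀ i, i < 10877 → P i := stepQ 10876 Q10876 (allL N10876 (tt N12958 (iv F187216)) (tt N13023 (iv F187478)) (tt N8955 F130568) (tt N13024 D44940) (tt N10876 F130569) (tt N12018 (iv F176743)) (tt N13021 (iv F187472)) (tt N10876 F130570) (tt N8954 (iv D30811)) (tt N10876 F130571))
theorem Q10878 : ∀ i, i < 10878 → P i := stepQ 10877 Q10877 (allL N10877 (tt N10877 F130572) (tt N13006 (iv F187416)) (tt N12723 (iv F204582)) (tt N8956 (iv D30812)) (tt N11911 (iv F206428)) (tt N10877 F130573) (tt N8957 F130574) (tt N11914 (iv F205262)) (tt N10877 F130575) (tt N13025 D44943))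
theorem Q10879 : ∀ i, i < 10879 → P i := stepQ 10878 Q10878 (allL N10878 (tt N10878 F130576) (tt N13007 (iv F187420)) (tt N9286 F130577) (tt N13025 (iv F187494)) (tt N12851 (iv F185984)) (tt N10878 F130578) (tt N8958 F130579) (tt N12019 (iv F176755)) (tt N12855 (iv F205544)) (tt N8956 (iv D30813)))
theorem Q10880 : ∀ i, i < 10880 → P i := stepQ 10879 Q10879 (allL N10879 (tt N10879 F130580) (tt N13026 D44944) (tt N8957 (iv D30814)) (tt N9287 F130581) (tt N13027 D44945) (tt N8962 F130582) (tt N12723 F204622) (tt N8959 F130583) (tt N10879 F130584) (tt N13028 D44946))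
theorem Q10881 : ∀ i, i < 10881 → P i := stepQ 10880 Q10880 (allL N10880 (tt N10880 F130585) (tt N13009 (iv F187426)) (tt N13027 (iv F187502)) (tt N11910 (iv F205538)) (tt N8957 (iv D30815)) (tt N10880 F130586) (tt N11911 (iv F206429)) (tt N8960 F130587) (tt N10880 F130588) (tt N13029 D44947))
theorem Q10882 : ∀ i, i < 10882 → P i := stepQ 10881 Q10881 (allL N10881 (tt N10881 F130589) (tt N13010 (iv F187430)) (tt N13028 (iv F187507)) (tt N8958 F130590) (tt N13029 (iv F187512)) (tt N8963 F130591) (tt N13025 (iv F187496)) (tt N8961 F130592) (tt N13030 D44948) (tt N8957 (iv D30816)))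
theorem Q10883 : ∀ i, i < 10883 → P i := stepQ 10882 Q10882 (allL N10882 (tt N13031 D44949) (tt N8959 (iv D30817)) (tt N13011 (iv F187434)) (tt N9290 F130593) (tt N13032 D44950) (tt N8964 F130594) (tt N12022 (iv F176770)) (tt N13026 (iv F187499)) (tt N10882 F130595) (tt N13033 D44951))
theorem Q10884 : ∀ i, i < 10884 → P i := stepQ 10883 Q10883 (allL N10883 (tt N10883 F130596) (tt N13032 (iv F187523)) (tt N8960 F130597) (tt N13034 D44952) (tt N8959 (iv D30818)) (tt N10883 F130598) (tt N12023 (iv F176774)) (tt N13027 (iv F187504)) (tt N10883 F130599) (tt N13035 D44953))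
theorem Q10885 : ∀ i, i < 10885 → P i := stepQ 10884 Q10884 (allL N10884 (tt N10884 F130600) (tt N13033 (iv F187526)) (tt N8961 F130601) (tt N9292 F130602) (tt N13035 (iv F187534)) (tt N8965 F130603) (tt N12024 (iv F176780)) (tt N13028 (iv F187510)) (tt N13036 D44954) (tt N8959 (iv D30819)))
theorem Q10886 : ∀ i, i < 10886 → P i := stepQ 10885 Q10885 (allL N10885 (tt N10885 F130604) (tt N13014 (iv F187442)) (tt N13035 (iv F187533)) (tt N12855 (iv F186008)) (tt N8961 F130605) (tt N10885 F130606) (tt N12025 (iv F176783)) (tt N13029 (iv F187514)) (tt N13037 D44955) (tt N8960 (iv D30820)))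
theorem Q10887 : ∀ i, i < 10887 → P i := stepQ 10886 Q10886 (allL N10886 (tt N10886 F130607) (tt N13015 (iv F187445)) (tt N13036 (iv F187537)) (tt N12901 (iv F186846)) (tt N13037 (iv F187541)) (tt N8966 F130608) (tt N12026 (iv F176786)) (tt N13030 (iv F187517)) (tt N8961 (iv D30821)) (tt N10886 F130609))
theorem Q10888 : ∀ i, i < 10888 → P i := stepQ 10887 Q10887 (allL N10887 (tt N13038 D44956) (tt N8962 (iv D30822)) (tt N13016 (iv F187448)) (tt N9295 F130610) (tt N10887 F130611) (tt N13026 (iv F187498)) (tt N10887 F130612) (tt N8964 F130613) (tt N10887 F130614) (tt N13039 D44957))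
theorem Q10889 : ∀ i, i < 10889 → P i := stepQ 10888 Q10888 (allL N10888 (tt N10888 F130615) (tt N13039 (iv F187550)) (tt N8963 F130616) (tt N9296 F130617) (tt N10888 F130618) (tt N13028 (iv F187509)) (tt N10888 F130619) (tt N8965 F130620) (tt N13040 D44958) (tt N8962 (iv D30823)))
theorem Q10890 : ∀ i, i < 10890 → P i := stepQ 10889 Q10889 (allL N10889 (tt N10889 F130621) (tt N13018 (iv F187457)) (tt N13040 (iv F187556)) (tt N12904 (iv F186859)) (tt N10889 F130622) (tt N13030 (iv F187516)) (tt N10889 F130623) (tt N8966 F130624) (tt N8963 (iv D30824)) (tt N10889 F130625))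
theorem Q10891 : ∀ i, i < 10891 → P i := stepQ 10890 Q10890 (allL N10890 (tt N8964 (iv D30825)) (tt N10890 F130626) (tt N13019 (iv F187462)) (tt N9298 F130627) (tt N10890 F130628) (tt N13031 (iv F187521)) (tt N8967 F130629) (tt N13038 (iv F187548)) (tt N10890 F130630) (tt N13041 D44959))
theorem Q10892 : ∀ i, i < 10892 → P i := stepQ 10891 Q10891 (allL N10891 (tt N13041 (iv F187561)) (tt N8965 F130631) (tt N13020 (iv F187467)) (tt N9299 F130632) (tt N10891 F130633) (tt N13033 (iv F187528)) (tt N8968 F130634) (tt N13039 (iv F187554)) (tt N13042 D44960) (tt N8964 (iv D30826)))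
theorem Q10893 : ∀ i, i < 10893 → P i := stepQ 10892 Q10892 (allL N10892 (tt N10892 F130635) (tt N13042 (iv F187566)) (tt N8966 F130636) (tt N13043 D44961) (tt N10892 F130637) (tt N13036 (iv F187538)) (tt N8969 F130638) (tt N13040 (iv F187559)) (tt N8965 (iv D30827)) (tt N10892 F130639))
theorem Q10894 : ∀ i, i < 10894 → P i := stepQ 10893 Q10893 (allL N10893 (tt N8968 F130640) (tt N10893 F130641) (tt N13022 (iv F187475)) (tt N9301 F130642) (tt N10893 F130643) (tt N12033 (iv F176815)) (tt N13041 (iv F187565)) (tt N10893 F130644) (tt N13044 D44962) (tt N8967 (iv D30828)))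
theorem Q10895 : ∀ i, i < 10895 → P i := stepQ 10894 Q10894 (allL N10894 (tt N13044 (iv F187574)) (tt N8969 F130645) (tt N13023 (iv F187479)) (tt N13045 D44963) (tt N10894 F130646) (tt N12034 (iv F176818)) (tt N13042 (iv F187568)) (tt N10894 F130647) (tt N8968 (iv D30829)) (tt N10894 F130648))
theorem Q10896 : ∀ i, i < 10896 → P i := stepQ 10895 Q10895 (allL N10895 (tt N10895 F130649) (tt N13045 (iv F187579)) (tt N12910 (iv F186882)) (tt N8969 (iv D30830)) (tt N13046 D44964) (tt N12035 (iv F176822)) (tt N13043 (iv F187571)) (tt N10895 F130650) (tt N9303 F130651) (tt N10895 F130652))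
theorem Q10897 : ∀ i, i < 10897 → P i := stepQ 10896 Q10896 (allL N10896 (tt N9013 F197376) (tt N8971 F130653) (tt N10896 F130654) (tt N9001 F197377) (tt N8970 (iv D30831)) (tt N12057 (iv F177014)) (tt N9000 F197378) (tt N9046 F130655) (tt N12749 (iv F201339)) (tt N8998 F130656))
theorem Q10898 : ∀ i, i < 10898 → P i := stepQ 10897 Q10897 (allL N10897 (tt N8980 F130675) (tt N9001 F197403) (tt N10897 F130676) (tt N8971 (iv D30836)) (tt N8999 F197404) (tt N12061 (iv F177039)) (tt N8998 F197405) (tt N9048 F130678) (tt N13047 D44976) (tt N9000 F130679))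
theorem Q10899 : ∀ i, i < 10899 → P i := stepQ 10898 Q10898 (allL N10898 (tt N8981 F130680) (tt N9000 (iv F197058)) (tt N8975 F130681) (tt N8998 (iv F197106)) (tt N8972 F130682) (tt N12108 (iv F197109)) (tt N8971 (iv D30837)) (tt N9090 (iv F197088)) (tt N13048 D44979) (tt N9001 F130683))
theorem Q10900 : ∀ i, i < 10900 → P i := stepQ 10899 Q10899 (allL N10899 (tt N8982 F130684) (tt N12749 (iv F201337)) (tt N8976 F130685) (tt N13049 D44980) (tt N8973 F130686) (tt N12063 (iv F177049)) (tt N13048 (iv F187653)) (tt N9050 F130687) (tt N8971 (iv D30838)) (tt N13050 D44981))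
theorem Q10901 : ∀ i, i < 10901 → P i := stepQ 10900 Q10900 (allL N10900 (tt N8984 F130694) (tt N9624 (iv F197059)) (tt N8978 F130695) (tt N9623 F201369) (tt N13048 (iv F187652)) (tt N10900 F130696) (tt N8973 F130697) (tt N9630 (iv F201724)) (tt N8972 (iv D30840)) (tt N13051 D44984))
theorem Q10902 : ∀ i, i < 10902 → P i := stepQ 10901 Q10901 (allL N10901 (tt N8986 F130703) (tt N12750 (iv F201340)) (tt N8979 F130704) (tt N12745 (iv F201347)) (tt N13050 (iv F187658)) (tt N8974 F130705) (tt N13051 (iv F187674)) (tt N9053 F130706) (tt N9005 F130707) (tt N8973 (iv D30842)))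
theorem Q10903 : ∀ i, i < 10903 → P i := stepQ 10902 Q10902 (allL N10902 (tt N8988 F130718) (tt N10902 F130719) (tt N12108 (iv F197108)) (tt N10902 F130720) (tt N10902 F130721) (tt N8975 (iv D30845)) (tt N12069 (iv F177083)) (tt N12279 (iv F197118)) (tt N12774 (iv F206182)) (tt N9006 F130722))
theorem Q10904 : ∀ i, i < 10904 → P i := stepQ 10903 Q10903 (allL N10903 (tt N8989 F130723) (tt N10903 F130724) (tt N9090 (iv F197087)) (tt N10903 F130725) (tt N8977 F130726) (tt N12279 (iv F197117)) (tt N9055 F130727) (tt N8975 (iv D30846)) (tt N11878 (iv F205909)) (tt N9007 F130728))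
theorem Q10905 : ∀ i, i < 10905 → P i := stepQ 10904 Q10904 (allL N10904 (tt N8990 F130729) (tt N10904 F130730) (tt N13048 (iv F187651)) (tt N12166 (iv F206173)) (tt N8978 F130731) (tt N12774 (iv F206181)) (tt N8976 F130732) (tt N11878 (iv F205908)) (tt N8975 (iv D30847)) (tt N13052 D44994))
theorem Q10906 : ∀ i, i < 10906 → P i := stepQ 10905 Q10905 (allL N10905 (tt N8991 F130733) (tt N10905 F130734) (tt N13053 D44995) (tt N8976 (iv D30848)) (tt N10905 F130735) (tt N12072 (iv F177097)) (tt N12166 (iv F206174)) (tt N9057 F130736) (tt N10905 F130737) (tt N13054 D44996))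
theorem Q10907 : ∀ i, i < 10907 → P i := stepQ 10906 Q10906 (allL N10906 (tt N8992 F130738) (tt N10906 F130739) (tt N13050 (iv F187657)) (tt N13054 (iv F187731)) (tt N8979 F130740) (tt N12073 (iv F177103)) (tt N13052 (iv F187723)) (tt N9058 F130741) (tt N9010 F130742) (tt N8976 (iv D30849)))
theorem Q10908 : ∀ i, i < 10908 → P i := stepQ 10907 Q10907 (allL N10907 (tt N8993 F130743) (tt N10907 F130744) (tt N9630 (iv F201723)) (tt N10907 F130745) (tt N11878 (iv F205906)) (tt N10907 F130746) (tt N9059 F130747) (tt N8978 F130748) (tt N8977 (iv D30850)) (tt N13055 D44997))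
theorem Q10909 : ∀ i, i < 10909 → P i := stepQ 10908 Q10908 (allL N10908 (tt N8994 F130749) (tt N10908 F130750) (tt N13051 (iv F187672)) (tt N10908 F130751) (tt N13052 (iv F187722)) (tt N10908 F130752) (tt N8979 F130753) (tt N13055 (iv F187739)) (tt N9012 F130754) (tt N8978 (iv D30851)))
theorem Q10910 : ∀ i, i < 10910 → P i := stepQ 10909 Q10909 (allL N10909 (tt N13047 (iv F187637)) (tt N12740 (iv F184686)) (tt N10909 F130759) (tt N13056 D45001) (tt N9623 F130760) (tt N12077 (iv F177122)) (tt N12744 (iv F197115)) (tt N9062 F130761) (tt N8980 (iv D30853)) (tt N13057 D45002))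
theorem Q10911 : ∀ i, i < 10911 → P i := stepQ 10910 Q10910 (allL N10910 (tt N12108 (iv F197107)) (tt N11763 (iv F196418)) (tt N8988 F130762) (tt N11758 (iv F197113)) (tt N10910 F130763) (tt N8981 (iv D30854)) (tt N12078 (iv F177126)) (tt N11819 (iv F197094)) (tt N12772 (iv F206184)) (tt N9015 F130764))
theorem Q10912 : ∀ i, i < 10912 → P i := stepQ 10911 Q10911 (allL N10911 (tt N13048 (iv F187650)) (tt N11785 (iv F205567)) (tt N8990 F130769) (tt N13058 D45006) (tt N8984 F130770) (tt N12772 (iv F206183)) (tt N8982 F130771) (tt N11873 (iv F205561)) (tt N8981 (iv D30856)) (tt N13059 D45007))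
theorem Q10913 : ∀ i, i < 10913 → P i := stepQ 10912 Q10912 (allL N10912 (tt N13049 (iv F187654)) (tt N12741 (iv F184702)) (tt N13060 D45008) (tt N8982 (iv D30857)) (tt N13061 D45009) (tt N12081 (iv F177135)) (tt N13058 (iv F187769)) (tt N9066 F130772) (tt N13056 (iv F187753)) (tt N13062 D45010))
theorem Q10914 : ∀ i, i < 10914 → P i := stepQ 10913 Q10913 (allL N10913 (tt N13050 (iv F187656)) (tt N12742 (iv F184704)) (tt N8992 F130773) (tt N13062 (iv F187778)) (tt N8986 F130774) (tt N12082 (iv F177139)) (tt N13059 (iv F187772)) (tt N9067 F130775) (tt N9019 F130776) (tt N8982 (iv D30858)))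
theorem Q10915 : ∀ i, i < 10915 → P i := stepQ 10914 Q10914 (allL N10914 (tt N9630 (iv F201721)) (tt N9595 F196667) (tt N8993 F130777) (tt N9628 (iv F201725)) (tt N11873 (iv F205559)) (tt N10914 F130778) (tt N9068 F130779) (tt N8984 F130780) (tt N8983 (iv D30859)) (tt N13063 D45012))
theorem Q10916 : ∀ i, i < 10916 → P i := stepQ 10915 Q10915 (allL N10915 (tt N9623 F201372) (tt N9004 F201373) (tt N10915 F130781) (tt N8984 (iv D30860)) (tt N13047 (iv F201736)) (tt N10915 F130782) (tt N8985 F130783) (tt N9628 (iv F201726)) (tt N8999 F201374) (tt N13064 D45014))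
theorem Q10917 : ∀ i, i < 10917 → P i := stepQ 10916 Q10916 (allL N10916 (tt N13051 (iv F187671)) (tt N12743 (iv F184718)) (tt N8994 F130785) (tt N13064 (iv F187794)) (tt N13059 (iv F187771)) (tt N10916 F130786) (tt N8986 F130787) (tt N13063 (iv F187788)) (tt N9022 F130788) (tt N8984 (iv D30861)))
theorem Q10918 : ∀ i, i < 10918 → P i := stepQ 10917 Q10917 (allL N10917 (tt N12744 F201469) (tt N9002 (iv F201766)) (tt N10917 F130789) (tt N13061 (iv F187776)) (tt N8985 (iv D30862)) (tt N12110 (iv F201901)) (tt N13047 (iv F201737)) (tt N9071 F130790) (tt N8998 F201470) (tt N13065 D45016))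
theorem Q10919 : ∀ i, i < 10919 → P i := stepQ 10918 Q10918 (allL N10918 (tt N12745 F201471) (tt N9005 (iv F201769)) (tt N10918 F130792) (tt N8986 F130793) (tt N13065 (iv F187802)) (tt N8987 F130794) (tt N13064 (iv F187796)) (tt N9072 F130795) (tt N12750 (iv F201334)) (tt N8985 (iv D30863)))
theorem Q10920 : ∀ i, i < 10920 → P i := stepQ 10919 Q10919 (allL N10919 (tt N13052 (iv F187720)) (tt N8995 F130824) (tt N13059 (iv F187770)) (tt N12167 (iv F206176)) (tt N8994 F130825) (tt N12775 (iv F206189)) (tt N8992 F130826) (tt N11879 (iv F205914)) (tt N9031 F130827) (tt N8990 (iv D30871)))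
theorem Q10921 : ∀ i, i < 10921 → P i := stepQ 10920 Q10920 (allL N10920 (tt N13053 (iv F187725)) (tt N12160 (iv F206138)) (tt N8991 (iv D30872)) (tt N13060 (iv F187774)) (tt N10920 F130828) (tt N12096 (iv F177189)) (tt N12162 (iv F206175)) (tt N9078 F130829) (tt N10920 F130830) (tt N13066 D45030))
theorem Q10922 : ∀ i, i < 10922 → P i := stepQ 10921 Q10921 (allL N10921 (tt N13054 (iv F187729)) (tt N8996 F130831) (tt N13066 (iv F187857)) (tt N8992 F130832) (tt N10921 F130833) (tt N12097 (iv F177194)) (tt N12167 (iv F206177)) (tt N9079 F130834) (tt N13067 D45031) (tt N8991 (iv D30873)))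
theorem Q10923 : ∀ i, i < 10923 → P i := stepQ 10922 Q10922 (allL N10922 (tt N13055 (iv F187734)) (tt N8997 F130835) (tt N13063 (iv F187785)) (tt N10922 F130836) (tt N11879 (iv F205912)) (tt N10922 F130837) (tt N9080 F130838) (tt N8994 F130839) (tt N9034 F130840) (tt N8993 (iv D30874)))
theorem Q10924 : ∀ i, i < 10924 → P i := stepQ 10923 Q10923 (allL N10923 (tt N10923 F130882) (tt N13067 (iv F187860)) (tt N12165 (iv F206149)) (tt N9045 F130883) (tt N10923 F130884) (tt N12107 (iv F177244)) (tt N12168 (iv F206180)) (tt N9089 F130885) (tt N8996 (iv D30885)) (tt N10923 F130886))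
theorem Q10925 : ∀ i, i < 10925 → P i := stepQ 10924 Q10924 (allL N10924 (tt N9014 F130931) (tt N13048 (iv F197111)) (tt N10924 F130932) (tt N13068 D45068) (tt N9624 F130933) (tt N12115 (iv F177297)) (tt N12749 (iv F201338)) (tt N9094 F130934) (tt N9000 (iv D30897)) (tt N13069 D45069))
theorem Q10926 : ∀ i, i < 10926 → P i := stepQ 10925 Q10925 (allL N10925 (tt N9015 F130935) (tt N12061 (iv F197898)) (tt N9006 F130936) (tt N12057 (iv F197841)) (tt N10925 F130937) (tt N9001 (iv D30898)) (tt N12116 (iv F177302)) (tt N12204 (iv F197914)) (tt N13070 D45071) (tt N12108 (iv F197110)))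
theorem Q10927 : ∀ i, i < 10927 → P i := stepQ 10926 Q10926 (allL N10926 (tt N9016 F130938) (tt N9048 (iv F197895)) (tt N9007 F130939) (tt N9046 (iv F197842)) (tt N9003 F130940) (tt N12204 (iv F197913)) (tt N9096 F130941) (tt N9001 (iv D30899)) (tt N13071 D45072) (tt N9090 F197410))
theorem Q10928 : ∀ i, i < 10928 → P i := stepQ 10927 Q10927 (allL N10927 (tt N9017 F130942) (tt N13047 (iv F197899)) (tt N9008 F130943) (tt N13072 D45073) (tt N9004 F130944) (tt N13070 (iv F188021)) (tt N9002 F130945) (tt N13071 (iv F188026)) (tt N9001 (iv D30900)) (tt N13073 D45074))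
theorem Q10929 : ∀ i, i < 10929 → P i := stepQ 10928 Q10928 (allL N10928 (tt N9018 F130946) (tt N13061 (iv F201902)) (tt N13074 D45075) (tt N9002 (iv D30901)) (tt N12741 (iv F201909)) (tt N12119 (iv F177312)) (tt N13072 (iv F188028)) (tt N9098 F130947) (tt N13068 (iv F188009)) (tt N13075 D45077))
theorem Q10930 : ∀ i, i < 10930 → P i := stepQ 10929 Q10929 (allL N10929 (tt N9019 F130948) (tt N13065 (iv F201903)) (tt N9010 F130949) (tt N13075 (iv F188040)) (tt N9005 F130950) (tt N12120 (iv F177317)) (tt N13073 (iv F188032)) (tt N9099 F130951) (tt N13050 (iv F187660)) (tt N9002 (iv D30902)))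
theorem Q10931 : ∀ i, i < 10931 → P i := stepQ 10930 Q10930 (allL N10930 (tt N9020 F130952) (tt N9628 (iv F197896)) (tt N9011 F130953) (tt N9595 F201412) (tt N13071 (iv F188024)) (tt N10930 F130954) (tt N9100 F130955) (tt N9004 F130956) (tt N9003 (iv D30903)) (tt N13076 D45079))
theorem Q10932 : ∀ i, i < 10932 → P i := stepQ 10931 Q10931 (allL N10931 (tt N9022 F130962) (tt N13064 (iv F201738)) (tt N9012 F130963) (tt N12743 (iv F201735)) (tt N13073 (iv F188031)) (tt N10931 F130964) (tt N9005 F130965) (tt N13076 (iv F188052)) (tt N13051 (iv F187675)) (tt N9004 (iv D30905)))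
theorem Q10933 : ∀ i, i < 10933 → P i := stepQ 10932 Q10932 (allL N10932 (tt N9027 F130989) (tt N10932 F130990) (tt N12204 (iv F197912)) (tt N10932 F130991) (tt N10932 F130992) (tt N9007 F130993) (tt N13077 D45088) (tt N9006 (iv D30911)) (tt N13078 D45089) (tt N12279 (iv F197119)))
theorem Q10934 : ∀ i, i < 10934 → P i := stepQ 10933 Q10933 (allL N10933 (tt N9028 F130994) (tt N10933 F130995) (tt N13070 (iv F188019)) (tt N13079 D45090) (tt N10933 F130996) (tt N9008 F130997) (tt N12128 (iv F177367)) (tt N13078 (iv F188099)) (tt N9006 (iv D30912)) (tt N13080 D45091))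
theorem Q10935 : ∀ i, i < 10935 → P i := stepQ 10934 Q10934 (allL N10934 (tt N9029 F130998) (tt N10934 F130999) (tt N13071 (iv F188023)) (tt N11682 (iv F205128)) (tt N9011 F131000) (tt N13078 (iv F188098)) (tt N9104 F131001) (tt N9008 F131002) (tt N9007 (iv D30913)) (tt N13081 D45093))
theorem Q10936 : ∀ i, i < 10936 → P i := stepQ 10935 Q10935 (allL N10935 (tt N9030 F131003) (tt N10935 F131004) (tt N11779 (iv F205323)) (tt N9008 (iv D30914)) (tt N9398 F131005) (tt N13079 (iv F188102)) (tt N9009 F131006) (tt N11682 (iv F205130)) (tt N10935 F131007) (tt N13082 D45095))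
theorem Q10937 : ∀ i, i < 10937 → P i := stepQ 10936 Q10936 (allL N10936 (tt N9031 F131008) (tt N10936 F131009) (tt N13073 (iv F188030)) (tt N13082 (iv F188125)) (tt N9012 F131010) (tt N13080 (iv F188107)) (tt N9010 F131011) (tt N13081 (iv F188118)) (tt N13052 (iv F187724)) (tt N9008 (iv D30915)))
theorem Q10938 : ∀ i, i < 10938 → P i := stepQ 10937 Q10937 (allL N10937 (tt N9032 F131012) (tt N12149 (iv F205527)) (tt N9009 (iv D30916)) (tt N13074 (iv F188034)) (tt N9400 F131013) (tt N12132 (iv F177384)) (tt N11779 (iv F205324)) (tt N9107 F131014) (tt N10937 F131015) (tt N13083 D45097))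
theorem Q10939 : ∀ i, i < 10939 → P i := stepQ 10938 Q10938 (allL N10938 (tt N9033 F131016) (tt N10938 F131017) (tt N13083 (iv F188133)) (tt N9010 F131018) (tt N9401 F131019) (tt N12133 (iv F177391)) (tt N13082 (iv F188127)) (tt N9108 F131020) (tt N13084 D45098) (tt N9009 (iv D30917)))
theorem Q10940 : ∀ i, i < 10940 → P i := stepQ 10939 Q10939 (allL N10939 (tt N9034 F131021) (tt N10939 F131022) (tt N13076 (iv F188049)) (tt N9402 F131023) (tt N13081 (iv F188116)) (tt N10939 F131024) (tt N9109 F131025) (tt N9012 F131026) (tt N13055 (iv F187740)) (tt N9011 (iv D30918)))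
theorem Q10941 : ∀ i, i < 10941 → P i := stepQ 10940 Q10940 (allL N10940 (tt N12057 (iv F197840)) (tt N9626 (iv F201786)) (tt N10940 F131027) (tt N9015 F131028) (tt N9593 F201474) (tt N9013 (iv D30919)) (tt N12135 (iv F177401)) (tt N9597 (iv F201899)) (tt N12764 (iv F201814)) (tt N11758 (iv F197114)))
theorem Q10942 : ∀ i, i < 10942 → P i := stepQ 10941 Q10941 (allL N10941 (tt N13068 (iv F188007)) (tt N12756 (iv F184963)) (tt N13085 D45105) (tt N9014 (iv D30922)) (tt N12759 (iv F201802)) (tt N12138 (iv F177409)) (tt N12762 (iv F201812)) (tt N9113 F131036) (tt N9018 F131037) (tt N13086 D45107))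
theorem Q10943 : ∀ i, i < 10943 → P i := stepQ 10942 Q10942 (allL N10942 (tt N13069 (iv F188010)) (tt N12757 (iv F184966)) (tt N10942 F131038) (tt N13086 (iv F188164)) (tt N9625 F131039) (tt N12139 (iv F177414)) (tt N12765 (iv F201815)) (tt N9114 F131040) (tt N13057 (iv F187757)) (tt N9014 (iv D30923)))
theorem Q10944 : ∀ i, i < 10944 → P i := stepQ 10943 Q10943 (allL N10943 (tt N12204 (iv F197911)) (tt N9637 (iv F201797)) (tt N9027 F131041) (tt N9597 (iv F201898)) (tt N10943 F131042) (tt N9016 F131043) (tt N13087 D45108) (tt N9015 (iv D30924)) (tt N13088 D45109) (tt N11819 (iv F197095)))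
theorem Q10945 : ∀ i, i < 10945 → P i := stepQ 10944 Q10944 (allL N10944 (tt N13070 (iv F188018)) (tt N12758 (iv F184973)) (tt N9028 F131044) (tt N13089 D45110) (tt N10944 F131045) (tt N9017 F131046) (tt N12141 (iv F177422)) (tt N13088 (iv F188172)) (tt N9015 (iv D30925)) (tt N13090 D45111))
theorem Q10946 : ∀ i, i < 10946 → P i := stepQ 10945 Q10945 (allL N10945 (tt N13071 (iv F188022)) (tt N9635 (iv F201800)) (tt N9029 F131047) (tt N12815 (iv F202117)) (tt N9020 F131048) (tt N13088 (iv F188171)) (tt N9117 F131049) (tt N9017 F131050) (tt N9016 (iv D30926)) (tt N13091 D45113))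
theorem Q10947 : ∀ i, i < 10947 → P i := stepQ 10946 Q10946 (allL N10946 (tt N13072 (iv F188027)) (tt N12759 (iv F184982)) (tt N13092 D45114) (tt N9017 (iv D30927)) (tt N12756 (iv F201791)) (tt N13089 (iv F188173)) (tt N9018 F131051) (tt N12815 (iv F202119)) (tt N12762 (iv F201813)) (tt N13093 D45116))
theorem Q10948 : ∀ i, i < 10948 → P i := stepQ 10947 Q10947 (allL N10947 (tt N13073 (iv F188029)) (tt N12760 (iv F184984)) (tt N9031 F131052) (tt N13093 (iv F188187)) (tt N9022 F131053) (tt N13090 (iv F188176)) (tt N9019 F131054) (tt N13091 (iv F188182)) (tt N13059 (iv F187773)) (tt N9017 (iv D30928)))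
theorem Q10949 : ∀ i, i < 10949 → P i := stepQ 10948 Q10948 (allL N10948 (tt N13074 (iv F188033)) (tt N13094 D45117) (tt N9018 (iv D30929)) (tt N9032 F131055) (tt N13095 D45118) (tt N12145 (iv F177432)) (tt N13092 (iv F188184)) (tt N9120 F131056) (tt N13085 (iv F188160)) (tt N13096 D45119))
theorem Q10950 : ∀ i, i < 10950 → P i := stepQ 10949 Q10949 (allL N10949 (tt N12741 (iv F201908)) (tt N12762 (iv F184990)) (tt N13095 (iv F188191)) (tt N9023 F131057) (tt N9018 (iv D30930)) (tt N13097 D45120) (tt N12756 (iv F201792)) (tt N9121 F131058) (tt N12759 (iv F201804)) (tt N13098 D45121))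
theorem Q10951 : ∀ i, i < 10951 → P i := stepQ 10950 Q10950 (allL N10950 (tt N13075 (iv F188039)) (tt N12763 (iv F184993)) (tt N13096 (iv F188194)) (tt N9019 F131059) (tt N13098 (iv F188200)) (tt N12147 (iv F177437)) (tt N13093 (iv F188188)) (tt N9122 F131060) (tt N13099 D45122) (tt N9018 (iv D30931)))
theorem Q10952 : ∀ i, i < 10952 → P i := stepQ 10951 Q10951 (allL N10951 (tt N13076 (iv F188048)) (tt N9636 (iv F201808)) (tt N9034 F131066) (tt N9596 (iv F201895)) (tt N13091 (iv F188180)) (tt N10951 F131067) (tt N9124 F131068) (tt N9022 F131069) (tt N13063 (iv F187789)) (tt N9020 (iv D30933)))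
theorem Q10953 : ∀ i, i < 10953 → P i := stepQ 10952 Q10952 (allL N10952 (tt N12743 (iv F201734)) (tt N9625 F201473) (tt N9410 F131073) (tt N9022 F131074) (tt N12757 (iv F201794)) (tt N10952 F131075) (tt N9024 F131076) (tt N9596 (iv F201896)) (tt N12748 (iv F201807)) (tt N9021 (iv D30935)))
theorem Q10954 : ∀ i, i < 10954 → P i := stepQ 10953 Q10953 (allL N10953 (tt N11741 (iv F201907)) (tt N12764 (iv F185016)) (tt N9411 F131077) (tt N13097 (iv F188197)) (tt N9025 F131078) (tt N9023 (iv D30936)) (tt N13100 D45128) (tt N9127 F131079) (tt N9626 F131080) (tt N13101 D45129))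
theorem Q10955 : ∀ i, i < 10955 → P i := stepQ 10954 Q10954 (allL N10954 (tt N12742 (iv F201910)) (tt N12765 (iv F185021)) (tt N9412 F131081) (tt N13098 (iv F188199)) (tt N9024 F131082) (tt N13101 (iv F188227)) (tt N12757 (iv F201795)) (tt N9128 F131083) (tt N12747 (iv F201904)) (tt N9023 (iv D30937)))
theorem Q10956 : ∀ i, i < 10956 → P i := stepQ 10955 Q10955 (allL N10955 (tt N11743 (iv F202069)) (tt N12766 (iv F185030)) (tt N9413 F131088) (tt N12154 (iv F177467)) (tt N13100 (iv F188223)) (tt N10955 F131089) (tt N9025 (iv D30939)) (tt N13102 D45131) (tt N9627 F131090) (tt N13103 D45132))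
theorem Q10957 : ∀ i, i < 10957 → P i := stepQ 10956 Q10956 (allL N10956 (tt N11745 (iv F202071)) (tt N12767 (iv F185034)) (tt N9414 F131091) (tt N12155 (iv F177471)) (tt N13101 (iv F188226)) (tt N9026 F131092) (tt N13103 (iv F188239)) (tt N9130 F131093) (tt N11766 (iv F202066)) (tt N9025 (iv D30940)))
theorem Q10958 : ∀ i, i < 10958 → P i := stepQ 10957 Q10957 (allL N10957 (tt N13077 (iv F188090)) (tt N9035 F131099) (tt N13087 (iv F188166)) (tt N10957 F131100) (tt N10957 F131101) (tt N9131 F131102) (tt N9027 (iv D30942)) (tt N12157 (iv F177483)) (tt N13104 D45135) (tt N12739 (iv F206160)))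
theorem Q10959 : ∀ i, i < 10959 → P i := stepQ 10958 Q10958 (allL N10958 (tt N13078 (iv F188095)) (tt N9036 F131103) (tt N13088 (iv F188169)) (tt N13105 D45136) (tt N10958 F131104) (tt N9029 F131105) (tt N13104 (iv F188250)) (tt N9028 F131106) (tt N9027 (iv D30943)) (tt N12862 (iv F206206)))
theorem Q10960 : ∀ i, i < 10960 → P i := stepQ 10959 Q10959 (allL N10959 (tt N13079 (iv F188100)) (tt N9037 F131107) (tt N13106 D45138) (tt N9028 (iv D30944)) (tt N13107 D45139) (tt N9030 F131108) (tt N12105 (iv F206142)) (tt N13105 (iv F188253)) (tt N10959 F131109) (tt N13108 D45140))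
theorem Q10961 : ∀ i, i < 10961 → P i := stepQ 10960 Q10960 (allL N10960 (tt N13080 (iv F188104)) (tt N9038 F131110) (tt N13090 (iv F188174)) (tt N13108 (iv F188266)) (tt N10960 F131111) (tt N9031 F131112) (tt N12158 (iv F177495)) (tt N12862 (iv F206205)) (tt N12775 (iv F206190)) (tt N9028 (iv D30945)))
theorem Q10962 : ∀ i, i < 10962 → P i := stepQ 10961 Q10961 (allL N10961 (tt N11682 (iv F205127)) (tt N9039 F131113) (tt N11835 (iv F205154)) (tt N9029 (iv D30946)) (tt N9417 F131114) (tt N13105 (iv F188252)) (tt N9135 F131115) (tt N9030 F131116) (tt N10961 F131117) (tt N13109 D45142))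
theorem Q10963 : ∀ i, i < 10963 → P i := stepQ 10962 Q10962 (allL N10962 (tt N13081 (iv F188114)) (tt N9040 F131118) (tt N13091 (iv F188179)) (tt N13109 (iv F188273)) (tt N9034 F131119) (tt N12862 (iv F206204)) (tt N9136 F131120) (tt N9031 F131121) (tt N11879 (iv F205915)) (tt N9029 (iv D30947)))
theorem Q10964 : ∀ i, i < 10964 → P i := stepQ 10963 Q10963 (allL N10963 (tt N11779 (iv F205322)) (tt N13110 D45143) (tt N9030 (iv D30948)) (tt N13092 (iv F188183)) (tt N9419 F131122) (tt N13106 (iv F188259)) (tt N9032 F131123) (tt N11835 (iv F205156)) (tt N10963 F131124) (tt N13111 D45144))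
theorem Q10965 : ∀ i, i < 10965 → P i := stepQ 10964 Q10964 (allL N10964 (tt N13082 (iv F188123)) (tt N9042 F131125) (tt N13111 (iv F188281)) (tt N9031 F131126) (tt N9420 F131127) (tt N13108 (iv F188267)) (tt N9033 F131128) (tt N13109 (iv F188276)) (tt N13112 D45145) (tt N9030 (iv D30949)))
theorem Q10966 : ∀ i, i < 10966 → P i := stepQ 10965 Q10965 (allL N10965 (tt N13113 D45146) (tt N9032 (iv D30950)) (tt N9043 F131129) (tt N13094 (iv F188189)) (tt N9421 F131130) (tt N12162 (iv F177514)) (tt N13110 (iv F188279)) (tt N9139 F131131) (tt N10965 F131132) (tt N13114 D45147))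
theorem Q10967 : ∀ i, i < 10967 → P i := stepQ 10966 Q10966 (allL N10966 (tt N13083 (iv F188132)) (tt N13114 (iv F188292)) (tt N9033 F131133) (tt N13096 (iv F188195)) (tt N9422 F131134) (tt N12163 (iv F177519)) (tt N13111 (iv F188283)) (tt N9140 F131135) (tt N13115 D45148) (tt N9032 (iv D30951)))
theorem Q10968 : ∀ i, i < 10968 → P i := stepQ 10967 Q10967 (allL N10967 (tt N13084 (iv F188136)) (tt N9045 F131136) (tt N13115 (iv F188296)) (tt N13067 (iv F187861)) (tt N9423 F131137) (tt N12164 (iv F177523)) (tt N13112 (iv F188286)) (tt N9141 F131138) (tt N9033 (iv D30952)) (tt N10967 F131139))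
theorem Q10969 : ∀ i, i < 10969 → P i := stepQ 10968 Q10968 (allL N10968 (tt N10968 F131140) (tt N13104 (iv F188247)) (tt N11812 (iv F206399)) (tt N12271 (iv F206396)) (tt N10968 F131141) (tt N9142 F131142) (tt N9036 F131143) (tt N11814 (iv F205834)) (tt N9035 (iv D30953)) (tt N12860 (iv F206211)))
theorem Q10970 : ∀ i, i < 10970 → P i := stepQ 10969 Q10969 (allL N10969 (tt N10969 F131144) (tt N13105 (iv F188251)) (tt N12102 (iv F206269)) (tt N9036 (iv D30954)) (tt N13116 D45152) (tt N9039 F131145) (tt N12271 (iv F206398)) (tt N9037 F131146) (tt N10969 F131147) (tt N12863 (iv F206209)))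
theorem Q10971 : ∀ i, i < 10971 → P i := stepQ 10970 Q10970 (allL N10970 (tt N10970 F131155) (tt N13107 (iv F188261)) (tt N12052 (iv F206267)) (tt N10970 F131156) (tt N9037 (iv D30957)) (tt N9427 F131157) (tt N12054 (iv F206144)) (tt N13116 (iv F188315)) (tt N10970 F131158) (tt N13117 D45157))
theorem Q10972 : ∀ i, i < 10972 → P i := stepQ 10971 Q10971 (allL N10971 (tt N10971 F131159) (tt N13108 (iv F188265)) (tt N12104 (iv F206271)) (tt N9038 F131160) (tt N13117 (iv F188332)) (tt N9042 F131161) (tt N12106 (iv F206148)) (tt N12863 (iv F206208)) (tt N13118 D45158) (tt N9037 (iv D30958)))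
theorem Q10973 : ∀ i, i < 10973 → P i := stepQ 10972 Q10972 (allL N10972 (tt N10972 F131162) (tt N13119 D45159) (tt N9039 (iv D30959)) (tt N12100 (iv F206195)) (tt N9429 F131163) (tt N12102 (iv F206270)) (tt N9148 F131164) (tt N9041 F131165) (tt N10972 F131166) (tt N13120 D45160))
theorem Q10974 : ∀ i, i < 10974 → P i := stepQ 10973 Q10973 (allL N10973 (tt N10973 F131167) (tt N13109 (iv F188272)) (tt N13120 (iv F188342)) (tt N9040 F131168) (tt N9430 F131169) (tt N12863 (iv F206207)) (tt N9149 F131170) (tt N9042 F131171) (tt N12382 (iv F206507)) (tt N9039 (iv D30960)))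
theorem Q10975 : ∀ i, i < 10975 → P i := stepQ 10974 Q10974 (allL N10974 (tt N13121 D45162) (tt N9041 (iv D30961)) (tt N13110 (iv F188277)) (tt N12092 (iv F206185)) (tt N9431 F131172) (tt N12094 (iv F206266)) (tt N9043 F131173) (tt N13119 (iv F188339)) (tt N10974 F131174) (tt N13122 D45163))
theorem Q10976 : ∀ i, i < 10976 → P i := stepQ 10975 Q10975 (allL N10975 (tt N10975 F131175) (tt N13122 (iv F188355)) (tt N9042 F131176) (tt N12101 (iv F206198)) (tt N9432 F131177) (tt N12104 (iv F206272)) (tt N9044 F131178) (tt N13120 (iv F188345)) (tt N13123 D45164) (tt N9041 (iv D30962)))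
theorem Q10977 : ∀ i, i < 10977 → P i := stepQ 10976 Q10976 (allL N10976 (tt N10976 F131179) (tt N13112 (iv F188284)) (tt N13123 (iv F188359)) (tt N12168 (iv F206179)) (tt N9433 F131180) (tt N13118 (iv F188335)) (tt N9045 F131181) (tt N12382 (iv F206506)) (tt N9042 (iv D30963)) (tt N10976 F131182))
theorem Q10978 : ∀ i, i < 10978 → P i := stepQ 10977 Q10977 (allL N10977 (tt N9043 (iv D30964)) (tt N10977 F131183) (tt N13113 (iv F188288)) (tt N12774 (iv F185123)) (tt N9434 F131184) (tt N12166 (iv F177575)) (tt N13121 (iv F188353)) (tt N9153 F131185) (tt N10977 F131186) (tt N13124 D45165))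
theorem Q10979 : ∀ i, i < 10979 → P i := stepQ 10978 Q10978 (allL N10978 (tt N13124 (iv F188363)) (tt N9044 F131187) (tt N13114 (iv F188293)) (tt N12775 (iv F185127)) (tt N9435 F131188) (tt N12167 (iv F177580)) (tt N13122 (iv F188357)) (tt N9154 F131189) (tt N13125 D45166) (tt N9043 (iv D30965)))
theorem Q10980 : ∀ i, i < 10980 → P i := stepQ 10979 Q10979 (allL N10979 (tt N10979 F131190) (tt N13125 (iv F188367)) (tt N9045 F131191) (tt N13118 (iv F206502)) (tt N9436 F131192) (tt N12168 (iv F177585)) (tt N13123 (iv F188361)) (tt N9155 F131193) (tt N9044 (iv D30966)) (tt N10979 F131194))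
theorem Q10981 : ∀ i, i < 10981 → P i := stepQ 10980 Q10980 (allL N10980 (tt N9111 F198222) (tt N9049 F131198) (tt N10980 F131199) (tt N9096 F198223) (tt N9047 F131200) (tt N13126 D45171) (tt N9046 (iv D30968)) (tt N9093 F198224) (tt N12801 (iv F202129)) (tt N9091 F131201))
theorem Q10982 : ∀ i, i < 10982 → P i := stepQ 10981 Q10981 (allL N10981 (tt N9061 F131231) (tt N9096 F198238) (tt N10981 F131232) (tt N9049 F131233) (tt N9092 F198239) (tt N13127 D45187) (tt N9048 (iv D30977)) (tt N9091 F198240) (tt N13128 D45189) (tt N9093 F131235))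
theorem Q10983 : ∀ i, i < 10983 → P i := stepQ 10982 Q10982 (allL N10982 (tt N9062 F131236) (tt N13071 (iv F197915)) (tt N10982 F131237) (tt N13129 D45190) (tt N9628 F131238) (tt N12211 (iv F177883)) (tt N13128 (iv F188452)) (tt N13047 (iv F187640)) (tt N9048 (iv D30978)) (tt N13130 D45191))
theorem Q10984 : ∀ i, i < 10984 → P i := stepQ 10983 Q10983 (allL N10983 (tt N9063 F131239) (tt N13126 (iv F188384)) (tt N9054 F131240) (tt N13127 (iv F188442)) (tt N9158 F131241) (tt N9049 (iv D30979)) (tt N12212 (iv F177887)) (tt N13131 D45192) (tt N13132 D45193) (tt N9095 F131242))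
theorem Q10985 : ∀ i, i < 10985 → P i := stepQ 10984 Q10984 (allL N10984 (tt N9064 F131243) (tt N9093 (iv F197878)) (tt N9055 F131244) (tt N9091 (iv F197902)) (tt N9051 F131245) (tt N13131 (iv F188462)) (tt N9090 F197407) (tt N9049 (iv D30980)) (tt N13133 D45194) (tt N9096 F131246))
theorem Q10986 : ∀ i, i < 10986 → P i := stepQ 10985 Q10985 (allL N10985 (tt N9065 F131247) (tt N12801 (iv F202127)) (tt N9056 F131248) (tt N13134 D45195) (tt N9052 F131249) (tt N13132 (iv F188467)) (tt N9050 F131250) (tt N13133 (iv F188471)) (tt N9049 (iv D30981)) (tt N13135 D45196))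
theorem Q10987 : ∀ i, i < 10987 → P i := stepQ 10986 Q10986 (allL N10986 (tt N9066 F131251) (tt N12798 (iv F202151)) (tt N13136 D45197) (tt N9050 (iv D30982)) (tt N12792 (iv F202120)) (tt N12215 (iv F177898)) (tt N13134 (iv F188473)) (tt N13049 (iv F187655)) (tt N13129 (iv F188454)) (tt N13137 D45199))
theorem Q10988 : ∀ i, i < 10988 → P i := stepQ 10987 Q10987 (allL N10987 (tt N9067 F131252) (tt N12803 (iv F202131)) (tt N9058 F131253) (tt N13137 (iv F188484)) (tt N9053 F131254) (tt N12216 (iv F177902)) (tt N13135 (iv F188477)) (tt N13050 (iv F187659)) (tt N9099 F131255) (tt N9050 (iv D30983)))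
theorem Q10989 : ∀ i, i < 10989 → P i := stepQ 10988 Q10988 (allL N10988 (tt N9068 F131256) (tt N9632 (iv F197879)) (tt N9059 F131257) (tt N9629 F202196) (tt N13133 (iv F188470)) (tt N9163 F131258) (tt N9630 F202197) (tt N9052 F131259) (tt N9051 (iv D30984)) (tt N13138 D45201))
theorem Q10990 : ∀ i, i < 10990 → P i := stepQ 10989 Q10989 (allL N10989 (tt N9070 F131265) (tt N12802 (iv F202130)) (tt N9060 F131266) (tt N12794 (iv F202123)) (tt N13135 (iv F188476)) (tt N9164 F131267) (tt N9053 F131268) (tt N13138 (iv F188493)) (tt N9101 F131269) (tt N9052 (iv D30986)))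
theorem Q10991 : ∀ i, i < 10991 → P i := stepQ 10990 Q10990 (allL N10990 (tt N9073 F131289) (tt N10990 F131290) (tt N13131 (iv F188460)) (tt N10990 F131291) (tt N9165 F131292) (tt N9055 F131293) (tt N13139 D45210) (tt N9054 (iv D30992)) (tt N13140 D45211) (tt N9102 F131294))
theorem Q10992 : ∀ i, i < 10992 → P i := stepQ 10991 Q10991 (allL N10991 (tt N9074 F131295) (tt N10991 F131296) (tt N13132 (iv F188465)) (tt N13141 D45212) (tt N9166 F131297) (tt N9056 F131298) (tt N12224 (iv F177943)) (tt N13140 (iv F188537)) (tt N9054 (iv D30993)) (tt N13142 D45213))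
theorem Q10993 : ∀ i, i < 10993 → P i := stepQ 10992 Q10992 (allL N10992 (tt N9075 F131299) (tt N10992 F131300) (tt N13133 (iv F188469)) (tt N12377 (iv F205897)) (tt N9059 F131301) (tt N13140 (iv F188536)) (tt N11878 (iv F205907)) (tt N9056 F131302) (tt N9055 (iv D30994)) (tt N13143 D45215))
theorem Q10994 : ∀ i, i < 10994 → P i := stepQ 10993 Q10993 (allL N10993 (tt N9076 F131303) (tt N10993 F131304) (tt N13144 D45216) (tt N9056 (iv D30995)) (tt N10993 F131305) (tt N13141 (iv F188540)) (tt N9057 F131306) (tt N12377 (iv F205898)) (tt N10993 F131307) (tt N13145 D45217))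
theorem Q10995 : ∀ i, i < 10995 → P i := stepQ 10994 Q10994 (allL N10994 (tt N9077 F131308) (tt N10994 F131309) (tt N13135 (iv F188475)) (tt N13145 (iv F188563)) (tt N9060 F131310) (tt N13142 (iv F188545)) (tt N9058 F131311) (tt N13143 (iv F188555)) (tt N9106 F131312) (tt N9056 (iv D30996)))
theorem Q10996 : ∀ i, i < 10996 → P i := stepQ 10995 Q10995 (allL N10995 (tt N9078 F131313) (tt N13146 D45218) (tt N9057 (iv D30997)) (tt N13136 (iv F188480)) (tt N10995 F131314) (tt N12228 (iv F177958)) (tt N13144 (iv F188559)) (tt N13053 (iv F187727)) (tt N10995 F131315) (tt N13147 D45219))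
theorem Q10997 : ∀ i, i < 10997 → P i := stepQ 10996 Q10996 (allL N10996 (tt N9079 F131316) (tt N10996 F131317) (tt N13147 (iv F188570)) (tt N9058 F131318) (tt N10996 F131319) (tt N12229 (iv F177963)) (tt N13145 (iv F188565)) (tt N13054 (iv F187733)) (tt N13148 D45220) (tt N9057 (iv D30998)))
theorem Q10998 : ∀ i, i < 10998 → P i := stepQ 10997 Q10997 (allL N10997 (tt N9080 F131320) (tt N10997 F131321) (tt N13138 (iv F188491)) (tt N10997 F131322) (tt N13143 (iv F188554)) (tt N9169 F131323) (tt N13055 (iv F187738)) (tt N9060 F131324) (tt N9109 F131325) (tt N9059 (iv D30999)))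
theorem Q10999 : ∀ i, i < 10999 → P i := stepQ 10998 Q10998 (allL N10998 (tt N13127 (iv F188440)) (tt N12776 (iv F185493)) (tt N10998 F131326) (tt N9063 F131327) (tt N12914 (iv F198707)) (tt N9061 (iv D31000)) (tt N12231 (iv F177971)) (tt N12790 (iv F197908)) (tt N13149 D45223) (tt N9110 F131328))
theorem Q11000 : ∀ i, i < 11000 → P i := stepQ 10999 Q10999 (allL N10999 (tt N13128 (iv F188449)) (tt N12777 (iv F185500)) (tt N10999 F131333) (tt N13150 D45225) (tt N9629 F131334) (tt N13149 (iv F188586)) (tt N9062 F131335) (tt N12791 (iv F197910)) (tt N9061 (iv D31002)) (tt N13151 D45226))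
theorem Q11001 : ∀ i, i < 11001 → P i := stepQ 11000 Q11000 (allL N11000 (tt N13129 (iv F188453)) (tt N12778 (iv F185503)) (tt N13152 D45227) (tt N9062 (iv D31003)) (tt N13153 D45228) (tt N12234 (iv F177980)) (tt N13150 (iv F188590)) (tt N13056 (iv F187752)) (tt N9066 F131336) (tt N13154 D45229))
theorem Q11002 : ∀ i, i < 11002 → P i := stepQ 11001 Q11001 (allL N11001 (tt N13130 (iv F188455)) (tt N12779 (iv F185505)) (tt N11001 F131337) (tt N13154 (iv F188600)) (tt N9631 F131338) (tt N12235 (iv F177984)) (tt N13151 (iv F188594)) (tt N13057 (iv F187756)) (tt N9114 F131339) (tt N9062 (iv D31004)))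
theorem Q11003 : ∀ i, i < 11003 → P i := stepQ 11002 Q11002 (allL N11002 (tt N13131 (iv F188459)) (tt N12780 (iv F185508)) (tt N9073 F131340) (tt N12790 (iv F197907)) (tt N9175 F131341) (tt N9064 F131342) (tt N13155 D45230) (tt N9063 (iv D31005)) (tt N13156 D45231) (tt N9115 F131343))
theorem Q11004 : ∀ i, i < 11004 → P i := stepQ 11003 Q11003 (allL N11003 (tt N13132 (iv F188464)) (tt N12781 (iv F185513)) (tt N9074 F131344) (tt N13157 D45232) (tt N9176 F131345) (tt N9065 F131346) (tt N12237 (iv F177993)) (tt N13156 (iv F188607)) (tt N9063 (iv D31006)) (tt N13158 D45233))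
theorem Q11005 : ∀ i, i < 11005 → P i := stepQ 11004 Q11004 (allL N11004 (tt N13133 (iv F188468)) (tt N11871 (iv F205303)) (tt N9075 F131347) (tt N13159 D45234) (tt N9068 F131348) (tt N13156 (iv F188606)) (tt N11873 (iv F205560)) (tt N9065 F131349) (tt N9064 (iv D31007)) (tt N13160 D45235))
theorem Q11006 : ∀ i, i < 11006 → P i := stepQ 11005 Q11005 (allL N11005 (tt N13134 (iv F188472)) (tt N12782 (iv F185521)) (tt N13161 D45236) (tt N9065 (iv D31008)) (tt N13162 D45237) (tt N13157 (iv F188608)) (tt N9066 F131350) (tt N13159 (iv F188613)) (tt N13150 (iv F188591)) (tt N13163 D45238))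
theorem Q11007 : ∀ i, i < 11007 → P i := stepQ 11006 Q11006 (allL N11006 (tt N13135 (iv F188474)) (tt N12783 (iv F185523)) (tt N9077 F131351) (tt N13163 (iv F188622)) (tt N9070 F131352) (tt N13158 (iv F188611)) (tt N9067 F131353) (tt N13160 (iv F188616)) (tt N9119 F131354) (tt N9065 (iv D31009)))
theorem Q11008 : ∀ i, i < 11008 → P i := stepQ 11007 Q11007 (allL N11007 (tt N13136 (iv F188479)) (tt N13164 D45239) (tt N9066 (iv D31010)) (tt N9078 F131355) (tt N13165 D45240) (tt N12241 (iv F178003)) (tt N13161 (iv F188619)) (tt N13060 (iv F187775)) (tt N13152 (iv F188597)) (tt N13166 D45241))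
theorem Q11009 : ∀ i, i < 11009 → P i := stepQ 11008 Q11008 (allL N11008 (tt N12792 F202303) (tt N9098 (iv F202682)) (tt N13165 (iv F188625)) (tt N9071 F131356) (tt N9066 (iv D31011)) (tt N12285 (iv F202743)) (tt N13162 (iv F188621)) (tt N13061 (iv F187777)) (tt N13153 (iv F188599)) (tt N13167 D45243))
theorem Q11010 : ∀ i, i < 11010 → P i := stepQ 11009 Q11009 (allL N11009 (tt N13137 (iv F188483)) (tt N12785 (iv F185531)) (tt N13166 (iv F188627)) (tt N9067 F131357) (tt N13167 (iv F188631)) (tt N12243 (iv F178006)) (tt N13163 (iv F188623)) (tt N13062 (iv F187779)) (tt N13168 D45244) (tt N9066 (iv D31012)))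
theorem Q11011 : ∀ i, i < 11011 → P i := stepQ 11010 Q11010 (allL N11010 (tt N9629 F202200) (tt N9100 F202201) (tt N11010 F131358) (tt N9068 (iv D31013)) (tt N13128 (iv F202606)) (tt N9183 F131359) (tt N9628 F202202) (tt N9069 F131360) (tt N9092 F202203) (tt N13169 D45246))
theorem Q11012 : ∀ i, i < 11012 → P i := stepQ 11011 Q11011 (allL N11011 (tt N13138 (iv F188490)) (tt N12786 (iv F185537)) (tt N9080 F131362) (tt N13169 (iv F188637)) (tt N13160 (iv F188615)) (tt N9184 F131363) (tt N13063 (iv F187787)) (tt N9070 F131364) (tt N9124 F131365) (tt N9068 (iv D31014)))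
theorem Q11013 : ∀ i, i < 11013 → P i := stepQ 11012 Q11012 (allL N11012 (tt N12791 F202299) (tt N9097 (iv F202618)) (tt N11012 F131366) (tt N13162 (iv F188620)) (tt N9069 (iv D31015)) (tt N13170 D45247) (tt N9071 F131367) (tt N13128 (iv F202607)) (tt N9091 F202300) (tt N13171 D45248))
theorem Q11014 : ∀ i, i < 11014 → P i := stepQ 11013 Q11013 (allL N11013 (tt N12794 F202301) (tt N9101 (iv F202619)) (tt N11013 F131369) (tt N9070 F131370) (tt N13171 (iv F188644)) (tt N9186 F131371) (tt N9072 F131372) (tt N13169 (iv F188639)) (tt N12802 (iv F202125)) (tt N9069 (iv D31016)))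
theorem Q11015 : ∀ i, i < 11015 → P i := stepQ 11014 Q11014 (allL N11014 (tt N12793 F202304) (tt N9099 (iv F202684)) (tt N11014 F131376) (tt N13167 (iv F188630)) (tt N9072 F131377) (tt N12286 (iv F202744)) (tt N13171 (iv F188645)) (tt N13065 (iv F187803)) (tt N12803 (iv F202126)) (tt N9071 (iv D31018)))
theorem Q11016 : ∀ i, i < 11016 → P i := stepQ 11015 Q11015 (allL N11015 (tt N13139 (iv F188528)) (tt N9081 F131391) (tt N13155 (iv F188601)) (tt N11015 F131392) (tt N9188 F131393) (tt N12739 (iv F206159)) (tt N9073 (iv D31023)) (tt N12254 (iv F178036)) (tt N12853 (iv F205878)) (tt N9131 F131394))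
theorem Q11017 : ∀ i, i < 11017 → P i := stepQ 11016 Q11016 (allL N11016 (tt N13140 (iv F188533)) (tt N9082 F131395) (tt N13156 (iv F188604)) (tt N12371 (iv F205870)) (tt N9189 F131396) (tt N9075 F131397) (tt N12853 (iv F205877)) (tt N9074 F131398) (tt N9073 (iv D31024)) (tt N13172 D45259))
theorem Q11018 : ∀ i, i < 11018 → P i := stepQ 11017 Q11017 (allL N11017 (tt N13141 (iv F188538)) (tt N9083 F131399) (tt N13173 D45260) (tt N9074 (iv D31025)) (tt N13174 D45261) (tt N9076 F131400) (tt N12256 (iv F178044)) (tt N12371 (iv F205871)) (tt N11017 F131401) (tt N13175 D45262))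
theorem Q11019 : ∀ i, i < 11019 → P i := stepQ 11018 Q11018 (allL N11018 (tt N13142 (iv F188542)) (tt N9084 F131402) (tt N13158 (iv F188609)) (tt N13175 (iv F188691)) (tt N9191 F131403) (tt N9077 F131404) (tt N12257 (iv F178049)) (tt N13172 (iv F188682)) (tt N9134 F131405) (tt N9074 (iv D31026)))
theorem Q11020 : ∀ i, i < 11020 → P i := stepQ 11019 Q11019 (allL N11019 (tt N13143 (iv F188552)) (tt N9085 F131410) (tt N13160 (iv F188614)) (tt N12378 (iv F205900)) (tt N9080 F131411) (tt N13172 (iv F188681)) (tt N11879 (iv F205913)) (tt N9077 F131412) (tt N9136 F131413) (tt N9075 (iv D31028)))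
theorem Q11021 : ∀ i, i < 11021 → P i := stepQ 11020 Q11020 (allL N11020 (tt N13144 (iv F188557)) (tt N12360 (iv F205840)) (tt N9076 (iv D31029)) (tt N13161 (iv F188618)) (tt N11020 F131414) (tt N13173 (iv F188684)) (tt N9078 F131415) (tt N12362 (iv F205899)) (tt N11020 F131416) (tt N13176 D45266))
theorem Q11022 : ∀ i, i < 11022 → P i := stepQ 11021 Q11021 (allL N11021 (tt N13145 (iv F188561)) (tt N9086 F131417) (tt N13176 (iv F188704)) (tt N9077 F131418) (tt N11021 F131419) (tt N13175 (iv F188692)) (tt N9079 F131420) (tt N12378 (iv F205901)) (tt N13177 D45267) (tt N9076 (iv D31030)))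
theorem Q11023 : ∀ i, i < 11023 → P i := stepQ 11022 Q11022 (allL N11022 (tt N13178 D45268) (tt N9078 (iv D31031)) (tt N9087 F131421) (tt N13164 (iv F188624)) (tt N11022 F131422) (tt N12262 (iv F178064)) (tt N12360 (iv F205841)) (tt N12160 (iv F206139)) (tt N11022 F131423) (tt N13179 D45269))
theorem Q11024 : ∀ i, i < 11024 → P i := stepQ 11023 Q11023 (allL N11023 (tt N13147 (iv F188569)) (tt N13179 (iv F188715)) (tt N9079 F131424) (tt N13166 (iv F188628)) (tt N11023 F131425) (tt N12263 (iv F178067)) (tt N13176 (iv F188706)) (tt N13066 (iv F187859)) (tt N13180 D45270) (tt N9078 (iv D31032)))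
theorem Q11025 : ∀ i, i < 11025 → P i := stepQ 11024 Q11024 (allL N11024 (tt N13148 (iv F188572)) (tt N9089 F131426) (tt N13180 (iv F188718)) (tt N9141 F131427) (tt N11024 F131428) (tt N12264 (iv F178070)) (tt N13177 (iv F188710)) (tt N13067 (iv F187863)) (tt N9079 (iv D31033)) (tt N11024 F131429))
theorem Q11026 : ∀ i, i < 11026 → P i := stepQ 11025 Q11025 (allL N11025 (tt N11025 F131437) (tt N13172 (iv F188679)) (tt N11877 (iv F205531)) (tt N12373 (iv F205874)) (tt N9200 F131438) (tt N9085 F131439) (tt N12854 (iv F205886)) (tt N9084 F131440) (tt N9144 F131441) (tt N9082 (iv D31036)))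
theorem Q11027 : ∀ i, i < 11027 → P i := stepQ 11026 Q11026 (allL N11026 (tt N11026 F131445) (tt N13174 (iv F188686)) (tt N12369 (iv F205843)) (tt N9202 F131446) (tt N9083 (iv D31038)) (tt N11026 F131447) (tt N12269 (iv F178091)) (tt N12372 (iv F205873)) (tt N11026 F131448) (tt N13181 D45279))
theorem Q11028 : ∀ i, i < 11028 → P i := stepQ 11027 Q11027 (allL N11027 (tt N11027 F131449) (tt N13175 (iv F188690)) (tt N12370 (iv F205847)) (tt N9084 F131450) (tt N13181 (iv F188752)) (tt N9086 F131451) (tt N12270 (iv F178096)) (tt N12373 (iv F205875)) (tt N13182 D45280) (tt N9083 (iv D31039)))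
theorem Q11029 : ∀ i, i < 11029 → P i := stepQ 11028 Q11028 (allL N11028 (tt N11028 F131467) (tt N13177 (iv F188707)) (tt N12376 (iv F205848)) (tt N9152 F131468) (tt N11028 F131469) (tt N13182 (iv F188756)) (tt N9089 F131470) (tt N12379 (iv F205904)) (tt N9086 (iv D31044)) (tt N11028 F131471))
theorem Q11030 : ∀ i, i < 11030 → P i := stepQ 11029 Q11029 (allL N11029 (tt N9087 (iv D31045)) (tt N11029 F131472) (tt N13178 (iv F188712)) (tt N12129 (iv F205823)) (tt N11029 F131473) (tt N12276 (iv F178113)) (tt N12312 (iv F205839)) (tt N12130 (iv F206137)) (tt N11029 F131474) (tt N13183 D45287))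
theorem Q11031 : ∀ i, i < 11031 → P i := stepQ 11030 Q11030 (allL N11030 (tt N13183 (iv F188782)) (tt N9088 F131475) (tt N13179 (iv F188716)) (tt N12159 (iv F205830)) (tt N11030 F131476) (tt N12277 (iv F178116)) (tt N12361 (iv F205842)) (tt N12161 (iv F206143)) (tt N13184 D45288) (tt N9087 (iv D31046)))
theorem Q11032 : ∀ i, i < 11032 → P i := stepQ 11031 Q11031 (allL N11031 (tt N11031 F131477) (tt N13184 (iv F188785)) (tt N9089 F131478) (tt N13185 D45289) (tt N11031 F131479) (tt N12278 (iv F178119)) (tt N12376 (iv F205849)) (tt N12165 (iv F206150)) (tt N9088 (iv D31047)) (tt N11031 F131480))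
theorem Q11033 : ∀ i, i < 11033 → P i := stepQ 11032 Q11032 (allL N11032 (tt N11873 (iv F205558)) (tt N9094 F131487) (tt N11878 (iv F205905)) (tt N13153 (iv F202600)) (tt N9630 F202195) (tt N12281 (iv F178130)) (tt N13133 (iv F197906)) (tt N13048 (iv F197112)) (tt N9090 (iv D31050)) (tt N13186 D45296))
theorem Q11034 : ∀ i, i < 11034 → P i := stepQ 11033 Q11033 (allL N11033 (tt N12790 (iv F185646)) (tt N9095 F131489) (tt N11033 F131490) (tt N13131 (iv F197904)) (tt N9214 F131491) (tt N9091 (iv D31051)) (tt N12282 (iv F178134)) (tt N13127 (iv F198718)) (tt N13170 (iv F202740)) (tt N13126 (iv F188387)))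
theorem Q11035 : ∀ i, i < 11035 → P i := stepQ 11034 Q11034 (allL N11034 (tt N9110 F131540) (tt N13131 (iv F197903)) (tt N11034 F131541) (tt N9095 F131542) (tt N13187 D45322) (tt N9093 (iv D31067)) (tt N12289 (iv F178190)) (tt N13126 (iv F198688)) (tt N13188 D45324) (tt N13127 (iv F188443)))
theorem Q11036 : ∀ i, i < 11036 → P i := stepQ 11035 Q11035 (allL N11035 (tt N9112 F131547) (tt N13133 (iv F197905)) (tt N11035 F131548) (tt N13189 D45326) (tt N9632 F131549) (tt N13188 (iv F188901)) (tt N9094 F131550) (tt N12801 (iv F202128)) (tt N9093 (iv D31069)) (tt N13190 D45327))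
theorem Q11037 : ∀ i, i < 11037 → P i := stepQ 11036 Q11036 (allL N11036 (tt N9113 F131551) (tt N13153 (iv F202599)) (tt N13191 D45328) (tt N9094 (iv D31070)) (tt N12778 (iv F202115)) (tt N12292 (iv F178200)) (tt N13189 (iv F188907)) (tt N13068 (iv F188008)) (tt N9098 F131552) (tt N13192 D45330))
theorem Q11038 : ∀ i, i < 11038 → P i := stepQ 11037 Q11037 (allL N11037 (tt N9114 F131553) (tt N13186 (iv F188808)) (tt N11037 F131554) (tt N13192 (iv F188920)) (tt N9633 F131555) (tt N12293 (iv F178205)) (tt N13190 (iv F188912)) (tt N13069 (iv F188013)) (tt N13130 (iv F188458)) (tt N9094 (iv D31071)))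
theorem Q11039 : ∀ i, i < 11039 → P i := stepQ 11038 Q11038 (allL N11038 (tt N9115 F131556) (tt N13127 (iv F198716)) (tt N9102 F131557) (tt N13126 (iv F198687)) (tt N9221 F131558) (tt N9096 F131559) (tt N13193 D45331) (tt N9095 (iv D31072)) (tt N13194 D45332) (tt N13131 (iv F188463)))
theorem Q11040 : ∀ i, i < 11040 → P i := stepQ 11039 Q11039 (allL N11039 (tt N9116 F131560) (tt N13170 (iv F202739)) (tt N9103 F131561) (tt N13195 D45333) (tt N9222 F131562) (tt N9097 F131563) (tt N12295 (iv F178214)) (tt N13194 (iv F188928)) (tt N9095 (iv D31073)) (tt N13196 D45334))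
theorem Q11041 : ∀ i, i < 11041 → P i := stepQ 11040 Q11040 (allL N11040 (tt N9117 F131564) (tt N13128 (iv F198719)) (tt N9104 F131565) (tt N13197 D45335) (tt N9100 F131566) (tt N13194 (iv F188927)) (tt N13071 (iv F188025)) (tt N9097 F131567) (tt N9096 (iv D31074)) (tt N13198 D45336))
theorem Q11042 : ∀ i, i < 11042 → P i := stepQ 11041 Q11041 (allL N11041 (tt N9118 F131568) (tt N13162 (iv F202741)) (tt N13199 D45337) (tt N9097 (iv D31075)) (tt N12782 (iv F202622)) (tt N13195 (iv F188930)) (tt N9098 F131569) (tt N13197 (iv F188936)) (tt N13189 (iv F188908)) (tt N13200 D45339))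
theorem Q11043 : ∀ i, i < 11043 → P i := stepQ 11042 Q11042 (allL N11042 (tt N9119 F131570) (tt N13171 (iv F202742)) (tt N9106 F131571) (tt N13200 (iv F188948)) (tt N9101 F131572) (tt N13196 (iv F188934)) (tt N9099 F131573) (tt N13198 (iv F188940)) (tt N13135 (iv F188478)) (tt N9097 (iv D31076)))
theorem Q11044 : ∀ i, i < 11044 → P i := stepQ 11043 Q11043 (allL N11043 (tt N9120 F131574) (tt N13201 D45340) (tt N9098 (iv D31077)) (tt N9107 F131575) (tt N12784 (iv F202762)) (tt N12299 (iv F178227)) (tt N13199 (iv F188943)) (tt N13074 (iv F188035)) (tt N13191 (iv F188915)) (tt N13202 D45342))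
theorem Q11045 : ∀ i, i < 11045 → P i := stepQ 11044 Q11044 (allL N11044 (tt N9122 F131578) (tt N13167 (iv F202745)) (tt N13202 (iv F188955)) (tt N9099 F131579) (tt N12785 (iv F202764)) (tt N12301 (iv F178232)) (tt N13200 (iv F188949)) (tt N13075 (iv F188041)) (tt N13203 D45345) (tt N9098 (iv D31079)))
theorem Q11046 : ∀ i, i < 11046 → P i := stepQ 11045 Q11045 (allL N11045 (tt N9124 F131585) (tt N13169 (iv F202608)) (tt N9109 F131586) (tt N12786 (iv F201733)) (tt N13198 (iv F188939)) (tt N9228 F131587) (tt N13076 (iv F188051)) (tt N9101 F131588) (tt N13138 (iv F188494)) (tt N9100 (iv D31081)))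
theorem Q11047 : ∀ i, i < 11047 → P i := stepQ 11046 Q11046 (allL N11046 (tt N9131 F131621) (tt N11046 F131622) (tt N13193 (iv F188922)) (tt N11046 F131623) (tt N9229 F131624) (tt N13077 (iv F188094)) (tt N9102 (iv D31090)) (tt N12308 (iv F178280)) (tt N13204 D45358) (tt N13139 (iv F188532)))
theorem Q11048 : ∀ i, i < 11048 → P i := stepQ 11047 Q11047 (allL N11047 (tt N9132 F131625) (tt N11047 F131626) (tt N13194 (iv F188925)) (tt N13205 D45359) (tt N9230 F131627) (tt N9104 F131628) (tt N13204 (iv F189015)) (tt N9103 F131629) (tt N9102 (iv D31091)) (tt N13206 D45360))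
theorem Q11049 : ∀ i, i < 11049 → P i := stepQ 11048 Q11048 (allL N11048 (tt N9133 F131630) (tt N11048 F131631) (tt N13207 D45361) (tt N9103 (iv D31092)) (tt N13208 D45362) (tt N9105 F131632) (tt N12310 (iv F178289)) (tt N13205 (iv F189019)) (tt N11048 F131633) (tt N13209 D45363))
theorem Q11050 : ∀ i, i < 11050 → P i := stepQ 11049 Q11049 (allL N11049 (tt N9134 F131634) (tt N11049 F131635) (tt N13196 (iv F188932)) (tt N13209 (iv F189036)) (tt N9232 F131636) (tt N9106 F131637) (tt N12311 (iv F178295)) (tt N13206 (iv F189025)) (tt N13142 (iv F188546)) (tt N9103 (iv D31093)))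
theorem Q11051 : ∀ i, i < 11051 → P i := stepQ 11050 Q11050 (allL N11050 (tt N9135 F131638) (tt N11050 F131639) (tt N11858 (iv F205125)) (tt N9104 (iv D31094)) (tt N9443 F131640) (tt N13205 (iv F189018)) (tt N11682 (iv F205129)) (tt N9105 F131641) (tt N11050 F131642) (tt N13210 D45365))
theorem Q11052 : ∀ i, i < 11052 → P i := stepQ 11051 Q11051 (allL N11051 (tt N9136 F131643) (tt N11051 F131644) (tt N13198 (iv F188938)) (tt N13210 (iv F189044)) (tt N9109 F131645) (tt N13206 (iv F189024)) (tt N13081 (iv F188117)) (tt N9106 F131646) (tt N13143 (iv F188556)) (tt N9104 (iv D31095)))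
theorem Q11053 : ∀ i, i < 11053 → P i := stepQ 11052 Q11052 (allL N11052 (tt N9137 F131647) (tt N12343 (iv F205285)) (tt N9105 (iv D31096)) (tt N13199 (iv F188942)) (tt N9445 F131648) (tt N13207 (iv F189027)) (tt N9107 F131649) (tt N11858 (iv F205126)) (tt N11052 F131650) (tt N13211 D45367))
theorem Q11054 : ∀ i, i < 11054 → P i := stepQ 11053 Q11053 (allL N11053 (tt N9138 F131651) (tt N11053 F131652) (tt N13211 (iv F189052)) (tt N9106 F131653) (tt N9446 F131654) (tt N13209 (iv F189037)) (tt N9108 F131655) (tt N13210 (iv F189046)) (tt N13212 D45368) (tt N9105 (iv D31097)))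
theorem Q11055 : ∀ i, i < 11055 → P i := stepQ 11054 Q11054 (allL N11054 (tt N13213 D45369) (tt N9107 (iv D31098)) (tt N11054 F131656) (tt N13201 (iv F188950)) (tt N9447 F131657) (tt N12316 (iv F178316)) (tt N12343 (iv F205286)) (tt N12149 (iv F205528)) (tt N11054 F131658) (tt N13214 D45370))
theorem Q11056 : ∀ i, i < 11056 → P i := stepQ 11055 Q11055 (allL N11055 (tt N9140 F131659) (tt N13214 (iv F189064)) (tt N9108 F131660) (tt N13202 (iv F188956)) (tt N9448 F131661) (tt N12317 (iv F178321)) (tt N13211 (iv F189054)) (tt N13083 (iv F188135)) (tt N13215 D45371) (tt N9107 (iv D31099)))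
theorem Q11057 : ∀ i, i < 11057 → P i := stepQ 11056 Q11056 (allL N11056 (tt N9141 F131662) (tt N11056 F131663) (tt N13215 (iv F189068)) (tt N13148 (iv F188574)) (tt N9449 F131664) (tt N12318 (iv F178325)) (tt N13212 (iv F189058)) (tt N13084 (iv F188139)) (tt N9108 (iv D31100)) (tt N11056 F131665))
theorem Q11058 : ∀ i, i < 11058 → P i := stepQ 11057 Q11057 (allL N11057 (tt N13187 (iv F188891)) (tt N9666 F202518) (tt N11057 F131666) (tt N9239 F131667) (tt N9110 (iv D31101)) (tt N9619 F202519) (tt N12319 (iv F178330)) (tt N9620 (iv F202773)) (tt N12999 (iv F203005)) (tt N12914 (iv F198708)))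
theorem Q11059 : ∀ i, i < 11059 → P i := stepQ 11058 Q11058 (allL N11058 (tt N13126 (iv F198686)) (tt N9638 (iv F202503)) (tt N11058 F131669) (tt N9115 F131670) (tt N9620 (iv F202772)) (tt N9111 F131671) (tt N13216 D45374) (tt N9110 (iv D31102)) (tt N12832 (iv F202706)) (tt N12790 (iv F197909)))
theorem Q11060 : ∀ i, i < 11060 → P i := stepQ 11059 Q11059 (allL N11059 (tt N13188 (iv F188899)) (tt N12812 (iv F185835)) (tt N11059 F131672) (tt N13217 D45376) (tt N12999 (iv F203004)) (tt N9112 F131673) (tt N12321 (iv F178336)) (tt N12832 (iv F202705)) (tt N9110 (iv D31103)) (tt N13218 D45377))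
theorem Q11061 : ∀ i, i < 11061 → P i := stepQ 11060 Q11060 (allL N11060 (tt N13189 (iv F188906)) (tt N12813 (iv F185840)) (tt N13219 D45380) (tt N9112 (iv D31105)) (tt N12821 (iv F202596)) (tt N13217 (iv F189083)) (tt N9113 F131677) (tt N12824 (iv F202703)) (tt N9118 F131678) (tt N13220 D45382))
theorem Q11062 : ∀ i, i < 11062 → P i := stepQ 11061 Q11061 (allL N11061 (tt N13190 (iv F188909)) (tt N12814 (iv F185843)) (tt N11061 F131679) (tt N13220 (iv F189098)) (tt N9634 F131680) (tt N13218 (iv F189086)) (tt N9114 F131681) (tt N12833 (iv F202707)) (tt N13151 (iv F188595)) (tt N9112 (iv D31106)))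
theorem Q11063 : ∀ i, i < 11063 → P i := stepQ 11062 Q11062 (allL N11062 (tt N13191 (iv F188913)) (tt N13221 D45383) (tt N9113 (iv D31107)) (tt N11062 F131682) (tt N13222 D45384) (tt N12325 (iv F178346)) (tt N13219 (iv F189093)) (tt N13085 (iv F188159)) (tt N9120 F131683) (tt N13223 D45385))
theorem Q11064 : ∀ i, i < 11064 → P i := stepQ 11063 Q11063 (allL N11063 (tt N12778 (iv F202114)) (tt N12815 (iv F185847)) (tt N13222 (iv F189102)) (tt N9635 F131684) (tt N9113 (iv D31108)) (tt N13224 D45386) (tt N12821 (iv F202597)) (tt N12759 (iv F201803)) (tt N9121 F131685) (tt N13225 D45387))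
theorem Q11065 : ∀ i, i < 11065 → P i := stepQ 11064 Q11064 (allL N11064 (tt N13192 (iv F188919)) (tt N12816 (iv F185850)) (tt N13223 (iv F189104)) (tt N9114 F131686) (tt N13225 (iv F189109)) (tt N12327 (iv F178351)) (tt N13220 (iv F189099)) (tt N13086 (iv F188165)) (tt N13226 D45388) (tt N9113 (iv D31109)))
theorem Q11066 : ∀ i, i < 11066 → P i := stepQ 11065 Q11065 (allL N11065 (tt N13193 (iv F188921)) (tt N12817 (iv F185852)) (tt N9131 F131687) (tt N13216 (iv F189079)) (tt N9248 F131688) (tt N13087 (iv F188168)) (tt N9115 (iv D31110)) (tt N12328 (iv F178354)) (tt N13227 D45389) (tt N13155 (iv F188603)))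
theorem Q11067 : ∀ i, i < 11067 → P i := stepQ 11066 Q11066 (allL N11066 (tt N13194 (iv F188924)) (tt N12818 (iv F185855)) (tt N9132 F131689) (tt N13228 D45390) (tt N9249 F131690) (tt N9117 F131691) (tt N13227 (iv F189113)) (tt N9116 F131692) (tt N9115 (iv D31111)) (tt N13229 D45391))
theorem Q11068 : ∀ i, i < 11068 → P i := stepQ 11067 Q11067 (allL N11067 (tt N13195 (iv F188929)) (tt N12819 (iv F185860)) (tt N13230 D45392) (tt N9116 (iv D31112)) (tt N13231 D45393) (tt N9118 F131693) (tt N12330 (iv F178360)) (tt N13228 (iv F189115)) (tt N13217 (iv F189084)) (tt N13232 D45394))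
theorem Q11069 : ∀ i, i < 11069 → P i := stepQ 11068 Q11068 (allL N11068 (tt N13196 (iv F188931)) (tt N12820 (iv F185862)) (tt N9134 F131694) (tt N13232 (iv F189123)) (tt N9251 F131695) (tt N9119 F131696) (tt N12331 (iv F178364)) (tt N13229 (iv F189119)) (tt N13158 (iv F188612)) (tt N9116 (iv D31113)))
theorem Q11070 : ∀ i, i < 11070 → P i := stepQ 11069 Q11069 (allL N11069 (tt N13197 (iv F188935)) (tt N12821 (iv F185866)) (tt N13233 D45395) (tt N9117 (iv D31114)) (tt N12813 (iv F202512)) (tt N13228 (iv F189114)) (tt N12815 (iv F202118)) (tt N9118 F131697) (tt N12824 (iv F202704)) (tt N13234 D45397))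
theorem Q11071 : ∀ i, i < 11071 → P i := stepQ 11070 Q11070 (allL N11070 (tt N13198 (iv F188937)) (tt N12822 (iv F185868)) (tt N9136 F131698) (tt N13234 (iv F189129)) (tt N9124 F131699) (tt N13229 (iv F189118)) (tt N13091 (iv F188181)) (tt N9119 F131700) (tt N13160 (iv F188617)) (tt N9117 (iv D31115)))
theorem Q11072 : ∀ i, i < 11072 → P i := stepQ 11071 Q11071 (allL N11071 (tt N13199 (iv F188941)) (tt N13235 D45398) (tt N9118 (iv D31116)) (tt N9137 F131701) (tt N13236 D45399) (tt N13230 (iv F189121)) (tt N9120 F131702) (tt N13233 (iv F189126)) (tt N13219 (iv F189094)) (tt N13237 D45400))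
theorem Q11073 : ∀ i, i < 11073 → P i := stepQ 11072 Q11072 (allL N11072 (tt N12782 (iv F202621)) (tt N12824 (iv F185874)) (tt N13236 (iv F189133)) (tt N9125 F131703) (tt N9118 (iv D31117)) (tt N13238 D45401) (tt N9121 F131704) (tt N12813 (iv F202513)) (tt N12821 (iv F202598)) (tt N13239 D45402))
theorem Q11074 : ∀ i, i < 11074 → P i := stepQ 11073 Q11073 (allL N11073 (tt N13200 (iv F188947)) (tt N12825 (iv F185877)) (tt N13237 (iv F189136)) (tt N9119 F131705) (tt N13239 (iv F189141)) (tt N13232 (iv F189124)) (tt N9122 F131706) (tt N13234 (iv F189130)) (tt N13240 D45403) (tt N9118 (iv D31118)))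
theorem Q11075 : ∀ i, i < 11075 → P i := stepQ 11074 Q11074 (allL N11074 (tt N13241 D45404) (tt N9120 (iv D31119)) (tt N12826 (iv F185880)) (tt N9139 F131707) (tt N13242 D45405) (tt N12337 (iv F178376)) (tt N13235 (iv F189132)) (tt N13094 (iv F188190)) (tt N13221 (iv F189101)) (tt N13243 D45406))
theorem Q11076 : ∀ i, i < 11076 → P i := stepQ 11075 Q11075 (allL N11075 (tt N12784 (iv F202761)) (tt N13242 (iv F189145)) (tt N9121 F131708) (tt N9459 F131709) (tt N9120 (iv D31120)) (tt N13244 D45407) (tt N13236 (iv F189135)) (tt N13095 (iv F188193)) (tt N13222 (iv F189103)) (tt N13245 D45408))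
theorem Q11077 : ∀ i, i < 11077 → P i := stepQ 11076 Q11076 (allL N11076 (tt N13202 (iv F188954)) (tt N13243 (iv F189147)) (tt N9122 F131710) (tt N9140 F131711) (tt N13245 (iv F189153)) (tt N12339 (iv F178381)) (tt N13237 (iv F189138)) (tt N13096 (iv F188196)) (tt N13246 D45409) (tt N9120 (iv D31121)))
theorem Q11078 : ∀ i, i < 11078 → P i := stepQ 11077 Q11077 (allL N11077 (tt N11792 (iv F202759)) (tt N12829 (iv F185886)) (tt N13244 (iv F189149)) (tt N9127 F131712) (tt N12340 (iv F178383)) (tt N9121 (iv D31122)) (tt N13247 D45410) (tt N13097 (iv F188198)) (tt N13224 (iv F189107)) (tt N13248 D45411))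
theorem Q11079 : ∀ i, i < 11079 → P i := stepQ 11078 Q11078 (allL N11078 (tt N12785 (iv F202763)) (tt N12830 (iv F185888)) (tt N13245 (iv F189151)) (tt N9128 F131713) (tt N9122 F131714) (tt N13248 (iv F189157)) (tt N13239 (iv F189142)) (tt N13098 (iv F188201)) (tt N13249 D45412) (tt N9121 (iv D31123)))
theorem Q11080 : ∀ i, i < 11080 → P i := stepQ 11079 Q11079 (allL N11079 (tt N13203 (iv F188962)) (tt N12831 (iv F185891)) (tt N13246 (iv F189154)) (tt N13168 (iv F188632)) (tt N13249 (iv F189158)) (tt N12342 (iv F178386)) (tt N13240 (iv F189143)) (tt N13099 (iv F188202)) (tt N9122 (iv D31124)) (tt N13226 (iv F189110)))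
theorem Q11081 : ∀ i, i < 11081 → P i := stepQ 11080 Q11080 (allL N11080 (tt N12786 (iv F201732)) (tt N9634 F202206) (tt N9465 F131718) (tt N9124 F131719) (tt N12814 (iv F202515)) (tt N9264 F131720) (tt N9596 F202207) (tt N9126 F131721) (tt N12800 (iv F201871)) (tt N9123 (iv D31126)))
theorem Q11082 : ∀ i, i < 11082 → P i := stepQ 11081 Q11081 (allL N11081 (tt N12781 (iv F202623)) (tt N12832 (iv F185901)) (tt N9466 F131722) (tt N13238 (iv F189139)) (tt N9265 F131723) (tt N9125 (iv D31127)) (tt N13250 D45416) (tt N12812 (iv F202509)) (tt N9638 F131724) (tt N13251 D45417))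
theorem Q11083 : ∀ i, i < 11083 → P i := stepQ 11082 Q11082 (allL N11082 (tt N12783 (iv F202624)) (tt N12833 (iv F185905)) (tt N9467 F131725) (tt N13239 (iv F189140)) (tt N9126 F131726) (tt N13251 (iv F189176)) (tt N9128 F131727) (tt N12814 (iv F202516)) (tt N12797 (iv F202595)) (tt N9125 (iv D31128)))
theorem Q11084 : ∀ i, i < 11084 → P i := stepQ 11083 Q11083 (allL N11083 (tt N11791 (iv F202758)) (tt N12834 (iv F185914)) (tt N9468 F131732) (tt N13247 (iv F189155)) (tt N9129 F131733) (tt N13250 (iv F189172)) (tt N9127 (iv D31130)) (tt N13252 D45419) (tt N9639 F131734) (tt N13253 D45420))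
theorem Q11085 : ∀ i, i < 11085 → P i := stepQ 11084 Q11084 (allL N11084 (tt N11793 (iv F202760)) (tt N12835 (iv F185918)) (tt N9469 F131735) (tt N13248 (iv F189156)) (tt N9130 F131736) (tt N9128 F131737) (tt N13253 (iv F189186)) (tt N13101 (iv F188228)) (tt N11833 (iv F202774)) (tt N9127 (iv D31131)))
theorem Q11086 : ∀ i, i < 11086 → P i := stepQ 11085 Q11085 (allL N11085 (tt N11794 (iv F202862)) (tt N12836 (iv F185926)) (tt N9470 F131741) (tt N12351 (iv F178414)) (tt N13252 (iv F189182)) (tt N9269 F131742) (tt N13102 (iv F188235)) (tt N9129 (iv D31133)) (tt N9640 F131743) (tt N13254 D45423))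
theorem Q11087 : ∀ i, i < 11087 → P i := stepQ 11086 Q11086 (allL N11086 (tt N11796 (iv F202840)) (tt N12837 (iv F185930)) (tt N9471 F131744) (tt N12352 (iv F178418)) (tt N13253 (iv F189185)) (tt N9270 F131745) (tt N9130 F131746) (tt N13254 (iv F189194)) (tt N11834 (iv F202838)) (tt N9129 (iv D31134)))
theorem Q11088 : ∀ i, i < 11088 → P i := stepQ 11087 Q11087 (allL N11087 (tt N13204 (iv F189012)) (tt N9142 F131752) (tt N13227 (iv F189111)) (tt N13255 D45427) (tt N9271 F131753) (tt N13104 (iv F188249)) (tt N9132 F131754) (tt N12354 (iv F178430)) (tt N9131 (iv D31137)) (tt N13256 D45428))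
theorem Q11089 : ∀ i, i < 11089 → P i := stepQ 11088 Q11088 (allL N11088 (tt N13205 (iv F189016)) (tt N9143 F131755) (tt N13257 D45429) (tt N9132 (iv D31138)) (tt N13258 D45430) (tt N9135 F131756) (tt N13255 (iv F189205)) (tt N9133 F131757) (tt N11088 F131758) (tt N13259 D45431))
theorem Q11090 : ∀ i, i < 11090 → P i := stepQ 11089 Q11089 (allL N11089 (tt N13206 (iv F189021)) (tt N9144 F131759) (tt N13229 (iv F189116)) (tt N13259 (iv F189219)) (tt N9273 F131760) (tt N9136 F131761) (tt N13256 (iv F189209)) (tt N9134 F131762) (tt N13172 (iv F188683)) (tt N9132 (iv D31139)))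
theorem Q11091 : ∀ i, i < 11091 → P i := stepQ 11090 Q11090 (allL N11090 (tt N13207 (iv F189026)) (tt N13260 D45432) (tt N9133 (iv D31140)) (tt N13230 (iv F189120)) (tt N13261 D45433) (tt N9137 F131763) (tt N12357 (iv F178440)) (tt N13257 (iv F189211)) (tt N11090 F131764) (tt N13262 D45434))
theorem Q11092 : ∀ i, i < 11092 → P i := stepQ 11091 Q11091 (allL N11091 (tt N13208 (iv F189029)) (tt N9146 F131765) (tt N13261 (iv F189225)) (tt N9275 F131766) (tt N9133 (iv D31141)) (tt N9475 F131767) (tt N12358 (iv F178445)) (tt N13258 (iv F189216)) (tt N11091 F131768) (tt N13263 D45435))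
theorem Q11093 : ∀ i, i < 11093 → P i := stepQ 11092 Q11092 (allL N11092 (tt N13209 (iv F189034)) (tt N9147 F131769) (tt N13262 (iv F189228)) (tt N9134 F131770) (tt N13263 (iv F189232)) (tt N9138 F131771) (tt N12359 (iv F178450)) (tt N13259 (iv F189221)) (tt N13264 D45436) (tt N9133 (iv D31142)))
theorem Q11094 : ∀ i, i < 11094 → P i := stepQ 11093 Q11093 (allL N11093 (tt N11858 (iv F205124)) (tt N13265 D45437) (tt N9135 (iv D31143)) (tt N13233 (iv F189125)) (tt N9477 F131772) (tt N13257 (iv F189210)) (tt N11835 (iv F205155)) (tt N9137 F131773) (tt N11093 F131774) (tt N13266 D45438))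
theorem Q11095 : ∀ i, i < 11095 → P i := stepQ 11094 Q11094 (allL N11094 (tt N13210 (iv F189042)) (tt N9149 F131775) (tt N13266 (iv F189241)) (tt N9136 F131776) (tt N9478 F131777) (tt N13259 (iv F189220)) (tt N13109 (iv F188275)) (tt N9138 F131778) (tt N13267 D45439) (tt N9135 (iv D31144)))
theorem Q11096 : ∀ i, i < 11096 → P i := stepQ 11095 Q11095 (allL N11095 (tt N13268 D45440) (tt N9137 (iv D31145)) (tt N9150 F131779) (tt N13235 (iv F189131)) (tt N9479 F131780) (tt N13260 (iv F189223)) (tt N9139 F131781) (tt N13265 (iv F189239)) (tt N11095 F131782) (tt N13269 D45441))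
theorem Q11097 : ∀ i, i < 11097 → P i := stepQ 11096 Q11096 (allL N11096 (tt N13211 (iv F189051)) (tt N13269 (iv F189252)) (tt N9138 F131783) (tt N13237 (iv F189137)) (tt N9480 F131784) (tt N13262 (iv F189229)) (tt N9140 F131785) (tt N13266 (iv F189243)) (tt N13270 D45442) (tt N9137 (iv D31146)))
theorem Q11098 : ∀ i, i < 11098 → P i := stepQ 11097 Q11097 (allL N11097 (tt N13212 (iv F189055)) (tt N9152 F131786) (tt N13270 (iv F189256)) (tt N13177 (iv F188708)) (tt N9481 F131787) (tt N13264 (iv F189235)) (tt N9141 F131788) (tt N13267 (iv F189246)) (tt N9138 (iv D31147)) (tt N11097 F131789))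
theorem Q11099 : ∀ i, i < 11099 → P i := stepQ 11098 Q11098 (allL N11098 (tt N9139 (iv D31148)) (tt N13213 (iv F189060)) (tt N9153 F131790) (tt N13241 (iv F189144)) (tt N9482 F131791) (tt N12365 (iv F178471)) (tt N13268 (iv F189250)) (tt N13113 (iv F188290)) (tt N11098 F131792) (tt N13271 D45443))
theorem Q11100 : ∀ i, i < 11100 → P i := stepQ 11099 Q11099 (allL N11099 (tt N13271 (iv F189260)) (tt N9140 F131793) (tt N9154 F131794) (tt N13243 (iv F189148)) (tt N9483 F131795) (tt N12366 (iv F178476)) (tt N13269 (iv F189255)) (tt N13114 (iv F188295)) (tt N13272 D45444) (tt N9139 (iv D31149)))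
theorem Q11101 : ∀ i, i < 11101 → P i := stepQ 11100 Q11100 (allL N11100 (tt N13215 (iv F189067)) (tt N13272 (iv F189263)) (tt N9141 F131796) (tt N13273 D45445) (tt N9484 F131797) (tt N12367 (iv F178479)) (tt N13270 (iv F189258)) (tt N13115 (iv F188298)) (tt N9140 (iv D31150)) (tt N11100 F131798))
theorem Q11102 : ∀ i, i < 11102 → P i := stepQ 11101 Q11101 (allL N11101 (tt N11101 F131799) (tt N13255 (iv F189204)) (tt N12266 (iv F206280)) (tt N9142 (iv D31151)) (tt N12722 (iv F204668)) (tt N12271 (iv F206397)) (tt N9143 F131800) (tt N12268 (iv F205846)) (tt N11101 F131801) (tt N13274 D45448))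
theorem Q11103 : ∀ i, i < 11103 → P i := stepQ 11102 Q11102 (allL N11102 (tt N11102 F131802) (tt N13256 (iv F189207)) (tt N12851 (iv F185983)) (tt N13274 (iv F189276)) (tt N9286 F131803) (tt N12860 (iv F206210)) (tt N9144 F131804) (tt N12368 (iv F178488)) (tt N12854 (iv F205887)) (tt N9142 (iv D31152)))
theorem Q11104 : ∀ i, i < 11104 → P i := stepQ 11103 Q11103 (allL N11103 (tt N11103 F131805) (tt N13275 D45449) (tt N9143 (iv D31153)) (tt N12265 (iv F205880)) (tt N13276 D45450) (tt N9148 F131806) (tt N12266 (iv F206281)) (tt N9145 F131807) (tt N11103 F131808) (tt N13277 D45451))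
theorem Q11105 : ∀ i, i < 11105 → P i := stepQ 11104 Q11104 (allL N11104 (tt N11104 F131809) (tt N13258 (iv F189213)) (tt N13276 (iv F189282)) (tt N9288 F131810) (tt N9143 (iv D31154)) (tt N9392 (iv F204805)) (tt N12722 F204729) (tt N9146 F131812) (tt N11104 F131813) (tt N13278 D45452))
theorem Q11106 : ∀ i, i < 11106 → P i := stepQ 11105 Q11105 (allL N11105 (tt N11105 F131814) (tt N13259 (iv F189218)) (tt N13277 (iv F189287)) (tt N9144 F131815) (tt N13278 (iv F189292)) (tt N9149 F131816) (tt N13274 (iv F189277)) (tt N9147 F131817) (tt N13279 D45453) (tt N9143 (iv D31155)))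
theorem Q11107 : ∀ i, i < 11107 → P i := stepQ 11106 Q11106 (allL N11106 (tt N13280 D45454) (tt N9145 (iv D31156)) (tt N13260 (iv F189222)) (tt N12853 (iv F185998)) (tt N13281 D45455) (tt N9150 F131818) (tt N12371 (iv F178503)) (tt N13275 (iv F189279)) (tt N11106 F131819) (tt N13282 D45456))
theorem Q11108 : ∀ i, i < 11108 → P i := stepQ 11107 Q11107 (allL N11107 (tt N11107 F131820) (tt N13281 (iv F189302)) (tt N9146 F131821) (tt N13283 D45457) (tt N9145 (iv D31157)) (tt N9489 F131822) (tt N12372 (iv F178508)) (tt N13276 (iv F189284)) (tt N11107 F131823) (tt N13284 D45458))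
theorem Q11109 : ∀ i, i < 11109 → P i := stepQ 11108 Q11108 (allL N11108 (tt N11108 F131824) (tt N13282 (iv F189305)) (tt N9147 F131825) (tt N12854 (iv F186005)) (tt N13284 (iv F189312)) (tt N9151 F131826) (tt N12373 (iv F178513)) (tt N13277 (iv F189289)) (tt N13285 D45459) (tt N9145 (iv D31158)))
theorem Q11110 : ∀ i, i < 11110 → P i := stepQ 11109 Q11109 (allL N11109 (tt N11109 F131827) (tt N13263 (iv F189230)) (tt N13284 (iv F189311)) (tt N9293 F131828) (tt N9147 F131829) (tt N9491 F131830) (tt N12374 (iv F178518)) (tt N13278 (iv F189294)) (tt N13286 D45460) (tt N9146 (iv D31159)))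
theorem Q11111 : ∀ i, i < 11111 → P i := stepQ 11110 Q11110 (allL N11110 (tt N11110 F131831) (tt N13264 (iv F189234)) (tt N13285 (iv F189315)) (tt N13182 (iv F188755)) (tt N13286 (iv F189319)) (tt N9152 F131832) (tt N12375 (iv F178521)) (tt N13279 (iv F189297)) (tt N9147 (iv D31160)) (tt N11110 F131833))
theorem Q11112 : ∀ i, i < 11112 → P i := stepQ 11111 Q11111 (allL N11111 (tt N13287 D45461) (tt N9148 (iv D31161)) (tt N13265 (iv F189237)) (tt N12856 (iv F186013)) (tt N9493 F131834) (tt N13275 (iv F189278)) (tt N13119 (iv F188338)) (tt N9150 F131835) (tt N11111 F131836) (tt N13288 D45462))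
theorem Q11113 : ∀ i, i < 11113 → P i := stepQ 11112 Q11112 (allL N11112 (tt N11112 F131837) (tt N13288 (iv F189326)) (tt N9149 F131838) (tt N12857 (iv F186018)) (tt N9494 F131839) (tt N13277 (iv F189288)) (tt N13120 (iv F188344)) (tt N9151 F131840) (tt N13289 D45463) (tt N9148 (iv D31162)))
theorem Q11114 : ∀ i, i < 11114 → P i := stepQ 11113 Q11113 (allL N11113 (tt N11113 F131841) (tt N13267 (iv F189244)) (tt N13289 (iv F189330)) (tt N12379 (iv F205903)) (tt N9495 F131842) (tt N13279 (iv F189296)) (tt N12382 (iv F206505)) (tt N9152 F131843) (tt N9149 (iv D31163)) (tt N11113 F131844))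
theorem Q11115 : ∀ i, i < 11115 → P i := stepQ 11114 Q11114 (allL N11114 (tt N9150 (iv D31164)) (tt N11114 F131845) (tt N13268 (iv F189248)) (tt N12858 (iv F186025)) (tt N9496 F131846) (tt N13280 (iv F189300)) (tt N9153 F131847) (tt N13287 (iv F189324)) (tt N11114 F131848) (tt N13290 D45464))
theorem Q11116 : ∀ i, i < 11116 → P i := stepQ 11115 Q11115 (allL N11115 (tt N13290 (iv F189334)) (tt N9151 F131849) (tt N13269 (iv F189253)) (tt N12859 (iv F186029)) (tt N9497 F131850) (tt N13282 (iv F189306)) (tt N9154 F131851) (tt N13288 (iv F189328)) (tt N13291 D45465) (tt N9150 (iv D31165)))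
theorem Q11117 : ∀ i, i < 11117 → P i := stepQ 11116 Q11116 (allL N11116 (tt N11116 F131852) (tt N13291 (iv F189338)) (tt N9152 F131853) (tt N13292 D45466) (tt N9498 F131854) (tt N13285 (iv F189316)) (tt N9155 F131855) (tt N13289 (iv F189332)) (tt N9151 (iv D31166)) (tt N11116 F131856))
theorem Q11118 : ∀ i, i < 11118 → P i := stepQ 11117 Q11117 (allL N11117 (tt N9154 F131857) (tt N11117 F131858) (tt N13271 (iv F189261)) (tt N12861 (iv F186038)) (tt N9499 F131859) (tt N12380 (iv F178549)) (tt N13290 (iv F189337)) (tt N13124 (iv F188366)) (tt N13293 D45467) (tt N9153 (iv D31167)))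
theorem Q11119 : ∀ i, i < 11119 → P i := stepQ 11118 Q11118 (allL N11118 (tt N13293 (iv F189345)) (tt N9155 F131860) (tt N13272 (iv F189264)) (tt N13294 D45468) (tt N9500 F131861) (tt N12381 (iv F178552)) (tt N13291 (iv F189340)) (tt N13125 (iv F188369)) (tt N9154 (iv D31168)) (tt N11118 F131862))
theorem Q11120 : ∀ i, i < 11120 → P i := stepQ 11119 Q11119 (allL N11119 (tt N11119 F131863) (tt N13294 (iv F189349)) (tt N13185 (iv F188789)) (tt N9155 (iv D31169)) (tt N13295 D45469) (tt N12382 (iv F178555)) (tt N13292 (iv F189343)) (tt N13118 (iv F206503)) (tt N12863 (iv F186043)) (tt N11119 F131864))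
theorem Q11121 : ∀ i, i < 11121 → P i := stepQ 11120 Q11120 (allL N11120 (tt N9620 (iv F202771)) (tt N9158 F131877) (tt N11120 F131878) (tt N12657 (iv F203024)) (tt N13126 (iv F188386)) (tt N9156 (iv D31173)) (tt N12413 (iv F178953)) (tt N13187 (iv F198701)) (tt N12943 (iv F203014)) (tt N9214 F131879))
theorem Q11122 : ∀ i, i < 11122 → P i := stepQ 11121 Q11121 (allL N11121 (tt N9619 F202307) (tt N9159 F131880) (tt N11121 F131881) (tt N9653 (iv F198698)) (tt N9157 F131882) (tt N13187 (iv F198700)) (tt N11121 F131883) (tt N9156 (iv D31174)) (tt N12941 (iv F202750)) (tt N9215 F131884))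
theorem Q11123 : ∀ i, i < 11123 → P i := stepQ 11122 Q11122 (allL N11122 (tt N9175 F131959) (tt N13187 (iv F198699)) (tt N9165 F131960) (tt N12655 (iv F203600)) (tt N13131 (iv F188461)) (tt N9159 F131961) (tt N13296 D45511) (tt N9158 (iv D31194)) (tt N13297 D45512) (tt N9221 F131962))
theorem Q11124 : ∀ i, i < 11124 → P i := stepQ 11123 Q11123 (allL N11123 (tt N9176 F131963) (tt N12943 (iv F203013)) (tt N9166 F131964) (tt N13298 D45513) (tt N13132 (iv F188466)) (tt N9160 F131965) (tt N12421 (iv F179045)) (tt N13297 (iv F189515)) (tt N9158 (iv D31195)) (tt N13299 D45514))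
theorem Q11125 : ∀ i, i < 11125 → P i := stepQ 11124 Q11124 (allL N11124 (tt N9177 F131966) (tt N12941 (iv F202749)) (tt N9167 F131967) (tt N13300 D45515) (tt N9163 F131968) (tt N13297 (iv F189514)) (tt N11124 F131969) (tt N9160 F131970) (tt N9159 (iv D31196)) (tt N13301 D45516))
theorem Q11126 : ∀ i, i < 11126 → P i := stepQ 11125 Q11125 (allL N11125 (tt N9178 F131971) (tt N12934 (iv F203012)) (tt N12441 (iv F203821)) (tt N9160 (iv D31197)) (tt N12917 (iv F203009)) (tt N13298 (iv F189517)) (tt N9161 F131972) (tt N13300 (iv F189524)) (tt N12451 (iv F203607)) (tt N13302 D45519))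
theorem Q11127 : ∀ i, i < 11127 → P i := stepQ 11126 Q11126 (allL N11126 (tt N9179 F131973) (tt N12944 (iv F203011)) (tt N9168 F131974) (tt N13302 (iv F189538)) (tt N9164 F131975) (tt N13299 (iv F189520)) (tt N9162 F131976) (tt N13301 (iv F189529)) (tt N9225 F131977) (tt N9160 (iv D31198)))
theorem Q11128 : ∀ i, i < 11128 → P i := stepQ 11127 Q11127 (allL N11127 (tt N9182 F131984) (tt N12939 (iv F203062)) (tt N12444 (iv F203823)) (tt N9162 F131985) (tt N12919 (iv F203047)) (tt N12426 (iv F179067)) (tt N13302 (iv F189539)) (tt N11127 F131986) (tt N13303 D45525) (tt N9161 (iv D31201)))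
theorem Q11129 : ∀ i, i < 11129 → P i := stepQ 11128 Q11128 (allL N11128 (tt N9184 F131992) (tt N12942 (iv F202751)) (tt N9169 F131993) (tt N12920 (iv F202746)) (tt N13301 (iv F189527)) (tt N13138 (iv F188492)) (tt N11128 F131994) (tt N9164 F131995) (tt N9228 F131996) (tt N9163 (iv D31203)))
theorem Q11130 : ∀ i, i < 11130 → P i := stepQ 11129 Q11129 (allL N11129 (tt N9188 F132032) (tt N11129 F132033) (tt N13296 (iv F189509)) (tt N9304 F132034) (tt N13139 (iv F188531)) (tt N11129 F132035) (tt N9165 (iv D31212)) (tt N12433 (iv F179111)) (tt N13304 D45538) (tt N9229 F132036))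
theorem Q11131 : ∀ i, i < 11131 → P i := stepQ 11130 Q11130 (allL N11130 (tt N9189 F132037) (tt N11130 F132038) (tt N13297 (iv F189513)) (tt N12651 (iv F204132)) (tt N13140 (iv F188535)) (tt N9167 F132039) (tt N13304 (iv F189615)) (tt N9166 F132040) (tt N9165 (iv D31213)) (tt N13305 D45540))
theorem Q11132 : ∀ i, i < 11132 → P i := stepQ 11131 Q11131 (allL N11131 (tt N9191 F132045) (tt N11131 F132046) (tt N13299 (iv F189519)) (tt N12652 (iv F204159)) (tt N13142 (iv F188544)) (tt N9168 F132047) (tt N12435 (iv F179125)) (tt N13305 (iv F189624)) (tt N9232 F132048) (tt N9166 (iv D31215)))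
theorem Q11133 : ∀ i, i < 11133 → P i := stepQ 11132 Q11132 (allL N11132 (tt N9193 F132055) (tt N11132 F132056) (tt N13301 (iv F189526)) (tt N12653 (iv F204134)) (tt N9169 F132057) (tt N13305 (iv F189623)) (tt N11132 F132058) (tt N9168 F132059) (tt N9234 F132060) (tt N9167 (iv D31217)))
theorem Q11134 : ∀ i, i < 11134 → P i := stepQ 11133 Q11133 (allL N11133 (tt N12658 (iv F203590)) (tt N12870 (iv F186644)) (tt N9305 F132084) (tt N12914 (iv F198706)) (tt N9170 (iv D31223)) (tt N9645 F132085) (tt N12437 (iv F179161)) (tt N12911 (iv F198760)) (tt N13306 D45553) (tt N9239 F132086))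
theorem Q11135 : ∀ i, i < 11135 → P i := stepQ 11134 Q11134 (allL N11134 (tt N12655 (iv F203598)) (tt N12871 (iv F186648)) (tt N9306 F132087) (tt N9175 F132088) (tt N12911 (iv F198759)) (tt N9171 F132089) (tt N13307 D45554) (tt N9170 (iv D31224)) (tt N13308 D45555) (tt N9240 F132090))
theorem Q11136 : ∀ i, i < 11136 → P i := stepQ 11135 Q11135 (allL N11135 (tt N12474 (iv F203603)) (tt N12872 (iv F186653)) (tt N9307 F132091) (tt N13309 D45556) (tt N13306 (iv F189681)) (tt N9172 F132092) (tt N12439 (iv F179169)) (tt N13308 (iv F189689)) (tt N9170 (iv D31225)) (tt N13310 D45557))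
theorem Q11137 : ∀ i, i < 11137 → P i := stepQ 11136 Q11136 (allL N11136 (tt N12477 (iv F203604)) (tt N12873 (iv F186656)) (tt N9308 F132093) (tt N13311 D45558) (tt N9647 F132094) (tt N13308 (iv F189688)) (tt N11136 F132095) (tt N9172 F132096) (tt N9171 (iv D31226)) (tt N13312 D45559))
theorem Q11138 : ∀ i, i < 11138 → P i := stepQ 11137 Q11137 (allL N11137 (tt N12451 (iv F203606)) (tt N12874 (iv F186661)) (tt N12423 (iv F203812)) (tt N9172 (iv D31227)) (tt N13313 D45561) (tt N13309 (iv F189690)) (tt N9173 F132097) (tt N13311 (iv F189696)) (tt N9178 F132098) (tt N13314 D45562))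
theorem Q11139 : ∀ i, i < 11139 → P i := stepQ 11138 Q11138 (allL N11138 (tt N12480 (iv F203608)) (tt N12875 (iv F186664)) (tt N9309 F132099) (tt N13314 (iv F189709)) (tt N9649 F132100) (tt N13310 (iv F189693)) (tt N9174 F132101) (tt N13312 (iv F189701)) (tt N9244 F132102) (tt N9172 (iv D31228)))
theorem Q11140 : ∀ i, i < 11140 → P i := stepQ 11139 Q11139 (allL N11139 (tt N12455 F203396) (tt N9219 (iv F203653)) (tt N12425 (iv F203814)) (tt N9213 F203397) (tt N9173 (iv D31230)) (tt N12502 (iv F203845)) (tt N13313 (iv F189707)) (tt N11139 F132107) (tt N9181 F132108) (tt N13315 D45567))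
theorem Q11141 : ∀ i, i < 11141 → P i := stepQ 11140 Q11140 (allL N11140 (tt N12456 (iv F203819)) (tt N12876 (iv F186676)) (tt N12426 (iv F203816)) (tt N9174 F132109) (tt N13315 (iv F189724)) (tt N12444 (iv F179188)) (tt N13314 (iv F189710)) (tt N11140 F132110) (tt N13316 D45568) (tt N9173 (iv D31231)))
theorem Q11142 : ∀ i, i < 11142 → P i := stepQ 11141 Q11141 (allL N11141 (tt N13296 (iv F189508)) (tt N12877 (iv F186679)) (tt N9188 F132111) (tt N13307 (iv F189684)) (tt N13155 (iv F188602)) (tt N11141 F132112) (tt N9175 (iv D31232)) (tt N12445 (iv F179192)) (tt N13317 D45569) (tt N9248 F132113))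
theorem Q11143 : ∀ i, i < 11143 → P i := stepQ 11142 Q11142 (allL N11142 (tt N13297 (iv F189512)) (tt N12878 (iv F186683)) (tt N9189 F132114) (tt N13318 D45570) (tt N13156 (iv F188605)) (tt N9177 F132115) (tt N13317 (iv F189731)) (tt N9176 F132116) (tt N9175 (iv D31233)) (tt N13319 D45571))
theorem Q11144 : ∀ i, i < 11144 → P i := stepQ 11143 Q11143 (allL N11143 (tt N13298 (iv F189516)) (tt N12879 (iv F186687)) (tt N13320 D45572) (tt N9176 (iv D31234)) (tt N13321 D45573) (tt N9178 F132117) (tt N12447 (iv F179198)) (tt N13318 (iv F189733)) (tt N13309 (iv F189691)) (tt N13322 D45574))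
theorem Q11145 : ∀ i, i < 11145 → P i := stepQ 11144 Q11144 (allL N11144 (tt N13299 (iv F189518)) (tt N12880 (iv F186689)) (tt N9191 F132118) (tt N13322 (iv F189740)) (tt N13158 (iv F188610)) (tt N9179 F132119) (tt N12448 (iv F179201)) (tt N13319 (iv F189736)) (tt N9251 F132120) (tt N9176 (iv D31235)))
theorem Q11146 : ∀ i, i < 11146 → P i := stepQ 11145 Q11145 (allL N11145 (tt N13300 (iv F189522)) (tt N12881 (iv F186693)) (tt N13323 D45575) (tt N9177 (iv D31236)) (tt N13324 D45576) (tt N13318 (iv F189732)) (tt N11145 F132121) (tt N9178 F132122) (tt N13311 (iv F189697)) (tt N13325 D45577))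
theorem Q11147 : ∀ i, i < 11147 → P i := stepQ 11146 Q11146 (allL N11146 (tt N13301 (iv F189525)) (tt N12882 (iv F186696)) (tt N9193 F132123) (tt N13325 (iv F189748)) (tt N9184 F132124) (tt N13319 (iv F189735)) (tt N11146 F132125) (tt N9179 F132126) (tt N9253 F132127) (tt N9177 (iv D31237)))
theorem Q11148 : ∀ i, i < 11148 → P i := stepQ 11147 Q11147 (allL N11147 (tt N12441 (iv F203820)) (tt N13326 D45578) (tt N9178 (iv D31238)) (tt N9194 F132128) (tt N13327 D45579) (tt N13320 (iv F189739)) (tt N9180 F132129) (tt N13323 (iv F189744)) (tt N12423 (iv F203813)) (tt N13328 D45580))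
theorem Q11149 : ∀ i, i < 11149 → P i := stepQ 11148 Q11148 (allL N11148 (tt N12917 F203195) (tt N9224 (iv F203505)) (tt N13327 (iv F189753)) (tt N9185 F132130) (tt N9178 (iv D31239)) (tt N13329 D45581) (tt N9181 F132131) (tt N13324 (iv F189747)) (tt N13313 (iv F189708)) (tt N13330 D45582))
theorem Q11150 : ∀ i, i < 11150 → P i := stepQ 11149 Q11149 (allL N11149 (tt N13302 (iv F189537)) (tt N12884 (iv F186707)) (tt N13328 (iv F189756)) (tt N9179 F132132) (tt N13330 (iv F189761)) (tt N13322 (iv F189741)) (tt N9182 F132133) (tt N13325 (iv F189750)) (tt N13331 D45583) (tt N9178 (iv D31240)))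
theorem Q11151 : ∀ i, i < 11151 → P i := stepQ 11150 Q11150 (allL N11150 (tt N12972 (iv F203079)) (tt N9180 (iv D31241)) (tt N12885 (iv F186710)) (tt N9196 F132134) (tt N13332 D45585) (tt N12454 (iv F179217)) (tt N13326 (iv F189752)) (tt N11150 F132135) (tt N12416 (iv F203063)) (tt N13333 D45586))
theorem Q11152 : ∀ i, i < 11152 → P i := stepQ 11151 Q11151 (allL N11151 (tt N12443 F203399) (tt N13332 (iv F189767)) (tt N9181 F132136) (tt N11151 F132137) (tt N9180 (iv D31242)) (tt N12509 (iv F203844)) (tt N13327 (iv F189755)) (tt N11151 F132138) (tt N12425 (iv F203815)) (tt N13334 D45588))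
theorem Q11153 : ∀ i, i < 11153 → P i := stepQ 11152 Q11152 (allL N11152 (tt N12444 (iv F203822)) (tt N13333 (iv F189770)) (tt N9182 F132139) (tt N9197 F132140) (tt N13334 (iv F189778)) (tt N12456 (iv F179223)) (tt N13328 (iv F189758)) (tt N11152 F132141) (tt N13335 D45589) (tt N9180 (iv D31243)))
theorem Q11154 : ∀ i, i < 11154 → P i := stepQ 11153 Q11153 (allL N11153 (tt N12919 F203400) (tt N9227 (iv F203657)) (tt N13334 (iv F189776)) (tt N9187 F132144) (tt N9182 F132145) (tt N12510 (iv F203838)) (tt N13330 (iv F189762)) (tt N11153 F132146) (tt N13336 D45592) (tt N9181 (iv D31245)))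
theorem Q11155 : ∀ i, i < 11155 → P i := stepQ 11154 Q11154 (allL N11154 (tt N13303 (iv F189557)) (tt N12887 (iv F186725)) (tt N13335 (iv F189780)) (tt N9262 F132147) (tt N13336 (iv F189786)) (tt N12459 (iv F179232)) (tt N13331 (iv F189764)) (tt N11154 F132148) (tt N9182 (iv D31246)) (tt N13316 (iv F189728)))
theorem Q11156 : ∀ i, i < 11156 → P i := stepQ 11155 Q11155 (allL N11155 (tt N12916 F203101) (tt N9223 F203102) (tt N11155 F132149) (tt N13324 (iv F189745)) (tt N9183 (iv D31247)) (tt N13337 D45593) (tt N11155 F132150) (tt N9185 F132151) (tt N9215 F203103) (tt N13338 D45594))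
theorem Q11157 : ∀ i, i < 11157 → P i := stepQ 11156 Q11156 (allL N11156 (tt N12920 F203104) (tt N9228 F203105) (tt N11156 F132153) (tt N9184 F132154) (tt N13338 (iv F189792)) (tt N13169 (iv F188638)) (tt N11156 F132155) (tt N9186 F132156) (tt N12942 (iv F202748)) (tt N9183 (iv D31248)))
theorem Q11158 : ∀ i, i < 11158 → P i := stepQ 11157 Q11157 (allL N11157 (tt N12915 F203193) (tt N9222 (iv F203507)) (tt N11157 F132157) (tt N13329 (iv F189759)) (tt N13170 (iv F188641)) (tt N9185 (iv D31249)) (tt N12505 (iv F203626)) (tt N13337 (iv F189789)) (tt N9214 F203194) (tt N13339 D45597))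
theorem Q11159 : ∀ i, i < 11159 → P i := stepQ 11158 Q11158 (allL N11158 (tt N12918 F203196) (tt N9225 (iv F203508)) (tt N11158 F132159) (tt N13330 (iv F189760)) (tt N9186 F132160) (tt N13339 (iv F189804)) (tt N9187 F132161) (tt N13338 (iv F189794)) (tt N12944 (iv F203010)) (tt N9185 (iv D31250)))
theorem Q11160 : ∀ i, i < 11160 → P i := stepQ 11159 Q11159 (allL N11159 (tt N13304 (iv F189612)) (tt N9198 F132189) (tt N13317 (iv F189729)) (tt N13340 D45607) (tt N12853 (iv F205876)) (tt N11159 F132190) (tt N9189 F132191) (tt N12471 (iv F179269)) (tt N9188 (iv D31259)) (tt N13341 D45608))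
theorem Q11161 : ∀ i, i < 11161 → P i := stepQ 11160 Q11160 (allL N11160 (tt N12651 (iv F204131)) (tt N9199 F132192) (tt N13342 D45609) (tt N9189 (iv D31260)) (tt N13343 D45610) (tt N9192 F132193) (tt N13340 (iv F189839)) (tt N9190 F132194) (tt N9312 F132195) (tt N13344 D45611))
theorem Q11162 : ∀ i, i < 11162 → P i := stepQ 11161 Q11161 (allL N11161 (tt N13305 (iv F189621)) (tt N9200 F132196) (tt N13319 (iv F189734)) (tt N13344 (iv F189853)) (tt N13172 (iv F188680)) (tt N9193 F132197) (tt N13341 (iv F189843)) (tt N9191 F132198) (tt N9273 F132199) (tt N9189 (iv D31261)))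
theorem Q11163 : ∀ i, i < 11163 → P i := stepQ 11162 Q11162 (allL N11162 (tt N12439 (iv F203831)) (tt N13345 D45612) (tt N9190 (iv D31262)) (tt N13320 (iv F189738)) (tt N13346 D45613) (tt N9194 F132200) (tt N12474 (iv F179279)) (tt N13342 (iv F189846)) (tt N9313 F132201) (tt N13347 D45614))
theorem Q11164 : ∀ i, i < 11164 → P i := stepQ 11163 Q11163 (allL N11163 (tt N12649 (iv F204157)) (tt N9202 F132202) (tt N13346 (iv F189859)) (tt N13174 (iv F188687)) (tt N9190 (iv D31263)) (tt N11163 F132203) (tt N12475 (iv F179282)) (tt N13343 (iv F189850)) (tt N9314 F132204) (tt N13348 D45615))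
theorem Q11165 : ∀ i, i < 11165 → P i := stepQ 11164 Q11164 (allL N11164 (tt N12652 (iv F204158)) (tt N9203 F132205) (tt N13347 (iv F189862)) (tt N9191 F132206) (tt N13348 (iv F189865)) (tt N9195 F132207) (tt N12476 (iv F179287)) (tt N13344 (iv F189855)) (tt N12665 (iv F204268)) (tt N9190 (iv D31264)))
theorem Q11166 : ∀ i, i < 11166 → P i := stepQ 11165 Q11165 (allL N11165 (tt N12440 (iv F203832)) (tt N13349 D45617) (tt N9192 (iv D31265)) (tt N13323 (iv F189742)) (tt N11165 F132208) (tt N13342 (iv F189845)) (tt N11165 F132209) (tt N9194 F132210) (tt N9315 F132211) (tt N13350 D45618))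
theorem Q11167 : ∀ i, i < 11167 → P i := stepQ 11166 Q11166 (allL N11166 (tt N12653 (iv F204133)) (tt N9205 F132212) (tt N13350 (iv F189876)) (tt N9193 F132213) (tt N11166 F132214) (tt N13344 (iv F189854)) (tt N11166 F132215) (tt N9195 F132216) (tt N12666 (iv F204271)) (tt N9192 (iv D31266)))
theorem Q11168 : ∀ i, i < 11168 → P i := stepQ 11167 Q11167 (allL N11167 (tt N13351 D45620) (tt N9194 (iv D31267)) (tt N9206 F132217) (tt N13326 (iv F189751)) (tt N11167 F132218) (tt N13345 (iv F189857)) (tt N9196 F132219) (tt N13349 (iv F189874)) (tt N9316 F132220) (tt N13352 D45621))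
theorem Q11169 : ∀ i, i < 11169 → P i := stepQ 11168 Q11168 (allL N11168 (tt N12442 (iv F203833)) (tt N13352 (iv F189890)) (tt N9195 F132221) (tt N13328 (iv F189757)) (tt N11168 F132222) (tt N13347 (iv F189863)) (tt N9197 F132223) (tt N13350 (iv F189879)) (tt N12517 (iv F204197)) (tt N9194 (iv D31268)))
theorem Q11170 : ∀ i, i < 11170 → P i := stepQ 11169 Q11169 (allL N11169 (tt N9196 (iv D31270)) (tt N9662 (iv F203078)) (tt N9209 F132229) (tt N12972 (iv F203080)) (tt N11169 F132230) (tt N9616 F202574) (tt N13351 (iv F189888)) (tt N11169 F132231) (tt N9317 F132232) (tt N13353 D45623))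
theorem Q11171 : ∀ i, i < 11171 → P i := stepQ 11170 Q11170 (allL N11170 (tt N13353 (iv F189898)) (tt N9197 F132233) (tt N9210 F132234) (tt N13333 (iv F189771)) (tt N11170 F132235) (tt N12481 (iv F179310)) (tt N13352 (iv F189893)) (tt N11170 F132236) (tt N12503 (iv F203857)) (tt N9196 (iv D31271)))
theorem Q11172 : ∀ i, i < 11172 → P i := stepQ 11171 Q11171 (allL N11171 (tt N11171 F132241) (tt N13340 (iv F189837)) (tt N13034 (iv F204823)) (tt N9198 (iv D31273)) (tt N13283 (iv F204819)) (tt N11171 F132242) (tt N9199 F132243) (tt N12482 (iv F179319)) (tt N9318 F132244) (tt N13354 D45628))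
theorem Q11173 : ∀ i, i < 11173 → P i := stepQ 11172 Q11172 (allL N11172 (tt N11172 F132245) (tt N13341 (iv F189841)) (tt N12855 (iv F205542)) (tt N13354 (iv F189918)) (tt N12854 (iv F205885)) (tt N11172 F132246) (tt N9200 F132247) (tt N12483 (iv F179324)) (tt N9286 F132248) (tt N9198 (iv D31274)))
theorem Q11174 : ∀ i, i < 11174 → P i := stepQ 11173 Q11173 (allL N11173 (tt N11173 F132249) (tt N13355 D45629) (tt N9199 (iv D31275)) (tt N12023 (iv F205291)) (tt N12635 (iv F204677)) (tt N9204 F132250) (tt N13034 (iv F204824)) (tt N9201 F132251) (tt N9320 F132252) (tt N13356 D45631))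
theorem Q11175 : ∀ i, i < 11175 → P i := stepQ 11174 Q11174 (allL N11174 (tt N11174 F132253) (tt N13343 (iv F189848)) (tt N12635 (iv F204676)) (tt N12372 (iv F205872)) (tt N9199 (iv D31276)) (tt N11174 F132254) (tt N13283 (iv F204820)) (tt N9202 F132255) (tt N9321 F132256) (tt N13357 D45632))
theorem Q11176 : ∀ i, i < 11176 → P i := stepQ 11175 Q11175 (allL N11175 (tt N11175 F132257) (tt N13344 (iv F189852)) (tt N13356 (iv F189930)) (tt N9200 F132258) (tt N13357 (iv F189934)) (tt N9205 F132259) (tt N13354 (iv F189920)) (tt N9203 F132260) (tt N13358 D45633) (tt N9199 (iv D31277)))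
theorem Q11177 : ∀ i, i < 11177 → P i := stepQ 11176 Q11176 (allL N11176 (tt N13359 D45634) (tt N9201 (iv D31278)) (tt N13345 (iv F189856)) (tt N12899 (iv F186833)) (tt N13360 D45635) (tt N9206 F132261) (tt N12487 (iv F179338)) (tt N13355 (iv F189922)) (tt N9323 F132262) (tt N13361 D45636))
theorem Q11178 : ∀ i, i < 11178 → P i := stepQ 11177 Q11177 (allL N11177 (tt N11177 F132263) (tt N13360 (iv F189945)) (tt N9202 F132264) (tt N12628 (iv F206559)) (tt N9201 (iv D31279)) (tt N11177 F132265) (tt N12488 (iv F179342)) (tt N12635 (iv F204678)) (tt N9324 F132266) (tt N13362 D45638))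
theorem Q11179 : ∀ i, i < 11179 → P i := stepQ 11178 Q11178 (allL N11178 (tt N11178 F132267) (tt N13361 (iv F189948)) (tt N9203 F132268) (tt N12900 (iv F186841)) (tt N13362 (iv F189954)) (tt N9207 F132269) (tt N12489 (iv F179347)) (tt N13356 (iv F189932)) (tt N13363 D45639) (tt N9201 (iv D31280)))
theorem Q11180 : ∀ i, i < 11180 → P i := stepQ 11179 Q11179 (allL N11179 (tt N11179 F132270) (tt N13348 (iv F189864)) (tt N13362 (iv F189953)) (tt N13181 (iv F188751)) (tt N9203 F132271) (tt N11179 F132272) (tt N12490 (iv F179350)) (tt N13357 (iv F189936)) (tt N13364 D45640) (tt N9202 (iv D31281)))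
theorem Q11181 : ∀ i, i < 11181 → P i := stepQ 11180 Q11180 (allL N11180 (tt N11180 F132273) (tt N12665 (iv F204266)) (tt N13363 (iv F189957)) (tt N9294 F132274) (tt N13364 (iv F189961)) (tt N9208 F132275) (tt N12491 (iv F179354)) (tt N13358 (iv F189940)) (tt N9203 (iv D31282)) (tt N9327 F132276))
theorem Q11182 : ∀ i, i < 11182 → P i := stepQ 11181 Q11181 (allL N11181 (tt N13365 D45641) (tt N9204 (iv D31283)) (tt N13349 (iv F189871)) (tt N12902 (iv F186849)) (tt N11181 F132277) (tt N13355 (iv F189921)) (tt N11181 F132278) (tt N9206 F132279) (tt N9328 F132280) (tt N13366 D45642))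
theorem Q11183 : ∀ i, i < 11183 → P i := stepQ 11182 Q11182 (allL N11182 (tt N11182 F132281) (tt N13366 (iv F189969)) (tt N9205 F132282) (tt N12903 (iv F186855)) (tt N11182 F132283) (tt N13356 (iv F189931)) (tt N11182 F132284) (tt N9207 F132285) (tt N13367 D45643) (tt N9204 (iv D31284)))
theorem Q11184 : ∀ i, i < 11184 → P i := stepQ 11183 Q11183 (allL N11183 (tt N11183 F132286) (tt N12666 (iv F204269)) (tt N13367 (iv F189974)) (tt N9297 F132287) (tt N11183 F132288) (tt N13358 (iv F189939)) (tt N11183 F132289) (tt N9208 F132290) (tt N9205 (iv D31285)) (tt N9330 F132291))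
theorem Q11185 : ∀ i, i < 11185 → P i := stepQ 11184 Q11184 (allL N11184 (tt N9206 (iv D31286)) (tt N11184 F132292) (tt N13351 (iv F189886)) (tt N12905 (iv F186864)) (tt N11184 F132293) (tt N13359 (iv F189943)) (tt N9209 F132294) (tt N13365 (iv F189967)) (tt N9331 F132295) (tt N13368 D45644))
theorem Q11186 : ∀ i, i < 11186 → P i := stepQ 11185 Q11185 (allL N11185 (tt N13368 (iv F189979)) (tt N9207 F132296) (tt N13352 (iv F189891)) (tt N12906 (iv F186868)) (tt N11185 F132297) (tt N13361 (iv F189949)) (tt N9210 F132298) (tt N13366 (iv F189972)) (tt N13369 D45645) (tt N9206 (iv D31287)))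
theorem Q11187 : ∀ i, i < 11187 → P i := stepQ 11186 Q11186 (allL N11186 (tt N11186 F132299) (tt N13369 (iv F189983)) (tt N9208 F132300) (tt N13370 D45646) (tt N11186 F132301) (tt N13363 (iv F189958)) (tt N9211 F132302) (tt N13367 (iv F189977)) (tt N9207 (iv D31288)) (tt N9333 F132303))
theorem Q11188 : ∀ i, i < 11188 → P i := stepQ 11187 Q11187 (allL N11187 (tt N9210 F132304) (tt N11187 F132305) (tt N13353 (iv F189899)) (tt N12908 (iv F186876)) (tt N11187 F132306) (tt N12496 (iv F179379)) (tt N13368 (iv F189982)) (tt N11187 F132307) (tt N13371 D45647) (tt N9209 (iv D31289)))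
theorem Q11189 : ∀ i, i < 11189 → P i := stepQ 11188 Q11188 (allL N11188 (tt N13371 (iv F189991)) (tt N9211 F132308) (tt N12503 (iv F203856)) (tt N13372 D45648) (tt N11188 F132309) (tt N12497 (iv F179382)) (tt N13369 (iv F189985)) (tt N11188 F132310) (tt N9210 (iv D31290)) (tt N9335 F132311))
theorem Q11190 : ∀ i, i < 11190 → P i := stepQ 11189 Q11189 (allL N11189 (tt N11189 F132312) (tt N13372 (iv F189996)) (tt N9303 F132313) (tt N9211 (iv D31291)) (tt N13373 D45649) (tt N12498 (iv F179387)) (tt N13370 (iv F189989)) (tt N11189 F132314) (tt N12910 (iv F186884)) (tt N9336 F132315))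
theorem Q11191 : ∀ i, i < 11191 → P i := stepQ 11190 Q11190 (allL N11190 (tt N12911 (iv F186896)) (tt N9216 F132324) (tt N12656 (iv F203965)) (tt N9214 F132325) (tt N12655 (iv F203601)) (tt N9212 (iv D31294)) (tt N12499 (iv F179401)) (tt N12658 (iv F203594)) (tt N13374 D45657) (tt N12657 (iv F203027)))
theorem Q11192 : ∀ i, i < 11192 → P i := stepQ 11191 Q11191 (allL N11191 (tt N9645 F198903) (tt N9217 F132326) (tt N9669 (iv F199146)) (tt N9215 F132327) (tt N9641 F198904) (tt N12658 (iv F203593)) (tt N11191 F132329) (tt N9212 (iv D31295)) (tt N13375 D45658) (tt N9653 F198905))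
theorem Q11193 : ∀ i, i < 11193 → P i := stepQ 11192 Q11192 (allL N11192 (tt N12912 (iv F186904)) (tt N9218 F132330) (tt N12659 (iv F203623)) (tt N13313 (iv F203625)) (tt N9648 F203192) (tt N13374 (iv F190029)) (tt N9213 F132332) (tt N13375 (iv F190033)) (tt N9212 (iv D31296)) (tt N13376 D45660))
theorem Q11194 : ∀ i, i < 11194 → P i := stepQ 11193 Q11193 (allL N11193 (tt N12913 (iv F186912)) (tt N9220 F132336) (tt N12497 (iv F203850)) (tt N13315 (iv F203859)) (tt N9651 F203398) (tt N12503 (iv F179415)) (tt N13376 (iv F190039)) (tt N11193 F132338) (tt N12481 (iv F203073)) (tt N9213 (iv D31298)))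
theorem Q11195 : ∀ i, i < 11195 → P i := stepQ 11194 Q11194 (allL N11194 (tt N12914 (iv F186916)) (tt N9221 F132339) (tt N11194 F132340) (tt N12658 (iv F203592)) (tt N13127 (iv F198717)) (tt N9215 F132341) (tt N13377 D45664) (tt N9214 (iv D31299)) (tt N13337 (iv F203500)) (tt N13187 (iv F198702)))
theorem Q11196 : ∀ i, i < 11196 → P i := stepQ 11195 Q11195 (allL N11195 (tt N9239 F132426) (tt N12655 (iv F203599)) (tt N9337 F132427) (tt N13187 (iv F188893)) (tt N9216 (iv D31324)) (tt N9653 F132428) (tt N12512 (iv F179513)) (tt N12657 (iv F203026)) (tt N13378 D45706) (tt N12658 (iv F203595)))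
theorem Q11197 : ∀ i, i < 11197 → P i := stepQ 11196 Q11196 (allL N11196 (tt N9240 F132429) (tt N12658 (iv F203591)) (tt N9338 F132430) (tt N9221 F132431) (tt N12657 (iv F203025)) (tt N9217 F132432) (tt N13379 D45707) (tt N9216 (iv D31325)) (tt N13380 D45708) (tt N12655 (iv F203602)))
theorem Q11198 : ∀ i, i < 11198 → P i := stepQ 11197 Q11197 (allL N11197 (tt N9241 F132433) (tt N13374 (iv F190028)) (tt N9339 F132434) (tt N13381 D45709) (tt N13378 (iv F190196)) (tt N9218 F132435) (tt N12514 (iv F179521)) (tt N13380 (iv F190205)) (tt N9216 (iv D31326)) (tt N13382 D45710))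
theorem Q11199 : ∀ i, i < 11199 → P i := stepQ 11198 Q11198 (allL N11198 (tt N9242 F132436) (tt N13375 (iv F190030)) (tt N9340 F132437) (tt N13383 D45711) (tt N9655 F132438) (tt N13380 (iv F190204)) (tt N11198 F132439) (tt N9218 F132440) (tt N9217 (iv D31327)) (tt N13384 D45712))
theorem Q11200 : ∀ i, i < 11200 → P i := stepQ 11199 Q11199 (allL N11199 (tt N9243 F132441) (tt N13313 (iv F203624)) (tt N12715 (iv F204210)) (tt N9218 (iv D31328)) (tt N12874 (iv F203515)) (tt N13381 (iv F190207)) (tt N9219 F132442) (tt N13383 (iv F190214)) (tt N9224 F132443) (tt N13385 D45715))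
theorem Q11201 : ∀ i, i < 11201 → P i := stepQ 11200 Q11200 (allL N11200 (tt N9244 F132444) (tt N13376 (iv F190037)) (tt N9341 F132445) (tt N13385 (iv F190230)) (tt N9656 F132446) (tt N13382 (iv F190211)) (tt N9220 F132447) (tt N13384 (iv F190220)) (tt N12480 (iv F203610)) (tt N9218 (iv D31329)))
theorem Q11202 : ∀ i, i < 11202 → P i := stepQ 11201 Q11201 (allL N11201 (tt N9247 F132456) (tt N13315 (iv F203858)) (tt N12623 (iv F204213)) (tt N9220 F132457) (tt N12876 (iv F203731)) (tt N12519 (iv F179545)) (tt N13385 (iv F190231)) (tt N11201 F132458) (tt N13386 D45721) (tt N9219 (iv D31332)))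
theorem Q11203 : ∀ i, i < 11203 → P i := stepQ 11202 Q11202 (allL N11202 (tt N9248 F132459) (tt N13377 (iv F190049)) (tt N9229 F132460) (tt N13379 (iv F190200)) (tt N13193 (iv F188923)) (tt N11202 F132461) (tt N9221 (iv D31333)) (tt N12520 (iv F179550)) (tt N13387 D45722) (tt N13296 (iv F189511)))
theorem Q11204 : ∀ i, i < 11204 → P i := stepQ 11203 Q11203 (allL N11203 (tt N9249 F132462) (tt N13337 (iv F203499)) (tt N9230 F132463) (tt N13388 D45723) (tt N13194 (iv F188926)) (tt N9223 F132464) (tt N13387 (iv F190258)) (tt N9222 F132465) (tt N9221 (iv D31334)) (tt N13389 D45724))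
theorem Q11205 : ∀ i, i < 11205 → P i := stepQ 11204 Q11204 (allL N11204 (tt N9250 F132466) (tt N13329 (iv F203627)) (tt N13390 D45725) (tt N9222 (iv D31335)) (tt N13391 D45726) (tt N9224 F132467) (tt N12522 (iv F179557)) (tt N13388 (iv F190261)) (tt N13381 (iv F190208)) (tt N13392 D45727))
theorem Q11206 : ∀ i, i < 11206 → P i := stepQ 11205 Q11205 (allL N11205 (tt N9251 F132468) (tt N13339 (iv F203628)) (tt N9232 F132469) (tt N13392 (iv F190271)) (tt N13196 (iv F188933)) (tt N9225 F132470) (tt N12523 (iv F179561)) (tt N13389 (iv F190265)) (tt N13299 (iv F189521)) (tt N9222 (iv D31336)))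
theorem Q11207 : ∀ i, i < 11207 → P i := stepQ 11206 Q11206 (allL N11206 (tt N9252 F132471) (tt N13324 (iv F203498)) (tt N13393 D45728) (tt N9223 (iv D31337)) (tt N12881 (iv F202626)) (tt N13388 (iv F190260)) (tt N11206 F132472) (tt N9224 F132473) (tt N13383 (iv F190215)) (tt N13394 D45730))
theorem Q11208 : ∀ i, i < 11208 → P i := stepQ 11207 Q11207 (allL N11207 (tt N9253 F132474) (tt N13338 (iv F203501)) (tt N9234 F132475) (tt N13394 (iv F190282)) (tt N9228 F132476) (tt N13389 (iv F190264)) (tt N11207 F132477) (tt N9225 F132478) (tt N13301 (iv F189530)) (tt N9223 (iv D31338)))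
theorem Q11209 : ∀ i, i < 11209 → P i := stepQ 11208 Q11208 (allL N11208 (tt N9254 F132479) (tt N13395 D45731) (tt N9224 (iv D31339)) (tt N9235 F132480) (tt N12883 (iv F203513)) (tt N13390 (iv F190268)) (tt N9226 F132481) (tt N13393 (iv F190276)) (tt N12715 (iv F204211)) (tt N13396 D45733))
theorem Q11210 : ∀ i, i < 11210 → P i := stepQ 11209 Q11209 (allL N11209 (tt N9256 F132485) (tt N13330 (iv F203629)) (tt N13396 (iv F190292)) (tt N9225 F132486) (tt N12884 (iv F203517)) (tt N13392 (iv F190272)) (tt N9227 F132487) (tt N13394 (iv F190284)) (tt N13397 D45736) (tt N9224 (iv D31341)))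
theorem Q11211 : ∀ i, i < 11211 → P i := stepQ 11210 Q11210 (allL N11210 (tt N13398 D45737) (tt N9226 (iv D31342)) (tt N13332 (iv F203860)) (tt N9237 F132488) (tt N12885 (iv F203736)) (tt N12529 (iv F179580)) (tt N13395 (iv F190286)) (tt N11210 F132489) (tt N12717 (iv F204208)) (tt N13399 D45739))
theorem Q11212 : ∀ i, i < 11212 → P i := stepQ 11211 Q11211 (allL N11211 (tt N9259 F132494) (tt N13399 (iv F190309)) (tt N9227 F132495) (tt N9238 F132496) (tt N12886 (iv F203733)) (tt N12531 (iv F179589)) (tt N13396 (iv F190294)) (tt N11211 F132497) (tt N13400 D45742) (tt N9226 (iv D31344)))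
theorem Q11213 : ∀ i, i < 11213 → P i := stepQ 11212 Q11212 (allL N11212 (tt N9262 F132505) (tt N13336 (iv F203861)) (tt N13400 (iv F190322)) (tt N13303 (iv F189558)) (tt N12887 (iv F203735)) (tt N12533 (iv F179600)) (tt N13397 (iv F190302)) (tt N11212 F132506) (tt N9227 (iv D31347)) (tt N13386 (iv F190254)))
theorem Q11214 : ∀ i, i < 11214 → P i := stepQ 11213 Q11213 (allL N11213 (tt N9271 F132557) (tt N11213 F132558) (tt N13387 (iv F190256)) (tt N13401 D45760) (tt N13204 (iv F189014)) (tt N11213 F132559) (tt N9230 F132560) (tt N12540 (iv F179659)) (tt N9229 (iv D31360)) (tt N13402 D45761))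
theorem Q11215 : ∀ i, i < 11215 → P i := stepQ 11214 Q11214 (allL N11214 (tt N9272 F132561) (tt N11214 F132562) (tt N13403 D45762) (tt N9230 (iv D31361)) (tt N13404 D45763) (tt N9233 F132563) (tt N13401 (iv F190396)) (tt N9231 F132564) (tt N9344 F132565) (tt N13405 D45764))
theorem Q11216 : ∀ i, i < 11216 → P i := stepQ 11215 Q11215 (allL N11215 (tt N9273 F132566) (tt N11215 F132567) (tt N13389 (iv F190263)) (tt N13405 (iv F190413)) (tt N13206 (iv F189023)) (tt N9234 F132568) (tt N13402 (iv F190401)) (tt N9232 F132569) (tt N13305 (iv F189625)) (tt N9230 (iv D31362)))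
theorem Q11217 : ∀ i, i < 11217 → P i := stepQ 11216 Q11216 (allL N11216 (tt N9274 F132570) (tt N13406 D45765) (tt N9231 (iv D31363)) (tt N13390 (iv F190267)) (tt N13407 D45766) (tt N9235 F132571) (tt N12543 (iv F179671)) (tt N13403 (iv F190404)) (tt N9345 F132572) (tt N13408 D45767))
theorem Q11218 : ∀ i, i < 11218 → P i := stepQ 11217 Q11217 (allL N11217 (tt N9275 F132573) (tt N11217 F132574) (tt N13407 (iv F190420)) (tt N13208 (iv F189031)) (tt N9231 (iv D31364)) (tt N9514 F132575) (tt N12544 (iv F179676)) (tt N13404 (iv F190409)) (tt N9346 F132576) (tt N13409 D45768))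
theorem Q11219 : ∀ i, i < 11219 → P i := stepQ 11218 Q11218 (allL N11218 (tt N9276 F132577) (tt N11218 F132578) (tt N13408 (iv F190424)) (tt N9232 F132579) (tt N13409 (iv F190428)) (tt N9236 F132580) (tt N12545 (iv F179682)) (tt N13405 (iv F190415)) (tt N12682 (iv F204399)) (tt N9231 (iv D31365)))
theorem Q11220 : ∀ i, i < 11220 → P i := stepQ 11219 Q11219 (allL N11219 (tt N9277 F132581) (tt N13410 D45770) (tt N9233 (iv D31366)) (tt N13393 (iv F190274)) (tt N9516 F132582) (tt N13403 (iv F190403)) (tt N11219 F132583) (tt N9235 F132584) (tt N9347 F132585) (tt N13411 D45771))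
theorem Q11221 : ∀ i, i < 11221 → P i := stepQ 11220 Q11220 (allL N11220 (tt N9278 F132586) (tt N11220 F132587) (tt N13411 (iv F190440)) (tt N9234 F132588) (tt N9517 F132589) (tt N13405 (iv F190414)) (tt N11220 F132590) (tt N9236 F132591) (tt N12684 (iv F204402)) (tt N9233 (iv D31367)))
theorem Q11222 : ∀ i, i < 11222 → P i := stepQ 11221 Q11221 (allL N11221 (tt N13412 D45773) (tt N9235 (iv D31368)) (tt N11221 F132592) (tt N13395 (iv F190285)) (tt N9518 F132593) (tt N13406 (iv F190417)) (tt N9237 F132594) (tt N13410 (iv F190437)) (tt N9348 F132595) (tt N13413 D45774))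
theorem Q11223 : ∀ i, i < 11223 → P i := stepQ 11222 Q11222 (allL N11222 (tt N9280 F132596) (tt N13413 (iv F190455)) (tt N9236 F132597) (tt N13396 (iv F190293)) (tt N9519 F132598) (tt N13408 (iv F190425)) (tt N9238 F132599) (tt N13411 (iv F190443)) (tt N12686 (iv F204396)) (tt N9235 (iv D31369)))
theorem Q11224 : ∀ i, i < 11224 → P i := stepQ 11223 Q11223 (allL N11223 (tt N9237 (iv D31371)) (tt N9282 F132605) (tt N11223 F132606) (tt N13398 (iv F190304)) (tt N9521 F132607) (tt N12550 (iv F179710)) (tt N13412 (iv F190453)) (tt N11223 F132608) (tt N9349 F132609) (tt N13414 D45776))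
theorem Q11225 : ∀ i, i < 11225 → P i := stepQ 11224 Q11224 (allL N11224 (tt N13414 (iv F190464)) (tt N9238 F132610) (tt N11224 F132611) (tt N13399 (iv F190310)) (tt N9522 F132612) (tt N12551 (iv F179716)) (tt N13413 (iv F190458)) (tt N11224 F132613) (tt N12688 (iv F204466)) (tt N9237 (iv D31372)))
theorem Q11226 : ∀ i, i < 11226 → P i := stepQ 11225 Q11225 (allL N11225 (tt N12657 (iv F203023)) (tt N9664 (iv F203448)) (tt N9350 F132619) (tt N9620 F203217) (tt N9240 F132620) (tt N9618 F203218) (tt N13415 D45779) (tt N9239 (iv D31374)) (tt N13416 D45780) (tt N12911 (iv F198761)))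
theorem Q11227 : ∀ i, i < 11227 → P i := stepQ 11226 Q11226 (allL N11226 (tt N13378 (iv F190194)) (tt N12959 (iv F187225)) (tt N9351 F132622) (tt N13417 D45781) (tt N9241 F132623) (tt N9657 F132624) (tt N12553 (iv F179730)) (tt N13416 (iv F190482)) (tt N9239 (iv D31375)) (tt N13418 D45782))
theorem Q11228 : ∀ i, i < 11228 → P i := stepQ 11227 Q11227 (allL N11227 (tt N13379 (iv F190198)) (tt N12960 (iv F187229)) (tt N9352 F132625) (tt N9248 F132626) (tt N13415 (iv F190478)) (tt N11227 F132627) (tt N9240 (iv D31376)) (tt N12554 (iv F179734)) (tt N13419 D45783) (tt N13307 (iv F189686)))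
theorem Q11229 : ∀ i, i < 11229 → P i := stepQ 11228 Q11228 (allL N11228 (tt N13380 (iv F190202)) (tt N12961 (iv F187233)) (tt N9353 F132628) (tt N13420 D45784) (tt N13416 (iv F190480)) (tt N9242 F132629) (tt N13419 (iv F190489)) (tt N9241 F132630) (tt N9240 (iv D31377)) (tt N13421 D45785))
theorem Q11230 : ∀ i, i < 11230 → P i := stepQ 11229 Q11229 (allL N11229 (tt N13381 (iv F190206)) (tt N12962 (iv F187237)) (tt N13422 D45786) (tt N9241 (iv D31378)) (tt N13423 D45787) (tt N9243 F132631) (tt N12556 (iv F179739)) (tt N13420 (iv F190491)) (tt N9250 F132632) (tt N13424 D45788))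
theorem Q11231 : ∀ i, i < 11231 → P i := stepQ 11230 Q11230 (allL N11230 (tt N13382 (iv F190209)) (tt N12963 (iv F187240)) (tt N9355 F132633) (tt N13424 (iv F190500)) (tt N13418 (iv F190485)) (tt N9244 F132634) (tt N12557 (iv F179743)) (tt N13421 (iv F190495)) (tt N13310 (iv F189694)) (tt N9241 (iv D31379)))
theorem Q11232 : ∀ i, i < 11232 → P i := stepQ 11231 Q11231 (allL N11231 (tt N13383 (iv F190212)) (tt N12964 (iv F187243)) (tt N13425 D45789) (tt N9242 (iv D31380)) (tt N13426 D45790) (tt N13420 (iv F190490)) (tt N11231 F132635) (tt N9243 F132636) (tt N9252 F132637) (tt N13427 D45791))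
theorem Q11233 : ∀ i, i < 11233 → P i := stepQ 11232 Q11232 (allL N11232 (tt N13384 (iv F190216)) (tt N12965 (iv F187247)) (tt N9357 F132638) (tt N13427 (iv F190510)) (tt N9659 F132639) (tt N13421 (iv F190494)) (tt N11232 F132640) (tt N9244 F132641) (tt N13312 (iv F189702)) (tt N9242 (iv D31381)))
theorem Q11234 : ∀ i, i < 11234 → P i := stepQ 11233 Q11233 (allL N11233 (tt N12715 (iv F204209)) (tt N13428 D45792) (tt N9243 (iv D31382)) (tt N9358 F132642) (tt N13429 D45793) (tt N13422 (iv F190497)) (tt N9245 F132643) (tt N13425 (iv F190504)) (tt N9254 F132644) (tt N13430 D45794))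
theorem Q11235 : ∀ i, i < 11235 → P i := stepQ 11234 Q11234 (allL N11234 (tt N12874 (iv F203514)) (tt N12967 (iv F187255)) (tt N13429 (iv F190516)) (tt N9660 F132645) (tt N9243 (iv D31383)) (tt N13431 D45795) (tt N9246 F132646) (tt N13426 (iv F190508)) (tt N9255 F132647) (tt N13432 D45796))
theorem Q11236 : ∀ i, i < 11236 → P i := stepQ 11235 Q11235 (allL N11235 (tt N13385 (iv F190229)) (tt N12968 (iv F187259)) (tt N13430 (iv F190520)) (tt N9244 F132648) (tt N13432 (iv F190526)) (tt N13424 (iv F190501)) (tt N9247 F132649) (tt N13427 (iv F190512)) (tt N13433 D45797) (tt N9243 (iv D31384)))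
theorem Q11237 : ∀ i, i < 11237 → P i := stepQ 11236 Q11236 (allL N11236 (tt N13434 D45798) (tt N9245 (iv D31385)) (tt N12969 (iv F187262)) (tt N9360 F132650) (tt N13435 D45799) (tt N12563 (iv F179760)) (tt N13428 (iv F190514)) (tt N11236 F132651) (tt N9257 F132652) (tt N13436 D45800))
theorem Q11238 : ∀ i, i < 11238 → P i := stepQ 11237 Q11237 (allL N11237 (tt N12718 (iv F204015)) (tt N13435 (iv F190533)) (tt N9246 F132653) (tt N11237 F132654) (tt N9245 (iv D31386)) (tt N13437 D45801) (tt N13429 (iv F190518)) (tt N11237 F132655) (tt N9258 F132656) (tt N13438 D45802))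
theorem Q11239 : ∀ i, i < 11239 → P i := stepQ 11238 Q11238 (allL N11238 (tt N12623 (iv F204212)) (tt N13436 (iv F190537)) (tt N9247 F132657) (tt N9361 F132658) (tt N13438 (iv F190546)) (tt N12565 (iv F179768)) (tt N13430 (iv F190522)) (tt N11238 F132659) (tt N13439 D45803) (tt N9245 (iv D31387)))
theorem Q11240 : ∀ i, i < 11240 → P i := stepQ 11239 Q11239 (allL N11239 (tt N11883 (iv F203714)) (tt N12972 (iv F187272)) (tt N13437 (iv F190540)) (tt N9662 F132660) (tt N12566 (iv F179771)) (tt N9246 (iv D31388)) (tt N13440 D45804) (tt N11239 F132661) (tt N9260 F132662) (tt N13441 D45805))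
theorem Q11241 : ∀ i, i < 11241 → P i := stepQ 11240 Q11240 (allL N11240 (tt N12876 (iv F203730)) (tt N12973 (iv F187276)) (tt N13438 (iv F190544)) (tt N9663 F132663) (tt N9247 F132664) (tt N13441 (iv F190554)) (tt N13432 (iv F190527)) (tt N11240 F132665) (tt N13442 D45806) (tt N9246 (iv D31389)))
theorem Q11242 : ∀ i, i < 11242 → P i := stepQ 11241 Q11241 (allL N11241 (tt N13386 (iv F190252)) (tt N12974 (iv F187280)) (tt N13439 (iv F190548)) (tt N13316 (iv F189726)) (tt N13442 (iv F190556)) (tt N12568 (iv F179777)) (tt N13433 (iv F190528)) (tt N11241 F132666) (tt N9247 (iv D31390)) (tt N9262 F132667))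
theorem Q11243 : ∀ i, i < 11243 → P i := stepQ 11242 Q11242 (allL N11242 (tt N13387 (iv F190255)) (tt N12975 (iv F187283)) (tt N9271 F132668) (tt N13443 D45807) (tt N13227 (iv F189112)) (tt N11242 F132669) (tt N9249 F132670) (tt N12569 (iv F179783)) (tt N9248 (iv D31391)) (tt N13444 D45808))
theorem Q11244 : ∀ i, i < 11244 → P i := stepQ 11243 Q11243 (allL N11243 (tt N13388 (iv F190259)) (tt N12976 (iv F187287)) (tt N13445 D45809) (tt N9249 (iv D31392)) (tt N13446 D45810) (tt N9252 F132671) (tt N13443 (iv F190560)) (tt N9250 F132672) (tt N13420 (iv F190492)) (tt N13447 D45811))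
theorem Q11245 : ∀ i, i < 11245 → P i := stepQ 11244 Q11244 (allL N11244 (tt N13389 (iv F190262)) (tt N12977 (iv F187290)) (tt N9273 F132673) (tt N13447 (iv F190568)) (tt N13229 (iv F189117)) (tt N9253 F132674) (tt N13444 (iv F190563)) (tt N9251 F132675) (tt N13319 (iv F189737)) (tt N9249 (iv D31393)))
theorem Q11246 : ∀ i, i < 11246 → P i := stepQ 11245 Q11245 (allL N11245 (tt N13390 (iv F190266)) (tt N13448 D45812) (tt N9250 (iv D31394)) (tt N9274 F132676) (tt N13449 D45813) (tt N9254 F132677) (tt N12572 (iv F179791)) (tt N13445 (iv F190566)) (tt N13422 (iv F190498)) (tt N13450 D45814))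
theorem Q11247 : ∀ i, i < 11247 → P i := stepQ 11246 Q11246 (allL N11246 (tt N13391 (iv F190269)) (tt N12979 (iv F187296)) (tt N13449 (iv F190573)) (tt N13231 (iv F189122)) (tt N9250 (iv D31395)) (tt N13451 D45815) (tt N12573 (iv F179792)) (tt N13446 (iv F190567)) (tt N13423 (iv F190499)) (tt N13452 D45816))
theorem Q11248 : ∀ i, i < 11248 → P i := stepQ 11247 Q11247 (allL N11247 (tt N13392 (iv F190270)) (tt N12980 (iv F187297)) (tt N13450 (iv F190574)) (tt N9251 F132678) (tt N13452 (iv F190578)) (tt N9256 F132679) (tt N12574 (iv F179795)) (tt N13447 (iv F190570)) (tt N13453 D45817) (tt N9250 (iv D31396)))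
theorem Q11249 : ∀ i, i < 11249 → P i := stepQ 11248 Q11248 (allL N11248 (tt N13393 (iv F190273)) (tt N13454 D45818) (tt N9252 (iv D31397)) (tt N9277 F132680) (tt N13455 D45819) (tt N13445 (iv F190565)) (tt N11248 F132681) (tt N9254 F132682) (tt N13425 (iv F190505)) (tt N13456 D45820))
theorem Q11250 : ∀ i, i < 11250 → P i := stepQ 11249 Q11249 (allL N11249 (tt N12881 (iv F202625)) (tt N12982 (iv F187303)) (tt N13455 (iv F190583)) (tt N9263 F132683) (tt N9252 (iv D31398)) (tt N13457 D45821) (tt N11249 F132684) (tt N9255 F132685) (tt N13426 (iv F190509)) (tt N13458 D45822))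
theorem Q11251 : ∀ i, i < 11251 → P i := stepQ 11250 Q11250 (allL N11250 (tt N13394 (iv F190281)) (tt N12983 (iv F187307)) (tt N13456 (iv F190587)) (tt N9253 F132686) (tt N13458 (iv F190594)) (tt N13447 (iv F190569)) (tt N11250 F132687) (tt N9256 F132688) (tt N13459 D45823) (tt N9252 (iv D31399)))
theorem Q11252 : ∀ i, i < 11252 → P i := stepQ 11251 Q11251 (allL N11251 (tt N13460 D45824) (tt N9254 (iv D31400)) (tt N12984 (iv F187311)) (tt N9279 F132689) (tt N13461 D45825) (tt N13448 (iv F190572)) (tt N9257 F132690) (tt N13454 (iv F190582)) (tt N13428 (iv F190515)) (tt N13462 D45826))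
theorem Q11253 : ∀ i, i < 11253 → P i := stepQ 11252 Q11252 (allL N11252 (tt N12883 (iv F203512)) (tt N13461 (iv F190601)) (tt N9255 F132691) (tt N9533 F132692) (tt N9254 (iv D31401)) (tt N13463 D45827) (tt N9258 F132693) (tt N13455 (iv F190586)) (tt N13429 (iv F190519)) (tt N13464 D45828))
theorem Q11254 : ∀ i, i < 11254 → P i := stepQ 11253 Q11253 (allL N11253 (tt N13396 (iv F190291)) (tt N13462 (iv F190604)) (tt N9256 F132694) (tt N9280 F132695) (tt N13464 (iv F190611)) (tt N13450 (iv F190576)) (tt N9259 F132696) (tt N13456 (iv F190590)) (tt N13465 D45829) (tt N9254 (iv D31402)))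
theorem Q11255 : ∀ i, i < 11255 → P i := stepQ 11254 Q11254 (allL N11254 (tt N12879 (iv F203509)) (tt N12987 (iv F187320)) (tt N13463 (iv F190607)) (tt N9265 F132697) (tt N13451 (iv F190577)) (tt N9255 (iv D31403)) (tt N13466 D45830) (tt N13457 (iv F190592)) (tt N13431 (iv F190524)) (tt N13467 D45831))
theorem Q11256 : ∀ i, i < 11256 → P i := stepQ 11255 Q11255 (allL N11255 (tt N12884 (iv F203516)) (tt N12988 (iv F187322)) (tt N13464 (iv F190609)) (tt N9266 F132698) (tt N9256 F132699) (tt N13467 (iv F190618)) (tt N9261 F132700) (tt N13458 (iv F190596)) (tt N13468 D45832) (tt N9255 (iv D31404)))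
theorem Q11257 : ∀ i, i < 11257 → P i := stepQ 11256 Q11256 (allL N11256 (tt N13397 (iv F190301)) (tt N12989 (iv F187326)) (tt N13465 (iv F190613)) (tt N13331 (iv F189763)) (tt N13468 (iv F190619)) (tt N13453 (iv F190579)) (tt N9262 F132701) (tt N13459 (iv F190598)) (tt N9256 (iv D31405)) (tt N13433 (iv F190529)))
theorem Q11258 : ∀ i, i < 11258 → P i := stepQ 11257 Q11257 (allL N11257 (tt N9257 (iv D31406)) (tt N13398 (iv F190303)) (tt N12990 (iv F187328)) (tt N9282 F132702) (tt N13469 D45833) (tt N12584 (iv F179819)) (tt N13460 (iv F190600)) (tt N11257 F132703) (tt N13434 (iv F190532)) (tt N13470 D45834))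
theorem Q11259 : ∀ i, i < 11259 → P i := stepQ 11258 Q11258 (allL N11258 (tt N13469 (iv F190621)) (tt N9258 F132704) (tt N12991 (iv F187332)) (tt N9539 F132705) (tt N9257 (iv D31407)) (tt N13471 D45835) (tt N13461 (iv F190603)) (tt N11258 F132706) (tt N13435 (iv F190536)) (tt N13472 D45836))
theorem Q11260 : ∀ i, i < 11260 → P i := stepQ 11259 Q11259 (allL N11259 (tt N13470 (iv F190624)) (tt N9259 F132707) (tt N12992 (iv F187336)) (tt N9283 F132708) (tt N13472 (iv F190632)) (tt N12586 (iv F179826)) (tt N13462 (iv F190606)) (tt N11259 F132709) (tt N13473 D45837) (tt N9257 (iv D31408)))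
theorem Q11261 : ∀ i, i < 11261 → P i := stepQ 11260 Q11260 (allL N11260 (tt N11890 (iv F203719)) (tt N13471 (iv F190627)) (tt N9260 F132710) (tt N9541 F132711) (tt N12587 (iv F179830)) (tt N9258 (iv D31409)) (tt N13474 D45838) (tt N11260 F132712) (tt N13437 (iv F190543)) (tt N13475 D45839))
theorem Q11262 : ∀ i, i < 11262 → P i := stepQ 11261 Q11261 (allL N11261 (tt N12886 (iv F203732)) (tt N13472 (iv F190630)) (tt N9261 F132713) (tt N9542 F132714) (tt N9259 F132715) (tt N13475 (iv F190640)) (tt N13464 (iv F190612)) (tt N11261 F132716) (tt N13476 D45840) (tt N9258 (iv D31410)))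
theorem Q11263 : ∀ i, i < 11263 → P i := stepQ 11262 Q11262 (allL N11262 (tt N13400 (iv F190321)) (tt N13473 (iv F190634)) (tt N9262 F132717) (tt N13477 D45841) (tt N13476 (iv F190643)) (tt N12589 (iv F179837)) (tt N13465 (iv F190614)) (tt N11262 F132718) (tt N9259 (iv D31411)) (tt N13439 (iv F190550)))
theorem Q11264 : ∀ i, i < 11264 → P i := stepQ 11263 Q11263 (allL N11263 (tt N11888 (iv F203716)) (tt N12996 (iv F187348)) (tt N13474 (iv F190636)) (tt N9267 F132719) (tt N12590 (iv F179840)) (tt N13466 (iv F190616)) (tt N9260 (iv D31412)) (tt N13478 D45842) (tt N13440 (iv F190552)) (tt N13479 D45843))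
theorem Q11265 : ∀ i, i < 11265 → P i := stepQ 11264 Q11264 (allL N11264 (tt N11892 (iv F203718)) (tt N12997 (iv F187350)) (tt N13475 (iv F190638)) (tt N9268 F132720) (tt N12591 (iv F179842)) (tt N9261 F132721) (tt N13479 (iv F190650)) (tt N11264 F132722) (tt N13480 D45844) (tt N9260 (iv D31413)))
theorem Q11266 : ∀ i, i < 11266 → P i := stepQ 11265 Q11265 (allL N11265 (tt N12887 (iv F203734)) (tt N12998 (iv F187354)) (tt N13476 (iv F190642)) (tt N12940 (iv F203713)) (tt N9262 F132723) (tt N13480 (iv F190651)) (tt N13468 (iv F190620)) (tt N11265 F132724) (tt N9261 (iv D31414)) (tt N13442 (iv F190558)))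
theorem Q11267 : ∀ i, i < 11267 → P i := stepQ 11266 Q11266 (allL N11266 (tt N12878 (iv F202627)) (tt N12999 (iv F187357)) (tt N9547 F132725) (tt N13457 (iv F190591)) (tt N12812 (iv F202508)) (tt N9263 (iv D31415)) (tt N13481 D45846) (tt N9265 F132726) (tt N9666 F132727) (tt N13482 D45847))
theorem Q11268 : ∀ i, i < 11268 → P i := stepQ 11267 Q11267 (allL N11267 (tt N12882 (iv F202628)) (tt N13000 (iv F187361)) (tt N9548 F132728) (tt N13458 (iv F190593)) (tt N9264 F132729) (tt N13482 (iv F190659)) (tt N11267 F132730) (tt N9266 F132731) (tt N12932 (iv F202747)) (tt N9263 (iv D31416)))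
theorem Q11269 : ∀ i, i < 11269 → P i := stepQ 11268 Q11268 (allL N11268 (tt N11886 (iv F203510)) (tt N13001 (iv F187371)) (tt N9549 F132736) (tt N13466 (iv F190615)) (tt N13250 (iv F189171)) (tt N9267 F132737) (tt N9265 (iv D31418)) (tt N13483 D45849) (tt N9667 F132738) (tt N13484 D45850))
theorem Q11270 : ∀ i, i < 11270 → P i := stepQ 11269 Q11269 (allL N11269 (tt N12880 (iv F203511)) (tt N13002 (iv F187375)) (tt N9550 F132739) (tt N13467 (iv F190617)) (tt N13251 (iv F189175)) (tt N9266 F132740) (tt N13484 (iv F190671)) (tt N13482 (iv F190660)) (tt N12930 (iv F203497)) (tt N9265 (iv D31419)))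
theorem Q11271 : ∀ i, i < 11271 → P i := stepQ 11270 Q11270 (allL N11270 (tt N11887 (iv F203715)) (tt N13003 (iv F187383)) (tt N9551 F132745) (tt N13478 (iv F190647)) (tt N9269 F132746) (tt N13483 (iv F190667)) (tt N11270 F132747) (tt N9267 (iv D31421)) (tt N9668 F132748) (tt N13485 D45853))
theorem Q11272 : ∀ i, i < 11272 → P i := stepQ 11271 Q11271 (allL N11271 (tt N11889 (iv F203717)) (tt N13004 (iv F187388)) (tt N9552 F132749) (tt N13479 (iv F190649)) (tt N9270 F132750) (tt N13484 (iv F190670)) (tt N9268 F132751) (tt N13485 (iv F190680)) (tt N11948 (iv F203698)) (tt N9267 (iv D31422)))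
theorem Q11273 : ∀ i, i < 11273 → P i := stepQ 11272 Q11272 (allL N11272 (tt N11894 (iv F203723)) (tt N13005 (iv F187401)) (tt N9553 F132759) (tt N12603 (iv F179882)) (tt N13485 (iv F190678)) (tt N13254 (iv F189193)) (tt N11272 F132760) (tt N9270 F132761) (tt N11952 (iv F203700)) (tt N9269 (iv D31425)))
theorem Q11274 : ∀ i, i < 11274 → P i := stepQ 11273 Q11273 (allL N11273 (tt N13401 (iv F190393)) (tt N9285 F132771) (tt N13486 D45862) (tt N9271 (iv D31429)) (tt N12721 (iv F204651)) (tt N11273 F132772) (tt N9272 F132773) (tt N12605 (iv F179899)) (tt N9369 F132774) (tt N13487 D45864))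
theorem Q11275 : ∀ i, i < 11275 → P i := stepQ 11274 Q11274 (allL N11274 (tt N13402 (iv F190398)) (tt N9286 F132775) (tt N13444 (iv F190561)) (tt N13487 (iv F190713)) (tt N13256 (iv F189208)) (tt N11274 F132776) (tt N9273 F132777) (tt N12606 (iv F179904)) (tt N13341 (iv F189844)) (tt N9271 (iv D31430)))
theorem Q11276 : ∀ i, i < 11276 → P i := stepQ 11275 Q11275 (allL N11275 (tt N13403 (iv F190402)) (tt N13488 D45865) (tt N9272 (iv D31431)) (tt N13445 (iv F190564)) (tt N13489 D45866) (tt N9277 F132778) (tt N13486 (iv F190707)) (tt N9274 F132779) (tt N9371 F132780) (tt N13490 D45867))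
theorem Q11277 : ∀ i, i < 11277 → P i := stepQ 11276 Q11276 (allL N11276 (tt N13404 (iv F190406)) (tt N9288 F132781) (tt N13489 (iv F190720)) (tt N13258 (iv F189214)) (tt N9272 (iv D31432)) (tt N9391 (iv F204720)) (tt N12721 (iv F204652)) (tt N9275 F132783) (tt N9372 F132784) (tt N13491 D45868))
theorem Q11278 : ∀ i, i < 11278 → P i := stepQ 11277 Q11277 (allL N11277 (tt N13405 (iv F190411)) (tt N9289 F132785) (tt N13490 (iv F190724)) (tt N9273 F132786) (tt N13491 (iv F190728)) (tt N9278 F132787) (tt N13487 (iv F190715)) (tt N9276 F132788) (tt N13492 D45869) (tt N9272 (iv D31433)))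
theorem Q11279 : ∀ i, i < 11279 → P i := stepQ 11278 Q11278 (allL N11278 (tt N13493 D45870) (tt N9274 (iv D31434)) (tt N9290 F132789) (tt N13448 (iv F190571)) (tt N13494 D45871) (tt N9279 F132790) (tt N12610 (iv F179918)) (tt N13488 (iv F190718)) (tt N9374 F132791) (tt N13495 D45872))
theorem Q11280 : ∀ i, i < 11280 → P i := stepQ 11279 Q11279 (allL N11279 (tt N13407 (iv F190419)) (tt N13494 (iv F190738)) (tt N9275 F132792) (tt N13496 D45873) (tt N9274 (iv D31435)) (tt N9558 F132793) (tt N12611 (iv F179922)) (tt N13489 (iv F190722)) (tt N9375 F132794) (tt N13497 D45874))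
theorem Q11281 : ∀ i, i < 11281 → P i := stepQ 11280 Q11280 (allL N11280 (tt N13408 (iv F190423)) (tt N13495 (iv F190742)) (tt N9276 F132795) (tt N13450 (iv F190575)) (tt N13497 (iv F190747)) (tt N9280 F132796) (tt N12612 (iv F179926)) (tt N13490 (iv F190726)) (tt N13498 D45875) (tt N9274 (iv D31436)))
theorem Q11282 : ∀ i, i < 11282 → P i := stepQ 11281 Q11281 (allL N11281 (tt N13409 (iv F190426)) (tt N9293 F132797) (tt N13497 (iv F190746)) (tt N13263 (iv F189231)) (tt N9276 F132798) (tt N9560 F132799) (tt N12613 (iv F179930)) (tt N13491 (iv F190730)) (tt N13499 D45876) (tt N9275 (iv D31437)))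
theorem Q11283 : ∀ i, i < 11283 → P i := stepQ 11282 Q11282 (allL N11282 (tt N12682 (iv F204398)) (tt N9294 F132800) (tt N13498 (iv F190749)) (tt N12665 (iv F204267)) (tt N13499 (iv F190753)) (tt N9281 F132801) (tt N12614 (iv F179933)) (tt N13492 (iv F190733)) (tt N9276 (iv D31438)) (tt N9378 F132802))
theorem Q11284 : ∀ i, i < 11284 → P i := stepQ 11283 Q11283 (allL N11283 (tt N13500 D45877) (tt N9277 (iv D31439)) (tt N9295 F132803) (tt N13454 (iv F190580)) (tt N9562 F132804) (tt N13488 (iv F190717)) (tt N11283 F132805) (tt N9279 F132806) (tt N9379 F132807) (tt N13501 D45878))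
theorem Q11285 : ∀ i, i < 11285 → P i := stepQ 11284 Q11284 (allL N11284 (tt N13411 (iv F190439)) (tt N13501 (iv F190761)) (tt N9278 F132808) (tt N13456 (iv F190588)) (tt N9563 F132809) (tt N13490 (iv F190725)) (tt N11284 F132810) (tt N9280 F132811) (tt N13502 D45879) (tt N9277 (iv D31440)))
theorem Q11286 : ∀ i, i < 11286 → P i := stepQ 11285 Q11285 (allL N11285 (tt N12684 (iv F204400)) (tt N9297 F132812) (tt N13502 (iv F190766)) (tt N12666 (iv F204270)) (tt N9564 F132813) (tt N13492 (iv F190732)) (tt N11285 F132814) (tt N9281 F132815) (tt N9278 (iv D31441)) (tt N9381 F132816))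
theorem Q11287 : ∀ i, i < 11287 → P i := stepQ 11286 Q11286 (allL N11286 (tt N9279 (iv D31442)) (tt N13412 (iv F190450)) (tt N9298 F132817) (tt N13460 (iv F190599)) (tt N9565 F132818) (tt N13493 (iv F190736)) (tt N9282 F132819) (tt N13500 (iv F190759)) (tt N9382 F132820) (tt N13503 D45880))
theorem Q11288 : ∀ i, i < 11288 → P i := stepQ 11287 Q11287 (allL N11287 (tt N13503 (iv F190771)) (tt N9280 F132821) (tt N9299 F132822) (tt N13462 (iv F190605)) (tt N9566 F132823) (tt N13495 (iv F190744)) (tt N9283 F132824) (tt N13501 (iv F190765)) (tt N13504 D45881) (tt N9279 (iv D31443)))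
theorem Q11289 : ∀ i, i < 11289 → P i := stepQ 11288 Q11288 (allL N11288 (tt N12686 (iv F204394)) (tt N13504 (iv F190775)) (tt N9281 F132825) (tt N13505 D45882) (tt N9567 F132826) (tt N13498 (iv F190750)) (tt N9284 F132827) (tt N13502 (iv F190769)) (tt N9280 (iv D31444)) (tt N9384 F132828))
theorem Q11290 : ∀ i, i < 11290 → P i := stepQ 11289 Q11289 (allL N11289 (tt N9283 F132829) (tt N13414 (iv F190465)) (tt N9301 F132830) (tt N13470 (iv F190625)) (tt N9568 F132831) (tt N12621 (iv F179964)) (tt N13503 (iv F190774)) (tt N11289 F132832) (tt N13506 D45883) (tt N9282 (iv D31445)))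
theorem Q11291 : ∀ i, i < 11291 → P i := stepQ 11290 Q11290 (allL N11290 (tt N13506 (iv F190782)) (tt N9284 F132833) (tt N9302 F132834) (tt N13507 D45884) (tt N9569 F132835) (tt N12622 (iv F179969)) (tt N13504 (iv F190778)) (tt N11290 F132836) (tt N9283 (iv D31446)) (tt N9386 F132837))
theorem Q11292 : ∀ i, i < 11292 → P i := stepQ 11291 Q11291 (allL N11291 (tt N12565 (iv F204218)) (tt N13507 (iv F190787)) (tt N12519 (iv F204202)) (tt N9284 (iv D31447)) (tt N13508 D45885) (tt N12623 (iv F179972)) (tt N13505 (iv F190780)) (tt N11291 F132838) (tt N13477 (iv F190646)) (tt N9387 F132839))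
theorem Q11293 : ∀ i, i < 11293 → P i := stepQ 11292 Q11292 (allL N11292 (tt N11292 F132847) (tt N13487 (iv F190712)) (tt N12638 (iv F204583)) (tt N9286 F132848) (tt N12637 (iv F204669)) (tt N11292 F132849) (tt N9289 F132850) (tt N12626 (iv F179988)) (tt N12636 (iv F204680)) (tt N9285 (iv D31450)))
theorem Q11294 : ∀ i, i < 11294 → P i := stepQ 11293 Q11293 (allL N11293 (tt N12681 (iv F204592)) (tt N9287 (iv D31451)) (tt N13488 (iv F190716)) (tt N13026 (iv F187497)) (tt N9378 (iv F204595)) (tt N9295 F132851) (tt N12709 F204570) (tt N9290 F132852) (tt N9377 F204571) (tt N13499 (iv F204600)))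
theorem Q11295 : ∀ i, i < 11295 → P i := stepQ 11294 Q11294 (allL N11294 (tt N11294 F132859) (tt N13499 F204623) (tt N9289 F132860) (tt N13028 (iv F187508)) (tt N9294 (iv F204681)) (tt N9296 F132861) (tt N12638 F204624) (tt N9292 F132862) (tt N9293 (iv F204685)) (tt N9287 (iv D31453)))
theorem Q11296 : ∀ i, i < 11296 → P i := stepQ 11295 Q11295 (allL N11295 (tt N11295 F132863) (tt N13491 (iv F190727)) (tt N9294 F204730) (tt N13278 (iv F189291)) (tt N9289 F132864) (tt N9300 (iv F204807)) (tt N12637 F204731) (tt N9293 F132866) (tt N9292 F204732) (tt N9288 (iv D31454)))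
theorem Q11297 : ∀ i, i < 11297 → P i := stepQ 11296 Q11296 (allL N11296 (tt N11296 F132867) (tt N13492 (iv F190731)) (tt N9293 F204739) (tt N13358 (iv F189938)) (tt N9292 F204740) (tt N9297 F132868) (tt N12636 F204741) (tt N9294 F132869) (tt N9289 (iv D31455)) (tt N9291 F204742))
theorem Q11298 : ∀ i, i < 11298 → P i := stepQ 11297 Q11297 (allL N11297 (tt N9290 (iv D31456)) (tt N11297 F132871) (tt N13493 (iv F190735)) (tt N13031 (iv F187520)) (tt N12678 (iv F204708)) (tt N9298 F132872) (tt N12632 (iv F180011)) (tt N12681 (iv F204593)) (tt N9388 F132873) (tt N13509 D45900))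
theorem Q11299 : ∀ i, i < 11299 → P i := stepQ 11298 Q11298 (allL N11298 (tt N12678 (iv F204707)) (tt N9291 F132874) (tt N13494 (iv F190739)) (tt N12664 (iv F204712)) (tt N9290 (iv D31457)) (tt N9381 (iv F204711)) (tt N12633 (iv F180015)) (tt N9378 F204637) (tt N9373 F204638) (tt N13492 (iv F204714)))
theorem Q11300 : ∀ i, i < 11300 → P i := stepQ 11299 Q11299 (allL N11299 (tt N13509 (iv F190848)) (tt N9292 F132877) (tt N13495 (iv F190743)) (tt N13033 (iv F187527)) (tt N13492 (iv F204713)) (tt N9299 F132878) (tt N12634 (iv F180019)) (tt N13499 (iv F204599)) (tt N13491 (iv F204723)) (tt N9290 (iv D31458)))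
theorem Q11301 : ∀ i, i < 11301 → P i := stepQ 11300 Q11300 (allL N11300 (tt N11300 F132879) (tt N12664 F204743) (tt N13283 (iv F189308)) (tt N9291 (iv D31459)) (tt N13034 (iv F187530)) (tt N9330 (iv F204817)) (tt N12635 (iv F180022)) (tt N9327 F204744) (tt N9322 (iv F204800)) (tt N13358 (iv F204818)))
theorem Q11302 : ∀ i, i < 11302 → P i := stepQ 11301 Q11301 (allL N11301 (tt N9295 (iv D31463)) (tt N11301 F132893) (tt N13500 (iv F190756)) (tt N13038 (iv F187545)) (tt N9572 F132894) (tt N12681 F204633) (tt N11301 F132895) (tt N9298 F132896) (tt N9389 F132897) (tt N13510 D45909))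
theorem Q11303 : ∀ i, i < 11303 → P i := stepQ 11302 Q11302 (allL N11302 (tt N13510 (iv F190876)) (tt N9296 F132898) (tt N13501 (iv F190762)) (tt N13039 (iv F187551)) (tt N9561 (iv F204718)) (tt N13499 F204643) (tt N11302 F132900) (tt N9299 F132901) (tt N9560 (iv F204722)) (tt N9295 (iv D31464)))
theorem Q11304 : ∀ i, i < 11304 → P i := stepQ 11303 Q11303 (allL N11303 (tt N9299 F132908) (tt N11303 F132909) (tt N13503 (iv F190772)) (tt N13041 (iv F187563)) (tt N9573 F132910) (tt N13509 (iv F190850)) (tt N9301 F132911) (tt N13510 (iv F190880)) (tt N13511 D45912) (tt N9298 (iv D31466)))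
theorem Q11305 : ∀ i, i < 11305 → P i := stepQ 11304 Q11304 (allL N11304 (tt N13511 (iv F190890)) (tt N9300 F132912) (tt N13504 (iv F190776)) (tt N13512 D45913) (tt N9556 (iv F204849)) (tt N13491 F204798) (tt N9302 F132914) (tt N9560 F204799) (tt N9299 (iv D31467)) (tt N9391 F132915))
theorem Q11306 : ∀ i, i < 11306 → P i := stepQ 11305 Q11305 (allL N11305 (tt N11305 F132916) (tt N13512 (iv F190895)) (tt N13370 (iv F189988)) (tt N9300 (iv D31468)) (tt N9487 (iv F204915)) (tt N13278 F204861) (tt N9303 F132917) (tt N9491 F204862) (tt N13043 (iv F187572)) (tt N9392 F132918))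
theorem Q11307 : ∀ i, i < 11307 → P i := stepQ 11306 Q11306 (allL N11306 (tt N9302 F132919) (tt N11306 F132920) (tt N13506 (iv F190783)) (tt N11699 (iv F204260)) (tt N9574 F132921) (tt N12645 (iv F180067)) (tt N13511 (iv F190893)) (tt N11306 F132922) (tt N9301 (iv D31469)) (tt N9393 F132923))
theorem Q11308 : ∀ i, i < 11308 → P i := stepQ 11307 Q11307 (allL N11307 (tt N11699 (iv F204259)) (tt N9303 F132924) (tt N11956 (iv F203708)) (tt N9302 (iv D31470)) (tt N11691 (iv F203706)) (tt N12646 (iv F180071)) (tt N13512 (iv F190896)) (tt N11307 F132925) (tt N13045 (iv F187581)) (tt N9394 F132926))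
theorem Q11309 : ∀ i, i < 11309 → P i := stepQ 11308 Q11308 (allL N11308 (tt N11308 F132927) (tt N11691 (iv F203705)) (tt N13373 (iv F190000)) (tt N9485 (iv F204985)) (tt N9303 (iv D31471)) (tt N11690 (iv F203710)) (tt N9487 F204936) (tt N11308 F132929) (tt N13046 (iv F187586)) (tt N9395 F132930))
theorem Q11310 : ∀ i, i < 11310 → P i := stepQ 11309 Q11309 (allL N11309 (tt N12656 (iv F203964)) (tt N11309 F133263) (tt N12911 (iv F198758)) (tt N11309 F133264) (tt N9306 F133265) (tt N9673 F133266) (tt N13513 D46034) (tt N9305 (iv D31547)) (tt N13514 D46035) (tt N9350 F133267))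
theorem Q11311 : ∀ i, i < 11311 → P i := stepQ 11310 Q11310 (allL N11310 (tt N12475 (iv F204161)) (tt N11310 F133268) (tt N13306 (iv F189680)) (tt N13515 D46036) (tt N9307 F133269) (tt N9674 F133270) (tt N12649 (iv F181355)) (tt N13514 (iv F191414)) (tt N9305 (iv D31548)) (tt N13516 D46037))
theorem Q11312 : ∀ i, i < 11312 → P i := stepQ 11311 Q11311 (allL N11311 (tt N12654 (iv F204142)) (tt N11311 F133271) (tt N13307 (iv F189683)) (tt N9310 F133272) (tt N13513 (iv F191409)) (tt N11311 F133273) (tt N9306 (iv D31549)) (tt N12650 (iv F181359)) (tt N13517 D46038) (tt N9352 F133274))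
theorem Q11313 : ∀ i, i < 11313 → P i := stepQ 11312 Q11312 (allL N11312 (tt N12472 (iv F204143)) (tt N11312 F133275) (tt N13308 (iv F189687)) (tt N12434 (iv F204155)) (tt N13514 (iv F191412)) (tt N9308 F133276) (tt N13517 (iv F191424)) (tt N9307 F133277) (tt N9306 (iv D31550)) (tt N13518 D46040))
theorem Q11314 : ∀ i, i < 11314 → P i := stepQ 11313 Q11313 (allL N11313 (tt N12476 (iv F204164)) (tt N11313 F133281) (tt N13310 (iv F189692)) (tt N12435 (iv F204156)) (tt N13516 (iv F191419)) (tt N9309 F133282) (tt N12652 (iv F181370)) (tt N13518 (iv F191431)) (tt N9355 F133283) (tt N9307 (iv D31552)))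
theorem Q11315 : ∀ i, i < 11315 → P i := stepQ 11314 Q11314 (allL N11314 (tt N12478 (iv F204150)) (tt N11314 F133288) (tt N13312 (iv F189698)) (tt N12436 (iv F204277)) (tt N9679 F133289) (tt N13518 (iv F191430)) (tt N11314 F133290) (tt N9309 F133291) (tt N9357 F133292) (tt N9308 (iv D31554)))
theorem Q11316 : ∀ i, i < 11316 → P i := stepQ 11315 Q11315 (allL N11315 (tt N12650 (iv F204281)) (tt N9318 F133439) (tt N13519 D46106) (tt N9311 (iv D31595)) (tt N13520 D46107) (tt N11315 F133440) (tt N9312 F133441) (tt N12654 (iv F181553)) (tt N13340 (iv F189840)) (tt N12663 (iv F204384)))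
theorem Q11317 : ∀ i, i < 11317 → P i := stepQ 11316 Q11316 (allL N11316 (tt N12438 (iv F203830)) (tt N13521 D46109) (tt N9312 (iv D31597)) (tt N12420 (iv F203611)) (tt N13522 D46110) (tt N9315 F133447) (tt N13519 (iv F191664)) (tt N9313 F133448) (tt N13342 (iv F189847)) (tt N12513 (iv F204112)))
theorem Q11318 : ∀ i, i < 11318 → P i := stepQ 11317 Q11317 (allL N11317 (tt N12648 (iv F204280)) (tt N9321 F133449) (tt N13522 (iv F191675)) (tt N11317 F133450) (tt N9312 (iv D31598)) (tt N11317 F133451) (tt N13520 (iv F191667)) (tt N9314 F133452) (tt N13343 (iv F189851)) (tt N12661 (iv F204404)))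
theorem Q11319 : ∀ i, i < 11319 → P i := stepQ 11318 Q11318 (allL N11318 (tt N13415 (iv F204074)) (tt N9313 (iv D31600)) (tt N9323 F133457) (tt N12413 (iv F203075)) (tt N13379 (iv F204290)) (tt N9316 F133458) (tt N12657 (iv F181571)) (tt N13521 (iv F191674)) (tt N13345 (iv F189858)) (tt N12499 (iv F203852)))
theorem Q11320 : ∀ i, i < 11320 → P i := stepQ 11319 Q11319 (allL N11319 (tt N12437 (iv F203829)) (tt N13379 (iv F204288)) (tt N9314 F133459) (tt N13377 (iv F206679)) (tt N9313 (iv D31601)) (tt N11319 F133460) (tt N12658 (iv F181573)) (tt N13522 (iv F191677)) (tt N13346 (iv F189861)) (tt N12512 (iv F204111)))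
theorem Q11321 : ∀ i, i < 11321 → P i := stepQ 11320 Q11320 (allL N11320 (tt N13523 D46121) (tt N9315 (iv D31605)) (tt N9328 F133470) (tt N12414 (iv F203076)) (tt N11320 F133471) (tt N13521 (iv F191673)) (tt N11320 F133472) (tt N9316 F133473) (tt N13349 (iv F189875)) (tt N12500 (iv F203854)))
theorem Q11322 : ∀ i, i < 11322 → P i := stepQ 11321 Q11321 (allL N11321 (tt N9316 (iv D31608)) (tt N9665 (iv F203077)) (tt N9331 F133483) (tt N9621 F202573) (tt N11321 F133484) (tt N13415 (iv F204076)) (tt N9317 F133485) (tt N13523 (iv F191711)) (tt N13351 (iv F189889)) (tt N11924 (iv F203468)))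
theorem Q11323 : ∀ i, i < 11323 → P i := stepQ 11322 Q11322 (allL N11322 (tt N11322 F133503) (tt N12661 (iv F204445)) (tt N9318 (iv D31614)) (tt N11322 F133504) (tt N9322 (iv F204448)) (tt N11322 F133505) (tt N9320 F133506) (tt N9326 F204350) (tt N13034 (iv F204826)) (tt N9321 (iv F204454)))
theorem Q11324 : ∀ i, i < 11324 → P i := stepQ 11323 Q11323 (allL N11323 (tt N11323 F133507) (tt N13520 (iv F191665)) (tt N9322 (iv F204447)) (tt N11323 F133508) (tt N9318 (iv D31615)) (tt N9329 (iv F204492)) (tt N9321 F133509) (tt N9325 F204379) (tt N13283 (iv F204822)) (tt N9320 (iv F204450)))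
theorem Q11325 : ∀ i, i < 11325 → P i := stepQ 11324 Q11324 (allL N11324 (tt N11324 F133510) (tt N12663 (iv F204383)) (tt N9321 (iv F204453)) (tt N9319 F133511) (tt N9320 (iv F204449)) (tt N11324 F133512) (tt N9322 F133513) (tt N9324 F204378) (tt N12635 (iv F204679)) (tt N9318 (iv D31616)))
theorem Q11326 : ∀ i, i < 11326 → P i := stepQ 11325 Q11325 (allL N11325 (tt N12673 (iv F204079)) (tt N9320 (iv D31617)) (tt N13521 (iv F191672)) (tt N11325 F133514) (tt N12663 (iv F204292)) (tt N9328 F133515) (tt N12661 (iv F204446)) (tt N9323 F133516) (tt N13355 (iv F189923)) (tt N13520 (iv F204491)))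
theorem Q11327 : ∀ i, i < 11327 → P i := stepQ 11326 Q11326 (allL N11326 (tt N9323 (iv D31622)) (tt N11326 F133535) (tt N13415 (iv F204075)) (tt N11326 F133536) (tt N9352 (iv F204078)) (tt N9331 F133537) (tt N9350 F203882) (tt N12673 (iv F204081)) (tt N13359 (iv F189944)) (tt N13513 (iv F204086)))
theorem Q11328 : ∀ i, i < 11328 → P i := stepQ 11327 Q11327 (allL N11327 (tt N9352 (iv F204077)) (tt N9324 F133538) (tt N13379 (iv F204289)) (tt N9342 (iv F204291)) (tt N9323 (iv D31623)) (tt N11327 F133539) (tt N9338 F204073) (tt N12663 (iv F204293)) (tt N13360 (iv F189947)) (tt N12654 (iv F204297)))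
theorem Q11329 : ∀ i, i < 11329 → P i := stepQ 11328 Q11328 (allL N11328 (tt N13513 (iv F204084)) (tt N9325 F133540) (tt N12499 (iv F203851)) (tt N11328 F133541) (tt N12654 (iv F204296)) (tt N9332 F133542) (tt N12656 (iv F203967)) (tt N13520 (iv F204490)) (tt N13524 D46147) (tt N9323 (iv D31624)))
theorem Q11330 : ∀ i, i < 11330 → P i := stepQ 11329 Q11329 (allL N11329 (tt N11329 F133551) (tt N13524 (iv F191805)) (tt N9327 F133552) (tt N13276 (iv F204809)) (tt N12482 (iv F204444)) (tt N9333 F133553) (tt N12485 (iv F204170)) (tt N13283 (iv F204821)) (tt N9325 (iv D31627)) (tt N13363 (iv F189959)))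
theorem Q11331 : ∀ i, i < 11331 → P i := stepQ 11330 Q11330 (allL N11330 (tt N11330 F133554) (tt N12662 (iv F204405)) (tt N12482 (iv F204443)) (tt N13027 (iv F204684)) (tt N9327 F133555) (tt N11330 F133556) (tt N12484 (iv F204176)) (tt N13034 (iv F204825)) (tt N9326 (iv D31628)) (tt N13364 (iv F189963)))
theorem Q11332 : ∀ i, i < 11332 → P i := stepQ 11331 Q11331 (allL N11331 (tt N9328 (iv D31629)) (tt N11331 F133557) (tt N13523 (iv F191708)) (tt N11331 F133558) (tt N11331 F133559) (tt N12673 (iv F204080)) (tt N11331 F133560) (tt N9331 F133561) (tt N13365 (iv F189968)) (tt N13525 D46153))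
theorem Q11333 : ∀ i, i < 11333 → P i := stepQ 11332 Q11332 (allL N11332 (tt N13525 (iv F191828)) (tt N9329 F133562) (tt N12500 (iv F203853)) (tt N11332 F133563) (tt N11332 F133564) (tt N13520 (iv F204489)) (tt N11332 F133565) (tt N9332 F133566) (tt N13526 D46154) (tt N9328 (iv D31630)))
theorem Q11334 : ∀ i, i < 11334 → P i := stepQ 11333 Q11333 (allL N11333 (tt N11333 F133567) (tt N13526 (iv F191834)) (tt N9330 F133568) (tt N9489 F204870) (tt N11333 F133569) (tt N13283 F204871) (tt N11333 F133570) (tt N9333 F133571) (tt N9329 (iv D31631)) (tt N13367 (iv F189978)))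
theorem Q11335 : ∀ i, i < 11335 → P i := stepQ 11334 Q11334 (allL N11334 (tt N9332 F133572) (tt N11334 F133573) (tt N11924 (iv F203467)) (tt N11334 F133574) (tt N11334 F133575) (tt N13513 (iv F204085)) (tt N9334 F133576) (tt N13525 (iv F191833)) (tt N13527 D46156) (tt N9331 (iv D31632)))
theorem Q11336 : ∀ i, i < 11336 → P i := stepQ 11335 Q11335 (allL N11335 (tt N13527 (iv F191843)) (tt N9333 F133577) (tt N12501 (iv F203855)) (tt N13528 D46157) (tt N11335 F133578) (tt N13524 (iv F191806)) (tt N9335 F133579) (tt N13526 (iv F191837)) (tt N9332 (iv D31633)) (tt N13369 (iv F189986)))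
theorem Q11337 : ∀ i, i < 11337 → P i := stepQ 11336 Q11336 (allL N11336 (tt N11336 F133580) (tt N13528 (iv F191847)) (tt N9392 F133581) (tt N9333 (iv D31634)) (tt N9486 (iv F204914)) (tt N13276 F204858) (tt N9336 F133582) (tt N9489 F204859) (tt N11336 F133583) (tt N13370 (iv F189990)))
theorem Q11338 : ∀ i, i < 11338 → P i := stepQ 11337 Q11337 (allL N11337 (tt N9335 F133584) (tt N11337 F133585) (tt N11925 (iv F203469)) (tt N12399 (iv F206387)) (tt N11337 F133586) (tt N12393 (iv F203746)) (tt N13527 (iv F191846)) (tt N11337 F133587) (tt N9334 (iv D31635)) (tt N13371 (iv F189995)))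
theorem Q11339 : ∀ i, i < 11339 → P i := stepQ 11338 Q11338 (allL N11338 (tt N12399 (iv F206386)) (tt N9336 F133588) (tt N11935 (iv F203707)) (tt N9335 (iv D31636)) (tt N11934 (iv F206382)) (tt N12388 (iv F206390)) (tt N13528 (iv F191848)) (tt N11338 F133589) (tt N11338 F133590) (tt N13372 (iv F189998)))
theorem Q11340 : ∀ i, i < 11340 → P i := stepQ 11339 Q11339 (allL N11339 (tt N11339 F133591) (tt N11934 (iv F206381)) (tt N9395 F133592) (tt N11339 F133593) (tt N9336 (iv D31637)) (tt N11688 (iv F203039)) (tt N9486 F204935) (tt N11339 F133594) (tt N11339 F133595) (tt N13373 (iv F190003)))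
theorem Q11341 : ∀ i, i < 11341 → P i := stepQ 11340 Q11340 (allL N11340 (tt N9351 F133705) (tt N12484 (iv F204279)) (tt N13378 (iv F190195)) (tt N13529 D46201) (tt N9339 F133706) (tt N9689 F133707) (tt N12662 (iv F181913)) (tt N12487 (iv F203877)) (tt N9337 (iv D31663)) (tt N13530 D46202))
theorem Q11342 : ∀ i, i < 11342 → P i := stepQ 11341 Q11341 (allL N11341 (tt N9353 F133711) (tt N12488 (iv F204139)) (tt N13380 (iv F190203)) (tt N12702 (iv F204147)) (tt N12487 (iv F203876)) (tt N9340 F133712) (tt N13360 (iv F204295)) (tt N9339 F133713) (tt N9338 (iv D31665)) (tt N13531 D46205))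
theorem Q11343 : ∀ i, i < 11343 → P i := stepQ 11342 Q11342 (allL N11342 (tt N9355 F133717) (tt N12491 (iv F204284)) (tt N13382 (iv F190210)) (tt N12614 (iv F204413)) (tt N13530 (iv F192037)) (tt N9341 F133718) (tt N12665 (iv F181927)) (tt N13531 (iv F192048)) (tt N12476 (iv F204165)) (tt N9339 (iv D31667)))
theorem Q11344 : ∀ i, i < 11344 → P i := stepQ 11343 Q11343 (allL N11343 (tt N9357 F133724) (tt N12493 (iv F204140)) (tt N13384 (iv F190217)) (tt N12617 (iv F204149)) (tt N9692 F133725) (tt N13531 (iv F192047)) (tt N11343 F133726) (tt N9341 F133727) (tt N12478 (iv F204152)) (tt N9340 (iv D31669)))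
theorem Q11345 : ∀ i, i < 11345 → P i := stepQ 11344 Q11344 (allL N11344 (tt N9369 F133802) (tt N11344 F133803) (tt N13532 D46236) (tt N9343 (iv D31689)) (tt N12720 (iv F204644)) (tt N11344 F133804) (tt N9344 F133805) (tt N12667 (iv F182083)) (tt N13401 (iv F190397)) (tt N12689 (iv F204434)))
theorem Q11346 : ∀ i, i < 11346 → P i := stepQ 11345 Q11345 (allL N11345 (tt N9371 F133811) (tt N13533 D46239) (tt N9344 (iv D31691)) (tt N12700 (iv F204425)) (tt N13534 D46240) (tt N9347 F133812) (tt N13532 (iv F192165)) (tt N9345 F133813) (tt N13403 (iv F190405)) (tt N12690 (iv F204429)))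
theorem Q11347 : ∀ i, i < 11347 → P i := stepQ 11346 Q11346 (allL N11346 (tt N9372 F133814) (tt N11346 F133815) (tt N13534 (iv F192179)) (tt N11346 F133816) (tt N9344 (iv D31692)) (tt N9390 (iv F204705)) (tt N12720 (iv F204645)) (tt N9346 F133818) (tt N13404 (iv F190410)) (tt N9388 F204636))
theorem Q11348 : ∀ i, i < 11348 → P i := stepQ 11347 Q11347 (allL N11347 (tt N13535 D46244) (tt N9345 (iv D31694)) (tt N11347 F133824) (tt N12705 (iv F204527)) (tt N13536 D46245) (tt N9348 F133825) (tt N12670 (iv F182105)) (tt N13533 (iv F192177)) (tt N13406 (iv F190418)) (tt N12691 (iv F204531)))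
theorem Q11349 : ∀ i, i < 11349 → P i := stepQ 11348 Q11348 (allL N11348 (tt N9375 F133826) (tt N13536 (iv F192199)) (tt N9346 F133827) (tt N13537 D46247) (tt N9345 (iv D31695)) (tt N9577 F133828) (tt N12671 (iv F182109)) (tt N13534 (iv F192181)) (tt N13407 (iv F190422)) (tt N12692 (iv F204538)))
theorem Q11350 : ∀ i, i < 11350 → P i := stepQ 11349 Q11349 (allL N11349 (tt N13538 D46251) (tt N9347 (iv D31699)) (tt N11349 F133840) (tt N12711 (iv F204427)) (tt N9579 F133841) (tt N13533 (iv F192176)) (tt N11349 F133842) (tt N9348 F133843) (tt N13410 (iv F190438)) (tt N12693 (iv F204438)))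
theorem Q11351 : ∀ i, i < 11351 → P i := stepQ 11350 Q11350 (allL N11350 (tt N9348 (iv D31702)) (tt N9382 F133854) (tt N11350 F133855) (tt N12713 (iv F204526)) (tt N9581 F133856) (tt N13535 (iv F192198)) (tt N9349 F133857) (tt N13538 (iv F192223)) (tt N13412 (iv F190454)) (tt N12694 (iv F204530)))
theorem Q11352 : ∀ i, i < 11352 → P i := stepQ 11351 Q11351 (allL N11351 (tt N12487 (iv F203875)) (tt N11351 F133880) (tt N13416 (iv F190479)) (tt N13539 D46262) (tt N9353 F133881) (tt N9693 F133882) (tt N13359 (iv F204083)) (tt N9351 F133883) (tt N9350 (iv D31709)) (tt N13540 D46263))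
theorem Q11353 : ∀ i, i < 11353 → P i := stepQ 11352 Q11352 (allL N11352 (tt N13529 (iv F192033)) (tt N11352 F133884) (tt N13541 D46264) (tt N9351 (iv D31710)) (tt N13542 D46265) (tt N9694 F133885) (tt N12675 (iv F182174)) (tt N13539 (iv F192264)) (tt N11352 F133886) (tt N13543 D46266))
theorem Q11354 : ∀ i, i < 11354 → P i := stepQ 11353 Q11353 (allL N11353 (tt N13530 (iv F192036)) (tt N11353 F133887) (tt N13418 (iv F190484)) (tt N13543 (iv F192277)) (tt N9355 F133888) (tt N9695 F133889) (tt N12676 (iv F182179)) (tt N13540 (iv F192269)) (tt N13516 (iv F191421)) (tt N9351 (iv D31711)))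
theorem Q11355 : ∀ i, i < 11355 → P i := stepQ 11354 Q11354 (allL N11354 (tt N13360 (iv F204294)) (tt N11354 F133890) (tt N13419 (iv F190487)) (tt N13544 D46267) (tt N13359 (iv F204082)) (tt N11354 F133891) (tt N9353 F133892) (tt N12677 (iv F182183)) (tt N9352 (iv D31712)) (tt N13545 D46268))
theorem Q11356 : ∀ i, i < 11356 → P i := stepQ 11355 Q11355 (allL N11355 (tt N12702 (iv F204146)) (tt N11355 F133893) (tt N13546 D46269) (tt N9353 (iv D31713)) (tt N13547 D46270) (tt N9356 F133894) (tt N13544 (iv F192281)) (tt N9354 F133895) (tt N9363 F133896) (tt N13548 D46271))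
theorem Q11357 : ∀ i, i < 11357 → P i := stepQ 11356 Q11356 (allL N11356 (tt N13531 (iv F192046)) (tt N11356 F133897) (tt N13421 (iv F190493)) (tt N13548 (iv F192294)) (tt N13540 (iv F192267)) (tt N9357 F133898) (tt N13545 (iv F192285)) (tt N9355 F133899) (tt N13518 (iv F191432)) (tt N9353 (iv D31714)))
theorem Q11358 : ∀ i, i < 11358 → P i := stepQ 11357 Q11357 (allL N11357 (tt N12708 (iv F204410)) (tt N13549 D46272) (tt N9354 (iv D31715)) (tt N13422 (iv F190496)) (tt N13550 D46273) (tt N9358 F133900) (tt N12680 (iv F182192)) (tt N13546 (iv F192287)) (tt N9364 F133901) (tt N13551 D46274))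
theorem Q11359 : ∀ i, i < 11359 → P i := stepQ 11358 Q11358 (allL N11358 (tt N12709 (iv F204411)) (tt N11358 F133902) (tt N13550 (iv F192300)) (tt N13542 (iv F192273)) (tt N9354 (iv D31716)) (tt N11358 F133903) (tt N12681 (iv F182195)) (tt N13547 (iv F192291)) (tt N9365 F133904) (tt N13552 D46275))
theorem Q11360 : ∀ i, i < 11360 → P i := stepQ 11359 Q11359 (allL N11359 (tt N12614 (iv F204412)) (tt N11359 F133905) (tt N13551 (iv F192303)) (tt N9355 F133906) (tt N13552 (iv F192306)) (tt N9359 F133907) (tt N12682 (iv F182200)) (tt N13548 (iv F192296)) (tt N12545 (iv F204391)) (tt N9354 (iv D31717)))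
theorem Q11361 : ∀ i, i < 11361 → P i := stepQ 11360 Q11360 (allL N11360 (tt N12712 (iv F204145)) (tt N13553 D46277) (tt N9356 (iv D31718)) (tt N13425 (iv F190502)) (tt N11360 F133908) (tt N13546 (iv F192286)) (tt N11360 F133909) (tt N9358 F133910) (tt N9366 F133911) (tt N13554 D46278))
theorem Q11362 : ∀ i, i < 11362 → P i := stepQ 11361 Q11361 (allL N11361 (tt N12617 (iv F204148)) (tt N11361 F133912) (tt N13554 (iv F192316)) (tt N9357 F133913) (tt N11361 F133914) (tt N13548 (iv F192295)) (tt N11361 F133915) (tt N9359 F133916) (tt N12547 (iv F204459)) (tt N9356 (iv D31719)))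
theorem Q11363 : ∀ i, i < 11363 → P i := stepQ 11362 Q11362 (allL N11362 (tt N13555 D46280) (tt N9358 (iv D31720)) (tt N11362 F133917) (tt N13428 (iv F190513)) (tt N11362 F133918) (tt N13549 (iv F192298)) (tt N9360 F133919) (tt N13553 (iv F192314)) (tt N9367 F133920) (tt N13556 D46281))
theorem Q11364 : ∀ i, i < 11364 → P i := stepQ 11363 Q11363 (allL N11363 (tt N12620 (iv F204414)) (tt N13556 (iv F192329)) (tt N9359 F133921) (tt N13430 (iv F190521)) (tt N11363 F133922) (tt N13551 (iv F192304)) (tt N9361 F133923) (tt N13554 (iv F192319)) (tt N12549 (iv F204460)) (tt N9358 (iv D31721)))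
theorem Q11365 : ∀ i, i < 11365 → P i := stepQ 11364 Q11364 (allL N11364 (tt N9360 (iv D31723)) (tt N12716 (iv F204469)) (tt N11364 F133928) (tt N13434 (iv F190530)) (tt N11364 F133929) (tt N12687 (iv F182233)) (tt N13555 (iv F192327)) (tt N11364 F133930) (tt N9368 F133931) (tt N13557 D46283))
theorem Q11366 : ∀ i, i < 11366 → P i := stepQ 11365 Q11365 (allL N11365 (tt N13557 (iv F192337)) (tt N9361 F133932) (tt N11365 F133933) (tt N13436 (iv F190538)) (tt N11365 F133934) (tt N12688 (iv F182243)) (tt N13556 (iv F192332)) (tt N11365 F133935) (tt N12551 (iv F204461)) (tt N9360 (iv D31724)))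
theorem Q11367 : ∀ i, i < 11367 → P i := stepQ 11366 Q11366 (allL N11366 (tt N12697 (iv F204423)) (tt N11366 F133940) (tt N13558 D46286) (tt N9362 (iv D31726)) (tt N12719 (iv F206677)) (tt N11366 F133941) (tt N9363 F133942) (tt N12689 (iv F182265)) (tt N13544 (iv F192282)) (tt N12667 (iv F204436)))
theorem Q11368 : ∀ i, i < 11368 → P i := stepQ 11367 Q11367 (allL N11367 (tt N12700 (iv F204424)) (tt N13559 D46289) (tt N9363 (iv D31728)) (tt N9371 F133948) (tt N13560 D46290) (tt N9366 F133949) (tt N13558 (iv F192350)) (tt N9364 F133950) (tt N13546 (iv F192288)) (tt N12668 (iv F204497)))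
theorem Q11369 : ∀ i, i < 11369 → P i := stepQ 11368 Q11368 (allL N11368 (tt N12701 (iv F204426)) (tt N11368 F133951) (tt N13560 (iv F192362)) (tt N11368 F133952) (tt N9363 (iv D31729)) (tt N11368 F133953) (tt N12719 (iv F206678)) (tt N9365 F133954) (tt N13547 (iv F192292)) (tt N12669 (iv F204498)))
theorem Q11370 : ∀ i, i < 11370 → P i := stepQ 11369 Q11369 (allL N11369 (tt N13561 D46294) (tt N9364 (iv D31731)) (tt N11369 F133959) (tt N9374 F133960) (tt N13562 D46295) (tt N9367 F133961) (tt N12691 (iv F182285)) (tt N13559 (iv F192361)) (tt N13549 (iv F192299)) (tt N12670 (iv F204534)))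
theorem Q11371 : ∀ i, i < 11371 → P i := stepQ 11370 Q11370 (allL N11370 (tt N12707 (iv F204532)) (tt N13562 (iv F192380)) (tt N9365 F133962) (tt N13563 D46297) (tt N9364 (iv D31732)) (tt N11370 F133963) (tt N12692 (iv F182287)) (tt N13560 (iv F192364)) (tt N13550 (iv F192302)) (tt N12671 (iv F204535)))
theorem Q11372 : ∀ i, i < 11372 → P i := stepQ 11371 Q11371 (allL N11371 (tt N13564 D46301) (tt N9366 (iv D31736)) (tt N11371 F133973) (tt N9379 F133974) (tt N11371 F133975) (tt N13559 (iv F192360)) (tt N11371 F133976) (tt N9367 F133977) (tt N13553 (iv F192315)) (tt N9587 (iv F204700)))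
theorem Q11373 : ∀ i, i < 11373 → P i := stepQ 11372 Q11372 (allL N11372 (tt N9367 (iv D31739)) (tt N12713 (iv F204525)) (tt N11372 F133987) (tt N9382 F133988) (tt N11372 F133989) (tt N13561 (iv F192379)) (tt N9368 F133990) (tt N13564 (iv F192402)) (tt N13555 (iv F192328)) (tt N12672 (iv F204540)))
theorem Q11374 : ∀ i, i < 11374 → P i := stepQ 11373 Q11373 (allL N11373 (tt N13532 (iv F192163)) (tt N12707 (iv F204559)) (tt N9369 (iv D31745)) (tt N13558 (iv F192348)) (tt N12705 (iv F204646)) (tt N11373 F134010) (tt N9371 F134011) (tt N12695 (iv F182416)) (tt N13486 (iv F190708)) (tt N12704 (iv F204656)))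
theorem Q11375 : ∀ i, i < 11375 → P i := stepQ 11374 Q11374 (allL N11374 (tt N12692 (iv F204584)) (tt N9371 (iv D31748)) (tt N9377 F204566) (tt N13559 (iv F192359)) (tt N9376 (iv F204587)) (tt N9379 F134020) (tt N12707 F204567) (tt N9374 F134021) (tt N13488 (iv F190719)) (tt N9375 (iv F204589)))
theorem Q11376 : ∀ i, i < 11376 → P i := stepQ 11375 Q11375 (allL N11375 (tt N13534 (iv F192178)) (tt N9376 F204626) (tt N9372 F134022) (tt N12670 (iv F204689)) (tt N9371 (iv D31749)) (tt N9383 (iv F204691)) (tt N12705 (iv F204647)) (tt N9375 F134024) (tt N13489 (iv F190723)) (tt N9374 F204627))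
theorem Q11377 : ∀ i, i < 11377 → P i := stepQ 11376 Q11376 (allL N11376 (tt N12690 (iv F204428)) (tt N9375 F204628) (tt N9373 F134025) (tt N12668 (iv F204496)) (tt N9374 F204629) (tt N9380 F134026) (tt N12704 (iv F204655)) (tt N9376 F134027) (tt N13494 (iv F204699)) (tt N9371 (iv D31750)))
theorem Q11378 : ∀ i, i < 11378 → P i := stepQ 11377 Q11377 (allL N11377 (tt N9374 (iv D31753)) (tt N13535 (iv F192196)) (tt N9388 F134036) (tt N13561 (iv F192378)) (tt N12690 (iv F204696)) (tt N9382 F134037) (tt N12703 (iv F182445)) (tt N12692 (iv F204585)) (tt N13493 (iv F190737)) (tt N13534 (iv F204688)))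
theorem Q11379 : ∀ i, i < 11379 → P i := stepQ 11378 Q11378 (allL N11378 (tt N13537 (iv F192205)) (tt N12668 (iv F204697)) (tt N11378 F134044) (tt N9375 (iv D31756)) (tt N13563 (iv F192388)) (tt N9587 F134045) (tt N12706 (iv F182456)) (tt N12670 (iv F204690)) (tt N13565 D46328) (tt N13559 (iv F204586)))
theorem Q11380 : ∀ i, i < 11380 → P i := stepQ 11379 Q11379 (allL N11379 (tt N12680 (iv F204470)) (tt N13489 (iv F204693)) (tt N9378 F134049) (tt N13566 D46331) (tt N13488 (iv F204588)) (tt N9384 F134050) (tt N12708 (iv F182463)) (tt N13494 (iv F204698)) (tt N9376 (iv D31758)) (tt N13498 (iv F190751)))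
theorem Q11381 : ∀ i, i < 11381 → P i := stepQ 11380 Q11380 (allL N11380 (tt N9379 (iv D31760)) (tt N13538 (iv F192219)) (tt N9389 F134054) (tt N13564 (iv F192399)) (tt N9578 (iv F204686)) (tt N12692 F204625) (tt N11380 F134056) (tt N9382 F134057) (tt N13500 (iv F190760)) (tt N9577 (iv F204687)))
theorem Q11382 : ∀ i, i < 11382 → P i := stepQ 11381 Q11381 (allL N11381 (tt N12683 (iv F204440)) (tt N9558 F204769) (tt N9381 F134063) (tt N13567 D46335) (tt N9557 (iv F204836)) (tt N13494 F204770) (tt N11381 F134065) (tt N9384 F134066) (tt N9380 (iv D31762)) (tt N13502 (iv F190770)))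
theorem Q11383 : ∀ i, i < 11383 → P i := stepQ 11382 Q11382 (allL N11382 (tt N9383 F134067) (tt N12694 (iv F204528)) (tt N9390 F134068) (tt N12672 (iv F204539)) (tt N9575 (iv F204831)) (tt N13534 F204756) (tt N9385 F134070) (tt N9577 F204757) (tt N13568 D46336) (tt N9382 (iv D31763)))
theorem Q11384 : ∀ i, i < 11384 → P i := stepQ 11383 Q11383 (allL N11383 (tt N13568 (iv F192517)) (tt N9384 F134071) (tt N9391 F134072) (tt N13569 D46337) (tt N9555 (iv F204835)) (tt N13489 F204762) (tt N9386 F134074) (tt N9558 F204763) (tt N9383 (iv D31764)) (tt N13504 (iv F190779)))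
theorem Q11385 : ∀ i, i < 11385 → P i := stepQ 11384 Q11384 (allL N11384 (tt N12560 (iv F204217)) (tt N13569 (iv F192521)) (tt N12516 (iv F204196)) (tt N9384 (iv D31765)) (tt N13570 D46338) (tt N13566 (iv F192501)) (tt N9387 F134075) (tt N13567 (iv F192516)) (tt N12526 (iv F204205)) (tt N13505 (iv F190781)))
theorem Q11386 : ∀ i, i < 11386 → P i := stepQ 11385 Q11385 (allL N11385 (tt N9386 F134076) (tt N12687 (iv F204475)) (tt N9393 F134077) (tt N11989 (iv F204544)) (tt N9589 F134078) (tt N12716 (iv F182493)) (tt N13568 (iv F192520)) (tt N11385 F134079) (tt N9385 (iv D31766)) (tt N13506 (iv F190786)))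
theorem Q11387 : ∀ i, i < 11387 → P i := stepQ 11386 Q11386 (allL N11386 (tt N11989 (iv F204543)) (tt N9387 F134080) (tt N11950 (iv F203699)) (tt N9386 (iv D31767)) (tt N11949 (iv F204542)) (tt N12717 (iv F182496)) (tt N13569 (iv F192522)) (tt N11386 F134081) (tt N12529 (iv F204203)) (tt N13507 (iv F190789)))
theorem Q11388 : ∀ i, i < 11388 → P i := stepQ 11387 Q11387 (allL N11387 (tt N12564 (iv F204215)) (tt N11949 F204545) (tt N12518 (iv F204201)) (tt N9591 F134082) (tt N9387 (iv D31768)) (tt N12936 (iv F204546)) (tt N13570 (iv F192524)) (tt N11387 F134083) (tt N12530 (iv F204204)) (tt N13508 (iv F190792)))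
theorem Q11389 : ∀ i, i < 11389 → P i := stepQ 11388 Q11388 (allL N11388 (tt N9391 F134183) (tt N11388 F134184) (tt N13568 (iv F192518)) (tt N11696 F206640) (tt N9511 (iv F204844)) (tt N13404 F204785) (tt N9393 F134186) (tt N9514 F204786) (tt N9390 (iv D31795)) (tt N13511 (iv F190894)))
theorem Q11390 : ∀ i, i < 11390 → P i := stepQ 11389 Q11389 (allL N11389 (tt N11696 F206639) (tt N9392 F134187) (tt N11953 (iv F206641)) (tt N9391 (iv D31796)) (tt N9472 F204795) (tt N13258 F204796) (tt N9394 F134188) (tt N9475 F204797) (tt N11389 F134189) (tt N13512 (iv F190897)))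
theorem Q11391 : ∀ i, i < 11391 → P i := stepQ 11390 Q11390 (allL N11390 (tt N9420 F134449) (tt N11390 F134450) (tt N11780 F206478) (tt N9399 F134451) (tt N13082 (iv F188126)) (tt N11679 (iv F206479)) (tt N9401 F134452) (tt N11683 (iv F206480)) (tt N13571 D46341) (tt N9398 (iv D31851)))
theorem Q11392 : ∀ i, i < 11392 → P i := stepQ 11391 Q11391 (allL N11391 (tt N9422 F134457) (tt N12150 F206477) (tt N9401 F134458) (tt N11778 (iv F206467)) (tt N13083 (iv F188134)) (tt N11391 F134459) (tt N11780 (iv F206476)) (tt N9448 F134460) (tt N13572 D46342) (tt N9400 (iv D31853)))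
theorem Q11393 : ∀ i, i < 11393 → P i := stepQ 11392 Q11392 (allL N11392 (tt N9423 F134461) (tt N11392 F134462) (tt N13572 (iv F206845)) (tt N11392 F134463) (tt N13084 (iv F188138)) (tt N11392 F134464) (tt N13571 (iv F206842)) (tt N9449 F134465) (tt N9401 (iv D31854)) (tt N11392 F134466))
theorem Q11394 : ∀ i, i < 11394 → P i := stepQ 11393 Q11393 (allL N11393 (tt N12112 (iv F206361)) (tt N9404 (iv D31873)) (tt N11393 F134544) (tt N9421 F134545) (tt N13573 D46343) (tt N11393 F134546) (tt N11760 F206370) (tt N9458 F134547) (tt N11759 (iv F206369)) (tt N13574 D46344))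
theorem Q11395 : ∀ i, i < 11395 → P i := stepQ 11394 Q11394 (allL N11394 (tt N11775 F206613) (tt N13573 (iv F206849)) (tt N9405 F134548) (tt N13095 (iv F188192)) (tt N9404 (iv D31874)) (tt N13575 D46345) (tt N11765 (iv F206614)) (tt N9459 F134549) (tt N11764 (iv F206615)) (tt N13576 D46346))
theorem Q11396 : ∀ i, i < 11396 → P i := stepQ 11395 Q11395 (allL N11395 (tt N11778 F206466) (tt N13574 (iv F206852)) (tt N9406 F134550) (tt N9422 F134551) (tt N13576 (iv F206861)) (tt N11395 F134552) (tt N11766 (iv F206465)) (tt N9460 F134553) (tt N13103 F206464) (tt N9404 (iv D31875)))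
theorem Q11397 : ∀ i, i < 11397 → P i := stepQ 11396 Q11396 (allL N11396 (tt N11750 F206320) (tt N11396 F134554) (tt N13575 (iv F206857)) (tt N9411 F134555) (tt N11396 F134556) (tt N9405 (iv D31876)) (tt N12751 F206300) (tt N9461 F134557) (tt N11769 (iv F206319)) (tt N13577 D46347))
theorem Q11398 : ∀ i, i < 11398 → P i := stepQ 11397 Q11397 (allL N11397 (tt N11784 F206574) (tt N11397 F134558) (tt N13576 (iv F206860)) (tt N9412 F134559) (tt N9406 F134560) (tt N13577 (iv F206866)) (tt N11770 (iv F206573)) (tt N9462 F134561) (tt N13578 D46348) (tt N9405 (iv D31877)))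
theorem Q11399 : ∀ i, i < 11399 → P i := stepQ 11398 Q11398 (allL N11398 (tt N11753 (iv F206489)) (tt N11398 F134562) (tt N13103 F206461) (tt N11398 F134563) (tt N13578 (iv F206869)) (tt N11398 F134564) (tt N9414 F206462) (tt N9463 F134565) (tt N9406 (iv D31878)) (tt N9413 F206463))
theorem Q11400 : ∀ i, i < 11400 → P i := stepQ 11399 Q11399 (allL N11399 (tt N11687 (iv F206577)) (tt N11399 F134570) (tt N9596 F202319) (tt N9408 F134571) (tt N11843 (iv F205346)) (tt N11399 F134572) (tt N9465 F134573) (tt N9410 F134574) (tt N12755 F206612) (tt N9407 (iv D31880)))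
theorem Q11401 : ∀ i, i < 11401 → P i := stepQ 11400 Q11400 (allL N11400 (tt N11786 F206563) (tt N11400 F134578) (tt N12757 (iv F201793)) (tt N11770 (iv F206564)) (tt N9410 F134579) (tt N12754 (iv F206565)) (tt N9412 F134580) (tt N11843 (iv F206566)) (tt N12753 (iv F206567)) (tt N9409 (iv D31882)))
theorem Q11402 : ∀ i, i < 11402 → P i := stepQ 11401 Q11401 (allL N11401 (tt N11749 (iv F206298)) (tt N11401 F134586) (tt N13100 (iv F188222)) (tt N12751 (iv F206299)) (tt N9413 F134587) (tt N12752 F206297) (tt N9411 (iv D31884)) (tt N13579 D46349) (tt N9701 F134588) (tt N13578 (iv F206872)))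
theorem Q11403 : ∀ i, i < 11403 → P i := stepQ 11402 Q11402 (allL N11402 (tt N11751 F206814) (tt N11402 F134589) (tt N13101 (iv F188225)) (tt N13577 (iv F206864)) (tt N9414 F134590) (tt N9412 F134591) (tt N13578 (iv F206870)) (tt N9469 F134592) (tt N11770 (iv F206813)) (tt N9411 (iv D31885)))
theorem Q11404 : ∀ i, i < 11404 → P i := stepQ 11403 Q11403 (allL N11403 (tt N11752 F206494) (tt N11403 F134597) (tt N13102 (iv F188233)) (tt N11403 F134598) (tt N13579 (iv F206874)) (tt N11403 F134599) (tt N9470 F134600) (tt N9413 (iv D31887)) (tt N9452 F205441) (tt N9463 F205442))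
theorem Q11405 : ∀ i, i < 11405 → P i := stepQ 11404 Q11404 (allL N11404 (tt N11678 F206338) (tt N9427 F134633) (tt N11767 F206328) (tt N11404 F134634) (tt N9415 (iv D31895)) (tt N13107 (iv F188263)) (tt N11404 F134635) (tt N11680 (iv F206337)) (tt N11404 F134636) (tt N13580 D46350))
theorem Q11406 : ∀ i, i < 11406 → P i := stepQ 11405 Q11405 (allL N11405 (tt N11679 (iv F206436)) (tt N9428 F134637) (tt N11768 (iv F206437)) (tt N9416 F134638) (tt N13580 (iv F206880)) (tt N9420 F134639) (tt N11405 F134640) (tt N11681 F206435) (tt N13581 D46351) (tt N9415 (iv D31896)))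
theorem Q11407 : ∀ i, i < 11407 → P i := stepQ 11406 Q11406 (allL N11406 (tt N11683 F206431) (tt N9430 F134644) (tt N11836 F206433) (tt N9418 F134645) (tt N13109 (iv F188274)) (tt N11681 (iv F206430)) (tt N9478 F134646) (tt N9420 F134647) (tt N13582 D46352) (tt N9417 (iv D31898)))
theorem Q11408 : ∀ i, i < 11408 → P i := stepQ 11407 Q11407 (allL N11407 (tt N12088 F206287) (tt N9419 (iv D31899)) (tt N9431 F134648) (tt N11760 F206288) (tt N13110 (iv F188278)) (tt N11761 F206289) (tt N9421 F134649) (tt N11824 (iv F206286)) (tt N11407 F134650) (tt N13583 D46353))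
theorem Q11409 : ∀ i, i < 11409 → P i := stepQ 11408 Q11408 (allL N11408 (tt N11780 (iv F206439)) (tt N13583 (iv F206892)) (tt N9420 F134651) (tt N11766 (iv F206440)) (tt N13111 (iv F188282)) (tt N11768 F206438) (tt N9422 F134652) (tt N11836 (iv F206441)) (tt N13584 D46354) (tt N9419 (iv D31900)))
theorem Q11410 : ∀ i, i < 11410 → P i := stepQ 11409 Q11409 (allL N11409 (tt N13571 (iv F206839)) (tt N9433 F134653) (tt N13584 (iv F206895)) (tt N11409 F134654) (tt N13112 (iv F188285)) (tt N13581 (iv F206884)) (tt N9423 F134655) (tt N13582 (iv F206890)) (tt N9420 (iv D31901)) (tt N11409 F134656))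
theorem Q11411 : ∀ i, i < 11411 → P i := stepQ 11410 Q11410 (allL N11410 (tt N9421 (iv D31902)) (tt N12122 F206359) (tt N9434 F134657) (tt N12112 F206360) (tt N13113 (iv F188289)) (tt N11410 F134658) (tt N12088 (iv F206358)) (tt N9482 F134659) (tt N11410 F134660) (tt N13585 D46355))
theorem Q11412 : ∀ i, i < 11412 → P i := stepQ 11411 Q11411 (allL N11411 (tt N13585 (iv F206898)) (tt N9422 F134661) (tt N9435 F134662) (tt N13574 (iv F206854)) (tt N13114 (iv F188294)) (tt N11411 F134663) (tt N13583 (iv F206894)) (tt N9483 F134664) (tt N13586 D46356) (tt N9421 (iv D31903)))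
theorem Q11413 : ∀ i, i < 11413 → P i := stepQ 11412 Q11412 (allL N11412 (tt N13572 (iv F206844)) (tt N13586 (iv F206902)) (tt N9423 F134665) (tt N13587 D46357) (tt N13115 (iv F188297)) (tt N11412 F134666) (tt N13584 (iv F206896)) (tt N9484 F134667) (tt N9422 (iv D31904)) (tt N11412 F134668))
theorem Q11414 : ∀ i, i < 11414 → P i := stepQ 11413 Q11413 (allL N11413 (tt N11413 F134681) (tt N11826 F206333) (tt N9424 (iv D31907)) (tt N11413 F134682) (tt N12169 (iv F206332)) (tt N9429 F134683) (tt N11688 F206334) (tt N9426 F134684) (tt N11413 F134685) (tt N13588 D46358))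
theorem Q11415 : ∀ i, i < 11415 → P i := stepQ 11414 Q11414 (allL N11414 (tt N11414 F134686) (tt N11680 F206335) (tt N12169 (iv F206331)) (tt N11414 F134687) (tt N9424 (iv D31908)) (tt N13116 (iv F188314)) (tt N11689 F206336) (tt N9427 F134688) (tt N11414 F134689) (tt N13589 D46359))
theorem Q11416 : ∀ i, i < 11416 → P i := stepQ 11415 Q11415 (allL N11415 (tt N11415 F134690) (tt N11681 F206432) (tt N13588 (iv F206912)) (tt N9425 F134691) (tt N13589 (iv F206918)) (tt N9430 F134692) (tt N11690 (iv F206501)) (tt N9428 F134693) (tt N13590 D46360) (tt N9424 (iv D31909)))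
theorem Q11417 : ∀ i, i < 11417 → P i := stepQ 11416 Q11416 (allL N11416 (tt N12045 F206291) (tt N9426 (iv D31910)) (tt N11761 (iv F206290)) (tt N11416 F134694) (tt N12038 F206292) (tt N9431 F134695) (tt N11416 F134696) (tt N11826 F206293) (tt N11416 F134697) (tt N13591 D46361))
theorem Q11418 : ∀ i, i < 11418 → P i := stepQ 11417 Q11417 (allL N11417 (tt N11417 F134698) (tt N12038 (iv F206327)) (tt N9427 F134699) (tt N12036 F206329) (tt N9426 (iv D31911)) (tt N12052 (iv F206268)) (tt N11417 F134700) (tt N12169 F206330) (tt N11417 F134701) (tt N13592 D46362))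
theorem Q11419 : ∀ i, i < 11419 → P i := stepQ 11418 Q11418 (allL N11418 (tt N11418 F134702) (tt N13591 (iv F206925)) (tt N9428 F134703) (tt N11418 F134704) (tt N13592 (iv F206931)) (tt N9432 F134705) (tt N11418 F134706) (tt N13588 (iv F206915)) (tt N13593 D46363) (tt N9426 (iv D31912)))
theorem Q11420 : ∀ i, i < 11420 → P i := stepQ 11419 Q11419 (allL N11419 (tt N11419 F134707) (tt N13580 (iv F206878)) (tt N13592 (iv F206930)) (tt N11419 F134708) (tt N9428 F134709) (tt N13117 (iv F188333)) (tt N11419 F134710) (tt N13589 (iv F206919)) (tt N13594 D46364) (tt N9427 (iv D31913)))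
theorem Q11421 : ∀ i, i < 11421 → P i := stepQ 11420 Q11420 (allL N11420 (tt N11420 F134711) (tt N13581 (iv F206882)) (tt N13593 (iv F206934)) (tt N11420 F134712) (tt N13594 (iv F206939)) (tt N9433 F134713) (tt N11420 F134714) (tt N13590 (iv F206923)) (tt N9428 (iv D31914)) (tt N11420 F134715))
theorem Q11422 : ∀ i, i < 11422 → P i := stepQ 11421 Q11421 (allL N11421 (tt N12185 (iv F206283)) (tt N9429 (iv D31915)) (tt N11824 F206282) (tt N11421 F134716) (tt N13119 (iv F188337)) (tt N11826 (iv F206284)) (tt N9493 F134717) (tt N9431 F134718) (tt N11421 F134719) (tt N13595 D46365))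
theorem Q11423 : ∀ i, i < 11423 → P i := stepQ 11422 Q11422 (allL N11422 (tt N11422 F134720) (tt N13595 (iv F206942)) (tt N9430 F134721) (tt N11422 F134722) (tt N13120 (iv F188343)) (tt N13588 (iv F206914)) (tt N9494 F134723) (tt N9432 F134724) (tt N13596 D46366) (tt N9429 (iv D31916)))
theorem Q11424 : ∀ i, i < 11424 → P i := stepQ 11423 Q11423 (allL N11423 (tt N11423 F134725) (tt N13582 (iv F206887)) (tt N13596 (iv F206947)) (tt N11423 F134726) (tt N12382 (iv F206504)) (tt N13590 (iv F206922)) (tt N9495 F134727) (tt N9433 F134728) (tt N9430 (iv D31917)) (tt N11423 F134729))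
theorem Q11425 : ∀ i, i < 11425 → P i := stepQ 11424 Q11424 (allL N11424 (tt N9431 (iv D31918)) (tt N11424 F134730) (tt N12088 F206344) (tt N11424 F134731) (tt N13121 (iv F188352)) (tt N12045 (iv F206343)) (tt N9434 F134732) (tt N12185 F206345) (tt N11424 F134733) (tt N13597 D46367))
theorem Q11426 : ∀ i, i < 11426 → P i := stepQ 11425 Q11425 (allL N11425 (tt N13597 (iv F206951)) (tt N9432 F134734) (tt N13583 (iv F206893)) (tt N11425 F134735) (tt N13122 (iv F188356)) (tt N13591 (iv F206927)) (tt N9435 F134736) (tt N13595 (iv F206945)) (tt N13598 D46368) (tt N9431 (iv D31919)))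
theorem Q11427 : ∀ i, i < 11427 → P i := stepQ 11426 Q11426 (allL N11426 (tt N11426 F134737) (tt N13598 (iv F206955)) (tt N9433 F134738) (tt N13599 D46369) (tt N13123 (iv F188360)) (tt N13593 (iv F206935)) (tt N9436 F134739) (tt N13596 (iv F206949)) (tt N9432 (iv D31920)) (tt N11426 F134740))
theorem Q11428 : ∀ i, i < 11428 → P i := stepQ 11427 Q11427 (allL N11427 (tt N9435 F134741) (tt N11427 F134742) (tt N13585 (iv F206899)) (tt N11427 F134743) (tt N13124 (iv F188365)) (tt N11427 F134744) (tt N13597 (iv F206954)) (tt N9499 F134745) (tt N13600 D46370) (tt N9434 (iv D31921)))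
theorem Q11429 : ∀ i, i < 11429 → P i := stepQ 11428 Q11428 (allL N11428 (tt N13600 (iv F206963)) (tt N9436 F134746) (tt N13586 (iv F206903)) (tt N13601 D46371) (tt N13125 (iv F188368)) (tt N11428 F134747) (tt N13598 (iv F206956)) (tt N9500 F134748) (tt N9435 (iv D31922)) (tt N11428 F134749))
theorem Q11430 : ∀ i, i < 11430 → P i := stepQ 11429 Q11429 (allL N11429 (tt N11429 F134750) (tt N13601 (iv F206968)) (tt N11429 F134751) (tt N9436 (iv D31923)) (tt N13602 D46372) (tt N11429 F134752) (tt N13599 (iv F206960)) (tt N9501 F134753) (tt N11429 F134754) (tt N11429 F134755))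
theorem Q11431 : ∀ i, i < 11431 → P i := stepQ 11430 Q11430 (allL N11430 (tt N9460 F134972) (tt N12148 F206469) (tt N9439 F134973) (tt N9448 F134974) (tt N12788 (iv F206809)) (tt N11430 F134975) (tt N11857 F206470) (tt N11778 (iv F206468)) (tt N13603 D46373) (tt N9438 (iv D31975)))
theorem Q11432 : ∀ i, i < 11432 → P i := stepQ 11431 Q11431 (allL N11431 (tt N9463 F134982) (tt N11757 (iv F206491)) (tt N13603 (iv F206979)) (tt N11431 F134983) (tt N12789 F206496) (tt N11431 F134984) (tt N11807 (iv F206492)) (tt N11753 F206490) (tt N9439 (iv D31978)) (tt N11752 (iv F206493)))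
theorem Q11433 : ∀ i, i < 11433 → P i := stepQ 11432 Q11432 (allL N11432 (tt N9475 F135048) (tt N11432 F135049) (tt N11994 F206636) (tt N9514 F135050) (tt N9441 (iv D31995)) (tt N13208 (iv F189032)) (tt N11432 F135051) (tt N11696 (iv F206638)) (tt N11432 F135052) (tt N13604 D46374))
theorem Q11434 : ∀ i, i < 11434 → P i := stepQ 11433 Q11433 (allL N11433 (tt N9476 F135053) (tt N11433 F135054) (tt N11995 (iv F206485)) (tt N9442 F135055) (tt N13604 (iv F206984)) (tt N9446 F135056) (tt N11433 F135057) (tt N11697 F206484) (tt N13605 D46375) (tt N9441 (iv D31996)))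
theorem Q11435 : ∀ i, i < 11435 → P i := stepQ 11434 Q11434 (allL N11434 (tt N9478 F135061) (tt N11434 F135062) (tt N11859 (iv F206475)) (tt N9444 F135063) (tt N13210 (iv F189045)) (tt N11697 (iv F206482)) (tt N11683 F206481) (tt N9446 F135064) (tt N13606 D46376) (tt N9443 (iv D31998)))
theorem Q11436 : ∀ i, i < 11436 → P i := stepQ 11435 Q11435 (allL N11435 (tt N9480 F135068) (tt N12344 F206472) (tt N9446 F135069) (tt N11857 (iv F206471)) (tt N13211 (iv F189053)) (tt N11995 F206473) (tt N9448 F135070) (tt N11859 F206474) (tt N13607 D46377) (tt N9445 (iv D32000)))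
theorem Q11437 : ∀ i, i < 11437 → P i := stepQ 11436 Q11436 (allL N11436 (tt N9481 F135071) (tt N11436 F135072) (tt N13607 (iv F206998)) (tt N11436 F135073) (tt N13212 (iv F189057)) (tt N13605 (iv F206989)) (tt N9449 F135074) (tt N13606 (iv F206995)) (tt N9446 (iv D32001)) (tt N11436 F135075))
theorem Q11438 : ∀ i, i < 11438 → P i := stepQ 11437 Q11437 (allL N11437 (tt N9447 (iv D32002)) (tt N9482 F135076) (tt N11437 F135077) (tt N12121 (iv F206391)) (tt N13213 (iv F189062)) (tt N11437 F135078) (tt N12302 F206392) (tt N12122 F206393) (tt N11437 F135079) (tt N13608 D46378))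
theorem Q11439 : ∀ i, i < 11439 → P i := stepQ 11438 Q11438 (allL N11438 (tt N13608 (iv F207001)) (tt N9448 F135080) (tt N11438 F135081) (tt N12148 F206487) (tt N13214 (iv F189066)) (tt N11438 F135082) (tt N12344 F206488) (tt N12150 (iv F206486)) (tt N13609 D46379) (tt N9447 (iv D32003)))
theorem Q11440 : ∀ i, i < 11440 → P i := stepQ 11439 Q11439 (allL N11439 (tt N9484 F135083) (tt N13609 (iv F207005)) (tt N9449 F135084) (tt N13610 D46380) (tt N13215 (iv F189069)) (tt N11439 F135085) (tt N13607 (iv F206999)) (tt N13572 (iv F206847)) (tt N9448 (iv D32004)) (tt N11439 F135086))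
theorem Q11441 : ∀ i, i < 11441 → P i := stepQ 11440 Q11440 (allL N11440 (tt N12111 (iv F206366)) (tt N9450 (iv D32014)) (tt N11440 F135126) (tt N11440 F135127) (tt N13611 D46381) (tt N11440 F135128) (tt N11822 F206367) (tt N11759 F206368) (tt N9458 F135129) (tt N13612 D46382))
theorem Q11442 : ∀ i, i < 11442 → P i := stepQ 11441 Q11441 (allL N11441 (tt N11774 (iv F206617)) (tt N13611 (iv F207013)) (tt N9451 F135130) (tt N13613 D46383) (tt N9450 (iv D32015)) (tt N13614 D46384) (tt N11830 (iv F206618)) (tt N11764 F206616) (tt N9459 F135131) (tt N13615 D46385))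
theorem Q11443 : ∀ i, i < 11443 → P i := stepQ 11442 Q11442 (allL N11442 (tt N11742 (iv F206622)) (tt N13612 (iv F207016)) (tt N9452 F135132) (tt N11442 F135133) (tt N13615 (iv F207028)) (tt N11442 F135134) (tt N9640 F205436) (tt N9627 F205437) (tt N13102 F205438) (tt N9450 (iv D32016)))
theorem Q11444 : ∀ i, i < 11444 → P i := stepQ 11443 Q11443 (allL N11443 (tt N11728 F206321) (tt N11443 F135135) (tt N13614 (iv F207024)) (tt N9705 F135136) (tt N11443 F135137) (tt N9451 (iv D32017)) (tt N13616 D46386) (tt N11769 (iv F206318)) (tt N9461 F135138) (tt N12732 F206342))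
theorem Q11445 : ∀ i, i < 11445 → P i := stepQ 11444 Q11444 (allL N11444 (tt N11748 F206515) (tt N11444 F135139) (tt N13615 (iv F207027)) (tt N9706 F135140) (tt N9452 F135141) (tt N12732 F206341) (tt N9711 F205439) (tt N9701 F205440) (tt N13579 (iv F206876)) (tt N9451 (iv D32018)))
theorem Q11446 : ∀ i, i < 11446 → P i := stepQ 11445 Q11445 (allL N11445 (tt N12287 F206372) (tt N9455 (iv D32029)) (tt N11445 F135178) (tt N9479 F135179) (tt N13617 D46387) (tt N11931 F206374) (tt N9458 F135180) (tt N11823 (iv F206371)) (tt N11822 F206375) (tt N13618 D46388))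
theorem Q11447 : ∀ i, i < 11447 → P i := stepQ 11446 Q11446 (allL N11446 (tt N11851 (iv F206620)) (tt N13617 (iv F207035)) (tt N9456 F135181) (tt N13236 (iv F189134)) (tt N9455 (iv D32030)) (tt N13619 D46389) (tt N9459 F135182) (tt N11831 (iv F206621)) (tt N11830 F206619) (tt N13620 D46390))
theorem Q11448 : ∀ i, i < 11448 → P i := stepQ 11447 Q11447 (allL N11447 (tt N11857 (iv F206451)) (tt N13618 (iv F207038)) (tt N9457 F135183) (tt N9480 F135184) (tt N13620 (iv F207044)) (tt N11952 F206450) (tt N9460 F135185) (tt N11834 (iv F206452)) (tt N13254 (iv F206453)) (tt N9455 (iv D32031)))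
theorem Q11449 : ∀ i, i < 11449 → P i := stepQ 11448 Q11448 (allL N11448 (tt N11867 (iv F206541)) (tt N11448 F135186) (tt N13619 (iv F207042)) (tt N9466 F135187) (tt N11962 (iv F206542)) (tt N9456 (iv D32032)) (tt N13621 D46391) (tt N11841 F206540) (tt N11840 (iv F206543)) (tt N13622 D46392))
theorem Q11450 : ∀ i, i < 11450 → P i := stepQ 11449 Q11449 (allL N11449 (tt N11870 (iv F206572)) (tt N11449 F135188) (tt N13620 (iv F207043)) (tt N9467 F135189) (tt N9457 F135190) (tt N13622 (iv F207051)) (tt N9462 F135191) (tt N11842 F206571) (tt N13623 D46393) (tt N9456 (iv D32033)))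
theorem Q11451 : ∀ i, i < 11451 → P i := stepQ 11450 Q11450 (allL N11450 (tt N11807 F206495) (tt N11450 F135192) (tt N13254 F206454) (tt N11450 F135193) (tt N13623 (iv F207053)) (tt N9553 F206455) (tt N9463 F135194) (tt N9471 F206456) (tt N9457 (iv D32034)) (tt N9470 F206457))
theorem Q11452 : ∀ i, i < 11452 → P i := stepQ 11451 Q11451 (allL N11451 (tt N9458 (iv D32035)) (tt N12121 F206363) (tt N11451 F135195) (tt N9482 F135196) (tt N13624 D46394) (tt N11451 F135197) (tt N12287 F206364) (tt N12112 (iv F206362)) (tt N12111 F206365) (tt N13625 D46395))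
theorem Q11453 : ∀ i, i < 11453 → P i := stepQ 11452 Q11452 (allL N11452 (tt N13624 (iv F207057)) (tt N9459 F135198) (tt N11452 F135199) (tt N13242 (iv F189146)) (tt N9458 (iv D32036)) (tt N13626 D46396) (tt N13617 (iv F207037)) (tt N13573 (iv F206851)) (tt N13611 (iv F207015)) (tt N13627 D46397))
theorem Q11454 : ∀ i, i < 11454 → P i := stepQ 11453 Q11453 (allL N11453 (tt N13625 (iv F207059)) (tt N9460 F135200) (tt N11453 F135201) (tt N9483 F135202) (tt N13627 (iv F207068)) (tt N11453 F135203) (tt N13618 (iv F207041)) (tt N13574 (iv F206856)) (tt N13628 D46398) (tt N9458 (iv D32037)))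
theorem Q11455 : ∀ i, i < 11455 → P i := stepQ 11454 Q11454 (allL N11454 (tt N11805 (iv F206817)) (tt N13626 (iv F207063)) (tt N9461 F135204) (tt N13244 (iv F189150)) (tt N11454 F135205) (tt N9459 (iv D32038)) (tt N13629 D46399) (tt N13575 (iv F206859)) (tt N13614 (iv F207026)) (tt N13630 D46400))
theorem Q11456 : ∀ i, i < 11456 → P i := stepQ 11455 Q11455 (allL N11455 (tt N12788 F206810) (tt N13627 (iv F207066)) (tt N9462 F135206) (tt N13245 (iv F189152)) (tt N9460 F135207) (tt N13630 (iv F207076)) (tt N13620 (iv F207045)) (tt N13576 (iv F206862)) (tt N13631 D46401) (tt N9459 (iv D32039)))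
theorem Q11457 : ∀ i, i < 11457 → P i := stepQ 11456 Q11456 (allL N11456 (tt N13603 (iv F206978)) (tt N13628 (iv F207069)) (tt N9463 F135208) (tt N13632 D46402) (tt N13631 (iv F207078)) (tt N11456 F135209) (tt N13254 F206458) (tt N13103 (iv F206459)) (tt N9460 (iv D32040)) (tt N13102 (iv F206460)))
theorem Q11458 : ∀ i, i < 11458 → P i := stepQ 11457 Q11457 (allL N11457 (tt N11803 (iv F206816)) (tt N11457 F135210) (tt N13629 (iv F207072)) (tt N9468 F135211) (tt N11457 F135212) (tt N13621 (iv F207048)) (tt N9461 (iv D32041)) (tt N13633 D46403) (tt N13616 (iv F207034)) (tt N13634 D46404))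
theorem Q11459 : ∀ i, i < 11459 → P i := stepQ 11458 Q11458 (allL N11458 (tt N11806 (iv F206815)) (tt N11458 F135213) (tt N13630 (iv F207074)) (tt N9469 F135214) (tt N11458 F135215) (tt N9462 F135216) (tt N13634 (iv F207088)) (tt N13577 (iv F206867)) (tt N13635 D46405) (tt N9461 (iv D32042)))
theorem Q11460 : ∀ i, i < 11460 → P i := stepQ 11459 Q11459 (allL N11459 (tt N12789 (iv F206497)) (tt N11459 F135217) (tt N13631 (iv F207077)) (tt N12811 F206498) (tt N9463 F135218) (tt N13635 (iv F207091)) (tt N13623 (iv F207054)) (tt N13578 (iv F206871)) (tt N9462 (iv D32043)) (tt N13579 (iv F206877)))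
theorem Q11461 : ∀ i, i < 11461 → P i := stepQ 11460 Q11460 (allL N11460 (tt N11868 (iv F206537)) (tt N11460 F135219) (tt N12812 (iv F202507)) (tt N11841 (iv F206538)) (tt N9547 F135220) (tt N9464 (iv D32044)) (tt N12806 F206536) (tt N9466 F135221) (tt N9709 F135222) (tt N13636 D46406))
theorem Q11462 : ∀ i, i < 11462 → P i := stepQ 11461 Q11461 (allL N11461 (tt N11872 (iv F206569)) (tt N11461 F135223) (tt N12814 (iv F202514)) (tt N11842 (iv F206570)) (tt N9465 F135224) (tt N13636 (iv F207094)) (tt N11843 F206568) (tt N9467 F135225) (tt N12809 F206575) (tt N9464 (iv D32045)))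
theorem Q11463 : ∀ i, i < 11463 → P i := stepQ 11462 Q11462 (allL N11462 (tt N11801 (iv F206738)) (tt N11462 F135231) (tt N13250 (iv F189170)) (tt N13621 (iv F207047)) (tt N9549 F135232) (tt N9468 F135233) (tt N9466 (iv D32047)) (tt N13637 D46407) (tt N9710 F135234) (tt N13638 D46408))
theorem Q11464 : ∀ i, i < 11464 → P i := stepQ 11463 Q11463 (allL N11463 (tt N12787 F206737) (tt N11463 F135235) (tt N13251 (iv F189174)) (tt N13622 (iv F207050)) (tt N9550 F135236) (tt N9467 F135237) (tt N13638 (iv F207103)) (tt N13636 (iv F207095)) (tt N12807 (iv F206734)) (tt N9466 (iv D32048)))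
theorem Q11465 : ∀ i, i < 11465 → P i := stepQ 11464 Q11464 (allL N11464 (tt N11802 (iv F206808)) (tt N11464 F135242) (tt N13252 (iv F189181)) (tt N13633 (iv F207083)) (tt N9470 F135243) (tt N13637 (iv F207098)) (tt N13579 (iv F206875)) (tt N9468 (iv D32050)) (tt N9711 F135244) (tt N13623 (iv F207056)))
theorem Q11466 : ∀ i, i < 11466 → P i := stepQ 11465 Q11465 (allL N11465 (tt N11804 F206807) (tt N11465 F135245) (tt N13253 (iv F189184)) (tt N13634 (iv F207086)) (tt N9471 F135246) (tt N13638 (iv F207102)) (tt N9469 F135247) (tt N13623 (iv F207055)) (tt N11842 (iv F206806)) (tt N9468 (iv D32051)))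
theorem Q11467 : ∀ i, i < 11467 → P i := stepQ 11466 Q11466 (allL N11466 (tt N11697 F206483) (tt N9487 F135287) (tt N11954 F206446) (tt N9473 F135288) (tt N13512 (iv F206499)) (tt N9478 F135289) (tt N11691 F206434) (tt N9476 F135290) (tt N13639 D46409) (tt N9472 (iv D32062)))
theorem Q11468 : ∀ i, i < 11468 → P i := stepQ 11467 Q11467 (allL N11467 (tt N12468 (iv F206352)) (tt N9474 (iv D32063)) (tt N9488 F135291) (tt N11931 (iv F206376)) (tt N13640 D46410) (tt N9479 F135292) (tt N11467 F135293) (tt N11932 F206377) (tt N11467 F135294) (tt N13641 D46411))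
theorem Q11469 : ∀ i, i < 11469 → P i := stepQ 11468 Q11468 (allL N11468 (tt N11994 (iv F206637)) (tt N13640 (iv F207109)) (tt N9475 F135295) (tt N13642 D46412) (tt N9474 (iv D32064)) (tt N13261 (iv F189226)) (tt N11468 F135296) (tt N11953 F206642) (tt N11468 F135297) (tt N13643 D46413))
theorem Q11470 : ∀ i, i < 11470 → P i := stepQ 11469 Q11469 (allL N11469 (tt N11995 (iv F206448)) (tt N13641 (iv F207113)) (tt N9476 F135298) (tt N11952 (iv F206449)) (tt N13643 (iv F207120)) (tt N9480 F135299) (tt N11469 F135300) (tt N11954 F206447) (tt N13644 D46414) (tt N9474 (iv D32065)))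
theorem Q11471 : ∀ i, i < 11471 → P i := stepQ 11470 Q11470 (allL N11470 (tt N13604 (iv F206981)) (tt N9491 F135301) (tt N13643 (iv F207119)) (tt N9560 F135302) (tt N9476 F135303) (tt N13263 (iv F189233)) (tt N11470 F135304) (tt N13512 F206500) (tt N13645 D46415) (tt N9475 (iv D32066)))
theorem Q11472 : ∀ i, i < 11472 → P i := stepQ 11471 Q11471 (allL N11471 (tt N13605 (iv F206986)) (tt N9492 F135305) (tt N13644 (iv F207122)) (tt N11471 F135306) (tt N13645 (iv F207127)) (tt N9481 F135307) (tt N11471 F135308) (tt N13639 (iv F207107)) (tt N9476 (iv D32067)) (tt N11471 F135309))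
theorem Q11473 : ∀ i, i < 11473 → P i := stepQ 11472 Q11472 (allL N11472 (tt N12251 (iv F206357)) (tt N9477 (iv D32068)) (tt N9493 F135310) (tt N11823 F206373) (tt N13265 (iv F189238)) (tt N11932 (iv F206379)) (tt N11824 (iv F206285)) (tt N9479 F135311) (tt N11472 F135312) (tt N13646 D46416))
theorem Q11474 : ∀ i, i < 11474 → P i := stepQ 11473 Q11473 (allL N11473 (tt N11859 (iv F206443)) (tt N13646 (iv F207130)) (tt N9478 F135313) (tt N11834 (iv F206444)) (tt N13266 (iv F189242)) (tt N11954 (iv F206445)) (tt N11836 F206442) (tt N9480 F135314) (tt N13647 D46417) (tt N9477 (iv D32069)))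
theorem Q11475 : ∀ i, i < 11475 → P i := stepQ 11474 Q11474 (allL N11474 (tt N13606 (iv F206992)) (tt N9495 F135315) (tt N13647 (iv F207133)) (tt N11474 F135316) (tt N13267 (iv F189245)) (tt N13639 (iv F207106)) (tt N13582 (iv F206889)) (tt N9481 F135317) (tt N9478 (iv D32070)) (tt N11474 F135318))
theorem Q11476 : ∀ i, i < 11476 → P i := stepQ 11475 Q11475 (allL N11475 (tt N9479 (iv D32071)) (tt N12302 F206354) (tt N9496 F135319) (tt N12287 F206355) (tt N13268 (iv F189249)) (tt N12468 (iv F206353)) (tt N9482 F135320) (tt N12251 F206356) (tt N11475 F135321) (tt N13648 D46418))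
theorem Q11477 : ∀ i, i < 11477 → P i := stepQ 11476 Q11476 (allL N11476 (tt N13648 (iv F207136)) (tt N9480 F135322) (tt N9497 F135323) (tt N13618 (iv F207040)) (tt N13269 (iv F189254)) (tt N13641 (iv F207115)) (tt N9483 F135324) (tt N13646 (iv F207132)) (tt N13649 D46419) (tt N9479 (iv D32072)))
theorem Q11478 : ∀ i, i < 11478 → P i := stepQ 11477 Q11477 (allL N11477 (tt N13607 (iv F206997)) (tt N13649 (iv F207139)) (tt N9481 F135325) (tt N13650 D46420) (tt N13270 (iv F189257)) (tt N13644 (iv F207123)) (tt N9484 F135326) (tt N13647 (iv F207134)) (tt N9480 (iv D32073)) (tt N11477 F135327))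
theorem Q11479 : ∀ i, i < 11479 → P i := stepQ 11478 Q11478 (allL N11478 (tt N9483 F135328) (tt N13608 (iv F207002)) (tt N9499 F135329) (tt N13625 (iv F207061)) (tt N13271 (iv F189262)) (tt N11478 F135330) (tt N13648 (iv F207138)) (tt N13585 (iv F206901)) (tt N13651 D46421) (tt N9482 (iv D32074)))
theorem Q11480 : ∀ i, i < 11480 → P i := stepQ 11479 Q11479 (allL N11479 (tt N13651 (iv F207146)) (tt N9484 F135331) (tt N9500 F135332) (tt N13652 D46422) (tt N13272 (iv F189265)) (tt N11479 F135333) (tt N13649 (iv F207141)) (tt N13586 (iv F206905)) (tt N9483 (iv D32075)) (tt N11479 F135334))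
theorem Q11481 : ∀ i, i < 11481 → P i := stepQ 11480 Q11480 (allL N11480 (tt N13610 (iv F207009)) (tt N13652 (iv F207150)) (tt N11480 F135335) (tt N9484 (iv D32076)) (tt N13653 D46423) (tt N11480 F135336) (tt N13650 (iv F207144)) (tt N13587 (iv F206909)) (tt N13632 (iv F207081)) (tt N11480 F135337))
theorem Q11482 : ∀ i, i < 11482 → P i := stepQ 11481 Q11481 (allL N11481 (tt N12402 (iv F206349)) (tt N9486 (iv D32080)) (tt N11932 (iv F206378)) (tt N11481 F135352) (tt N13528 (iv F206383)) (tt N9493 F135353) (tt N11934 F206380) (tt N9488 F135354) (tt N11481 F135355) (tt N13654 D46424))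
theorem Q11483 : ∀ i, i < 11483 → P i := stepQ 11482 Q11482 (allL N11482 (tt N11482 F135360) (tt N13654 (iv F207155)) (tt N9487 F135361) (tt N11482 F135362) (tt N13370 (iv F206657)) (tt N9494 F135363) (tt N13373 F206652) (tt N9490 F135364) (tt N13655 D46425) (tt N9486 (iv D32082)))
theorem Q11484 : ∀ i, i < 11484 → P i := stepQ 11483 Q11483 (allL N11483 (tt N11483 F135369) (tt N13639 (iv F207104)) (tt N13655 (iv F207160)) (tt N11483 F135370) (tt N13043 (iv F206654)) (tt N9495 F135371) (tt N13046 F206653) (tt N9492 F135372) (tt N9487 (iv D32084)) (tt N11483 F135373))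
theorem Q11485 : ∀ i, i < 11485 → P i := stepQ 11484 Q11484 (allL N11484 (tt N9488 (iv D32085)) (tt N11484 F135374) (tt N12468 F206351) (tt N11484 F135375) (tt N13656 D46426) (tt N9496 F135376) (tt N11484 F135377) (tt N12402 (iv F206350)) (tt N11484 F135378) (tt N13657 D46427))
theorem Q11486 : ∀ i, i < 11486 → P i := stepQ 11485 Q11485 (allL N11485 (tt N13656 (iv F207164)) (tt N9489 F135379) (tt N13640 (iv F207110)) (tt N13526 (iv F206385)) (tt N9488 (iv D32086)) (tt N13281 (iv F189303)) (tt N11485 F135380) (tt N13528 F206384) (tt N11485 F135381) (tt N13658 D46428))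
theorem Q11487 : ∀ i, i < 11487 → P i := stepQ 11486 Q11486 (allL N11486 (tt N13657 (iv F207168)) (tt N9490 F135382) (tt N13641 (iv F207114)) (tt N11486 F135383) (tt N13658 (iv F207174)) (tt N9497 F135384) (tt N11486 F135385) (tt N13654 (iv F207158)) (tt N13659 D46429) (tt N9488 (iv D32087)))
theorem Q11488 : ∀ i, i < 11488 → P i := stepQ 11487 Q11487 (allL N11487 (tt N11487 F135390) (tt N13658 (iv F207173)) (tt N9491 F135391) (tt N13367 (iv F206659)) (tt N9490 F135392) (tt N13284 (iv F189313)) (tt N11487 F135393) (tt N13370 F206658) (tt N13660 D46430) (tt N9489 (iv D32089)))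
theorem Q11489 : ∀ i, i < 11489 → P i := stepQ 11488 Q11488 (allL N11488 (tt N11488 F135394) (tt N13659 (iv F207176)) (tt N9492 F135395) (tt N13661 D46431) (tt N13660 (iv F207182)) (tt N9498 F135396) (tt N11488 F135397) (tt N13655 (iv F207162)) (tt N9490 (iv D32090)) (tt N11488 F135398))
theorem Q11490 : ∀ i, i < 11490 → P i := stepQ 11489 Q11489 (allL N11489 (tt N11489 F135399) (tt N13645 (iv F207126)) (tt N13660 (iv F207181)) (tt N13040 (iv F206656)) (tt N9492 F135400) (tt N13286 (iv F189320)) (tt N11489 F135401) (tt N13043 F206655) (tt N9491 (iv D32091)) (tt N11489 F135402))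
theorem Q11491 : ∀ i, i < 11491 → P i := stepQ 11490 Q11490 (allL N11490 (tt N9493 (iv D32092)) (tt N11490 F135403) (tt N12251 F206347) (tt N11490 F135404) (tt N13287 (iv F189323)) (tt N12402 F206348) (tt N12185 (iv F206346)) (tt N9496 F135405) (tt N11490 F135406) (tt N13662 D46432))
theorem Q11492 : ∀ i, i < 11492 → P i := stepQ 11491 Q11491 (allL N11491 (tt N13662 (iv F207191)) (tt N9494 F135407) (tt N13646 (iv F207131)) (tt N11491 F135408) (tt N13288 (iv F189327)) (tt N13654 (iv F207157)) (tt N13595 (iv F206944)) (tt N9497 F135409) (tt N13663 D46433) (tt N9493 (iv D32093)))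
theorem Q11493 : ∀ i, i < 11493 → P i := stepQ 11492 Q11492 (allL N11492 (tt N11492 F135410) (tt N13663 (iv F207195)) (tt N9495 F135411) (tt N13664 D46434) (tt N13289 (iv F189331)) (tt N13655 (iv F207161)) (tt N13596 (iv F206948)) (tt N9498 F135412) (tt N9494 (iv D32094)) (tt N11492 F135413))
theorem Q11494 : ∀ i, i < 11494 → P i := stepQ 11493 Q11493 (allL N11493 (tt N9497 F135414) (tt N11493 F135415) (tt N13648 (iv F207137)) (tt N11493 F135416) (tt N13290 (iv F189336)) (tt N13657 (iv F207171)) (tt N9499 F135417) (tt N13662 (iv F207194)) (tt N13665 D46435) (tt N9496 (iv D32095)))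
theorem Q11495 : ∀ i, i < 11495 → P i := stepQ 11494 Q11494 (allL N11494 (tt N13665 (iv F207203)) (tt N9498 F135418) (tt N13649 (iv F207140)) (tt N13666 D46436) (tt N13291 (iv F189339)) (tt N13659 (iv F207177)) (tt N9500 F135419) (tt N13663 (iv F207196)) (tt N9497 (iv D32096)) (tt N11494 F135420))
theorem Q11496 : ∀ i, i < 11496 → P i := stepQ 11495 Q11495 (allL N11495 (tt N11495 F135421) (tt N13666 (iv F207207)) (tt N11495 F135422) (tt N9498 (iv D32097)) (tt N13667 D46437) (tt N13661 (iv F207187)) (tt N9501 F135423) (tt N13664 (iv F207200)) (tt N11495 F135424) (tt N11495 F135425))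
theorem Q11497 : ∀ i, i < 11497 → P i := stepQ 11496 Q11496 (allL N11496 (tt N9500 F135426) (tt N11496 F135427) (tt N13651 (iv F207147)) (tt N13668 D46438) (tt N13293 (iv F189347)) (tt N11496 F135428) (tt N13665 (iv F207205)) (tt N13600 (iv F206966)) (tt N9499 (iv D32098)) (tt N11496 F135429))
theorem Q11498 : ∀ i, i < 11498 → P i := stepQ 11497 Q11497 (allL N11497 (tt N13668 (iv F207216)) (tt N9501 F135430) (tt N13669 D46439) (tt N9500 (iv D32099)) (tt N13670 D46440) (tt N11497 F135431) (tt N13666 (iv F207208)) (tt N13601 (iv F206970)) (tt N11497 F135432) (tt N11497 F135433))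
theorem Q11499 : ∀ i, i < 11499 → P i := stepQ 11498 Q11498 (allL N11498 (tt N11498 F135434) (tt N13670 (iv F207225)) (tt N11498 F135435) (tt N13295 (iv F189352)) (tt N9501 (iv D32100)) (tt N13671 D46441) (tt N13667 (iv F207213)) (tt N13602 (iv F206975)) (tt N11498 F135436) (tt N11498 F135437))
theorem Q11500 : ∀ i, i < 11500 → P i := stepQ 11499 Q11499 (allL N11499 (tt N9526 F135648) (tt N13672 D46442) (tt N9502 (iv D32145)) (tt N9513 F135649) (tt N12011 F206643) (tt N9506 F135650) (tt N11499 F135651) (tt N11704 (iv F206645)) (tt N11499 F135652) (tt N13673 D46443))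
theorem Q11501 : ∀ i, i < 11501 → P i := stepQ 11500 Q11500 (allL N11500 (tt N9528 F135656) (tt N11712 (iv F206628)) (tt N13673 (iv F207238)) (tt N9503 F135657) (tt N12012 (iv F206629)) (tt N9507 F135658) (tt N11500 F135659) (tt N11705 F206627) (tt N13674 D46444) (tt N9502 (iv D32147)))
theorem Q11502 : ∀ i, i < 11502 → P i := stepQ 11501 Q11501 (allL N11501 (tt N9529 F135660) (tt N13675 D46445) (tt N9504 (iv D32148)) (tt N9516 F135661) (tt N12891 (iv F206730)) (tt N11704 F206648) (tt N11501 F135662) (tt N9506 F135663) (tt N11501 F135664) (tt N13676 D46446))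
theorem Q11503 : ∀ i, i < 11503 → P i := stepQ 11502 Q11502 (allL N11502 (tt N9531 F135670) (tt N11710 F206623) (tt N13676 (iv F207252)) (tt N9505 F135671) (tt N12892 (iv F206624)) (tt N11705 (iv F206625)) (tt N11502 F135672) (tt N9507 F135673) (tt N13677 D46447) (tt N9504 (iv D32150)))
theorem Q11504 : ∀ i, i < 11504 → P i := stepQ 11503 Q11503 (allL N11503 (tt N13678 D46448) (tt N9506 (iv D32151)) (tt N12864 F206689) (tt N9518 F135674) (tt N12893 (iv F206686)) (tt N13672 (iv F207234)) (tt N9508 F135675) (tt N13675 (iv F207249)) (tt N11503 F135676) (tt N13679 D46449))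
theorem Q11505 : ∀ i, i < 11505 → P i := stepQ 11504 Q11504 (allL N11504 (tt N9534 F135681) (tt N13679 (iv F207265)) (tt N9507 F135682) (tt N9519 F135683) (tt N12894 (iv F206698)) (tt N13673 (iv F207240)) (tt N9509 F135684) (tt N13676 (iv F207255)) (tt N13680 D46450) (tt N9506 (iv D32153)))
theorem Q11506 : ∀ i, i < 11506 → P i := stepQ 11505 Q11505 (allL N11505 (tt N9537 F135692) (tt N12866 F206695) (tt N13680 (iv F207269)) (tt N11505 F135693) (tt N12895 (iv F206693)) (tt N13674 (iv F207244)) (tt N9510 F135694) (tt N13677 (iv F207259)) (tt N9507 (iv D32156)) (tt N11505 F135695))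
theorem Q11507 : ∀ i, i < 11507 → P i := stepQ 11506 Q11506 (allL N11506 (tt N9508 (iv D32157)) (tt N9538 F135696) (tt N12867 F206691) (tt N9521 F135697) (tt N12896 (iv F206685)) (tt N11506 F135698) (tt N13678 (iv F207263)) (tt N11506 F135699) (tt N11506 F135700) (tt N13681 D46451))
theorem Q11508 : ∀ i, i < 11508 → P i := stepQ 11507 Q11507 (allL N11507 (tt N13681 (iv F207272)) (tt N9509 F135704) (tt N12868 F206688) (tt N9522 F135705) (tt N12897 (iv F206687)) (tt N11507 F135706) (tt N13679 (iv F207267)) (tt N11507 F135707) (tt N13682 D46452) (tt N9508 (iv D32159)))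
theorem Q11509 : ∀ i, i < 11509 → P i := stepQ 11508 Q11508 (allL N11508 (tt N9543 F135717) (tt N13682 (iv F207277)) (tt N9510 F135718) (tt N13683 D46453) (tt N12898 (iv F206692)) (tt N11508 F135719) (tt N13680 (iv F207270)) (tt N11508 F135720) (tt N9509 (iv D32162)) (tt N11508 F135721))
theorem Q11510 : ∀ i, i < 11510 → P i := stepQ 11509 Q11509 (allL N11509 (tt N9555 F135801) (tt N13684 D46454) (tt N9511 (iv D32182)) (tt N11704 F206647) (tt N13568 F204884) (tt N9516 F135802) (tt N9589 F204885) (tt N9513 F135803) (tt N9575 F135804) (tt N13685 D46455))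
theorem Q11511 : ∀ i, i < 11511 → P i := stepQ 11510 Q11510 (allL N11510 (tt N9556 F135809) (tt N11510 F135810) (tt N13685 (iv F207294)) (tt N9512 F135811) (tt N13511 F204902) (tt N9517 F135812) (tt N9574 F204903) (tt N9515 F135813) (tt N9573 F204904) (tt N9511 (iv D32184)))
theorem Q11512 : ∀ i, i < 11512 → P i := stepQ 11511 Q11511 (allL N11511 (tt N13686 D46456) (tt N9513 (iv D32185)) (tt N11511 F135814) (tt N13672 (iv F207233)) (tt N13687 D46457) (tt N9518 F135815) (tt N11511 F135816) (tt N13684 (iv F207291)) (tt N9576 F135817) (tt N13688 D46458))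
theorem Q11513 : ∀ i, i < 11513 → P i := stepQ 11512 Q11512 (allL N11512 (tt N9558 F135818) (tt N13687 (iv F207305)) (tt N9514 F135819) (tt N13689 D46459) (tt N9513 (iv D32186)) (tt N13407 (iv F190421)) (tt N11512 F135820) (tt N13568 (iv F206665)) (tt N9577 F135821) (tt N13690 D46460))
theorem Q11514 : ∀ i, i < 11514 → P i := stepQ 11513 Q11513 (allL N11513 (tt N9559 F135822) (tt N13688 (iv F207309)) (tt N9515 F135823) (tt N13673 (iv F207239)) (tt N13690 (iv F207317)) (tt N9519 F135824) (tt N11513 F135825) (tt N13685 (iv F207297)) (tt N13691 D46461) (tt N9513 (iv D32187)))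
theorem Q11515 : ∀ i, i < 11515 → P i := stepQ 11514 Q11514 (allL N11514 (tt N9560 F135826) (tt N11514 F135827) (tt N13690 (iv F207316)) (tt N13604 (iv F206983)) (tt N9515 F135828) (tt N13409 (iv F190429)) (tt N11514 F135829) (tt N13511 (iv F206660)) (tt N13510 F206661) (tt N9514 (iv D32188)))
theorem Q11516 : ∀ i, i < 11516 → P i := stepQ 11515 Q11515 (allL N11515 (tt N9561 F135830) (tt N11515 F135831) (tt N13691 (iv F207320)) (tt N11515 F135832) (tt N13510 F204782) (tt N9520 F135833) (tt N11515 F135834) (tt N9573 F204783) (tt N9515 (iv D32189)) (tt N9572 F204784))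
theorem Q11517 : ∀ i, i < 11517 → P i := stepQ 11516 Q11516 (allL N11516 (tt N13692 D46462) (tt N9516 (iv D32190)) (tt N11516 F135836) (tt N13675 (iv F207247)) (tt N13410 (iv F190435)) (tt N13684 (iv F207289)) (tt N11516 F135837) (tt N9518 F135838) (tt N9579 F135839) (tt N13693 D46463))
theorem Q11518 : ∀ i, i < 11518 → P i := stepQ 11517 Q11517 (allL N11517 (tt N9563 F135840) (tt N13693 (iv F207331)) (tt N9517 F135841) (tt N13676 (iv F207253)) (tt N13411 (iv F190441)) (tt N13685 (iv F207295)) (tt N11517 F135842) (tt N9519 F135843) (tt N13694 D46464) (tt N9516 (iv D32191)))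
theorem Q11519 : ∀ i, i < 11519 → P i := stepQ 11518 Q11518 (allL N11518 (tt N9564 F135844) (tt N11518 F135845) (tt N13694 (iv F207336)) (tt N11518 F135846) (tt N12684 (iv F204401)) (tt N9573 F204899) (tt N11518 F135847) (tt N9520 F135848) (tt N9517 (iv D32192)) (tt N9571 F204900))
theorem Q11520 : ∀ i, i < 11520 → P i := stepQ 11519 Q11519 (allL N11519 (tt N9518 (iv D32193)) (tt N9565 F135850) (tt N11519 F135851) (tt N13678 (iv F207262)) (tt N13412 (iv F190452)) (tt N13686 (iv F207301)) (tt N9521 F135852) (tt N13692 (iv F207329)) (tt N9581 F135853) (tt N13695 D46465))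
theorem Q11521 : ∀ i, i < 11521 → P i := stepQ 11520 Q11520 (allL N11520 (tt N13695 (iv F207341)) (tt N9519 F135854) (tt N11520 F135855) (tt N13679 (iv F207266)) (tt N13413 (iv F190457)) (tt N13688 (iv F207311)) (tt N9522 F135856) (tt N13693 (iv F207334)) (tt N13696 D46466) (tt N9518 (iv D32194)))
theorem Q11522 : ∀ i, i < 11522 → P i := stepQ 11521 Q11521 (allL N11521 (tt N9567 F135857) (tt N13696 (iv F207345)) (tt N9520 F135858) (tt N13697 D46467) (tt N12686 (iv F204395)) (tt N13691 (iv F207321)) (tt N9523 F135859) (tt N13694 (iv F207339)) (tt N9519 (iv D32195)) (tt N9583 F135860))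
theorem Q11523 : ∀ i, i < 11523 → P i := stepQ 11522 Q11522 (allL N11522 (tt N9522 F135861) (tt N9568 F135862) (tt N11522 F135863) (tt N13681 (iv F207274)) (tt N13414 (iv F190467)) (tt N11522 F135864) (tt N13695 (iv F207344)) (tt N11522 F135865) (tt N13698 D46468) (tt N9521 (iv D32196)))
theorem Q11524 : ∀ i, i < 11524 → P i := stepQ 11523 Q11523 (allL N11523 (tt N13698 (iv F207353)) (tt N9523 F135866) (tt N11523 F135867) (tt N13699 D46469) (tt N12688 (iv F204465)) (tt N11523 F135868) (tt N13696 (iv F207347)) (tt N11523 F135869) (tt N9522 (iv D32197)) (tt N9585 F135870))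
theorem Q11525 : ∀ i, i < 11525 → P i := stepQ 11524 Q11524 (allL N11524 (tt N9570 F135871) (tt N13699 (iv F207359)) (tt N11524 F135872) (tt N9523 (iv D32198)) (tt N13700 D46470) (tt N11524 F135873) (tt N13697 (iv F207351)) (tt N11524 F135874) (tt N13683 (iv F207285)) (tt N9586 F135875))
theorem Q11526 : ∀ i, i < 11526 → P i := stepQ 11525 Q11525 (allL N11525 (tt N11704 F206646) (tt N9588 F204887) (tt N9524 (iv D32201)) (tt N9555 F135887) (tt N11966 (iv F206649)) (tt N9529 F135888) (tt N9590 F204888) (tt N9526 F135889) (tt N11525 F135890) (tt N13701 D46471))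
theorem Q11527 : ∀ i, i < 11527 → P i := stepQ 11526 Q11526 (allL N11526 (tt N11705 F206626) (tt N11526 F135894) (tt N13701 (iv F207368)) (tt N9525 F135895) (tt N11967 F206633) (tt N9531 F135896) (tt N11695 (iv F206634)) (tt N9528 F135897) (tt N13702 D46472) (tt N9524 (iv D32203)))
theorem Q11528 : ∀ i, i < 11528 → P i := stepQ 11527 Q11527 (allL N11527 (tt N13703 D46473) (tt N9526 (iv D32204)) (tt N11527 F135898) (tt N9557 F135899) (tt N13704 D46474) (tt N9532 F135900) (tt N11527 F135901) (tt N9588 F204893) (tt N11527 F135902) (tt N13705 D46475))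
theorem Q11529 : ∀ i, i < 11529 → P i := stepQ 11528 Q11528 (allL N11528 (tt N12011 (iv F206644)) (tt N13704 (iv F207384)) (tt N9527 F135903) (tt N13706 D46476) (tt N9526 (iv D32205)) (tt N13707 D46477) (tt N11528 F135904) (tt N11966 F206651) (tt N11528 F135905) (tt N13708 D46478))
theorem Q11530 : ∀ i, i < 11530 → P i := stepQ 11529 Q11529 (allL N11529 (tt N13673 (iv F207237)) (tt N13705 (iv F207389)) (tt N9528 F135906) (tt N9559 F135907) (tt N13708 (iv F207401)) (tt N9534 F135908) (tt N11529 F135909) (tt N13701 (iv F207372)) (tt N13709 D46479) (tt N9526 (iv D32206)))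
theorem Q11531 : ∀ i, i < 11531 → P i := stepQ 11530 Q11530 (allL N11530 (tt N12006 (iv F206549)) (tt N11530 F135910) (tt N13707 (iv F207397)) (tt N11962 F206548) (tt N9535 F135911) (tt N9527 (iv D32207)) (tt N13710 D46480) (tt N11963 (iv F206550)) (tt N11530 F135912) (tt N13711 D46481))
theorem Q11532 : ∀ i, i < 11532 → P i := stepQ 11531 Q11531 (allL N11531 (tt N12012 F206630) (tt N11531 F135913) (tt N13708 (iv F207400)) (tt N11965 (iv F206631)) (tt N9528 F135914) (tt N13711 (iv F207413)) (tt N11531 F135915) (tt N11967 (iv F206632)) (tt N13712 D46482) (tt N9527 (iv D32208)))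
theorem Q11533 : ∀ i, i < 11533 → P i := stepQ 11532 Q11532 (allL N11532 (tt N13674 (iv F207242)) (tt N11532 F135916) (tt N13709 (iv F207403)) (tt N11532 F135917) (tt N13712 (iv F207415)) (tt N9537 F135918) (tt N11532 F135919) (tt N13702 (iv F207376)) (tt N9528 (iv D32209)) (tt N11532 F135920))
theorem Q11534 : ∀ i, i < 11534 → P i := stepQ 11533 Q11533 (allL N11533 (tt N13713 D46483) (tt N9529 (iv D32210)) (tt N11533 F135921) (tt N9562 F135922) (tt N13714 D46484) (tt N9588 F204772) (tt N11533 F135923) (tt N9532 F135924) (tt N11533 F135925) (tt N13715 D46485))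
theorem Q11535 : ∀ i, i < 11535 → P i := stepQ 11534 Q11534 (allL N11534 (tt N12891 F206731) (tt N13714 (iv F207424)) (tt N9530 F135926) (tt N13455 (iv F190584)) (tt N9529 (iv D32211)) (tt N13716 D46486) (tt N11534 F135927) (tt N9533 F135928) (tt N11534 F135929) (tt N13717 D46487))
theorem Q11536 : ∀ i, i < 11536 → P i := stepQ 11535 Q11535 (allL N11535 (tt N13676 (iv F207251)) (tt N13715 (iv F207429)) (tt N9531 F135930) (tt N9563 F135931) (tt N13717 (iv F207439)) (tt N13701 (iv F207370)) (tt N11535 F135932) (tt N9534 F135933) (tt N13718 D46488) (tt N9529 (iv D32212)))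
theorem Q11537 : ∀ i, i < 11537 → P i := stepQ 11536 Q11536 (allL N11536 (tt N12009 (iv F206551)) (tt N11536 F135934) (tt N13716 (iv F207435)) (tt N9547 F135935) (tt N11963 F206539) (tt N9530 (iv D32213)) (tt N12949 (iv F206552)) (tt N9535 F135936) (tt N11536 F135937) (tt N13719 D46489))
theorem Q11538 : ∀ i, i < 11538 → P i := stepQ 11537 Q11537 (allL N11537 (tt N12892 F206635) (tt N11537 F135938) (tt N13717 (iv F207438)) (tt N9548 F135939) (tt N9531 F135940) (tt N13719 (iv F207448)) (tt N11537 F135941) (tt N9536 F135942) (tt N13720 D46490) (tt N9530 (iv D32214)))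
theorem Q11539 : ∀ i, i < 11539 → P i := stepQ 11538 Q11538 (allL N11538 (tt N13677 (iv F207256)) (tt N11538 F135943) (tt N13718 (iv F207442)) (tt N11538 F135944) (tt N13720 (iv F207451)) (tt N13702 (iv F207375)) (tt N11538 F135945) (tt N9537 F135946) (tt N9531 (iv D32215)) (tt N11538 F135947))
theorem Q11540 : ∀ i, i < 11540 → P i := stepQ 11539 Q11539 (allL N11539 (tt N9532 (iv D32216)) (tt N13678 (iv F207261)) (tt N11539 F135948) (tt N9565 F135949) (tt N13721 D46491) (tt N13703 (iv F207380)) (tt N9538 F135950) (tt N13713 (iv F207422)) (tt N11539 F135951) (tt N13722 D46492))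
theorem Q11541 : ∀ i, i < 11541 → P i := stepQ 11540 Q11540 (allL N11540 (tt N13721 (iv F207455)) (tt N9533 F135952) (tt N11540 F135953) (tt N13461 (iv F190602)) (tt N9532 (iv D32217)) (tt N13723 D46493) (tt N9539 F135954) (tt N13714 (iv F207427)) (tt N11540 F135955) (tt N13724 D46494))
theorem Q11542 : ∀ i, i < 11542 → P i := stepQ 11541 Q11541 (allL N11541 (tt N13722 (iv F207459)) (tt N9534 F135956) (tt N11541 F135957) (tt N9566 F135958) (tt N13724 (iv F207468)) (tt N13705 (iv F207392)) (tt N9540 F135959) (tt N13715 (iv F207434)) (tt N13725 D46495) (tt N9532 (iv D32218)))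
theorem Q11543 : ∀ i, i < 11543 → P i := stepQ 11542 Q11542 (allL N11542 (tt N12889 (iv F206733)) (tt N13723 (iv F207463)) (tt N9535 F135960) (tt N13463 (iv F190608)) (tt N13707 (iv F207398)) (tt N9533 (iv D32219)) (tt N13726 D46496) (tt N13716 (iv F207436)) (tt N11542 F135961) (tt N13727 D46497))
theorem Q11544 : ∀ i, i < 11544 → P i := stepQ 11543 Q11543 (allL N11543 (tt N12894 F206699) (tt N13724 (iv F207466)) (tt N9536 F135962) (tt N13464 (iv F190610)) (tt N9534 F135963) (tt N13727 (iv F207478)) (tt N9542 F135964) (tt N13717 (iv F207441)) (tt N13728 D46498) (tt N9533 (iv D32220)))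
theorem Q11545 : ∀ i, i < 11545 → P i := stepQ 11544 Q11544 (allL N11544 (tt N13680 (iv F207268)) (tt N13725 (iv F207470)) (tt N9537 F135965) (tt N13729 D46499) (tt N13728 (iv F207480)) (tt N13709 (iv F207404)) (tt N9543 F135966) (tt N13718 (iv F207444)) (tt N9534 (iv D32221)) (tt N11544 F135967))
theorem Q11546 : ∀ i, i < 11546 → P i := stepQ 11545 Q11545 (allL N11545 (tt N11901 (iv F206711)) (tt N11545 F135968) (tt N13726 (iv F207474)) (tt N9549 F135969) (tt N13710 (iv F207408)) (tt N9544 F135970) (tt N9535 (iv D32222)) (tt N13730 D46500) (tt N11545 F135971) (tt N13731 D46501))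
theorem Q11547 : ∀ i, i < 11547 → P i := stepQ 11546 Q11546 (allL N11546 (tt N12890 (iv F206732)) (tt N11546 F135972) (tt N13727 (iv F207477)) (tt N9550 F135973) (tt N13711 (iv F207412)) (tt N9536 F135974) (tt N13731 (iv F207494)) (tt N13719 (iv F207449)) (tt N13732 D46502) (tt N9535 (iv D32223)))
theorem Q11548 : ∀ i, i < 11548 → P i := stepQ 11547 Q11547 (allL N11547 (tt N12895 F206694) (tt N11547 F135975) (tt N13728 (iv F207479)) (tt N12955 (iv F206696)) (tt N9537 F135976) (tt N13732 (iv F207496)) (tt N9546 F135977) (tt N13720 (iv F207453)) (tt N9536 (iv D32224)) (tt N11547 F135978))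
theorem Q11549 : ∀ i, i < 11549 → P i := stepQ 11548 Q11548 (allL N11548 (tt N9539 F135979) (tt N12896 F206690) (tt N11548 F135980) (tt N13469 (iv F190622)) (tt N9538 (iv D32225)) (tt N13733 D46503) (tt N13721 (iv F207457)) (tt N11548 F135981) (tt N11548 F135982) (tt N13734 D46504))
theorem Q11550 : ∀ i, i < 11550 → P i := stepQ 11549 Q11549 (allL N11549 (tt N9540 F135983) (tt N13681 (iv F207273)) (tt N11549 F135984) (tt N9568 F135985) (tt N13734 (iv F207505)) (tt N11549 F135986) (tt N13722 (iv F207462)) (tt N11549 F135987) (tt N13735 D46505) (tt N9538 (iv D32226)))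
theorem Q11551 : ∀ i, i < 11551 → P i := stepQ 11550 Q11550 (allL N11550 (tt N13733 (iv F207498)) (tt N9541 F135988) (tt N11550 F135989) (tt N13471 (iv F190628)) (tt N11550 F135990) (tt N9539 (iv D32227)) (tt N13736 D46506) (tt N11550 F135991) (tt N11550 F135992) (tt N13737 D46507))
theorem Q11552 : ∀ i, i < 11552 → P i := stepQ 11551 Q11551 (allL N11551 (tt N13734 (iv F207503)) (tt N9542 F135993) (tt N11551 F135994) (tt N13472 (iv F190631)) (tt N9540 F135995) (tt N13737 (iv F207519)) (tt N13724 (iv F207469)) (tt N11551 F135996) (tt N13738 D46508) (tt N9539 (iv D32228)))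
theorem Q11553 : ∀ i, i < 11553 → P i := stepQ 11552 Q11552 (allL N11552 (tt N13735 (iv F207507)) (tt N9543 F135997) (tt N11552 F135998) (tt N13739 D46509) (tt N13738 (iv F207523)) (tt N11552 F135999) (tt N13725 (iv F207472)) (tt N11552 F136000) (tt N9540 (iv D32229)) (tt N11552 F136001))
theorem Q11554 : ∀ i, i < 11554 → P i := stepQ 11553 Q11553 (allL N11553 (tt N11905 (iv F206710)) (tt N13736 (iv F207512)) (tt N9544 F136002) (tt N13474 (iv F190637)) (tt N11553 F136003) (tt N13726 (iv F207475)) (tt N9541 (iv D32230)) (tt N13740 D46510) (tt N11553 F136004) (tt N13741 D46511))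
theorem Q11555 : ∀ i, i < 11555 → P i := stepQ 11554 Q11554 (allL N11554 (tt N11908 (iv F206709)) (tt N13737 (iv F207516)) (tt N9545 F136005) (tt N13475 (iv F190639)) (tt N11554 F136006) (tt N9542 F136007) (tt N13741 (iv F207537)) (tt N11554 F136008) (tt N13742 D46512) (tt N9541 (iv D32231)))
theorem Q11556 : ∀ i, i < 11556 → P i := stepQ 11555 Q11555 (allL N11555 (tt N12898 F206697) (tt N13738 (iv F207521)) (tt N9546 F136009) (tt N13743 D46513) (tt N9543 F136010) (tt N13742 (iv F207540)) (tt N13728 (iv F207481)) (tt N11555 F136011) (tt N9542 (iv D32232)) (tt N11555 F136012))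
theorem Q11557 : ∀ i, i < 11557 → P i := stepQ 11556 Q11556 (allL N11556 (tt N13683 (iv F207281)) (tt N13739 (iv F207526)) (tt N11556 F136013) (tt N9543 (iv D32233)) (tt N13744 D46514) (tt N11556 F136014) (tt N13729 (iv F207484)) (tt N11556 F136015) (tt N9570 F136016) (tt N11556 F136017))
theorem Q11558 : ∀ i, i < 11558 → P i := stepQ 11557 Q11557 (allL N11557 (tt N11903 (iv F206705)) (tt N11557 F136018) (tt N13740 (iv F207531)) (tt N9551 F136019) (tt N11557 F136020) (tt N13730 (iv F207489)) (tt N11557 F136021) (tt N9544 (iv D32234)) (tt N11557 F136022) (tt N13745 D46515))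
theorem Q11559 : ∀ i, i < 11559 → P i := stepQ 11558 Q11558 (allL N11558 (tt N11906 (iv F206704)) (tt N11558 F136023) (tt N13741 (iv F207535)) (tt N9552 F136024) (tt N11558 F136025) (tt N13731 (iv F207493)) (tt N9545 F136026) (tt N13745 (iv F207553)) (tt N13746 D46516) (tt N9544 (iv D32235)))
theorem Q11560 : ∀ i, i < 11560 → P i := stepQ 11559 Q11559 (allL N11559 (tt N11909 F206708) (tt N11559 F136027) (tt N13742 (iv F207538)) (tt N11969 (iv F206707)) (tt N11559 F136028) (tt N9546 F136029) (tt N13746 (iv F207556)) (tt N11559 F136030) (tt N9545 (iv D32236)) (tt N11559 F136031))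
theorem Q11561 : ∀ i, i < 11561 → P i := stepQ 11560 Q11560 (allL N11560 (tt N12842 (iv F206554)) (tt N11560 F136037) (tt N13481 (iv F190655)) (tt N12949 F206553) (tt N12806 F206535) (tt N11560 F136038) (tt N9547 (iv D32238)) (tt N13747 D46517) (tt N9712 F136039) (tt N13748 D46518))
theorem Q11562 : ∀ i, i < 11562 → P i := stepQ 11561 Q11561 (allL N11561 (tt N12888 F206736) (tt N11561 F136040) (tt N13482 (iv F190658)) (tt N13719 (iv F207447)) (tt N13636 (iv F207093)) (tt N9548 F136041) (tt N13748 (iv F207564)) (tt N9550 F136042) (tt N12947 (iv F206735)) (tt N9547 (iv D32239)))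
theorem Q11563 : ∀ i, i < 11563 → P i := stepQ 11562 Q11562 (allL N11562 (tt N11900 (iv F206706)) (tt N11562 F136048) (tt N13483 (iv F190666)) (tt N13730 (iv F207488)) (tt N13637 (iv F207097)) (tt N9551 F136049) (tt N13747 (iv F207560)) (tt N9549 (iv D32241)) (tt N9713 F136050) (tt N13749 D46519))
theorem Q11564 : ∀ i, i < 11564 → P i := stepQ 11563 Q11563 (allL N11563 (tt N11902 F206703) (tt N11563 F136051) (tt N13484 (iv F190669)) (tt N13731 (iv F207492)) (tt N13638 (iv F207101)) (tt N9552 F136052) (tt N9550 F136053) (tt N13749 (iv F207567)) (tt N11964 (iv F206702)) (tt N9549 (iv D32242)))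
theorem Q11565 : ∀ i, i < 11565 → P i := stepQ 11564 Q11564 (allL N11564 (tt N11904 F206701) (tt N11564 F136061) (tt N13485 (iv F190677)) (tt N13745 (iv F207550)) (tt N9553 F136062) (tt N13749 (iv F207566)) (tt N11564 F136063) (tt N9552 F136064) (tt N11965 (iv F206700)) (tt N9551 (iv D32245)))
theorem Q11566 : ∀ i, i < 11566 → P i := stepQ 11565 Q11565 (allL N11565 (tt N13685 (iv F207293)) (tt N9567 F204889) (tt N9556 F136118) (tt N13701 (iv F207369)) (tt N13504 F204890) (tt N9563 F136119) (tt N9569 F204891) (tt N9559 F136120) (tt N9566 F204892) (tt N9555 (iv D32259)))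
theorem Q11567 : ∀ i, i < 11567 → P i := stepQ 11566 Q11566 (allL N11566 (tt N9557 (iv D32262)) (tt N13686 (iv F207299)) (tt N9571 F136129) (tt N13703 (iv F207379)) (tt N12683 F204876) (tt N9565 F136130) (tt N11566 F136131) (tt N9583 F204877) (tt N9580 F204878) (tt N13694 (iv F207340)))
theorem Q11568 : ∀ i, i < 11568 → P i := stepQ 11567 Q11567 (allL N11567 (tt N13694 (iv F207335)) (tt N9559 F136137) (tt N9564 F204894) (tt N13705 (iv F207391)) (tt N13502 F204895) (tt N9566 F136139) (tt N11567 F136140) (tt N9567 F204896) (tt N9563 F204897) (tt N9557 (iv D32264)))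
theorem Q11569 : ∀ i, i < 11569 → P i := stepQ 11568 Q11568 (allL N11568 (tt N13689 (iv F207313)) (tt N13567 F206673) (tt N13642 (iv F207117)) (tt N9558 (iv D32265)) (tt N13706 (iv F207395)) (tt N13496 (iv F190745)) (tt N11568 F136141) (tt N13569 (iv F206674)) (tt N13750 D46520) (tt N13751 D46521))
theorem Q11570 : ∀ i, i < 11570 → P i := stepQ 11569 Q11569 (allL N11569 (tt N13690 (iv F207315)) (tt N13502 (iv F206662)) (tt N9560 F136142) (tt N13751 (iv F207570)) (tt N9559 F136143) (tt N13497 (iv F190748)) (tt N11569 F136144) (tt N13504 F206663) (tt N13501 F206664) (tt N9558 (iv D32266)))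
theorem Q11571 : ∀ i, i < 11571 → P i := stepQ 11570 Q11570 (allL N11570 (tt N13691 (iv F207319)) (tt N9563 F204773) (tt N9561 F136145) (tt N13715 (iv F207431)) (tt N13501 F204774) (tt N9567 F136146) (tt N11570 F136147) (tt N9566 F204775) (tt N9559 (iv D32267)) (tt N9562 F204776))
theorem Q11572 : ∀ i, i < 11572 → P i := stepQ 11571 Q11571 (allL N11571 (tt N9562 (iv D32269)) (tt N13692 (iv F207325)) (tt N9572 F136153) (tt N13713 (iv F207419)) (tt N13500 (iv F190757)) (tt N9583 F204754) (tt N11571 F136154) (tt N9565 F136155) (tt N9578 F204755) (tt N13691 (iv F207324)))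
theorem Q11573 : ∀ i, i < 11573 → P i := stepQ 11572 Q11572 (allL N11572 (tt N9566 F136165) (tt N13695 (iv F207342)) (tt N9573 F136166) (tt N13722 (iv F207461)) (tt N13503 (iv F190773)) (tt N13694 (iv F207337)) (tt N9568 F136167) (tt N13691 (iv F207323)) (tt N13685 (iv F207298)) (tt N9565 (iv D32272)))
theorem Q11574 : ∀ i, i < 11574 → P i := stepQ 11573 Q11573 (allL N11573 (tt N13697 (iv F207349)) (tt N13701 (iv F207367)) (tt N11573 F136172) (tt N9567 (iv D32274)) (tt N13752 D46522) (tt N13715 (iv F207432)) (tt N9570 F136173) (tt N13705 (iv F207394)) (tt N13729 (iv F207485)) (tt N9588 F136174))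
theorem Q11575 : ∀ i, i < 11575 → P i := stepQ 11574 Q11574 (allL N11574 (tt N9569 F136175) (tt N13698 (iv F207354)) (tt N9574 F136176) (tt N11707 (iv F204553)) (tt N13506 (iv F190784)) (tt N11574 F136177) (tt N13685 (iv F207296)) (tt N11574 F136178) (tt N9568 (iv D32275)) (tt N9589 F136179))
theorem Q11576 : ∀ i, i < 11576 → P i := stepQ 11575 Q11575 (allL N11575 (tt N11707 F204554) (tt N9570 F136180) (tt N11695 (iv F204555)) (tt N9569 (iv D32276)) (tt N11968 (iv F204556)) (tt N11575 F136181) (tt N13701 (iv F207371)) (tt N11575 F136182) (tt N13739 (iv F207529)) (tt N9590 F136183))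
theorem Q11577 : ∀ i, i < 11577 → P i := stepQ 11576 Q11576 (allL N11576 (tt N13700 (iv F207363)) (tt N11968 F204557) (tt N11576 F136184) (tt N13508 (iv F190790)) (tt N9570 (iv D32277)) (tt N12957 (iv F204558)) (tt N13752 (iv F207573)) (tt N11576 F136185) (tt N13744 (iv F207547)) (tt N9591 F136186))
theorem Q11578 : ∀ i, i < 11578 → P i := stepQ 11577 Q11577 (allL N11577 (tt N9582 F204879) (tt N9575 (iv D32314)) (tt N11577 F136352) (tt N11577 F136353) (tt N12694 F204880) (tt N9579 F136354) (tt N9584 F204881) (tt N9576 F136355) (tt N13684 (iv F207292)) (tt N9581 F204882))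
theorem Q11579 : ∀ i, i < 11579 → P i := stepQ 11578 Q11578 (allL N11578 (tt N9576 (iv D32319)) (tt N9580 F204872) (tt N11578 F136375) (tt N11578 F136376) (tt N12693 F204873) (tt N9581 F136377) (tt N11578 F136378) (tt N9582 F204874) (tt N13686 (iv F207304)) (tt N9579 F204875))
theorem Q11580 : ∀ i, i < 11580 → P i := stepQ 11579 Q11579 (allL N11579 (tt N12693 F206667) (tt N9577 F136379) (tt N11579 F136380) (tt N12710 F206668) (tt N9576 (iv D32320)) (tt N13536 (iv F192201)) (tt N11579 F136381) (tt N12694 (iv F206666)) (tt N13687 (iv F207308)) (tt N13538 F206669))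
theorem Q11581 : ∀ i, i < 11581 → P i := stepQ 11580 Q11580 (allL N11580 (tt N9579 F204750) (tt N9578 F136382) (tt N11580 F136383) (tt N11580 F136384) (tt N13538 F204751) (tt N9582 F136385) (tt N11580 F136386) (tt N9581 F204752) (tt N13692 (iv F207330)) (tt N9576 (iv D32321)))
theorem Q11582 : ∀ i, i < 11582 → P i := stepQ 11581 Q11581 (allL N11581 (tt N9587 F136387) (tt N12710 (iv F206670)) (tt N11581 F136388) (tt N9577 (iv D32322)) (tt N11581 F136389) (tt N13537 (iv F192207)) (tt N11581 F136390) (tt N12672 F206671) (tt N13753 D46523) (tt N13564 (iv F206672)))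
theorem Q11583 : ∀ i, i < 11583 → P i := stepQ 11582 Q11582 (allL N11582 (tt N13684 (iv F207287)) (tt N9583 F136422) (tt N11582 F136423) (tt N13754 D46524) (tt N12685 (iv F204473)) (tt N13692 (iv F207327)) (tt N9585 F136424) (tt N13686 (iv F207303)) (tt N9582 (iv D32330)) (tt N13696 (iv F207348)))
theorem Q11584 : ∀ i, i < 11584 → P i := stepQ 11583 Q11583 (allL N11583 (tt N9588 F136425) (tt N13754 (iv F207579)) (tt N11583 F136426) (tt N9583 (iv D32331)) (tt N13755 D46525) (tt N13713 (iv F207420)) (tt N9586 F136427) (tt N13703 (iv F207382)) (tt N11583 F136428) (tt N13697 (iv F207352)))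
theorem Q11585 : ∀ i, i < 11585 → P i := stepQ 11584 Q11584 (allL N11584 (tt N9585 F136429) (tt N9589 F136430) (tt N11584 F136431) (tt N11706 F204552) (tt N12687 (iv F204476)) (tt N11584 F136432) (tt N13684 (iv F207290)) (tt N11584 F136433) (tt N9584 (iv D32332)) (tt N13698 (iv F207358)))
theorem Q11586 : ∀ i, i < 11586 → P i := stepQ 11585 Q11585 (allL N11585 (tt N11706 (iv F204548)) (tt N9586 F136434) (tt N11716 F204547) (tt N9585 (iv D32333)) (tt N12016 (iv F204549)) (tt N11585 F136435) (tt N13754 (iv F207580)) (tt N11585 F136436) (tt N11585 F136437) (tt N13699 (iv F207362)))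
theorem Q11587 : ∀ i, i < 11587 → P i := stepQ 11586 Q11586 (allL N11586 (tt N9591 F136438) (tt N12016 F204550) (tt N11586 F136439) (tt N12564 (iv F204216)) (tt N9586 (iv D32334)) (tt N12956 (iv F204551)) (tt N13755 (iv F207584)) (tt N11586 F136440) (tt N11586 F136441) (tt N13700 (iv F207366)))
theorem Q11588 : ∀ i, i < 11588 → P i := stepQ 11587 Q11587 (allL N11587 (tt N13753 (iv F207575)) (tt N12546 F206675) (tt N11587 F136512) (tt N13750 (iv F207568)) (tt N11587 F136513) (tt N13565 (iv F192494)) (tt N11587 F136514) (tt N12548 (iv F206676)) (tt N9587 (iv D32353)) (tt N13756 D46526))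
theorem Q11589 : ∀ i, i < 11589 → P i := stepQ 11588 Q11588 (allL N11588 (tt N13755 (iv F207582)) (tt N11966 F206650) (tt N11588 F136549) (tt N13570 (iv F192523)) (tt N9588 (iv D32363)) (tt N13757 D46527) (tt N9591 F136550) (tt N13704 (iv F207387)) (tt N11588 F136551) (tt N13752 (iv F207574)))
theorem Q11590 : ∀ i, i < 11590 → P i := stepQ 11589 Q11589 (allL N11589 (tt N11589 F137040) (tt N9592 (iv D32473)) (tt N11589 F137041) (tt N11589 F137042) (tt N11589 F137043) (tt N11589 F137044) (tt N11589 F137045) (tt N11589 F137046) (tt N11589 F137047) (tt N11589 F206518))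
theorem Q11591 : ∀ i, i < 11591 → P i := stepQ 11590 Q11590 (allL N11590 (tt N12058 F206836) (tt N9627 F140188) (tt N11590 F140189) (tt N11590 F140190) (tt N12135 F206326) (tt N11590 F140191) (tt N9593 (iv D33206)) (tt N13612 (iv F207021)) (tt N12766 (iv F185033)) (tt N11759 (iv F206835)))
theorem Q11592 : ∀ i, i < 11592 → P i := stepQ 11591 Q11591 (allL N11591 (tt N9636 F202262) (tt N9631 F140796) (tt N12755 (iv F206599)) (tt N9633 F202263) (tt N12779 (iv F185506)) (tt N11591 F140797) (tt N12800 F206598) (tt N12748 (iv F206601)) (tt N9596 F140798) (tt N9594 (iv D33362)))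
theorem Q11593 : ∀ i, i < 11593 → P i := stepQ 11592 Q11592 (allL N11592 (tt N9596 F141024) (tt N13063 (iv F206578)) (tt N11687 F206576) (tt N13076 (iv F206579)) (tt N11874 (iv F205574)) (tt N11592 F141025) (tt N12786 (iv F206580)) (tt N12743 (iv F206581)) (tt N9636 F202192) (tt N9595 (iv D33429)))
theorem Q11594 : ∀ i, i < 11594 → P i := stepQ 11593 Q11593 (allL N11593 (tt N12205 F206832) (tt N9639 F141224) (tt N11593 F141225) (tt N13087 (iv F206417)) (tt N9598 F141226) (tt N13216 F206418) (tt N9597 (iv D33488)) (tt N13758 D46528) (tt N12834 (iv F185917)) (tt N11820 (iv F206831)))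
theorem Q11595 : ∀ i, i < 11595 → P i := stepQ 11594 Q11594 (allL N11594 (tt N12207 F206830) (tt N9640 F141234) (tt N11594 F141235) (tt N11594 F141236) (tt N13758 (iv F207593)) (tt N9622 F141237) (tt N13612 (iv F207020)) (tt N9598 (iv D33491)) (tt N12836 (iv F185929)) (tt N11822 (iv F206829)))
theorem Q11596 : ∀ i, i < 11596 → P i := stepQ 11595 Q11595 (allL N11595 (tt N9612 F198302) (tt N9646 F142191) (tt N11595 F142192) (tt N9654 F202315) (tt N12922 F198303) (tt N9601 F142193) (tt N11595 F142194) (tt N9606 F198304) (tt N9599 (iv D33719)) (tt N13759 D46529))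
theorem Q11597 : ∀ i, i < 11597 → P i := stepQ 11596 Q11596 (allL N11596 (tt N9611 F197510) (tt N9647 F142195) (tt N11596 F142196) (tt N9655 F202293) (tt N12873 (iv F186658)) (tt N9606 F197511) (tt N11596 F142197) (tt N9601 F142198) (tt N9600 (iv D33720)) (tt N13760 D46530))
theorem Q11598 : ∀ i, i < 11598 → P i := stepQ 11597 Q11597 (allL N11597 (tt N9661 F203177) (tt N9649 F142202) (tt N11597 F142203) (tt N9656 F203178) (tt N12875 (iv F186666)) (tt N13759 (iv F207598)) (tt N9602 F142204) (tt N13760 (iv F207608)) (tt N9614 F142205) (tt N9601 (iv D33722)))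
theorem Q11599 : ∀ i, i < 11599 → P i := stepQ 11598 Q11598 (allL N11598 (tt N9648 F203165) (tt N9606 F142457) (tt N9675 F198338) (tt N9643 F203166) (tt N12912 (iv F186906)) (tt N9647 F198339) (tt N9605 F142458) (tt N9646 F198340) (tt N9604 (iv D33789)) (tt N13761 D46531))
theorem Q11600 : ∀ i, i < 11600 → P i := stepQ 11599 Q11599 (allL N11599 (tt N9651 F203294) (tt N9608 F142465) (tt N12394 (iv F206787)) (tt N9644 F203295) (tt N12913 (iv F186914)) (tt N11599 F142466) (tt N13761 (iv F207615)) (tt N11599 F142467) (tt N9617 F203296) (tt N9605 (iv D33791)))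
theorem Q11601 : ∀ i, i < 11601 → P i := stepQ 11600 Q11600 (allL N11600 (tt N9613 F142591) (tt N9643 F202549) (tt N9690 F202550) (tt N9606 (iv D33821)) (tt N12479 F202551) (tt N9655 F202552) (tt N9607 F142592) (tt N9654 F202553) (tt N9609 F142593) (tt N13762 D46532))
theorem Q11602 : ∀ i, i < 11602 → P i := stepQ 11601 Q11601 (allL N11601 (tt N9614 F142594) (tt N13761 (iv F207611)) (tt N11601 F142595) (tt N13762 (iv F207621)) (tt N12924 (iv F187048)) (tt N13760 (iv F207606)) (tt N9608 F142596) (tt N13759 (iv F207600)) (tt N9661 F203167) (tt N9606 (iv D33822)))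
theorem Q11603 : ∀ i, i < 11603 → P i := stepQ 11602 Q11602 (allL N11602 (tt N9617 F142605) (tt N9644 F202568) (tt N12412 (iv F206773)) (tt N9608 F142606) (tt N12481 F202569) (tt N11602 F142607) (tt N13762 (iv F207623)) (tt N11602 F142608) (tt N9651 F202567) (tt N9607 (iv D33825)))
theorem Q11604 : ∀ i, i < 11604 → P i := stepQ 11603 Q11603 (allL N11603 (tt N12873 (iv F206793)) (tt N9657 F142778) (tt N11603 F142779) (tt N13426 F203173) (tt N9611 F142780) (tt N12959 (iv F187228)) (tt N11603 F142781) (tt N9660 F203174) (tt N9610 (iv D33867)) (tt N13763 D46533))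
theorem Q11605 : ∀ i, i < 11605 → P i := stepQ 11604 Q11604 (allL N11604 (tt N13760 (iv F207602)) (tt N9658 F142795) (tt N11604 F142796) (tt N9659 F203175) (tt N13763 (iv F207628)) (tt N9614 F142797) (tt N11604 F142798) (tt N9661 F203176) (tt N13759 (iv F207601)) (tt N9611 (iv D33871)))
theorem Q11606 : ∀ i, i < 11606 → P i := stepQ 11605 Q11605 (allL N11605 (tt N13759 (iv F207594)) (tt N9659 F142803) (tt N11605 F142804) (tt N9658 F203171) (tt N12965 (iv F187249)) (tt N9661 F203172) (tt N11605 F142805) (tt N9614 F142806) (tt N13760 (iv F207609)) (tt N9612 (iv D33873)))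
theorem Q11607 : ∀ i, i < 11607 → P i := stepQ 11606 Q11606 (allL N11606 (tt N12479 F206795) (tt N9660 F142811) (tt N9693 F203211) (tt N12967 (iv F187256)) (tt N9613 (iv D33875)) (tt N13416 F203212) (tt N9616 F142812) (tt N9657 F203213) (tt N9618 F142813) (tt N13764 D46534))
theorem Q11608 : ∀ i, i < 11608 → P i := stepQ 11607 Q11607 (allL N11607 (tt N13762 (iv F207618)) (tt N9661 F142814) (tt N9696 F203214) (tt N9614 F142815) (tt N13764 (iv F207633)) (tt N9659 F203215) (tt N9617 F142816) (tt N9658 F203216) (tt N13761 (iv F207617)) (tt N9613 (iv D33876)))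
theorem Q11609 : ∀ i, i < 11609 → P i := stepQ 11608 Q11608 (allL N11608 (tt N12412 F206772) (tt N11608 F142821) (tt N9617 F142822) (tt N11608 F142823) (tt N12496 (iv F206774)) (tt N11608 F142824) (tt N9696 F203291) (tt N11608 F142825) (tt N12394 F206785) (tt N9615 (iv D33878)))
theorem Q11610 : ∀ i, i < 11610 → P i := stepQ 11609 Q11609 (allL N11609 (tt N12481 (iv F206777)) (tt N9663 F142830) (tt N12496 F206775) (tt N12973 (iv F187277)) (tt N9617 F142831) (tt N13353 (iv F206778)) (tt N13764 (iv F207634)) (tt N11609 F142832) (tt N12913 F206782) (tt N9616 (iv D33880)))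
theorem Q11611 : ∀ i, i < 11611 → P i := stepQ 11610 Q11610 (allL N11610 (tt N12413 (iv F206421)) (tt N9667 F142924) (tt N11610 F142925) (tt N13415 F206420) (tt N13216 (iv F206419)) (tt N9621 F142926) (tt N9620 (iv D33905)) (tt N13765 D46535) (tt N13001 (iv F187374)) (tt N11926 F206425))
theorem Q11612 : ∀ i, i < 11612 → P i := stepQ 11611 Q11611 (allL N11611 (tt N12414 (iv F206803)) (tt N9668 F142934) (tt N11611 F142935) (tt N13523 F206802) (tt N9622 F142936) (tt N13765 (iv F207638)) (tt N11611 F142937) (tt N9621 (iv D33908)) (tt N13003 (iv F187387)) (tt N11927 (iv F206798)))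
theorem Q11613 : ∀ i, i < 11613 → P i := stepQ 11612 Q11612 (allL N11612 (tt N13064 (iv F206590)) (tt N12748 F206592) (tt N11612 F143215) (tt N13051 F206589) (tt N13057 (iv F187755)) (tt N11612 F143216) (tt N12745 (iv F206591)) (tt N9631 F143217) (tt N9625 F143218) (tt N9623 (iv D33971)))
theorem Q11614 : ∀ i, i < 11614 → P i := stepQ 11613 Q11613 (allL N11613 (tt N9625 F143481) (tt N13051 F206588) (tt N11613 F143482) (tt N12748 F206602) (tt N13069 (iv F188012)) (tt N11613 F143483) (tt N12750 (iv F206603)) (tt N9633 F143484) (tt N13064 (iv F206604)) (tt N9624 (iv D34038)))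
theorem Q11615 : ∀ i, i < 11615 → P i := stepQ 11614 Q11614 (allL N11614 (tt N11740 F206834) (tt N12135 (iv F206323)) (tt N9701 F143702) (tt N11773 F206322) (tt N9627 F143703) (tt N11771 (iv F206324)) (tt N9626 (iv D34097)) (tt N13615 (iv F207030)) (tt N13100 (iv F188224)) (tt N11764 (iv F206833)))
theorem Q11616 : ∀ i, i < 11616 → P i := stepQ 11615 Q11615 (allL N11615 (tt N9631 F143948) (tt N13076 (iv F206584)) (tt N11615 F143949) (tt N13063 (iv F206606)) (tt N13130 (iv F188457)) (tt N11615 F143950) (tt N13169 (iv F206607)) (tt N13064 F206605) (tt N9633 F143951) (tt N9628 (iv D34160)))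
theorem Q11617 : ∀ i, i < 11617 → P i := stepQ 11616 Q11616 (allL N11616 (tt N13169 (iv F206594)) (tt N12800 (iv F206595)) (tt N11616 F144090) (tt N13138 (iv F206596)) (tt N13151 (iv F188593)) (tt N12920 (iv F206597)) (tt N9631 F144091) (tt N12794 F206593) (tt N9634 F144092) (tt N9629 (iv D34195)))
theorem Q11618 : ∀ i, i < 11618 → P i := stepQ 11617 Q11617 (allL N11617 (tt N13063 (iv F206583)) (tt N9633 F202198) (tt N13055 (iv F206585)) (tt N9631 F144097) (tt N13186 F202199) (tt N11617 F144098) (tt N13138 (iv F206586)) (tt N13051 (iv F206587)) (tt N13076 F206582) (tt N9630 (iv D34198)))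
theorem Q11619 : ∀ i, i < 11619 → P i := stepQ 11618 Q11618 (allL N11618 (tt N9634 F144421) (tt N13138 (iv F206609)) (tt N11618 F144422) (tt N12800 (iv F206600)) (tt N13190 (iv F188911)) (tt N12942 (iv F206610)) (tt N9633 F144423) (tt N12802 (iv F206611)) (tt N13169 F206608) (tt N9632 (iv D34296)))
theorem Q11620 : ∀ i, i < 11620 → P i := stepQ 11619 Q11619 (allL N11619 (tt N11788 (iv F206837)) (tt N13088 (iv F206520)) (tt N12738 F206519) (tt N13224 (iv F189106)) (tt N11619 F144626) (tt N9635 (iv D34354)) (tt N13766 D46536) (tt N12758 (iv F206521)) (tt N9637 F144627) (tt N12850 (iv F206522)))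
theorem Q11621 : ∀ i, i < 11621 → P i := stepQ 11620 Q11620 (allL N11620 (tt N12779 F206526) (tt N13091 F206527) (tt N11875 (iv F206524)) (tt N13225 (iv F189108)) (tt N9636 F144628) (tt N12850 F206523) (tt N12822 F206528) (tt N12760 F206529) (tt N11874 (iv F206525)) (tt N9635 (iv D34355)))
theorem Q11622 : ∀ i, i < 11622 → P i := stepQ 11621 Q11621 (allL N11621 (tt N11787 F206416) (tt N13087 F206413) (tt N12737 F206414) (tt N9639 F144683) (tt N11621 F144684) (tt N12817 (iv F206412)) (tt N9637 (iv D34378)) (tt N13767 D46537) (tt N13766 (iv F207640)) (tt N11828 (iv F206415)))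
theorem Q11623 : ∀ i, i < 11623 → P i := stepQ 11622 Q11622 (allL N11622 (tt N11789 F206819) (tt N13216 (iv F206409)) (tt N9710 F144698) (tt N12817 F206408) (tt N9667 F144699) (tt N9639 F144700) (tt N9638 (iv D34384)) (tt N13768 D46538) (tt N13250 (iv F189173)) (tt N11829 (iv F206818)))
theorem Q11624 : ∀ i, i < 11624 → P i := stepQ 11623 Q11623 (allL N11623 (tt N11790 F206812) (tt N13758 (iv F207591)) (tt N9711 F144707) (tt N13767 (iv F207641)) (tt N9640 F144708) (tt N13768 (iv F207645)) (tt N13615 (iv F207029)) (tt N9639 (iv D34387)) (tt N13252 (iv F189183)) (tt N11830 (iv F206811)))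
theorem Q11625 : ∀ i, i < 11625 → P i := stepQ 11624 Q11624 (allL N11624 (tt N9646 F144988) (tt N9655 F198936) (tt N9670 F144989) (tt N9647 F203148) (tt N13375 F198937) (tt N9643 F144990) (tt N11624 F144991) (tt N9648 F203149) (tt N9641 (iv D34462)) (tt N13769 D46539))
theorem Q11626 : ∀ i, i < 11626 → P i := stepQ 11625 Q11625 (allL N11625 (tt N9647 F144992) (tt N9654 F198335) (tt N9671 F144993) (tt N9646 F203151) (tt N12477 (iv F203605)) (tt N9648 F203152) (tt N11625 F144994) (tt N9643 F144995) (tt N9642 (iv D34463)) (tt N13770 D46540))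
theorem Q11627 : ∀ i, i < 11627 → P i := stepQ 11626 Q11626 (allL N11626 (tt N9649 F144999) (tt N13762 (iv F207619)) (tt N9672 F145000) (tt N13761 (iv F207613)) (tt N12480 (iv F203609)) (tt N13769 (iv F207650)) (tt N9644 F145001) (tt N13770 (iv F207660)) (tt N9656 F145002) (tt N9643 (iv D34465)))
theorem Q11628 : ∀ i, i < 11628 → P i := stepQ 11627 Q11627 (allL N11627 (tt N13375 (iv F206724)) (tt N12922 (iv F206725)) (tt N9674 F145187) (tt N13771 D46541) (tt N9646 F145188) (tt N13306 (iv F189682)) (tt N11627 F145189) (tt N12912 F206723) (tt N9645 (iv D34509)) (tt N13772 D46542))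
theorem Q11629 : ∀ i, i < 11629 → P i := stepQ 11628 Q11628 (allL N11628 (tt N13769 (iv F207646)) (tt N13759 (iv F207595)) (tt N9677 F145201) (tt N13770 (iv F207657)) (tt N13772 (iv F207664)) (tt N9649 F145202) (tt N11628 F145203) (tt N13761 (iv F207616)) (tt N9658 F145204) (tt N9646 (iv D34513)))
theorem Q11630 : ∀ i, i < 11630 → P i := stepQ 11629 Q11629 (allL N11629 (tt N13770 (iv F207654)) (tt N13760 (iv F207603)) (tt N9679 F145208) (tt N13769 (iv F207649)) (tt N13312 (iv F189699)) (tt N13761 (iv F207614)) (tt N11629 F145209) (tt N9649 F145210) (tt N9659 F145211) (tt N9647 (iv D34515)))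
theorem Q11631 : ∀ i, i < 11631 → P i := stepQ 11630 Q11630 (allL N11630 (tt N9675 F203200) (tt N9684 F203201) (tt N9648 (iv D34516)) (tt N9680 F145212) (tt N12659 F203202) (tt N9671 F203203) (tt N9650 F145213) (tt N9670 F203204) (tt N9652 F145214) (tt N13773 D46543))
theorem Q11632 : ∀ i, i < 11632 → P i := stepQ 11631 Q11631 (allL N11631 (tt N13761 (iv F207610)) (tt N9656 F203205) (tt N13773 (iv F207669)) (tt N9649 F145217) (tt N13376 F203206) (tt N13770 (iv F207658)) (tt N9651 F145218) (tt N13769 (iv F207652)) (tt N13762 (iv F207625)) (tt N9648 (iv D34518)))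
theorem Q11633 : ∀ i, i < 11633 → P i := stepQ 11632 Q11632 (allL N11632 (tt N12394 (iv F206786)) (tt N9685 F203402) (tt N9651 F145226) (tt N9683 F145227) (tt N12497 F203403) (tt N11632 F145228) (tt N13773 (iv F207672)) (tt N11632 F145229) (tt N12412 F206783) (tt N9650 (iv D34521)))
theorem Q11634 : ∀ i, i < 11634 → P i := stepQ 11633 Q11633 (allL N11633 (tt N9657 F145670) (tt N12477 F206788) (tt N9689 F145671) (tt N13774 D46544) (tt N9654 F145672) (tt N13378 (iv F190197)) (tt N11633 F145673) (tt N12479 (iv F206794)) (tt N9653 (iv D34647)) (tt N13775 D46545))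
theorem Q11635 : ∀ i, i < 11635 → P i := stepQ 11634 Q11634 (allL N11634 (tt N9658 F145688) (tt N13770 (iv F207655)) (tt N9691 F145689) (tt N13759 (iv F207597)) (tt N13775 (iv F207679)) (tt N9656 F145690) (tt N11634 F145691) (tt N13762 (iv F207624)) (tt N13769 (iv F207653)) (tt N9654 (iv D34651)))
theorem Q11636 : ∀ i, i < 11636 → P i := stepQ 11635 Q11635 (allL N11635 (tt N9659 F145697) (tt N13769 (iv F207647)) (tt N9692 F145698) (tt N13760 (iv F207605)) (tt N13384 (iv F190218)) (tt N13762 (iv F207622)) (tt N11635 F145699) (tt N9656 F145700) (tt N13770 (iv F207661)) (tt N9655 (iv D34653)))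
theorem Q11637 : ∀ i, i < 11637 → P i := stepQ 11636 Q11636 (allL N11636 (tt N13774 (iv F207675)) (tt N13426 (iv F206826)) (tt N13776 D46546) (tt N9657 (iv D34689)) (tt N12964 (iv F206827)) (tt N13417 (iv F190483)) (tt N11636 F145844) (tt N12967 F206825) (tt N12982 (iv F206828)) (tt N13777 D46547))
theorem Q11638 : ∀ i, i < 11638 → P i := stepQ 11637 Q11637 (allL N11637 (tt N13775 (iv F207677)) (tt N13763 (iv F207626)) (tt N9695 F145845) (tt N13777 (iv F207683)) (tt N9658 F145846) (tt N13418 (iv F190486)) (tt N11637 F145847) (tt N13764 (iv F207635)) (tt N13772 (iv F207666)) (tt N9657 (iv D34690)))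
theorem Q11639 : ∀ i, i < 11639 → P i := stepQ 11638 Q11638 (allL N11638 (tt N12872 (iv F206560)) (tt N13416 F206821) (tt N11638 F145874) (tt N13431 (iv F190523)) (tt N12961 F206822) (tt N9660 (iv D34698)) (tt N13778 D46548) (tt N12959 (iv F206820)) (tt N9664 F145875) (tt N13779 D46549))
theorem Q11640 : ∀ i, i < 11640 → P i := stepQ 11639 Q11639 (allL N11639 (tt N12875 F206797) (tt N13764 (iv F207631)) (tt N11639 F145876) (tt N13432 (iv F190525)) (tt N9661 F145877) (tt N13779 (iv F207689)) (tt N9663 F145878) (tt N13763 (iv F207630)) (tt N12924 (iv F206796)) (tt N9660 (iv D34699)))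
theorem Q11641 : ∀ i, i < 11641 → P i := stepQ 11640 Q11640 (allL N11640 (tt N11882 (iv F206804)) (tt N13351 F206805) (tt N11640 F145882) (tt N13440 (iv F190551)) (tt N11640 F145883) (tt N13778 (iv F207686)) (tt N9662 (iv D34701)) (tt N13780 D46550) (tt N9665 F145884) (tt N13781 D46551))
theorem Q11642 : ∀ i, i < 11642 → P i := stepQ 11641 Q11641 (allL N11641 (tt N11884 (iv F206780)) (tt N13353 F206779) (tt N11641 F145885) (tt N13441 (iv F190553)) (tt N11641 F145886) (tt N9663 F145887) (tt N13781 (iv F207696)) (tt N11641 F145888) (tt N11943 F206781) (tt N9662 (iv D34702)))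
theorem Q11643 : ∀ i, i < 11643 → P i := stepQ 11642 Q11642 (allL N11642 (tt N11880 F206423) (tt N13415 (iv F206422)) (tt N11642 F145926) (tt N9667 F145927) (tt N12960 (iv F206411)) (tt N9665 F145928) (tt N9664 (iv D34714)) (tt N13782 D46552) (tt N13778 (iv F207687)) (tt N11939 (iv F206424)))
theorem Q11644 : ∀ i, i < 11644 → P i := stepQ 11643 Q11643 (allL N11643 (tt N11881 F206800) (tt N13523 (iv F206801)) (tt N11643 F145935) (tt N9668 F145936) (tt N11643 F145937) (tt N13782 (iv F207699)) (tt N11643 F145938) (tt N9665 (iv D34717)) (tt N13780 (iv F207693)) (tt N11940 (iv F206799)))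
theorem Q11645 : ∀ i, i < 11645 → P i := stepQ 11644 Q11644 (allL N11644 (tt N12877 F206824) (tt N12319 F206557) (tt N9712 F145949) (tt N11970 F206558) (tt N11844 (iv F206556)) (tt N11644 F145950) (tt N9666 (iv D34721)) (tt N13783 D46553) (tt N13481 (iv F190657)) (tt N12927 (iv F206823)))
theorem Q11646 : ∀ i, i < 11646 → P i := stepQ 11645 Q11645 (allL N11645 (tt N11885 F206744) (tt N13765 (iv F207636)) (tt N9713 F145958) (tt N13782 (iv F207698)) (tt N13768 (iv F207644)) (tt N9668 F145959) (tt N13783 (iv F207702)) (tt N9667 (iv D34724)) (tt N13483 (iv F190668)) (tt N11944 (iv F206739)))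
theorem Q11647 : ∀ i, i < 11647 → P i := stepQ 11646 Q11646 (allL N11646 (tt N9674 F146164) (tt N12408 F206713) (tt N13375 (iv F206714)) (tt N13784 D46554) (tt N9670 F146165) (tt N12475 (iv F204162)) (tt N11646 F146166) (tt N12659 (iv F206715)) (tt N9669 (iv D34772)) (tt N13785 D46555))
theorem Q11648 : ∀ i, i < 11648 → P i := stepQ 11647 Q11647 (allL N11647 (tt N9677 F146179) (tt N12409 F206727) (tt N13769 (iv F207648)) (tt N12405 (iv F206728)) (tt N13785 (iv F207707)) (tt N9672 F146180) (tt N11647 F146181) (tt N13773 (iv F207673)) (tt N9691 F146182) (tt N9670 (iv D34776)))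
theorem Q11649 : ∀ i, i < 11649 → P i := stepQ 11648 Q11648 (allL N11648 (tt N9679 F146187) (tt N12410 (iv F206683)) (tt N13770 (iv F207656)) (tt N12406 F206682) (tt N12478 (iv F204151)) (tt N13773 (iv F207671)) (tt N11648 F146188) (tt N9672 F146189) (tt N9692 F146190) (tt N9671 (iv D34778)))
theorem Q11650 : ∀ i, i < 11650 → P i := stepQ 11649 Q11649 (allL N11649 (tt N12659 F206716) (tt N11649 F146336) (tt N12912 (iv F206717)) (tt N12397 F206719) (tt N9675 F146337) (tt N13514 (iv F191413)) (tt N12393 (iv F206718)) (tt N9674 F146338) (tt N9673 (iv D34811)) (tt N13786 D46556))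
theorem Q11651 : ∀ i, i < 11651 → P i := stepQ 11650 Q11650 (allL N11650 (tt N13784 (iv F207703)) (tt N11650 F146339) (tt N12460 F206721) (tt N9674 (iv D34812)) (tt N12395 F206722) (tt N13515 (iv F191416)) (tt N11650 F146340) (tt N12397 (iv F206720)) (tt N11650 F146341) (tt N13787 D46557))
theorem Q11652 : ∀ i, i < 11652 → P i := stepQ 11651 Q11651 (allL N11651 (tt N13785 (iv F207706)) (tt N11651 F146342) (tt N13772 (iv F207663)) (tt N13787 (iv F207715)) (tt N9677 F146343) (tt N13516 (iv F191420)) (tt N11651 F146344) (tt N13786 (iv F207712)) (tt N9695 F146345) (tt N9674 (iv D34813)))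
theorem Q11653 : ∀ i, i < 11653 → P i := stepQ 11652 Q11652 (allL N11652 (tt N13773 (iv F207667)) (tt N11652 F146354) (tt N13761 (iv F207612)) (tt N12392 F206752) (tt N13786 (iv F207711)) (tt N9679 F146355) (tt N12394 (iv F206784)) (tt N9677 F146356) (tt N9696 F146357) (tt N9675 (iv D34816)))
theorem Q11654 : ∀ i, i < 11654 → P i := stepQ 11653 Q11653 (allL N11653 (tt N12405 F206729) (tt N11653 F146364) (tt N12406 (iv F206749)) (tt N9677 F146365) (tt N12396 F206748) (tt N9681 F146366) (tt N11653 F146367) (tt N12392 (iv F206750)) (tt N11653 F146368) (tt N9676 (iv D34819)))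
theorem Q11655 : ∀ i, i < 11655 → P i := stepQ 11654 Q11654 (allL N11654 (tt N12406 (iv F206681)) (tt N11654 F146376) (tt N12405 (iv F206755)) (tt N9679 F146377) (tt N12391 F206680) (tt N12392 F206753) (tt N11654 F146378) (tt N9681 F146379) (tt N11654 F146380) (tt N9678 (iv D34822)))
theorem Q11656 : ∀ i, i < 11656 → P i := stepQ 11655 Q11655 (allL N11655 (tt N12392 (iv F206747)) (tt N12407 (iv F206756)) (tt N9681 F146387) (tt N13773 (iv F207670)) (tt N12387 F206746) (tt N12406 F206754) (tt N9683 F146388) (tt N12405 (iv F206751)) (tt N11655 F146389) (tt N9680 (iv D34825)))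
theorem Q11657 : ∀ i, i < 11657 → P i := stepQ 11656 Q11656 (allL N11656 (tt N11656 F204062) (tt N9683 F146404) (tt N11656 F146405) (tt N9685 F204063) (tt N12384 F206745) (tt N11656 F146406) (tt N12407 F206757) (tt N11656 F146407) (tt N11656 F146408) (tt N9682 (iv D34830)))
theorem Q11658 : ∀ i, i < 11658 → P i := stepQ 11657 Q11657 (allL N11657 (tt N11657 F146612) (tt N13773 (iv F207668)) (tt N9688 F146613) (tt N12407 (iv F206758)) (tt N12495 (iv F204171)) (tt N12410 F206759) (tt N9685 F146614) (tt N12409 F206760) (tt N12411 F206712) (tt N9684 (iv D34877)))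
theorem Q11659 : ∀ i, i < 11659 → P i := stepQ 11658 Q11658 (allL N11658 (tt N11658 F146642) (tt N9691 F146643) (tt N12410 (iv F206764)) (tt N11658 F146644) (tt N12492 (iv F206765)) (tt N9688 F146645) (tt N11658 F146646) (tt N12411 F206762) (tt N12409 (iv F206726)) (tt N9686 (iv D34884)))
theorem Q11660 : ∀ i, i < 11660 → P i := stepQ 11659 Q11659 (allL N11659 (tt N11659 F146647) (tt N9692 F146648) (tt N12409 (iv F206761)) (tt N11659 F146649) (tt N12493 (iv F204141)) (tt N12411 (iv F206766)) (tt N11659 F146650) (tt N9688 F146651) (tt N12410 F206684) (tt N9687 (iv D34885)))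
theorem Q11661 : ∀ i, i < 11661 → P i := stepQ 11660 Q11660 (allL N11660 (tt N9694 F146659) (tt N11916 F206789) (tt N13788 D46558) (tt N9689 (iv D34888)) (tt N11660 F146660) (tt N13529 (iv F192034)) (tt N11660 F146661) (tt N11918 (iv F206790)) (tt N11660 F146662) (tt N13789 D46559))
theorem Q11662 : ∀ i, i < 11662 → P i := stepQ 11661 Q11661 (allL N11661 (tt N9695 F146663) (tt N12492 F206767) (tt N13775 (iv F207678)) (tt N13789 (iv F207722)) (tt N9691 F146664) (tt N13530 (iv F192038)) (tt N11661 F146665) (tt N12494 (iv F206768)) (tt N13785 (iv F207709)) (tt N9689 (iv D34889)))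
theorem Q11663 : ∀ i, i < 11663 → P i := stepQ 11662 Q11662 (allL N11662 (tt N9696 F146671) (tt N12411 (iv F206763)) (tt N13762 (iv F207620)) (tt N11662 F146672) (tt N12494 F206770) (tt N9692 F146673) (tt N12412 (iv F206771)) (tt N9691 F146674) (tt N13773 (iv F207674)) (tt N9690 (iv D34891)))
theorem Q11664 : ∀ i, i < 11664 → P i := stepQ 11663 Q11663 (allL N11663 (tt N11918 F206791) (tt N11663 F146683) (tt N13790 D46560) (tt N9693 (iv D34894)) (tt N11663 F146684) (tt N13539 (iv F192263)) (tt N11921 (iv F206792)) (tt N9694 F146685) (tt N11663 F146686) (tt N13791 D46561))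
theorem Q11665 : ∀ i, i < 11665 → P i := stepQ 11664 Q11664 (allL N11664 (tt N12494 F206769) (tt N11664 F146687) (tt N13764 (iv F207632)) (tt N13791 (iv F207729)) (tt N9696 F146688) (tt N13540 (iv F192268)) (tt N12496 F206776) (tt N9695 F146689) (tt N13786 (iv F207713)) (tt N9693 (iv D34895)))
theorem Q11666 : ∀ i, i < 11666 → P i := stepQ 11665 Q11665 (allL N11665 (tt N13788 (iv F207717)) (tt N13792 D46562) (tt N9694 (iv D34896)) (tt N13776 (iv F207681)) (tt N11665 F146690) (tt N13541 (iv F192270)) (tt N11665 F146691) (tt N13790 (iv F207726)) (tt N11665 F146692) (tt N13793 D46563))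
theorem Q11667 : ∀ i, i < 11667 → P i := stepQ 11666 Q11666 (allL N11666 (tt N13789 (iv F207721)) (tt N11666 F146693) (tt N13793 (iv F207736)) (tt N9695 F146694) (tt N11666 F146695) (tt N13543 (iv F192278)) (tt N11666 F146696) (tt N13791 (iv F207731)) (tt N13794 D46564) (tt N9694 (iv D34897)))
theorem Q11668 : ∀ i, i < 11668 → P i := stepQ 11667 Q11667 (allL N11667 (tt N11721 F206306) (tt N11667 F147103) (tt N11720 F206307) (tt N11769 F206308) (tt N9716 F147104) (tt N9697 (iv D34992)) (tt N11719 (iv F206305)) (tt N9705 F147105) (tt N9699 F147106) (tt N11722 F206310))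
theorem Q11669 : ∀ i, i < 11669 → P i := stepQ 11668 Q11668 (allL N11668 (tt N11720 (iv F206302)) (tt N11668 F147107) (tt N11721 (iv F206303)) (tt N9701 F205732) (tt N9698 F147108) (tt N11722 (iv F206304)) (tt N9699 F205733) (tt N9706 F147109) (tt N11719 F206301) (tt N9697 (iv D34993)))
theorem Q11670 : ∀ i, i < 11670 → P i := stepQ 11669 Q11669 (allL N11669 (tt N11747 F206295) (tt N11669 F147208) (tt N11771 F206325) (tt N11722 F206296) (tt N11669 F147209) (tt N9701 F147210) (tt N9700 (iv D35021)) (tt N12732 (iv F206339)) (tt N12752 (iv F206294)) (tt N11769 F206311))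
theorem Q11671 : ∀ i, i < 11671 → P i := stepQ 11670 Q11670 (allL N11670 (tt N11737 (iv F206545)) (tt N11670 F147799) (tt N12734 F206547) (tt N11840 F206544) (tt N11670 F147800) (tt N9702 (iv D35175)) (tt N13795 D46565) (tt N11733 (iv F206546)) (tt N9707 F147801) (tt N13796 D46566))
theorem Q11672 : ∀ i, i < 11672 → P i := stepQ 11671 Q11671 (allL N11671 (tt N11726 F206316) (tt N11671 F147802) (tt N11727 F206317) (tt N9711 F205429) (tt N9703 F147803) (tt N13796 (iv F207750)) (tt N9706 F147804) (tt N9708 F205430) (tt N11724 (iv F206314)) (tt N9702 (iv D35176)))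
theorem Q11673 : ∀ i, i < 11673 → P i := stepQ 11672 Q11672 (allL N11672 (tt N12732 F206514) (tt N11732 (iv F206511)) (tt N13613 (iv F207022)) (tt N9704 (iv D35181)) (tt N11672 F147821) (tt N11748 F206510) (tt N12736 F206516) (tt N11747 (iv F206512)) (tt N12769 F206517) (tt N11728 (iv F206513)))
theorem Q11674 : ∀ i, i < 11674 → P i := stepQ 11673 Q11673 (allL N11673 (tt N11727 (iv F206312)) (tt N11673 F147830) (tt N11726 (iv F206313)) (tt N13616 (iv F207032)) (tt N9717 F147831) (tt N13795 (iv F207745)) (tt N9705 (iv D35185)) (tt N11724 F206309) (tt N9708 F147832) (tt N11736 (iv F206315)))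
theorem Q11675 : ∀ i, i < 11675 → P i := stepQ 11674 Q11674 (allL N11674 (tt N11725 (iv F206427)) (tt N11674 F147881) (tt N12733 (iv F206410)) (tt N9710 F147882) (tt N11674 F147883) (tt N9708 F147884) (tt N9707 (iv D35200)) (tt N13796 (iv F207751)) (tt N13795 (iv F207746)) (tt N11733 F206426))
theorem Q11676 : ∀ i, i < 11676 → P i := stepQ 11675 Q11675 (allL N11675 (tt N12735 F206530) (tt N11675 F147930) (tt N11844 F206555) (tt N11735 (iv F206531)) (tt N9712 F147931) (tt N11734 (iv F206532)) (tt N9709 (iv D35216)) (tt N13797 D46567) (tt N12806 (iv F206533)) (tt N12804 (iv F206534)))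
theorem Q11677 : ∀ i, i < 11677 → P i := stepQ 11676 Q11676 (allL N11676 (tt N11800 F206743) (tt N11676 F147939) (tt N13768 (iv F207643)) (tt N13796 (iv F207748)) (tt N9713 F147940) (tt N9711 F147941) (tt N13797 (iv F207754)) (tt N9710 (iv D35219)) (tt N13637 (iv F207099)) (tt N11840 (iv F206740)))
theorem Q11678 : ∀ i, i < 11678 → P i := stepQ 11677 Q11677 (allL N11677 (tt N11899 F206742) (tt N11677 F148271) (tt N13783 (iv F207700)) (tt N11677 F148272) (tt N13797 (iv F207753)) (tt N11677 F148273) (tt N9713 F148274) (tt N9712 (iv D35305)) (tt N13747 (iv F207561)) (tt N11961 (iv F206741)))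
theorem Q11679 : ∀ i, i < 11679 → P i := stepQ 11678 Q11678 (allL N11678 (tt N11404 (iv F206338)) (tt N11678 F173539) (tt N9838 F173540) (tt N11678 F173541) (tt N9719 (iv D41535)) (tt N13798 D46568) (tt N11678 F173542) (tt N9729 F173543) (tt N11678 F173544) (tt N13799 D46569))
theorem Q11680 : ∀ i, i < 11680 → P i := stepQ 11679 Q11679 (allL N11679 (tt N11405 F206436) (tt N11679 F173545) (tt N9839 F173546) (tt N9720 F173547) (tt N13799 (iv F207766)) (tt N11390 F206479) (tt N11679 F173548) (tt N9730 F173549) (tt N13800 D46570) (tt N9719 (iv D41536)))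
theorem Q11681 : ∀ i, i < 11681 → P i := stepQ 11680 Q11680 (allL N11680 (tt N9729 F173674) (tt N11414 (iv F206335)) (tt N9884 F173675) (tt N11680 F173676) (tt N9724 (iv D41564)) (tt N13801 D46571) (tt N9741 F173677) (tt N11404 F206337) (tt N11680 F173678) (tt N13802 D46572))
theorem Q11682 : ∀ i, i < 11682 → P i := stepQ 11681 Q11681 (allL N11681 (tt N9730 F173679) (tt N11415 (iv F206432)) (tt N9885 F173680) (tt N9725 F173681) (tt N13802 (iv F207788)) (tt N11406 F206430) (tt N9742 F173682) (tt N11405 (iv F206435)) (tt N13803 D46573) (tt N9724 (iv D41565)))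
theorem Q11683 : ∀ i, i < 11683 → P i := stepQ 11682 Q11682 (allL N11682 (tt N10961 F205127) (tt N11682 F173757) (tt N9902 F173758) (tt N10934 F205128) (tt N9727 (iv D41583)) (tt N13804 D46574) (tt N11050 F205129) (tt N10935 F205130) (tt N11682 F173759) (tt N13805 D46575))
theorem Q11684 : ∀ i, i < 11684 → P i := stepQ 11683 Q11683 (allL N11683 (tt N11406 (iv F206431)) (tt N11683 F173760) (tt N9903 F173761) (tt N9728 F173762) (tt N13805 (iv F207810)) (tt N9730 F173763) (tt N11434 (iv F206481)) (tt N11390 F206480) (tt N13806 D46576) (tt N9727 (iv D41584)))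
theorem Q11685 : ∀ i, i < 11685 → P i := stepQ 11684 Q11684 (allL N11684 (tt N13801 (iv F207777)) (tt N11684 F173764) (tt N9904 F173765) (tt N11684 F173766) (tt N13804 (iv F207803)) (tt N9729 (iv D41585)) (tt N13807 D46577) (tt N13798 (iv F207760)) (tt N11684 F173767) (tt N13808 D46578))
theorem Q11686 : ∀ i, i < 11686 → P i := stepQ 11685 Q11685 (allL N11685 (tt N13802 (iv F207784)) (tt N11685 F173768) (tt N9905 F173769) (tt N11685 F173770) (tt N9730 F173771) (tt N13808 (iv F207829)) (tt N9752 F173772) (tt N13799 (iv F207768)) (tt N13809 D46579) (tt N9729 (iv D41586)))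
theorem Q11687 : ∀ i, i < 11687 → P i := stepQ 11686 Q11686 (allL N11686 (tt N13803 (iv F207791)) (tt N11686 F173773) (tt N9906 F173774) (tt N11686 F173775) (tt N13809 (iv F207832)) (tt N13806 (iv F207817)) (tt N9753 F173776) (tt N13800 (iv F207775)) (tt N9730 (iv D41587)) (tt N11686 F173777))
theorem Q11688 : ∀ i, i < 11688 → P i := stepQ 11687 Q11687 (allL N11687 (tt N11399 F206577) (tt N9735 F173798) (tt N11592 (iv F206576)) (tt N9732 F173799) (tt N9913 F173800) (tt N11687 F173801) (tt N10685 F205317) (tt N10634 F205318) (tt N10665 F205319) (tt N9731 (iv D41594)))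
theorem Q11689 : ∀ i, i < 11689 → P i := stepQ 11688 Q11688 (allL N11688 (tt N11688 F173892) (tt N9963 F173893) (tt N9737 (iv D41614)) (tt N11688 F173894) (tt N10300 F203042) (tt N11339 F203039) (tt N11413 (iv F206334)) (tt N11688 F173895) (tt N11688 F173896) (tt N13810 D46580))
theorem Q11690 : ∀ i, i < 11690 → P i := stepQ 11689 Q11689 (allL N11689 (tt N11689 F173897) (tt N9741 F173898) (tt N10300 F203051) (tt N11689 F173899) (tt N9737 (iv D41615)) (tt N10602 F203048) (tt N11414 (iv F206336)) (tt N11689 F173900) (tt N11689 F173901) (tt N13811 D46581))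
theorem Q11691 : ∀ i, i < 11691 → P i := stepQ 11690 Q11690 (allL N11690 (tt N11690 F173902) (tt N9742 F173903) (tt N13810 (iv F207837)) (tt N9738 F173904) (tt N13811 (iv F207847)) (tt N11308 F203710) (tt N11415 F206501) (tt N11690 F173905) (tt N13812 D46582) (tt N9737 (iv D41616)))
theorem Q11692 : ∀ i, i < 11692 → P i := stepQ 11691 Q11691 (allL N11691 (tt N9750 F173954) (tt N11308 F203705) (tt N9976 F173955) (tt N9740 F173956) (tt N11307 F203706) (tt N9742 F173957) (tt N11466 (iv F206434)) (tt N11691 F173958) (tt N13813 D46583) (tt N9739 (iv D41628)))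
theorem Q11693 : ∀ i, i < 11693 → P i := stepQ 11692 Q11692 (allL N11692 (tt N9751 F173959) (tt N10602 F203049) (tt N9977 F173960) (tt N11692 F173961) (tt N10601 F203050) (tt N9741 (iv D41629)) (tt N13814 D46584) (tt N11692 F173962) (tt N11692 F173963) (tt N13815 D46585))
theorem Q11694 : ∀ i, i < 11694 → P i := stepQ 11693 Q11693 (allL N11693 (tt N9752 F173964) (tt N13811 (iv F207844)) (tt N9978 F173965) (tt N11693 F173966) (tt N9742 F173967) (tt N13815 (iv F207878)) (tt N13802 (iv F207789)) (tt N11693 F173968) (tt N13816 D46586) (tt N9741 (iv D41630)))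
theorem Q11695 : ∀ i, i < 11695 → P i := stepQ 11694 Q11694 (allL N11694 (tt N9753 F173969) (tt N13812 (iv F207852)) (tt N9979 F173970) (tt N11694 F173971) (tt N13816 (iv F207882)) (tt N13813 (iv F207863)) (tt N13803 (iv F207796)) (tt N11694 F173972) (tt N9742 (iv D41631)) (tt N11694 F173973))
theorem Q11696 : ∀ i, i < 11696 → P i := stepQ 11695 Q11695 (allL N11695 (tt N9757 F174003) (tt N11695 F174004) (tt N11575 F204555) (tt N9744 F174005) (tt N9986 F174006) (tt N11695 F174007) (tt N11526 F206634) (tt N11695 F174008) (tt N13817 D46587) (tt N9743 (iv D41638)))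
theorem Q11697 : ∀ i, i < 11697 → P i := stepQ 11696 Q11696 (allL N11696 (tt N11389 (iv F206639)) (tt N11696 F174080) (tt N10003 F174081) (tt N11388 (iv F206640)) (tt N9747 (iv D41655)) (tt N13818 D46588) (tt N9749 F174082) (tt N11432 F206638) (tt N11696 F174083) (tt N13819 D46589))
theorem Q11698 : ∀ i, i < 11698 → P i := stepQ 11697 Q11697 (allL N11697 (tt N11466 (iv F206483)) (tt N11697 F174084) (tt N10004 F174085) (tt N9748 F174086) (tt N13819 (iv F207905)) (tt N11434 F206482) (tt N9750 F174087) (tt N11433 (iv F206484)) (tt N13820 D46590) (tt N9747 (iv D41656)))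
theorem Q11699 : ∀ i, i < 11699 → P i := stepQ 11698 Q11698 (allL N11698 (tt N10601 F204257) (tt N11698 F174088) (tt N10005 F174089) (tt N10600 F204258) (tt N9751 F174090) (tt N9749 (iv D41657)) (tt N13821 D46591) (tt N11698 F174091) (tt N11698 F174092) (tt N13822 D46592))
theorem Q11700 : ∀ i, i < 11700 → P i := stepQ 11699 Q11699 (allL N11699 (tt N11307 F204259) (tt N11699 F174093) (tt N10006 F174094) (tt N11306 F204260) (tt N9750 F174095) (tt N13822 (iv F207927)) (tt N13819 (iv F207906)) (tt N11699 F174096) (tt N13823 D46593) (tt N9749 (iv D41658)))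
theorem Q11701 : ∀ i, i < 11701 → P i := stepQ 11700 Q11700 (allL N11700 (tt N13813 (iv F207858)) (tt N11700 F174097) (tt N10007 F174098) (tt N11700 F174099) (tt N13823 (iv F207933)) (tt N9753 F174100) (tt N13820 (iv F207913)) (tt N11700 F174101) (tt N9750 (iv D41659)) (tt N11700 F174102))
theorem Q11702 : ∀ i, i < 11702 → P i := stepQ 11701 Q11701 (allL N11701 (tt N13814 (iv F207867)) (tt N11701 F174103) (tt N10008 F174104) (tt N11701 F174105) (tt N13821 (iv F207920)) (tt N13807 (iv F207824)) (tt N9751 (iv D41660)) (tt N13824 D46594) (tt N11701 F174106) (tt N13825 D46595))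
theorem Q11703 : ∀ i, i < 11703 → P i := stepQ 11702 Q11702 (allL N11702 (tt N13815 (iv F207873)) (tt N11702 F174107) (tt N10009 F174108) (tt N11702 F174109) (tt N13822 (iv F207926)) (tt N9752 F174110) (tt N13825 (iv F207944)) (tt N11702 F174111) (tt N13826 D46596) (tt N9751 (iv D41661)))
theorem Q11704 : ∀ i, i < 11704 → P i := stepQ 11703 Q11703 (allL N11703 (tt N13816 (iv F207880)) (tt N11703 F174112) (tt N10010 F174113) (tt N13827 D46597) (tt N9753 F174114) (tt N13826 (iv F207947)) (tt N13809 (iv F207833)) (tt N11703 F174115) (tt N9752 (iv D41662)) (tt N11703 F174116))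
theorem Q11705 : ∀ i, i < 11705 → P i := stepQ 11704 Q11704 (allL N11704 (tt N11525 (iv F206646)) (tt N13828 D46598) (tt N9754 (iv D41669)) (tt N11509 (iv F206647)) (tt N10017 F174143) (tt N11501 (iv F206648)) (tt N9756 F174144) (tt N11499 F206645) (tt N11704 F174145) (tt N13829 D46599))
theorem Q11706 : ∀ i, i < 11706 → P i := stepQ 11705 Q11705 (allL N11705 (tt N11526 (iv F206626)) (tt N9764 F174146) (tt N13829 (iv F207964)) (tt N9755 F174147) (tt N10018 F174148) (tt N11502 F206625) (tt N9757 F174149) (tt N11500 (iv F206627)) (tt N13830 D46600) (tt N9754 (iv D41670)))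
theorem Q11707 : ∀ i, i < 11707 → P i := stepQ 11706 Q11706 (allL N11706 (tt N11585 F204548) (tt N9756 (iv D41671)) (tt N9765 F174150) (tt N11584 (iv F204552)) (tt N10019 F174151) (tt N11706 F174152) (tt N13828 (iv F207960)) (tt N11706 F174153) (tt N11706 F174154) (tt N13831 D46601))
theorem Q11708 : ∀ i, i < 11708 → P i := stepQ 11707 Q11707 (allL N11707 (tt N11575 (iv F204554)) (tt N13831 (iv F207979)) (tt N9757 F174155) (tt N11574 F204553) (tt N10020 F174156) (tt N11707 F174157) (tt N13829 (iv F207968)) (tt N11707 F174158) (tt N13832 D46602) (tt N9756 (iv D41672)))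
theorem Q11709 : ∀ i, i < 11709 → P i := stepQ 11708 Q11708 (allL N11708 (tt N13817 (iv F207885)) (tt N9767 F174159) (tt N13832 (iv F207986)) (tt N11708 F174160) (tt N10021 F174161) (tt N11708 F174162) (tt N13830 (iv F207975)) (tt N11708 F174163) (tt N9757 (iv D41673)) (tt N11708 F174164))
theorem Q11710 : ∀ i, i < 11710 → P i := stepQ 11709 Q11709 (allL N11709 (tt N11709 F174179) (tt N13833 D46603) (tt N9759 (iv D41677)) (tt N11709 F174180) (tt N10785 F205110) (tt N9763 F174181) (tt N11709 F174182) (tt N10753 F205111) (tt N11709 F174183) (tt N13834 D46604))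
theorem Q11711 : ∀ i, i < 11711 → P i := stepQ 11710 Q11710 (allL N11710 (tt N11710 F174188) (tt N11502 (iv F206623)) (tt N13834 (iv F208000)) (tt N9760 F174189) (tt N10786 F205113) (tt N9764 F174190) (tt N11710 F174191) (tt N10754 F205114) (tt N13835 D46605) (tt N9759 (iv D41679)))
theorem Q11712 : ∀ i, i < 11712 → P i := stepQ 11711 Q11711 (allL N11711 (tt N11711 F174192) (tt N13836 D46606) (tt N9761 (iv D41680)) (tt N11711 F174193) (tt N10028 F174194) (tt N10753 F205100) (tt N11711 F174195) (tt N9763 F174196) (tt N11711 F174197) (tt N13837 D46607))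
theorem Q11713 : ∀ i, i < 11713 → P i := stepQ 11712 Q11712 (allL N11712 (tt N11712 F174198) (tt N11500 F206628) (tt N13837 (iv F208022)) (tt N9762 F174199) (tt N10029 F174200) (tt N10754 F205101) (tt N11712 F174201) (tt N9764 F174202) (tt N13838 D46608) (tt N9761 (iv D41681)))
theorem Q11714 : ∀ i, i < 11714 → P i := stepQ 11713 Q11713 (allL N11713 (tt N13839 D46609) (tt N9763 (iv D41682)) (tt N13828 (iv F207956)) (tt N11713 F174203) (tt N10030 F174204) (tt N13833 (iv F207995)) (tt N9765 F174205) (tt N13836 (iv F208019)) (tt N11713 F174206) (tt N13840 D46610))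
theorem Q11715 : ∀ i, i < 11715 → P i := stepQ 11714 Q11714 (allL N11714 (tt N11714 F174207) (tt N13840 (iv F208042)) (tt N9764 F174208) (tt N11714 F174209) (tt N10031 F174210) (tt N13834 (iv F208003)) (tt N9766 F174211) (tt N13837 (iv F208027)) (tt N13841 D46611) (tt N9763 (iv D41683)))
theorem Q11716 : ∀ i, i < 11716 → P i := stepQ 11715 Q11715 (allL N11715 (tt N11715 F174212) (tt N13830 (iv F207971)) (tt N13841 (iv F208047)) (tt N11715 F174213) (tt N10032 F174214) (tt N13835 (iv F208010)) (tt N9767 F174215) (tt N13838 (iv F208034)) (tt N9764 (iv D41684)) (tt N11715 F174216))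
theorem Q11717 : ∀ i, i < 11717 → P i := stepQ 11716 Q11716 (allL N11716 (tt N9765 (iv D41685)) (tt N11716 F174217) (tt N11585 (iv F204547)) (tt N11716 F174218) (tt N10033 F174219) (tt N11716 F174220) (tt N13839 (iv F208040)) (tt N11716 F174221) (tt N11716 F174222) (tt N13842 D46612))
theorem Q11718 : ∀ i, i < 11718 → P i := stepQ 11717 Q11717 (allL N11717 (tt N13842 (iv F208051)) (tt N9766 F174223) (tt N13831 (iv F207980)) (tt N11717 F174224) (tt N10034 F174225) (tt N11717 F174226) (tt N13840 (iv F208045)) (tt N11717 F174227) (tt N13843 D46613) (tt N9765 (iv D41686)))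
theorem Q11719 : ∀ i, i < 11719 → P i := stepQ 11718 Q11718 (allL N11718 (tt N11718 F174228) (tt N13843 (iv F208058)) (tt N9767 F174229) (tt N13844 D46614) (tt N10035 F174230) (tt N11718 F174231) (tt N13841 (iv F208049)) (tt N11718 F174232) (tt N9766 (iv D41687)) (tt N11718 F174233))
theorem Q11720 : ∀ i, i < 11720 → P i := stepQ 11719 Q11719 (allL N11719 (tt N10604 F196387) (tt N11719 F174473) (tt N9773 F174474) (tt N10643 F196388) (tt N9772 (iv D41737)) (tt N10603 F174475) (tt N11667 F206305) (tt N9783 F174476) (tt N11668 (iv F206301)) (tt N9779 F174477))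
theorem Q11721 : ∀ i, i < 11721 → P i := stepQ 11720 Q11720 (allL N11720 (tt N11668 F206302) (tt N9776 F174495) (tt N11667 (iv F206307)) (tt N9809 F174496) (tt N9774 F174497) (tt N10605 F206219) (tt N9773 (iv D41742)) (tt N10611 F205865) (tt N10604 F206220) (tt N9781 F174498))
theorem Q11722 : ∀ i, i < 11722 → P i := stepQ 11721 Q11721 (allL N11721 (tt N11667 (iv F206306)) (tt N9777 F174499) (tt N11668 F206303) (tt N9840 F205862) (tt N9775 F174500) (tt N9781 F205863) (tt N10604 F205864) (tt N9786 F174502) (tt N9773 (iv D41743)) (tt N10605 F206116))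
theorem Q11723 : ∀ i, i < 11723 → P i := stepQ 11722 Q11722 (allL N11722 (tt N10605 F205859) (tt N11722 F174604) (tt N9781 F174605) (tt N11669 (iv F206296)) (tt N9780 F174606) (tt N11668 F206304) (tt N9779 (iv D41767)) (tt N10609 F205860) (tt N10603 F205861) (tt N11667 (iv F206310)))
theorem Q11724 : ∀ i, i < 11724 → P i := stepQ 11723 Q11723 (allL N11723 (tt N10619 (iv F205718)) (tt N11723 F174745) (tt N9849 F174746) (tt N9783 (iv D41802)) (tt N11723 F174747) (tt N10607 F174748) (tt N13845 D46615) (tt N10643 F197053) (tt N13846 D46616) (tt N9795 F174749))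
theorem Q11725 : ∀ i, i < 11725 → P i := stepQ 11724 Q11724 (allL N11724 (tt N10618 F205768) (tt N11724 F174750) (tt N9785 F174751) (tt N13845 (iv F208072)) (tt N9784 F174752) (tt N13847 D46617) (tt N9783 (iv D41803)) (tt N11673 (iv F206309)) (tt N11671 F206314) (tt N9796 F174753))
theorem Q11726 : ∀ i, i < 11726 → P i := stepQ 11725 Q11725 (allL N11725 (tt N11674 F206427) (tt N9789 F174784) (tt N13847 (iv F208089)) (tt N9857 F174785) (tt N11725 F174786) (tt N9785 (iv D41811)) (tt N10610 F174787) (tt N13848 D46618) (tt N13849 D46619) (tt N9798 F174788))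
theorem Q11727 : ∀ i, i < 11727 → P i := stepQ 11726 Q11726 (allL N11726 (tt N11671 (iv F206316)) (tt N9790 F174789) (tt N11673 F206313) (tt N9858 F174790) (tt N9787 F174791) (tt N13848 (iv F208101)) (tt N10611 F205512) (tt N9785 (iv D41812)) (tt N10618 F205513) (tt N9799 F174792))
theorem Q11728 : ∀ i, i < 11728 → P i := stepQ 11727 Q11727 (allL N11727 (tt N11673 F206312) (tt N9791 F174793) (tt N11671 (iv F206317)) (tt N13850 D46620) (tt N9788 F174794) (tt N13849 (iv F208109)) (tt N9786 F174795) (tt N10618 F205771) (tt N9785 (iv D41813)) (tt N10616 F205772))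
theorem Q11729 : ∀ i, i < 11729 → P i := stepQ 11728 Q11728 (allL N11728 (tt N11443 (iv F206321)) (tt N9792 F174796) (tt N13851 D46621) (tt N9786 (iv D41814)) (tt N11728 F174797) (tt N9841 F205516) (tt N13850 (iv F208119)) (tt N9840 F205517) (tt N9860 F174799) (tt N11672 F206513))
theorem Q11730 : ∀ i, i < 11730 → P i := stepQ 11729 Q11729 (allL N11729 (tt N11729 F174813) (tt N13848 (iv F208097)) (tt N11729 F174814) (tt N9864 F174815) (tt N11729 F174816) (tt N9790 F174817) (tt N10621 F206169) (tt N9789 (iv D41818)) (tt N10620 F206170) (tt N9802 F174818))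
theorem Q11731 : ∀ i, i < 11731 → P i := stepQ 11730 Q11730 (allL N11730 (tt N11730 F174819) (tt N13849 (iv F208106)) (tt N11730 F174820) (tt N9915 F205789) (tt N11730 F174821) (tt N9791 F174822) (tt N9802 F205790) (tt N10620 F205791) (tt N9789 (iv D41819)) (tt N10621 F205940))
theorem Q11732 : ∀ i, i < 11732 → P i := stepQ 11731 Q11731 (allL N11731 (tt N11731 F174828) (tt N13850 (iv F208115)) (tt N10135 F205799) (tt N9791 (iv D41821)) (tt N11731 F174829) (tt N9915 F205800) (tt N9792 F174830) (tt N10625 (iv F206046)) (tt N9867 F174831) (tt N10623 F205939))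
theorem Q11733 : ∀ i, i < 11733 → P i := stepQ 11732 Q11732 (allL N11732 (tt N11732 F174842) (tt N11672 F206511) (tt N10085 F205802) (tt N9793 F174843) (tt N11732 F174844) (tt N9815 F205803) (tt N10623 F206213) (tt N9814 F205804) (tt N10667 F206214) (tt N9792 (iv D41824)))
theorem Q11734 : ∀ i, i < 11734 → P i := stepQ 11733 Q11733 (allL N11733 (tt N9798 F174906) (tt N11733 F174907) (tt N10615 F205597) (tt N9886 F174908) (tt N11733 F174909) (tt N9794 (iv D41840)) (tt N10612 F174910) (tt N11670 F206546) (tt N10613 F205598) (tt N11674 (iv F206426)))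
theorem Q11735 : ∀ i, i < 11735 → P i := stepQ 11734 Q11734 (allL N11734 (tt N10617 F205609) (tt N11734 F174935) (tt N9892 F174936) (tt N9796 F174937) (tt N11734 F174938) (tt N11675 F206532) (tt N9795 (iv D41847)) (tt N13852 D46622) (tt N10705 F205610) (tt N13845 (iv F208076)))
theorem Q11736 : ∀ i, i < 11736 → P i := stepQ 11735 Q11735 (allL N11735 (tt N10615 F205766) (tt N11735 F174943) (tt N9798 F174944) (tt N11675 F206531) (tt N11735 F174945) (tt N9796 (iv D41849)) (tt N10613 F174946) (tt N13853 D46623) (tt N10612 F205767) (tt N13847 (iv F208095)))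
theorem Q11737 : ∀ i, i < 11737 → P i := stepQ 11736 Q11736 (allL N11736 (tt N10616 F205508) (tt N11736 F174947) (tt N9799 F174948) (tt N13852 (iv F208135)) (tt N9797 F174949) (tt N13853 (iv F208146)) (tt N10609 F205509) (tt N9796 (iv D41850)) (tt N10608 F205510) (tt N11673 F206315))
theorem Q11738 : ∀ i, i < 11738 → P i := stepQ 11737 Q11737 (allL N11737 (tt N11670 F206545) (tt N9802 F174987) (tt N13853 (iv F208143)) (tt N9907 F174988) (tt N11737 F174989) (tt N9799 F174990) (tt N13849 (iv F208110)) (tt N9798 (iv D41862)) (tt N10610 F205511) (tt N13848 (iv F208103)))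
theorem Q11739 : ∀ i, i < 11739 → P i := stepQ 11738 Q11738 (allL N11738 (tt N10613 F205584) (tt N9803 F174991) (tt N10612 F205585) (tt N10680 F205586) (tt N11738 F174992) (tt N9800 F174993) (tt N10615 F174994) (tt N10610 F205587) (tt N9798 (iv D41863)) (tt N10614 F205588))
theorem Q11740 : ∀ i, i < 11740 → P i := stepQ 11739 Q11739 (allL N11739 (tt N10650 F197066) (tt N10069 F175118) (tt N10643 F197067) (tt N9804 (iv D41893)) (tt N11739 F175119) (tt N10628 F175120) (tt N13854 D46624) (tt N9849 F175121) (tt N13855 D46625) (tt N9831 F175122))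
theorem Q11741 : ∀ i, i < 11741 → P i := stepQ 11740 Q11740 (allL N11740 (tt N11614 (iv F206834)) (tt N10070 F175123) (tt N9809 F175124) (tt N13854 (iv F208153)) (tt N9805 F175125) (tt N13856 D46626) (tt N9804 (iv D41894)) (tt N13857 D46627) (tt N13858 D46628) (tt N9832 F175126))
theorem Q11742 : ∀ i, i < 11742 → P i := stepQ 11741 Q11741 (allL N11741 (tt N10953 F201907) (tt N10071 F175127) (tt N9810 F175128) (tt N13859 D46629) (tt N9806 F175129) (tt N10630 F175130) (tt N13858 (iv F208188)) (tt N9851 F175131) (tt N9804 (iv D41895)) (tt N13860 D46630))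
theorem Q11743 : ∀ i, i < 11743 → P i := stepQ 11742 Q11742 (allL N11742 (tt N11442 F206622) (tt N10072 F175132) (tt N9811 F175133) (tt N11742 F175134) (tt N13857 (iv F208179)) (tt N11742 F175135) (tt N9852 F175136) (tt N9805 (iv D41896)) (tt N13861 D46631) (tt N9834 F175137))
theorem Q11744 : ∀ i, i < 11744 → P i := stepQ 11743 Q11743 (allL N11743 (tt N10955 F202069) (tt N10073 F175138) (tt N9812 F175139) (tt N13862 D46632) (tt N13858 (iv F208186)) (tt N11743 F175140) (tt N9806 F175141) (tt N13861 (iv F208205)) (tt N9805 (iv D41897)) (tt N13863 D46633))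
theorem Q11745 : ∀ i, i < 11745 → P i := stepQ 11744 Q11744 (allL N11744 (tt N10124 F202070) (tt N10074 F175142) (tt N11744 F175143) (tt N9806 (iv D41898)) (tt N13864 D46634) (tt N9807 F175144) (tt N13862 (iv F208211)) (tt N9854 F175145) (tt N11744 F175146) (tt N13865 D46635))
theorem Q11746 : ∀ i, i < 11746 → P i := stepQ 11745 Q11745 (allL N11745 (tt N10956 F202071) (tt N10075 F175147) (tt N9813 F175148) (tt N13865 (iv F208229)) (tt N13860 (iv F208196)) (tt N9808 F175149) (tt N13863 (iv F208217)) (tt N9855 F175150) (tt N9837 F175151) (tt N9806 (iv D41899)))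
theorem Q11747 : ∀ i, i < 11747 → P i := stepQ 11746 Q11746 (allL N11746 (tt N10125 F202072) (tt N10077 F175158) (tt N11746 F175159) (tt N9808 F175160) (tt N10104 F202073) (tt N13865 (iv F208230)) (tt N11746 F175161) (tt N9856 F175162) (tt N13866 D46636) (tt N9807 (iv D41901)))
theorem Q11748 : ∀ i, i < 11748 → P i := stepQ 11747 Q11747 (allL N11747 (tt N11669 (iv F206295)) (tt N9814 F175163) (tt N13856 (iv F208168)) (tt N10605 F205949) (tt N11747 F175164) (tt N9809 (iv D41902)) (tt N10606 F205950) (tt N11672 F206512) (tt N10661 F205951) (tt N9840 F175166))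
theorem Q11749 : ∀ i, i < 11749 → P i := stepQ 11748 Q11748 (allL N11748 (tt N11444 (iv F206515)) (tt N9815 F175167) (tt N13857 (iv F208177)) (tt N10611 F205518) (tt N9811 F175168) (tt N11672 (iv F206510)) (tt N9858 F175169) (tt N9809 (iv D41903)) (tt N13867 D46637) (tt N9841 F175170))
theorem Q11750 : ∀ i, i < 11750 → P i := stepQ 11749 Q11749 (allL N11749 (tt N11401 F206298) (tt N9816 F175171) (tt N13858 (iv F208185)) (tt N10659 F206132) (tt N9812 F175172) (tt N10661 F206133) (tt N9810 F175173) (tt N13867 (iv F208246)) (tt N9809 (iv D41904)) (tt N13868 D46638))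
theorem Q11751 : ∀ i, i < 11751 → P i := stepQ 11750 Q11750 (allL N11750 (tt N11396 (iv F206320)) (tt N9817 F175174) (tt N13869 D46639) (tt N9810 (iv D41905)) (tt N11750 F175175) (tt N9842 F205522) (tt N10659 F205523) (tt N9860 F175177) (tt N9840 F205524) (tt N13870 D46640))
theorem Q11752 : ∀ i, i < 11752 → P i := stepQ 11751 Q11751 (allL N11751 (tt N11402 (iv F206814)) (tt N9818 F175178) (tt N13860 (iv F208195)) (tt N13870 (iv F208265)) (tt N9813 F175179) (tt N10633 F175180) (tt N13868 (iv F208253)) (tt N9861 F175181) (tt N9844 F175182) (tt N9810 (iv D41906)))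
theorem Q11753 : ∀ i, i < 11753 → P i := stepQ 11752 Q11752 (allL N11752 (tt N11403 (iv F206494)) (tt N9819 F175183) (tt N13861 (iv F208202)) (tt N11752 F175184) (tt N13867 (iv F208243)) (tt N11752 F175185) (tt N9862 F175186) (tt N9812 F175187) (tt N9811 (iv D41907)) (tt N11431 F206493))
theorem Q11754 : ∀ i, i < 11754 → P i := stepQ 11753 Q11753 (allL N11753 (tt N11398 F206489) (tt N9820 F175188) (tt N13863 (iv F208215)) (tt N11753 F175189) (tt N13868 (iv F208251)) (tt N11753 F175190) (tt N9813 F175191) (tt N11431 (iv F206490)) (tt N9845 F175192) (tt N9812 (iv D41908)))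
theorem Q11755 : ∀ i, i < 11755 → P i := stepQ 11754 Q11754 (allL N11754 (tt N11754 F175203) (tt N13867 (iv F208241)) (tt N10087 F175204) (tt N10627 F205805) (tt N9819 F175205) (tt N10667 F206134) (tt N9866 F175206) (tt N9816 F175207) (tt N9815 (iv D41911)) (tt N10687 F205806))
theorem Q11756 : ∀ i, i < 11756 → P i := stepQ 11755 Q11755 (allL N11755 (tt N11755 F175211) (tt N13868 (iv F208249)) (tt N10089 F175212) (tt N10666 F206135) (tt N9820 F175213) (tt N10668 F206136) (tt N9818 F175214) (tt N10687 F205822) (tt N9846 F175215) (tt N9816 (iv D41913)))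
theorem Q11757 : ∀ i, i < 11757 → P i := stepQ 11756 Q11756 (allL N11756 (tt N11756 F175221) (tt N13870 (iv F208264)) (tt N10136 F205818) (tt N9818 F175222) (tt N11756 F175223) (tt N9846 F205819) (tt N10666 F205820) (tt N9870 F175225) (tt N10668 F206218) (tt N9817 (iv D41915)))
theorem Q11758 : ∀ i, i < 11758 → P i := stepQ 11757 Q11757 (allL N11757 (tt N11757 F175226) (tt N11431 F206491) (tt N10092 F175227) (tt N11757 F175228) (tt N10687 F205487) (tt N11757 F175229) (tt N9871 F175230) (tt N9820 F175231) (tt N9848 F175232) (tt N9819 (iv D41916)))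
theorem Q11759 : ∀ i, i < 11759 → P i := stepQ 11758 Q11758 (allL N11758 (tt N10093 F175233) (tt N9823 F175234) (tt N11758 F175235) (tt N10910 F197113) (tt N9821 (iv D41917)) (tt N10635 F175236) (tt N13871 D46641) (tt N9872 F175237) (tt N13872 D46642) (tt N10940 F197114))
theorem Q11760 : ∀ i, i < 11760 → P i := stepQ 11759 Q11759 (allL N11759 (tt N10094 F175238) (tt N9824 F175239) (tt N11759 F175240) (tt N11759 F175241) (tt N13871 (iv F208275)) (tt N11759 F175242) (tt N9821 (iv D41918)) (tt N11440 (iv F206368)) (tt N11393 F206369) (tt N11590 F206835))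
theorem Q11761 : ∀ i, i < 11761 → P i := stepQ 11760 Q11760 (allL N11760 (tt N10095 F175243) (tt N9825 F175244) (tt N11760 F175245) (tt N11407 (iv F206288)) (tt N13872 (iv F208283)) (tt N9822 F175246) (tt N11393 (iv F206370)) (tt N9874 F175247) (tt N9821 (iv D41919)) (tt N13873 D46643))
theorem Q11762 : ∀ i, i < 11762 → P i := stepQ 11761 Q11761 (allL N11761 (tt N10076 (iv F201653)) (tt N9826 F175249) (tt N11416 F206290) (tt N9822 (iv D41920)) (tt N10062 F201346) (tt N11407 (iv F206289)) (tt N11761 F175250) (tt N9875 F175251) (tt N11761 F175252) (tt N13874 D46644))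
theorem Q11763 : ∀ i, i < 11763 → P i := stepQ 11762 Q11762 (allL N11762 (tt N10096 F175253) (tt N9827 F175254) (tt N11762 F175255) (tt N13874 (iv F208298)) (tt N10637 F175256) (tt N13873 (iv F208291)) (tt N11762 F175257) (tt N9876 F175258) (tt N10658 F201345) (tt N9822 (iv D41921)))
theorem Q11764 : ∀ i, i < 11764 → P i := stepQ 11763 Q11763 (allL N11763 (tt N9831 F175259) (tt N10910 F196418) (tt N10606 F205944) (tt N9823 (iv D41922)) (tt N11763 F175260) (tt N10629 F196420) (tt N13856 (iv F208171)) (tt N9877 F175262) (tt N10663 F205945) (tt N10650 F196421))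
theorem Q11765 : ∀ i, i < 11765 → P i := stepQ 11764 Q11764 (allL N11764 (tt N9832 F175263) (tt N13871 (iv F208272)) (tt N9828 F175264) (tt N13856 (iv F208169)) (tt N9824 F175265) (tt N13854 (iv F208155)) (tt N9823 (iv D41923)) (tt N11441 (iv F206616)) (tt N11394 F206615) (tt N11614 F206833))
theorem Q11766 : ∀ i, i < 11766 → P i := stepQ 11765 Q11765 (allL N11765 (tt N9833 F175266) (tt N13872 (iv F208281)) (tt N9829 F175267) (tt N13875 D46645) (tt N9825 F175268) (tt N10638 F175269) (tt N11394 F206614) (tt N9879 F175270) (tt N9823 (iv D41924)) (tt N13876 D46646))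
theorem Q11767 : ∀ i, i < 11767 → P i := stepQ 11766 Q11766 (allL N11766 (tt N9837 F175284) (tt N13873 (iv F208288)) (tt N9830 F175285) (tt N11408 F206440) (tt N13876 (iv F208312)) (tt N9827 F175286) (tt N11395 F206465) (tt N9883 F175287) (tt N10956 F202066) (tt N9825 (iv D41928)))
theorem Q11768 : ∀ i, i < 11768 → P i := stepQ 11767 Q11767 (allL N11767 (tt N9838 F175288) (tt N10062 F201353) (tt N11404 (iv F206328)) (tt N10058 F201354) (tt N9826 (iv D41929)) (tt N13877 D46647) (tt N11767 F175290) (tt N9884 F175291) (tt N11767 F175292) (tt N13878 D46648))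
theorem Q11769 : ∀ i, i < 11769 → P i := stepQ 11768 Q11768 (allL N11768 (tt N9839 F175293) (tt N13874 (iv F208296)) (tt N11405 F206437) (tt N9827 F175294) (tt N13878 (iv F208328)) (tt N11408 (iv F206438)) (tt N11768 F175295) (tt N9885 F175296) (tt N13879 D46649) (tt N9826 (iv D41930)))
theorem Q11770 : ∀ i, i < 11770 → P i := stepQ 11769 Q11769 (allL N11769 (tt N9840 F175297) (tt N11769 F175298) (tt N13854 (iv F208152)) (tt N11667 (iv F206308)) (tt N11769 F175299) (tt N9828 (iv D41931)) (tt N10643 F175300) (tt N11443 F206318) (tt N11396 F206319) (tt N11669 (iv F206311)))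
theorem Q11771 : ∀ i, i < 11771 → P i := stepQ 11770 Q11770 (allL N11770 (tt N9844 F175313) (tt N11770 F175314) (tt N13876 (iv F208311)) (tt N11400 F206564) (tt N9830 F175315) (tt N10646 F175316) (tt N11397 F206573) (tt N9890 F175317) (tt N11402 F206813) (tt N9829 (iv D41935)))
theorem Q11772 : ∀ i, i < 11772 → P i := stepQ 11771 Q11771 (allL N11771 (tt N13856 (iv F208166)) (tt N10112 F175327) (tt N11669 (iv F206325)) (tt N9832 F175328) (tt N11771 F175329) (tt N11614 F206324) (tt N9831 (iv D41938)) (tt N13880 D46650) (tt N13881 D46651) (tt N13854 (iv F208156)))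
theorem Q11773 : ∀ i, i < 11773 → P i := stepQ 11772 Q11772 (allL N11772 (tt N10663 F205605) (tt N10113 F175330) (tt N10645 F205606) (tt N13882 D46652) (tt N11772 F175331) (tt N10649 F175332) (tt N13881 (iv F208351)) (tt N9893 F175333) (tt N9831 (iv D41939)) (tt N13883 D46653))
theorem Q11774 : ∀ i, i < 11774 → P i := stepQ 11773 Q11773 (allL N11773 (tt N13854 (iv F208150)) (tt N10114 F175334) (tt N9840 F175335) (tt N11614 (iv F206322)) (tt N11773 F175336) (tt N9832 (iv D41940)) (tt N10650 F175337) (tt N13851 (iv F208129)) (tt N13869 (iv F208262)) (tt N13856 (iv F208172)))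
theorem Q11775 : ∀ i, i < 11775 → P i := stepQ 11774 Q11774 (allL N11774 (tt N11441 F206617) (tt N10115 F175338) (tt N9841 F175339) (tt N13880 (iv F208341)) (tt N9834 F175340) (tt N13851 (iv F208127)) (tt N9895 F175341) (tt N9832 (iv D41941)) (tt N10683 F205515) (tt N13857 (iv F208182)))
theorem Q11776 : ∀ i, i < 11776 → P i := stepQ 11775 Q11775 (allL N11775 (tt N11394 (iv F206613)) (tt N10116 F175342) (tt N9842 F175343) (tt N13884 D46654) (tt N9835 F175344) (tt N13869 (iv F208259)) (tt N9833 F175345) (tt N10683 F205519) (tt N9832 (iv D41942)) (tt N13885 D46655))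
theorem Q11777 : ∀ i, i < 11777 → P i := stepQ 11776 Q11776 (allL N11776 (tt N13875 (iv F208303)) (tt N10117 F175346) (tt N13886 D46656) (tt N9833 (iv D41943)) (tt N13887 D46657) (tt N10652 F175347) (tt N13884 (iv F208368)) (tt N9897 F175348) (tt N13882 (iv F208357)) (tt N13888 D46658))
theorem Q11778 : ∀ i, i < 11778 → P i := stepQ 11777 Q11777 (allL N11777 (tt N13876 (iv F208310)) (tt N10118 F175349) (tt N9844 F175350) (tt N13888 (iv F208391)) (tt N9837 F175351) (tt N10653 F175352) (tt N13885 (iv F208374)) (tt N9898 F175353) (tt N13860 (iv F208199)) (tt N9833 (iv D41944)))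
theorem Q11779 : ∀ i, i < 11779 → P i := stepQ 11778 Q11778 (allL N11778 (tt N11395 (iv F206466)) (tt N10121 F175363) (tt N9845 F175364) (tt N11391 F206467) (tt N13885 (iv F208373)) (tt N11778 F175365) (tt N9837 F175366) (tt N11430 F206468) (tt N13863 (iv F208219)) (tt N9835 (iv D41947)))
theorem Q11780 : ∀ i, i < 11780 → P i := stepQ 11779 Q11779 (allL N11779 (tt N10963 F205322) (tt N10122 F175367) (tt N10935 F205323) (tt N13887 (iv F208387)) (tt N9836 (iv D41948)) (tt N13889 D46659) (tt N10937 F205324) (tt N9902 F175368) (tt N11779 F175369) (tt N13890 D46660))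
theorem Q11781 : ∀ i, i < 11781 → P i := stepQ 11780 Q11780 (allL N11780 (tt N11408 F206439) (tt N10123 F175370) (tt N11390 (iv F206478)) (tt N9837 F175371) (tt N13890 (iv F208403)) (tt N9839 F175372) (tt N11391 F206476) (tt N9903 F175373) (tt N13891 D46661) (tt N9836 (iv D41949)))
theorem Q11782 : ∀ i, i < 11782 → P i := stepQ 11781 Q11781 (allL N11781 (tt N13877 (iv F208317)) (tt N10124 F175374) (tt N13798 (iv F207757)) (tt N10657 F175375) (tt N13889 (iv F208397)) (tt N9838 (iv D41950)) (tt N13892 D46662) (tt N9904 F175376) (tt N11781 F175377) (tt N13893 D46663))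
theorem Q11783 : ∀ i, i < 11783 → P i := stepQ 11782 Q11782 (allL N11782 (tt N13878 (iv F208324)) (tt N10125 F175378) (tt N13799 (iv F207764)) (tt N10658 F175379) (tt N9839 F175380) (tt N13893 (iv F208419)) (tt N11782 F175381) (tt N9905 F175382) (tt N13894 D46664) (tt N9838 (iv D41951)))
theorem Q11784 : ∀ i, i < 11784 → P i := stepQ 11783 Q11783 (allL N11783 (tt N13879 (iv F208331)) (tt N10126 F175383) (tt N13800 (iv F207771)) (tt N13866 (iv F208235)) (tt N13894 (iv F208422)) (tt N13891 (iv F208409)) (tt N11783 F175384) (tt N9906 F175385) (tt N9839 (iv D41952)) (tt N11783 F175386))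
theorem Q11785 : ∀ i, i < 11785 → P i := stepQ 11784 Q11784 (allL N11784 (tt N11397 (iv F206574)) (tt N9846 F175400) (tt N13885 (iv F208372)) (tt N10633 F205525) (tt N9845 F175401) (tt N13870 (iv F208267)) (tt N9844 F175402) (tt N10684 F205526) (tt N13868 (iv F208255)) (tt N9842 (iv D41957)))
theorem Q11786 : ∀ i, i < 11786 → P i := stepQ 11785 Q11785 (allL N11785 (tt N10649 F205566) (tt N10911 F205567) (tt N9843 (iv D41958)) (tt N13886 (iv F208377)) (tt N10631 F205568) (tt N10663 F175403) (tt N10630 F205569) (tt N9912 F175404) (tt N10629 F205570) (tt N13895 D46665))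
theorem Q11787 : ∀ i, i < 11787 → P i := stepQ 11786 Q11786 (allL N11786 (tt N11400 (iv F206563)) (tt N9847 F175405) (tt N13895 (iv F208428)) (tt N9844 F175406) (tt N10634 F205577) (tt N10664 F175407) (tt N10633 F205578) (tt N9913 F175408) (tt N10662 F205579) (tt N9843 (iv D41959)))
theorem Q11788 : ∀ i, i < 11788 → P i := stepQ 11787 Q11787 (allL N11787 (tt N11621 (iv F206416)) (tt N10191 F175552) (tt N13845 (iv F208071)) (tt N9850 F175553) (tt N11787 F175554) (tt N13896 D46666) (tt N9849 (iv D41993)) (tt N13897 D46667) (tt N13898 D46668) (tt N9892 F175555))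
theorem Q11789 : ∀ i, i < 11789 → P i := stepQ 11788 Q11788 (allL N11788 (tt N11619 F206837) (tt N10192 F175556) (tt N13846 (iv F208080)) (tt N13899 D46669) (tt N11788 F175557) (tt N10672 F175558) (tt N13898 (iv F208453)) (tt N13855 (iv F208165)) (tt N9849 (iv D41994)) (tt N13900 D46670))
theorem Q11790 : ∀ i, i < 11790 → P i := stepQ 11789 Q11789 (allL N11789 (tt N11622 (iv F206819)) (tt N10193 F175559) (tt N9857 F175560) (tt N13896 (iv F208437)) (tt N9926 F175561) (tt N9850 (iv D41995)) (tt N10673 F175562) (tt N13901 D46671) (tt N13902 D46672) (tt N9894 F175563))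
theorem Q11791 : ∀ i, i < 11791 → P i := stepQ 11790 Q11790 (allL N11790 (tt N11623 (iv F206812)) (tt N10194 F175564) (tt N9858 F175565) (tt N13897 (iv F208444)) (tt N9852 F175566) (tt N13901 (iv F208469)) (tt N13857 (iv F208181)) (tt N9850 (iv D41996)) (tt N13903 D46673) (tt N9895 F175567))
theorem Q11792 : ∀ i, i < 11792 → P i := stepQ 11791 Q11791 (allL N11791 (tt N11083 F202758) (tt N10195 F175568) (tt N9859 F175569) (tt N13904 D46674) (tt N9853 F175570) (tt N13902 (iv F208475)) (tt N9851 F175571) (tt N13903 (iv F208481)) (tt N9850 (iv D41997)) (tt N13905 D46675))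
theorem Q11793 : ∀ i, i < 11793 → P i := stepQ 11792 Q11792 (allL N11792 (tt N11077 F202759) (tt N10196 F175572) (tt N13906 D46676) (tt N9851 (iv D41998)) (tt N13907 D46677) (tt N10676 F175573) (tt N13904 (iv F208484)) (tt N13859 (iv F208192)) (tt N13899 (iv F208458)) (tt N13908 D46678))
theorem Q11794 : ∀ i, i < 11794 → P i := stepQ 11793 Q11793 (allL N11793 (tt N11084 F202760) (tt N10197 F175574) (tt N9861 F175575) (tt N13908 (iv F208500)) (tt N9855 F175576) (tt N10677 F175577) (tt N13905 (iv F208489)) (tt N13860 (iv F208198)) (tt N9898 F175578) (tt N9851 (iv D41999)))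
theorem Q11795 : ∀ i, i < 11795 → P i := stepQ 11794 Q11794 (allL N11794 (tt N11085 F202862) (tt N10198 F175579) (tt N9862 F175580) (tt N13909 D46679) (tt N13903 (iv F208480)) (tt N9931 F175581) (tt N13861 (iv F208204)) (tt N9853 F175582) (tt N9852 (iv D42000)) (tt N13910 D46680))
theorem Q11796 : ∀ i, i < 11796 → P i := stepQ 11795 Q11795 (allL N11795 (tt N10272 F202863) (tt N10199 F175583) (tt N11795 F175584) (tt N9853 (iv D42001)) (tt N13911 D46681) (tt N9932 F175585) (tt N9854 F175586) (tt N13909 (iv F208506)) (tt N11795 F175587) (tt N13912 D46682))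
theorem Q11797 : ∀ i, i < 11797 → P i := stepQ 11796 Q11796 (allL N11796 (tt N11086 F202840) (tt N10200 F175588) (tt N9863 F175589) (tt N13912 (iv F208523)) (tt N13905 (iv F208488)) (tt N9933 F175590) (tt N9855 F175591) (tt N13910 (iv F208513)) (tt N9901 F175592) (tt N9853 (iv D42002)))
theorem Q11798 : ∀ i, i < 11798 → P i := stepQ 11797 Q11797 (allL N11797 (tt N10269 F202864) (tt N10201 F175593) (tt N11797 F175594) (tt N13907 (iv F208496)) (tt N9854 (iv D42003)) (tt N10241 F202865) (tt N13911 (iv F208518)) (tt N13864 (iv F208224)) (tt N11797 F175595) (tt N13913 D46683))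
theorem Q11799 : ∀ i, i < 11799 → P i := stepQ 11798 Q11798 (allL N11798 (tt N10273 F202839) (tt N10202 F175596) (tt N11798 F175597) (tt N9855 F175598) (tt N13913 (iv F208529)) (tt N9856 F175599) (tt N13912 (iv F208525)) (tt N13865 (iv F208231)) (tt N13914 D46684) (tt N9854 (iv D42004)))
theorem Q11800 : ∀ i, i < 11800 → P i := stepQ 11799 Q11799 (allL N11799 (tt N10274 F202841) (tt N10205 F175609) (tt N11799 F175610) (tt N9906 F175611) (tt N10243 F202842) (tt N13914 (iv F208535)) (tt N9936 F175612) (tt N13866 (iv F208238)) (tt N9856 (iv D42007)) (tt N11799 F175613))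
theorem Q11801 : ∀ i, i < 11801 → P i := stepQ 11800 Q11800 (allL N11800 (tt N11676 (iv F206743)) (tt N9864 F175614) (tt N13901 (iv F208467)) (tt N13848 (iv F208099)) (tt N9937 F175615) (tt N9858 F175616) (tt N13915 D46685) (tt N9857 (iv D42008)) (tt N13916 D46686) (tt N9907 F175617))
theorem Q11802 : ∀ i, i < 11802 → P i := stepQ 11801 Q11801 (allL N11801 (tt N11462 F206738) (tt N9865 F175618) (tt N13902 (iv F208473)) (tt N13917 D46687) (tt N9938 F175619) (tt N9859 F175620) (tt N10681 F175621) (tt N13916 (iv F208551)) (tt N9857 (iv D42009)) (tt N13918 D46688))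
theorem Q11803 : ∀ i, i < 11803 → P i := stepQ 11802 Q11802 (allL N11802 (tt N11464 F206808) (tt N9866 F175622) (tt N13903 (iv F208479)) (tt N13919 D46689) (tt N9862 F175623) (tt N13916 (iv F208549)) (tt N13867 (iv F208245)) (tt N9859 F175624) (tt N9858 (iv D42010)) (tt N13920 D46690))
theorem Q11804 : ∀ i, i < 11804 → P i := stepQ 11803 Q11803 (allL N11803 (tt N11457 F206816) (tt N9867 F175625) (tt N13921 D46691) (tt N9859 (iv D42011)) (tt N11803 F175626) (tt N13917 (iv F208554)) (tt N9860 F175627) (tt N13919 (iv F208570)) (tt N13850 (iv F208121)) (tt N13922 D46692))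
theorem Q11805 : ∀ i, i < 11805 → P i := stepQ 11804 Q11804 (allL N11804 (tt N11465 (iv F206807)) (tt N9868 F175628) (tt N13905 (iv F208487)) (tt N13922 (iv F208588)) (tt N9863 F175629) (tt N13918 (iv F208562)) (tt N9861 F175630) (tt N13920 (iv F208579)) (tt N9911 F175631) (tt N9859 (iv D42012)))
theorem Q11806 : ∀ i, i < 11806 → P i := stepQ 11805 Q11805 (allL N11805 (tt N11454 F206817) (tt N13923 D46693) (tt N9860 (iv D42013)) (tt N13906 (iv F208492)) (tt N11805 F175632) (tt N10683 F175633) (tt N13921 (iv F208583)) (tt N13869 (iv F208261)) (tt N13851 (iv F208130)) (tt N13924 D46694))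
theorem Q11807 : ∀ i, i < 11807 → P i := stepQ 11806 Q11806 (allL N11806 (tt N11458 F206815) (tt N9870 F175634) (tt N13924 (iv F208599)) (tt N9861 F175635) (tt N11806 F175636) (tt N10684 F175637) (tt N13922 (iv F208590)) (tt N13870 (iv F208269)) (tt N13925 D46695) (tt N9860 (iv D42014)))
theorem Q11808 : ∀ i, i < 11808 → P i := stepQ 11807 Q11807 (allL N11807 (tt N11450 (iv F206495)) (tt N9871 F175638) (tt N13910 (iv F208510)) (tt N11807 F175639) (tt N13920 (iv F208577)) (tt N9944 F175640) (tt N11431 F206492) (tt N9863 F175641) (tt N9914 F175642) (tt N9862 (iv D42015)))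
theorem Q11809 : ∀ i, i < 11809 → P i := stepQ 11808 Q11808 (allL N11808 (tt N11808 F175643) (tt N13915 (iv F208538)) (tt N10214 F175644) (tt N10621 F205891) (tt N9945 F175645) (tt N10623 F205892) (tt N9864 (iv D42016)) (tt N10622 F205893) (tt N10740 F205894) (tt N9915 F175647))
theorem Q11810 : ∀ i, i < 11810 → P i := stepQ 11809 Q11809 (allL N11809 (tt N11809 F175648) (tt N13916 (iv F208546)) (tt N10215 F175649) (tt N10739 F206394) (tt N9946 F175650) (tt N9866 F175651) (tt N10740 F206395) (tt N9865 F175652) (tt N9864 (iv D42017)) (tt N13926 D46696))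
theorem Q11811 : ∀ i, i < 11811 → P i := stepQ 11810 Q11810 (allL N11810 (tt N11810 F175653) (tt N13917 (iv F208553)) (tt N10286 F205488) (tt N9865 (iv D42018)) (tt N10022 F205489) (tt N9867 F175654) (tt N9916 F205490) (tt N10739 F205491) (tt N9915 F205492) (tt N13927 D46697))
theorem Q11812 : ∀ i, i < 11812 → P i := stepQ 11811 Q11811 (allL N11811 (tt N11811 F175656) (tt N13918 (iv F208560)) (tt N10217 F175657) (tt N13927 (iv F208620)) (tt N9948 F175658) (tt N9868 F175659) (tt N10686 F175660) (tt N13926 (iv F208616)) (tt N9918 F175661) (tt N9865 (iv D42019)))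
theorem Q11813 : ∀ i, i < 11813 → P i := stepQ 11812 Q11812 (allL N11812 (tt N11812 F175662) (tt N13919 (iv F208566)) (tt N10968 F206399) (tt N9866 (iv D42020)) (tt N11812 F175663) (tt N10739 F206400) (tt N10627 F206401) (tt N9867 F175664) (tt N10625 F206402) (tt N10749 F206403))
theorem Q11814 : ∀ i, i < 11814 → P i := stepQ 11813 Q11813 (allL N11813 (tt N11813 F175665) (tt N13920 (iv F208575)) (tt N10219 F175666) (tt N10749 F205494) (tt N9871 F175667) (tt N13926 (iv F208614)) (tt N10687 F205495) (tt N9868 F175668) (tt N9919 F175669) (tt N9866 (iv D42021)))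
theorem Q11815 : ∀ i, i < 11815 → P i := stepQ 11814 Q11814 (allL N11814 (tt N11814 F175670) (tt N13928 D46698) (tt N9867 (iv D42022)) (tt N10220 F175671) (tt N11814 F175672) (tt N10286 F205833) (tt N9869 F175673) (tt N10968 F205834) (tt N10135 F205835) (tt N13929 D46699))
theorem Q11816 : ∀ i, i < 11816 → P i := stepQ 11815 Q11815 (allL N11815 (tt N11815 F175674) (tt N13922 (iv F208587)) (tt N13929 (iv F208633)) (tt N9868 F175675) (tt N11815 F175676) (tt N13927 (iv F208622)) (tt N9870 F175677) (tt N10749 F206406) (tt N10746 F206407) (tt N9867 (iv D42023)))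
theorem Q11817 : ∀ i, i < 11817 → P i := stepQ 11816 Q11816 (allL N11816 (tt N13930 D46700) (tt N9869 (iv D42024)) (tt N13923 (iv F208593)) (tt N10222 F175678) (tt N11816 F175679) (tt N10129 F205827) (tt N13928 (iv F208629)) (tt N10128 F205828) (tt N10127 F205829) (tt N13931 D46701))
theorem Q11818 : ∀ i, i < 11818 → P i := stepQ 11817 Q11817 (allL N11817 (tt N11817 F175681) (tt N13931 (iv F208646)) (tt N9870 F175682) (tt N10223 F175683) (tt N11817 F175684) (tt N10137 F205836) (tt N13929 (iv F208637)) (tt N10136 F205837) (tt N13932 D46702) (tt N9869 (iv D42025)))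
theorem Q11819 : ∀ i, i < 11819 → P i := stepQ 11818 Q11818 (allL N11818 (tt N11818 F175686) (tt N13925 (iv F208603)) (tt N13932 (iv F208652)) (tt N9923 F175687) (tt N11818 F175688) (tt N10687 F175689) (tt N10746 F205935) (tt N10668 F205936) (tt N9870 (iv D42026)) (tt N10667 F205937))
theorem Q11820 : ∀ i, i < 11820 → P i := stepQ 11819 Q11819 (allL N11819 (tt N10225 F175690) (tt N9877 F175691) (tt N10626 (iv F206050)) (tt N9872 (iv D42027)) (tt N11819 F175692) (tt N10688 F175693) (tt N13933 D46703) (tt N10910 F197094) (tt N10736 F205941) (tt N10943 F197095))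
theorem Q11821 : ∀ i, i < 11821 → P i := stepQ 11820 Q11820 (allL N11820 (tt N10226 F175694) (tt N9878 F175695) (tt N11820 F175696) (tt N13933 (iv F208662)) (tt N9873 F175697) (tt N13934 D46704) (tt N9872 (iv D42028)) (tt N13935 D46705) (tt N13936 D46706) (tt N11593 F206831))
theorem Q11822 : ∀ i, i < 11822 → P i := stepQ 11821 Q11821 (allL N11821 (tt N10227 F175698) (tt N9879 F175699) (tt N11821 F175700) (tt N13937 D46707) (tt N9874 F175701) (tt N10690 F175702) (tt N13936 (iv F208685)) (tt N13872 (iv F208286)) (tt N9872 (iv D42029)) (tt N13938 D46708))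
theorem Q11823 : ∀ i, i < 11823 → P i := stepQ 11822 Q11822 (allL N11822 (tt N10228 F175703) (tt N9880 F175704) (tt N11822 F175705) (tt N11822 F175706) (tt N13935 (iv F208677)) (tt N9959 F175707) (tt N11440 (iv F206367)) (tt N9873 (iv D42030)) (tt N11445 (iv F206375)) (tt N11594 F206829))
theorem Q11824 : ∀ i, i < 11824 → P i := stepQ 11823 Q11823 (allL N11823 (tt N10229 F175708) (tt N9881 F175709) (tt N11823 F175710) (tt N11472 (iv F206373)) (tt N13936 (iv F208684)) (tt N9960 F175711) (tt N9874 F175712) (tt N11445 F206371) (tt N9873 (iv D42031)) (tt N13939 D46709))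
theorem Q11825 : ∀ i, i < 11825 → P i := stepQ 11824 Q11824 (allL N11824 (tt N10203 (iv F202454)) (tt N9882 F175714) (tt N11421 (iv F206282)) (tt N9874 (iv D42032)) (tt N13940 D46710) (tt N9875 F175715) (tt N11472 F206285) (tt N11407 F206286) (tt N11824 F175716) (tt N13941 D46711))
theorem Q11826 : ∀ i, i < 11826 → P i := stepQ 11825 Q11825 (allL N11825 (tt N10230 F175717) (tt N9883 F175718) (tt N11825 F175719) (tt N13941 (iv F208716)) (tt N13938 (iv F208695)) (tt N9876 F175720) (tt N13939 (iv F208703)) (tt N13873 (iv F208293)) (tt N10727 F202158) (tt N9874 (iv D42033)))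
theorem Q11827 : ∀ i, i < 11827 → P i := stepQ 11826 Q11826 (allL N11826 (tt N10156 (iv F202453)) (tt N11413 (iv F206333)) (tt N9875 (iv D42034)) (tt N11826 F175722) (tt N10145 F202159) (tt N11421 F206284) (tt N9963 F175723) (tt N11416 (iv F206293)) (tt N11826 F175724) (tt N13942 D46712))
theorem Q11828 : ∀ i, i < 11828 → P i := stepQ 11827 Q11827 (allL N11827 (tt N10204 (iv F202446)) (tt N9885 F175731) (tt N13942 (iv F208722)) (tt N9876 F175732) (tt N10183 F202160) (tt N13941 (iv F208717)) (tt N9964 F175733) (tt N13874 (iv F208302)) (tt N13943 D46713) (tt N9875 (iv D42036)))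
theorem Q11829 : ∀ i, i < 11829 → P i := stepQ 11828 Q11828 (allL N11828 (tt N9892 F175734) (tt N13933 (iv F208660)) (tt N10617 F205942) (tt N9878 F175735) (tt N11828 F175736) (tt N13944 D46714) (tt N9877 (iv D42037)) (tt N13945 D46715) (tt N10734 F205943) (tt N11621 F206415))
theorem Q11830 : ∀ i, i < 11830 → P i := stepQ 11829 Q11829 (allL N11829 (tt N9894 F175740) (tt N13934 (iv F208668)) (tt N9886 F175741) (tt N13944 (iv F208737)) (tt N9967 F175742) (tt N9878 (iv D42039)) (tt N10693 F175743) (tt N13946 D46716) (tt N13947 D46717) (tt N11622 F206818))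
theorem Q11831 : ∀ i, i < 11831 → P i := stepQ 11830 Q11830 (allL N11830 (tt N9895 F175744) (tt N13935 (iv F208675)) (tt N9887 F175745) (tt N13945 (iv F208744)) (tt N9880 F175746) (tt N13946 (iv F208752)) (tt N11441 F206618) (tt N9878 (iv D42040)) (tt N11446 (iv F206619)) (tt N11623 F206811))
theorem Q11832 : ∀ i, i < 11832 → P i := stepQ 11831 Q11831 (allL N11831 (tt N9896 F175747) (tt N13936 (iv F208682)) (tt N9888 F175748) (tt N13948 D46718) (tt N9881 F175749) (tt N13947 (iv F208758)) (tt N9879 F175750) (tt N11446 F206621) (tt N9878 (iv D42041)) (tt N13949 D46719))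
theorem Q11833 : ∀ i, i < 11833 → P i := stepQ 11832 Q11832 (allL N11832 (tt N9897 F175751) (tt N13937 (iv F208688)) (tt N10711 F206561) (tt N9879 (iv D42042)) (tt N13950 D46720) (tt N10695 F175752) (tt N13948 (iv F208764)) (tt N13875 (iv F208308)) (tt N10718 F206562) (tt N13951 D46721))
theorem Q11834 : ∀ i, i < 11834 → P i := stepQ 11833 Q11833 (allL N11833 (tt N9898 F175753) (tt N13938 (iv F208693)) (tt N9890 F175754) (tt N13951 (iv F208781)) (tt N9883 F175755) (tt N10696 F175756) (tt N13949 (iv F208770)) (tt N13876 (iv F208315)) (tt N11084 F202774) (tt N9879 (iv D42043)))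
theorem Q11835 : ∀ i, i < 11835 → P i := stepQ 11834 Q11834 (allL N11834 (tt N9901 F175765) (tt N13939 (iv F208699)) (tt N9891 F175766) (tt N11473 F206444) (tt N13949 (iv F208769)) (tt N9974 F175767) (tt N9883 F175768) (tt N11447 F206452) (tt N11086 F202838) (tt N9881 (iv D42046)))
theorem Q11836 : ∀ i, i < 11836 → P i := stepQ 11835 Q11835 (allL N11835 (tt N9902 F175769) (tt N13940 (iv F208707)) (tt N10961 F205154) (tt N13950 (iv F208775)) (tt N9882 (iv D42047)) (tt N13952 D46722) (tt N11093 F205155) (tt N10963 F205156) (tt N11835 F175770) (tt N13953 D46723))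
theorem Q11837 : ∀ i, i < 11837 → P i := stepQ 11836 Q11836 (allL N11836 (tt N9903 F175771) (tt N13941 (iv F208714)) (tt N11406 (iv F206433)) (tt N9883 F175772) (tt N13953 (iv F208791)) (tt N9885 F175773) (tt N11473 (iv F206442)) (tt N11408 F206441) (tt N13954 D46724) (tt N9882 (iv D42048)))
theorem Q11838 : ∀ i, i < 11838 → P i := stepQ 11837 Q11837 (allL N11837 (tt N9904 F175774) (tt N10181 F202167) (tt N13801 (iv F207779)) (tt N10174 F202168) (tt N13952 (iv F208786)) (tt N9884 (iv D42049)) (tt N13955 D46725) (tt N13877 (iv F208322)) (tt N11837 F175776) (tt N13956 D46726))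
theorem Q11839 : ∀ i, i < 11839 → P i := stepQ 11838 Q11838 (allL N11838 (tt N9905 F175777) (tt N10183 F202164) (tt N13802 (iv F207786)) (tt N10175 F202165) (tt N9885 F175779) (tt N13956 (iv F208809)) (tt N9978 F175780) (tt N13878 (iv F208330)) (tt N13957 D46727) (tt N9884 (iv D42050)))
theorem Q11840 : ∀ i, i < 11840 → P i := stepQ 11839 Q11839 (allL N11839 (tt N9906 F175781) (tt N13943 (iv F208729)) (tt N13803 (iv F207793)) (tt N10274 F202837) (tt N13957 (iv F208813)) (tt N13954 (iv F208797)) (tt N9979 F175782) (tt N13879 (iv F208336)) (tt N9885 (iv D42051)) (tt N11839 F175783))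
theorem Q11841 : ∀ i, i < 11841 → P i := stepQ 11840 Q11840 (allL N11840 (tt N9907 F175784) (tt N11840 F175785) (tt N13946 (iv F208750)) (tt N11670 (iv F206544)) (tt N9980 F175786) (tt N9887 F175787) (tt N13958 D46728) (tt N9886 (iv D42052)) (tt N11448 F206543) (tt N11676 F206740))
theorem Q11842 : ∀ i, i < 11842 → P i := stepQ 11841 Q11841 (allL N11841 (tt N9908 F175788) (tt N11841 F175789) (tt N13947 (iv F208756)) (tt N11460 F206538) (tt N9981 F175790) (tt N9888 F175791) (tt N10703 F175792) (tt N11448 (iv F206540)) (tt N9886 (iv D42053)) (tt N13959 D46729))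
theorem Q11843 : ∀ i, i < 11843 → P i := stepQ 11842 Q11842 (allL N11842 (tt N9911 F175800) (tt N11842 F175801) (tt N13949 (iv F208768)) (tt N11461 F206570) (tt N9891 F175802) (tt N13959 (iv F208828)) (tt N9890 F175803) (tt N11449 (iv F206571)) (tt N11465 F206806) (tt N9888 (iv D42056)))
theorem Q11844 : ∀ i, i < 11844 → P i := stepQ 11843 Q11843 (allL N11843 (tt N9913 F175806) (tt N11843 F175807) (tt N10712 F205345) (tt N9890 F175808) (tt N11399 F205346) (tt N10707 F175809) (tt N11461 (iv F206568)) (tt N11400 F206566) (tt N13960 D46730) (tt N9889 (iv D42058)))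
theorem Q11845 : ∀ i, i < 11845 → P i := stepQ 11844 Q11844 (allL N11844 (tt N13944 (iv F208734)) (tt N10252 F175814) (tt N11675 (iv F206555)) (tt N9894 F175815) (tt N11644 F206556) (tt N9892 (iv D42060)) (tt N10709 F175816) (tt N13961 D46731) (tt N13962 D46732) (tt N13896 (iv F208439)))
theorem Q11846 : ∀ i, i < 11846 → P i := stepQ 11845 Q11845 (allL N11845 (tt N13945 (iv F208742)) (tt N10253 F175817) (tt N13852 (iv F208134)) (tt N9895 F175818) (tt N11845 F175819) (tt N13961 (iv F208845)) (tt N13880 (iv F208344)) (tt N9892 (iv D42061)) (tt N13963 D46733) (tt N13897 (iv F208447)))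
theorem Q11847 : ∀ i, i < 11847 → P i := stepQ 11846 Q11846 (allL N11846 (tt N10734 F205603) (tt N10254 F175820) (tt N10705 F205604) (tt N13964 D46734) (tt N11846 F175821) (tt N13962 (iv F208851)) (tt N9893 F175822) (tt N13963 (iv F208857)) (tt N9892 (iv D42062)) (tt N13965 D46735))
theorem Q11848 : ∀ i, i < 11848 → P i := stepQ 11847 Q11847 (allL N11847 (tt N10718 F205601) (tt N10255 F175823) (tt N10695 F205602) (tt N9893 (iv D42063)) (tt N13966 D46736) (tt N10711 F175824) (tt N13964 (iv F208861)) (tt N13882 (iv F208356)) (tt N9897 F175825) (tt N13967 D46737))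
theorem Q11849 : ∀ i, i < 11849 → P i := stepQ 11848 Q11848 (allL N11848 (tt N10737 F205607) (tt N10256 F175826) (tt N10707 F205608) (tt N13967 (iv F208876)) (tt N11848 F175827) (tt N10712 F175828) (tt N13965 (iv F208867)) (tt N13883 (iv F208363)) (tt N13900 (iv F208464)) (tt N9893 (iv D42064)))
theorem Q11850 : ∀ i, i < 11850 → P i := stepQ 11849 Q11849 (allL N11849 (tt N13946 (iv F208749)) (tt N10257 F175829) (tt N9907 F175830) (tt N13961 (iv F208843)) (tt N9993 F175831) (tt N9895 F175832) (tt N13968 D46738) (tt N9894 (iv D42065)) (tt N13969 D46739) (tt N13901 (iv F208470)))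
theorem Q11851 : ∀ i, i < 11851 → P i := stepQ 11850 Q11850 (allL N11850 (tt N13947 (iv F208755)) (tt N10258 F175833) (tt N9908 F175834) (tt N13970 D46740) (tt N9994 F175835) (tt N9896 F175836) (tt N10714 F175837) (tt N13969 (iv F208889)) (tt N9894 (iv D42066)) (tt N13971 D46741))
theorem Q11852 : ∀ i, i < 11852 → P i := stepQ 11851 Q11851 (allL N11851 (tt N11446 F206620) (tt N10259 F175838) (tt N9909 F175839) (tt N13972 D46742) (tt N9899 F175840) (tt N13969 (iv F208888)) (tt N10683 F205279) (tt N9896 F175841) (tt N9895 (iv D42067)) (tt N13973 D46743))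
theorem Q11853 : ∀ i, i < 11853 → P i := stepQ 11852 Q11852 (allL N11852 (tt N13948 (iv F208761)) (tt N10260 F175842) (tt N13974 D46744) (tt N9896 (iv D42068)) (tt N13975 D46745) (tt N13970 (iv F208891)) (tt N9897 F175843) (tt N13972 (iv F208903)) (tt N13964 (iv F208862)) (tt N13976 D46746))
theorem Q11854 : ∀ i, i < 11854 → P i := stepQ 11853 Q11853 (allL N11853 (tt N13949 (iv F208767)) (tt N10261 F175844) (tt N9911 F175845) (tt N13976 (iv F208924)) (tt N9901 F175846) (tt N13971 (iv F208896)) (tt N9898 F175847) (tt N13973 (iv F208909)) (tt N13905 (iv F208490)) (tt N9896 (iv D42069)))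
theorem Q11855 : ∀ i, i < 11855 → P i := stepQ 11854 Q11854 (allL N11854 (tt N10711 F205563) (tt N13977 D46747) (tt N9897 (iv D42070)) (tt N9912 F175848) (tt N13978 D46748) (tt N10718 F175849) (tt N13974 (iv F208912)) (tt N13886 (iv F208380)) (tt N10695 F205564) (tt N13979 D46749))
theorem Q11856 : ∀ i, i < 11856 → P i := stepQ 11855 Q11855 (allL N11855 (tt N13950 (iv F208773)) (tt N10263 F175850) (tt N13978 (iv F208936)) (tt N9902 F175851) (tt N9897 (iv D42071)) (tt N13980 D46750) (tt N13975 (iv F208921)) (tt N13887 (iv F208389)) (tt N13966 (iv F208872)) (tt N13981 D46751))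
theorem Q11857 : ∀ i, i < 11857 → P i := stepQ 11856 Q11856 (allL N11856 (tt N13951 (iv F208779)) (tt N10264 F175852) (tt N13979 (iv F208942)) (tt N9898 F175853) (tt N13981 (iv F208950)) (tt N10720 F175854) (tt N13976 (iv F208925)) (tt N13888 (iv F208393)) (tt N13982 D46752) (tt N9897 (iv D42072)))
theorem Q11858 : ∀ i, i < 11858 → P i := stepQ 11857 Q11857 (allL N11857 (tt N11447 F206451) (tt N10266 F175859) (tt N9914 F175860) (tt N11435 F206471) (tt N13973 (iv F208907)) (tt N10002 F175861) (tt N11430 (iv F206470)) (tt N9901 F175862) (tt N13910 (iv F208514)) (tt N9899 (iv D42074)))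
theorem Q11859 : ∀ i, i < 11859 → P i := stepQ 11858 Q11858 (allL N11858 (tt N11093 F205124) (tt N10267 F175863) (tt N11050 F205125) (tt N13975 (iv F208920)) (tt N9900 (iv D42075)) (tt N13983 D46753) (tt N9902 F175864) (tt N11052 F205126) (tt N11858 F175865) (tt N13984 D46754))
theorem Q11860 : ∀ i, i < 11860 → P i := stepQ 11859 Q11859 (allL N11859 (tt N11473 F206443) (tt N10268 F175866) (tt N11434 F206475) (tt N9901 F175867) (tt N13984 (iv F208962)) (tt N10004 F175868) (tt N9903 F175869) (tt N11435 (iv F206474)) (tt N13985 D46755) (tt N9900 (iv D42076)))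
theorem Q11861 : ∀ i, i < 11861 → P i := stepQ 11860 Q11860 (allL N11860 (tt N13952 (iv F208783)) (tt N10269 F175870) (tt N13804 (iv F207801)) (tt N13980 (iv F208946)) (tt N9904 F175871) (tt N9902 (iv D42077)) (tt N13986 D46756) (tt N13889 (iv F208398)) (tt N11860 F175872) (tt N13987 D46757))
theorem Q11862 : ∀ i, i < 11862 → P i := stepQ 11861 Q11861 (allL N11861 (tt N13953 (iv F208789)) (tt N10270 F175873) (tt N13805 (iv F207808)) (tt N13981 (iv F208949)) (tt N9903 F175874) (tt N13987 (iv F208977)) (tt N13984 (iv F208963)) (tt N13890 (iv F208405)) (tt N13988 D46758) (tt N9902 (iv D42078)))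
theorem Q11863 : ∀ i, i < 11863 → P i := stepQ 11862 Q11862 (allL N11862 (tt N13954 (iv F208794)) (tt N10271 F175875) (tt N13806 (iv F207815)) (tt N13914 (iv F208534)) (tt N13988 (iv F208979)) (tt N9906 F175876) (tt N13985 (iv F208969)) (tt N13891 (iv F208411)) (tt N9903 (iv D42079)) (tt N11862 F175877))
theorem Q11864 : ∀ i, i < 11864 → P i := stepQ 11863 Q11863 (allL N11863 (tt N13955 (iv F208801)) (tt N10272 F175878) (tt N13807 (iv F207822)) (tt N10726 F175879) (tt N13986 (iv F208973)) (tt N10008 F175880) (tt N9904 (iv D42080)) (tt N13989 D46759) (tt N11863 F175881) (tt N13990 D46760))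
theorem Q11865 : ∀ i, i < 11865 → P i := stepQ 11864 Q11864 (allL N11864 (tt N13956 (iv F208806)) (tt N10273 F175882) (tt N13808 (iv F207827)) (tt N10727 F175883) (tt N13987 (iv F208976)) (tt N9905 F175884) (tt N13990 (iv F208988)) (tt N13893 (iv F208420)) (tt N13991 D46761) (tt N9904 (iv D42081)))
theorem Q11866 : ∀ i, i < 11866 → P i := stepQ 11865 Q11865 (allL N11865 (tt N13957 (iv F208810)) (tt N10274 F175885) (tt N13809 (iv F207831)) (tt N13943 (iv F208730)) (tt N9906 F175886) (tt N13991 (iv F208990)) (tt N10010 F175887) (tt N13894 (iv F208424)) (tt N9905 (iv D42082)) (tt N11865 F175888))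
theorem Q11867 : ∀ i, i < 11867 → P i := stepQ 11866 Q11866 (allL N11866 (tt N13958 (iv F208816)) (tt N9915 F175889) (tt N13968 (iv F208879)) (tt N13849 F208113) (tt N10011 F175890) (tt N13850 (iv F208118)) (tt N9907 (iv D42083)) (tt N10728 F175891) (tt N13917 (iv F208557)) (tt N13915 (iv F208543)))
theorem Q11868 : ∀ i, i < 11868 → P i := stepQ 11867 Q11867 (allL N11867 (tt N11448 F206541) (tt N9916 F175892) (tt N13969 (iv F208886)) (tt N10681 F205282) (tt N10012 F175893) (tt N9909 F175894) (tt N13917 (iv F208555)) (tt N9908 F175895) (tt N9907 (iv D42084)) (tt N13992 D46762))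
theorem Q11869 : ∀ i, i < 11869 → P i := stepQ 11868 Q11868 (allL N11868 (tt N11460 F206537) (tt N9917 F175896) (tt N13993 D46763) (tt N9908 (iv D42085)) (tt N10772 F205307) (tt N9910 F175897) (tt N10730 F175898) (tt N10681 F205308) (tt N10680 F205309) (tt N13994 D46764))
theorem Q11870 : ∀ i, i < 11870 → P i := stepQ 11869 Q11869 (allL N11869 (tt N13959 (iv F208824)) (tt N9918 F175899) (tt N13971 (iv F208894)) (tt N13994 (iv F209007)) (tt N10014 F175900) (tt N9911 F175901) (tt N10731 F175902) (tt N13992 (iv F208997)) (tt N13918 (iv F208564)) (tt N9908 (iv D42086)))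
theorem Q11871 : ∀ i, i < 11871 → P i := stepQ 11870 Q11870 (allL N11870 (tt N11449 F206572) (tt N9919 F175905) (tt N13973 (iv F208906)) (tt N10682 F205283) (tt N9914 F175906) (tt N13992 (iv F208996)) (tt N10684 F205284) (tt N9911 F175907) (tt N13920 (iv F208580)) (tt N9909 (iv D42088)))
theorem Q11872 : ∀ i, i < 11872 → P i := stepQ 11871 Q11871 (allL N11871 (tt N10710 F205302) (tt N11004 F205303) (tt N9910 (iv D42089)) (tt N13974 (iv F208911)) (tt N10678 F205304) (tt N13993 (iv F209001)) (tt N9912 F175908) (tt N10675 F205305) (tt N10674 F205306) (tt N13995 D46765))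
theorem Q11873 : ∀ i, i < 11873 → P i := stepQ 11872 Q11872 (allL N11872 (tt N11461 F206569) (tt N9920 F175909) (tt N13995 (iv F209015)) (tt N9911 F175910) (tt N10685 F205311) (tt N13994 (iv F209009)) (tt N9913 F175911) (tt N10682 F205312) (tt N10733 F205313) (tt N9910 (iv D42090)))
theorem Q11874 : ∀ i, i < 11874 → P i := stepQ 11873 Q11873 (allL N11873 (tt N11032 F205558) (tt N9912 (iv D42091)) (tt N9921 F175912) (tt N13977 (iv F208928)) (tt N10914 F205559) (tt N10736 F175913) (tt N11004 F205560) (tt N10911 F205561) (tt N10688 F205562) (tt N13996 D46766))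
theorem Q11875 : ∀ i, i < 11875 → P i := stepQ 11874 Q11874 (allL N11874 (tt N10712 F205573) (tt N13996 (iv F209021)) (tt N9913 F175914) (tt N13979 (iv F208943)) (tt N11592 F205574) (tt N10737 F175915) (tt N13995 (iv F209017)) (tt N13895 (iv F208432)) (tt N11620 F206525) (tt N9912 (iv D42092)))
theorem Q11876 : ∀ i, i < 11876 → P i := stepQ 11875 Q11875 (allL N11875 (tt N13960 (iv F208832)) (tt N9923 F175916) (tt N11620 F206524) (tt N13925 (iv F208604)) (tt N10665 F205931) (tt N10738 F175917) (tt N10733 F205932) (tt N10662 F205933) (tt N9913 (iv D42093)) (tt N10660 F205934))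
theorem Q11877 : ∀ i, i < 11877 → P i := stepQ 11876 Q11876 (allL N11876 (tt N11876 F175926) (tt N13992 (iv F208993)) (tt N10288 F175927) (tt N10686 F205493) (tt N10024 F175928) (tt N9919 F175929) (tt N13927 (iv F208623)) (tt N9918 F175930) (tt N13926 (iv F208617)) (tt N9916 (iv D42096)))
theorem Q11878 : ∀ i, i < 11878 → P i := stepQ 11877 Q11877 (allL N11877 (tt N11877 F175938) (tt N13994 (iv F209006)) (tt N11025 F205531) (tt N9918 F175939) (tt N10782 F205532) (tt N9920 F175940) (tt N10744 F175941) (tt N10686 F205533) (tt N10741 F205534) (tt N9917 (iv D42099)))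
theorem Q11879 : ∀ i, i < 11879 → P i := stepQ 11878 Q11878 (allL N11878 (tt N9921 (iv D42105)) (tt N11878 F175956) (tt N11032 F205905) (tt N10296 F175957) (tt N10907 F205906) (tt N10750 F175958) (tt N10992 F205907) (tt N10904 F205908) (tt N10903 F205909) (tt N13997 D46767))
theorem Q11880 : ∀ i, i < 11880 → P i := stepQ 11879 Q11879 (allL N11879 (tt N13997 (iv F209028)) (tt N9922 F175959) (tt N13996 (iv F209022)) (tt N10297 F175960) (tt N10922 F205912) (tt N10751 F175961) (tt N11019 F205913) (tt N10919 F205914) (tt N10962 F205915) (tt N9921 (iv D42106)))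
theorem Q11881 : ∀ i, i < 11881 → P i := stepQ 11880 Q11880 (allL N11880 (tt N11642 (iv F206423)) (tt N10353 F176126) (tt N11880 F176127) (tt N9926 F176128) (tt N13998 D46768) (tt N9924 (iv D42141)) (tt N10758 F176129) (tt N13999 D46769) (tt N14000 D46770) (tt N9988 F176130))
theorem Q11882 : ∀ i, i < 11882 → P i := stepQ 11881 Q11881 (allL N11881 (tt N11643 (iv F206800)) (tt N10354 F176131) (tt N11881 F176132) (tt N9927 F176133) (tt N11881 F176134) (tt N13999 (iv F209048)) (tt N11881 F176135) (tt N9924 (iv D42142)) (tt N14001 D46771) (tt N9989 F176136))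
theorem Q11883 : ∀ i, i < 11883 → P i := stepQ 11882 Q11882 (allL N11882 (tt N11640 F206804) (tt N10355 F176137) (tt N11882 F176138) (tt N14002 D46772) (tt N11882 F176139) (tt N14000 (iv F209053)) (tt N9925 F176140) (tt N14001 (iv F209060)) (tt N9924 (iv D42143)) (tt N14003 D46773))
theorem Q11884 : ∀ i, i < 11884 → P i := stepQ 11883 Q11883 (allL N11883 (tt N11239 F203714) (tt N10356 F176141) (tt N14004 D46774) (tt N9925 (iv D42144)) (tt N14005 D46775) (tt N10761 F176142) (tt N14002 (iv F209063)) (tt N11883 F176143) (tt N9929 F176144) (tt N14006 D46776))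
theorem Q11885 : ∀ i, i < 11885 → P i := stepQ 11884 Q11884 (allL N11884 (tt N11641 F206780) (tt N10357 F176145) (tt N11884 F176146) (tt N14006 (iv F209087)) (tt N11884 F176147) (tt N10762 F176148) (tt N14003 (iv F209069)) (tt N11884 F176149) (tt N9992 F176150) (tt N9925 (iv D42145)))
theorem Q11886 : ∀ i, i < 11886 → P i := stepQ 11885 Q11885 (allL N11885 (tt N11645 (iv F206744)) (tt N10358 F176151) (tt N9937 F176152) (tt N13999 (iv F209047)) (tt N13901 (iv F208468)) (tt N9927 F176153) (tt N14007 D46777) (tt N9926 (iv D42146)) (tt N14008 D46778) (tt N9993 F176154))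
theorem Q11887 : ∀ i, i < 11887 → P i := stepQ 11886 Q11886 (allL N11886 (tt N11268 F203510) (tt N10359 F176155) (tt N9938 F176156) (tt N14009 D46779) (tt N13902 (iv F208474)) (tt N9928 F176157) (tt N10764 F176158) (tt N14008 (iv F209100)) (tt N9926 (iv D42147)) (tt N14010 D46780))
theorem Q11888 : ∀ i, i < 11888 → P i := stepQ 11887 Q11887 (allL N11887 (tt N11270 F203715) (tt N10360 F176159) (tt N9939 F176160) (tt N14011 D46781) (tt N9931 F176161) (tt N14008 (iv F209099)) (tt N11887 F176162) (tt N9928 F176163) (tt N9927 (iv D42148)) (tt N14012 D46782))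
theorem Q11889 : ∀ i, i < 11889 → P i := stepQ 11888 Q11888 (allL N11888 (tt N11263 F203716) (tt N10361 F176164) (tt N14013 D46783) (tt N9928 (iv D42149)) (tt N14014 D46784) (tt N14009 (iv F209103)) (tt N9929 F176165) (tt N14011 (iv F209114)) (tt N14002 (iv F209064)) (tt N14015 D46785))
theorem Q11890 : ∀ i, i < 11890 → P i := stepQ 11889 Q11889 (allL N11889 (tt N11271 F203717) (tt N10362 F176166) (tt N9941 F176167) (tt N14015 (iv F209131)) (tt N9933 F176168) (tt N14010 (iv F209108)) (tt N9930 F176169) (tt N14012 (iv F209120)) (tt N9997 F176170) (tt N9928 (iv D42150)))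
theorem Q11891 : ∀ i, i < 11891 → P i := stepQ 11890 Q11890 (allL N11890 (tt N11260 F203719) (tt N14016 D46786) (tt N9929 (iv D42151)) (tt N9942 F176171) (tt N14017 D46787) (tt N10768 F176172) (tt N14013 (iv F209124)) (tt N11890 F176173) (tt N14004 (iv F209076)) (tt N14018 D46788))
theorem Q11892 : ∀ i, i < 11892 → P i := stepQ 11891 Q11891 (allL N11891 (tt N10459 F203720) (tt N10364 F176174) (tt N14017 (iv F209142)) (tt N9934 F176175) (tt N9929 (iv D42152)) (tt N10420 F203721) (tt N14014 (iv F209128)) (tt N11891 F176176) (tt N14005 (iv F209084)) (tt N14019 D46789))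
theorem Q11893 : ∀ i, i < 11893 → P i := stepQ 11892 Q11892 (allL N11892 (tt N11264 F203718) (tt N10365 F176177) (tt N14018 (iv F209148)) (tt N9930 F176178) (tt N14019 (iv F209155)) (tt N10769 F176179) (tt N14015 (iv F209132)) (tt N11892 F176180) (tt N14020 D46790) (tt N9929 (iv D42153)))
theorem Q11894 : ∀ i, i < 11894 → P i := stepQ 11893 Q11893 (allL N11893 (tt N10470 F203722) (tt N10366 F176181) (tt N11893 F176182) (tt N9931 (iv D42154)) (tt N14021 D46791) (tt N13909 (iv F208505)) (tt N11893 F176183) (tt N9932 F176184) (tt N11893 F176185) (tt N14022 D46792))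
theorem Q11895 : ∀ i, i < 11895 → P i := stepQ 11894 Q11894 (allL N11894 (tt N11272 F203723) (tt N10367 F176186) (tt N9944 F176187) (tt N14022 (iv F209172)) (tt N14012 (iv F209118)) (tt N13910 (iv F208511)) (tt N11894 F176188) (tt N9933 F176189) (tt N10002 F176190) (tt N9931 (iv D42155)))
theorem Q11896 : ∀ i, i < 11896 → P i := stepQ 11895 Q11895 (allL N11895 (tt N10467 F203725) (tt N10368 F176191) (tt N11895 F176192) (tt N14014 (iv F209127)) (tt N9932 (iv D42156)) (tt N14023 D46793) (tt N9934 F176193) (tt N14021 (iv F209167)) (tt N11895 F176194) (tt N14024 D46794))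
theorem Q11897 : ∀ i, i < 11897 → P i := stepQ 11896 Q11896 (allL N11896 (tt N10471 F203724) (tt N10369 F176195) (tt N11896 F176196) (tt N9933 F176197) (tt N14024 (iv F209183)) (tt N13912 (iv F208524)) (tt N9935 F176198) (tt N14022 (iv F209174)) (tt N14025 D46795) (tt N9932 (iv D42157)))
theorem Q11898 : ∀ i, i < 11898 → P i := stepQ 11897 Q11897 (allL N11897 (tt N10468 F203726) (tt N10371 F176204) (tt N11897 F176205) (tt N14019 (iv F209154)) (tt N9935 F176206) (tt N10426 F203727) (tt N14024 (iv F209184)) (tt N11897 F176207) (tt N14026 D46796) (tt N9934 (iv D42159)))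
theorem Q11899 : ∀ i, i < 11899 → P i := stepQ 11898 Q11898 (allL N11898 (tt N10472 F203728) (tt N10372 F176208) (tt N11898 F176209) (tt N10007 F176210) (tt N14026 (iv F209194)) (tt N9936 F176211) (tt N14025 (iv F209189)) (tt N11898 F176212) (tt N9935 (iv D42160)) (tt N11898 F176213))
theorem Q11900 : ∀ i, i < 11900 → P i := stepQ 11899 Q11899 (allL N11899 (tt N11677 (iv F206742)) (tt N9945 F176228) (tt N14007 (iv F209092)) (tt N11899 F176229) (tt N13915 (iv F208540)) (tt N11899 F176230) (tt N9937 (iv D42164)) (tt N10771 F176231) (tt N14027 D46797) (tt N10011 F176232))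
theorem Q11901 : ∀ i, i < 11901 → P i := stepQ 11900 Q11900 (allL N11900 (tt N11562 F206706) (tt N9946 F176233) (tt N14008 (iv F209098)) (tt N14028 D46798) (tt N13916 (iv F208548)) (tt N9939 F176234) (tt N14027 (iv F209202)) (tt N9938 F176235) (tt N9937 (iv D42165)) (tt N14029 D46799))
theorem Q11902 : ∀ i, i < 11902 → P i := stepQ 11901 Q11901 (allL N11901 (tt N11545 F206711) (tt N9947 F176236) (tt N14030 D46800) (tt N9938 (iv D42166)) (tt N14031 D46801) (tt N9940 F176237) (tt N10773 F176238) (tt N14028 (iv F209210)) (tt N11901 F176239) (tt N14032 D46802))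
theorem Q11903 : ∀ i, i < 11903 → P i := stepQ 11902 Q11902 (allL N11902 (tt N11563 (iv F206703)) (tt N9948 F176240) (tt N14010 (iv F209107)) (tt N14032 (iv F209230)) (tt N13918 (iv F208561)) (tt N9941 F176241) (tt N10774 F176242) (tt N14029 (iv F209215)) (tt N10014 F176243) (tt N9938 (iv D42167)))
theorem Q11904 : ∀ i, i < 11904 → P i := stepQ 11903 Q11903 (allL N11903 (tt N11557 F206705) (tt N9949 F176244) (tt N14033 D46803) (tt N9939 (iv D42168)) (tt N11903 F176245) (tt N14028 (iv F209208)) (tt N11903 F176246) (tt N9940 F176247) (tt N11903 F176248) (tt N14034 D46804))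
theorem Q11905 : ∀ i, i < 11905 → P i := stepQ 11904 Q11904 (allL N11904 (tt N11564 (iv F206701)) (tt N9950 F176249) (tt N14012 (iv F209117)) (tt N14034 (iv F209241)) (tt N9944 F176250) (tt N14029 (iv F209214)) (tt N11904 F176251) (tt N9941 F176252) (tt N10016 F176253) (tt N9939 (iv D42169)))
theorem Q11906 : ∀ i, i < 11906 → P i := stepQ 11905 Q11905 (allL N11905 (tt N11553 F206710) (tt N14035 D46805) (tt N9940 (iv D42170)) (tt N14013 (iv F209123)) (tt N11905 F176254) (tt N14030 (iv F209218)) (tt N9942 F176255) (tt N14033 (iv F209237)) (tt N11905 F176256) (tt N14036 D46806))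
theorem Q11907 : ∀ i, i < 11907 → P i := stepQ 11906 Q11906 (allL N11906 (tt N11558 F206704) (tt N9952 F176257) (tt N14036 (iv F209252)) (tt N9941 F176258) (tt N11906 F176259) (tt N14032 (iv F209231)) (tt N9943 F176260) (tt N14034 (iv F209244)) (tt N14037 D46807) (tt N9940 (iv D42171)))
theorem Q11908 : ∀ i, i < 11908 → P i := stepQ 11907 Q11907 (allL N11907 (tt N14038 D46808) (tt N9942 (iv D42172)) (tt N9953 F176261) (tt N14016 (iv F209134)) (tt N11907 F176262) (tt N10779 F176263) (tt N14035 (iv F209247)) (tt N11907 F176264) (tt N11907 F176265) (tt N14039 D46809))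
theorem Q11909 : ∀ i, i < 11909 → P i := stepQ 11908 Q11908 (allL N11908 (tt N11554 F206709) (tt N14039 (iv F209269)) (tt N9943 F176266) (tt N14018 (iv F209149)) (tt N11908 F176267) (tt N10780 F176268) (tt N14036 (iv F209254)) (tt N11908 F176269) (tt N14040 D46810) (tt N9942 (iv D42173)))
theorem Q11910 : ∀ i, i < 11910 → P i := stepQ 11909 Q11909 (allL N11909 (tt N11559 (iv F206708)) (tt N9955 F176270) (tt N14040 (iv F209275)) (tt N10021 F176271) (tt N11909 F176272) (tt N10781 F176273) (tt N14037 (iv F209259)) (tt N11909 F176274) (tt N9943 (iv D42174)) (tt N11909 F176275))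
theorem Q11911 : ∀ i, i < 11911 → P i := stepQ 11910 Q11910 (allL N11910 (tt N11910 F176276) (tt N14027 (iv F209199)) (tt N10386 F176277) (tt N10880 F205538) (tt N10740 F205539) (tt N11910 F176278) (tt N9946 F176279) (tt N10743 F205540) (tt N9945 (iv D42175)) (tt N14041 D46811))
theorem Q11912 : ∀ i, i < 11912 → P i := stepQ 11911 Q11911 (allL N11911 (tt N11911 F176281) (tt N14028 (iv F209206)) (tt N14042 D46812) (tt N9946 (iv D42176)) (tt N10877 F206428) (tt N9949 F176282) (tt N10880 F206429) (tt N9947 F176283) (tt N11911 F176284) (tt N14043 D46813))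
theorem Q11913 : ∀ i, i < 11913 → P i := stepQ 11912 Q11912 (allL N11912 (tt N11912 F176285) (tt N14029 (iv F209213)) (tt N10388 F176286) (tt N14043 (iv F209297)) (tt N13926 (iv F208613)) (tt N9950 F176287) (tt N14041 (iv F209285)) (tt N9948 F176288) (tt N10024 F176289) (tt N9946 (iv D42177)))
theorem Q11914 : ∀ i, i < 11914 → P i := stepQ 11913 Q11913 (allL N11913 (tt N11913 F176290) (tt N14044 D46814) (tt N9947 (iv D42178)) (tt N10389 F176291) (tt N14045 D46815) (tt N9951 F176292) (tt N10783 F176293) (tt N14042 (iv F209293)) (tt N11913 F176294) (tt N14046 D46816))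
theorem Q11915 : ∀ i, i < 11915 → P i := stepQ 11914 Q11914 (allL N11914 (tt N11914 F176295) (tt N14031 (iv F209222)) (tt N14045 (iv F209309)) (tt N10022 F205260) (tt N9947 (iv D42179)) (tt N11914 F176296) (tt N10023 F205261) (tt N10877 F205262) (tt N11914 F176298) (tt N14047 D46817))
theorem Q11916 : ∀ i, i < 11916 → P i := stepQ 11915 Q11915 (allL N11915 (tt N11915 F176299) (tt N14032 (iv F209229)) (tt N14046 (iv F209316)) (tt N9948 F176300) (tt N14047 (iv F209322)) (tt N9952 F176301) (tt N10784 F176302) (tt N14043 (iv F209301)) (tt N14048 D46818) (tt N9947 (iv D42180)))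
theorem Q11917 : ∀ i, i < 11917 → P i := stepQ 11916 Q11916 (allL N11916 (tt N11916 F176303) (tt N11660 (iv F206789)) (tt N9949 (iv D42181)) (tt N10392 F176304) (tt N11916 F176305) (tt N14042 (iv F209291)) (tt N11916 F176306) (tt N9951 F176307) (tt N11916 F176308) (tt N14049 D46819))
theorem Q11918 : ∀ i, i < 11918 → P i := stepQ 11917 Q11917 (allL N11917 (tt N11917 F176309) (tt N14034 (iv F209240)) (tt N14049 (iv F209333)) (tt N9950 F176310) (tt N11917 F176311) (tt N14043 (iv F209299)) (tt N11917 F176312) (tt N9952 F176313) (tt N14050 D46820) (tt N9949 (iv D42182)))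
theorem Q11919 : ∀ i, i < 11919 → P i := stepQ 11918 Q11918 (allL N11918 (tt N11663 (iv F206791)) (tt N9951 (iv D42183)) (tt N14035 (iv F209245)) (tt N10394 F176314) (tt N11918 F176315) (tt N14044 (iv F209303)) (tt N9953 F176316) (tt N11660 F206790) (tt N11918 F176317) (tt N14051 D46821))
theorem Q11920 : ∀ i, i < 11920 → P i := stepQ 11919 Q11919 (allL N11919 (tt N11919 F176318) (tt N14051 (iv F209345)) (tt N9952 F176319) (tt N10395 F176320) (tt N11919 F176321) (tt N14046 (iv F209318)) (tt N9954 F176322) (tt N14049 (iv F209337)) (tt N14052 D46822) (tt N9951 (iv D42184)))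
theorem Q11921 : ∀ i, i < 11921 → P i := stepQ 11920 Q11920 (allL N11920 (tt N11920 F176323) (tt N14037 (iv F209256)) (tt N14052 (iv F209351)) (tt N10032 F176324) (tt N11920 F176325) (tt N14048 (iv F209328)) (tt N9955 F176326) (tt N14050 (iv F209342)) (tt N9952 (iv D42185)) (tt N11920 F176327))
theorem Q11922 : ∀ i, i < 11922 → P i := stepQ 11921 Q11921 (allL N11921 (tt N9953 (iv D42186)) (tt N11921 F176328) (tt N14038 (iv F209262)) (tt N10397 F176329) (tt N11921 F176330) (tt N10790 F176331) (tt N11663 F206792) (tt N11921 F176332) (tt N11921 F176333) (tt N14053 D46823))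
theorem Q11923 : ∀ i, i < 11923 → P i := stepQ 11922 Q11922 (allL N11922 (tt N14053 (iv F209355)) (tt N9954 F176334) (tt N14039 (iv F209270)) (tt N10398 F176335) (tt N11922 F176336) (tt N10791 F176337) (tt N14051 (iv F209348)) (tt N11922 F176338) (tt N14054 D46824) (tt N9953 (iv D42187)))
theorem Q11924 : ∀ i, i < 11924 → P i := stepQ 11923 Q11923 (allL N11923 (tt N11923 F176339) (tt N14054 (iv F209362)) (tt N9955 F176340) (tt N14055 D46825) (tt N11923 F176341) (tt N10792 F176342) (tt N14052 (iv F209353)) (tt N11923 F176343) (tt N9954 (iv D42188)) (tt N11923 F176344))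
theorem Q11925 : ∀ i, i < 11925 → P i := stepQ 11924 Q11924 (allL N11924 (tt N10400 F176351) (tt N9965 F176352) (tt N11334 F203467) (tt N9957 F176353) (tt N11924 F176354) (tt N14056 D46826) (tt N9956 (iv D42190)) (tt N14057 D46827) (tt N14058 D46828) (tt N11321 F203468))
theorem Q11926 : ∀ i, i < 11926 → P i := stepQ 11925 Q11925 (allL N11925 (tt N10401 F176355) (tt N9966 F176356) (tt N11337 F203469) (tt N14059 D46829) (tt N11925 F176357) (tt N10794 F176358) (tt N14058 (iv F209391)) (tt N11925 F176359) (tt N9956 (iv D42191)) (tt N14060 D46830))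
theorem Q11927 : ∀ i, i < 11927 → P i := stepQ 11926 Q11926 (allL N11926 (tt N10402 F176360) (tt N9967 F176361) (tt N11926 F176362) (tt N14056 (iv F209376)) (tt N13934 (iv F208671)) (tt N9957 (iv D42192)) (tt N10795 F176363) (tt N14061 D46831) (tt N14062 D46832) (tt N11610 (iv F206425)))
theorem Q11928 : ∀ i, i < 11928 → P i := stepQ 11927 Q11927 (allL N11927 (tt N10403 F176364) (tt N9968 F176365) (tt N11927 F176366) (tt N14057 (iv F209383)) (tt N9959 F176367) (tt N14061 (iv F209409)) (tt N11927 F176368) (tt N9957 (iv D42193)) (tt N14063 D46833) (tt N11611 F206798))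
theorem Q11929 : ∀ i, i < 11929 → P i := stepQ 11928 Q11928 (allL N11928 (tt N10404 F176369) (tt N9969 F176370) (tt N11928 F176371) (tt N14064 D46834) (tt N9960 F176372) (tt N14062 (iv F209414)) (tt N9958 F176373) (tt N14063 (iv F209421)) (tt N9957 (iv D42194)) (tt N14065 D46835))
theorem Q11930 : ∀ i, i < 11930 → P i := stepQ 11929 Q11929 (allL N11929 (tt N10405 F176374) (tt N9970 F176375) (tt N14066 D46836) (tt N9958 (iv D42195)) (tt N14067 D46837) (tt N10798 F176376) (tt N14064 (iv F209424)) (tt N11929 F176377) (tt N14059 (iv F209397)) (tt N14068 D46838))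
theorem Q11931 : ∀ i, i < 11931 → P i := stepQ 11930 Q11930 (allL N11930 (tt N10406 F176378) (tt N9971 F176379) (tt N11930 F176380) (tt N14068 (iv F209447)) (tt N9962 F176381) (tt N10799 F176382) (tt N14065 (iv F209429)) (tt N11930 F176383) (tt N10860 F203038) (tt N9958 (iv D42196)))
theorem Q11932 : ∀ i, i < 11932 → P i := stepQ 11931 Q11931 (allL N11931 (tt N10407 F176384) (tt N9972 F176385) (tt N11931 F176386) (tt N11467 F206376) (tt N14063 (iv F209419)) (tt N11445 (iv F206374)) (tt N11931 F176387) (tt N9960 F176388) (tt N9959 (iv D42197)) (tt N14069 D46839))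
theorem Q11933 : ∀ i, i < 11933 → P i := stepQ 11932 Q11932 (allL N11932 (tt N10373 (iv F203388)) (tt N9973 F176390) (tt N11481 F206378) (tt N9960 (iv D42198)) (tt N14070 D46840) (tt N11472 F206379) (tt N9961 F176391) (tt N11467 (iv F206377)) (tt N11932 F176392) (tt N14071 D46841))
theorem Q11934 : ∀ i, i < 11934 → P i := stepQ 11933 Q11933 (allL N11933 (tt N10408 F176393) (tt N9974 F176394) (tt N11933 F176395) (tt N14071 (iv F209467)) (tt N14065 (iv F209428)) (tt N13939 (iv F208702)) (tt N9962 F176396) (tt N14069 (iv F209456)) (tt N10862 F203036) (tt N9960 (iv D42199)))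
theorem Q11935 : ∀ i, i < 11935 → P i := stepQ 11934 Q11934 (allL N11934 (tt N10316 (iv F203386)) (tt N11339 F206381) (tt N9961 (iv D42200)) (tt N11934 F176398) (tt N11338 F206382) (tt N9963 F176399) (tt N11481 (iv F206380)) (tt N11934 F176400) (tt N11934 F176401) (tt N14072 D46842))
theorem Q11936 : ∀ i, i < 11936 → P i := stepQ 11935 Q11935 (allL N11935 (tt N10370 (iv F203387)) (tt N9975 F176403) (tt N11338 F203707) (tt N14067 (iv F209441)) (tt N9961 (iv D42201)) (tt N10345 F203041) (tt N14070 (iv F209461)) (tt N11935 F176404) (tt N11935 F176405) (tt N14073 D46843))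
theorem Q11937 : ∀ i, i < 11937 → P i := stepQ 11936 Q11936 (allL N11936 (tt N10374 (iv F203382)) (tt N9976 F176407) (tt N14072 (iv F209473)) (tt N9962 F176408) (tt N14073 (iv F209482)) (tt N9964 F176409) (tt N14071 (iv F209469)) (tt N11936 F176410) (tt N14074 D46844) (tt N9961 (iv D42202)))
theorem Q11938 : ∀ i, i < 11938 → P i := stepQ 11937 Q11937 (allL N11937 (tt N10317 (iv F203381)) (tt N13810 (iv F207836)) (tt N9964 F176416) (tt N11937 F176417) (tt N10305 F203043) (tt N14072 (iv F209476)) (tt N13942 (iv F208726)) (tt N11937 F176418) (tt N14075 D46845) (tt N9963 (iv D42204)))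
theorem Q11939 : ∀ i, i < 11939 → P i := stepQ 11938 Q11938 (allL N11938 (tt N10375 (iv F203384)) (tt N9979 F176430) (tt N14075 (iv F209492)) (tt N10010 F203040) (tt N10347 F203044) (tt N14074 (iv F209488)) (tt N13943 (iv F208732)) (tt N11938 F176431) (tt N9964 (iv D42207)) (tt N11938 F176432))
theorem Q11940 : ∀ i, i < 11940 → P i := stepQ 11939 Q11939 (allL N11939 (tt N9988 F176433) (tt N14056 (iv F209374)) (tt N11939 F176434) (tt N9967 F176435) (tt N14076 D46846) (tt N9965 (iv D42208)) (tt N10802 F176436) (tt N14077 D46847) (tt N14078 D46848) (tt N11642 F206424))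
theorem Q11941 : ∀ i, i < 11941 → P i := stepQ 11940 Q11940 (allL N11940 (tt N9989 F176437) (tt N14057 (iv F209381)) (tt N11940 F176438) (tt N9968 F176439) (tt N11940 F176440) (tt N14077 (iv F209506)) (tt N11940 F176441) (tt N9965 (iv D42209)) (tt N14079 D46849) (tt N11643 F206799))
theorem Q11942 : ∀ i, i < 11942 → P i := stepQ 11941 Q11941 (allL N11941 (tt N9990 F176442) (tt N14058 (iv F209388)) (tt N11941 F176443) (tt N14080 D46850) (tt N11941 F176444) (tt N14078 (iv F209510)) (tt N9966 F176445) (tt N14079 (iv F209516)) (tt N9965 (iv D42210)) (tt N14081 D46851))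
theorem Q11943 : ∀ i, i < 11943 → P i := stepQ 11942 Q11942 (allL N11942 (tt N9991 F176446) (tt N14059 (iv F209393)) (tt N14082 D46852) (tt N9966 (iv D42211)) (tt N14083 D46853) (tt N10805 F176447) (tt N14080 (iv F209518)) (tt N11942 F176448) (tt N9970 F176449) (tt N14084 D46854))
theorem Q11944 : ∀ i, i < 11944 → P i := stepQ 11943 Q11943 (allL N11943 (tt N9992 F176450) (tt N14060 (iv F209400)) (tt N11943 F176451) (tt N14084 (iv F209540)) (tt N11943 F176452) (tt N10806 F176453) (tt N14081 (iv F209523)) (tt N11943 F176454) (tt N11641 (iv F206781)) (tt N9966 (iv D42212)))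
theorem Q11945 : ∀ i, i < 11945 → P i := stepQ 11944 Q11944 (allL N11944 (tt N9993 F176455) (tt N14061 (iv F209407)) (tt N9980 F176456) (tt N14077 (iv F209505)) (tt N13946 (iv F208751)) (tt N9968 F176457) (tt N14085 D46855) (tt N9967 (iv D42213)) (tt N14086 D46856) (tt N11645 F206739))
theorem Q11946 : ∀ i, i < 11946 → P i := stepQ 11945 Q11945 (allL N11945 (tt N9994 F176458) (tt N14062 (iv F209412)) (tt N9981 F176459) (tt N14087 D46857) (tt N13947 (iv F208757)) (tt N9969 F176460) (tt N10808 F176461) (tt N14086 (iv F209552)) (tt N9967 (iv D42214)) (tt N14088 D46858))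
theorem Q11947 : ∀ i, i < 11947 → P i := stepQ 11946 Q11946 (allL N11946 (tt N9995 F176462) (tt N14063 (iv F209417)) (tt N9982 F176463) (tt N14089 D46859) (tt N9972 F176464) (tt N14086 (iv F209551)) (tt N11946 F176465) (tt N9969 F176466) (tt N9968 (iv D42215)) (tt N14090 D46860))
theorem Q11948 : ∀ i, i < 11948 → P i := stepQ 11947 Q11947 (allL N11947 (tt N9996 F176467) (tt N14064 (iv F209423)) (tt N14091 D46861) (tt N9969 (iv D42216)) (tt N14092 D46862) (tt N14087 (iv F209554)) (tt N9970 F176468) (tt N14089 (iv F209565)) (tt N14080 (iv F209519)) (tt N14093 D46863))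
theorem Q11949 : ∀ i, i < 11949 → P i := stepQ 11948 Q11948 (allL N11948 (tt N9997 F176469) (tt N14065 (iv F209426)) (tt N9984 F176470) (tt N14093 (iv F209584)) (tt N9974 F176471) (tt N14088 (iv F209558)) (tt N9971 F176472) (tt N14090 (iv F209570)) (tt N11271 F203698) (tt N9969 (iv D42217)))
theorem Q11950 : ∀ i, i < 11950 → P i := stepQ 11949 Q11949 (allL N11949 (tt N9998 F176473) (tt N11387 (iv F204545)) (tt N9970 (iv D42218)) (tt N9985 F176474) (tt N11386 F204542) (tt N10812 F176475) (tt N14091 (iv F209574)) (tt N11949 F176476) (tt N14082 (iv F209530)) (tt N14094 D46864))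
theorem Q11951 : ∀ i, i < 11951 → P i := stepQ 11950 Q11950 (allL N11950 (tt N9999 F176477) (tt N14067 (iv F209439)) (tt N11386 F203699) (tt N9975 F176478) (tt N9970 (iv D42219)) (tt N14095 D46865) (tt N14092 (iv F209581)) (tt N11950 F176479) (tt N14083 (iv F209538)) (tt N14096 D46866))
theorem Q11952 : ∀ i, i < 11952 → P i := stepQ 11951 Q11951 (allL N11951 (tt N10000 F176480) (tt N14068 (iv F209446)) (tt N14094 (iv F209588)) (tt N9971 F176481) (tt N14096 (iv F209603)) (tt N10814 F176482) (tt N14093 (iv F209585)) (tt N11951 F176483) (tt N14097 D46867) (tt N9970 (iv D42220)))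
theorem Q11953 : ∀ i, i < 11953 → P i := stepQ 11952 Q11952 (allL N11952 (tt N10002 F176488) (tt N14069 (iv F209451)) (tt N9987 F176489) (tt N11469 F206449) (tt N14090 (iv F209568)) (tt N11447 (iv F206450)) (tt N11952 F176490) (tt N9974 F176491) (tt N11272 F203700) (tt N9972 (iv D42222)))
theorem Q11954 : ∀ i, i < 11954 → P i := stepQ 11953 Q11953 (allL N11953 (tt N10003 F176492) (tt N14070 (iv F209459)) (tt N11389 F206641) (tt N14092 (iv F209580)) (tt N9973 (iv D42223)) (tt N14098 D46868) (tt N9975 F176493) (tt N11468 (iv F206642)) (tt N11953 F176494) (tt N14099 D46869))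
theorem Q11955 : ∀ i, i < 11955 → P i := stepQ 11954 Q11954 (allL N11954 (tt N10004 F176495) (tt N14071 (iv F209465)) (tt N11466 (iv F206446)) (tt N9974 F176496) (tt N14099 (iv F209616)) (tt N11473 F206445) (tt N9976 F176497) (tt N11469 (iv F206447)) (tt N14100 D46870) (tt N9973 (iv D42224)))
theorem Q11956 : ∀ i, i < 11956 → P i := stepQ 11955 Q11955 (allL N11955 (tt N10005 F176498) (tt N10345 F203057) (tt N10601 F203052) (tt N14095 (iv F209596)) (tt N9977 F176499) (tt N9975 (iv D42225)) (tt N14101 D46871) (tt N11955 F176500) (tt N11955 F176501) (tt N14102 D46872))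
theorem Q11957 : ∀ i, i < 11957 → P i := stepQ 11956 Q11956 (allL N11956 (tt N10006 F176502) (tt N14073 (iv F209480)) (tt N11307 F203708) (tt N14096 (iv F209602)) (tt N9976 F176503) (tt N14102 (iv F209635)) (tt N14099 (iv F209617)) (tt N11956 F176504) (tt N14103 D46873) (tt N9975 (iv D42226)))
theorem Q11958 : ∀ i, i < 11958 → P i := stepQ 11957 Q11957 (allL N11957 (tt N10007 F176505) (tt N14074 (iv F209486)) (tt N13813 (iv F207860)) (tt N10472 F203709) (tt N14103 (iv F209639)) (tt N9979 F176506) (tt N14100 (iv F209623)) (tt N11957 F176507) (tt N9976 (iv D42227)) (tt N11957 F176508))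
theorem Q11959 : ∀ i, i < 11959 → P i := stepQ 11958 Q11958 (allL N11958 (tt N10008 F176509) (tt N10343 F203058) (tt N13814 (iv F207869)) (tt N10335 F203059) (tt N14101 (iv F209629)) (tt N13955 (iv F208804)) (tt N9977 (iv D42228)) (tt N14104 D46874) (tt N11958 F176511) (tt N14105 D46875))
theorem Q11960 : ∀ i, i < 11960 → P i := stepQ 11959 Q11959 (allL N11959 (tt N10009 F176512) (tt N10346 F203054) (tt N13815 (iv F207875)) (tt N10336 F203055) (tt N14102 (iv F209634)) (tt N9978 F176514) (tt N14105 (iv F209650)) (tt N11959 F176515) (tt N14106 D46876) (tt N9977 (iv D42229)))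
theorem Q11961 : ∀ i, i < 11961 → P i := stepQ 11960 Q11960 (allL N11960 (tt N10010 F176516) (tt N10347 F203056) (tt N13816 (iv F207881)) (tt N10375 F203053) (tt N9979 F176517) (tt N14106 (iv F209654)) (tt N13957 (iv F208814)) (tt N11960 F176518) (tt N9978 (iv D42230)) (tt N11960 F176519))
theorem Q11962 : ∀ i, i < 11962 → P i := stepQ 11961 Q11961 (allL N11961 (tt N10011 F176520) (tt N11961 F176521) (tt N14085 (iv F209544)) (tt N11961 F176522) (tt N13958 (iv F208819)) (tt N11961 F176523) (tt N9980 (iv D42231)) (tt N10820 F176524) (tt N14107 D46877) (tt N11677 F206741))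
theorem Q11963 : ∀ i, i < 11963 → P i := stepQ 11962 Q11962 (allL N11962 (tt N10012 F176525) (tt N11962 F176526) (tt N14086 (iv F209549)) (tt N11530 (iv F206548)) (tt N11448 F206542) (tt N9982 F176527) (tt N14107 (iv F209661)) (tt N9981 F176528) (tt N9980 (iv D42232)) (tt N14108 D46878))
theorem Q11964 : ∀ i, i < 11964 → P i := stepQ 11963 Q11963 (allL N11963 (tt N10013 F176529) (tt N11963 F176530) (tt N14109 D46879) (tt N9981 (iv D42233)) (tt N11536 (iv F206539)) (tt N9983 F176531) (tt N10822 F176532) (tt N11530 F206550) (tt N11963 F176533) (tt N14110 D46880))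
theorem Q11965 : ∀ i, i < 11965 → P i := stepQ 11964 Q11964 (allL N11964 (tt N10014 F176534) (tt N11964 F176535) (tt N14088 (iv F209557)) (tt N14110 (iv F209680)) (tt N13959 (iv F208827)) (tt N9984 F176536) (tt N10823 F176537) (tt N14108 (iv F209669)) (tt N11563 F206702) (tt N9981 (iv D42234)))
theorem Q11966 : ∀ i, i < 11966 → P i := stepQ 11965 Q11965 (allL N11965 (tt N10016 F176543) (tt N11965 F176544) (tt N14090 (iv F209567)) (tt N11531 F206631) (tt N9987 F176545) (tt N14108 (iv F209668)) (tt N11965 F176546) (tt N9984 F176547) (tt N11564 F206700) (tt N9982 (iv D42236)))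
theorem Q11967 : ∀ i, i < 11967 → P i := stepQ 11966 Q11966 (allL N11966 (tt N10017 F176548) (tt N11588 (iv F206650)) (tt N9983 (iv D42237)) (tt N14091 (iv F209573)) (tt N11525 F206649) (tt N14109 (iv F209673)) (tt N9985 F176549) (tt N11528 (iv F206651)) (tt N11966 F176550) (tt N14111 D46881))
theorem Q11968 : ∀ i, i < 11968 → P i := stepQ 11967 Q11967 (allL N11967 (tt N10018 F176551) (tt N11967 F176552) (tt N14111 (iv F209687)) (tt N9984 F176553) (tt N11526 (iv F206633)) (tt N14110 (iv F209682)) (tt N9986 F176554) (tt N11531 F206632) (tt N14112 D46882) (tt N9983 (iv D42238)))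
theorem Q11969 : ∀ i, i < 11969 → P i := stepQ 11968 Q11968 (allL N11968 (tt N10020 F176559) (tt N11576 (iv F204557)) (tt N9986 F176560) (tt N14094 (iv F209589)) (tt N11575 F204556) (tt N10829 F176561) (tt N14111 (iv F209689)) (tt N11968 F176562) (tt N14113 D46883) (tt N9985 (iv D42240)))
theorem Q11970 : ∀ i, i < 11970 → P i := stepQ 11969 Q11969 (allL N11969 (tt N10021 F176563) (tt N11969 F176564) (tt N14113 (iv F209700)) (tt N11559 F206707) (tt N13817 (iv F207889)) (tt N10830 F176565) (tt N14112 (iv F209695)) (tt N11969 F176566) (tt N9986 (iv D42241)) (tt N11969 F176567))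
theorem Q11971 : ∀ i, i < 11971 → P i := stepQ 11970 Q11970 (allL N11970 (tt N14076 (iv F209496)) (tt N10438 F176568) (tt N11970 F176569) (tt N11644 (iv F206558)) (tt N9988 (iv D42242)) (tt N11970 F176570) (tt N10831 F176571) (tt N14114 D46884) (tt N14115 D46885) (tt N13998 (iv F209043)))
theorem Q11972 : ∀ i, i < 11972 → P i := stepQ 11971 Q11971 (allL N11971 (tt N14077 (iv F209503)) (tt N10439 F176572) (tt N11971 F176573) (tt N9993 F176574) (tt N14114 (iv F209708)) (tt N9989 F176575) (tt N14116 D46886) (tt N9988 (iv D42243)) (tt N14117 D46887) (tt N13999 (iv F209049)))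
theorem Q11973 : ∀ i, i < 11973 → P i := stepQ 11972 Q11972 (allL N11972 (tt N14078 (iv F209508)) (tt N10440 F176576) (tt N11972 F176577) (tt N14118 D46888) (tt N14115 (iv F209713)) (tt N9990 F176578) (tt N10833 F176579) (tt N14117 (iv F209725)) (tt N9988 (iv D42244)) (tt N14119 D46889))
theorem Q11974 : ∀ i, i < 11974 → P i := stepQ 11973 Q11973 (allL N11973 (tt N14079 (iv F209512)) (tt N10441 F176580) (tt N11973 F176581) (tt N14120 D46890) (tt N11973 F176582) (tt N14117 (iv F209724)) (tt N11973 F176583) (tt N9990 F176584) (tt N9989 (iv D42245)) (tt N14121 D46891))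
theorem Q11975 : ∀ i, i < 11975 → P i := stepQ 11974 Q11974 (allL N11974 (tt N14080 (iv F209517)) (tt N10442 F176585) (tt N14122 D46892) (tt N9990 (iv D42246)) (tt N14123 D46893) (tt N14118 (iv F209727)) (tt N9991 F176586) (tt N14120 (iv F209736)) (tt N9996 F176587) (tt N14124 D46894))
theorem Q11976 : ∀ i, i < 11976 → P i := stepQ 11975 Q11975 (allL N11975 (tt N14081 (iv F209520)) (tt N10443 F176588) (tt N11975 F176589) (tt N14124 (iv F209751)) (tt N11975 F176590) (tt N14119 (iv F209732)) (tt N9992 F176591) (tt N14121 (iv F209742)) (tt N14003 (iv F209070)) (tt N9990 (iv D42247)))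
theorem Q11977 : ∀ i, i < 11977 → P i := stepQ 11976 Q11976 (allL N11976 (tt N14082 (iv F209525)) (tt N14125 D46895) (tt N9991 (iv D42248)) (tt N11976 F176592) (tt N14126 D46896) (tt N10837 F176593) (tt N14122 (iv F209744)) (tt N11976 F176594) (tt N9998 F176595) (tt N14127 D46897))
theorem Q11978 : ∀ i, i < 11978 → P i := stepQ 11977 Q11977 (allL N11977 (tt N14083 (iv F209532)) (tt N10445 F176596) (tt N14126 (iv F209762)) (tt N11977 F176597) (tt N9991 (iv D42249)) (tt N14128 D46898) (tt N14123 (iv F209748)) (tt N11977 F176598) (tt N9999 F176599) (tt N14129 D46899))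
theorem Q11979 : ∀ i, i < 11979 → P i := stepQ 11978 Q11978 (allL N11978 (tt N14084 (iv F209539)) (tt N10446 F176600) (tt N14127 (iv F209767)) (tt N9992 F176601) (tt N14129 (iv F209780)) (tt N10839 F176602) (tt N14124 (iv F209752)) (tt N11978 F176603) (tt N14130 D46900) (tt N9991 (iv D42250)))
theorem Q11980 : ∀ i, i < 11980 → P i := stepQ 11979 Q11979 (allL N11979 (tt N14085 (iv F209543)) (tt N10447 F176604) (tt N10011 F176605) (tt N14116 (iv F209718)) (tt N13968 (iv F208881)) (tt N11979 F176606) (tt N9993 (iv D42251)) (tt N10840 F176607) (tt N14131 D46901) (tt N14007 (iv F209095)))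
theorem Q11981 : ∀ i, i < 11981 → P i := stepQ 11980 Q11980 (allL N11980 (tt N14086 (iv F209548)) (tt N10448 F176608) (tt N10012 F176609) (tt N14132 D46902) (tt N13969 (iv F208887)) (tt N9995 F176610) (tt N14131 (iv F209789)) (tt N9994 F176611) (tt N9993 (iv D42252)) (tt N14133 D46903))
theorem Q11982 : ∀ i, i < 11982 → P i := stepQ 11981 Q11981 (allL N11981 (tt N14087 (iv F209553)) (tt N10449 F176612) (tt N14134 D46904) (tt N9994 (iv D42253)) (tt N14135 D46905) (tt N9996 F176613) (tt N10842 F176614) (tt N14132 (iv F209793)) (tt N14118 (iv F209729)) (tt N14136 D46906))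
theorem Q11983 : ∀ i, i < 11983 → P i := stepQ 11982 Q11982 (allL N11982 (tt N14088 (iv F209556)) (tt N10450 F176615) (tt N10014 F176616) (tt N14136 (iv F209804)) (tt N13971 (iv F208895)) (tt N9997 F176617) (tt N10843 F176618) (tt N14133 (iv F209797)) (tt N14010 (iv F209110)) (tt N9994 (iv D42254)))
theorem Q11984 : ∀ i, i < 11984 → P i := stepQ 11983 Q11983 (allL N11983 (tt N14089 (iv F209561)) (tt N10451 F176619) (tt N14137 D46907) (tt N9995 (iv D42255)) (tt N14138 D46908) (tt N14132 (iv F209792)) (tt N11983 F176620) (tt N9996 F176621) (tt N14120 (iv F209737)) (tt N14139 D46909))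
theorem Q11985 : ∀ i, i < 11985 → P i := stepQ 11984 Q11984 (allL N11984 (tt N14090 (iv F209566)) (tt N10452 F176622) (tt N10016 F176623) (tt N14139 (iv F209819)) (tt N10002 F176624) (tt N14133 (iv F209796)) (tt N11984 F176625) (tt N9997 F176626) (tt N14012 (iv F209121)) (tt N9995 (iv D42256)))
theorem Q11986 : ∀ i, i < 11986 → P i := stepQ 11985 Q11985 (allL N11985 (tt N14091 (iv F209572)) (tt N14140 D46910) (tt N9996 (iv D42257)) (tt N10017 F176627) (tt N14141 D46911) (tt N14134 (iv F209799)) (tt N9998 F176628) (tt N14137 (iv F209810)) (tt N14122 (iv F209745)) (tt N14142 D46912))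
theorem Q11987 : ∀ i, i < 11987 → P i := stepQ 11986 Q11986 (allL N11986 (tt N14092 (iv F209578)) (tt N10454 F176629) (tt N14141 (iv F209826)) (tt N10003 F176630) (tt N9996 (iv D42258)) (tt N14143 D46913) (tt N9999 F176631) (tt N14138 (iv F209817)) (tt N14123 (iv F209749)) (tt N14144 D46914))
theorem Q11988 : ∀ i, i < 11988 → P i := stepQ 11987 Q11987 (allL N11987 (tt N14093 (iv F209583)) (tt N10455 F176632) (tt N14142 (iv F209830)) (tt N9997 F176633) (tt N14144 (iv F209837)) (tt N14136 (iv F209805)) (tt N10000 F176634) (tt N14139 (iv F209821)) (tt N14145 D46915) (tt N9996 (iv D42259)))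
theorem Q11989 : ∀ i, i < 11989 → P i := stepQ 11988 Q11988 (allL N11988 (tt N14146 D46916) (tt N9998 (iv D42260)) (tt N10456 F176635) (tt N10019 F176636) (tt N14147 D46917) (tt N10849 F176637) (tt N14140 (iv F209824)) (tt N11988 F176638) (tt N14125 (iv F209758)) (tt N14148 D46918))
theorem Q11990 : ∀ i, i < 11990 → P i := stepQ 11989 Q11989 (allL N11989 (tt N11386 F204543) (tt N14147 (iv F209849)) (tt N9999 F176639) (tt N11385 F204544) (tt N9998 (iv D42261)) (tt N14149 D46919) (tt N14141 (iv F209828)) (tt N11989 F176640) (tt N14126 (iv F209764)) (tt N14150 D46920))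
theorem Q11991 : ∀ i, i < 11991 → P i := stepQ 11990 Q11990 (allL N11990 (tt N14094 (iv F209586)) (tt N14148 (iv F209855)) (tt N10000 F176641) (tt N10020 F176642) (tt N14150 (iv F209870)) (tt N10851 F176643) (tt N14142 (iv F209832)) (tt N11990 F176644) (tt N14151 D46921) (tt N9998 (iv D42262)))
theorem Q11992 : ∀ i, i < 11992 → P i := stepQ 11991 Q11991 (allL N11991 (tt N14095 (iv F209593)) (tt N10459 F176645) (tt N14149 (iv F209862)) (tt N10005 F176646) (tt N10852 F176647) (tt N9999 (iv D42263)) (tt N14152 D46922) (tt N11991 F176648) (tt N14128 (iv F209777)) (tt N14153 D46923))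
theorem Q11993 : ∀ i, i < 11993 → P i := stepQ 11992 Q11992 (allL N11992 (tt N14096 (iv F209600)) (tt N10460 F176649) (tt N14150 (iv F209868)) (tt N10006 F176650) (tt N10000 F176651) (tt N14153 (iv F209881)) (tt N14144 (iv F209838)) (tt N11992 F176652) (tt N14154 D46924) (tt N9999 (iv D42264)))
theorem Q11994 : ∀ i, i < 11994 → P i := stepQ 11993 Q11993 (allL N11993 (tt N14097 (iv F209605)) (tt N10461 F176653) (tt N14151 (iv F209872)) (tt N14020 (iv F209160)) (tt N14154 (iv F209884)) (tt N10854 F176654) (tt N14145 (iv F209840)) (tt N11993 F176655) (tt N10000 (iv D42265)) (tt N14130 (iv F209785)))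
theorem Q11995 : ∀ i, i < 11995 → P i := stepQ 11994 Q11994 (allL N11994 (tt N11468 F206637) (tt N10462 F176656) (tt N11432 (iv F206636)) (tt N14138 (iv F209815)) (tt N10001 (iv D42266)) (tt N14155 D46925) (tt N11994 F176657) (tt N10003 F176658) (tt N11994 F176659) (tt N14156 D46926))
theorem Q11996 : ∀ i, i < 11996 → P i := stepQ 11995 Q11995 (allL N11995 (tt N11469 F206448) (tt N10463 F176660) (tt N11433 F206485) (tt N10002 F176661) (tt N14156 (iv F209895)) (tt N11435 (iv F206473)) (tt N11995 F176662) (tt N10004 F176663) (tt N14157 D46927) (tt N10001 (iv D42267)))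
theorem Q11997 : ∀ i, i < 11997 → P i := stepQ 11996 Q11996 (allL N11996 (tt N14098 (iv F209609)) (tt N10464 F176664) (tt N13818 (iv F207896)) (tt N14143 (iv F209834)) (tt N13983 (iv F208956)) (tt N10003 (iv D42268)) (tt N14158 D46928) (tt N14155 (iv F209890)) (tt N11996 F176665) (tt N14159 D46929))
theorem Q11998 : ∀ i, i < 11998 → P i := stepQ 11997 Q11997 (allL N11997 (tt N14099 (iv F209614)) (tt N10465 F176666) (tt N13819 (iv F207903)) (tt N14144 (iv F209836)) (tt N10004 F176667) (tt N14159 (iv F209909)) (tt N10006 F176668) (tt N14156 (iv F209897)) (tt N14160 D46930) (tt N10003 (iv D42269)))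
theorem Q11999 : ∀ i, i < 11999 → P i := stepQ 11998 Q11998 (allL N11998 (tt N14100 (iv F209619)) (tt N10466 F176669) (tt N13820 (iv F207910)) (tt N14025 (iv F209188)) (tt N14160 (iv F209911)) (tt N13985 (iv F208968)) (tt N10007 F176670) (tt N14157 (iv F209903)) (tt N10004 (iv D42270)) (tt N11998 F176671))
theorem Q12000 : ∀ i, i < 12000 → P i := stepQ 11999 Q11999 (allL N11999 (tt N14101 (iv F209626)) (tt N10467 F176672) (tt N13821 (iv F207918)) (tt N14152 (iv F209876)) (tt N10008 F176673) (tt N14158 (iv F209906)) (tt N10005 (iv D42271)) (tt N14161 D46931) (tt N11999 F176674) (tt N14162 D46932))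
theorem Q12001 : ∀ i, i < 12001 → P i := stepQ 12000 Q12000 (allL N12000 (tt N14102 (iv F209631)) (tt N10468 F176675) (tt N13822 (iv F207924)) (tt N14153 (iv F209879)) (tt N10009 F176676) (tt N10006 F176677) (tt N14162 (iv F209920)) (tt N12000 F176678) (tt N14163 D46933) (tt N10005 (iv D42272)))
theorem Q12002 : ∀ i, i < 12002 → P i := stepQ 12001 Q12001 (allL N12001 (tt N14103 (iv F209637)) (tt N10469 F176679) (tt N13823 (iv F207931)) (tt N14164 D46934) (tt N10007 F176680) (tt N14163 (iv F209923)) (tt N14160 (iv F209912)) (tt N12001 F176681) (tt N10006 (iv D42273)) (tt N12001 F176682))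
theorem Q12003 : ∀ i, i < 12003 → P i := stepQ 12002 Q12002 (allL N12002 (tt N14104 (iv F209642)) (tt N10470 F176683) (tt N13824 (iv F207937)) (tt N10861 F176684) (tt N14161 (iv F209915)) (tt N13989 (iv F208983)) (tt N12002 F176685) (tt N10008 (iv D42274)) (tt N12002 F176686) (tt N14165 D46935))
theorem Q12004 : ∀ i, i < 12004 → P i := stepQ 12003 Q12003 (allL N12003 (tt N14105 (iv F209647)) (tt N10471 F176687) (tt N13825 (iv F207942)) (tt N10862 F176688) (tt N14162 (iv F209919)) (tt N13990 (iv F208987)) (tt N10009 F176689) (tt N14165 (iv F209932)) (tt N14166 D46936) (tt N10008 (iv D42275)))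
theorem Q12005 : ∀ i, i < 12005 → P i := stepQ 12004 Q12004 (allL N12004 (tt N14106 (iv F209651)) (tt N10472 F176690) (tt N13826 (iv F207946)) (tt N14074 (iv F209487)) (tt N14163 (iv F209922)) (tt N10010 F176691) (tt N14166 (iv F209934)) (tt N12004 F176692) (tt N10009 (iv D42276)) (tt N12004 F176693))
theorem Q12006 : ∀ i, i < 12006 → P i := stepQ 12005 Q12005 (allL N12005 (tt N14107 (iv F209657)) (tt N10022 F176698) (tt N14131 (iv F209787)) (tt N14031 (iv F209223)) (tt N13917 F208558) (tt N12005 F176699) (tt N10012 F176700) (tt N10863 F176701) (tt N10011 (iv D42278)) (tt N14167 D46937))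
theorem Q12007 : ∀ i, i < 12007 → P i := stepQ 12006 Q12006 (allL N12006 (tt N11530 F206549) (tt N10023 F176702) (tt N14168 D46938) (tt N10012 (iv D42279)) (tt N10773 F205256) (tt N10015 F176703) (tt N14031 (iv F209225)) (tt N10013 F176704) (tt N12006 F176705) (tt N14169 D46939))
theorem Q12008 : ∀ i, i < 12008 → P i := stepQ 12007 Q12007 (allL N12007 (tt N14108 (iv F209664)) (tt N10024 F176706) (tt N14133 (iv F209795)) (tt N14169 (iv F209947)) (tt N13992 (iv F208995)) (tt N10016 F176707) (tt N14167 (iv F209938)) (tt N10014 F176708) (tt N14029 (iv F209216)) (tt N10012 (iv D42280)))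
theorem Q12009 : ∀ i, i < 12009 → P i := stepQ 12008 Q12008 (allL N12008 (tt N14109 (iv F209671)) (tt N14170 D46940) (tt N10013 (iv D42281)) (tt N14134 (iv F209798)) (tt N14171 D46941) (tt N10017 F176709) (tt N10866 F176710) (tt N14168 (iv F209943)) (tt N12008 F176711) (tt N14172 D46942))
theorem Q12010 : ∀ i, i < 12010 → P i := stepQ 12009 Q12009 (allL N12009 (tt N11536 F206551) (tt N10026 F176712) (tt N14171 (iv F209956)) (tt N10772 F205288) (tt N10013 (iv D42282)) (tt N10775 F205289) (tt N10867 F176713) (tt N10773 F205290) (tt N12009 F176714) (tt N14173 D46943))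
theorem Q12011 : ∀ i, i < 12011 → P i := stepQ 12010 Q12010 (allL N12010 (tt N14110 (iv F209678)) (tt N10027 F176715) (tt N14172 (iv F209961)) (tt N10014 F176716) (tt N14173 (iv F209967)) (tt N10018 F176717) (tt N10868 F176718) (tt N14169 (iv F209950)) (tt N14174 D46944) (tt N10013 (iv D42283)))
theorem Q12012 : ∀ i, i < 12012 → P i := stepQ 12011 Q12011 (allL N12011 (tt N11528 F206644) (tt N14175 D46945) (tt N10015 (iv D42284)) (tt N14137 (iv F209808)) (tt N11499 (iv F206643)) (tt N14168 (iv F209942)) (tt N12011 F176719) (tt N10017 F176720) (tt N12011 F176721) (tt N14176 D46946))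
theorem Q12013 : ∀ i, i < 12013 → P i := stepQ 12012 Q12012 (allL N12012 (tt N11531 (iv F206630)) (tt N10029 F176722) (tt N14176 (iv F209981)) (tt N10016 F176723) (tt N11500 F206629) (tt N14169 (iv F209949)) (tt N12012 F176724) (tt N10018 F176725) (tt N14177 D46947) (tt N10015 (iv D42285)))
theorem Q12014 : ∀ i, i < 12014 → P i := stepQ 12013 Q12013 (allL N12013 (tt N14178 D46948) (tt N10017 (iv D42286)) (tt N10030 F176726) (tt N14140 (iv F209823)) (tt N13828 (iv F207958)) (tt N14170 (iv F209952)) (tt N10019 F176727) (tt N14175 (iv F209978)) (tt N12013 F176728) (tt N14179 D46949))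
theorem Q12015 : ∀ i, i < 12015 → P i := stepQ 12014 Q12014 (allL N12014 (tt N14111 (iv F209685)) (tt N14179 (iv F209996)) (tt N10018 F176729) (tt N14142 (iv F209831)) (tt N13829 (iv F207966)) (tt N14172 (iv F209962)) (tt N10020 F176730) (tt N14176 (iv F209984)) (tt N14180 D46950) (tt N10017 (iv D42287)))
theorem Q12016 : ∀ i, i < 12016 → P i := stepQ 12015 Q12015 (allL N12015 (tt N14112 (iv F209691)) (tt N10032 F176731) (tt N14180 (iv F209999)) (tt N14037 (iv F209257)) (tt N13830 (iv F207973)) (tt N14174 (iv F209972)) (tt N10021 F176732) (tt N14177 (iv F209989)) (tt N10018 (iv D42288)) (tt N12015 F176733))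
theorem Q12017 : ∀ i, i < 12017 → P i := stepQ 12016 Q12016 (allL N12016 (tt N10019 (iv D42289)) (tt N11586 (iv F204550)) (tt N10033 F176734) (tt N14146 (iv F209843)) (tt N11585 F204549) (tt N10874 F176735) (tt N14178 (iv F209994)) (tt N12016 F176736) (tt N12016 F176737) (tt N14181 D46951))
theorem Q12018 : ∀ i, i < 12018 → P i := stepQ 12017 Q12017 (allL N12017 (tt N14181 (iv F210002)) (tt N10020 F176738) (tt N10034 F176739) (tt N14148 (iv F209857)) (tt N13831 (iv F207982)) (tt N10875 F176740) (tt N14179 (iv F209998)) (tt N12017 F176741) (tt N14182 D46952) (tt N10019 (iv D42290)))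
theorem Q12019 : ∀ i, i < 12019 → P i := stepQ 12018 Q12018 (allL N12018 (tt N14113 (iv F209698)) (tt N14182 (iv F210008)) (tt N10021 F176742) (tt N14183 D46953) (tt N13832 (iv F207988)) (tt N10876 F176743) (tt N14180 (iv F210000)) (tt N12018 F176744) (tt N10020 (iv D42291)) (tt N12018 F176745))
theorem Q12020 : ∀ i, i < 12020 → P i := stepQ 12019 Q12019 (allL N12019 (tt N12019 F176751) (tt N14167 (iv F209936)) (tt N10488 F176752) (tt N14047 (iv F209321)) (tt N13927 (iv F208621)) (tt N12019 F176753) (tt N10024 F176754) (tt N10878 F176755) (tt N14041 (iv F209287)) (tt N10022 (iv D42293)))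
theorem Q12021 : ∀ i, i < 12021 → P i := stepQ 12020 Q12020 (allL N12020 (tt N12020 F176756) (tt N14184 D46954) (tt N10023 (iv D42294)) (tt N10489 F176757) (tt N10783 F205257) (tt N10028 F176758) (tt N14045 (iv F209312)) (tt N10025 F176759) (tt N12020 F176760) (tt N14185 D46955))
theorem Q12022 : ∀ i, i < 12022 → P i := stepQ 12021 Q12021 (allL N12021 (tt N12021 F176764) (tt N14169 (iv F209946)) (tt N14185 (iv F210022)) (tt N10024 F176765) (tt N10784 F205263) (tt N10029 F176766) (tt N14047 (iv F209324)) (tt N10027 F176767) (tt N14186 D46956) (tt N10023 (iv D42296)))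
theorem Q12023 : ∀ i, i < 12023 → P i := stepQ 12022 Q12022 (allL N12022 (tt N14187 D46957) (tt N10025 (iv D42297)) (tt N14170 (iv F209951)) (tt N10492 F176768) (tt N14188 D46958) (tt N10030 F176769) (tt N10882 F176770) (tt N14184 (iv F210019)) (tt N12022 F176771) (tt N14189 D46959))
theorem Q12024 : ∀ i, i < 12024 → P i := stepQ 12023 Q12023 (allL N12023 (tt N12023 F176772) (tt N14188 (iv F210037)) (tt N10026 F176773) (tt N11173 F205291) (tt N10025 (iv D42298)) (tt N10785 F205292) (tt N10883 F176774) (tt N10783 F205293) (tt N12023 F176775) (tt N14190 D46960))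
theorem Q12025 : ∀ i, i < 12025 → P i := stepQ 12024 Q12024 (allL N12024 (tt N12024 F176776) (tt N14189 (iv F210043)) (tt N10027 F176777) (tt N10494 F176778) (tt N14190 (iv F210050)) (tt N10031 F176779) (tt N10884 F176780) (tt N14185 (iv F210026)) (tt N14191 D46961) (tt N10025 (iv D42299)))
theorem Q12026 : ∀ i, i < 12026 → P i := stepQ 12025 Q12025 (allL N12025 (tt N12025 F176781) (tt N14173 (iv F209965)) (tt N14190 (iv F210048)) (tt N10782 F205295) (tt N10027 F176782) (tt N10786 F205296) (tt N10885 F176783) (tt N10784 F205297) (tt N14192 D46962) (tt N10026 (iv D42300)))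
theorem Q12027 : ∀ i, i < 12027 → P i := stepQ 12026 Q12026 (allL N12026 (tt N12026 F176784) (tt N14174 (iv F209971)) (tt N14191 (iv F210055)) (tt N14048 (iv F209327)) (tt N14192 (iv F210061)) (tt N10032 F176785) (tt N10886 F176786) (tt N14186 (iv F210030)) (tt N10027 (iv D42301)) (tt N12026 F176787))
theorem Q12028 : ∀ i, i < 12028 → P i := stepQ 12027 Q12027 (allL N12027 (tt N14193 D46963) (tt N10028 (iv D42302)) (tt N14175 (iv F209975)) (tt N10497 F176788) (tt N13836 (iv F208016)) (tt N14184 (iv F210018)) (tt N12027 F176789) (tt N10030 F176790) (tt N12027 F176791) (tt N14194 D46964))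
theorem Q12029 : ∀ i, i < 12029 → P i := stepQ 12028 Q12028 (allL N12028 (tt N12028 F176792) (tt N14194 (iv F210071)) (tt N10029 F176793) (tt N10498 F176794) (tt N13837 (iv F208024)) (tt N14185 (iv F210025)) (tt N12028 F176795) (tt N10031 F176796) (tt N14195 D46965) (tt N10028 (iv D42303)))
theorem Q12030 : ∀ i, i < 12030 → P i := stepQ 12029 Q12029 (allL N12029 (tt N12029 F176797) (tt N14177 (iv F209986)) (tt N14195 (iv F210076)) (tt N14050 (iv F209339)) (tt N13838 (iv F208031)) (tt N14186 (iv F210029)) (tt N12029 F176798) (tt N10032 F176799) (tt N10029 (iv D42304)) (tt N12029 F176800))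
theorem Q12031 : ∀ i, i < 12031 → P i := stepQ 12030 Q12030 (allL N12030 (tt N10030 (iv D42305)) (tt N12030 F176801) (tt N14178 (iv F209992)) (tt N10500 F176802) (tt N13839 (iv F208039)) (tt N14187 (iv F210034)) (tt N10033 F176803) (tt N14193 (iv F210069)) (tt N12030 F176804) (tt N14196 D46966))
theorem Q12032 : ∀ i, i < 12032 → P i := stepQ 12031 Q12031 (allL N12031 (tt N14196 (iv F210080)) (tt N10031 F176805) (tt N14179 (iv F209997)) (tt N10501 F176806) (tt N13840 (iv F208044)) (tt N14189 (iv F210045)) (tt N10034 F176807) (tt N14194 (iv F210074)) (tt N14197 D46967) (tt N10030 (iv D42306)))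
theorem Q12033 : ∀ i, i < 12033 → P i := stepQ 12032 Q12032 (allL N12032 (tt N12032 F176808) (tt N14197 (iv F210084)) (tt N10032 F176809) (tt N14198 D46968) (tt N13841 (iv F208048)) (tt N14191 (iv F210056)) (tt N10035 F176810) (tt N14195 (iv F210078)) (tt N10031 (iv D42307)) (tt N12032 F176811))
theorem Q12034 : ∀ i, i < 12034 → P i := stepQ 12033 Q12033 (allL N12033 (tt N10034 F176812) (tt N12033 F176813) (tt N14181 (iv F210004)) (tt N10503 F176814) (tt N13842 (iv F208055)) (tt N10893 F176815) (tt N14196 (iv F210083)) (tt N12033 F176816) (tt N14199 D46969) (tt N10033 (iv D42308)))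
theorem Q12035 : ∀ i, i < 12035 → P i := stepQ 12034 Q12034 (allL N12034 (tt N14199 (iv F210091)) (tt N10035 F176817) (tt N14182 (iv F210009)) (tt N14200 D46970) (tt N13843 (iv F208059)) (tt N10894 F176818) (tt N14197 (iv F210085)) (tt N12034 F176819) (tt N10034 (iv D42309)) (tt N12034 F176820))
theorem Q12036 : ∀ i, i < 12036 → P i := stepQ 12035 Q12035 (allL N12035 (tt N12035 F176821) (tt N14200 (iv F210096)) (tt N14055 (iv F209368)) (tt N10035 (iv D42310)) (tt N14201 D46971) (tt N10895 F176822) (tt N14198 (iv F210088)) (tt N12035 F176823) (tt N10505 F176824) (tt N12035 F176825))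
theorem Q12037 : ∀ i, i < 12037 → P i := stepQ 12036 Q12036 (allL N12036 (tt N12036 F176832) (tt N10038 F176833) (tt N12036 F176834) (tt N11417 (iv F206329)) (tt N12036 F176835) (tt N10052 F199651) (tt N12036 F176836) (tt N10142 F176837) (tt N10036 (iv D42312)) (tt N14202 D46972))
theorem Q12038 : ∀ i, i < 12038 → P i := stepQ 12037 Q12037 (allL N12037 (tt N10044 F176848) (tt N10052 F199576) (tt N10041 F176849) (tt N14203 D46973) (tt N10049 F199577) (tt N10038 F176850) (tt N10047 F199578) (tt N10144 F176851) (tt N10037 (iv D42315)) (tt N14204 D46974))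
theorem Q12039 : ∀ i, i < 12039 → P i := stepQ 12038 Q12038 (allL N12038 (tt N10045 F176852) (tt N11417 F206327) (tt N10062 F176853) (tt N10038 (iv D42316)) (tt N11416 (iv F206292)) (tt N14203 (iv F210118)) (tt N12038 F176854) (tt N10145 F176855) (tt N12038 F176856) (tt N14205 D46975))
theorem Q12040 : ∀ i, i < 12040 → P i := stepQ 12039 Q12039 (allL N12039 (tt N10046 F176857) (tt N14202 (iv F210106)) (tt N10042 F176858) (tt N14205 (iv F210133)) (tt N12039 F176859) (tt N14204 (iv F210126)) (tt N12039 F176860) (tt N10146 F176861) (tt N12039 F176862) (tt N10038 (iv D42317)))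
theorem Q12041 : ∀ i, i < 12041 → P i := stepQ 12040 Q12040 (allL N12040 (tt N10047 F176868) (tt N12040 F176869) (tt N10049 F199649) (tt N14206 D46976) (tt N10041 F176870) (tt N12040 F176871) (tt N10044 F199650) (tt N10148 F176872) (tt N10039 (iv D42319)) (tt N14207 D46977))
theorem Q12042 : ∀ i, i < 12042 → P i := stepQ 12041 Q12041 (allL N12041 (tt N10049 F176879) (tt N12041 F176880) (tt N10047 F199569) (tt N10067 F176881) (tt N10044 F199570) (tt N12041 F176882) (tt N10041 F176883) (tt N10152 F199571) (tt N10040 (iv D42321)) (tt N14208 D46978))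
theorem Q12043 : ∀ i, i < 12043 → P i := stepQ 12042 Q12042 (allL N12042 (tt N10050 F176884) (tt N12042 F176885) (tt N14204 (iv F210124)) (tt N10068 F176886) (tt N14207 (iv F210148)) (tt N10042 F176887) (tt N14208 (iv F210159)) (tt N10151 F176888) (tt N12042 F176889) (tt N10041 (iv D42322)))
theorem Q12044 : ∀ i, i < 12044 → P i := stepQ 12043 Q12043 (allL N12043 (tt N14203 (iv F210114)) (tt N12043 F176915) (tt N10074 F176916) (tt N10044 (iv D42328)) (tt N14209 D46979) (tt N10045 F176917) (tt N14206 (iv F210142)) (tt N10154 F176918) (tt N12043 F176919) (tt N14210 D46980))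
theorem Q12045 : ∀ i, i < 12045 → P i := stepQ 12044 Q12044 (allL N12044 (tt N14204 (iv F210122)) (tt N12044 F176920) (tt N10050 F176921) (tt N14210 (iv F210172)) (tt N14208 (iv F210157)) (tt N10046 F176922) (tt N14207 (iv F210150)) (tt N10155 F176923) (tt N12044 F176924) (tt N10044 (iv D42329)))
theorem Q12046 : ∀ i, i < 12046 → P i := stepQ 12045 Q12045 (allL N12045 (tt N11416 (iv F206291)) (tt N12045 F176925) (tt N10076 F176926) (tt N12045 F176927) (tt N10045 (iv D42330)) (tt N11424 F206343) (tt N12045 F176928) (tt N10156 F176929) (tt N12045 F176930) (tt N14211 D46981))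
theorem Q12047 : ∀ i, i < 12047 → P i := stepQ 12046 Q12046 (allL N12046 (tt N14205 (iv F210130)) (tt N12046 F176931) (tt N10077 F176932) (tt N10046 F176933) (tt N14211 (iv F210179)) (tt N14210 (iv F210173)) (tt N12046 F176934) (tt N10157 F176935) (tt N14212 D46982) (tt N10045 (iv D42331)))
theorem Q12048 : ∀ i, i < 12048 → P i := stepQ 12047 Q12047 (allL N12047 (tt N14206 (iv F210137)) (tt N10053 F176949) (tt N14213 D46983) (tt N10047 (iv D42335)) (tt N10081 F176950) (tt N12047 F176951) (tt N14203 (iv F210119)) (tt N10160 F176952) (tt N12047 F176953) (tt N14214 D46984))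
theorem Q12049 : ∀ i, i < 12049 → P i := stepQ 12048 Q12048 (allL N12048 (tt N14207 (iv F210145)) (tt N10054 F176954) (tt N14208 (iv F210155)) (tt N14214 (iv F210197)) (tt N10050 F176955) (tt N12048 F176956) (tt N14204 (iv F210127)) (tt N10161 F176957) (tt N12048 F176958) (tt N10047 (iv D42336)))
theorem Q12050 : ∀ i, i < 12050 → P i := stepQ 12049 Q12049 (allL N12049 (tt N10152 F199563) (tt N10055 F176959) (tt N10148 F199564) (tt N10083 F176960) (tt N10144 F199565) (tt N12049 F176961) (tt N10162 F176962) (tt N10049 F176963) (tt N10048 (iv D42337)) (tt N14215 D46985))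
theorem Q12051 : ∀ i, i < 12051 → P i := stepQ 12050 Q12050 (allL N12050 (tt N14208 (iv F210153)) (tt N10056 F176964) (tt N14207 (iv F210147)) (tt N10084 F176965) (tt N14204 (iv F210125)) (tt N12050 F176966) (tt N10050 F176967) (tt N14215 (iv F210208)) (tt N12050 F176968) (tt N10049 (iv D42338)))
theorem Q12052 : ∀ i, i < 12052 → P i := stepQ 12051 Q12051 (allL N12051 (tt N12051 F176980) (tt N10144 F199574) (tt N12051 F176981) (tt N14216 D46986) (tt N10055 F176982) (tt N10142 F199575) (tt N10166 F176983) (tt N10052 F176984) (tt N10051 (iv D42341)) (tt N14217 D46987))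
theorem Q12053 : ∀ i, i < 12053 → P i := stepQ 12052 Q12052 (allL N12052 (tt N12052 F176985) (tt N14203 (iv F210115)) (tt N10970 F206267) (tt N10052 (iv D42342)) (tt N10088 F176986) (tt N11417 F206268) (tt N10053 F176987) (tt N14216 (iv F210215)) (tt N12052 F176988) (tt N14218 D46988))
theorem Q12054 : ∀ i, i < 12054 → P i := stepQ 12053 Q12053 (allL N12053 (tt N12053 F176989) (tt N14204 (iv F210123)) (tt N12053 F176990) (tt N14218 (iv F210228)) (tt N10056 F176991) (tt N14202 (iv F210110)) (tt N10054 F176992) (tt N14217 (iv F210224)) (tt N12053 F176993) (tt N10052 (iv D42343)))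
theorem Q12055 : ∀ i, i < 12055 → P i := stepQ 12054 Q12054 (allL N12054 (tt N12054 F176994) (tt N14219 D46989) (tt N10053 (iv D42344)) (tt N12054 F176995) (tt N10090 F176996) (tt N12054 F176997) (tt N10970 F206144) (tt N10169 F176998) (tt N12054 F176999) (tt N14220 D46990))
theorem Q12056 : ∀ i, i < 12056 → P i := stepQ 12055 Q12055 (allL N12055 (tt N12055 F177000) (tt N14214 (iv F210196)) (tt N14220 (iv F210239)) (tt N10054 F177001) (tt N10091 F177002) (tt N12055 F177003) (tt N14218 (iv F210231)) (tt N10170 F177004) (tt N14221 D46991) (tt N10053 (iv D42345)))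
theorem Q12057 : ∀ i, i < 12057 → P i := stepQ 12056 Q12056 (allL N12056 (tt N12056 F177005) (tt N14215 (iv F210202)) (tt N12056 F177006) (tt N10092 F177007) (tt N14217 (iv F210221)) (tt N12056 F177008) (tt N10171 F177009) (tt N10056 F177010) (tt N12056 F177011) (tt N10055 (iv D42346)))
theorem Q12058 : ∀ i, i < 12058 → P i := stepQ 12057 Q12057 (allL N12057 (tt N10940 F197840) (tt N10059 F177012) (tt N12057 F177013) (tt N10925 F197841) (tt N10057 (iv D42347)) (tt N10896 F177014) (tt N14222 D46992) (tt N10172 F177015) (tt N14223 D46993) (tt N10093 F177016))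
theorem Q12059 : ∀ i, i < 12059 → P i := stepQ 12058 Q12058 (allL N12058 (tt N11590 (iv F206836)) (tt N10060 F177017) (tt N12058 F177018) (tt N12058 F177019) (tt N14222 (iv F210255)) (tt N12058 F177020) (tt N10057 (iv D42348)) (tt N14224 D46994) (tt N14225 D46995) (tt N10094 F177021))
theorem Q12060 : ∀ i, i < 12060 → P i := stepQ 12059 Q12059 (allL N12059 (tt N10657 F201355) (tt N10061 F177022) (tt N12059 F177023) (tt N13877 (iv F208320)) (tt N14223 (iv F210261)) (tt N10058 F177024) (tt N14225 (iv F210275)) (tt N10174 F177025) (tt N10057 (iv D42349)) (tt N14226 D46996))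
theorem Q12061 : ∀ i, i < 12061 → P i := stepQ 12060 Q12060 (allL N12060 (tt N10658 F201350) (tt N10063 F177030) (tt N12060 F177031) (tt N13878 (iv F208327)) (tt N10642 F201351) (tt N14226 (iv F210279)) (tt N12060 F177033) (tt N10175 F177034) (tt N10096 F177035) (tt N10058 (iv D42351)))
theorem Q12062 : ∀ i, i < 12062 → P i := stepQ 12061 Q12061 (allL N12061 (tt N10069 F177036) (tt N10925 F197898) (tt N12061 F177037) (tt N10059 (iv D42352)) (tt N12061 F177038) (tt N10897 F177039) (tt N14227 D46997) (tt N10176 F177040) (tt N14228 D46998) (tt N10097 F177041))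
theorem Q12063 : ∀ i, i < 12063 → P i := stepQ 12062 Q12062 (allL N12062 (tt N10070 F177042) (tt N14222 (iv F210252)) (tt N10064 F177043) (tt N14227 (iv F210285)) (tt N10060 F177044) (tt N14229 D46999) (tt N10059 (iv D42353)) (tt N14230 D47000) (tt N14231 D47001) (tt N10098 F177045))
theorem Q12064 : ∀ i, i < 12064 → P i := stepQ 12063 Q12063 (allL N12063 (tt N10071 F177046) (tt N14223 (iv F210259)) (tt N10065 F177047) (tt N14232 D47002) (tt N10061 F177048) (tt N10899 F177049) (tt N14231 (iv F210310)) (tt N10178 F177050) (tt N10059 (iv D42354)) (tt N14233 D47003))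
theorem Q12065 : ∀ i, i < 12065 → P i := stepQ 12064 Q12064 (allL N12064 (tt N10072 F177051) (tt N14224 (iv F210265)) (tt N10066 F177052) (tt N12064 F177053) (tt N14230 (iv F210304)) (tt N12064 F177054) (tt N10179 F177055) (tt N10060 (iv D42355)) (tt N14234 D47004) (tt N10100 F177056))
theorem Q12066 : ∀ i, i < 12066 → P i := stepQ 12065 Q12065 (allL N12065 (tt N10073 F177057) (tt N14225 (iv F210272)) (tt N10067 F177058) (tt N14213 (iv F210190)) (tt N14231 (iv F210309)) (tt N12065 F177059) (tt N10061 F177060) (tt N14234 (iv F210324)) (tt N10060 (iv D42356)) (tt N14235 D47005))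
theorem Q12067 : ∀ i, i < 12067 → P i := stepQ 12066 Q12066 (allL N12066 (tt N10074 F177061) (tt N13877 (iv F208318)) (tt N14203 (iv F210116)) (tt N10061 (iv D42357)) (tt N14236 D47006) (tt N10062 F177062) (tt N14213 (iv F210193)) (tt N10181 F177063) (tt N12066 F177064) (tt N14237 D47007))
theorem Q12068 : ∀ i, i < 12068 → P i := stepQ 12067 Q12067 (allL N12067 (tt N10075 F177065) (tt N14226 (iv F210277)) (tt N10068 F177066) (tt N14237 (iv F210339)) (tt N14233 (iv F210316)) (tt N10063 F177067) (tt N14235 (iv F210329)) (tt N10182 F177068) (tt N10103 F177069) (tt N10061 (iv D42358)))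
theorem Q12069 : ∀ i, i < 12069 → P i := stepQ 12068 Q12068 (allL N12068 (tt N10077 F177075) (tt N13878 (iv F208325)) (tt N14205 (iv F210132)) (tt N10063 F177076) (tt N13874 (iv F208299)) (tt N14237 (iv F210340)) (tt N12068 F177077) (tt N10183 F177078) (tt N14238 D47008) (tt N10062 (iv D42360)))
theorem Q12070 : ∀ i, i < 12070 → P i := stepQ 12069 Q12069 (allL N12069 (tt N10078 F177079) (tt N12069 F177080) (tt N14229 (iv F210297)) (tt N12069 F177081) (tt N12069 F177082) (tt N10064 (iv D42361)) (tt N10902 F177083) (tt N14239 D47009) (tt N14240 D47010) (tt N10105 F177084))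
theorem Q12071 : ∀ i, i < 12071 → P i := stepQ 12070 Q12070 (allL N12070 (tt N10079 F177085) (tt N12070 F177086) (tt N14230 (iv F210303)) (tt N12070 F177087) (tt N10066 F177088) (tt N14239 (iv F210351)) (tt N10185 F177089) (tt N10064 (iv D42362)) (tt N14241 D47011) (tt N10106 F177090))
theorem Q12072 : ∀ i, i < 12072 → P i := stepQ 12071 Q12071 (allL N12071 (tt N10080 F177091) (tt N12071 F177092) (tt N14231 (iv F210308)) (tt N14209 (iv F210165)) (tt N10067 F177093) (tt N14240 (iv F210356)) (tt N10065 F177094) (tt N14241 (iv F210363)) (tt N10064 (iv D42363)) (tt N14242 D47012))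
theorem Q12073 : ∀ i, i < 12073 → P i := stepQ 12072 Q12072 (allL N12072 (tt N10081 F177095) (tt N12072 F177096) (tt N14243 D47013) (tt N10065 (iv D42364)) (tt N14206 (iv F210140)) (tt N10905 F177097) (tt N14209 (iv F210167)) (tt N10187 F177098) (tt N12072 F177099) (tt N14244 D47014))
theorem Q12074 : ∀ i, i < 12074 → P i := stepQ 12073 Q12073 (allL N12073 (tt N10082 F177100) (tt N12073 F177101) (tt N14233 (iv F210315)) (tt N14244 (iv F210378)) (tt N10068 F177102) (tt N10906 F177103) (tt N14242 (iv F210368)) (tt N10188 F177104) (tt N10109 F177105) (tt N10065 (iv D42365)))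
theorem Q12075 : ∀ i, i < 12075 → P i := stepQ 12074 Q12074 (allL N12074 (tt N10083 F177106) (tt N12074 F177107) (tt N14234 (iv F210321)) (tt N10152 F206838) (tt N14241 (iv F210361)) (tt N12074 F177108) (tt N10189 F177109) (tt N10067 F177110) (tt N10066 (iv D42366)) (tt N14245 D47015))
theorem Q12076 : ∀ i, i < 12076 → P i := stepQ 12075 Q12075 (allL N12075 (tt N10084 F177111) (tt N12075 F177112) (tt N14235 (iv F210327)) (tt N14208 (iv F210156)) (tt N14242 (iv F210367)) (tt N12075 F177113) (tt N10068 F177114) (tt N14245 (iv F210386)) (tt N10111 F177115) (tt N10067 (iv D42367)))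
theorem Q12077 : ∀ i, i < 12077 → P i := stepQ 12076 Q12076 (allL N12076 (tt N14227 (iv F210282)) (tt N13854 (iv F208151)) (tt N12076 F177116) (tt N10070 F177117) (tt N12076 F177118) (tt N13871 (iv F208276)) (tt N10069 (iv D42368)) (tt N14246 D47016) (tt N14247 D47017) (tt N10112 F177119))
theorem Q12078 : ∀ i, i < 12078 → P i := stepQ 12077 Q12077 (allL N12077 (tt N14228 (iv F210289)) (tt N13855 (iv F208160)) (tt N12077 F177120) (tt N14248 D47018) (tt N12077 F177121) (tt N10909 F177122) (tt N14247 (iv F210400)) (tt N10192 F177123) (tt N10069 (iv D42369)) (tt N14249 D47019))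
theorem Q12079 : ∀ i, i < 12079 → P i := stepQ 12078 Q12078 (allL N12078 (tt N14229 (iv F210295)) (tt N13856 (iv F208167)) (tt N10078 F177124) (tt N13871 (iv F208274)) (tt N12078 F177125) (tt N10070 (iv D42370)) (tt N10910 F177126) (tt N14250 D47020) (tt N14251 D47021) (tt N10114 F177127))
theorem Q12080 : ∀ i, i < 12080 → P i := stepQ 12079 Q12079 (allL N12079 (tt N14230 (iv F210302)) (tt N13857 (iv F208176)) (tt N10079 F177128) (tt N14246 (iv F210390)) (tt N10072 F177129) (tt N14250 (iv F210414)) (tt N10194 F177130) (tt N10070 (iv D42371)) (tt N14252 D47022) (tt N10115 F177131))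
theorem Q12081 : ∀ i, i < 12081 → P i := stepQ 12080 Q12080 (allL N12080 (tt N14231 (iv F210307)) (tt N13858 (iv F208184)) (tt N10080 F177132) (tt N14253 D47023) (tt N10073 F177133) (tt N14251 (iv F210419)) (tt N10071 F177134) (tt N14252 (iv F210424)) (tt N10070 (iv D42372)) (tt N14254 D47024))
theorem Q12082 : ∀ i, i < 12082 → P i := stepQ 12081 Q12081 (allL N12081 (tt N14232 (iv F210311)) (tt N13859 (iv F208190)) (tt N14255 D47025) (tt N10071 (iv D42373)) (tt N14256 D47026) (tt N10912 F177135) (tt N14253 (iv F210425)) (tt N10196 F177136) (tt N14248 (iv F210404)) (tt N14257 D47027))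
theorem Q12083 : ∀ i, i < 12083 → P i := stepQ 12082 Q12082 (allL N12082 (tt N14233 (iv F210314)) (tt N13860 (iv F208194)) (tt N10082 F177137) (tt N14257 (iv F210435)) (tt N10075 F177138) (tt N10913 F177139) (tt N14254 (iv F210428)) (tt N10197 F177140) (tt N10118 F177141) (tt N10071 (iv D42374)))
theorem Q12084 : ∀ i, i < 12084 → P i := stepQ 12083 Q12083 (allL N12083 (tt N14234 (iv F210320)) (tt N13861 (iv F208201)) (tt N10083 F177142) (tt N14258 D47028) (tt N14252 (iv F210422)) (tt N12083 F177143) (tt N10198 F177144) (tt N10073 F177145) (tt N10072 (iv D42375)) (tt N14259 D47029))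
theorem Q12085 : ∀ i, i < 12085 → P i := stepQ 12084 Q12084 (allL N12084 (tt N14213 (iv F210189)) (tt N13862 (iv F208208)) (tt N14206 (iv F210139)) (tt N10073 (iv D42376)) (tt N14243 (iv F210371)) (tt N12084 F177146) (tt N10074 F177147) (tt N14258 (iv F210442)) (tt N12084 F177148) (tt N14260 D47030))
theorem Q12086 : ∀ i, i < 12086 → P i := stepQ 12085 Q12085 (allL N12085 (tt N14235 (iv F210326)) (tt N13863 (iv F208214)) (tt N10084 F177149) (tt N14260 (iv F210451)) (tt N14254 (iv F210427)) (tt N12085 F177150) (tt N10075 F177151) (tt N14259 (iv F210449)) (tt N10121 F177152) (tt N10073 (iv D42377)))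
theorem Q12087 : ∀ i, i < 12087 → P i := stepQ 12086 Q12086 (allL N12086 (tt N14236 (iv F210331)) (tt N13864 (iv F208221)) (tt N14209 (iv F210164)) (tt N14256 (iv F210433)) (tt N10074 (iv D42378)) (tt N14261 D47031) (tt N14243 (iv F210373)) (tt N10201 F177153) (tt N12086 F177154) (tt N14262 D47032))
theorem Q12088 : ∀ i, i < 12088 → P i := stepQ 12087 Q12087 (allL N12087 (tt N14237 (iv F210338)) (tt N13865 (iv F208227)) (tt N14210 (iv F210171)) (tt N10075 F177155) (tt N14262 (iv F210461)) (tt N10077 F177156) (tt N14260 (iv F210453)) (tt N10202 F177157) (tt N14263 D47033) (tt N10074 (iv D42379)))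
theorem Q12089 : ∀ i, i < 12089 → P i := stepQ 12088 Q12088 (allL N12088 (tt N11407 (iv F206287)) (tt N10102 F202062) (tt N11424 (iv F206344)) (tt N10095 F202063) (tt N14261 (iv F210457)) (tt N10076 (iv D42380)) (tt N11410 F206358) (tt N10203 F177159) (tt N12088 F177160) (tt N14264 D47034))
theorem Q12090 : ∀ i, i < 12090 → P i := stepQ 12089 Q12089 (allL N12089 (tt N13874 (iv F208295)) (tt N10104 F202064) (tt N14211 (iv F210177)) (tt N10096 F202065) (tt N10077 F177162) (tt N14264 (iv F210471)) (tt N12089 F177163) (tt N10204 F177164) (tt N14265 D47035) (tt N10076 (iv D42381)))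
theorem Q12091 : ∀ i, i < 12091 → P i := stepQ 12090 Q12090 (allL N12090 (tt N14238 (iv F210342)) (tt N13866 (iv F208233)) (tt N14212 (iv F210184)) (tt N10126 F177165) (tt N14265 (iv F210475)) (tt N14263 (iv F210464)) (tt N12090 F177166) (tt N10205 F177167) (tt N10077 (iv D42382)) (tt N12090 F177168))
theorem Q12092 : ∀ i, i < 12092 → P i := stepQ 12091 Q12091 (allL N12091 (tt N14239 (iv F210347)) (tt N10085 F177169) (tt N14250 (iv F210411)) (tt N12091 F177170) (tt N12091 F177171) (tt N10079 F177172) (tt N14266 D47036) (tt N10078 (iv D42383)) (tt N14267 D47037) (tt N10127 F177173))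
theorem Q12093 : ∀ i, i < 12093 → P i := stepQ 12092 Q12092 (allL N12092 (tt N14240 (iv F210353)) (tt N10086 F177174) (tt N14251 (iv F210417)) (tt N10974 F206185) (tt N12092 F177175) (tt N10080 F177176) (tt N10669 F206186) (tt N14267 (iv F210490)) (tt N10078 (iv D42384)) (tt N14268 D47038))
theorem Q12094 : ∀ i, i < 12094 → P i := stepQ 12093 Q12093 (allL N12093 (tt N14241 (iv F210359)) (tt N10087 F177178) (tt N14252 (iv F210421)) (tt N14269 D47039) (tt N10083 F177179) (tt N14267 (iv F210488)) (tt N10208 F177180) (tt N10080 F177181) (tt N10079 (iv D42385)) (tt N14270 D47040))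
theorem Q12095 : ∀ i, i < 12095 → P i := stepQ 12094 Q12094 (allL N12094 (tt N14209 (iv F210162)) (tt N10088 F177182) (tt N14236 (iv F210333)) (tt N10080 (iv D42386)) (tt N14203 (iv F210117)) (tt N10974 F206266) (tt N10081 F177183) (tt N14269 (iv F210503)) (tt N12094 F177184) (tt N14271 D47041))
theorem Q12096 : ∀ i, i < 12096 → P i := stepQ 12095 Q12095 (allL N12095 (tt N14242 (iv F210365)) (tt N10089 F177185) (tt N14254 (iv F210426)) (tt N14271 (iv F210512)) (tt N10084 F177186) (tt N14268 (iv F210495)) (tt N10082 F177187) (tt N14270 (iv F210509)) (tt N10131 F177188) (tt N10080 (iv D42387)))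
theorem Q12097 : ∀ i, i < 12097 → P i := stepQ 12096 Q12096 (allL N12096 (tt N14243 (iv F210370)) (tt N14272 D47042) (tt N10081 (iv D42388)) (tt N14255 (iv F210430)) (tt N14213 (iv F210191)) (tt N10920 F177189) (tt N14236 (iv F210335)) (tt N10211 F177190) (tt N12096 F177191) (tt N14273 D47043))
theorem Q12098 : ∀ i, i < 12098 → P i := stepQ 12097 Q12097 (allL N12097 (tt N14244 (iv F210376)) (tt N10091 F177192) (tt N14273 (iv F210520)) (tt N10082 F177193) (tt N14214 (iv F210198)) (tt N10921 F177194) (tt N14271 (iv F210514)) (tt N10212 F177195) (tt N14274 D47044) (tt N10081 (iv D42389)))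
theorem Q12099 : ∀ i, i < 12099 → P i := stepQ 12098 Q12098 (allL N12098 (tt N14245 (iv F210381)) (tt N10092 F177196) (tt N14259 (iv F210446)) (tt N14215 (iv F210204)) (tt N14270 (iv F210507)) (tt N12098 F177197) (tt N10213 F177198) (tt N10084 F177199) (tt N10134 F177200) (tt N10083 (iv D42390)))
theorem Q12100 : ∀ i, i < 12100 → P i := stepQ 12099 Q12099 (allL N12099 (tt N12099 F177201) (tt N14266 (iv F210479)) (tt N10623 F206161) (tt N12099 F177202) (tt N12099 F177203) (tt N10214 F177204) (tt N10085 (iv D42391)) (tt N10624 F206162) (tt N10745 F206163) (tt N10135 F177206))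
theorem Q12101 : ∀ i, i < 12101 → P i := stepQ 12100 Q12100 (allL N12100 (tt N12100 F177207) (tt N14267 (iv F210486)) (tt N10667 F206194) (tt N10972 F206195) (tt N12100 F177208) (tt N10087 F177209) (tt N10745 F206196) (tt N10086 F177210) (tt N10085 (iv D42392)) (tt N13932 (iv F208657)))
theorem Q12102 : ∀ i, i < 12102 → P i := stepQ 12101 Q12101 (allL N12101 (tt N12101 F177215) (tt N14268 (iv F210492)) (tt N10668 F206197) (tt N10975 F206198) (tt N12101 F177216) (tt N10089 F177217) (tt N10670 F206199) (tt N13932 (iv F208656)) (tt N10136 F177219) (tt N10086 (iv D42394)))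
theorem Q12103 : ∀ i, i < 12103 → P i := stepQ 12102 Q12102 (allL N12102 (tt N12102 F177220) (tt N14269 (iv F210499)) (tt N10969 F206269) (tt N10087 (iv D42395)) (tt N14216 (iv F210212)) (tt N10972 F206270) (tt N10218 F177221) (tt N10088 F177222) (tt N12102 F177223) (tt N14275 D47045))
theorem Q12104 : ∀ i, i < 12104 → P i := stepQ 12103 Q12103 (allL N12103 (tt N12103 F177224) (tt N14270 (iv F210506)) (tt N10687 F205838) (tt N14275 (iv F210530)) (tt N10092 F177225) (tt N13932 (iv F208654)) (tt N10219 F177226) (tt N10089 F177227) (tt N10137 F177228) (tt N10087 (iv D42396)))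
theorem Q12105 : ∀ i, i < 12105 → P i := stepQ 12104 Q12104 (allL N12104 (tt N12104 F177232) (tt N14271 (iv F210511)) (tt N10971 F206271) (tt N10089 F177233) (tt N14218 (iv F210229)) (tt N10975 F206272) (tt N10091 F177234) (tt N14275 (iv F210533)) (tt N14276 D47046) (tt N10088 (iv D42398)))
theorem Q12106 : ∀ i, i < 12106 → P i := stepQ 12105 Q12105 (allL N12105 (tt N14277 D47047) (tt N10090 (iv D42399)) (tt N14272 (iv F210515)) (tt N10128 F206140) (tt N14219 (iv F210233)) (tt N10130 F206141) (tt N10959 F206142) (tt N10222 F177236) (tt N12105 F177237) (tt N14278 D47048))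
theorem Q12107 : ∀ i, i < 12107 → P i := stepQ 12106 Q12106 (allL N12106 (tt N12106 F177238) (tt N14278 (iv F210548)) (tt N10091 F177239) (tt N10136 F206146) (tt N14220 (iv F210241)) (tt N10138 F206147) (tt N10971 F206148) (tt N10223 F177241) (tt N14279 D47049) (tt N10090 (iv D42400)))
theorem Q12108 : ∀ i, i < 12108 → P i := stepQ 12107 Q12107 (allL N12107 (tt N12107 F177242) (tt N14274 (iv F210523)) (tt N14279 (iv F210554)) (tt N10141 F177243) (tt N14221 (iv F210247)) (tt N10923 F177244) (tt N14276 (iv F210539)) (tt N10224 F177245) (tt N10091 (iv D42401)) (tt N12107 F177246))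
theorem Q12109 : ∀ i, i < 12109 → P i := stepQ 12108 Q12108 (allL N12108 (tt N10910 F197107) (tt N10097 F177247) (tt N10902 F197108) (tt N10093 (iv D42402)) (tt N12108 F177248) (tt N10898 F197109) (tt N14229 (iv F210300)) (tt N10225 F177250) (tt N14280 D47050) (tt N10925 F197110))
theorem Q12110 : ∀ i, i < 12110 → P i := stepQ 12109 Q12109 (allL N12109 (tt N13871 (iv F208271)) (tt N10098 F177251) (tt N12109 F177252) (tt N14229 (iv F210298)) (tt N10094 F177253) (tt N14227 (iv F210287)) (tt N10093 (iv D42403)) (tt N14281 D47051) (tt N14282 D47052) (tt N14222 (iv F210257)))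
theorem Q12111 : ∀ i, i < 12111 → P i := stepQ 12110 Q12110 (allL N12110 (tt N13872 (iv F208280)) (tt N10099 F177254) (tt N12110 F177255) (tt N14283 D47053) (tt N10095 F177256) (tt N10917 F201901) (tt N14282 (iv F210576)) (tt N10227 F177258) (tt N10093 (iv D42404)) (tt N14284 D47054))
theorem Q12112 : ∀ i, i < 12112 → P i := stepQ 12111 Q12111 (allL N12111 (tt N11440 F206366) (tt N10100 F177259) (tt N12111 F177260) (tt N12111 F177261) (tt N14281 (iv F210569)) (tt N12111 F177262) (tt N10228 F177263) (tt N10094 (iv D42405)) (tt N11451 (iv F206365)) (tt N14224 (iv F210270)))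
theorem Q12113 : ∀ i, i < 12113 → P i := stepQ 12112 Q12112 (allL N12112 (tt N11393 F206361) (tt N10101 F177264) (tt N12112 F177265) (tt N11410 (iv F206360)) (tt N14282 (iv F210575)) (tt N12112 F177266) (tt N10095 F177267) (tt N11451 F206362) (tt N10094 (iv D42406)) (tt N14285 D47055))
theorem Q12114 : ∀ i, i < 12114 → P i := stepQ 12113 Q12113 (allL N12113 (tt N13873 (iv F208287)) (tt N10103 F177272) (tt N12113 F177273) (tt N14264 (iv F210470)) (tt N14284 (iv F210583)) (tt N10096 F177274) (tt N14285 (iv F210591)) (tt N10230 F177275) (tt N14226 (iv F210281)) (tt N10095 (iv D42408)))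
theorem Q12115 : ∀ i, i < 12115 → P i := stepQ 12114 Q12114 (allL N12114 (tt N10112 F177290) (tt N14229 (iv F210296)) (tt N12114 F177291) (tt N10098 F177292) (tt N12114 F177293) (tt N14222 (iv F210256)) (tt N10097 (iv D42412)) (tt N14286 D47056) (tt N14287 D47057) (tt N14227 (iv F210288)))
theorem Q12116 : ∀ i, i < 12116 → P i := stepQ 12115 Q12115 (allL N12115 (tt N10113 F177294) (tt N14280 (iv F210561)) (tt N12115 F177295) (tt N14288 D47058) (tt N12115 F177296) (tt N10924 F177297) (tt N14287 (iv F210601)) (tt N10232 F177298) (tt N10097 (iv D42413)) (tt N14289 D47059))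
theorem Q12117 : ∀ i, i < 12117 → P i := stepQ 12116 Q12116 (allL N12116 (tt N10114 F177299) (tt N14227 (iv F210283)) (tt N10105 F177300) (tt N14222 (iv F210254)) (tt N12116 F177301) (tt N10098 (iv D42414)) (tt N10925 F177302) (tt N14290 D47060) (tt N14291 D47061) (tt N14229 (iv F210301)))
theorem Q12118 : ∀ i, i < 12118 → P i := stepQ 12117 Q12117 (allL N12117 (tt N10115 F177303) (tt N14281 (iv F210567)) (tt N10106 F177304) (tt N14286 (iv F210595)) (tt N10100 F177305) (tt N14290 (iv F210614)) (tt N10234 F177306) (tt N10098 (iv D42415)) (tt N14292 D47062) (tt N14230 (iv F210306)))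
theorem Q12119 : ∀ i, i < 12119 → P i := stepQ 12118 Q12118 (allL N12118 (tt N10116 F177307) (tt N14282 (iv F210573)) (tt N10107 F177308) (tt N14293 D47063) (tt N10101 F177309) (tt N14291 (iv F210618)) (tt N10099 F177310) (tt N14292 (iv F210625)) (tt N10098 (iv D42416)) (tt N14294 D47064))
theorem Q12120 : ∀ i, i < 12120 → P i := stepQ 12119 Q12119 (allL N12119 (tt N10117 F177311) (tt N14283 (iv F210578)) (tt N14295 D47065) (tt N10099 (iv D42417)) (tt N14296 D47066) (tt N10928 F177312) (tt N14293 (iv F210627)) (tt N10236 F177313) (tt N14288 (iv F210605)) (tt N14297 D47067))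
theorem Q12121 : ∀ i, i < 12121 → P i := stepQ 12120 Q12120 (allL N12120 (tt N10118 F177314) (tt N14284 (iv F210581)) (tt N10109 F177315) (tt N14297 (iv F210640)) (tt N10103 F177316) (tt N10929 F177317) (tt N14294 (iv F210631)) (tt N10237 F177318) (tt N14233 (iv F210319)) (tt N10099 (iv D42418)))
theorem Q12122 : ∀ i, i < 12122 → P i := stepQ 12121 Q12121 (allL N12121 (tt N10119 F177319) (tt N11451 (iv F206363)) (tt N10110 F177320) (tt N11437 F206391) (tt N14292 (iv F210623)) (tt N12121 F177321) (tt N10238 F177322) (tt N10101 F177323) (tt N10100 (iv D42419)) (tt N14298 D47068))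
theorem Q12123 : ∀ i, i < 12123 → P i := stepQ 12122 Q12122 (allL N12122 (tt N10120 F177324) (tt N11410 (iv F206359)) (tt N12122 F177325) (tt N10101 (iv D42420)) (tt N14299 D47069) (tt N12122 F177326) (tt N10102 F177327) (tt N11437 (iv F206393)) (tt N12122 F177328) (tt N14300 D47070))
theorem Q12124 : ∀ i, i < 12124 → P i := stepQ 12123 Q12123 (allL N12123 (tt N10121 F177329) (tt N14285 (iv F210587)) (tt N10111 F177330) (tt N14300 (iv F210659)) (tt N14294 (iv F210630)) (tt N12123 F177331) (tt N10103 F177332) (tt N14298 (iv F210649)) (tt N14235 (iv F210330)) (tt N10101 (iv D42421)))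
theorem Q12125 : ∀ i, i < 12125 → P i := stepQ 12124 Q12124 (allL N12124 (tt N10122 F177333) (tt N14261 (iv F210455)) (tt N12124 F177334) (tt N14296 (iv F210637)) (tt N10102 (iv D42422)) (tt N13864 (iv F208223)) (tt N14299 (iv F210653)) (tt N10241 F177335) (tt N12124 F177336) (tt N14301 D47071))
theorem Q12126 : ∀ i, i < 12126 → P i := stepQ 12125 Q12125 (allL N12125 (tt N10123 F177337) (tt N14264 (iv F210468)) (tt N12125 F177338) (tt N10103 F177339) (tt N14301 (iv F210665)) (tt N10104 F177340) (tt N14300 (iv F210661)) (tt N10242 F177341) (tt N14302 D47072) (tt N10102 (iv D42423)))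
theorem Q12127 : ∀ i, i < 12127 → P i := stepQ 12126 Q12126 (allL N12126 (tt N10126 F177353) (tt N14265 (iv F210474)) (tt N12126 F177354) (tt N14238 (iv F210343)) (tt N13866 (iv F208236)) (tt N14302 (iv F210669)) (tt N12126 F177355) (tt N10243 F177356) (tt N10104 (iv D42426)) (tt N12126 F177357))
theorem Q12128 : ∀ i, i < 12128 → P i := stepQ 12127 Q12127 (allL N12127 (tt N10127 F177358) (tt N12127 F177359) (tt N14290 (iv F210612)) (tt N12127 F177360) (tt N12127 F177361) (tt N10106 F177362) (tt N14303 D47073) (tt N10105 (iv D42427)) (tt N13930 (iv F208645)) (tt N14239 (iv F210352)))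
theorem Q12129 : ∀ i, i < 12129 → P i := stepQ 12128 Q12128 (allL N12128 (tt N10128 F177363) (tt N12128 F177364) (tt N14291 (iv F210616)) (tt N14277 (iv F210543)) (tt N12128 F177365) (tt N10107 F177366) (tt N10933 F177367) (tt N13930 (iv F208644)) (tt N10105 (iv D42428)) (tt N14304 D47074))
theorem Q12130 : ∀ i, i < 12130 → P i := stepQ 12129 Q12129 (allL N12129 (tt N10129 F177368) (tt N12129 F177369) (tt N14292 (iv F210622)) (tt N11029 F205823) (tt N10110 F177370) (tt N13930 (iv F208643)) (tt N10246 F177371) (tt N10107 F177372) (tt N10106 (iv D42429)) (tt N14305 D47075))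
theorem Q12131 : ∀ i, i < 12131 → P i := stepQ 12130 Q12130 (allL N12130 (tt N10130 F177373) (tt N12130 F177374) (tt N14306 D47076) (tt N10107 (iv D42430)) (tt N12130 F177375) (tt N14277 (iv F210544)) (tt N10108 F177376) (tt N11029 F206137) (tt N12130 F177377) (tt N14307 D47077))
theorem Q12132 : ∀ i, i < 12132 → P i := stepQ 12131 Q12131 (allL N12131 (tt N10131 F177378) (tt N12131 F177379) (tt N14294 (iv F210629)) (tt N14307 (iv F210696)) (tt N10111 F177380) (tt N14304 (iv F210681)) (tt N10109 F177381) (tt N14305 (iv F210688)) (tt N14242 (iv F210369)) (tt N10107 (iv D42431)))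
theorem Q12133 : ∀ i, i < 12133 → P i := stepQ 12132 Q12132 (allL N12132 (tt N10132 F177382) (tt N14308 D47078) (tt N10108 (iv D42432)) (tt N14295 (iv F210633)) (tt N12132 F177383) (tt N10937 F177384) (tt N14306 (iv F210691)) (tt N10249 F177385) (tt N12132 F177386) (tt N14309 D47079))
theorem Q12134 : ∀ i, i < 12134 → P i := stepQ 12133 Q12133 (allL N12133 (tt N10133 F177387) (tt N12133 F177388) (tt N14309 (iv F210706)) (tt N10109 F177389) (tt N12133 F177390) (tt N10938 F177391) (tt N14307 (iv F210698)) (tt N10250 F177392) (tt N14310 D47080) (tt N10108 (iv D42433)))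
theorem Q12135 : ∀ i, i < 12135 → P i := stepQ 12134 Q12134 (allL N12134 (tt N10134 F177393) (tt N12134 F177394) (tt N14298 (iv F210645)) (tt N12134 F177395) (tt N14305 (iv F210686)) (tt N12134 F177396) (tt N10251 F177397) (tt N10111 F177398) (tt N14245 (iv F210387)) (tt N10110 (iv D42434)))
theorem Q12136 : ∀ i, i < 12136 → P i := stepQ 12135 Q12135 (allL N12135 (tt N14222 (iv F210251)) (tt N11614 F206323) (tt N12135 F177399) (tt N10114 F177400) (tt N11590 (iv F206326)) (tt N10112 (iv D42435)) (tt N10940 F177401) (tt N14311 D47081) (tt N14312 D47082) (tt N13871 (iv F208277)))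
theorem Q12137 : ∀ i, i < 12137 → P i := stepQ 12136 Q12136 (allL N12136 (tt N14286 (iv F210593)) (tt N13880 (iv F208339)) (tt N12136 F177402) (tt N10115 F177403) (tt N12136 F177404) (tt N14311 (iv F210720)) (tt N10253 F177405) (tt N10112 (iv D42436)) (tt N14313 D47083) (tt N14246 (iv F210394)))
theorem Q12138 : ∀ i, i < 12138 → P i := stepQ 12137 Q12137 (allL N12137 (tt N14287 (iv F210598)) (tt N13881 (iv F208347)) (tt N12137 F177406) (tt N14314 D47084) (tt N12137 F177407) (tt N14312 (iv F210726)) (tt N10113 F177408) (tt N14313 (iv F210731)) (tt N10112 (iv D42437)) (tt N14315 D47085))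
theorem Q12139 : ∀ i, i < 12139 → P i := stepQ 12138 Q12138 (allL N12138 (tt N14288 (iv F210602)) (tt N13882 (iv F208353)) (tt N14316 D47086) (tt N10113 (iv D42438)) (tt N14317 D47087) (tt N10941 F177409) (tt N14314 (iv F210732)) (tt N10255 F177410) (tt N10117 F177411) (tt N14318 D47088))
theorem Q12140 : ∀ i, i < 12140 → P i := stepQ 12139 Q12139 (allL N12139 (tt N14289 (iv F210606)) (tt N13883 (iv F208359)) (tt N12139 F177412) (tt N14318 (iv F210744)) (tt N12139 F177413) (tt N10942 F177414) (tt N14315 (iv F210736)) (tt N10256 F177415) (tt N14249 (iv F210409)) (tt N10113 (iv D42439)))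
theorem Q12141 : ∀ i, i < 12141 → P i := stepQ 12140 Q12140 (allL N12140 (tt N14290 (iv F210611)) (tt N13851 (iv F208124)) (tt N10127 F177416) (tt N14311 (iv F210718)) (tt N12140 F177417) (tt N10115 F177418) (tt N14319 D47089) (tt N10114 (iv D42440)) (tt N13923 (iv F208597)) (tt N14250 (iv F210415)))
theorem Q12142 : ∀ i, i < 12142 → P i := stepQ 12141 Q12141 (allL N12141 (tt N14291 (iv F210615)) (tt N13869 (iv F208257)) (tt N10128 F177419) (tt N14320 D47090) (tt N12141 F177420) (tt N10116 F177421) (tt N10944 F177422) (tt N13923 (iv F208596)) (tt N10114 (iv D42441)) (tt N14321 D47091))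
theorem Q12143 : ∀ i, i < 12143 → P i := stepQ 12142 Q12142 (allL N12142 (tt N14292 (iv F210620)) (tt N10683 F205824) (tt N10129 F177423) (tt N14322 D47092) (tt N10119 F177424) (tt N13923 (iv F208595)) (tt N10259 F177425) (tt N10116 F177426) (tt N10115 (iv D42442)) (tt N14323 D47093))
theorem Q12144 : ∀ i, i < 12144 → P i := stepQ 12143 Q12143 (allL N12143 (tt N14293 (iv F210626)) (tt N13884 (iv F208365)) (tt N14324 D47094) (tt N10116 (iv D42443)) (tt N14325 D47095) (tt N14320 (iv F210753)) (tt N10117 F177427) (tt N14322 (iv F210763)) (tt N14314 (iv F210733)) (tt N14326 D47096))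
theorem Q12145 : ∀ i, i < 12145 → P i := stepQ 12144 Q12144 (allL N12144 (tt N14294 (iv F210628)) (tt N13885 (iv F208371)) (tt N10131 F177428) (tt N14326 (iv F210777)) (tt N10121 F177429) (tt N14321 (iv F210757)) (tt N10118 F177430) (tt N14323 (iv F210768)) (tt N14254 (iv F210429)) (tt N10116 (iv D42444)))
theorem Q12146 : ∀ i, i < 12146 → P i := stepQ 12145 Q12145 (allL N12145 (tt N14295 (iv F210632)) (tt N14327 D47097) (tt N10117 (iv D42445)) (tt N10132 F177431) (tt N14328 D47098) (tt N10948 F177432) (tt N14324 (iv F210771)) (tt N10262 F177433) (tt N14316 (iv F210740)) (tt N14329 D47099))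
theorem Q12147 : ∀ i, i < 12147 → P i := stepQ 12146 Q12146 (allL N12146 (tt N14296 (iv F210636)) (tt N13887 (iv F208385)) (tt N14328 (iv F210784)) (tt N10122 F177434) (tt N10117 (iv D42446)) (tt N14330 D47100) (tt N14325 (iv F210775)) (tt N10263 F177435) (tt N14317 (iv F210743)) (tt N14331 D47101))
theorem Q12148 : ∀ i, i < 12148 → P i := stepQ 12147 Q12147 (allL N12147 (tt N14297 (iv F210639)) (tt N13888 (iv F208390)) (tt N14329 (iv F210787)) (tt N10118 F177436) (tt N14331 (iv F210795)) (tt N10950 F177437) (tt N14326 (iv F210778)) (tt N10264 F177438) (tt N14332 D47102) (tt N10117 (iv D42447)))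
theorem Q12149 : ∀ i, i < 12149 → P i := stepQ 12148 Q12148 (allL N12148 (tt N14298 (iv F210643)) (tt N11430 (iv F206469)) (tt N10134 F177444) (tt N11438 (iv F206487)) (tt N14323 (iv F210766)) (tt N12148 F177445) (tt N10266 F177446) (tt N10121 F177447) (tt N14259 (iv F210450)) (tt N10119 (iv D42449)))
theorem Q12150 : ∀ i, i < 12150 → P i := stepQ 12149 Q12149 (allL N12149 (tt N14299 (iv F210650)) (tt N10937 F205527) (tt N12149 F177448) (tt N14325 (iv F210774)) (tt N10120 (iv D42450)) (tt N14308 (iv F210702)) (tt N10122 F177449) (tt N11054 F205528) (tt N12149 F177450) (tt N14333 D47103))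
theorem Q12151 : ∀ i, i < 12151 → P i := stepQ 12150 Q12150 (allL N12150 (tt N14300 (iv F210656)) (tt N11391 (iv F206477)) (tt N12150 F177451) (tt N10121 F177452) (tt N14333 (iv F210801)) (tt N12150 F177453) (tt N10123 F177454) (tt N11438 F206486) (tt N14334 D47104) (tt N10120 (iv D42451)))
theorem Q12152 : ∀ i, i < 12152 → P i := stepQ 12151 Q12151 (allL N12151 (tt N13864 (iv F208220)) (tt N13889 (iv F208395)) (tt N12151 F177455) (tt N14330 (iv F210791)) (tt N10124 F177456) (tt N10122 (iv D42452)) (tt N14335 D47105) (tt N10269 F177457) (tt N12151 F177458) (tt N14336 D47106))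
theorem Q12153 : ∀ i, i < 12153 → P i := stepQ 12152 Q12152 (allL N12152 (tt N14301 (iv F210663)) (tt N13890 (iv F208401)) (tt N12152 F177459) (tt N14331 (iv F210794)) (tt N10123 F177460) (tt N14336 (iv F210815)) (tt N14333 (iv F210802)) (tt N10270 F177461) (tt N14337 D47107) (tt N10122 (iv D42453)))
theorem Q12154 : ∀ i, i < 12154 → P i := stepQ 12153 Q12153 (allL N12153 (tt N14302 (iv F210667)) (tt N13891 (iv F208407)) (tt N12153 F177462) (tt N14263 (iv F210463)) (tt N14337 (iv F210818)) (tt N10126 F177463) (tt N14334 (iv F210807)) (tt N10271 F177464) (tt N10123 (iv D42454)) (tt N12153 F177465))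
theorem Q12155 : ∀ i, i < 12155 → P i := stepQ 12154 Q12154 (allL N12154 (tt N13862 (iv F208207)) (tt N13892 (iv F208413)) (tt N12154 F177466) (tt N10955 F177467) (tt N14335 (iv F210811)) (tt N12154 F177468) (tt N10124 (iv D42455)) (tt N14338 D47108) (tt N12154 F177469) (tt N14339 D47109))
theorem Q12156 : ∀ i, i < 12156 → P i := stepQ 12155 Q12155 (allL N12155 (tt N13865 (iv F208226)) (tt N13893 (iv F208417)) (tt N12155 F177470) (tt N10956 F177471) (tt N14336 (iv F210814)) (tt N10125 F177472) (tt N14339 (iv F210830)) (tt N10273 F177473) (tt N14340 D47110) (tt N10124 (iv D42456)))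
theorem Q12157 : ∀ i, i < 12157 → P i := stepQ 12156 Q12156 (allL N12156 (tt N13866 (iv F208232)) (tt N13894 (iv F208421)) (tt N12156 F177474) (tt N13879 (iv F208333)) (tt N10126 F177475) (tt N14340 (iv F210835)) (tt N12156 F177476) (tt N10274 F177477) (tt N10125 (iv D42457)) (tt N12156 F177478))
theorem Q12158 : ∀ i, i < 12158 → P i := stepQ 12157 Q12157 (allL N12157 (tt N14303 (iv F210672)) (tt N10135 F177479) (tt N14319 (iv F210748)) (tt N12157 F177480) (tt N12157 F177481) (tt N10275 F177482) (tt N10127 (iv D42458)) (tt N10957 F177483) (tt N13928 (iv F208631)) (tt N14266 (iv F210484)))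
theorem Q12159 : ∀ i, i < 12159 → P i := stepQ 12158 Q12158 (allL N12158 (tt N14304 (iv F210678)) (tt N10136 F177492) (tt N14321 (iv F210755)) (tt N14278 (iv F210549)) (tt N12158 F177493) (tt N10131 F177494) (tt N10960 F177495) (tt N13931 (iv F208650)) (tt N14268 (iv F210497)) (tt N10128 (iv D42461)))
theorem Q12160 : ∀ i, i < 12160 → P i := stepQ 12159 Q12159 (allL N12159 (tt N14305 (iv F210683)) (tt N10137 F177501) (tt N14323 (iv F210765)) (tt N11030 F205830) (tt N10134 F177502) (tt N13931 (iv F208649)) (tt N10280 F177503) (tt N10131 F177504) (tt N14270 (iv F210510)) (tt N10129 (iv D42463)))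
theorem Q12161 : ∀ i, i < 12161 → P i := stepQ 12160 Q12160 (allL N12160 (tt N14306 (iv F210689)) (tt N10920 F206138) (tt N10130 (iv D42464)) (tt N14324 (iv F210770)) (tt N12160 F177505) (tt N14272 (iv F210516)) (tt N10132 F177506) (tt N11022 F206139) (tt N12160 F177507) (tt N14341 D47111))
theorem Q12162 : ∀ i, i < 12162 → P i := stepQ 12161 Q12161 (allL N12161 (tt N14307 (iv F210694)) (tt N10138 F177508) (tt N14341 (iv F210840)) (tt N10131 F177509) (tt N12161 F177510) (tt N14278 (iv F210550)) (tt N10133 F177511) (tt N11030 F206143) (tt N14342 D47112) (tt N10130 (iv D42465)))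
theorem Q12163 : ∀ i, i < 12163 → P i := stepQ 12162 Q12162 (allL N12162 (tt N14343 D47113) (tt N10132 (iv D42466)) (tt N10139 F177512) (tt N14327 (iv F210780)) (tt N12162 F177513) (tt N10965 F177514) (tt N10920 F206175) (tt N10283 F177515) (tt N12162 F177516) (tt N14344 D47114))
theorem Q12164 : ∀ i, i < 12164 → P i := stepQ 12163 Q12163 (allL N12163 (tt N14309 (iv F210705)) (tt N14344 (iv F210855)) (tt N10133 F177517) (tt N14329 (iv F210788)) (tt N12163 F177518) (tt N10966 F177519) (tt N14341 (iv F210842)) (tt N10284 F177520) (tt N14345 D47115) (tt N10132 (iv D42467)))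
theorem Q12165 : ∀ i, i < 12165 → P i := stepQ 12164 Q12164 (allL N12164 (tt N14310 (iv F210710)) (tt N10141 F177521) (tt N14345 (iv F210861)) (tt N14274 (iv F210524)) (tt N12164 F177522) (tt N10967 F177523) (tt N14342 (iv F210846)) (tt N10285 F177524) (tt N10133 (iv D42468)) (tt N12164 F177525))
theorem Q12166 : ∀ i, i < 12166 → P i := stepQ 12165 Q12165 (allL N12165 (tt N12165 F177569) (tt N14342 (iv F210844)) (tt N10923 F206149) (tt N14276 (iv F210537)) (tt N12165 F177570) (tt N14279 (iv F210556)) (tt N10141 F177571) (tt N11031 F206150) (tt N10138 (iv D42479)) (tt N12165 F177572))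
theorem Q12167 : ∀ i, i < 12167 → P i := stepQ 12166 Q12166 (allL N12166 (tt N10139 (iv D42480)) (tt N12166 F177573) (tt N14343 (iv F210849)) (tt N10904 F206173) (tt N12166 F177574) (tt N10977 F177575) (tt N10905 F206174) (tt N10296 F177576) (tt N12166 F177577) (tt N14346 D47116))
theorem Q12168 : ∀ i, i < 12168 → P i := stepQ 12167 Q12167 (allL N12167 (tt N14346 (iv F210866)) (tt N10140 F177578) (tt N14344 (iv F210856)) (tt N10919 F206176) (tt N12167 F177579) (tt N10978 F177580) (tt N10921 F206177) (tt N10297 F177581) (tt N14347 D47117) (tt N10139 (iv D42481)))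
theorem Q12169 : ∀ i, i < 12169 → P i := stepQ 12168 Q12168 (allL N12168 (tt N12168 F177582) (tt N14347 (iv F210873)) (tt N10141 F177583) (tt N10976 F206179) (tt N12168 F177584) (tt N10979 F177585) (tt N10923 F206180) (tt N10298 F177586) (tt N10140 (iv D42482)) (tt N12168 F177587))
theorem Q12170 : ∀ i, i < 12170 → P i := stepQ 12169 Q12169 (allL N12169 (tt N12169 F177603) (tt N10145 F177604) (tt N11414 F206331) (tt N10142 (iv D42486)) (tt N11413 F206332) (tt N14216 (iv F210213)) (tt N10300 F177605) (tt N11417 (iv F206330)) (tt N12169 F177606) (tt N14348 D47118))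
theorem Q12171 : ∀ i, i < 12171 → P i := stepQ 12170 Q12170 (allL N12170 (tt N12170 F177607) (tt N10146 F177608) (tt N12170 F177609) (tt N14348 (iv F210883)) (tt N12170 F177610) (tt N14217 (iv F210222)) (tt N10301 F177611) (tt N14202 (iv F210112)) (tt N12170 F177612) (tt N10142 (iv D42487)))
theorem Q12172 : ∀ i, i < 12172 → P i := stepQ 12171 Q12171 (allL N12171 (tt N10153 F177631) (tt N10166 F199417) (tt N10150 F177632) (tt N14349 D47119) (tt N10162 F199418) (tt N10302 F177633) (tt N10144 F177634) (tt N10159 F199419) (tt N10143 (iv D42492)) (tt N14350 D47120))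
theorem Q12173 : ∀ i, i < 12173 → P i := stepQ 12172 Q12172 (allL N12172 (tt N10154 F177635) (tt N14216 (iv F210211)) (tt N10181 F177636) (tt N10144 (iv D42493)) (tt N14269 (iv F210500)) (tt N10145 F177637) (tt N14349 (iv F210892)) (tt N14203 (iv F210120)) (tt N12172 F177638) (tt N14351 D47121))
theorem Q12174 : ∀ i, i < 12174 → P i := stepQ 12173 Q12173 (allL N12173 (tt N10155 F177639) (tt N14217 (iv F210219)) (tt N10151 F177640) (tt N14351 (iv F210905)) (tt N14215 (iv F210205)) (tt N10146 F177641) (tt N14350 (iv F210900)) (tt N14204 (iv F210128)) (tt N12173 F177642) (tt N10144 (iv D42494)))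
theorem Q12175 : ∀ i, i < 12175 → P i := stepQ 12174 Q12174 (allL N12174 (tt N10157 F177648) (tt N14348 (iv F210881)) (tt N10183 F177649) (tt N10146 F177650) (tt N13942 (iv F208724)) (tt N14351 (iv F210906)) (tt N10305 F177651) (tt N14205 (iv F210136)) (tt N14352 D47122) (tt N10145 (iv D42496)))
theorem Q12176 : ∀ i, i < 12176 → P i := stepQ 12175 Q12175 (allL N12175 (tt N10159 F177663) (tt N12175 F177664) (tt N10162 F199559) (tt N14353 D47123) (tt N10150 F177665) (tt N10311 F199560) (tt N10148 F177666) (tt N10153 F199561) (tt N10147 (iv D42499)) (tt N14354 D47124))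
theorem Q12177 : ∀ i, i < 12177 → P i := stepQ 12176 Q12176 (allL N12176 (tt N10160 F177667) (tt N12176 F177668) (tt N14258 (iv F210439)) (tt N10148 (iv D42500)) (tt N10187 F177669) (tt N12176 F177670) (tt N14353 (iv F210917)) (tt N14206 (iv F210143)) (tt N12176 F177671) (tt N14355 D47125))
theorem Q12178 : ∀ i, i < 12178 → P i := stepQ 12177 Q12177 (allL N12177 (tt N10161 F177672) (tt N12177 F177673) (tt N14215 (iv F210203)) (tt N14355 (iv F210930)) (tt N10151 F177674) (tt N12177 F177675) (tt N14354 (iv F210925)) (tt N14207 (iv F210151)) (tt N12177 F177676) (tt N10148 (iv D42501)))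
theorem Q12179 : ∀ i, i < 12179 → P i := stepQ 12178 Q12178 (allL N12178 (tt N10162 F177677) (tt N12178 F177678) (tt N10159 F199411) (tt N10189 F177679) (tt N10153 F199412) (tt N10306 F177680) (tt N10152 F199413) (tt N10150 F177681) (tt N10149 (iv D42502)) (tt N14356 D47126))
theorem Q12180 : ∀ i, i < 12180 → P i := stepQ 12179 Q12179 (allL N12179 (tt N10163 F177682) (tt N12179 F177683) (tt N14350 (iv F210897)) (tt N10190 F177684) (tt N14354 (iv F210923)) (tt N10307 F177685) (tt N10151 F177686) (tt N14356 (iv F210940)) (tt N12179 F177687) (tt N10150 (iv D42503)))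
theorem Q12181 : ∀ i, i < 12181 → P i := stepQ 12180 Q12180 (allL N12180 (tt N14215 (iv F210201)) (tt N12180 F177712) (tt N10161 F177713) (tt N14245 (iv F210383)) (tt N10155 F177714) (tt N12180 F177715) (tt N14356 (iv F210939)) (tt N14208 (iv F210160)) (tt N12180 F177716) (tt N10152 (iv D42510)))
theorem Q12182 : ∀ i, i < 12182 → P i := stepQ 12181 Q12181 (allL N12181 (tt N14349 (iv F210887)) (tt N12181 F177721) (tt N10199 F177722) (tt N10153 (iv D42512)) (tt N14357 D47127) (tt N10312 F177723) (tt N10154 F177724) (tt N14353 (iv F210918)) (tt N12181 F177725) (tt N14358 D47128))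
theorem Q12183 : ∀ i, i < 12183 → P i := stepQ 12182 Q12182 (allL N12182 (tt N14350 (iv F210895)) (tt N12182 F177726) (tt N10163 F177727) (tt N14358 (iv F210951)) (tt N14356 (iv F210937)) (tt N10313 F177728) (tt N10155 F177729) (tt N14354 (iv F210926)) (tt N12182 F177730) (tt N10153 (iv D42513)))
theorem Q12184 : ∀ i, i < 12184 → P i := stepQ 12183 Q12183 (allL N12183 (tt N14269 (iv F210498)) (tt N12183 F177731) (tt N10201 F177732) (tt N14241 F210364) (tt N10154 (iv D42514)) (tt N14359 D47129) (tt N14357 (iv F210946)) (tt N14209 (iv F210168)) (tt N12183 F177733) (tt N14360 D47130))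
theorem Q12185 : ∀ i, i < 12185 → P i := stepQ 12184 Q12184 (allL N12184 (tt N14351 (iv F210903)) (tt N12184 F177734) (tt N10202 F177735) (tt N10155 F177736) (tt N14360 (iv F210963)) (tt N10157 F177737) (tt N14358 (iv F210953)) (tt N14210 (iv F210174)) (tt N14361 D47131) (tt N10154 (iv D42515)))
theorem Q12186 : ∀ i, i < 12186 → P i := stepQ 12185 Q12185 (allL N12185 (tt N11421 F206283) (tt N12185 F177738) (tt N10203 F177739) (tt N12185 F177740) (tt N14359 (iv F210957)) (tt N10156 (iv D42516)) (tt N11490 F206346) (tt N11424 (iv F206345)) (tt N12185 F177741) (tt N14362 D47132))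
theorem Q12187 : ∀ i, i < 12187 → P i := stepQ 12186 Q12186 (allL N12186 (tt N13942 (iv F208720)) (tt N12186 F177742) (tt N10204 F177743) (tt N12186 F177744) (tt N10157 F177745) (tt N14362 (iv F210973)) (tt N10317 F177746) (tt N14211 (iv F210182)) (tt N14363 D47133) (tt N10156 (iv D42517)))
theorem Q12188 : ∀ i, i < 12188 → P i := stepQ 12187 Q12187 (allL N12187 (tt N14352 (iv F210907)) (tt N12187 F177747) (tt N10205 F177748) (tt N12187 F177749) (tt N14363 (iv F210978)) (tt N14361 (iv F210967)) (tt N10318 F177750) (tt N14212 (iv F210187)) (tt N10157 (iv D42518)) (tt N12187 F177751))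
theorem Q12189 : ∀ i, i < 12189 → P i := stepQ 12188 Q12188 (allL N12188 (tt N10311 F199405) (tt N10165 F177757) (tt N10306 F199406) (tt N14364 D47134) (tt N10319 F177758) (tt N10159 F177759) (tt N12188 F177760) (tt N10302 F199407) (tt N10158 (iv D42520)) (tt N14365 D47135))
theorem Q12190 : ∀ i, i < 12190 → P i := stepQ 12189 Q12189 (allL N12189 (tt N14353 (iv F210912)) (tt N10167 F177764) (tt N14366 D47136) (tt N10159 (iv D42522)) (tt N10209 F177765) (tt N14364 (iv F210985)) (tt N10160 F177766) (tt N14349 (iv F210893)) (tt N12189 F177767) (tt N14367 D47137))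
theorem Q12191 : ∀ i, i < 12191 → P i := stepQ 12190 Q12190 (allL N12190 (tt N14354 (iv F210920)) (tt N10168 F177768) (tt N14356 (iv F210935)) (tt N14367 (iv F211005)) (tt N10163 F177769) (tt N14365 (iv F210993)) (tt N10161 F177770) (tt N14350 (iv F210901)) (tt N12190 F177771) (tt N10159 (iv D42523)))
theorem Q12192 : ∀ i, i < 12192 → P i := stepQ 12191 Q12191 (allL N12191 (tt N14258 (iv F210438)) (tt N14368 D47138) (tt N10160 (iv D42524)) (tt N14234 F210325) (tt N10211 F177772) (tt N12191 F177773) (tt N14366 (iv F211001)) (tt N14213 (iv F210194)) (tt N12191 F177774) (tt N14369 D47139))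
theorem Q12193 : ∀ i, i < 12193 → P i := stepQ 12192 Q12192 (allL N12192 (tt N14355 (iv F210928)) (tt N10170 F177775) (tt N14369 (iv F211012)) (tt N10161 F177776) (tt N10212 F177777) (tt N12192 F177778) (tt N14367 (iv F211007)) (tt N14214 (iv F210200)) (tt N14370 D47140) (tt N10160 (iv D42525)))
theorem Q12194 : ∀ i, i < 12194 → P i := stepQ 12193 Q12193 (allL N12193 (tt N14356 (iv F210933)) (tt N10171 F177779) (tt N14354 (iv F210922)) (tt N10213 F177780) (tt N14350 (iv F210898)) (tt N10322 F177781) (tt N14215 (iv F210207)) (tt N10163 F177782) (tt N12193 F177783) (tt N10162 (iv D42526)))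
theorem Q12195 : ∀ i, i < 12195 → P i := stepQ 12194 Q12194 (allL N12194 (tt N12194 F177790) (tt N10302 F199415) (tt N12194 F177791) (tt N14371 D47141) (tt N10323 F177792) (tt N10166 F177793) (tt N10299 F199416) (tt N10165 F177794) (tt N10164 (iv D42528)) (tt N14372 D47142))
theorem Q12196 : ∀ i, i < 12196 → P i := stepQ 12195 Q12195 (allL N12195 (tt N12195 F177795) (tt N14364 (iv F210982)) (tt N14373 D47143) (tt N10165 (iv D42529)) (tt N14374 D47144) (tt N10167 F177796) (tt N12195 F177797) (tt N14371 (iv F211025)) (tt N12195 F177798) (tt N14375 D47145))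
theorem Q12197 : ∀ i, i < 12197 → P i := stepQ 12196 Q12196 (allL N12196 (tt N12196 F177799) (tt N14365 (iv F210990)) (tt N12196 F177800) (tt N14375 (iv F211052)) (tt N10325 F177801) (tt N10168 F177802) (tt N12196 F177803) (tt N14372 (iv F211034)) (tt N12196 F177804) (tt N10165 (iv D42530)))
theorem Q12198 : ∀ i, i < 12198 → P i := stepQ 12197 Q12197 (allL N12197 (tt N12197 F177805) (tt N14349 (iv F210888)) (tt N14376 D47146) (tt N10166 (iv D42531)) (tt N10218 F177806) (tt N14371 (iv F211023)) (tt N14216 (iv F210214)) (tt N10167 F177807) (tt N12197 F177808) (tt N14377 D47147))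
theorem Q12199 : ∀ i, i < 12199 → P i := stepQ 12198 Q12198 (allL N12198 (tt N12198 F177809) (tt N14350 (iv F210896)) (tt N12198 F177810) (tt N14377 (iv F211063)) (tt N10171 F177811) (tt N14372 (iv F211032)) (tt N14217 (iv F210223)) (tt N10168 F177812) (tt N12198 F177813) (tt N10166 (iv D42532)))
theorem Q12200 : ∀ i, i < 12200 → P i := stepQ 12199 Q12199 (allL N12199 (tt N12199 F177814) (tt N14378 D47148) (tt N10167 (iv D42533)) (tt N12199 F177815) (tt N10220 F177816) (tt N14373 (iv F211038)) (tt N10169 F177817) (tt N14376 (iv F211060)) (tt N12199 F177818) (tt N14379 D47149))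
theorem Q12201 : ∀ i, i < 12201 → P i := stepQ 12200 Q12200 (allL N12200 (tt N12200 F177819) (tt N14367 (iv F211004)) (tt N14379 (iv F211071)) (tt N10168 F177820) (tt N10221 F177821) (tt N14375 (iv F211053)) (tt N10170 F177822) (tt N14377 (iv F211065)) (tt N14380 D47150) (tt N10167 (iv D42534)))
theorem Q12202 : ∀ i, i < 12202 → P i := stepQ 12201 Q12201 (allL N12201 (tt N14381 D47151) (tt N10169 (iv D42535)) (tt N14368 (iv F211008)) (tt N12201 F177823) (tt N10222 F177824) (tt N12201 F177825) (tt N14378 (iv F211068)) (tt N14219 (iv F210236)) (tt N12201 F177826) (tt N14382 D47152))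
theorem Q12203 : ∀ i, i < 12203 → P i := stepQ 12202 Q12202 (allL N12202 (tt N12202 F177827) (tt N14382 (iv F211085)) (tt N10170 F177828) (tt N12202 F177829) (tt N10223 F177830) (tt N12202 F177831) (tt N14379 (iv F211074)) (tt N14220 (iv F210244)) (tt N14383 D47153) (tt N10169 (iv D42536)))
theorem Q12204 : ∀ i, i < 12204 → P i := stepQ 12203 Q12203 (allL N12203 (tt N12203 F177832) (tt N14370 (iv F211015)) (tt N14383 (iv F211090)) (tt N12203 F177833) (tt N10224 F177834) (tt N12203 F177835) (tt N14380 (iv F211078)) (tt N14221 (iv F210249)) (tt N10170 (iv D42537)) (tt N12203 F177836))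
theorem Q12205 : ∀ i, i < 12205 → P i := stepQ 12204 Q12204 (allL N12204 (tt N10943 F197911) (tt N10176 F177837) (tt N10932 F197912) (tt N10172 (iv D42538)) (tt N12204 F177838) (tt N10926 F197913) (tt N14384 D47154) (tt N10925 F197914) (tt N14385 D47155) (tt N10225 F177840))
theorem Q12206 : ∀ i, i < 12206 → P i := stepQ 12205 Q12205 (allL N12205 (tt N11593 (iv F206832)) (tt N10177 F177841) (tt N12205 F177842) (tt N14384 (iv F211097)) (tt N10173 F177843) (tt N14386 D47156) (tt N10172 (iv D42539)) (tt N14387 D47157) (tt N14388 D47158) (tt N10226 F177844))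
theorem Q12207 : ∀ i, i < 12207 → P i := stepQ 12206 Q12206 (allL N12206 (tt N10724 F202152) (tt N10178 F177845) (tt N12206 F177846) (tt N14389 D47159) (tt N10174 F177847) (tt N10700 F202153) (tt N14388 (iv F211123)) (tt N14223 (iv F210263)) (tt N10172 (iv D42540)) (tt N14390 D47160))
theorem Q12208 : ∀ i, i < 12208 → P i := stepQ 12207 Q12207 (allL N12207 (tt N11594 (iv F206830)) (tt N10179 F177849) (tt N12207 F177850) (tt N12207 F177851) (tt N14387 (iv F211117)) (tt N10334 F177852) (tt N14224 (iv F210269)) (tt N10173 (iv D42541)) (tt N14391 D47161) (tt N10228 F177853))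
theorem Q12209 : ∀ i, i < 12209 → P i := stepQ 12208 Q12208 (allL N12208 (tt N10726 F202169) (tt N10180 F177854) (tt N12208 F177855) (tt N13955 (iv F208803)) (tt N14388 (iv F211122)) (tt N10335 F177856) (tt N10174 F177857) (tt N14391 (iv F211137)) (tt N10173 (iv D42542)) (tt N14392 D47162))
theorem Q12210 : ∀ i, i < 12210 → P i := stepQ 12209 Q12209 (allL N12209 (tt N10727 F202166) (tt N10182 F177861) (tt N12209 F177862) (tt N13956 (iv F208808)) (tt N14390 (iv F211130)) (tt N10175 F177863) (tt N14392 (iv F211142)) (tt N14226 (iv F210280)) (tt N10230 F177864) (tt N10174 (iv D42544)))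
theorem Q12211 : ∀ i, i < 12211 → P i := stepQ 12210 Q12210 (allL N12210 (tt N10191 F177875) (tt N14384 (iv F211095)) (tt N12210 F177876) (tt N10177 F177877) (tt N12210 F177878) (tt N14393 D47163) (tt N10176 (iv D42548)) (tt N14394 D47164) (tt N14395 D47165) (tt N10231 F177879))
theorem Q12212 : ∀ i, i < 12212 → P i := stepQ 12211 Q12211 (allL N12211 (tt N10192 F177880) (tt N14385 (iv F211102)) (tt N12211 F177881) (tt N14396 D47166) (tt N12211 F177882) (tt N10982 F177883) (tt N14395 (iv F211159)) (tt N14228 (iv F210294)) (tt N10176 (iv D42549)) (tt N14397 D47167))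
theorem Q12213 : ∀ i, i < 12213 → P i := stepQ 12212 Q12212 (allL N12212 (tt N10193 F177884) (tt N14386 (iv F211108)) (tt N10184 F177885) (tt N14393 (iv F211147)) (tt N10337 F177886) (tt N10177 (iv D42550)) (tt N10983 F177887) (tt N14398 D47168) (tt N14399 D47169) (tt N10233 F177888))
theorem Q12214 : ∀ i, i < 12214 → P i := stepQ 12213 Q12213 (allL N12213 (tt N10194 F177889) (tt N14387 (iv F211115)) (tt N10185 F177890) (tt N14394 (iv F211153)) (tt N10179 F177891) (tt N14398 (iv F211171)) (tt N14230 (iv F210305)) (tt N10177 (iv D42551)) (tt N14400 D47170) (tt N10234 F177892))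
theorem Q12215 : ∀ i, i < 12215 → P i := stepQ 12214 Q12214 (allL N12214 (tt N10195 F177893) (tt N14388 (iv F211120)) (tt N10186 F177894) (tt N14401 D47171) (tt N10180 F177895) (tt N14399 (iv F211176)) (tt N10178 F177896) (tt N14400 (iv F211181)) (tt N10177 (iv D42552)) (tt N14402 D47172))
theorem Q12216 : ∀ i, i < 12216 → P i := stepQ 12215 Q12215 (allL N12215 (tt N10196 F177897) (tt N14389 (iv F211125)) (tt N14403 D47173) (tt N10178 (iv D42553)) (tt N14404 D47174) (tt N10986 F177898) (tt N14401 (iv F211183)) (tt N14232 (iv F210313)) (tt N14396 (iv F211162)) (tt N14405 D47175))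
theorem Q12217 : ∀ i, i < 12217 → P i := stepQ 12216 Q12216 (allL N12216 (tt N10197 F177899) (tt N14390 (iv F211128)) (tt N10188 F177900) (tt N14405 (iv F211195)) (tt N10182 F177901) (tt N10987 F177902) (tt N14402 (iv F211187)) (tt N14233 (iv F210318)) (tt N10237 F177903) (tt N10178 (iv D42554)))
theorem Q12218 : ∀ i, i < 12218 → P i := stepQ 12217 Q12217 (allL N12217 (tt N10198 F177904) (tt N14391 (iv F211134)) (tt N10189 F177905) (tt N14366 (iv F210998)) (tt N14400 (iv F211180)) (tt N10342 F177906) (tt N14234 (iv F210323)) (tt N10180 F177907) (tt N10179 (iv D42555)) (tt N14406 D47176))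
theorem Q12219 : ∀ i, i < 12219 → P i := stepQ 12218 Q12218 (allL N12218 (tt N10199 F177908) (tt N13955 (iv F208802)) (tt N14349 (iv F210889)) (tt N10180 (iv D42556)) (tt N14407 D47177) (tt N10343 F177909) (tt N10181 F177910) (tt N14366 (iv F211002)) (tt N12218 F177911) (tt N14408 D47178))
theorem Q12220 : ∀ i, i < 12220 → P i := stepQ 12219 Q12219 (allL N12219 (tt N10200 F177912) (tt N14392 (iv F211139)) (tt N10190 F177913) (tt N14408 (iv F211208)) (tt N14402 (iv F211186)) (tt N10344 F177914) (tt N10182 F177915) (tt N14406 (iv F211200)) (tt N10240 F177916) (tt N10180 (iv D42557)))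
theorem Q12221 : ∀ i, i < 12221 → P i := stepQ 12220 Q12220 (allL N12220 (tt N10201 F177917) (tt N13952 (iv F208784)) (tt N14269 F210505) (tt N14404 (iv F211193)) (tt N10181 (iv D42558)) (tt N13940 (iv F208709)) (tt N14407 (iv F211204)) (tt N14236 (iv F210336)) (tt N12220 F177918) (tt N14409 D47179))
theorem Q12222 : ∀ i, i < 12222 → P i := stepQ 12221 Q12221 (allL N12221 (tt N10202 F177919) (tt N13956 (iv F208807)) (tt N14351 (iv F210904)) (tt N10182 F177920) (tt N14409 (iv F211212)) (tt N10183 F177921) (tt N14408 (iv F211210)) (tt N14237 (iv F210341)) (tt N14410 D47180) (tt N10181 (iv D42559)))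
theorem Q12223 : ∀ i, i < 12223 → P i := stepQ 12222 Q12222 (allL N12222 (tt N10205 F177929) (tt N13957 (iv F208811)) (tt N14352 (iv F210908)) (tt N10243 F177930) (tt N13943 (iv F208731)) (tt N14410 (iv F211215)) (tt N10347 F177931) (tt N14238 (iv F210345)) (tt N10183 (iv D42562)) (tt N12222 F177932))
theorem Q12224 : ∀ i, i < 12224 → P i := stepQ 12223 Q12223 (allL N12223 (tt N10206 F177933) (tt N12223 F177934) (tt N14398 (iv F211169)) (tt N12223 F177935) (tt N10348 F177936) (tt N10185 F177937) (tt N14411 D47181) (tt N10184 (iv D42563)) (tt N14412 D47182) (tt N10244 F177938))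
theorem Q12225 : ∀ i, i < 12225 → P i := stepQ 12224 Q12224 (allL N12224 (tt N10207 F177939) (tt N12224 F177940) (tt N14399 (iv F211174)) (tt N14413 D47183) (tt N10349 F177941) (tt N10186 F177942) (tt N10991 F177943) (tt N14412 (iv F211227)) (tt N10184 (iv D42564)) (tt N14414 D47184))
theorem Q12226 : ∀ i, i < 12226 → P i := stepQ 12225 Q12225 (allL N12225 (tt N10208 F177944) (tt N12225 F177945) (tt N14400 (iv F211179)) (tt N14357 (iv F210945)) (tt N10189 F177946) (tt N14412 (iv F211226)) (tt N14241 (iv F210362)) (tt N10186 F177947) (tt N10185 (iv D42565)) (tt N14415 D47185))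
theorem Q12227 : ∀ i, i < 12227 → P i := stepQ 12226 Q12226 (allL N12226 (tt N10209 F177948) (tt N12226 F177949) (tt N14416 D47186) (tt N10186 (iv D42566)) (tt N14353 (iv F210915)) (tt N14413 (iv F211231)) (tt N10187 F177950) (tt N14357 (iv F210947)) (tt N12226 F177951) (tt N14417 D47187))
theorem Q12228 : ∀ i, i < 12228 → P i := stepQ 12227 Q12227 (allL N12227 (tt N10210 F177952) (tt N12227 F177953) (tt N14402 (iv F211185)) (tt N14417 (iv F211252)) (tt N10190 F177954) (tt N14414 (iv F211237)) (tt N10188 F177955) (tt N14415 (iv F211243)) (tt N10248 F177956) (tt N10186 (iv D42567)))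
theorem Q12229 : ∀ i, i < 12229 → P i := stepQ 12228 Q12228 (allL N12228 (tt N10211 F177957) (tt N14418 D47188) (tt N10187 (iv D42568)) (tt N14403 (iv F211190)) (tt N14258 F210444) (tt N10995 F177958) (tt N14416 (iv F211247)) (tt N14243 (iv F210374)) (tt N12228 F177959) (tt N14419 D47189))
theorem Q12230 : ∀ i, i < 12230 → P i := stepQ 12229 Q12229 (allL N12229 (tt N10212 F177960) (tt N12229 F177961) (tt N14419 (iv F211258)) (tt N10188 F177962) (tt N14355 (iv F210931)) (tt N10996 F177963) (tt N14417 (iv F211253)) (tt N14244 (iv F210380)) (tt N14420 D47190) (tt N10187 (iv D42569)))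
theorem Q12231 : ∀ i, i < 12231 → P i := stepQ 12230 Q12230 (allL N12230 (tt N10213 F177964) (tt N12230 F177965) (tt N14406 (iv F211198)) (tt N14356 (iv F210936)) (tt N14415 (iv F211242)) (tt N10352 F177966) (tt N14245 (iv F210385)) (tt N10190 F177967) (tt N10251 F177968) (tt N10189 (iv D42570)))
theorem Q12232 : ∀ i, i < 12232 → P i := stepQ 12231 Q12231 (allL N12231 (tt N14393 (iv F211144)) (tt N13896 (iv F208435)) (tt N12231 F177969) (tt N10193 F177970) (tt N14421 D47191) (tt N10191 (iv D42571)) (tt N10998 F177971) (tt N14422 D47192) (tt N14423 D47193) (tt N10252 F177972))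
theorem Q12233 : ∀ i, i < 12233 → P i := stepQ 12232 Q12232 (allL N12232 (tt N14394 (iv F211151)) (tt N13897 (iv F208442)) (tt N12232 F177973) (tt N10194 F177974) (tt N12232 F177975) (tt N14422 (iv F211274)) (tt N14246 (iv F210393)) (tt N10191 (iv D42572)) (tt N14424 D47194) (tt N10253 F177976))
theorem Q12234 : ∀ i, i < 12234 → P i := stepQ 12233 Q12233 (allL N12233 (tt N14395 (iv F211156)) (tt N13898 (iv F208450)) (tt N12233 F177977) (tt N14425 D47195) (tt N12233 F177978) (tt N14423 (iv F211277)) (tt N10192 F177979) (tt N14424 (iv F211283)) (tt N10191 (iv D42573)) (tt N14426 D47196))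
theorem Q12235 : ∀ i, i < 12235 → P i := stepQ 12234 Q12234 (allL N12234 (tt N14396 (iv F211160)) (tt N13899 (iv F208456)) (tt N14427 D47197) (tt N10192 (iv D42574)) (tt N14428 D47198) (tt N11000 F177980) (tt N14425 (iv F211284)) (tt N14248 (iv F210403)) (tt N10196 F177981) (tt N14429 D47199))
theorem Q12236 : ∀ i, i < 12236 → P i := stepQ 12235 Q12235 (allL N12235 (tt N14397 (iv F211163)) (tt N13900 (iv F208460)) (tt N12235 F177982) (tt N14429 (iv F211295)) (tt N12235 F177983) (tt N11001 F177984) (tt N14426 (iv F211288)) (tt N14249 (iv F210408)) (tt N10256 F177985) (tt N10192 (iv D42575)))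
theorem Q12237 : ∀ i, i < 12237 → P i := stepQ 12236 Q12236 (allL N12236 (tt N14398 (iv F211168)) (tt N13901 (iv F208466)) (tt N10206 F177986) (tt N14422 (iv F211273)) (tt N10358 F177987) (tt N10194 F177988) (tt N14430 D47200) (tt N10193 (iv D42576)) (tt N14431 D47201) (tt N10257 F177989))
theorem Q12238 : ∀ i, i < 12238 → P i := stepQ 12237 Q12237 (allL N12237 (tt N14399 (iv F211173)) (tt N13902 (iv F208472)) (tt N10207 F177990) (tt N14432 D47202) (tt N10359 F177991) (tt N10195 F177992) (tt N11003 F177993) (tt N14431 (iv F211304)) (tt N10193 (iv D42577)) (tt N14433 D47203))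
theorem Q12239 : ∀ i, i < 12239 → P i := stepQ 12238 Q12238 (allL N12238 (tt N14400 (iv F211178)) (tt N13903 (iv F208478)) (tt N10208 F177994) (tt N14434 D47204) (tt N10198 F177995) (tt N14431 (iv F211303)) (tt N14252 (iv F210423)) (tt N10195 F177996) (tt N10194 (iv D42578)) (tt N14435 D47205))
theorem Q12240 : ∀ i, i < 12240 → P i := stepQ 12239 Q12239 (allL N12239 (tt N14401 (iv F211182)) (tt N13904 (iv F208483)) (tt N14436 D47206) (tt N10195 (iv D42579)) (tt N14437 D47207) (tt N14432 (iv F211305)) (tt N10196 F177997) (tt N14434 (iv F211312)) (tt N14425 (iv F211285)) (tt N14438 D47208))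
theorem Q12241 : ∀ i, i < 12241 → P i := stepQ 12240 Q12240 (allL N12240 (tt N14402 (iv F211184)) (tt N13905 (iv F208486)) (tt N10210 F177998) (tt N14438 (iv F211321)) (tt N10200 F177999) (tt N14433 (iv F211309)) (tt N10197 F178000) (tt N14435 (iv F211315)) (tt N10261 F178001) (tt N10195 (iv D42580)))
theorem Q12242 : ∀ i, i < 12242 → P i := stepQ 12241 Q12241 (allL N12241 (tt N14403 (iv F211189)) (tt N14439 D47209) (tt N10196 (iv D42581)) (tt N10211 F178002) (tt N14440 D47210) (tt N11007 F178003) (tt N14436 (iv F211318)) (tt N14255 (iv F210432)) (tt N14427 (iv F211292)) (tt N14441 D47211))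
theorem Q12243 : ∀ i, i < 12243 → P i := stepQ 12242 Q12242 (allL N12242 (tt N14404 (iv F211192)) (tt N13907 (iv F208495)) (tt N14440 (iv F211325)) (tt N10201 F178004) (tt N10196 (iv D42582)) (tt N14442 D47212) (tt N14437 (iv F211320)) (tt N14256 (iv F210434)) (tt N14428 (iv F211294)) (tt N14443 D47213))
theorem Q12244 : ∀ i, i < 12244 → P i := stepQ 12243 Q12243 (allL N12243 (tt N14405 (iv F211194)) (tt N13908 (iv F208499)) (tt N14441 (iv F211326)) (tt N10197 F178005) (tt N14443 (iv F211333)) (tt N11009 F178006) (tt N14438 (iv F211322)) (tt N14257 (iv F210437)) (tt N14444 D47214) (tt N10196 (iv D42583)))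
theorem Q12245 : ∀ i, i < 12245 → P i := stepQ 12244 Q12244 (allL N12244 (tt N14366 (iv F210997)) (tt N13909 (iv F208503)) (tt N14353 (iv F210914)) (tt N10198 (iv D42584)) (tt N14416 (iv F211246)) (tt N10366 F178007) (tt N14258 (iv F210441)) (tt N10199 F178008) (tt N12244 F178009) (tt N14445 D47215))
theorem Q12246 : ∀ i, i < 12246 → P i := stepQ 12245 Q12245 (allL N12245 (tt N14406 (iv F211197)) (tt N13910 (iv F208509)) (tt N10213 F178010) (tt N14445 (iv F211336)) (tt N14435 (iv F211314)) (tt N10367 F178011) (tt N14259 (iv F210448)) (tt N10200 F178012) (tt N10266 F178013) (tt N10198 (iv D42585)))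
theorem Q12247 : ∀ i, i < 12247 → P i := stepQ 12246 Q12246 (allL N12246 (tt N14407 (iv F211202)) (tt N13911 (iv F208516)) (tt N14357 (iv F210944)) (tt N14437 (iv F211319)) (tt N10199 (iv D42586)) (tt N14446 D47216) (tt N10201 F178014) (tt N14416 (iv F211248)) (tt N12246 F178015) (tt N14447 D47217))
theorem Q12248 : ∀ i, i < 12248 → P i := stepQ 12247 Q12247 (allL N12247 (tt N14408 (iv F211207)) (tt N13912 (iv F208521)) (tt N14358 (iv F210950)) (tt N10200 F178016) (tt N14447 (iv F211341)) (tt N10369 F178017) (tt N10202 F178018) (tt N14445 (iv F211338)) (tt N14448 D47218) (tt N10199 (iv D42587)))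
theorem Q12249 : ∀ i, i < 12249 → P i := stepQ 12248 Q12248 (allL N12248 (tt N13940 (iv F208706)) (tt N10241 F202950) (tt N14359 (iv F210956)) (tt N14442 (iv F211330)) (tt N10203 F178019) (tt N10201 (iv D42588)) (tt N14449 D47219) (tt N14261 (iv F210458)) (tt N12248 F178020) (tt N14450 D47220))
theorem Q12250 : ∀ i, i < 12250 → P i := stepQ 12249 Q12249 (allL N12249 (tt N14409 (iv F211211)) (tt N13913 (iv F208527)) (tt N14360 (iv F210962)) (tt N14443 (iv F211332)) (tt N10202 F178021) (tt N14450 (iv F211355)) (tt N14447 (iv F211342)) (tt N14262 (iv F210462)) (tt N14451 D47221) (tt N10201 (iv D42589)))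
theorem Q12251 : ∀ i, i < 12251 → P i := stepQ 12250 Q12250 (allL N12250 (tt N14410 (iv F211213)) (tt N13914 (iv F208532)) (tt N14361 (iv F210965)) (tt N10271 F178022) (tt N14451 (iv F211356)) (tt N10205 F178023) (tt N14448 (iv F211345)) (tt N14263 (iv F210465)) (tt N10202 (iv D42590)) (tt N12250 F178024))
theorem Q12252 : ∀ i, i < 12252 → P i := stepQ 12251 Q12251 (allL N12251 (tt N11472 F206357) (tt N10239 F202951) (tt N11490 (iv F206347)) (tt N10229 F202952) (tt N14449 (iv F211350)) (tt N10373 F178026) (tt N10203 (iv D42591)) (tt N11475 (iv F206356)) (tt N12251 F178027) (tt N14452 D47222))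
theorem Q12253 : ∀ i, i < 12253 → P i := stepQ 12252 Q12252 (allL N12252 (tt N13941 (iv F208713)) (tt N10242 F202942) (tt N14362 (iv F210971)) (tt N10230 F202943) (tt N14450 (iv F211354)) (tt N10204 F178029) (tt N14452 (iv F211363)) (tt N14264 (iv F210473)) (tt N14453 D47223) (tt N10203 (iv D42592)))
theorem Q12254 : ∀ i, i < 12254 → P i := stepQ 12253 Q12253 (allL N12253 (tt N13943 (iv F208728)) (tt N10243 F202944) (tt N14363 (iv F210977)) (tt N13957 (iv F208812)) (tt N10205 F178030) (tt N14453 (iv F211366)) (tt N10375 F178031) (tt N14265 (iv F210477)) (tt N10204 (iv D42593)) (tt N12253 F178032))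
theorem Q12255 : ∀ i, i < 12255 → P i := stepQ 12254 Q12254 (allL N12254 (tt N14411 (iv F211217)) (tt N10214 F178033) (tt N14430 (iv F211297)) (tt N12254 F178034) (tt N10376 F178035) (tt N14266 (iv F210482)) (tt N10206 (iv D42594)) (tt N11015 F178036) (tt N14454 D47224) (tt N10275 F178037))
theorem Q12256 : ∀ i, i < 12256 → P i := stepQ 12255 Q12255 (allL N12255 (tt N14412 (iv F211223)) (tt N10215 F178038) (tt N14431 (iv F211301)) (tt N14455 D47225) (tt N10377 F178039) (tt N10208 F178040) (tt N14454 (iv F211371)) (tt N10207 F178041) (tt N10206 (iv D42595)) (tt N14456 D47226))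
theorem Q12257 : ∀ i, i < 12257 → P i := stepQ 12256 Q12256 (allL N12256 (tt N14413 (iv F211228)) (tt N10216 F178042) (tt N14457 D47227) (tt N10207 (iv D42596)) (tt N14458 D47228) (tt N10209 F178043) (tt N11017 F178044) (tt N14455 (iv F211377)) (tt N12256 F178045) (tt N14459 D47229))
theorem Q12258 : ∀ i, i < 12258 → P i := stepQ 12257 Q12257 (allL N12257 (tt N14414 (iv F211234)) (tt N10217 F178046) (tt N14433 (iv F211307)) (tt N14459 (iv F211394)) (tt N10379 F178047) (tt N10210 F178048) (tt N11018 F178049) (tt N14456 (iv F211382)) (tt N10278 F178050) (tt N10207 (iv D42597)))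
theorem Q12259 : ∀ i, i < 12259 → P i := stepQ 12258 Q12258 (allL N12258 (tt N14357 (iv F210942)) (tt N10218 F178051) (tt N14407 (iv F211203)) (tt N10208 (iv D42598)) (tt N14349 (iv F210890)) (tt N14455 (iv F211375)) (tt N14269 (iv F210502)) (tt N10209 F178052) (tt N12258 F178053) (tt N14460 D47230))
theorem Q12260 : ∀ i, i < 12260 → P i := stepQ 12259 Q12259 (allL N12259 (tt N14415 (iv F211240)) (tt N10219 F178054) (tt N14435 (iv F211313)) (tt N14460 (iv F211398)) (tt N10213 F178055) (tt N14456 (iv F211381)) (tt N14270 (iv F210508)) (tt N10210 F178056) (tt N10280 F178057) (tt N10208 (iv D42599)))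
theorem Q12261 : ∀ i, i < 12261 → P i := stepQ 12260 Q12260 (allL N12260 (tt N14416 (iv F211245)) (tt N14461 D47231) (tt N10209 (iv D42600)) (tt N14436 (iv F211317)) (tt N14366 (iv F210999)) (tt N14457 (iv F211384)) (tt N10211 F178058) (tt N14407 (iv F211205)) (tt N12260 F178059) (tt N14462 D47232))
theorem Q12262 : ∀ i, i < 12262 → P i := stepQ 12261 Q12261 (allL N12261 (tt N14417 (iv F211250)) (tt N10221 F178060) (tt N14462 (iv F211403)) (tt N10210 F178061) (tt N14367 (iv F211006)) (tt N14459 (iv F211395)) (tt N10212 F178062) (tt N14460 (iv F211399)) (tt N14463 D47233) (tt N10209 (iv D42601)))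
theorem Q12263 : ∀ i, i < 12263 → P i := stepQ 12262 Q12262 (allL N12262 (tt N14464 D47234) (tt N10211 (iv D42602)) (tt N10222 F178063) (tt N14439 (iv F211323)) (tt N14368 (iv F211009)) (tt N11022 F178064) (tt N14461 (iv F211401)) (tt N14272 (iv F210518)) (tt N12262 F178065) (tt N14465 D47235))
theorem Q12264 : ∀ i, i < 12264 → P i := stepQ 12263 Q12263 (allL N12263 (tt N14419 (iv F211257)) (tt N14465 (iv F211412)) (tt N10212 F178066) (tt N14441 (iv F211327)) (tt N14369 (iv F211013)) (tt N11023 F178067) (tt N14462 (iv F211404)) (tt N14273 (iv F210522)) (tt N14466 D47236) (tt N10211 (iv D42603)))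
theorem Q12265 : ∀ i, i < 12265 → P i := stepQ 12264 Q12264 (allL N12264 (tt N14420 (iv F211260)) (tt N10224 F178068) (tt N14466 (iv F211415)) (tt N10285 F178069) (tt N14370 (iv F211017)) (tt N11024 F178070) (tt N14463 (iv F211407)) (tt N14274 (iv F210526)) (tt N10212 (iv D42604)) (tt N12264 F178071))
theorem Q12266 : ∀ i, i < 12266 → P i := stepQ 12265 Q12265 (allL N12265 (tt N12265 F178072) (tt N14454 (iv F211368)) (tt N10740 F205879) (tt N11103 F205880) (tt N10386 F178073) (tt N10745 F205881) (tt N10215 F178074) (tt N10742 F205882) (tt N10214 (iv D42605)) (tt N14467 D47237))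
theorem Q12267 : ∀ i, i < 12267 → P i := stepQ 12266 Q12266 (allL N12266 (tt N12266 F178076) (tt N14455 (iv F211374)) (tt N11101 F206280) (tt N10215 (iv D42606)) (tt N14468 D47238) (tt N10218 F178077) (tt N11103 F206281) (tt N10216 F178078) (tt N12266 F178079) (tt N14469 D47239))
theorem Q12268 : ∀ i, i < 12268 → P i := stepQ 12267 Q12267 (allL N12267 (tt N12267 F178080) (tt N14456 (iv F211379)) (tt N13926 (iv F208611)) (tt N14469 (iv F211435)) (tt N10388 F178081) (tt N10219 F178082) (tt N14467 (iv F211423)) (tt N10217 F178083) (tt N10288 F178084) (tt N10215 (iv D42607)))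
theorem Q12269 : ∀ i, i < 12269 → P i := stepQ 12268 Q12268 (allL N12268 (tt N12268 F178085) (tt N14470 D47240) (tt N10216 (iv D42608)) (tt N10286 F205844) (tt N14471 D47241) (tt N10220 F178086) (tt N10287 F205845) (tt N11101 F205846) (tt N12268 F178088) (tt N14472 D47242))
theorem Q12270 : ∀ i, i < 12270 → P i := stepQ 12269 Q12269 (allL N12269 (tt N12269 F178089) (tt N14458 (iv F211388)) (tt N14471 (iv F211445)) (tt N10390 F178090) (tt N10216 (iv D42609)) (tt N14374 (iv F211047)) (tt N11026 F178091) (tt N14468 (iv F211431)) (tt N12269 F178092) (tt N14473 D47243))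
theorem Q12271 : ∀ i, i < 12271 → P i := stepQ 12270 Q12270 (allL N12270 (tt N12270 F178093) (tt N14459 (iv F211393)) (tt N14472 (iv F211452)) (tt N10217 F178094) (tt N14473 (iv F211459)) (tt N10221 F178095) (tt N11027 F178096) (tt N14469 (iv F211438)) (tt N14474 D47244) (tt N10216 (iv D42610)))
theorem Q12272 : ∀ i, i < 12272 → P i := stepQ 12271 Q12271 (allL N12271 (tt N12271 F178097) (tt N14475 D47245) (tt N10218 (iv D42611)) (tt N10968 F206396) (tt N14376 (iv F211057)) (tt N11101 F206397) (tt N10969 F206398) (tt N10220 F178098) (tt N12271 F178099) (tt N14476 D47246))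
theorem Q12273 : ∀ i, i < 12273 → P i := stepQ 12272 Q12272 (allL N12272 (tt N12272 F178100) (tt N14460 (iv F211397)) (tt N14476 (iv F211472)) (tt N10219 F178101) (tt N14377 (iv F211064)) (tt N14469 (iv F211436)) (tt N14275 (iv F210532)) (tt N10221 F178102) (tt N14477 D47247) (tt N10218 (iv D42612)))
theorem Q12274 : ∀ i, i < 12274 → P i := stepQ 12273 Q12273 (allL N12273 (tt N14478 D47248) (tt N10220 (iv D42613)) (tt N14461 (iv F211400)) (tt N13928 (iv F208626)) (tt N14378 (iv F211067)) (tt N14470 (iv F211440)) (tt N10222 F178103) (tt N14475 (iv F211469)) (tt N12273 F178104) (tt N14479 D47249))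
theorem Q12275 : ∀ i, i < 12275 → P i := stepQ 12274 Q12274 (allL N12274 (tt N12274 F178105) (tt N14479 (iv F211487)) (tt N10221 F178106) (tt N13929 (iv F208634)) (tt N14379 (iv F211073)) (tt N14472 (iv F211454)) (tt N10223 F178107) (tt N14476 (iv F211476)) (tt N14480 D47250) (tt N10220 (iv D42614)))
theorem Q12276 : ∀ i, i < 12276 → P i := stepQ 12275 Q12275 (allL N12275 (tt N12275 F178108) (tt N14463 (iv F211405)) (tt N14480 (iv F211490)) (tt N10295 F178109) (tt N14380 (iv F211077)) (tt N14474 (iv F211463)) (tt N10224 F178110) (tt N14477 (iv F211482)) (tt N10221 (iv D42615)) (tt N12275 F178111))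
theorem Q12277 : ∀ i, i < 12277 → P i := stepQ 12276 Q12276 (allL N12276 (tt N10222 (iv D42616)) (tt N12276 F178112) (tt N14464 (iv F211409)) (tt N13930 (iv F208641)) (tt N14381 (iv F211082)) (tt N11029 F178113) (tt N14478 (iv F211485)) (tt N14277 (iv F210546)) (tt N12276 F178114) (tt N14481 D47251))
theorem Q12278 : ∀ i, i < 12278 → P i := stepQ 12277 Q12277 (allL N12277 (tt N14481 (iv F211495)) (tt N10223 F178115) (tt N14465 (iv F211413)) (tt N13931 (iv F208647)) (tt N14382 (iv F211087)) (tt N11030 F178116) (tt N14479 (iv F211488)) (tt N14278 (iv F210552)) (tt N14482 D47252) (tt N10222 (iv D42617)))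
theorem Q12279 : ∀ i, i < 12279 → P i := stepQ 12278 Q12278 (allL N12278 (tt N12278 F178117) (tt N14482 (iv F211498)) (tt N10224 F178118) (tt N14483 D47253) (tt N14383 (iv F211091)) (tt N11031 F178119) (tt N14480 (iv F211492)) (tt N14279 (iv F210558)) (tt N10223 (iv D42618)) (tt N12278 F178120))
theorem Q12280 : ∀ i, i < 12280 → P i := stepQ 12279 Q12279 (allL N12279 (tt N10626 F206191) (tt N12279 F178121) (tt N10225 (iv D42619)) (tt N12279 F178122) (tt N12279 F178123) (tt N10903 F197117) (tt N14484 D47254) (tt N10902 F197118) (tt N10750 F206192) (tt N10932 F197119))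
theorem Q12281 : ∀ i, i < 12281 → P i := stepQ 12280 Q12280 (allL N12280 (tt N13933 (iv F208659)) (tt N10231 F178125) (tt N14484 (iv F211511)) (tt N10226 F178126) (tt N12280 F178127) (tt N14485 D47255) (tt N10225 (iv D42620)) (tt N14486 D47256) (tt N14487 D47257) (tt N14384 (iv F211100)))
theorem Q12282 : ∀ i, i < 12282 → P i := stepQ 12281 Q12281 (allL N12281 (tt N10736 F206508) (tt N10232 F178128) (tt N10750 F206509) (tt N14488 D47258) (tt N12281 F178129) (tt N11032 F178130) (tt N14487 (iv F211531)) (tt N14280 (iv F210565)) (tt N10225 (iv D42621)) (tt N14489 D47259))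
theorem Q12283 : ∀ i, i < 12283 → P i := stepQ 12282 Q12282 (allL N12282 (tt N13934 (iv F208667)) (tt N10233 F178131) (tt N12282 F178132) (tt N14485 (iv F211520)) (tt N10402 F178133) (tt N10226 (iv D42622)) (tt N11033 F178134) (tt N14490 D47260) (tt N14491 D47261) (tt N14386 (iv F211113)))
theorem Q12284 : ∀ i, i < 12284 → P i := stepQ 12283 Q12283 (allL N12283 (tt N13935 (iv F208674)) (tt N10234 F178135) (tt N12283 F178136) (tt N14486 (iv F211525)) (tt N10228 F178137) (tt N14490 (iv F211545)) (tt N14281 (iv F210570)) (tt N10226 (iv D42623)) (tt N14492 D47262) (tt N14387 (iv F211118)))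
theorem Q12285 : ∀ i, i < 12285 → P i := stepQ 12284 Q12284 (allL N12284 (tt N13936 (iv F208681)) (tt N10235 F178138) (tt N12284 F178139) (tt N14493 D47263) (tt N10229 F178140) (tt N14491 (iv F211549)) (tt N10227 F178141) (tt N14492 (iv F211556)) (tt N10226 (iv D42624)) (tt N14494 D47264))
theorem Q12286 : ∀ i, i < 12286 → P i := stepQ 12285 Q12285 (allL N12285 (tt N13937 (iv F208687)) (tt N10236 F178142) (tt N14495 D47265) (tt N10227 (iv D42625)) (tt N14442 (iv F211331)) (tt N11008 F202743) (tt N14493 (iv F211558)) (tt N14283 (iv F210580)) (tt N14488 (iv F211536)) (tt N14496 D47266))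
theorem Q12287 : ∀ i, i < 12287 → P i := stepQ 12286 Q12286 (allL N12286 (tt N13938 (iv F208692)) (tt N10237 F178144) (tt N12286 F178145) (tt N14496 (iv F211568)) (tt N10230 F178146) (tt N11014 F202744) (tt N14494 (iv F211562)) (tt N14284 (iv F210585)) (tt N14390 (iv F211132)) (tt N10227 (iv D42626)))
theorem Q12288 : ∀ i, i < 12288 → P i := stepQ 12287 Q12287 (allL N12287 (tt N11445 (iv F206372)) (tt N10238 F178148) (tt N12287 F178149) (tt N11475 (iv F206355)) (tt N14492 (iv F211554)) (tt N10407 F178150) (tt N11451 (iv F206364)) (tt N10229 F178151) (tt N10228 (iv D42627)) (tt N14497 D47267))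
theorem Q12289 : ∀ i, i < 12289 → P i := stepQ 12288 Q12288 (allL N12288 (tt N13939 (iv F208698)) (tt N10240 F178156) (tt N12288 F178157) (tt N14452 (iv F211361)) (tt N14494 (iv F211561)) (tt N10408 F178158) (tt N10230 F178159) (tt N14497 (iv F211576)) (tt N14392 (iv F211143)) (tt N10229 (iv D42629)))
theorem Q12290 : ∀ i, i < 12290 → P i := stepQ 12289 Q12289 (allL N12289 (tt N10252 F178187) (tt N14485 (iv F211518)) (tt N12289 F178188) (tt N10233 F178189) (tt N14498 D47268) (tt N10231 (iv D42638)) (tt N11034 F178190) (tt N14499 D47269) (tt N14500 D47270) (tt N14393 (iv F211149)))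
theorem Q12291 : ∀ i, i < 12291 → P i := stepQ 12290 Q12290 (allL N12290 (tt N10253 F178191) (tt N14486 (iv F211524)) (tt N12290 F178192) (tt N10234 F178193) (tt N12290 F178194) (tt N14499 (iv F211587)) (tt N14286 (iv F210597)) (tt N10231 (iv D42639)) (tt N14501 D47271) (tt N14394 (iv F211155)))
theorem Q12292 : ∀ i, i < 12292 → P i := stepQ 12291 Q12291 (allL N12291 (tt N10254 F178195) (tt N14487 (iv F211528)) (tt N12291 F178196) (tt N14502 D47272) (tt N12291 F178197) (tt N14500 (iv F211590)) (tt N10232 F178198) (tt N14501 (iv F211595)) (tt N10231 (iv D42640)) (tt N14503 D47273))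
theorem Q12293 : ∀ i, i < 12293 → P i := stepQ 12292 Q12292 (allL N12292 (tt N10255 F178199) (tt N14488 (iv F211533)) (tt N14504 D47274) (tt N10232 (iv D42641)) (tt N14505 D47275) (tt N11036 F178200) (tt N14502 (iv F211597)) (tt N14288 (iv F210604)) (tt N10236 F178201) (tt N14506 D47276))
theorem Q12294 : ∀ i, i < 12294 → P i := stepQ 12293 Q12293 (allL N12293 (tt N10256 F178202) (tt N14489 (iv F211538)) (tt N12293 F178203) (tt N14506 (iv F211611)) (tt N12293 F178204) (tt N11037 F178205) (tt N14503 (iv F211602)) (tt N14289 (iv F210610)) (tt N14397 (iv F211167)) (tt N10232 (iv D42642)))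
theorem Q12295 : ∀ i, i < 12295 → P i := stepQ 12294 Q12294 (allL N12294 (tt N10257 F178206) (tt N14490 (iv F211542)) (tt N10244 F178207) (tt N14499 (iv F211586)) (tt N10414 F178208) (tt N10234 F178209) (tt N14507 D47277) (tt N10233 (iv D42643)) (tt N14508 D47278) (tt N14398 (iv F211172)))
theorem Q12296 : ∀ i, i < 12296 → P i := stepQ 12295 Q12295 (allL N12295 (tt N10258 F178210) (tt N14491 (iv F211546)) (tt N10245 F178211) (tt N14509 D47279) (tt N10415 F178212) (tt N10235 F178213) (tt N11039 F178214) (tt N14508 (iv F211621)) (tt N10233 (iv D42644)) (tt N14510 D47280))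
theorem Q12297 : ∀ i, i < 12297 → P i := stepQ 12296 Q12296 (allL N12296 (tt N10259 F178215) (tt N14492 (iv F211552)) (tt N10246 F178216) (tt N14511 D47281) (tt N10238 F178217) (tt N14508 (iv F211620)) (tt N14292 (iv F210624)) (tt N10235 F178218) (tt N10234 (iv D42645)) (tt N14512 D47282))
theorem Q12298 : ∀ i, i < 12298 → P i := stepQ 12297 Q12297 (allL N12297 (tt N10260 F178219) (tt N14493 (iv F211557)) (tt N14513 D47283) (tt N10235 (iv D42646)) (tt N14514 D47284) (tt N14509 (iv F211623)) (tt N10236 F178220) (tt N14511 (iv F211631)) (tt N14502 (iv F211598)) (tt N14515 D47285))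
theorem Q12299 : ∀ i, i < 12299 → P i := stepQ 12298 Q12298 (allL N12298 (tt N10261 F178221) (tt N14494 (iv F211559)) (tt N10248 F178222) (tt N14515 (iv F211643)) (tt N10240 F178223) (tt N14510 (iv F211628)) (tt N10237 F178224) (tt N14512 (iv F211635)) (tt N14402 (iv F211188)) (tt N10235 (iv D42647)))
theorem Q12300 : ∀ i, i < 12300 → P i := stepQ 12299 Q12299 (allL N12299 (tt N10262 F178225) (tt N14516 D47286) (tt N10236 (iv D42648)) (tt N10249 F178226) (tt N14517 D47287) (tt N11043 F178227) (tt N14513 (iv F211638)) (tt N14295 (iv F210635)) (tt N14504 (iv F211606)) (tt N14518 D47288))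
theorem Q12301 : ∀ i, i < 12301 → P i := stepQ 12300 Q12300 (allL N12300 (tt N10263 F178228) (tt N14442 (iv F211329)) (tt N14517 (iv F211648)) (tt N10241 F178229) (tt N10236 (iv D42649)) (tt N13907 (iv F208497)) (tt N14514 (iv F211641)) (tt N14296 (iv F210638)) (tt N14505 (iv F211609)) (tt N14519 D47289))
theorem Q12302 : ∀ i, i < 12302 → P i := stepQ 12301 Q12301 (allL N12301 (tt N10264 F178230) (tt N14496 (iv F211567)) (tt N14518 (iv F211651)) (tt N10237 F178231) (tt N14519 (iv F211656)) (tt N11044 F178232) (tt N14515 (iv F211644)) (tt N14297 (iv F210642)) (tt N14520 D47290) (tt N10236 (iv D42650)))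
theorem Q12303 : ∀ i, i < 12303 → P i := stepQ 12302 Q12302 (allL N12302 (tt N10265 F178233) (tt N11475 (iv F206354)) (tt N12302 F178234) (tt N10238 (iv D42651)) (tt N14521 D47291) (tt N10422 F178235) (tt N11437 (iv F206392)) (tt N10239 F178236) (tt N12302 F178237) (tt N14522 D47292))
theorem Q12304 : ∀ i, i < 12304 → P i := stepQ 12303 Q12303 (allL N12303 (tt N10266 F178238) (tt N14497 (iv F211571)) (tt N10251 F178239) (tt N14522 (iv F211668)) (tt N14512 (iv F211634)) (tt N10423 F178240) (tt N14298 (iv F210648)) (tt N10240 F178241) (tt N14406 (iv F211201)) (tt N10238 (iv D42652)))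
theorem Q12305 : ∀ i, i < 12305 → P i := stepQ 12304 Q12304 (allL N12304 (tt N10267 F178242) (tt N14449 (iv F211348)) (tt N12304 F178243) (tt N14514 (iv F211640)) (tt N10239 (iv D42653)) (tt N14523 D47293) (tt N10241 F178244) (tt N14521 (iv F211663)) (tt N12304 F178245) (tt N14524 D47294))
theorem Q12306 : ∀ i, i < 12306 → P i := stepQ 12305 Q12305 (allL N12305 (tt N10268 F178246) (tt N14452 (iv F211359)) (tt N12305 F178247) (tt N10240 F178248) (tt N14524 (iv F211678)) (tt N10425 F178249) (tt N10242 F178250) (tt N14522 (iv F211671)) (tt N14525 D47295) (tt N10239 (iv D42654)))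
theorem Q12307 : ∀ i, i < 12307 → P i := stepQ 12306 Q12306 (allL N12306 (tt N10270 F178255) (tt N14450 (iv F211353)) (tt N12306 F178256) (tt N14519 (iv F211655)) (tt N10242 F178257) (tt N13913 (iv F208530)) (tt N14524 (iv F211679)) (tt N14301 (iv F210666)) (tt N14526 D47296) (tt N10241 (iv D42656)))
theorem Q12308 : ∀ i, i < 12308 → P i := stepQ 12307 Q12307 (allL N12307 (tt N10271 F178258) (tt N14453 (iv F211365)) (tt N12307 F178259) (tt N14410 (iv F211214)) (tt N14526 (iv F211687)) (tt N10243 F178260) (tt N14525 (iv F211683)) (tt N14302 (iv F210670)) (tt N10242 (iv D42657)) (tt N12307 F178261))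
theorem Q12309 : ∀ i, i < 12309 → P i := stepQ 12308 Q12308 (allL N12308 (tt N10275 F178276) (tt N12308 F178277) (tt N14507 (iv F211614)) (tt N12308 F178278) (tt N10428 F178279) (tt N14303 (iv F210676)) (tt N10244 (iv D42661)) (tt N11046 F178280) (tt N14527 D47297) (tt N14411 (iv F211222)))
theorem Q12310 : ∀ i, i < 12310 → P i := stepQ 12309 Q12309 (allL N12309 (tt N10276 F178281) (tt N12309 F178282) (tt N14508 (iv F211618)) (tt N14528 D47298) (tt N10429 F178283) (tt N10246 F178284) (tt N14527 (iv F211692)) (tt N10245 F178285) (tt N10244 (iv D42662)) (tt N14529 D47299))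
theorem Q12311 : ∀ i, i < 12311 → P i := stepQ 12310 Q12310 (allL N12310 (tt N10277 F178286) (tt N12310 F178287) (tt N14530 D47300) (tt N10245 (iv D42663)) (tt N14531 D47301) (tt N10247 F178288) (tt N11048 F178289) (tt N14528 (iv F211697)) (tt N12310 F178290) (tt N14532 D47302))
theorem Q12312 : ∀ i, i < 12312 → P i := stepQ 12311 Q12311 (allL N12311 (tt N10278 F178291) (tt N12311 F178292) (tt N14510 (iv F211626)) (tt N14532 (iv F211716)) (tt N10431 F178293) (tt N10248 F178294) (tt N11049 F178295) (tt N14529 (iv F211703)) (tt N14414 (iv F211239)) (tt N10245 (iv D42664)))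
theorem Q12313 : ∀ i, i < 12313 → P i := stepQ 12312 Q12312 (allL N12312 (tt N10279 F178296) (tt N12312 F178297) (tt N14533 D47303) (tt N10246 (iv D42665)) (tt N12312 F178298) (tt N14528 (iv F211696)) (tt N11029 F205839) (tt N10247 F178299) (tt N12312 F178300) (tt N14534 D47304))
theorem Q12314 : ∀ i, i < 12314 → P i := stepQ 12313 Q12313 (allL N12313 (tt N10280 F178301) (tt N12313 F178302) (tt N14512 (iv F211633)) (tt N14534 (iv F211726)) (tt N10251 F178303) (tt N14529 (iv F211702)) (tt N14305 (iv F210687)) (tt N10248 F178304) (tt N14415 (iv F211244)) (tt N10246 (iv D42666)))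
theorem Q12315 : ∀ i, i < 12315 → P i := stepQ 12314 Q12314 (allL N12314 (tt N10281 F178305) (tt N14535 D47305) (tt N10247 (iv D42667)) (tt N14513 (iv F211637)) (tt N12314 F178306) (tt N14530 (iv F211705)) (tt N10249 F178307) (tt N14533 (iv F211722)) (tt N12314 F178308) (tt N14536 D47306))
theorem Q12316 : ∀ i, i < 12316 → P i := stepQ 12315 Q12315 (allL N12315 (tt N10282 F178309) (tt N12315 F178310) (tt N14536 (iv F211735)) (tt N10248 F178311) (tt N12315 F178312) (tt N14532 (iv F211717)) (tt N10250 F178313) (tt N14534 (iv F211729)) (tt N14537 D47307) (tt N10247 (iv D42668)))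
theorem Q12317 : ∀ i, i < 12317 → P i := stepQ 12316 Q12316 (allL N12316 (tt N14538 D47308) (tt N10249 (iv D42669)) (tt N12316 F178314) (tt N14516 (iv F211645)) (tt N12316 F178315) (tt N11054 F178316) (tt N14535 (iv F211732)) (tt N14308 (iv F210703)) (tt N12316 F178317) (tt N14539 D47309))
theorem Q12318 : ∀ i, i < 12318 → P i := stepQ 12317 Q12317 (allL N12317 (tt N10284 F178318) (tt N14539 (iv F211748)) (tt N10250 F178319) (tt N14518 (iv F211652)) (tt N12317 F178320) (tt N11055 F178321) (tt N14536 (iv F211737)) (tt N14309 (iv F210709)) (tt N14540 D47310) (tt N10249 (iv D42670)))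
theorem Q12319 : ∀ i, i < 12319 → P i := stepQ 12318 Q12318 (allL N12318 (tt N10285 F178322) (tt N12318 F178323) (tt N14540 (iv F211753)) (tt N14420 (iv F211262)) (tt N12318 F178324) (tt N11056 F178325) (tt N14537 (iv F211741)) (tt N14310 (iv F210714)) (tt N10250 (iv D42671)) (tt N12318 F178326))
theorem Q12320 : ∀ i, i < 12320 → P i := stepQ 12319 Q12319 (allL N12319 (tt N14498 (iv F211577)) (tt N11644 (iv F206557)) (tt N12319 F178327) (tt N10438 F178328) (tt N10252 (iv D42672)) (tt N12319 F178329) (tt N11057 F178330) (tt N14541 D47311) (tt N14542 D47312) (tt N14421 (iv F211271)))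
theorem Q12321 : ∀ i, i < 12321 → P i := stepQ 12320 Q12320 (allL N12320 (tt N14499 (iv F211584)) (tt N13961 (iv F208841)) (tt N12320 F178331) (tt N10257 F178332) (tt N14541 (iv F211760)) (tt N10253 F178333) (tt N14543 D47313) (tt N10252 (iv D42673)) (tt N14544 D47314) (tt N14422 (iv F211275)))
theorem Q12322 : ∀ i, i < 12322 → P i := stepQ 12321 Q12321 (allL N12321 (tt N14500 (iv F211588)) (tt N13962 (iv F208848)) (tt N12321 F178334) (tt N14545 D47315) (tt N14542 (iv F211765)) (tt N10254 F178335) (tt N11059 F178336) (tt N14544 (iv F211776)) (tt N10252 (iv D42674)) (tt N14546 D47316))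
theorem Q12323 : ∀ i, i < 12323 → P i := stepQ 12322 Q12322 (allL N12322 (tt N14501 (iv F211592)) (tt N13963 (iv F208854)) (tt N12322 F178337) (tt N14547 D47317) (tt N12322 F178338) (tt N14544 (iv F211775)) (tt N14313 (iv F210730)) (tt N10254 F178339) (tt N10253 (iv D42675)) (tt N14548 D47318))
theorem Q12324 : ∀ i, i < 12324 → P i := stepQ 12323 Q12323 (allL N12323 (tt N14502 (iv F211596)) (tt N13964 (iv F208859)) (tt N14549 D47319) (tt N10254 (iv D42676)) (tt N14550 D47320) (tt N14545 (iv F211777)) (tt N10255 F178340) (tt N14547 (iv F211783)) (tt N10260 F178341) (tt N14551 D47321))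
theorem Q12325 : ∀ i, i < 12325 → P i := stepQ 12324 Q12324 (allL N12324 (tt N14503 (iv F211599)) (tt N13965 (iv F208864)) (tt N12324 F178342) (tt N14551 (iv F211794)) (tt N12324 F178343) (tt N14546 (iv F211781)) (tt N10256 F178344) (tt N14548 (iv F211787)) (tt N14426 (iv F211289)) (tt N10254 (iv D42677)))
theorem Q12326 : ∀ i, i < 12326 → P i := stepQ 12325 Q12325 (allL N12325 (tt N14504 (iv F211603)) (tt N14552 D47322) (tt N10255 (iv D42678)) (tt N12325 F178345) (tt N14553 D47323) (tt N11062 F178346) (tt N14549 (iv F211789)) (tt N14316 (iv F210739)) (tt N10262 F178347) (tt N14554 D47324))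
theorem Q12327 : ∀ i, i < 12327 → P i := stepQ 12326 Q12326 (allL N12326 (tt N14505 (iv F211607)) (tt N13966 (iv F208869)) (tt N14553 (iv F211803)) (tt N12326 F178348) (tt N10255 (iv D42679)) (tt N14555 D47325) (tt N14550 (iv F211792)) (tt N14317 (iv F210742)) (tt N10263 F178349) (tt N14556 D47326))
theorem Q12328 : ∀ i, i < 12328 → P i := stepQ 12327 Q12327 (allL N12327 (tt N14506 (iv F211610)) (tt N13967 (iv F208874)) (tt N14554 (iv F211806)) (tt N10256 F178350) (tt N14556 (iv F211813)) (tt N11064 F178351) (tt N14551 (iv F211795)) (tt N14318 (iv F210746)) (tt N14557 D47327) (tt N10255 (iv D42680)))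
theorem Q12329 : ∀ i, i < 12329 → P i := stepQ 12328 Q12328 (allL N12328 (tt N14507 (iv F211613)) (tt N13968 (iv F208878)) (tt N10275 F178352) (tt N14543 (iv F211770)) (tt N10447 F178353) (tt N14319 (iv F210751)) (tt N10257 (iv D42681)) (tt N11065 F178354) (tt N14558 D47328) (tt N14430 (iv F211300)))
theorem Q12330 : ∀ i, i < 12330 → P i := stepQ 12329 Q12329 (allL N12329 (tt N14508 (iv F211617)) (tt N13969 (iv F208885)) (tt N10276 F178355) (tt N14559 D47329) (tt N10448 F178356) (tt N10259 F178357) (tt N14558 (iv F211818)) (tt N10258 F178358) (tt N10257 (iv D42682)) (tt N14560 D47330))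
theorem Q12331 : ∀ i, i < 12331 → P i := stepQ 12330 Q12330 (allL N12330 (tt N14509 (iv F211622)) (tt N13970 (iv F208890)) (tt N14561 D47331) (tt N10258 (iv D42683)) (tt N14562 D47332) (tt N10260 F178359) (tt N11067 F178360) (tt N14559 (iv F211821)) (tt N14545 (iv F211779)) (tt N14563 D47333))
theorem Q12332 : ∀ i, i < 12332 → P i := stepQ 12331 Q12331 (allL N12331 (tt N14510 (iv F211625)) (tt N13971 (iv F208893)) (tt N10278 F178361) (tt N14563 (iv F211831)) (tt N10450 F178362) (tt N10261 F178363) (tt N11068 F178364) (tt N14560 (iv F211825)) (tt N14433 (iv F211311)) (tt N10258 (iv D42684)))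
theorem Q12333 : ∀ i, i < 12333 → P i := stepQ 12332 Q12332 (allL N12332 (tt N14511 (iv F211630)) (tt N13972 (iv F208899)) (tt N14564 D47334) (tt N10259 (iv D42685)) (tt N14565 D47335) (tt N14559 (iv F211820)) (tt N14322 (iv F210762)) (tt N10260 F178365) (tt N14547 (iv F211784)) (tt N14566 D47336))
theorem Q12334 : ∀ i, i < 12334 → P i := stepQ 12333 Q12333 (allL N12333 (tt N14512 (iv F211632)) (tt N13973 (iv F208905)) (tt N10280 F178366) (tt N14566 (iv F211842)) (tt N10266 F178367) (tt N14560 (iv F211824)) (tt N14323 (iv F210767)) (tt N10261 F178368) (tt N14435 (iv F211316)) (tt N10259 (iv D42686)))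
theorem Q12335 : ∀ i, i < 12335 → P i := stepQ 12334 Q12334 (allL N12334 (tt N14513 (iv F211636)) (tt N14567 D47337) (tt N10260 (iv D42687)) (tt N10281 F178369) (tt N14568 D47338) (tt N14561 (iv F211827)) (tt N10262 F178370) (tt N14564 (iv F211837)) (tt N14549 (iv F211790)) (tt N14569 D47339))
theorem Q12336 : ∀ i, i < 12336 → P i := stepQ 12335 Q12335 (allL N12335 (tt N14514 (iv F211639)) (tt N13975 (iv F208918)) (tt N14568 (iv F211848)) (tt N10267 F178371) (tt N10260 (iv D42688)) (tt N14570 D47340) (tt N10263 F178372) (tt N14565 (iv F211841)) (tt N14550 (iv F211793)) (tt N14571 D47341))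
theorem Q12337 : ∀ i, i < 12337 → P i := stepQ 12336 Q12336 (allL N12336 (tt N14515 (iv F211642)) (tt N13976 (iv F208923)) (tt N14569 (iv F211851)) (tt N10261 F178373) (tt N14571 (iv F211856)) (tt N14563 (iv F211832)) (tt N10264 F178374) (tt N14566 (iv F211843)) (tt N14572 D47342) (tt N10260 (iv D42689)))
theorem Q12338 : ∀ i, i < 12338 → P i := stepQ 12337 Q12337 (allL N12337 (tt N14573 D47343) (tt N10262 (iv D42690)) (tt N13977 (iv F208927)) (tt N10283 F178375) (tt N14574 D47344) (tt N11074 F178376) (tt N14567 (iv F211846)) (tt N14327 (iv F210783)) (tt N14552 (iv F211799)) (tt N14575 D47345))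
theorem Q12339 : ∀ i, i < 12339 → P i := stepQ 12338 Q12338 (allL N12338 (tt N14517 (iv F211647)) (tt N14574 (iv F211865)) (tt N10263 F178377) (tt N12338 F178378) (tt N10262 (iv D42691)) (tt N14576 D47346) (tt N14568 (iv F211850)) (tt N14328 (iv F210786)) (tt N14553 (iv F211804)) (tt N14577 D47347))
theorem Q12340 : ∀ i, i < 12340 → P i := stepQ 12339 Q12339 (allL N12339 (tt N14518 (iv F211650)) (tt N14575 (iv F211869)) (tt N10264 F178379) (tt N10284 F178380) (tt N14577 (iv F211877)) (tt N11076 F178381) (tt N14569 (iv F211853)) (tt N14329 (iv F210790)) (tt N14578 D47348) (tt N10262 (iv D42692)))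
theorem Q12341 : ∀ i, i < 12341 → P i := stepQ 12340 Q12340 (allL N12340 (tt N13907 (iv F208494)) (tt N13980 (iv F208945)) (tt N14576 (iv F211872)) (tt N10269 F178382) (tt N11077 F178383) (tt N10263 (iv D42693)) (tt N14579 D47349) (tt N14330 (iv F210793)) (tt N14555 (iv F211811)) (tt N14580 D47350))
theorem Q12342 : ∀ i, i < 12342 → P i := stepQ 12341 Q12341 (allL N12341 (tt N14519 (iv F211654)) (tt N13981 (iv F208948)) (tt N14577 (iv F211875)) (tt N10270 F178384) (tt N10264 F178385) (tt N14580 (iv F211884)) (tt N14571 (iv F211857)) (tt N14331 (iv F210796)) (tt N14581 D47351) (tt N10263 (iv D42694)))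
theorem Q12343 : ∀ i, i < 12343 → P i := stepQ 12342 Q12342 (allL N12342 (tt N14520 (iv F211657)) (tt N13982 (iv F208951)) (tt N14578 (iv F211878)) (tt N14444 (iv F211334)) (tt N14581 (iv F211885)) (tt N11079 F178386) (tt N14572 (iv F211858)) (tt N14332 (iv F210798)) (tt N10264 (iv D42695)) (tt N14557 (iv F211815)))
theorem Q12344 : ∀ i, i < 12344 → P i := stepQ 12343 Q12343 (allL N12343 (tt N14521 (iv F211659)) (tt N11052 F205285) (tt N12343 F178387) (tt N14565 (iv F211839)) (tt N10265 (iv D42696)) (tt N14582 D47352) (tt N11054 F205286) (tt N10267 F178388) (tt N12343 F178389) (tt N14583 D47353))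
theorem Q12345 : ∀ i, i < 12345 → P i := stepQ 12344 Q12344 (allL N12344 (tt N14522 (iv F211665)) (tt N11435 (iv F206472)) (tt N12344 F178390) (tt N10266 F178391) (tt N14583 (iv F211893)) (tt N10463 F178392) (tt N11438 (iv F206488)) (tt N10268 F178393) (tt N14584 D47354) (tt N10265 (iv D42697)))
theorem Q12346 : ∀ i, i < 12346 → P i := stepQ 12345 Q12345 (allL N12345 (tt N14523 (iv F211672)) (tt N13983 (iv F208954)) (tt N12345 F178394) (tt N14570 (iv F211854)) (tt N10464 F178395) (tt N10267 (iv D42698)) (tt N14585 D47355) (tt N14582 (iv F211889)) (tt N12345 F178396) (tt N14586 D47356))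
theorem Q12347 : ∀ i, i < 12347 → P i := stepQ 12346 Q12346 (allL N12346 (tt N14524 (iv F211676)) (tt N13984 (iv F208960)) (tt N12346 F178397) (tt N14571 (iv F211855)) (tt N10268 F178398) (tt N14586 (iv F211908)) (tt N10270 F178399) (tt N14583 (iv F211895)) (tt N14587 D47357) (tt N10267 (iv D42699)))
theorem Q12348 : ∀ i, i < 12348 → P i := stepQ 12347 Q12347 (allL N12347 (tt N14525 (iv F211680)) (tt N13985 (iv F208966)) (tt N12347 F178400) (tt N14448 (iv F211343)) (tt N14587 (iv F211910)) (tt N10466 F178401) (tt N10271 F178402) (tt N14584 (iv F211900)) (tt N10268 (iv D42700)) (tt N12347 F178403))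
theorem Q12349 : ∀ i, i < 12349 → P i := stepQ 12348 Q12348 (allL N12348 (tt N13911 (iv F208515)) (tt N13986 (iv F208972)) (tt N12348 F178404) (tt N14579 (iv F211880)) (tt N10272 F178405) (tt N14585 (iv F211904)) (tt N10269 (iv D42701)) (tt N14588 D47358) (tt N12348 F178406) (tt N14589 D47359))
theorem Q12350 : ∀ i, i < 12350 → P i := stepQ 12349 Q12349 (allL N12349 (tt N13913 (iv F208526)) (tt N13987 (iv F208975)) (tt N12349 F178407) (tt N14580 (iv F211882)) (tt N10273 F178408) (tt N10270 F178409) (tt N14589 (iv F211918)) (tt N14336 (iv F210816)) (tt N14590 D47360) (tt N10269 (iv D42702)))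
theorem Q12351 : ∀ i, i < 12351 → P i := stepQ 12350 Q12350 (allL N12350 (tt N14526 (iv F211685)) (tt N13988 (iv F208978)) (tt N12350 F178410) (tt N14591 D47361) (tt N10271 F178411) (tt N14590 (iv F211921)) (tt N14587 (iv F211911)) (tt N14337 (iv F210819)) (tt N10270 (iv D42703)) (tt N12350 F178412))
theorem Q12352 : ∀ i, i < 12352 → P i := stepQ 12351 Q12351 (allL N12351 (tt N13909 (iv F208502)) (tt N13989 (iv F208981)) (tt N12351 F178413) (tt N11085 F178414) (tt N14588 (iv F211914)) (tt N10470 F178415) (tt N14338 (iv F210824)) (tt N10272 (iv D42704)) (tt N12351 F178416) (tt N14592 D47362))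
theorem Q12353 : ∀ i, i < 12353 → P i := stepQ 12352 Q12352 (allL N12352 (tt N13912 (iv F208520)) (tt N13990 (iv F208985)) (tt N12352 F178417) (tt N11086 F178418) (tt N14589 (iv F211917)) (tt N10471 F178419) (tt N10273 F178420) (tt N14592 (iv F211928)) (tt N14593 D47363) (tt N10272 (iv D42705)))
theorem Q12354 : ∀ i, i < 12354 → P i := stepQ 12353 Q12353 (allL N12353 (tt N13914 (iv F208531)) (tt N13991 (iv F208989)) (tt N12353 F178421) (tt N13954 (iv F208796)) (tt N14590 (iv F211920)) (tt N10274 F178422) (tt N14593 (iv F211933)) (tt N14340 (iv F210837)) (tt N10273 (iv D42706)) (tt N12353 F178423))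
theorem Q12355 : ∀ i, i < 12355 → P i := stepQ 12354 Q12354 (allL N12354 (tt N14527 (iv F211689)) (tt N10286 F178427) (tt N14558 (iv F211816)) (tt N14470 (iv F211439)) (tt N10473 F178428) (tt N13928 (iv F208628)) (tt N10276 F178429) (tt N11087 F178430) (tt N10275 (iv D42708)) (tt N14594 D47364))
theorem Q12356 : ∀ i, i < 12356 → P i := stepQ 12355 Q12355 (allL N12355 (tt N14528 (iv F211694)) (tt N10287 F178431) (tt N14595 D47365) (tt N10276 (iv D42709)) (tt N14596 D47366) (tt N10279 F178432) (tt N14470 (iv F211441)) (tt N10277 F178433) (tt N12355 F178434) (tt N14597 D47367))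
theorem Q12357 : ∀ i, i < 12357 → P i := stepQ 12356 Q12356 (allL N12356 (tt N14529 (iv F211699)) (tt N10288 F178435) (tt N14560 (iv F211822)) (tt N14597 (iv F211950)) (tt N10475 F178436) (tt N10280 F178437) (tt N14594 (iv F211938)) (tt N10278 F178438) (tt N14456 (iv F211383)) (tt N10276 (iv D42710)))
theorem Q12358 : ∀ i, i < 12358 → P i := stepQ 12357 Q12357 (allL N12357 (tt N14530 (iv F211704)) (tt N14598 D47368) (tt N10277 (iv D42711)) (tt N14561 (iv F211826)) (tt N14599 D47369) (tt N10281 F178439) (tt N11090 F178440) (tt N14595 (iv F211942)) (tt N12357 F178441) (tt N14600 D47370))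
theorem Q12359 : ∀ i, i < 12359 → P i := stepQ 12358 Q12358 (allL N12358 (tt N14531 (iv F211708)) (tt N10290 F178442) (tt N14599 (iv F211958)) (tt N10477 F178443) (tt N10277 (iv D42712)) (tt N12358 F178444) (tt N11091 F178445) (tt N14596 (iv F211947)) (tt N12358 F178446) (tt N14601 D47371))
theorem Q12360 : ∀ i, i < 12360 → P i := stepQ 12359 Q12359 (allL N12359 (tt N14532 (iv F211714)) (tt N10291 F178447) (tt N14600 (iv F211962)) (tt N10278 F178448) (tt N14601 (iv F211967)) (tt N10282 F178449) (tt N11092 F178450) (tt N14597 (iv F211952)) (tt N14602 D47372) (tt N10277 (iv D42713)))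
theorem Q12361 : ∀ i, i < 12361 → P i := stepQ 12360 Q12360 (allL N12360 (tt N14533 (iv F211719)) (tt N11020 F205840) (tt N10279 (iv D42714)) (tt N14564 (iv F211835)) (tt N12360 F178451) (tt N14595 (iv F211941)) (tt N11022 F205841) (tt N10281 F178452) (tt N12360 F178453) (tt N14603 D47373))
theorem Q12362 : ∀ i, i < 12362 → P i := stepQ 12361 Q12361 (allL N12361 (tt N14534 (iv F211724)) (tt N10292 F178454) (tt N14603 (iv F211975)) (tt N10280 F178455) (tt N12361 F178456) (tt N14597 (iv F211951)) (tt N11030 F205842) (tt N10282 F178457) (tt N14604 D47374) (tt N10279 (iv D42715)))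
theorem Q12363 : ∀ i, i < 12363 → P i := stepQ 12362 Q12362 (allL N12362 (tt N14605 D47375) (tt N10281 (iv D42716)) (tt N10293 F178458) (tt N14567 (iv F211845)) (tt N12362 F178459) (tt N14598 (iv F211954)) (tt N10283 F178460) (tt N11020 F205899) (tt N12362 F178461) (tt N14606 D47376))
theorem Q12364 : ∀ i, i < 12364 → P i := stepQ 12363 Q12363 (allL N12363 (tt N14536 (iv F211734)) (tt N14606 (iv F211989)) (tt N10282 F178462) (tt N14569 (iv F211852)) (tt N12363 F178463) (tt N14600 (iv F211963)) (tt N10284 F178464) (tt N14603 (iv F211978)) (tt N14607 D47377) (tt N10281 (iv D42717)))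
theorem Q12365 : ∀ i, i < 12365 → P i := stepQ 12364 Q12364 (allL N12364 (tt N14537 (iv F211738)) (tt N10295 F178465) (tt N14607 (iv F211994)) (tt N14463 (iv F211406)) (tt N12364 F178466) (tt N14602 (iv F211971)) (tt N10285 F178467) (tt N14604 (iv F211982)) (tt N10282 (iv D42718)) (tt N12364 F178468))
theorem Q12366 : ∀ i, i < 12366 → P i := stepQ 12365 Q12365 (allL N12365 (tt N10283 (iv D42719)) (tt N14538 (iv F211743)) (tt N10296 F178469) (tt N14573 (iv F211860)) (tt N12365 F178470) (tt N11098 F178471) (tt N14605 (iv F211986)) (tt N14343 (iv F210853)) (tt N12365 F178472) (tt N14608 D47378))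
theorem Q12367 : ∀ i, i < 12367 → P i := stepQ 12366 Q12366 (allL N12366 (tt N14608 (iv F211998)) (tt N10284 F178473) (tt N10297 F178474) (tt N14575 (iv F211870)) (tt N12366 F178475) (tt N11099 F178476) (tt N14606 (iv F211992)) (tt N14344 (iv F210860)) (tt N14609 D47379) (tt N10283 (iv D42720)))
theorem Q12368 : ∀ i, i < 12368 → P i := stepQ 12367 Q12367 (allL N12367 (tt N14540 (iv F211752)) (tt N14609 (iv F212002)) (tt N10285 F178477) (tt N14610 D47380) (tt N12367 F178478) (tt N11100 F178479) (tt N14607 (iv F211996)) (tt N14345 (iv F210864)) (tt N10284 (iv D42721)) (tt N12367 F178480))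
theorem Q12369 : ∀ i, i < 12369 → P i := stepQ 12368 Q12368 (allL N12368 (tt N12368 F178485) (tt N14594 (iv F211936)) (tt N13927 (iv F208619)) (tt N14472 (iv F211453)) (tt N10488 F178486) (tt N13929 (iv F208636)) (tt N10288 F178487) (tt N11102 F178488) (tt N14467 (iv F211425)) (tt N10286 (iv D42723)))
theorem Q12370 : ∀ i, i < 12370 → P i := stepQ 12369 Q12369 (allL N12369 (tt N12369 F178493) (tt N14596 (iv F211944)) (tt N11026 F205843) (tt N10490 F178494) (tt N10287 (iv D42725)) (tt N12369 F178495) (tt N14471 (iv F211448)) (tt N10290 F178496) (tt N12369 F178497) (tt N14611 D47381))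
theorem Q12371 : ∀ i, i < 12371 → P i := stepQ 12370 Q12370 (allL N12370 (tt N12370 F178498) (tt N14597 (iv F211949)) (tt N11027 F205847) (tt N10288 F178499) (tt N14611 (iv F212012)) (tt N10292 F178500) (tt N14472 (iv F211455)) (tt N10291 F178501) (tt N14612 D47382) (tt N10287 (iv D42726)))
theorem Q12372 : ∀ i, i < 12372 → P i := stepQ 12371 Q12371 (allL N12371 (tt N14613 D47383) (tt N10289 (iv D42727)) (tt N14598 (iv F211953)) (tt N11016 F205870) (tt N14614 D47384) (tt N10293 F178502) (tt N11106 F178503) (tt N11017 F205871) (tt N12371 F178504) (tt N14615 D47385))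
theorem Q12373 : ∀ i, i < 12373 → P i := stepQ 12372 Q12372 (allL N12372 (tt N12372 F178505) (tt N14614 (iv F212026)) (tt N10290 F178506) (tt N11174 F205872) (tt N10289 (iv D42728)) (tt N12372 F178507) (tt N11107 F178508) (tt N11026 F205873) (tt N12372 F178509) (tt N14616 D47386))
theorem Q12374 : ∀ i, i < 12374 → P i := stepQ 12373 Q12373 (allL N12373 (tt N12373 F178510) (tt N14615 (iv F212032)) (tt N10291 F178511) (tt N11025 F205874) (tt N14616 (iv F212040)) (tt N10294 F178512) (tt N11108 F178513) (tt N11027 F205875) (tt N14617 D47387) (tt N10289 (iv D42729)))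
theorem Q12375 : ∀ i, i < 12375 → P i := stepQ 12374 Q12374 (allL N12374 (tt N12374 F178514) (tt N14601 (iv F211965)) (tt N14616 (iv F212038)) (tt N10495 F178515) (tt N10291 F178516) (tt N12374 F178517) (tt N11109 F178518) (tt N14611 (iv F212014)) (tt N14618 D47388) (tt N10290 (iv D42730)))
theorem Q12376 : ∀ i, i < 12376 → P i := stepQ 12375 Q12375 (allL N12375 (tt N12375 F178519) (tt N14602 (iv F211970)) (tt N14617 (iv F212045)) (tt N14474 (iv F211462)) (tt N14618 (iv F212052)) (tt N10295 F178520) (tt N11110 F178521) (tt N14612 (iv F212018)) (tt N10291 (iv D42731)) (tt N12375 F178522))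
theorem Q12377 : ∀ i, i < 12377 → P i := stepQ 12376 Q12376 (allL N12376 (tt N12376 F178530) (tt N14604 (iv F211979)) (tt N11028 F205848) (tt N14477 (iv F211480)) (tt N12376 F178531) (tt N14612 (iv F212017)) (tt N11031 F205849) (tt N10295 F178532) (tt N10292 (iv D42734)) (tt N12376 F178533))
theorem Q12378 : ∀ i, i < 12378 → P i := stepQ 12377 Q12377 (allL N12377 (tt N10293 (iv D42735)) (tt N12377 F178534) (tt N14605 (iv F211984)) (tt N10992 F205897) (tt N12377 F178535) (tt N14613 (iv F212022)) (tt N10296 F178536) (tt N10993 F205898) (tt N12377 F178537) (tt N14619 D47389))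
theorem Q12379 : ∀ i, i < 12379 → P i := stepQ 12378 Q12378 (allL N12378 (tt N14619 (iv F212056)) (tt N10294 F178538) (tt N14606 (iv F211990)) (tt N11019 F205900) (tt N12378 F178539) (tt N14615 (iv F212034)) (tt N10297 F178540) (tt N11021 F205901) (tt N14620 D47390) (tt N10293 (iv D42736)))
theorem Q12380 : ∀ i, i < 12380 → P i := stepQ 12379 Q12379 (allL N12379 (tt N12379 F178541) (tt N14620 (iv F212062)) (tt N10295 F178542) (tt N11113 F205903) (tt N12379 F178543) (tt N14617 (iv F212047)) (tt N10298 F178544) (tt N11028 F205904) (tt N10294 (iv D42737)) (tt N12379 F178545))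
theorem Q12381 : ∀ i, i < 12381 → P i := stepQ 12380 Q12380 (allL N12380 (tt N10297 F178546) (tt N12380 F178547) (tt N14608 (iv F211999)) (tt N13997 (iv F209031)) (tt N12380 F178548) (tt N11117 F178549) (tt N14619 (iv F212060)) (tt N14346 (iv F210872)) (tt N14621 D47391) (tt N10296 (iv D42738)))
theorem Q12382 : ∀ i, i < 12382 → P i := stepQ 12381 Q12381 (allL N12381 (tt N14621 (iv F212068)) (tt N10298 F178550) (tt N14609 (iv F212003)) (tt N14622 D47392) (tt N12381 F178551) (tt N11118 F178552) (tt N14620 (iv F212065)) (tt N14347 (iv F210878)) (tt N10297 (iv D42739)) (tt N12381 F178553))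
theorem Q12383 : ∀ i, i < 12383 → P i := stepQ 12382 Q12382 (allL N12382 (tt N12382 F178554) (tt N14622 (iv F212073)) (tt N14483 (iv F211502)) (tt N10298 (iv D42740)) (tt N11423 F206504) (tt N11119 F178555) (tt N11113 F206505) (tt N10976 F206506) (tt N10973 F206507) (tt N12382 F178556))
theorem Q12384 : ∀ i, i < 12384 → P i := stepQ 12383 Q12383 (allL N12383 (tt N12383 F178584) (tt N10303 F178585) (tt N10602 F204282) (tt N10299 (iv D42746)) (tt N10532 F204283) (tt N10300 F178586) (tt N14371 (iv F211024)) (tt N12383 F178587) (tt N12383 F178588) (tt N14623 D47393))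
theorem Q12385 : ∀ i, i < 12385 → P i := stepQ 12384 Q12384 (allL N12384 (tt N12384 F178589) (tt N10304 F178590) (tt N12384 F178591) (tt N14623 (iv F212083)) (tt N11656 (iv F206745)) (tt N10301 F178592) (tt N14372 (iv F211033)) (tt N12384 F178593) (tt N12384 F178594) (tt N10299 (iv D42747)))
theorem Q12386 : ∀ i, i < 12386 → P i := stepQ 12385 Q12385 (allL N12385 (tt N12385 F178605) (tt N10305 F178606) (tt N13811 (iv F207845)) (tt N10301 F178607) (tt N13810 (iv F207839)) (tt N14623 (iv F212085)) (tt N14348 (iv F210885)) (tt N12385 F178608) (tt N14624 D47394) (tt N10300 (iv D42750)))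
theorem Q12387 : ∀ i, i < 12387 → P i := stepQ 12386 Q12386 (allL N12386 (tt N10312 F178645) (tt N14371 (iv F211021)) (tt N10343 F178646) (tt N10302 (iv D42759)) (tt N14625 D47395) (tt N14349 (iv F210891)) (tt N10303 F178647) (tt N14364 (iv F210987)) (tt N12386 F178648) (tt N14626 D47396))
theorem Q12388 : ∀ i, i < 12388 → P i := stepQ 12387 Q12387 (allL N12387 (tt N10313 F178649) (tt N14372 (iv F211029)) (tt N10307 F178650) (tt N14626 (iv F212101)) (tt N11655 (iv F206746)) (tt N14350 (iv F210899)) (tt N10304 F178651) (tt N14365 (iv F210995)) (tt N12387 F178652) (tt N10302 (iv D42760)))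
theorem Q12389 : ∀ i, i < 12389 → P i := stepQ 12388 Q12388 (allL N12388 (tt N10314 F178653) (tt N10532 F206388) (tt N10345 F178654) (tt N10531 F206389) (tt N10303 (iv D42761)) (tt N11338 F206390) (tt N14625 (iv F212096)) (tt N12388 F178655) (tt N12388 F178656) (tt N14627 D47397))
theorem Q12390 : ∀ i, i < 12390 → P i := stepQ 12389 Q12389 (allL N12389 (tt N10315 F178657) (tt N14623 (iv F212081)) (tt N10346 F178658) (tt N10304 F178659) (tt N14627 (iv F212107)) (tt N10305 F178660) (tt N14626 (iv F212102)) (tt N12389 F178661) (tt N14628 D47398) (tt N10303 (iv D42762)))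
theorem Q12391 : ∀ i, i < 12391 → P i := stepQ 12390 Q12390 (allL N12390 (tt N10318 F178672) (tt N14624 (iv F212088)) (tt N10347 F178673) (tt N12390 F178674) (tt N14075 (iv F209493)) (tt N14628 (iv F212113)) (tt N14352 (iv F210910)) (tt N12390 F178675) (tt N10305 (iv D42765)) (tt N12390 F178676))
theorem Q12392 : ∀ i, i < 12392 → P i := stepQ 12391 Q12391 (allL N12391 (tt N10322 F178712) (tt N12391 F178713) (tt N14365 (iv F210991)) (tt N10352 F178714) (tt N11654 (iv F206680)) (tt N14356 (iv F210938)) (tt N12391 F178715) (tt N10307 F178716) (tt N12391 F178717) (tt N10306 (iv D42773)))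
theorem Q12393 : ∀ i, i < 12393 → P i := stepQ 12392 Q12392 (allL N12392 (tt N11655 F206747) (tt N12392 F178758) (tt N10321 F178759) (tt N11652 (iv F206752)) (tt N10313 F178760) (tt N11654 (iv F206753)) (tt N10310 F178761) (tt N11653 F206750) (tt N12392 F178762) (tt N10308 (iv D42783)))
theorem Q12394 : ∀ i, i < 12394 → P i := stepQ 12393 Q12393 (allL N12393 (tt N10531 F203745) (tt N12393 F178766) (tt N10794 F203472) (tt N10314 F178767) (tt N10309 (iv D42785)) (tt N11337 F203746) (tt N11649 F206718) (tt N12393 F178768) (tt N10530 F203747) (tt N14629 D47399))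
theorem Q12395 : ∀ i, i < 12395 → P i := stepQ 12394 Q12394 (allL N12394 (tt N11632 F206786) (tt N12394 F178769) (tt N11599 F206787) (tt N10310 F178770) (tt N14629 (iv F212120)) (tt N12394 F178771) (tt N11652 F206784) (tt N12394 F178772) (tt N11608 (iv F206785)) (tt N10309 (iv D42786)))
theorem Q12396 : ∀ i, i < 12396 → P i := stepQ 12395 Q12395 (allL N12395 (tt N14364 (iv F210981)) (tt N12395 F178773) (tt N10366 F178774) (tt N10311 (iv D42787)) (tt N11650 (iv F206722)) (tt N14353 (iv F210916)) (tt N12395 F178775) (tt N10312 F178776) (tt N12395 F178777) (tt N14630 D47400))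
theorem Q12397 : ∀ i, i < 12397 → P i := stepQ 12396 Q12396 (allL N12396 (tt N14365 (iv F210989)) (tt N12396 F178778) (tt N10322 F178779) (tt N14630 (iv F212127)) (tt N11653 (iv F206748)) (tt N14354 (iv F210924)) (tt N12396 F178780) (tt N10313 F178781) (tt N12396 F178782) (tt N10311 (iv D42788)))
theorem Q12398 : ∀ i, i < 12398 → P i := stepQ 12397 Q12397 (allL N12397 (tt N14625 (iv F212092)) (tt N12397 F178783) (tt N10368 F178784) (tt N11649 (iv F206719)) (tt N10312 (iv D42789)) (tt N14631 D47401) (tt N10314 F178785) (tt N11650 F206720) (tt N12397 F178786) (tt N14632 D47402))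
theorem Q12399 : ∀ i, i < 12399 → P i := stepQ 12398 Q12398 (allL N12398 (tt N14626 (iv F212099)) (tt N12398 F178787) (tt N10369 F178788) (tt N10313 F178789) (tt N14632 (iv F212139)) (tt N14358 (iv F210952)) (tt N10315 F178790) (tt N14630 (iv F212130)) (tt N14633 D47403) (tt N10312 (iv D42790)))
theorem Q12400 : ∀ i, i < 12400 → P i := stepQ 12399 Q12399 (allL N12399 (tt N11338 F206386) (tt N12399 F178791) (tt N10370 F178792) (tt N11337 F206387) (tt N10316 F178793) (tt N10314 (iv D42791)) (tt N14634 D47404) (tt N12399 F178794) (tt N12399 F178795) (tt N14635 D47405))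
theorem Q12401 : ∀ i, i < 12401 → P i := stepQ 12400 Q12400 (allL N12400 (tt N14627 (iv F212103)) (tt N12400 F178796) (tt N10371 F178797) (tt N14629 (iv F212119)) (tt N10315 F178798) (tt N14635 (iv F212159)) (tt N14632 (iv F212140)) (tt N12400 F178799) (tt N14636 D47406) (tt N10314 (iv D42792)))
theorem Q12402 : ∀ i, i < 12402 → P i := stepQ 12401 Q12401 (allL N12401 (tt N14628 (iv F212110)) (tt N12401 F178800) (tt N10372 F178801) (tt N12401 F178802) (tt N14636 (iv F212163)) (tt N10318 F178803) (tt N14633 (iv F212145)) (tt N12401 F178804) (tt N10315 (iv D42793)) (tt N12401 F178805))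
theorem Q12403 : ∀ i, i < 12403 → P i := stepQ 12402 Q12402 (allL N12402 (tt N11481 F206349) (tt N12402 F178806) (tt N10373 F178807) (tt N12402 F178808) (tt N14634 (iv F212151)) (tt N11490 (iv F206348)) (tt N10316 (iv D42794)) (tt N11484 F206350) (tt N12402 F178809) (tt N14637 D47407))
theorem Q12404 : ∀ i, i < 12404 → P i := stepQ 12403 Q12403 (allL N12403 (tt N14072 (iv F209471)) (tt N12403 F178810) (tt N10374 F178811) (tt N12403 F178812) (tt N14635 (iv F212158)) (tt N10317 F178813) (tt N14637 (iv F212171)) (tt N12403 F178814) (tt N14638 D47408) (tt N10316 (iv D42795)))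
theorem Q12405 : ∀ i, i < 12405 → P i := stepQ 12404 Q12404 (allL N12404 (tt N14075 (iv F209491)) (tt N12404 F178815) (tt N10375 F178816) (tt N14639 D47409) (tt N10318 F178817) (tt N14638 (iv F212175)) (tt N14363 (iv F210979)) (tt N12404 F178818) (tt N10317 (iv D42796)) (tt N12404 F178819))
theorem Q12406 : ∀ i, i < 12406 → P i := stepQ 12405 Q12405 (allL N12405 (tt N11653 (iv F206729)) (tt N10325 F178832) (tt N11654 F206755) (tt N11647 F206728) (tt N14365 (iv F210992)) (tt N10321 F178833) (tt N12405 F178834) (tt N11655 F206751) (tt N12405 F178835) (tt N10319 (iv D42800)))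
theorem Q12407 : ∀ i, i < 12407 → P i := stepQ 12406 Q12406 (allL N12406 (tt N11654 F206681) (tt N10327 F178841) (tt N11653 F206749) (tt N11648 (iv F206682)) (tt N10322 F178842) (tt N11655 (iv F206754)) (tt N12406 F178843) (tt N10321 F178844) (tt N12406 F178845) (tt N10320 (iv D42802)))
theorem Q12408 : ∀ i, i < 12408 → P i := stepQ 12407 Q12407 (allL N12407 (tt N12407 F178877) (tt N11655 F206756) (tt N12407 F178878) (tt N11657 F206758) (tt N14372 (iv F211031)) (tt N10327 F178879) (tt N11656 (iv F206757)) (tt N10325 F178880) (tt N12407 F178881) (tt N10323 (iv D42810)))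
theorem Q12409 : ∀ i, i < 12409 → P i := stepQ 12408 Q12408 (allL N12408 (tt N12408 F178887) (tt N11646 (iv F206713)) (tt N10527 F204137) (tt N14374 (iv F211046)) (tt N10324 (iv D42812)) (tt N10390 F178888) (tt N12408 F178889) (tt N10529 F204138) (tt N10506 F178890) (tt N14640 D47410))
theorem Q12410 : ∀ i, i < 12410 → P i := stepQ 12409 Q12409 (allL N12409 (tt N12409 F178891) (tt N11647 (iv F206727)) (tt N11659 F206761) (tt N10325 F178892) (tt N14640 (iv F212186)) (tt N10329 F178893) (tt N12409 F178894) (tt N11657 (iv F206760)) (tt N11658 F206726) (tt N10324 (iv D42813)))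
theorem Q12411 : ∀ i, i < 12411 → P i := stepQ 12410 Q12410 (allL N12410 (tt N12410 F178901) (tt N11648 F206683) (tt N11658 F206764) (tt N10327 F178902) (tt N10393 F178903) (tt N11657 (iv F206759)) (tt N12410 F178904) (tt N10329 F178905) (tt N11659 (iv F206684)) (tt N10326 (iv D42815)))
theorem Q12412 : ∀ i, i < 12412 → P i := stepQ 12411 Q12411 (allL N12411 (tt N12411 F178910) (tt N11662 F206763) (tt N10329 F178911) (tt N12411 F178912) (tt N10395 F178913) (tt N11659 F206766) (tt N10331 F178914) (tt N11658 (iv F206762)) (tt N11657 (iv F206712)) (tt N10328 (iv D42817)))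
theorem Q12413 : ∀ i, i < 12413 → P i := stepQ 12412 Q12412 (allL N12412 (tt N11608 (iv F206772)) (tt N10331 F178926) (tt N11602 F206773) (tt N12412 F178927) (tt N10398 F178928) (tt N12412 F178929) (tt N11662 F206771) (tt N12412 F178930) (tt N11632 (iv F206783)) (tt N10330 (iv D42820)))
theorem Q12414 : ∀ i, i < 12414 → P i := stepQ 12413 Q12413 (allL N12413 (tt N11610 F206421) (tt N10337 F178951) (tt N12413 F178952) (tt N11318 F203075) (tt N14386 (iv F211111)) (tt N10332 (iv D42825)) (tt N11120 F178953) (tt N14641 D47411) (tt N14642 D47412) (tt N10402 F178954))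
theorem Q12415 : ∀ i, i < 12415 → P i := stepQ 12414 Q12414 (allL N12414 (tt N11611 F206803) (tt N10338 F178955) (tt N12414 F178956) (tt N11320 F203076) (tt N10334 F178957) (tt N14641 (iv F212195)) (tt N12414 F178958) (tt N10332 (iv D42826)) (tt N14643 D47413) (tt N10403 F178959))
theorem Q12416 : ∀ i, i < 12416 → P i := stepQ 12415 Q12415 (allL N12415 (tt N10859 F203066) (tt N10339 F178960) (tt N12415 F178961) (tt N14644 D47414) (tt N10335 F178962) (tt N14642 (iv F212200)) (tt N10333 F178963) (tt N14643 (iv F212207)) (tt N10332 (iv D42827)) (tt N14645 D47415))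
theorem Q12417 : ∀ i, i < 12417 → P i := stepQ 12416 Q12416 (allL N12416 (tt N10852 F203060) (tt N10340 F178964) (tt N14646 D47416) (tt N10333 (iv D42828)) (tt N14095 (iv F209597)) (tt N10813 F203061) (tt N14644 (iv F212210)) (tt N12416 F178966) (tt N11150 F203063) (tt N14647 D47417))
theorem Q12418 : ∀ i, i < 12418 → P i := stepQ 12417 Q12417 (allL N12417 (tt N10860 F203064) (tt N10341 F178967) (tt N12417 F178968) (tt N14647 (iv F212227)) (tt N10336 F178969) (tt N10819 F203065) (tt N14645 (iv F212216)) (tt N12417 F178971) (tt N10406 F178972) (tt N10333 (iv D42829)))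
theorem Q12419 : ∀ i, i < 12419 → P i := stepQ 12418 Q12418 (allL N12418 (tt N10861 F203068) (tt N10342 F178973) (tt N12418 F178974) (tt N14104 (iv F209644)) (tt N14643 (iv F212205)) (tt N14391 (iv F211136)) (tt N12418 F178975) (tt N10335 F178976) (tt N10334 (iv D42830)) (tt N14648 D47418))
theorem Q12420 : ∀ i, i < 12420 → P i := stepQ 12419 Q12419 (allL N12419 (tt N10862 F203067) (tt N10344 F178980) (tt N12419 F178981) (tt N14105 (iv F209649)) (tt N14645 (iv F212215)) (tt N14392 (iv F211141)) (tt N10336 F178982) (tt N14648 (iv F212234)) (tt N10408 F178983) (tt N10335 (iv D42832)))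
theorem Q12421 : ∀ i, i < 12421 → P i := stepQ 12420 Q12420 (allL N12420 (tt N10358 F179038) (tt N14641 (iv F212192)) (tt N10348 F179039) (tt N11316 F203611) (tt N14398 (iv F211170)) (tt N10338 F179040) (tt N14649 D47419) (tt N10337 (iv D42846)) (tt N14650 D47420) (tt N10414 F179041))
theorem Q12422 : ∀ i, i < 12422 → P i := stepQ 12421 Q12421 (allL N12421 (tt N10359 F179042) (tt N14642 (iv F212198)) (tt N10349 F179043) (tt N14651 D47421) (tt N14399 (iv F211175)) (tt N10339 F179044) (tt N11123 F179045) (tt N14650 (iv F212245)) (tt N10337 (iv D42847)) (tt N14652 D47422))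
theorem Q12423 : ∀ i, i < 12423 → P i := stepQ 12422 Q12422 (allL N12422 (tt N10360 F179046) (tt N14643 (iv F212203)) (tt N10350 F179047) (tt N14653 D47423) (tt N10342 F179048) (tt N14650 (iv F212244)) (tt N12422 F179049) (tt N10339 F179050) (tt N10338 (iv D42848)) (tt N14654 D47424))
theorem Q12424 : ∀ i, i < 12424 → P i := stepQ 12423 Q12423 (allL N12423 (tt N10361 F179051) (tt N14644 (iv F212209)) (tt N11137 F203812) (tt N10339 (iv D42849)) (tt N14655 D47425) (tt N14651 (iv F212248)) (tt N10340 F179052) (tt N14653 (iv F212259)) (tt N11147 F203813) (tt N14656 D47426))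
theorem Q12425 : ∀ i, i < 12425 → P i := stepQ 12424 Q12424 (allL N12424 (tt N10362 F179053) (tt N14645 (iv F212213)) (tt N10351 F179054) (tt N14656 (iv F212274)) (tt N10344 F179055) (tt N14652 (iv F212253)) (tt N10341 F179056) (tt N14654 (iv F212265)) (tt N10418 F179057) (tt N10339 (iv D42850)))
theorem Q12426 : ∀ i, i < 12426 → P i := stepQ 12425 Q12425 (allL N12425 (tt N10364 F179062) (tt N14095 (iv F209594)) (tt N11139 F203814) (tt N10345 F179063) (tt N10340 (iv D42852)) (tt N14067 (iv F209442)) (tt N14655 (iv F212270)) (tt N12425 F179064) (tt N11151 F203815) (tt N14657 D47427))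
theorem Q12427 : ∀ i, i < 12427 → P i := stepQ 12426 Q12426 (allL N12426 (tt N10365 F179065) (tt N14647 (iv F212226)) (tt N11140 F203816) (tt N10341 F179066) (tt N14657 (iv F212279)) (tt N11127 F179067) (tt N14656 (iv F212275)) (tt N12426 F179068) (tt N14658 D47428) (tt N10340 (iv D42853)))
theorem Q12428 : ∀ i, i < 12428 → P i := stepQ 12427 Q12427 (allL N12427 (tt N10366 F179069) (tt N14104 (iv F209643)) (tt N14364 (iv F210983)) (tt N10342 (iv D42854)) (tt N14659 D47429) (tt N14366 (iv F211000)) (tt N12427 F179070) (tt N10343 F179071) (tt N12427 F179072) (tt N14660 D47430))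
theorem Q12429 : ∀ i, i < 12429 → P i := stepQ 12428 Q12428 (allL N12428 (tt N10367 F179073) (tt N14648 (iv F212231)) (tt N10352 F179074) (tt N14660 (iv F212293)) (tt N14654 (iv F212263)) (tt N14406 (iv F211199)) (tt N12428 F179075) (tt N10344 F179076) (tt N10423 F179077) (tt N10342 (iv D42855)))
theorem Q12430 : ∀ i, i < 12430 → P i := stepQ 12429 Q12429 (allL N12429 (tt N10368 F179078) (tt N14101 (iv F209627)) (tt N14625 (iv F212094)) (tt N14655 (iv F212269)) (tt N10343 (iv D42856)) (tt N14661 D47431) (tt N10345 F179079) (tt N14659 (iv F212290)) (tt N12429 F179080) (tt N14662 D47432))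
theorem Q12431 : ∀ i, i < 12431 → P i := stepQ 12430 Q12430 (allL N12430 (tt N10369 F179081) (tt N14105 (iv F209648)) (tt N14626 (iv F212100)) (tt N10344 F179082) (tt N14662 (iv F212299)) (tt N14408 (iv F211209)) (tt N10346 F179083) (tt N14660 (iv F212295)) (tt N14663 D47433) (tt N10343 (iv D42857)))
theorem Q12432 : ∀ i, i < 12432 → P i := stepQ 12431 Q12431 (allL N12431 (tt N10371 F179088) (tt N14102 (iv F209632)) (tt N14627 (iv F212105)) (tt N14657 (iv F212278)) (tt N10346 F179089) (tt N14073 (iv F209483)) (tt N14662 (iv F212300)) (tt N12431 F179090) (tt N14664 D47434) (tt N10345 (iv D42859)))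
theorem Q12433 : ∀ i, i < 12433 → P i := stepQ 12432 Q12432 (allL N12432 (tt N10372 F179091) (tt N14106 (iv F209652)) (tt N14628 (iv F212111)) (tt N10427 F179092) (tt N14664 (iv F212306)) (tt N10347 F179093) (tt N14663 (iv F212303)) (tt N12432 F179094) (tt N10346 (iv D42860)) (tt N12432 F179095))
theorem Q12434 : ∀ i, i < 12434 → P i := stepQ 12433 Q12433 (allL N12433 (tt N10376 F179107) (tt N12433 F179108) (tt N14649 (iv F212237)) (tt N10507 F179109) (tt N14411 (iv F211220)) (tt N12433 F179110) (tt N10348 (iv D42864)) (tt N11129 F179111) (tt N14665 D47435) (tt N10428 F179112))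
theorem Q12435 : ∀ i, i < 12435 → P i := stepQ 12434 Q12434 (allL N12434 (tt N10377 F179113) (tt N12434 F179114) (tt N14650 (iv F212243)) (tt N11312 F204155) (tt N14412 (iv F211225)) (tt N10350 F179115) (tt N14665 (iv F212313)) (tt N10349 F179116) (tt N10348 (iv D42865)) (tt N14666 D47436))
theorem Q12436 : ∀ i, i < 12436 → P i := stepQ 12435 Q12435 (allL N12435 (tt N10379 F179122) (tt N12435 F179123) (tt N14652 (iv F212252)) (tt N11313 F204156) (tt N14414 (iv F211236)) (tt N10351 F179124) (tt N11131 F179125) (tt N14666 (iv F212319)) (tt N10431 F179126) (tt N10349 (iv D42867)))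
theorem Q12437 : ∀ i, i < 12437 → P i := stepQ 12436 Q12436 (allL N12436 (tt N10381 F179132) (tt N12436 F179133) (tt N14654 (iv F212262)) (tt N11314 F204277) (tt N10352 F179134) (tt N14666 (iv F212318)) (tt N12436 F179135) (tt N10351 F179136) (tt N10433 F179137) (tt N10350 (iv D42869)))
theorem Q12438 : ∀ i, i < 12438 → P i := stepQ 12437 Q12437 (allL N12437 (tt N11319 F203829) (tt N13998 (iv F209038)) (tt N10508 F179159) (tt N14421 (iv F211268)) (tt N10353 (iv D42875)) (tt N12437 F179160) (tt N11133 F179161) (tt N14667 D47437) (tt N14668 D47438) (tt N10438 F179162))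
theorem Q12439 : ∀ i, i < 12439 → P i := stepQ 12438 Q12438 (allL N12438 (tt N11316 F203830) (tt N13999 (iv F209045)) (tt N10509 F179163) (tt N10358 F179164) (tt N14667 (iv F212323)) (tt N10354 F179165) (tt N14669 D47439) (tt N10353 (iv D42876)) (tt N14670 D47440) (tt N10439 F179166))
theorem Q12440 : ∀ i, i < 12440 → P i := stepQ 12439 Q12439 (allL N12439 (tt N11162 F203831) (tt N14000 (iv F209051)) (tt N10510 F179167) (tt N14671 D47441) (tt N14668 (iv F212328)) (tt N10355 F179168) (tt N11135 F179169) (tt N14670 (iv F212340)) (tt N10353 (iv D42877)) (tt N14672 D47442))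
theorem Q12441 : ∀ i, i < 12441 → P i := stepQ 12440 Q12440 (allL N12440 (tt N11165 F203832) (tt N14001 (iv F209056)) (tt N10511 F179170) (tt N14673 D47443) (tt N12440 F179171) (tt N14670 (iv F212339)) (tt N12440 F179172) (tt N10355 F179173) (tt N10354 (iv D42878)) (tt N14674 D47444))
theorem Q12442 : ∀ i, i < 12442 → P i := stepQ 12441 Q12441 (allL N12441 (tt N11147 F203820) (tt N14002 (iv F209062)) (tt N11125 F203821) (tt N10355 (iv D42879)) (tt N14675 D47445) (tt N14671 (iv F212343)) (tt N10356 F179174) (tt N14673 (iv F212354)) (tt N10361 F179175) (tt N14676 D47446))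
theorem Q12443 : ∀ i, i < 12443 → P i := stepQ 12442 Q12442 (allL N12442 (tt N11168 F203833) (tt N14003 (iv F209066)) (tt N10512 F179176) (tt N14676 (iv F212369)) (tt N12442 F179177) (tt N14672 (iv F212348)) (tt N10357 F179178) (tt N14674 (iv F212360)) (tt N10443 F179179) (tt N10355 (iv D42880)))
theorem Q12444 : ∀ i, i < 12444 → P i := stepQ 12443 Q12443 (allL N12443 (tt N11151 (iv F203399)) (tt N14005 (iv F209079)) (tt N10798 F203476) (tt N12443 F179184) (tt N10356 (iv D42882)) (tt N14066 (iv F209434)) (tt N14675 (iv F212365)) (tt N12443 F179185) (tt N10364 F179186) (tt N14677 D47447))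
theorem Q12445 : ∀ i, i < 12445 → P i := stepQ 12444 Q12444 (allL N12444 (tt N11152 F203822) (tt N14006 (iv F209086)) (tt N11127 F203823) (tt N10357 F179187) (tt N14677 (iv F212374)) (tt N11140 F179188) (tt N14676 (iv F212370)) (tt N12444 F179189) (tt N14678 D47448) (tt N10356 (iv D42883)))
theorem Q12446 : ∀ i, i < 12446 → P i := stepQ 12445 Q12445 (allL N12445 (tt N14649 (iv F212236)) (tt N14007 (iv F209091)) (tt N10376 F179190) (tt N14669 (iv F212333)) (tt N14430 (iv F211298)) (tt N12445 F179191) (tt N10358 (iv D42884)) (tt N11141 F179192) (tt N14679 D47449) (tt N10447 F179193))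
theorem Q12447 : ∀ i, i < 12447 → P i := stepQ 12446 Q12446 (allL N12446 (tt N14650 (iv F212242)) (tt N14008 (iv F209097)) (tt N10377 F179194) (tt N14680 D47450) (tt N14431 (iv F211302)) (tt N10360 F179195) (tt N14679 (iv F212384)) (tt N10359 F179196) (tt N10358 (iv D42885)) (tt N14681 D47451))
theorem Q12448 : ∀ i, i < 12448 → P i := stepQ 12447 Q12447 (allL N12447 (tt N14651 (iv F212246)) (tt N14009 (iv F209102)) (tt N14682 D47452) (tt N10359 (iv D42886)) (tt N14683 D47453) (tt N10361 F179197) (tt N11143 F179198) (tt N14680 (iv F212387)) (tt N14671 (iv F212345)) (tt N14684 D47454))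
theorem Q12449 : ∀ i, i < 12449 → P i := stepQ 12448 Q12448 (allL N12448 (tt N14652 (iv F212251)) (tt N14010 (iv F209106)) (tt N10379 F179199) (tt N14684 (iv F212398)) (tt N14433 (iv F211308)) (tt N10362 F179200) (tt N11144 F179201) (tt N14681 (iv F212390)) (tt N10450 F179202) (tt N10359 (iv D42887)))
theorem Q12450 : ∀ i, i < 12450 → P i := stepQ 12449 Q12449 (allL N12449 (tt N14653 (iv F212256)) (tt N14011 (iv F209112)) (tt N14685 D47455) (tt N10360 (iv D42888)) (tt N14686 D47456) (tt N14680 (iv F212386)) (tt N12449 F179203) (tt N10361 F179204) (tt N14673 (iv F212355)) (tt N14687 D47457))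
theorem Q12451 : ∀ i, i < 12451 → P i := stepQ 12450 Q12450 (allL N12450 (tt N14654 (iv F212261)) (tt N14012 (iv F209116)) (tt N10381 F179205) (tt N14687 (iv F212412)) (tt N10367 F179206) (tt N14681 (iv F212389)) (tt N12450 F179207) (tt N10362 F179208) (tt N10452 F179209) (tt N10360 (iv D42889)))
theorem Q12452 : ∀ i, i < 12452 → P i := stepQ 12451 Q12451 (allL N12451 (tt N11137 F203606) (tt N14688 D47458) (tt N10361 (iv D42890)) (tt N10382 F179210) (tt N14689 D47459) (tt N14682 (iv F212394)) (tt N10363 F179211) (tt N14685 (iv F212404)) (tt N11125 F203607) (tt N14690 D47460))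
theorem Q12453 : ∀ i, i < 12453 → P i := stepQ 12452 Q12452 (allL N12452 (tt N14655 (iv F212267)) (tt N14014 (iv F209126)) (tt N14689 (iv F212423)) (tt N10368 F179212) (tt N10361 (iv D42891)) (tt N14691 D47461) (tt N10364 F179213) (tt N14686 (iv F212411)) (tt N14675 (iv F212366)) (tt N14692 D47462))
theorem Q12454 : ∀ i, i < 12454 → P i := stepQ 12453 Q12453 (allL N12453 (tt N14656 (iv F212272)) (tt N14015 (iv F209130)) (tt N14690 (iv F212429)) (tt N10362 F179214) (tt N14692 (iv F212434)) (tt N14684 (iv F212399)) (tt N10365 F179215) (tt N14687 (iv F212414)) (tt N14693 D47463) (tt N10361 (iv D42892)))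
theorem Q12455 : ∀ i, i < 12455 → P i := stepQ 12454 Q12454 (allL N12454 (tt N10838 F203070) (tt N10363 (iv D42893)) (tt N14016 (iv F209133)) (tt N10384 F179216) (tt N10805 F203071) (tt N11150 F179217) (tt N14688 (iv F212417)) (tt N12454 F179218) (tt N10813 F203072) (tt N14694 D47464))
theorem Q12456 : ∀ i, i < 12456 → P i := stepQ 12455 Q12455 (allL N12455 (tt N11139 (iv F203396)) (tt N10805 F203473) (tt N10364 F179219) (tt N10794 F203474) (tt N10363 (iv D42894)) (tt N14059 (iv F209395)) (tt N14689 (iv F212425)) (tt N12455 F179220) (tt N10798 F203475) (tt N14695 D47465))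
theorem Q12457 : ∀ i, i < 12457 → P i := stepQ 12456 Q12456 (allL N12456 (tt N11140 F203819) (tt N14694 (iv F212439)) (tt N10365 F179221) (tt N10385 F179222) (tt N14695 (iv F212448)) (tt N11152 F179223) (tt N14690 (iv F212431)) (tt N12456 F179224) (tt N14696 D47466) (tt N10363 (iv D42895)))
theorem Q12458 : ∀ i, i < 12458 → P i := stepQ 12457 Q12457 (allL N12457 (tt N14067 (iv F209438)) (tt N10420 F203839) (tt N14059 (iv F209394)) (tt N10370 F179225) (tt N10405 F203840) (tt N10364 (iv D42896)) (tt N14697 D47467) (tt N12457 F179227) (tt N14066 (iv F209436)) (tt N14698 D47468))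
theorem Q12459 : ∀ i, i < 12459 → P i := stepQ 12458 Q12458 (allL N12458 (tt N14657 (iv F212276)) (tt N14019 (iv F209153)) (tt N14695 (iv F212446)) (tt N10371 F179228) (tt N10365 F179229) (tt N14698 (iv F212462)) (tt N14692 (iv F212435)) (tt N12458 F179230) (tt N14699 D47469) (tt N10364 (iv D42897)))
theorem Q12460 : ∀ i, i < 12460 → P i := stepQ 12459 Q12459 (allL N12459 (tt N14658 (iv F212281)) (tt N14020 (iv F209159)) (tt N14696 (iv F212451)) (tt N10461 F179231) (tt N14699 (iv F212464)) (tt N11154 F179232) (tt N14693 (iv F212437)) (tt N12459 F179233) (tt N10365 (iv D42898)) (tt N14678 (iv F212381)))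
theorem Q12461 : ∀ i, i < 12461 → P i := stepQ 12460 Q12460 (allL N12460 (tt N14659 (iv F212287)) (tt N14021 (iv F209164)) (tt N11650 (iv F206721)) (tt N14686 (iv F212409)) (tt N10366 (iv D42899)) (tt N14700 D47470) (tt N12460 F179234) (tt N10368 F179235) (tt N12460 F179236) (tt N14701 D47471))
theorem Q12462 : ∀ i, i < 12462 → P i := stepQ 12461 Q12461 (allL N12461 (tt N14660 (iv F212292)) (tt N14022 (iv F209170)) (tt N14630 (iv F212126)) (tt N10367 F179237) (tt N14701 (iv F212470)) (tt N14445 (iv F211337)) (tt N12461 F179238) (tt N10369 F179239) (tt N14702 D47472) (tt N10366 (iv D42900)))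
theorem Q12463 : ∀ i, i < 12463 → P i := stepQ 12462 Q12462 (allL N12462 (tt N14661 (iv F212296)) (tt N14023 (iv F209176)) (tt N14631 (iv F212132)) (tt N14691 (iv F212432)) (tt N14446 (iv F211339)) (tt N10368 (iv D42901)) (tt N14703 D47473) (tt N14700 (iv F212467)) (tt N12462 F179240) (tt N14704 D47474))
theorem Q12464 : ∀ i, i < 12464 → P i := stepQ 12463 Q12463 (allL N12463 (tt N14662 (iv F212298)) (tt N14024 (iv F209181)) (tt N14632 (iv F212137)) (tt N14692 (iv F212433)) (tt N10369 F179241) (tt N14704 (iv F212480)) (tt N10371 F179242) (tt N14701 (iv F212472)) (tt N14705 D47475) (tt N10368 (iv D42902)))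
theorem Q12465 : ∀ i, i < 12465 → P i := stepQ 12464 Q12464 (allL N12464 (tt N14663 (iv F212301)) (tt N14025 (iv F209186)) (tt N14633 (iv F212143)) (tt N10466 F179243) (tt N14705 (iv F212481)) (tt N14448 (iv F211344)) (tt N10372 F179244) (tt N14702 (iv F212475)) (tt N10369 (iv D42903)) (tt N12464 F179245))
theorem Q12466 : ∀ i, i < 12466 → P i := stepQ 12465 Q12465 (allL N12465 (tt N14070 (iv F209458)) (tt N10424 F203841) (tt N14634 (iv F212149)) (tt N14697 (iv F212457)) (tt N10373 F179246) (tt N14703 (iv F212478)) (tt N10370 (iv D42904)) (tt N14706 D47476) (tt N12465 F179247) (tt N14707 D47477))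
theorem Q12467 : ∀ i, i < 12467 → P i := stepQ 12466 Q12466 (allL N12466 (tt N14073 (iv F209479)) (tt N10426 F203834) (tt N14635 (iv F212156)) (tt N14698 (iv F212460)) (tt N10374 F179248) (tt N10371 F179249) (tt N14707 (iv F212492)) (tt N12466 F179250) (tt N14708 D47478) (tt N10370 (iv D42905)))
theorem Q12468 : ∀ i, i < 12468 → P i := stepQ 12467 Q12467 (allL N12467 (tt N14664 (iv F212305)) (tt N14026 (iv F209192)) (tt N14636 (iv F212162)) (tt N14709 D47479) (tt N10372 F179251) (tt N14708 (iv F212495)) (tt N14705 (iv F212482)) (tt N12467 F179252) (tt N10371 (iv D42906)) (tt N12467 F179253))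
theorem Q12469 : ∀ i, i < 12469 → P i := stepQ 12468 Q12468 (allL N12468 (tt N11467 F206352) (tt N10422 F203842) (tt N11484 (iv F206351)) (tt N10407 F203843) (tt N14706 (iv F212487)) (tt N11475 F206353) (tt N12468 F179255) (tt N10373 (iv D42907)) (tt N12468 F179256) (tt N14710 D47480))
theorem Q12470 : ∀ i, i < 12470 → P i := stepQ 12469 Q12469 (allL N12469 (tt N14071 (iv F209464)) (tt N10425 F203835) (tt N14637 (iv F212168)) (tt N10408 F203836) (tt N14707 (iv F212491)) (tt N14452 (iv F211362)) (tt N10374 F179258) (tt N14710 (iv F212507)) (tt N14711 D47481) (tt N10373 (iv D42908)))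
theorem Q12471 : ∀ i, i < 12471 → P i := stepQ 12470 Q12470 (allL N12470 (tt N14074 (iv F209485)) (tt N10427 F203837) (tt N14638 (iv F212174)) (tt N14106 (iv F209653)) (tt N14708 (iv F212494)) (tt N10375 F179259) (tt N14711 (iv F212509)) (tt N12470 F179260) (tt N10374 (iv D42909)) (tt N12470 F179261))
theorem Q12472 : ∀ i, i < 12472 → P i := stepQ 12471 Q12471 (allL N12471 (tt N14665 (iv F212309)) (tt N10386 F179266) (tt N14679 (iv F212382)) (tt N14712 D47482) (tt N14454 (iv F211369)) (tt N12471 F179267) (tt N10377 F179268) (tt N11159 F179269) (tt N10376 (iv D42911)) (tt N14713 D47483))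
theorem Q12473 : ∀ i, i < 12473 → P i := stepQ 12472 Q12472 (allL N12472 (tt N11312 F204143) (tt N10387 F179270) (tt N14714 D47484) (tt N10377 (iv D42912)) (tt N14715 D47485) (tt N10380 F179271) (tt N14712 (iv F212514)) (tt N10378 F179272) (tt N10515 F179273) (tt N14716 D47486))
theorem Q12474 : ∀ i, i < 12474 → P i := stepQ 12473 Q12473 (allL N12473 (tt N14666 (iv F212315)) (tt N10388 F179274) (tt N14681 (iv F212388)) (tt N14716 (iv F212538)) (tt N14456 (iv F211380)) (tt N10381 F179275) (tt N14713 (iv F212520)) (tt N10379 F179276) (tt N10475 F179277) (tt N10377 (iv D42913)))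
theorem Q12475 : ∀ i, i < 12475 → P i := stepQ 12474 Q12474 (allL N12474 (tt N11135 F203603) (tt N14717 D47487) (tt N10378 (iv D42914)) (tt N14682 (iv F212393)) (tt N14718 D47488) (tt N10382 F179278) (tt N11162 F179279) (tt N14714 (iv F212526)) (tt N10516 F179280) (tt N14719 D47489))
theorem Q12476 : ∀ i, i < 12476 → P i := stepQ 12475 Q12475 (allL N12475 (tt N11310 F204161) (tt N10390 F179281) (tt N14718 (iv F212551)) (tt N14458 (iv F211389)) (tt N10378 (iv D42915)) (tt N11646 F204162) (tt N11163 F179282) (tt N14715 (iv F212534)) (tt N10517 F179283) (tt N14720 D47490))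
theorem Q12477 : ∀ i, i < 12477 → P i := stepQ 12476 Q12476 (allL N12476 (tt N11313 F204164) (tt N10391 F179284) (tt N14719 (iv F212557)) (tt N10379 F179285) (tt N14720 (iv F212563)) (tt N10383 F179286) (tt N11164 F179287) (tt N14716 (iv F212540)) (tt N11342 F204165) (tt N10378 (iv D42916)))
theorem Q12478 : ∀ i, i < 12478 → P i := stepQ 12477 Q12477 (allL N12477 (tt N11136 F203604) (tt N11633 (iv F206788)) (tt N10380 (iv D42917)) (tt N14685 (iv F212402)) (tt N11625 F203605) (tt N14714 (iv F212525)) (tt N12477 F179288) (tt N10382 F179289) (tt N10518 F179290) (tt N14721 D47491))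
theorem Q12479 : ∀ i, i < 12479 → P i := stepQ 12478 Q12478 (allL N12478 (tt N11314 F204150) (tt N10393 F179291) (tt N14721 (iv F212569)) (tt N10381 F179292) (tt N11648 F204151) (tt N14716 (iv F212539)) (tt N12478 F179293) (tt N10383 F179294) (tt N11343 F204152) (tt N10380 (iv D42918)))
theorem Q12480 : ∀ i, i < 12480 → P i := stepQ 12479 Q12479 (allL N12479 (tt N11606 (iv F206795)) (tt N10382 (iv D42919)) (tt N10394 F179295) (tt N14688 (iv F212416)) (tt N11600 (iv F202551)) (tt N14717 (iv F212544)) (tt N10384 F179296) (tt N11633 F206794) (tt N10519 F179297) (tt N14722 D47492))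
theorem Q12481 : ∀ i, i < 12481 → P i := stepQ 12480 Q12480 (allL N12480 (tt N11138 F203608) (tt N14722 (iv F212575)) (tt N10383 F179298) (tt N14690 (iv F212430)) (tt N11626 F203609) (tt N14719 (iv F212558)) (tt N10385 F179299) (tt N14721 (iv F212572)) (tt N11200 F203610) (tt N10382 (iv D42920)))
theorem Q12482 : ∀ i, i < 12482 → P i := stepQ 12481 Q12481 (allL N12481 (tt N11609 F206777) (tt N10385 F179308) (tt N10398 F179309) (tt N14694 (iv F212440)) (tt N11602 (iv F202569)) (tt N11170 F179310) (tt N14722 (iv F212578)) (tt N12481 F179311) (tt N11193 F203073) (tt N10384 (iv D42923)))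
theorem Q12483 : ∀ i, i < 12483 → P i := stepQ 12482 Q12482 (allL N12482 (tt N12482 F179316) (tt N14712 (iv F212512)) (tt N11330 F204443) (tt N10386 (iv D42925)) (tt N11329 F204444) (tt N12482 F179317) (tt N10387 F179318) (tt N11171 F179319) (tt N10520 F179320) (tt N14723 D47493))
theorem Q12484 : ∀ i, i < 12484 → P i := stepQ 12483 Q12483 (allL N12483 (tt N12483 F179321) (tt N14713 (iv F212518)) (tt N14041 (iv F209281)) (tt N14723 (iv F212583)) (tt N14467 (iv F211421)) (tt N12483 F179322) (tt N10388 F179323) (tt N11172 F179324) (tt N10488 F179325) (tt N10386 (iv D42926)))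
theorem Q12485 : ∀ i, i < 12485 → P i := stepQ 12484 Q12484 (allL N12484 (tt N12484 F179326) (tt N11340 F204279) (tt N10387 (iv D42927)) (tt N14042 (iv F209289)) (tt N10526 F204175) (tt N10392 F179327) (tt N11330 F204176) (tt N10389 F179328) (tt N10522 F179329) (tt N14724 D47494))
theorem Q12486 : ∀ i, i < 12486 → P i := stepQ 12485 Q12485 (allL N12485 (tt N12485 F179330) (tt N14715 (iv F212530)) (tt N10526 F204168) (tt N14468 (iv F211428)) (tt N10387 (iv D42928)) (tt N10529 F204169) (tt N11329 F204170) (tt N10390 F179331) (tt N10523 F179332) (tt N14725 D47495))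
theorem Q12487 : ∀ i, i < 12487 → P i := stepQ 12486 Q12486 (allL N12486 (tt N12486 F179333) (tt N14716 (iv F212537)) (tt N14724 (iv F212591)) (tt N10388 F179334) (tt N14725 (iv F212599)) (tt N10393 F179335) (tt N14723 (iv F212586)) (tt N10391 F179336) (tt N14726 D47496) (tt N10387 (iv D42929)))
theorem Q12488 : ∀ i, i < 12488 → P i := stepQ 12487 Q12487 (allL N12487 (tt N11351 F203875) (tt N10389 (iv D42930)) (tt N14717 (iv F212543)) (tt N14044 (iv F209302)) (tt N11341 F203876) (tt N10394 F179337) (tt N11176 F179338) (tt N11340 F203877) (tt N10525 F179339) (tt N14727 D47497))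
theorem Q12489 : ∀ i, i < 12489 → P i := stepQ 12488 Q12488 (allL N12488 (tt N12488 F179340) (tt N11341 F204139) (tt N10390 F179341) (tt N10588 F204273) (tt N10389 (iv D42931)) (tt N10527 F204274) (tt N11177 F179342) (tt N10526 F204275) (tt N10524 F204276) (tt N14726 (iv F212612)))
theorem Q12490 : ∀ i, i < 12490 → P i := stepQ 12489 Q12489 (allL N12489 (tt N12489 F179344) (tt N14727 (iv F212614)) (tt N10391 F179345) (tt N14046 (iv F209317)) (tt N14726 (iv F212608)) (tt N10395 F179346) (tt N11178 F179347) (tt N14724 (iv F212595)) (tt N14725 (iv F212603)) (tt N10389 (iv D42932)))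
theorem Q12491 : ∀ i, i < 12491 → P i := stepQ 12490 Q12490 (allL N12490 (tt N12490 F179348) (tt N14720 (iv F212562)) (tt N14726 (iv F212606)) (tt N14473 (iv F211458)) (tt N10391 F179349) (tt N14640 (iv F212187)) (tt N11179 F179350) (tt N14725 (iv F212602)) (tt N14724 (iv F212596)) (tt N10390 (iv D42933)))
theorem Q12492 : ∀ i, i < 12492 → P i := stepQ 12491 Q12491 (allL N12491 (tt N12491 F179351) (tt N11342 F204284) (tt N14725 (iv F212598)) (tt N10496 F179352) (tt N14724 (iv F212592)) (tt N10396 F179353) (tt N11180 F179354) (tt N14726 (iv F212611)) (tt N10391 (iv D42934)) (tt N10526 F179355))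
theorem Q12493 : ∀ i, i < 12493 → P i := stepQ 12492 Q12492 (allL N12492 (tt N12492 F179359) (tt N11661 (iv F206767)) (tt N10393 F179360) (tt N14049 (iv F209334)) (tt N11658 F206765) (tt N14724 (iv F212593)) (tt N12492 F179361) (tt N10395 F179362) (tt N14640 (iv F212190)) (tt N10392 (iv D42936)))
theorem Q12494 : ∀ i, i < 12494 → P i := stepQ 12493 Q12493 (allL N12493 (tt N12493 F179363) (tt N11343 F204140) (tt N14640 (iv F212185)) (tt N10499 F179364) (tt N11659 F204141) (tt N14726 (iv F212609)) (tt N12493 F179365) (tt N10396 F179366) (tt N10393 (iv D42937)) (tt N10527 F179367))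
theorem Q12495 : ∀ i, i < 12495 → P i := stepQ 12494 Q12494 (allL N12494 (tt N11664 (iv F206769)) (tt N10395 F179371) (tt N14722 (iv F212576)) (tt N14051 (iv F209346)) (tt N11662 (iv F206770)) (tt N14727 (iv F212616)) (tt N10398 F179372) (tt N11661 F206768) (tt N14728 D47498) (tt N10394 (iv D42939)))
theorem Q12496 : ∀ i, i < 12496 → P i := stepQ 12495 Q12495 (allL N12495 (tt N12495 F179373) (tt N14728 (iv F212620)) (tt N10396 F179374) (tt N14729 D47499) (tt N11657 F204171) (tt N14725 (iv F212600)) (tt N10399 F179375) (tt N14640 (iv F212189)) (tt N10395 (iv D42940)) (tt N10529 F179376))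
theorem Q12497 : ∀ i, i < 12497 → P i := stepQ 12496 Q12496 (allL N12496 (tt N10398 F179377) (tt N12496 F179378) (tt N11609 (iv F206775)) (tt N14053 (iv F209357)) (tt N11608 F206774) (tt N11187 F179379) (tt N11664 (iv F206776)) (tt N12496 F179380) (tt N14629 (iv F212124)) (tt N10397 (iv D42941)))
theorem Q12498 : ∀ i, i < 12498 → P i := stepQ 12497 Q12497 (allL N12497 (tt N14629 (iv F212116)) (tt N10399 F179381) (tt N11193 F203850) (tt N14627 (iv F212106)) (tt N11632 (iv F203403)) (tt N11188 F179382) (tt N14728 (iv F212623)) (tt N12497 F179383) (tt N10398 (iv D42942)) (tt N10531 F179384))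
theorem Q12499 : ∀ i, i < 12499 → P i := stepQ 12498 Q12498 (allL N12498 (tt N12498 F179385) (tt N14627 (iv F212104)) (tt N10505 F179386) (tt N10399 (iv D42943)) (tt N14623 (iv F212084)) (tt N11189 F179387) (tt N14729 (iv F212628)) (tt N12498 F179388) (tt N14055 (iv F209371)) (tt N10532 F179389))
theorem Q12500 : ∀ i, i < 12500 → P i := stepQ 12499 Q12499 (allL N12499 (tt N14056 (iv F209373)) (tt N10409 F179399) (tt N11328 F203851) (tt N10402 F179400) (tt N14730 D47500) (tt N10400 (iv D42946)) (tt N11190 F179401) (tt N14731 D47501) (tt N14732 D47502) (tt N11318 F203852))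
theorem Q12501 : ∀ i, i < 12501 → P i := stepQ 12500 Q12500 (allL N12500 (tt N14057 (iv F209380)) (tt N10410 F179402) (tt N11332 F203853) (tt N10403 F179403) (tt N12500 F179404) (tt N14731 (iv F212642)) (tt N12500 F179405) (tt N10400 (iv D42947)) (tt N14733 D47503) (tt N11320 F203854))
theorem Q12502 : ∀ i, i < 12502 → P i := stepQ 12501 Q12501 (allL N12501 (tt N14058 (iv F209387)) (tt N10411 F179406) (tt N11335 F203855) (tt N14734 D47504) (tt N12501 F179407) (tt N14732 (iv F212647)) (tt N10401 F179408) (tt N14733 (iv F212653)) (tt N10400 (iv D42948)) (tt N14735 D47505))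
theorem Q12503 : ∀ i, i < 12503 → P i := stepQ 12502 Q12502 (allL N12502 (tt N14059 (iv F209392)) (tt N10412 F179409) (tt N14067 (iv F209440)) (tt N10401 (iv D42949)) (tt N14066 F209437) (tt N11139 F203845) (tt N14734 (iv F212655)) (tt N12502 F179411) (tt N10405 F179412) (tt N14736 D47506))
theorem Q12504 : ∀ i, i < 12504 → P i := stepQ 12503 Q12503 (allL N12503 (tt N14060 (iv F209399)) (tt N10413 F179413) (tt N11188 F203856) (tt N14736 (iv F212663)) (tt N12503 F179414) (tt N11193 F179415) (tt N14735 (iv F212660)) (tt N12503 F179416) (tt N11170 F203857) (tt N10401 (iv D42950)))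
theorem Q12505 : ∀ i, i < 12505 → P i := stepQ 12504 Q12504 (allL N12504 (tt N14061 (iv F209406)) (tt N10414 F179417) (tt N12504 F179418) (tt N14731 (iv F212640)) (tt N14490 (iv F211544)) (tt N10403 F179419) (tt N14737 D47507) (tt N10402 (iv D42951)) (tt N14738 D47508) (tt N14641 (iv F212196)))
theorem Q12506 : ∀ i, i < 12506 → P i := stepQ 12505 Q12505 (allL N12505 (tt N14062 (iv F209411)) (tt N10415 F179420) (tt N12505 F179421) (tt N14739 D47509) (tt N14491 (iv F211548)) (tt N10404 F179422) (tt N11157 F203626) (tt N14738 (iv F212674)) (tt N10402 (iv D42952)) (tt N14740 D47510))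
theorem Q12507 : ∀ i, i < 12507 → P i := stepQ 12506 Q12506 (allL N12506 (tt N14063 (iv F209416)) (tt N10416 F179424) (tt N12506 F179425) (tt N14741 D47511) (tt N10407 F179426) (tt N14738 (iv F212673)) (tt N12506 F179427) (tt N10404 F179428) (tt N10403 (iv D42953)) (tt N14742 D47512))
theorem Q12508 : ∀ i, i < 12508 → P i := stepQ 12507 Q12507 (allL N12507 (tt N14064 (iv F209422)) (tt N10417 F179429) (tt N14743 D47513) (tt N10404 (iv D42954)) (tt N14697 (iv F212458)) (tt N14739 (iv F212676)) (tt N10405 F179430) (tt N14741 (iv F212684)) (tt N14734 (iv F212656)) (tt N14744 D47514))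
theorem Q12509 : ∀ i, i < 12509 → P i := stepQ 12508 Q12508 (allL N12508 (tt N14065 (iv F209425)) (tt N10418 F179431) (tt N12508 F179432) (tt N14744 (iv F212693)) (tt N10408 F179433) (tt N14740 (iv F212680)) (tt N10406 F179434) (tt N14742 (iv F212689)) (tt N14645 (iv F212217)) (tt N10404 (iv D42955)))
theorem Q12510 : ∀ i, i < 12510 → P i := stepQ 12509 Q12509 (allL N12509 (tt N14066 (iv F209431)) (tt N14083 (iv F209533)) (tt N10405 (iv D42956)) (tt N12509 F179435) (tt N14059 F209398) (tt N11151 F203844) (tt N14743 (iv F212691)) (tt N12509 F179437) (tt N14067 (iv F209444)) (tt N14745 D47515))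
theorem Q12511 : ∀ i, i < 12511 → P i := stepQ 12510 Q12510 (allL N12510 (tt N14068 (iv F209445)) (tt N10421 F179441) (tt N14745 (iv F212695)) (tt N10406 F179442) (tt N14698 (iv F212461)) (tt N11153 F203838) (tt N14744 (iv F212694)) (tt N12510 F179444) (tt N14746 D47516) (tt N10405 (iv D42958)))
theorem Q12512 : ∀ i, i < 12512 → P i := stepQ 12511 Q12511 (allL N12511 (tt N14069 (iv F209450)) (tt N10423 F179449) (tt N12511 F179450) (tt N14710 (iv F212504)) (tt N14742 (iv F212687)) (tt N14497 (iv F211574)) (tt N12511 F179451) (tt N10408 F179452) (tt N14648 (iv F212235)) (tt N10407 (iv D42960)))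
theorem Q12513 : ∀ i, i < 12513 → P i := stepQ 12512 Q12512 (allL N12512 (tt N10438 F179510) (tt N14730 (iv F212631)) (tt N10533 F179511) (tt N14498 (iv F211580)) (tt N10409 (iv D42976)) (tt N12512 F179512) (tt N11195 F179513) (tt N14747 D47517) (tt N14748 D47518) (tt N11319 F204111))
theorem Q12514 : ∀ i, i < 12514 → P i := stepQ 12513 Q12513 (allL N12513 (tt N10439 F179514) (tt N14731 (iv F212638)) (tt N10534 F179515) (tt N10414 F179516) (tt N14747 (iv F212705)) (tt N10410 F179517) (tt N14749 D47519) (tt N10409 (iv D42977)) (tt N14750 D47520) (tt N11316 F204112))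
theorem Q12515 : ∀ i, i < 12515 → P i := stepQ 12514 Q12514 (allL N12514 (tt N10440 F179518) (tt N14732 (iv F212645)) (tt N10535 F179519) (tt N14751 D47521) (tt N14748 (iv F212711)) (tt N10411 F179520) (tt N11197 F179521) (tt N14750 (iv F212725)) (tt N10409 (iv D42978)) (tt N14752 D47522))
theorem Q12516 : ∀ i, i < 12516 → P i := stepQ 12515 Q12515 (allL N12515 (tt N10441 F179522) (tt N14733 (iv F212649)) (tt N10536 F179523) (tt N14753 D47523) (tt N12515 F179524) (tt N14750 (iv F212724)) (tt N12515 F179525) (tt N10411 F179526) (tt N10410 (iv D42979)) (tt N14754 D47524))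
theorem Q12517 : ∀ i, i < 12517 → P i := stepQ 12516 Q12516 (allL N12516 (tt N10442 F179527) (tt N14734 (iv F212654)) (tt N11384 F204196) (tt N10411 (iv D42980)) (tt N14755 D47525) (tt N14751 (iv F212728)) (tt N10412 F179528) (tt N14753 (iv F212739)) (tt N10417 F179529) (tt N14756 D47526))
theorem Q12518 : ∀ i, i < 12518 → P i := stepQ 12517 Q12517 (allL N12517 (tt N10443 F179530) (tt N14735 (iv F212657)) (tt N10537 F179531) (tt N14756 (iv F212754)) (tt N12517 F179532) (tt N14752 (iv F212733)) (tt N10413 F179533) (tt N14754 (iv F212745)) (tt N11168 F204197) (tt N10411 (iv D42981)))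
theorem Q12519 : ∀ i, i < 12519 → P i := stepQ 12518 Q12518 (allL N12518 (tt N10445 F179539) (tt N14066 (iv F209432)) (tt N11387 F204201) (tt N12518 F179540) (tt N10412 (iv D42983)) (tt N14005 (iv F209082)) (tt N14755 (iv F212750)) (tt N12518 F179541) (tt N10420 F179542) (tt N14757 D47527))
theorem Q12520 : ∀ i, i < 12520 → P i := stepQ 12519 Q12519 (allL N12519 (tt N10446 F179543) (tt N14736 (iv F212662)) (tt N11291 F204202) (tt N10413 F179544) (tt N14757 (iv F212759)) (tt N11201 F179545) (tt N14756 (iv F212755)) (tt N12519 F179546) (tt N14758 D47528) (tt N10412 (iv D42984)))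
theorem Q12521 : ∀ i, i < 12521 → P i := stepQ 12520 Q12520 (allL N12520 (tt N10447 F179547) (tt N14737 (iv F212666)) (tt N10428 F179548) (tt N14749 (iv F212717)) (tt N14507 (iv F211615)) (tt N12520 F179549) (tt N10414 (iv D42985)) (tt N11202 F179550) (tt N14759 D47529) (tt N14649 (iv F212241)))
theorem Q12522 : ∀ i, i < 12522 → P i := stepQ 12521 Q12521 (allL N12521 (tt N10448 F179551) (tt N14738 (iv F212671)) (tt N10429 F179552) (tt N14760 D47530) (tt N14508 (iv F211619)) (tt N10416 F179553) (tt N14759 (iv F212770)) (tt N10415 F179554) (tt N10414 (iv D42986)) (tt N14761 D47531))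
theorem Q12523 : ∀ i, i < 12523 → P i := stepQ 12522 Q12522 (allL N12522 (tt N10449 F179555) (tt N14739 (iv F212675)) (tt N14762 D47532) (tt N10415 (iv D42987)) (tt N14763 D47533) (tt N10417 F179556) (tt N11204 F179557) (tt N14760 (iv F212774)) (tt N14751 (iv F212730)) (tt N14764 D47534))
theorem Q12524 : ∀ i, i < 12524 → P i := stepQ 12523 Q12523 (allL N12523 (tt N10450 F179558) (tt N14740 (iv F212678)) (tt N10431 F179559) (tt N14764 (iv F212787)) (tt N14510 (iv F211627)) (tt N10418 F179560) (tt N11205 F179561) (tt N14761 (iv F212778)) (tt N14652 (iv F212255)) (tt N10415 (iv D42988)))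
theorem Q12525 : ∀ i, i < 12525 → P i := stepQ 12524 Q12524 (allL N12524 (tt N10451 F179562) (tt N14741 (iv F212682)) (tt N14765 D47535) (tt N10416 (iv D42989)) (tt N14766 D47536) (tt N14760 (iv F212773)) (tt N12524 F179563) (tt N10417 F179564) (tt N14753 (iv F212740)) (tt N14767 D47537))
theorem Q12526 : ∀ i, i < 12526 → P i := stepQ 12525 Q12525 (allL N12525 (tt N10452 F179565) (tt N14742 (iv F212685)) (tt N10433 F179566) (tt N14767 (iv F212801)) (tt N10423 F179567) (tt N14761 (iv F212777)) (tt N12525 F179568) (tt N10418 F179569) (tt N14654 (iv F212266)) (tt N10416 (iv D42990)))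
theorem Q12527 : ∀ i, i < 12527 → P i := stepQ 12526 Q12526 (allL N12526 (tt N10453 F179570) (tt N14768 D47538) (tt N10417 (iv D42991)) (tt N10434 F179571) (tt N14769 D47539) (tt N14762 (iv F212781)) (tt N10419 F179572) (tt N14765 (iv F212793)) (tt N11384 F204205) (tt N14770 D47540))
theorem Q12528 : ∀ i, i < 12528 → P i := stepQ 12527 Q12527 (allL N12527 (tt N10454 F179573) (tt N14697 (iv F212456)) (tt N14769 (iv F212809)) (tt N10424 F179574) (tt N10417 (iv D42992)) (tt N14771 D47541) (tt N10420 F179575) (tt N14766 (iv F212799)) (tt N14755 (iv F212751)) (tt N14772 D47542))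
theorem Q12529 : ∀ i, i < 12529 → P i := stepQ 12528 Q12528 (allL N12528 (tt N10455 F179576) (tt N14744 (iv F212692)) (tt N14770 (iv F212814)) (tt N10418 F179577) (tt N14772 (iv F212821)) (tt N14764 (iv F212788)) (tt N10421 F179578) (tt N14767 (iv F212803)) (tt N14773 D47543) (tt N10417 (iv D42993)))
theorem Q12530 : ∀ i, i < 12530 → P i := stepQ 12529 Q12529 (allL N12529 (tt N14126 (iv F209760)) (tt N10419 (iv D42994)) (tt N14083 (iv F209534)) (tt N10436 F179579) (tt N14082 F209531) (tt N11210 F179580) (tt N14768 (iv F212805)) (tt N12529 F179581) (tt N11386 F204203) (tt N14774 D47544))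
theorem Q12531 : ∀ i, i < 12531 → P i := stepQ 12530 Q12530 (allL N12530 (tt N10457 F179582) (tt N14082 (iv F209526)) (tt N10420 F179583) (tt N12530 F179584) (tt N10419 (iv D42995)) (tt N14017 (iv F209144)) (tt N14769 (iv F212811)) (tt N12530 F179585) (tt N11387 F204204) (tt N14775 D47545))
theorem Q12532 : ∀ i, i < 12532 → P i := stepQ 12531 Q12531 (allL N12531 (tt N10458 F179586) (tt N14774 (iv F212825)) (tt N10421 F179587) (tt N10437 F179588) (tt N14775 (iv F212832)) (tt N11211 F179589) (tt N14770 (iv F212816)) (tt N12531 F179590) (tt N14776 D47546) (tt N10419 (iv D42996)))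
theorem Q12533 : ∀ i, i < 12533 → P i := stepQ 12532 Q12532 (allL N12532 (tt N10460 F179595) (tt N14698 (iv F212459)) (tt N14775 (iv F212830)) (tt N10426 F179596) (tt N10421 F179597) (tt N14019 (iv F209156)) (tt N14772 (iv F212822)) (tt N12532 F179598) (tt N14777 D47547) (tt N10420 (iv D42998)))
theorem Q12534 : ∀ i, i < 12534 → P i := stepQ 12533 Q12533 (allL N12533 (tt N10461 F179599) (tt N14746 (iv F212699)) (tt N14776 (iv F212835)) (tt N14658 (iv F212283)) (tt N14777 (iv F212841)) (tt N11212 F179600) (tt N14773 (iv F212824)) (tt N12533 F179601) (tt N10421 (iv D42999)) (tt N14758 (iv F212766)))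
theorem Q12535 : ∀ i, i < 12535 → P i := stepQ 12534 Q12534 (allL N12534 (tt N10462 F179602) (tt N14706 (iv F212485)) (tt N12534 F179603) (tt N14766 (iv F212797)) (tt N10422 (iv D43000)) (tt N14778 D47548) (tt N12534 F179604) (tt N10424 F179605) (tt N12534 F179606) (tt N14779 D47549))
theorem Q12536 : ∀ i, i < 12536 → P i := stepQ 12535 Q12535 (allL N12535 (tt N10463 F179607) (tt N14710 (iv F212502)) (tt N12535 F179608) (tt N10423 F179609) (tt N14779 (iv F212849)) (tt N14522 (iv F211669)) (tt N12535 F179610) (tt N10425 F179611) (tt N14780 D47550) (tt N10422 (iv D43001)))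
theorem Q12537 : ∀ i, i < 12537 → P i := stepQ 12536 Q12536 (allL N12536 (tt N10464 F179612) (tt N14703 (iv F212477)) (tt N12536 F179613) (tt N14771 (iv F212818)) (tt N14523 (iv F211674)) (tt N10424 (iv D43002)) (tt N14023 (iv F209178)) (tt N14778 (iv F212845)) (tt N12536 F179614) (tt N14781 D47551))
theorem Q12538 : ∀ i, i < 12538 → P i := stepQ 12537 Q12537 (allL N12537 (tt N10465 F179615) (tt N14707 (iv F212490)) (tt N12537 F179616) (tt N14772 (iv F212820)) (tt N10425 F179617) (tt N14781 (iv F212859)) (tt N10426 F179618) (tt N14779 (iv F212851)) (tt N14782 D47552) (tt N10424 (iv D43003)))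
theorem Q12539 : ∀ i, i < 12539 → P i := stepQ 12538 Q12538 (allL N12538 (tt N10466 F179619) (tt N14711 (iv F212508)) (tt N12538 F179620) (tt N14663 (iv F212302)) (tt N14782 (iv F212862)) (tt N14525 (iv F211682)) (tt N10427 F179621) (tt N14780 (iv F212855)) (tt N10425 (iv D43004)) (tt N12538 F179622))
theorem Q12540 : ∀ i, i < 12540 → P i := stepQ 12539 Q12539 (allL N12539 (tt N10469 F179632) (tt N14708 (iv F212493)) (tt N12539 F179633) (tt N14783 D47553) (tt N10427 F179634) (tt N14026 (iv F209195)) (tt N14782 (iv F212863)) (tt N12539 F179635) (tt N10426 (iv D43007)) (tt N12539 F179636))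
theorem Q12541 : ∀ i, i < 12541 → P i := stepQ 12540 Q12540 (allL N12540 (tt N10473 F179655) (tt N12540 F179656) (tt N14759 (iv F212768)) (tt N14784 D47554) (tt N14527 (iv F211691)) (tt N12540 F179657) (tt N10429 F179658) (tt N11213 F179659) (tt N10428 (iv D43012)) (tt N14785 D47555))
theorem Q12542 : ∀ i, i < 12542 → P i := stepQ 12541 Q12541 (allL N12541 (tt N10474 F179660) (tt N12541 F179661) (tt N14786 D47556) (tt N10429 (iv D43013)) (tt N14787 D47557) (tt N10432 F179662) (tt N14784 (iv F212871)) (tt N10430 F179663) (tt N10540 F179664) (tt N14788 D47558))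
theorem Q12543 : ∀ i, i < 12543 → P i := stepQ 12542 Q12542 (allL N12542 (tt N10475 F179665) (tt N12542 F179666) (tt N14761 (iv F212776)) (tt N14788 (iv F212891)) (tt N14529 (iv F211701)) (tt N10433 F179667) (tt N14785 (iv F212877)) (tt N10431 F179668) (tt N14666 (iv F212320)) (tt N10429 (iv D43014)))
theorem Q12544 : ∀ i, i < 12544 → P i := stepQ 12543 Q12543 (allL N12543 (tt N10476 F179669) (tt N14789 D47559) (tt N10430 (iv D43015)) (tt N14762 (iv F212780)) (tt N14790 D47560) (tt N10434 F179670) (tt N11216 F179671) (tt N14786 (iv F212881)) (tt N10541 F179672) (tt N14791 D47561))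
theorem Q12545 : ∀ i, i < 12545 → P i := stepQ 12544 Q12544 (allL N12544 (tt N10477 F179673) (tt N12544 F179674) (tt N14790 (iv F212901)) (tt N14531 (iv F211710)) (tt N10430 (iv D43016)) (tt N12544 F179675) (tt N11217 F179676) (tt N14787 (iv F212887)) (tt N10542 F179677) (tt N14792 D47562))
theorem Q12546 : ∀ i, i < 12546 → P i := stepQ 12545 Q12545 (allL N12545 (tt N10478 F179678) (tt N12545 F179679) (tt N14791 (iv F212906)) (tt N10431 F179680) (tt N14792 (iv F212912)) (tt N10435 F179681) (tt N11218 F179682) (tt N14788 (iv F212893)) (tt N11359 F204391) (tt N10430 (iv D43017)))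
theorem Q12547 : ∀ i, i < 12547 → P i := stepQ 12546 Q12546 (allL N12546 (tt N10479 F179683) (tt N11587 (iv F206675)) (tt N10432 (iv D43018)) (tt N14765 (iv F212791)) (tt N12546 F179684) (tt N14786 (iv F212880)) (tt N12546 F179685) (tt N10434 F179686) (tt N10543 F179687) (tt N14793 D47563))
theorem Q12548 : ∀ i, i < 12548 → P i := stepQ 12547 Q12547 (allL N12547 (tt N10480 F179688) (tt N12547 F179689) (tt N14793 (iv F212918)) (tt N10433 F179690) (tt N12547 F179691) (tt N14788 (iv F212892)) (tt N12547 F179692) (tt N10435 F179693) (tt N11361 F204459) (tt N10432 (iv D43019)))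
theorem Q12549 : ∀ i, i < 12549 → P i := stepQ 12548 Q12548 (allL N12548 (tt N14794 D47564) (tt N10434 (iv D43020)) (tt N12548 F179694) (tt N14768 (iv F212804)) (tt N12548 F179695) (tt N14789 (iv F212896)) (tt N10436 F179696) (tt N11587 F206676) (tt N10544 F179697) (tt N14795 D47565))
theorem Q12550 : ∀ i, i < 12550 → P i := stepQ 12549 Q12549 (allL N12549 (tt N10482 F179698) (tt N14795 (iv F212929)) (tt N10435 F179699) (tt N14770 (iv F212815)) (tt N12549 F179700) (tt N14791 (iv F212907)) (tt N10437 F179701) (tt N14793 (iv F212921)) (tt N11363 F204460) (tt N10434 (iv D43021)))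
theorem Q12551 : ∀ i, i < 12551 → P i := stepQ 12550 Q12550 (allL N12550 (tt N10436 (iv D43023)) (tt N10484 F179707) (tt N12550 F179708) (tt N14126 (iv F209765)) (tt N12550 F179709) (tt N11223 F179710) (tt N14794 (iv F212926)) (tt N12550 F179711) (tt N10545 F179712) (tt N14796 D47566))
theorem Q12552 : ∀ i, i < 12552 → P i := stepQ 12551 Q12551 (allL N12551 (tt N14796 (iv F212935)) (tt N10437 F179713) (tt N12551 F179714) (tt N14774 (iv F212826)) (tt N12551 F179715) (tt N11224 F179716) (tt N14795 (iv F212932)) (tt N12551 F179717) (tt N11365 F204461) (tt N10436 (iv D43024)))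
theorem Q12553 : ∀ i, i < 12553 → P i := stepQ 12552 Q12552 (allL N12552 (tt N14747 (iv F212702)) (tt N14114 (iv F209705)) (tt N10546 F179724) (tt N14541 (iv F211759)) (tt N10439 F179725) (tt N12552 F179726) (tt N14797 D47567) (tt N10438 (iv D43026)) (tt N14798 D47568) (tt N14667 (iv F212325)))
theorem Q12554 : ∀ i, i < 12554 → P i := stepQ 12553 Q12553 (allL N12553 (tt N14748 (iv F212709)) (tt N14115 (iv F209711)) (tt N10547 F179727) (tt N14799 D47569) (tt N10440 F179728) (tt N12553 F179729) (tt N11226 F179730) (tt N14798 (iv F212952)) (tt N10438 (iv D43027)) (tt N14800 D47570))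
theorem Q12555 : ∀ i, i < 12555 → P i := stepQ 12554 Q12554 (allL N12554 (tt N14749 (iv F212714)) (tt N14116 (iv F209716)) (tt N10548 F179731) (tt N10447 F179732) (tt N14797 (iv F212946)) (tt N12554 F179733) (tt N10439 (iv D43028)) (tt N11227 F179734) (tt N14801 D47571) (tt N14669 (iv F212336)))
theorem Q12556 : ∀ i, i < 12556 → P i := stepQ 12555 Q12555 (allL N12555 (tt N14750 (iv F212722)) (tt N14117 (iv F209722)) (tt N10549 F179735) (tt N14802 D47572) (tt N14798 (iv F212950)) (tt N10441 F179736) (tt N14801 (iv F212961)) (tt N10440 F179737) (tt N10439 (iv D43029)) (tt N14803 D47573))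
theorem Q12557 : ∀ i, i < 12557 → P i := stepQ 12556 Q12556 (allL N12556 (tt N14751 (iv F212726)) (tt N14118 (iv F209726)) (tt N14804 D47574) (tt N10440 (iv D43030)) (tt N14805 D47575) (tt N10442 F179738) (tt N11229 F179739) (tt N14802 (iv F212964)) (tt N10449 F179740) (tt N14806 D47576))
theorem Q12558 : ∀ i, i < 12558 → P i := stepQ 12557 Q12557 (allL N12557 (tt N14752 (iv F212731)) (tt N14119 (iv F209730)) (tt N10551 F179741) (tt N14806 (iv F212976)) (tt N14800 (iv F212956)) (tt N10443 F179742) (tt N11230 F179743) (tt N14803 (iv F212968)) (tt N14672 (iv F212350)) (tt N10440 (iv D43031)))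
theorem Q12559 : ∀ i, i < 12559 → P i := stepQ 12558 Q12558 (allL N12558 (tt N14753 (iv F212736)) (tt N14120 (iv F209734)) (tt N14807 D47577) (tt N10441 (iv D43032)) (tt N14808 D47578) (tt N14802 (iv F212963)) (tt N12558 F179744) (tt N10442 F179745) (tt N10451 F179746) (tt N14809 D47579))
theorem Q12560 : ∀ i, i < 12560 → P i := stepQ 12559 Q12559 (allL N12559 (tt N14754 (iv F212741)) (tt N14121 (iv F209738)) (tt N10553 F179747) (tt N14809 (iv F212988)) (tt N12559 F179748) (tt N14803 (iv F212967)) (tt N12559 F179749) (tt N10443 F179750) (tt N14674 (iv F212361)) (tt N10441 (iv D43033)))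
theorem Q12561 : ∀ i, i < 12561 → P i := stepQ 12560 Q12560 (allL N12560 (tt N11384 F204217) (tt N14810 D47580) (tt N10442 (iv D43034)) (tt N10554 F179751) (tt N14811 D47581) (tt N14804 (iv F212971)) (tt N10444 F179752) (tt N14807 (iv F212982)) (tt N10453 F179753) (tt N14812 D47582))
theorem Q12562 : ∀ i, i < 12562 → P i := stepQ 12561 Q12561 (allL N12561 (tt N14755 (iv F212747)) (tt N14123 (iv F209746)) (tt N14811 (iv F212995)) (tt N12561 F179754) (tt N10442 (iv D43035)) (tt N14813 D47583) (tt N10445 F179755) (tt N14808 (iv F212986)) (tt N10454 F179756) (tt N14814 D47584))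
theorem Q12563 : ∀ i, i < 12563 → P i := stepQ 12562 Q12562 (allL N12562 (tt N14756 (iv F212752)) (tt N14124 (iv F209750)) (tt N14812 (iv F213000)) (tt N10443 F179757) (tt N14814 (iv F213006)) (tt N14806 (iv F212977)) (tt N10446 F179758) (tt N14809 (iv F212990)) (tt N14815 D47585) (tt N10442 (iv D43036)))
theorem Q12564 : ∀ i, i < 12564 → P i := stepQ 12563 Q12563 (allL N12563 (tt N14147 (iv F209848)) (tt N10444 (iv D43037)) (tt N14125 (iv F209754)) (tt N10556 F179759) (tt N14146 F209847) (tt N11236 F179760) (tt N14810 (iv F212992)) (tt N12563 F179761) (tt N10456 F179762) (tt N14816 D47586))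
theorem Q12565 : ∀ i, i < 12565 → P i := stepQ 12564 Q12564 (allL N12564 (tt N11387 F204215) (tt N14146 (iv F209841)) (tt N10445 F179763) (tt N11586 F204216) (tt N10444 (iv D43038)) (tt N14817 D47587) (tt N14811 (iv F212997)) (tt N12564 F179764) (tt N10457 F179765) (tt N14818 D47588))
theorem Q12566 : ∀ i, i < 12566 → P i := stepQ 12565 Q12565 (allL N12565 (tt N11291 F204218) (tt N14816 (iv F213010)) (tt N10446 F179766) (tt N10557 F179767) (tt N14818 (iv F213024)) (tt N11238 F179768) (tt N14812 (iv F213002)) (tt N12565 F179769) (tt N14819 D47589) (tt N10444 (iv D43039)))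
theorem Q12567 : ∀ i, i < 12567 → P i := stepQ 12566 Q12566 (allL N12566 (tt N14005 (iv F209078)) (tt N14128 (iv F209772)) (tt N14817 (iv F213016)) (tt N12566 F179770) (tt N11239 F179771) (tt N10445 (iv D43040)) (tt N14820 D47590) (tt N12566 F179772) (tt N10459 F179773) (tt N14821 D47591))
theorem Q12568 : ∀ i, i < 12568 → P i := stepQ 12567 Q12567 (allL N12567 (tt N14757 (iv F212756)) (tt N14129 (iv F209778)) (tt N14818 (iv F213022)) (tt N12567 F179774) (tt N10446 F179775) (tt N14821 (iv F213037)) (tt N14814 (iv F213007)) (tt N12567 F179776) (tt N14822 D47592) (tt N10445 (iv D43041)))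
theorem Q12569 : ∀ i, i < 12569 → P i := stepQ 12568 Q12568 (allL N12568 (tt N14758 (iv F212761)) (tt N14130 (iv F209782)) (tt N14819 (iv F213027)) (tt N14678 (iv F212378)) (tt N14822 (iv F213039)) (tt N11241 F179777) (tt N14815 (iv F213008)) (tt N12568 F179778) (tt N10446 (iv D43042)) (tt N10461 F179779))
theorem Q12570 : ∀ i, i < 12570 → P i := stepQ 12569 Q12569 (allL N12569 (tt N14759 (iv F212767)) (tt N14131 (iv F209786)) (tt N10473 F179780) (tt N14823 D47593) (tt N14558 (iv F211817)) (tt N12569 F179781) (tt N10448 F179782) (tt N11242 F179783) (tt N10447 (iv D43043)) (tt N14824 D47594))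
theorem Q12571 : ∀ i, i < 12571 → P i := stepQ 12570 Q12570 (allL N12570 (tt N14760 (iv F212772)) (tt N14132 (iv F209791)) (tt N14825 D47595) (tt N10448 (iv D43044)) (tt N14826 D47596) (tt N10451 F179784) (tt N14823 (iv F213043)) (tt N10449 F179785) (tt N14802 (iv F212965)) (tt N14827 D47597))
theorem Q12572 : ∀ i, i < 12572 → P i := stepQ 12571 Q12571 (allL N12571 (tt N14761 (iv F212775)) (tt N14133 (iv F209794)) (tt N10475 F179786) (tt N14827 (iv F213053)) (tt N14560 (iv F211823)) (tt N10452 F179787) (tt N14824 (iv F213047)) (tt N10450 F179788) (tt N14681 (iv F212391)) (tt N10448 (iv D43045)))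
theorem Q12573 : ∀ i, i < 12573 → P i := stepQ 12572 Q12572 (allL N12572 (tt N14762 (iv F212779)) (tt N14828 D47598) (tt N10449 (iv D43046)) (tt N10476 F179789) (tt N14829 D47599) (tt N10453 F179790) (tt N11245 F179791) (tt N14825 (iv F213051)) (tt N14804 (iv F212973)) (tt N14830 D47600))
theorem Q12574 : ∀ i, i < 12574 → P i := stepQ 12573 Q12573 (allL N12573 (tt N14763 (iv F212784)) (tt N14135 (iv F209801)) (tt N14829 (iv F213059)) (tt N14562 (iv F211829)) (tt N10449 (iv D43047)) (tt N14831 D47601) (tt N11246 F179792) (tt N14826 (iv F213052)) (tt N14805 (iv F212975)) (tt N14832 D47602))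
theorem Q12575 : ∀ i, i < 12575 → P i := stepQ 12574 Q12574 (allL N12574 (tt N14764 (iv F212786)) (tt N14136 (iv F209803)) (tt N14830 (iv F213061)) (tt N10450 F179793) (tt N14832 (iv F213066)) (tt N10455 F179794) (tt N11247 F179795) (tt N14827 (iv F213055)) (tt N14833 D47603) (tt N10449 (iv D43048)))
theorem Q12576 : ∀ i, i < 12576 → P i := stepQ 12575 Q12575 (allL N12575 (tt N14765 (iv F212790)) (tt N14834 D47604) (tt N10451 (iv D43049)) (tt N10479 F179796) (tt N14835 D47605) (tt N14825 (iv F213050)) (tt N12575 F179797) (tt N10453 F179798) (tt N14807 (iv F212983)) (tt N14836 D47606))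
theorem Q12577 : ∀ i, i < 12577 → P i := stepQ 12576 Q12576 (allL N12576 (tt N14766 (iv F212796)) (tt N14138 (iv F209813)) (tt N14835 (iv F213073)) (tt N10462 F179799) (tt N10451 (iv D43050)) (tt N14837 D47607) (tt N12576 F179800) (tt N10454 F179801) (tt N14808 (iv F212987)) (tt N14838 D47608))
theorem Q12578 : ∀ i, i < 12578 → P i := stepQ 12577 Q12577 (allL N12577 (tt N14767 (iv F212800)) (tt N14139 (iv F209818)) (tt N14836 (iv F213077)) (tt N10452 F179802) (tt N14838 (iv F213084)) (tt N14827 (iv F213054)) (tt N12577 F179803) (tt N10455 F179804) (tt N14839 D47609) (tt N10451 (iv D43051)))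
theorem Q12579 : ∀ i, i < 12579 → P i := stepQ 12578 Q12578 (allL N12578 (tt N14840 D47610) (tt N10453 (iv D43052)) (tt N14140 (iv F209822)) (tt N10481 F179805) (tt N14841 D47611) (tt N14828 (iv F213057)) (tt N10456 F179806) (tt N14834 (iv F213072)) (tt N14810 (iv F212993)) (tt N14842 D47612))
theorem Q12580 : ∀ i, i < 12580 → P i := stepQ 12579 Q12579 (allL N12579 (tt N14769 (iv F212808)) (tt N14841 (iv F213091)) (tt N10454 F179807) (tt N12579 F179808) (tt N10453 (iv D43053)) (tt N14843 D47613) (tt N10457 F179809) (tt N14835 (iv F213076)) (tt N14811 (iv F212998)) (tt N14844 D47614))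
theorem Q12581 : ∀ i, i < 12581 → P i := stepQ 12580 Q12580 (allL N12580 (tt N14770 (iv F212813)) (tt N14842 (iv F213094)) (tt N10455 F179810) (tt N10482 F179811) (tt N14844 (iv F213101)) (tt N14830 (iv F213063)) (tt N10458 F179812) (tt N14836 (iv F213080)) (tt N14845 D47615) (tt N10453 (iv D43054)))
theorem Q12582 : ∀ i, i < 12582 → P i := stepQ 12581 Q12581 (allL N12581 (tt N14771 (iv F212817)) (tt N14143 (iv F209833)) (tt N14843 (iv F213097)) (tt N10464 F179813) (tt N14831 (iv F213065)) (tt N10454 (iv D43055)) (tt N14846 D47616) (tt N14837 (iv F213082)) (tt N14813 (iv F213004)) (tt N14847 D47617))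
theorem Q12583 : ∀ i, i < 12583 → P i := stepQ 12582 Q12582 (allL N12582 (tt N14772 (iv F212819)) (tt N14144 (iv F209835)) (tt N14844 (iv F213099)) (tt N10465 F179814) (tt N10455 F179815) (tt N14847 (iv F213108)) (tt N10460 F179816) (tt N14838 (iv F213086)) (tt N14848 D47618) (tt N10454 (iv D43056)))
theorem Q12584 : ∀ i, i < 12584 → P i := stepQ 12583 Q12583 (allL N12583 (tt N14773 (iv F212823)) (tt N14145 (iv F209839)) (tt N14845 (iv F213103)) (tt N14693 (iv F212436)) (tt N14848 (iv F213109)) (tt N14833 (iv F213068)) (tt N10461 F179817) (tt N14839 (iv F213088)) (tt N10455 (iv D43057)) (tt N14815 (iv F213009)))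
theorem Q12585 : ∀ i, i < 12585 → P i := stepQ 12584 Q12584 (allL N12584 (tt N10456 (iv D43058)) (tt N14126 (iv F209761)) (tt N14146 (iv F209842)) (tt N10484 F179818) (tt N14125 F209759) (tt N11257 F179819) (tt N14840 (iv F213090)) (tt N12584 F179820) (tt N14147 (iv F209853)) (tt N14849 D47619))
theorem Q12586 : ∀ i, i < 12586 → P i := stepQ 12585 Q12585 (allL N12585 (tt N14125 (iv F209753)) (tt N10457 F179821) (tt N14147 (iv F209850)) (tt N12585 F179822) (tt N10456 (iv D43059)) (tt N14850 D47620) (tt N14841 (iv F213093)) (tt N12585 F179823) (tt N14146 (iv F209846)) (tt N14851 D47621))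
theorem Q12587 : ∀ i, i < 12587 → P i := stepQ 12586 Q12586 (allL N12586 (tt N14849 (iv F213111)) (tt N10458 F179824) (tt N14148 (iv F209856)) (tt N10485 F179825) (tt N14851 (iv F213124)) (tt N11259 F179826) (tt N14842 (iv F213096)) (tt N12586 F179827) (tt N14852 D47622) (tt N10456 (iv D43060)))
theorem Q12588 : ∀ i, i < 12588 → P i := stepQ 12587 Q12587 (allL N12587 (tt N14017 (iv F209140)) (tt N14850 (iv F213116)) (tt N10459 F179828) (tt N12587 F179829) (tt N11260 F179830) (tt N10457 (iv D43061)) (tt N14853 D47623) (tt N12587 F179831) (tt N14817 (iv F213020)) (tt N14854 D47624))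
theorem Q12589 : ∀ i, i < 12589 → P i := stepQ 12588 Q12588 (allL N12588 (tt N14775 (iv F212829)) (tt N14851 (iv F213122)) (tt N10460 F179832) (tt N12588 F179833) (tt N10458 F179834) (tt N14854 (iv F213135)) (tt N14844 (iv F213102)) (tt N12588 F179835) (tt N14855 D47625) (tt N10457 (iv D43062)))
theorem Q12590 : ∀ i, i < 12590 → P i := stepQ 12589 Q12589 (allL N12589 (tt N14776 (iv F212834)) (tt N14852 (iv F213126)) (tt N10461 F179836) (tt N14856 D47626) (tt N14855 (iv F213138)) (tt N11262 F179837) (tt N14845 (iv F213104)) (tt N12589 F179838) (tt N10458 (iv D43063)) (tt N14819 (iv F213031)))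
theorem Q12591 : ∀ i, i < 12591 → P i := stepQ 12590 Q12590 (allL N12590 (tt N14014 (iv F209125)) (tt N14152 (iv F209875)) (tt N14853 (iv F213129)) (tt N10467 F179839) (tt N11263 F179840) (tt N14846 (iv F213106)) (tt N10459 (iv D43064)) (tt N14857 D47627) (tt N14820 (iv F213034)) (tt N14858 D47628))
theorem Q12592 : ∀ i, i < 12592 → P i := stepQ 12591 Q12591 (allL N12591 (tt N14019 (iv F209152)) (tt N14153 (iv F209878)) (tt N14854 (iv F213132)) (tt N10468 F179841) (tt N11264 F179842) (tt N10460 F179843) (tt N14858 (iv F213151)) (tt N12591 F179844) (tt N14859 D47629) (tt N10459 (iv D43065)))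
theorem Q12593 : ∀ i, i < 12593 → P i := stepQ 12592 Q12592 (allL N12592 (tt N14777 (iv F212840)) (tt N14154 (iv F209883)) (tt N14855 (iv F213137)) (tt N14860 D47630) (tt N10461 F179845) (tt N14859 (iv F213153)) (tt N14848 (iv F213110)) (tt N12592 F179846) (tt N10460 (iv D43066)) (tt N14822 (iv F213041)))
theorem Q12594 : ∀ i, i < 12594 → P i := stepQ 12593 Q12593 (allL N12593 (tt N14778 (iv F212843)) (tt N14155 (iv F209887)) (tt N12593 F179847) (tt N14837 (iv F213081)) (tt N14582 (iv F211888)) (tt N10462 (iv D43067)) (tt N14861 D47631) (tt N10464 F179848) (tt N12593 F179849) (tt N14862 D47632))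
theorem Q12595 : ∀ i, i < 12595 → P i := stepQ 12594 Q12594 (allL N12594 (tt N14779 (iv F212847)) (tt N14156 (iv F209893)) (tt N12594 F179850) (tt N14838 (iv F213083)) (tt N10463 F179851) (tt N14862 (iv F213161)) (tt N12594 F179852) (tt N10465 F179853) (tt N14863 D47633) (tt N10462 (iv D43068)))
theorem Q12596 : ∀ i, i < 12596 → P i := stepQ 12595 Q12595 (allL N12595 (tt N14780 (iv F212852)) (tt N14157 (iv F209899)) (tt N12595 F179854) (tt N14702 (iv F212473)) (tt N14863 (iv F213164)) (tt N14584 (iv F211898)) (tt N12595 F179855) (tt N10466 F179856) (tt N10463 (iv D43069)) (tt N12595 F179857))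
theorem Q12597 : ∀ i, i < 12597 → P i := stepQ 12596 Q12596 (allL N12596 (tt N14023 (iv F209175)) (tt N14158 (iv F209905)) (tt N12596 F179858) (tt N14846 (iv F213105)) (tt N14585 (iv F211903)) (tt N10467 F179859) (tt N10464 (iv D43070)) (tt N14864 D47634) (tt N12596 F179860) (tt N14865 D47635))
theorem Q12598 : ∀ i, i < 12598 → P i := stepQ 12597 Q12597 (allL N12597 (tt N14781 (iv F212857)) (tt N14159 (iv F209908)) (tt N12597 F179861) (tt N14847 (iv F213107)) (tt N14586 (iv F211907)) (tt N10465 F179862) (tt N14865 (iv F213173)) (tt N14862 (iv F213162)) (tt N14866 D47636) (tt N10464 (iv D43071)))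
theorem Q12599 : ∀ i, i < 12599 → P i := stepQ 12598 Q12598 (allL N12598 (tt N14782 (iv F212860)) (tt N14160 (iv F209910)) (tt N12598 F179863) (tt N14867 D47637) (tt N10466 F179864) (tt N14866 (iv F213175)) (tt N10469 F179865) (tt N14863 (iv F213166)) (tt N10465 (iv D43072)) (tt N12598 F179866))
theorem Q12600 : ∀ i, i < 12600 → P i := stepQ 12599 Q12599 (allL N12599 (tt N14021 (iv F209163)) (tt N14161 (iv F209914)) (tt N12599 F179867) (tt N14857 (iv F213146)) (tt N10470 F179868) (tt N14864 (iv F213169)) (tt N12599 F179869) (tt N10467 (iv D43073)) (tt N12599 F179870) (tt N14868 D47638))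
theorem Q12601 : ∀ i, i < 12601 → P i := stepQ 12600 Q12600 (allL N12600 (tt N14024 (iv F209180)) (tt N14162 (iv F209918)) (tt N12600 F179871) (tt N14858 (iv F213149)) (tt N10471 F179872) (tt N14865 (iv F213172)) (tt N10468 F179873) (tt N14868 (iv F213182)) (tt N14869 D47639) (tt N10467 (iv D43074)))
theorem Q12602 : ∀ i, i < 12602 → P i := stepQ 12601 Q12601 (allL N12601 (tt N14026 (iv F209191)) (tt N14163 (iv F209921)) (tt N12601 F179874) (tt N14870 D47640) (tt N10472 F179875) (tt N10469 F179876) (tt N14869 (iv F213185)) (tt N12601 F179877) (tt N10468 (iv D43075)) (tt N12601 F179878))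
theorem Q12603 : ∀ i, i < 12603 → P i := stepQ 12602 Q12602 (allL N12602 (tt N14783 (iv F212865)) (tt N14164 (iv F209926)) (tt N14871 D47641) (tt N10469 (iv D43076)) (tt N14709 (iv F212498)) (tt N14870 (iv F213187)) (tt N14867 (iv F213177)) (tt N12602 F179879) (tt N14860 (iv F213156)) (tt N12602 F179880))
theorem Q12604 : ∀ i, i < 12604 → P i := stepQ 12603 Q12603 (allL N12603 (tt N14022 (iv F209169)) (tt N14165 (iv F209929)) (tt N12603 F179881) (tt N11272 F179882) (tt N14868 (iv F213180)) (tt N14592 (iv F211926)) (tt N12603 F179883) (tt N10471 F179884) (tt N14872 D47642) (tt N10470 (iv D43077)))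
theorem Q12605 : ∀ i, i < 12605 → P i := stepQ 12604 Q12604 (allL N12604 (tt N14025 (iv F209185)) (tt N14166 (iv F209933)) (tt N12604 F179885) (tt N14100 (iv F209621)) (tt N14869 (iv F213184)) (tt N14593 (iv F211932)) (tt N10472 F179886) (tt N14872 (iv F213197)) (tt N10471 (iv D43078)) (tt N12604 F179887))
theorem Q12606 : ∀ i, i < 12606 → P i := stepQ 12605 Q12605 (allL N12605 (tt N14784 (iv F212868)) (tt N10487 F179896) (tt N14873 D47643) (tt N10473 (iv D43081)) (tt N14874 D47644) (tt N12605 F179897) (tt N10474 F179898) (tt N11273 F179899) (tt N10565 F179900) (tt N14875 D47645))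
theorem Q12607 : ∀ i, i < 12607 → P i := stepQ 12606 Q12606 (allL N12606 (tt N14785 (iv F212874)) (tt N10488 F179901) (tt N14824 (iv F213045)) (tt N14875 (iv F213209)) (tt N14594 (iv F211937)) (tt N12606 F179902) (tt N10475 F179903) (tt N11274 F179904) (tt N14713 (iv F212522)) (tt N10473 (iv D43082)))
theorem Q12608 : ∀ i, i < 12608 → P i := stepQ 12607 Q12607 (allL N12607 (tt N14786 (iv F212879)) (tt N14876 D47646) (tt N10474 (iv D43083)) (tt N14825 (iv F213049)) (tt N14877 D47647) (tt N10479 F179905) (tt N14873 (iv F213200)) (tt N10476 F179906) (tt N10567 F179907) (tt N14878 D47648))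
theorem Q12609 : ∀ i, i < 12609 → P i := stepQ 12608 Q12608 (allL N12608 (tt N14787 (iv F212884)) (tt N10490 F179908) (tt N14877 (iv F213217)) (tt N14596 (iv F211945)) (tt N10474 (iv D43084)) (tt N12608 F179909) (tt N14874 (iv F213204)) (tt N10477 F179910) (tt N10568 F179911) (tt N14879 D47649))
theorem Q12610 : ∀ i, i < 12610 → P i := stepQ 12609 Q12609 (allL N12609 (tt N14788 (iv F212889)) (tt N10491 F179912) (tt N14878 (iv F213221)) (tt N10475 F179913) (tt N14879 (iv F213225)) (tt N10480 F179914) (tt N14875 (iv F213211)) (tt N10478 F179915) (tt N14880 D47650) (tt N10474 (iv D43085)))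
theorem Q12611 : ∀ i, i < 12611 → P i := stepQ 12610 Q12610 (allL N12610 (tt N14881 D47651) (tt N10476 (iv D43086)) (tt N10492 F179916) (tt N14828 (iv F213056)) (tt N14882 D47652) (tt N10481 F179917) (tt N11278 F179918) (tt N14876 (iv F213215)) (tt N10570 F179919) (tt N14883 D47653))
theorem Q12612 : ∀ i, i < 12612 → P i := stepQ 12611 Q12611 (allL N12611 (tt N14790 (iv F212900)) (tt N14882 (iv F213238)) (tt N10477 F179920) (tt N14884 D47654) (tt N10476 (iv D43087)) (tt N12611 F179921) (tt N11279 F179922) (tt N14877 (iv F213219)) (tt N10571 F179923) (tt N14885 D47655))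
theorem Q12613 : ∀ i, i < 12613 → P i := stepQ 12612 Q12612 (allL N12612 (tt N14791 (iv F212905)) (tt N14883 (iv F213243)) (tt N10478 F179924) (tt N14830 (iv F213062)) (tt N14885 (iv F213250)) (tt N10482 F179925) (tt N11280 F179926) (tt N14878 (iv F213223)) (tt N14886 D47656) (tt N10476 (iv D43088)))
theorem Q12614 : ∀ i, i < 12614 → P i := stepQ 12613 Q12613 (allL N12613 (tt N14792 (iv F212910)) (tt N10495 F179927) (tt N14885 (iv F213249)) (tt N14601 (iv F211966)) (tt N10478 F179928) (tt N12613 F179929) (tt N11281 F179930) (tt N14879 (iv F213227)) (tt N14887 D47657) (tt N10477 (iv D43089)))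
theorem Q12615 : ∀ i, i < 12615 → P i := stepQ 12614 Q12614 (allL N12614 (tt N11359 F204412) (tt N10496 F179931) (tt N14886 (iv F213254)) (tt N11342 F204413) (tt N14887 (iv F213260)) (tt N10483 F179932) (tt N11282 F179933) (tt N14880 (iv F213232)) (tt N10478 (iv D43090)) (tt N10574 F179934))
theorem Q12616 : ∀ i, i < 12616 → P i := stepQ 12615 Q12615 (allL N12615 (tt N14888 D47658) (tt N10479 (iv D43091)) (tt N10497 F179935) (tt N14834 (iv F213070)) (tt N12615 F179936) (tt N14876 (iv F213214)) (tt N12615 F179937) (tt N10481 F179938) (tt N10575 F179939) (tt N14889 D47659))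
theorem Q12617 : ∀ i, i < 12617 → P i := stepQ 12616 Q12616 (allL N12616 (tt N14793 (iv F212916)) (tt N14889 (iv F213270)) (tt N10480 F179940) (tt N14836 (iv F213078)) (tt N12616 F179941) (tt N14878 (iv F213222)) (tt N12616 F179942) (tt N10482 F179943) (tt N14890 D47660) (tt N10479 (iv D43092)))
theorem Q12618 : ∀ i, i < 12618 → P i := stepQ 12617 Q12617 (allL N12617 (tt N11361 F204148) (tt N10499 F179944) (tt N14890 (iv F213276)) (tt N11343 F204149) (tt N12617 F179945) (tt N14880 (iv F213231)) (tt N12617 F179946) (tt N10483 F179947) (tt N10480 (iv D43093)) (tt N10577 F179948))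
theorem Q12619 : ∀ i, i < 12619 → P i := stepQ 12618 Q12618 (allL N12618 (tt N10481 (iv D43094)) (tt N14794 (iv F212923)) (tt N10500 F179949) (tt N14840 (iv F213089)) (tt N12618 F179950) (tt N14881 (iv F213235)) (tt N10484 F179951) (tt N14888 (iv F213268)) (tt N10578 F179952) (tt N14891 D47661))
theorem Q12620 : ∀ i, i < 12620 → P i := stepQ 12619 Q12619 (allL N12619 (tt N14891 (iv F213281)) (tt N10482 F179953) (tt N10501 F179954) (tt N14842 (iv F213095)) (tt N12619 F179955) (tt N14883 (iv F213245)) (tt N10485 F179956) (tt N14889 (iv F213274)) (tt N14892 D47662) (tt N10481 (iv D43095)))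
theorem Q12621 : ∀ i, i < 12621 → P i := stepQ 12620 Q12620 (allL N12620 (tt N11363 F204414) (tt N14892 (iv F213285)) (tt N10483 F179957) (tt N14893 D47663) (tt N12620 F179958) (tt N14886 (iv F213255)) (tt N10486 F179959) (tt N14890 (iv F213279)) (tt N10482 (iv D43096)) (tt N10580 F179960))
theorem Q12622 : ∀ i, i < 12622 → P i := stepQ 12621 Q12621 (allL N12621 (tt N10485 F179961) (tt N14796 (iv F212936)) (tt N10503 F179962) (tt N14849 (iv F213112)) (tt N12621 F179963) (tt N11289 F179964) (tt N14891 (iv F213284)) (tt N12621 F179965) (tt N14894 D47664) (tt N10484 (iv D43097)))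
theorem Q12623 : ∀ i, i < 12623 → P i := stepQ 12622 Q12622 (allL N12622 (tt N14894 (iv F213294)) (tt N10486 F179966) (tt N10504 F179967) (tt N14895 D47665) (tt N12622 F179968) (tt N11290 F179969) (tt N14892 (iv F213288)) (tt N12622 F179970) (tt N10485 (iv D43098)) (tt N10582 F179971))
theorem Q12624 : ∀ i, i < 12624 → P i := stepQ 12623 Q12623 (allL N12623 (tt N11238 F204212) (tt N14895 (iv F213301)) (tt N11201 F204213) (tt N10486 (iv D43099)) (tt N14896 D47666) (tt N11291 F179972) (tt N14893 (iv F213292)) (tt N12623 F179973) (tt N14856 (iv F213144)) (tt N10583 F179974))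
theorem Q12625 : ∀ i, i < 12625 → P i := stepQ 12624 Q12624 (allL N12624 (tt N12624 F179975) (tt N14897 D47667) (tt N10487 (iv D43100)) (tt N14045 (iv F209310)) (tt N10588 F204579) (tt N12624 F179976) (tt N10489 F179977) (tt N10593 F204580) (tt N10584 F179979) (tt N14898 D47668))
theorem Q12626 : ∀ i, i < 12626 → P i := stepQ 12625 Q12625 (allL N12625 (tt N12625 F179980) (tt N14874 (iv F213203)) (tt N10588 F204665) (tt N14471 (iv F211446)) (tt N10487 (iv D43101)) (tt N10596 F204666) (tt N10490 F179981) (tt N10592 F204667) (tt N10585 F179983) (tt N14899 D47669))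
theorem Q12627 : ∀ i, i < 12627 → P i := stepQ 12626 Q12626 (allL N12626 (tt N12626 F179984) (tt N14875 (iv F213208)) (tt N14898 (iv F213317)) (tt N10488 F179985) (tt N14899 (iv F213325)) (tt N12626 F179986) (tt N10491 F179987) (tt N11292 F179988) (tt N14900 D47670) (tt N10487 (iv D43102)))
theorem Q12628 : ∀ i, i < 12628 → P i := stepQ 12627 Q12627 (allL N12627 (tt N14901 D47671) (tt N10489 (iv D43103)) (tt N14876 (iv F213213)) (tt N14184 (iv F210016)) (tt N14902 D47672) (tt N10497 F179989) (tt N14897 (iv F213312)) (tt N10492 F179990) (tt N10587 F179991) (tt N14903 D47673))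
theorem Q12629 : ∀ i, i < 12629 → P i := stepQ 12628 Q12628 (allL N12628 (tt N12628 F179992) (tt N14902 (iv F213345)) (tt N10490 F179993) (tt N11177 F206559) (tt N10489 (iv D43104)) (tt N12628 F179994) (tt N10588 F204674) (tt N10493 F179995) (tt N10586 F204675) (tt N14900 (iv F213337)))
theorem Q12630 : ∀ i, i < 12630 → P i := stepQ 12629 Q12629 (allL N12629 (tt N12629 F179997) (tt N14903 (iv F213351)) (tt N10491 F179998) (tt N14185 (iv F210023)) (tt N14900 (iv F213333)) (tt N10498 F179999) (tt N14898 (iv F213320)) (tt N10494 F180000) (tt N14899 (iv F213329)) (tt N10489 (iv D43105)))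
theorem Q12631 : ∀ i, i < 12631 → P i := stepQ 12630 Q12630 (allL N12630 (tt N12630 F180001) (tt N14879 (iv F213224)) (tt N14900 (iv F213331)) (tt N14611 (iv F212011)) (tt N10491 F180002) (tt N12630 F180003) (tt N14899 (iv F213327)) (tt N10495 F180004) (tt N14898 (iv F213322)) (tt N10490 (iv D43106)))
theorem Q12632 : ∀ i, i < 12632 → P i := stepQ 12631 Q12631 (allL N12631 (tt N12631 F180005) (tt N14880 (iv F213229)) (tt N14899 (iv F213324)) (tt N14726 (iv F212607)) (tt N14898 (iv F213318)) (tt N10499 F180006) (tt N14900 (iv F213335)) (tt N10496 F180007) (tt N10491 (iv D43107)) (tt N10588 F180008))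
theorem Q12633 : ∀ i, i < 12633 → P i := stepQ 12632 Q12632 (allL N12632 (tt N10492 (iv D43108)) (tt N12632 F180009) (tt N14881 (iv F213234)) (tt N14187 (iv F210033)) (tt N14904 D47674) (tt N10500 F180010) (tt N11297 F180011) (tt N14901 (iv F213341)) (tt N10589 F180012) (tt N14905 D47675))
theorem Q12634 : ∀ i, i < 12634 → P i := stepQ 12633 Q12633 (allL N12633 (tt N14904 (iv F213354)) (tt N10493 F180013) (tt N14882 (iv F213239)) (tt N14906 D47676) (tt N10492 (iv D43109)) (tt N12633 F180014) (tt N11298 F180015) (tt N14902 (iv F213349)) (tt N10590 F180016) (tt N14907 D47677))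
theorem Q12635 : ∀ i, i < 12635 → P i := stepQ 12634 Q12634 (allL N12634 (tt N14905 (iv F213361)) (tt N10494 F180017) (tt N14883 (iv F213244)) (tt N14189 (iv F210044)) (tt N14907 (iv F213373)) (tt N10501 F180018) (tt N11299 F180019) (tt N14903 (iv F213353)) (tt N14908 D47678) (tt N10492 (iv D43110)))
theorem Q12636 : ∀ i, i < 12636 → P i := stepQ 12635 Q12635 (allL N12635 (tt N12635 F180020) (tt N14906 (iv F213366)) (tt N11174 F204676) (tt N10493 (iv D43111)) (tt N11173 F204677) (tt N12635 F180021) (tt N11300 F180022) (tt N11177 F204678) (tt N11324 F204679) (tt N14909 D47679))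
theorem Q12637 : ∀ i, i < 12637 → P i := stepQ 12636 Q12636 (allL N12636 (tt N12636 F180023) (tt N14907 (iv F213372)) (tt N10495 F180024) (tt N14909 (iv F213384)) (tt N10494 F180025) (tt N12636 F180026) (tt N11296 (iv F204741)) (tt N14900 (iv F213336)) (tt N11292 F204680) (tt N10493 (iv D43112)))
theorem Q12638 : ∀ i, i < 12638 → P i := stepQ 12637 Q12637 (allL N12637 (tt N12637 F180028) (tt N14908 (iv F213377)) (tt N10496 F180029) (tt N14910 D47680) (tt N11292 F204669) (tt N10502 F180030) (tt N11295 (iv F204731)) (tt N14899 (iv F213328)) (tt N10494 (iv D43113)) (tt N10592 F180032))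
theorem Q12639 : ∀ i, i < 12639 → P i := stepQ 12638 Q12638 (allL N12638 (tt N12638 F180033) (tt N14887 (iv F213259)) (tt N11292 F204583) (tt N14911 D47681) (tt N10496 F180034) (tt N12638 F180035) (tt N11294 (iv F204624)) (tt N14898 (iv F213321)) (tt N10495 (iv D43114)) (tt N10593 F180037))
theorem Q12640 : ∀ i, i < 12640 → P i := stepQ 12639 Q12639 (allL N12639 (tt N10497 (iv D43115)) (tt N12639 F180038) (tt N14888 (iv F213265)) (tt N14193 (iv F210067)) (tt N12639 F180039) (tt N14901 (iv F213339)) (tt N12639 F180040) (tt N10500 F180041) (tt N10594 F180042) (tt N14912 D47682))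
theorem Q12641 : ∀ i, i < 12641 → P i := stepQ 12640 Q12640 (allL N12640 (tt N14912 (iv F213400)) (tt N10498 F180043) (tt N14889 (iv F213271)) (tt N14194 (iv F210072)) (tt N12640 F180044) (tt N14903 (iv F213352)) (tt N12640 F180045) (tt N10501 F180046) (tt N14913 D47683) (tt N10497 (iv D43116)))
theorem Q12642 : ∀ i, i < 12642 → P i := stepQ 12641 Q12641 (allL N12641 (tt N12641 F180047) (tt N14913 (iv F213405)) (tt N10499 F180048) (tt N14914 D47684) (tt N12641 F180049) (tt N14899 (iv F213326)) (tt N12641 F180050) (tt N10502 F180051) (tt N10498 (iv D43117)) (tt N10596 F180052))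
theorem Q12643 : ∀ i, i < 12643 → P i := stepQ 12642 Q12642 (allL N12642 (tt N10501 F180053) (tt N12642 F180054) (tt N14891 (iv F213282)) (tt N14196 (iv F210082)) (tt N12642 F180055) (tt N14905 (iv F213363)) (tt N10503 F180056) (tt N14912 (iv F213404)) (tt N14915 D47685) (tt N10500 (iv D43118)))
theorem Q12644 : ∀ i, i < 12644 → P i := stepQ 12643 Q12643 (allL N12643 (tt N14915 (iv F213414)) (tt N10502 F180057) (tt N14892 (iv F213286)) (tt N14916 D47686) (tt N12643 F180058) (tt N14908 (iv F213379)) (tt N10504 F180059) (tt N14913 (iv F213408)) (tt N10501 (iv D43119)) (tt N10598 F180060))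
theorem Q12645 : ∀ i, i < 12645 → P i := stepQ 12644 Q12644 (allL N12644 (tt N12644 F180061) (tt N14916 (iv F213419)) (tt N14729 (iv F212627)) (tt N10502 (iv D43120)) (tt N14917 D47687) (tt N14910 (iv F213392)) (tt N10505 F180062) (tt N14914 (iv F213412)) (tt N14198 (iv F210089)) (tt N10599 F180063))
theorem Q12646 : ∀ i, i < 12646 → P i := stepQ 12645 Q12645 (allL N12645 (tt N10504 F180064) (tt N12645 F180065) (tt N14894 (iv F213296)) (tt N13822 (iv F207925)) (tt N12645 F180066) (tt N11306 F180067) (tt N14915 (iv F213417)) (tt N12645 F180068) (tt N10503 (iv D43121)) (tt N10600 F180069))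
theorem Q12647 : ∀ i, i < 12647 → P i := stepQ 12646 Q12646 (allL N12646 (tt N13822 (iv F207922)) (tt N10505 F180070) (tt N14102 (iv F209633)) (tt N10504 (iv D43122)) (tt N13815 (iv F207877)) (tt N11307 F180071) (tt N14916 (iv F213420)) (tt N12646 F180072) (tt N14200 (iv F210099)) (tt N10601 F180073))
theorem Q12648 : ∀ i, i < 12648 → P i := stepQ 12647 Q12647 (allL N12647 (tt N12647 F180074) (tt N13815 (iv F207874)) (tt N14623 (iv F212082)) (tt N12647 F180075) (tt N10505 (iv D43123)) (tt N13811 (iv F207848)) (tt N14917 (iv F213424)) (tt N12647 F180076) (tt N14201 (iv F210103)) (tt N10602 F180077))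
theorem Q12649 : ∀ i, i < 12649 → P i := stepQ 12648 Q12648 (allL N12648 (tt N11317 F204280) (tt N12648 F181347) (tt N14667 (iv F212322)) (tt N12648 F181348) (tt N10509 F181349) (tt N12648 F181350) (tt N14918 D47688) (tt N10508 (iv D43408)) (tt N14919 D47689) (tt N10546 F181351))
theorem Q12650 : ∀ i, i < 12650 → P i := stepQ 12649 Q12649 (allL N12649 (tt N11163 F204157) (tt N12649 F181352) (tt N14668 (iv F212327)) (tt N14920 D47690) (tt N10510 F181353) (tt N12649 F181354) (tt N11310 F181355) (tt N14919 (iv F213437)) (tt N10508 (iv D43409)) (tt N14921 D47691))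
theorem Q12651 : ∀ i, i < 12651 → P i := stepQ 12650 Q12650 (allL N12650 (tt N11315 F204281) (tt N12650 F181356) (tt N14669 (iv F212332)) (tt N10513 F181357) (tt N14918 (iv F213429)) (tt N12650 F181358) (tt N10509 (iv D43410)) (tt N11311 F181359) (tt N14922 D47692) (tt N10548 F181360))
theorem Q12652 : ∀ i, i < 12652 → P i := stepQ 12651 Q12651 (allL N12651 (tt N11160 F204131) (tt N12651 F181361) (tt N14670 (iv F212338)) (tt N11130 F204132) (tt N14919 (iv F213435)) (tt N10511 F181362) (tt N14922 (iv F213454)) (tt N10510 F181363) (tt N10509 (iv D43411)) (tt N14923 D47693))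
theorem Q12653 : ∀ i, i < 12653 → P i := stepQ 12652 Q12652 (allL N12652 (tt N11164 F204158) (tt N12652 F181368) (tt N14672 (iv F212347)) (tt N11131 F204159) (tt N14921 (iv F213446)) (tt N10512 F181369) (tt N11313 F181370) (tt N14923 (iv F213460)) (tt N10551 F181371) (tt N10510 (iv D43413)))
theorem Q12654 : ∀ i, i < 12654 → P i := stepQ 12653 Q12653 (allL N12653 (tt N11166 F204133) (tt N12653 F181376) (tt N14674 (iv F212357)) (tt N11132 F204134) (tt N12653 F181377) (tt N14923 (iv F213459)) (tt N12653 F181378) (tt N10512 F181379) (tt N10553 F181380) (tt N10511 (iv D43415)))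
theorem Q12655 : ∀ i, i < 12655 → P i := stepQ 12654 Q12654 (allL N12654 (tt N11311 F204142) (tt N10520 F181550) (tt N14730 (iv F212632)) (tt N10514 (iv D43461)) (tt N11328 F204296) (tt N12654 F181551) (tt N10515 F181552) (tt N11315 F181553) (tt N14712 (iv F212516)) (tt N11327 F204297))
theorem Q12656 : ∀ i, i < 12656 → P i := stepQ 12655 Q12655 (allL N12655 (tt N11134 F203598) (tt N11195 F203599) (tt N10515 (iv D43463)) (tt N11122 F203600) (tt N11190 F203601) (tt N10518 F181560) (tt N14730 (iv F212635)) (tt N10516 F181561) (tt N14714 (iv F212527)) (tt N11196 F203602))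
theorem Q12657 : ∀ i, i < 12657 → P i := stepQ 12656 Q12656 (allL N12656 (tt N11309 F203964) (tt N10523 F181562) (tt N11190 F203965) (tt N12656 F181563) (tt N10515 (iv D43464)) (tt N10528 F203966) (tt N11328 F203967) (tt N10517 F181564) (tt N14715 (iv F212535)) (tt N10525 F203968))
theorem Q12658 : ∀ i, i < 12658 → P i := stepQ 12657 Q12657 (allL N12657 (tt N11225 F203023) (tt N10516 (iv D43466)) (tt N10525 F181569) (tt N11120 F203024) (tt N11196 F203025) (tt N10519 F181570) (tt N11318 F181571) (tt N11195 F203026) (tt N14717 (iv F212547)) (tt N11190 F203027))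
theorem Q12659 : ∀ i, i < 12659 → P i := stepQ 12658 Q12658 (allL N12658 (tt N11133 F203590) (tt N11196 F203591) (tt N10517 F181572) (tt N11194 F203592) (tt N10516 (iv D43467)) (tt N11191 F203593) (tt N11319 F181573) (tt N11190 F203594) (tt N14718 (iv F212555)) (tt N11195 F203595))
theorem Q12660 : ∀ i, i < 12660 → P i := stepQ 12659 Q12659 (allL N12659 (tt N11649 (iv F206716)) (tt N10529 F181687) (tt N11192 F203623) (tt N14625 (iv F212095)) (tt N11630 (iv F203202)) (tt N14715 (iv F212532)) (tt N10531 F181688) (tt N11646 F206715) (tt N10528 (iv D43499)) (tt N14728 (iv F212625)))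
theorem Q12661 : ∀ i, i < 12661 → P i := stepQ 12660 Q12660 (allL N12660 (tt N12660 F181689) (tt N14625 (iv F212093)) (tt N10599 F181690) (tt N10529 (iv D43500)) (tt N14371 (iv F211022)) (tt N14468 (iv F211429)) (tt N10532 F181691) (tt N14374 (iv F211049)) (tt N12660 F181692) (tt N14729 (iv F212629)))
theorem Q12662 : ∀ i, i < 12662 → P i := stepQ 12661 Q12661 (allL N12661 (tt N10546 F181906) (tt N11322 F204445) (tt N14747 (iv F212704)) (tt N12661 F181907) (tt N10534 F181908) (tt N12661 F181909) (tt N11325 F204446) (tt N10533 (iv D43545)) (tt N14924 D47694) (tt N11317 F204404))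
theorem Q12663 : ∀ i, i < 12663 → P i := stepQ 12662 Q12662 (allL N12662 (tt N10547 F181910) (tt N11330 F204405) (tt N14748 (iv F212710)) (tt N14925 D47695) (tt N10535 F181911) (tt N12662 F181912) (tt N11340 F181913) (tt N14924 (iv F213467)) (tt N10533 (iv D43546)) (tt N14926 D47696))
theorem Q12664 : ∀ i, i < 12664 → P i := stepQ 12663 Q12663 (allL N12663 (tt N10548 F181914) (tt N11324 F204383) (tt N14749 (iv F212716)) (tt N10538 F181915) (tt N11325 F204292) (tt N12663 F181916) (tt N10534 (iv D43547)) (tt N11327 F204293) (tt N14906 (iv F213371)) (tt N11315 F204384))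
theorem Q12665 : ∀ i, i < 12665 → P i := stepQ 12664 Q12664 (allL N12664 (tt N10549 F181918) (tt N11300 (iv F204743)) (tt N14750 (iv F212723)) (tt N11298 F204712) (tt N14924 (iv F213464)) (tt N10536 F181919) (tt N14906 (iv F213369)) (tt N10535 F181920) (tt N10534 (iv D43548)) (tt N14927 D47697))
theorem Q12666 : ∀ i, i < 12666 → P i := stepQ 12665 Q12665 (allL N12665 (tt N10551 F181925) (tt N11180 F204266) (tt N14752 (iv F212732)) (tt N11282 F204267) (tt N14926 (iv F213478)) (tt N10537 F181926) (tt N11342 F181927) (tt N14927 (iv F213486)) (tt N11164 F204268) (tt N10535 (iv D43550)))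
theorem Q12667 : ∀ i, i < 12667 → P i := stepQ 12666 Q12666 (allL N12666 (tt N10553 F181932) (tt N11183 F204269) (tt N14754 (iv F212742)) (tt N11285 F204270) (tt N12666 F181933) (tt N14927 (iv F213485)) (tt N12666 F181934) (tt N10537 F181935) (tt N11166 F204271) (tt N10536 (iv D43552)))
theorem Q12668 : ∀ i, i < 12668 → P i := stepQ 12667 Q12667 (allL N12667 (tt N10565 F182079) (tt N12667 F182080) (tt N14928 D47698) (tt N10539 (iv D43588)) (tt N14929 D47699) (tt N12667 F182081) (tt N10540 F182082) (tt N11344 F182083) (tt N14784 (iv F212873)) (tt N11366 F204436))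
theorem Q12669 : ∀ i, i < 12669 → P i := stepQ 12668 Q12668 (allL N12668 (tt N10567 F182090) (tt N11378 F204697) (tt N10540 (iv D43590)) (tt N11376 F204496) (tt N14930 D47700) (tt N10543 F182091) (tt N14928 (iv F213491)) (tt N10541 F182092) (tt N14786 (iv F212882)) (tt N11367 F204497))
theorem Q12670 : ∀ i, i < 12670 → P i := stepQ 12669 Q12669 (allL N12669 (tt N10568 F182093) (tt N12669 F182094) (tt N14930 (iv F213504)) (tt N12669 F182095) (tt N10540 (iv D43591)) (tt N12669 F182096) (tt N14929 (iv F213498)) (tt N10542 F182097) (tt N14787 (iv F212888)) (tt N11368 F204498))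
theorem Q12671 : ∀ i, i < 12671 → P i := stepQ 12670 Q12670 (allL N12670 (tt N14931 D47701) (tt N10541 (iv D43593)) (tt N12670 F182103) (tt N11375 F204689) (tt N14932 D47702) (tt N10544 F182104) (tt N11347 F182105) (tt N11378 F204690) (tt N14789 (iv F212899)) (tt N11369 F204534))
theorem Q12672 : ∀ i, i < 12672 → P i := stepQ 12671 Q12671 (allL N12671 (tt N10571 F182106) (tt N14932 (iv F213516)) (tt N10542 F182107) (tt N14933 D47703) (tt N10541 (iv D43594)) (tt N12671 F182108) (tt N11348 F182109) (tt N14930 (iv F213507)) (tt N14790 (iv F212904)) (tt N11370 F204535))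
theorem Q12673 : ∀ i, i < 12673 → P i := stepQ 12672 Q12672 (allL N12672 (tt N10544 (iv D43601)) (tt N10578 F182138) (tt N12672 F182139) (tt N11382 F204539) (tt N12672 F182140) (tt N14931 (iv F213512)) (tt N10545 F182141) (tt N11581 (iv F206671)) (tt N14794 (iv F212928)) (tt N11372 F204540))
theorem Q12674 : ∀ i, i < 12674 → P i := stepQ 12673 Q12673 (allL N12673 (tt N11325 F204079) (tt N12673 F182164) (tt N14797 (iv F212944)) (tt N12673 F182165) (tt N10548 F182166) (tt N11331 F204080) (tt N10546 (iv D43607)) (tt N11326 F204081) (tt N14934 D47704) (tt N14918 (iv F213431)))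
theorem Q12675 : ∀ i, i < 12675 → P i := stepQ 12674 Q12674 (allL N12674 (tt N14924 (iv F213462)) (tt N12674 F182168) (tt N14798 (iv F212949)) (tt N14935 D47705) (tt N10549 F182169) (tt N12674 F182170) (tt N14934 (iv F213535)) (tt N10547 F182171) (tt N10546 (iv D43608)) (tt N14936 D47706))
theorem Q12676 : ∀ i, i < 12676 → P i := stepQ 12675 Q12675 (allL N12675 (tt N14925 (iv F213469)) (tt N12675 F182172) (tt N14937 D47707) (tt N10547 (iv D43609)) (tt N14938 D47708) (tt N12675 F182173) (tt N11352 F182174) (tt N14935 (iv F213541)) (tt N12675 F182175) (tt N14939 D47709))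
theorem Q12677 : ∀ i, i < 12677 → P i := stepQ 12676 Q12676 (allL N12676 (tt N14926 (iv F213476)) (tt N12676 F182176) (tt N14800 (iv F212955)) (tt N14939 (iv F213558)) (tt N10551 F182177) (tt N12676 F182178) (tt N11353 F182179) (tt N14936 (iv F213546)) (tt N14921 (iv F213449)) (tt N10547 (iv D43610)))
theorem Q12678 : ∀ i, i < 12678 → P i := stepQ 12677 Q12677 (allL N12677 (tt N14906 (iv F213365)) (tt N12677 F182180) (tt N14801 (iv F212959)) (tt N14904 F213360) (tt N14934 (iv F213533)) (tt N12677 F182181) (tt N10549 F182182) (tt N11354 F182183) (tt N10548 (iv D43611)) (tt N14940 D47710))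
theorem Q12679 : ∀ i, i < 12679 → P i := stepQ 12678 Q12678 (allL N12678 (tt N11298 F204707) (tt N12678 F182184) (tt N14941 D47711) (tt N10549 (iv D43612)) (tt N11297 F204708) (tt N10552 F182185) (tt N14904 (iv F213357)) (tt N10550 F182186) (tt N10559 F182187) (tt N14942 D47712))
theorem Q12680 : ∀ i, i < 12680 → P i := stepQ 12679 Q12679 (allL N12679 (tt N14927 (iv F213482)) (tt N12679 F182188) (tt N14803 (iv F212966)) (tt N14942 (iv F213572)) (tt N14936 (iv F213544)) (tt N10553 F182189) (tt N14940 (iv F213563)) (tt N10551 F182190) (tt N14923 (iv F213461)) (tt N10549 (iv D43613)))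
theorem Q12681 : ∀ i, i < 12681 → P i := stepQ 12680 Q12680 (allL N12680 (tt N11379 F204470) (tt N14943 D47713) (tt N10550 (iv D43614)) (tt N14804 (iv F212970)) (tt N14944 D47714) (tt N10554 F182191) (tt N11357 F182192) (tt N14941 (iv F213568)) (tt N10560 F182193) (tt N14945 D47715))
theorem Q12682 : ∀ i, i < 12682 → P i := stepQ 12681 Q12681 (allL N12681 (tt N11293 F204592) (tt N12681 F182194) (tt N14944 (iv F213582)) (tt N14938 (iv F213552)) (tt N10550 (iv D43615)) (tt N11301 (iv F204633)) (tt N11358 F182195) (tt N11297 F204593) (tt N10561 F182196) (tt N14946 D47716))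
theorem Q12683 : ∀ i, i < 12683 → P i := stepQ 12682 Q12682 (allL N12682 (tt N11282 F204398) (tt N12682 F182197) (tt N14945 (iv F213588)) (tt N10551 F182198) (tt N14946 (iv F213594)) (tt N10555 F182199) (tt N11359 F182200) (tt N14942 (iv F213575)) (tt N11218 F204399) (tt N10550 (iv D43616)))
theorem Q12684 : ∀ i, i < 12684 → P i := stepQ 12683 Q12683 (allL N12683 (tt N11381 F204440) (tt N14947 D47717) (tt N10552 (iv D43617)) (tt N14807 (iv F212980)) (tt N11566 (iv F204876)) (tt N14941 (iv F213567)) (tt N12683 F182201) (tt N10554 F182202) (tt N10562 F182203) (tt N14948 D47718))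
theorem Q12685 : ∀ i, i < 12685 → P i := stepQ 12684 Q12684 (allL N12684 (tt N11285 F204400) (tt N12684 F182209) (tt N14948 (iv F213606)) (tt N10553 F182210) (tt N11518 F204401) (tt N14942 (iv F213574)) (tt N12684 F182211) (tt N10555 F182212) (tt N11220 F204402) (tt N10552 (iv D43619)))
theorem Q12686 : ∀ i, i < 12686 → P i := stepQ 12685 Q12685 (allL N12685 (tt N14949 D47719) (tt N10554 (iv D43620)) (tt N12685 F182213) (tt N14810 (iv F212991)) (tt N11582 F204473) (tt N14943 (iv F213578)) (tt N10556 F182214) (tt N14947 (iv F213603)) (tt N10563 F182215) (tt N14950 D47720))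
theorem Q12687 : ∀ i, i < 12687 → P i := stepQ 12686 Q12686 (allL N12686 (tt N11288 F204394) (tt N14950 (iv F213617)) (tt N10555 F182219) (tt N14812 (iv F213001)) (tt N11521 F204395) (tt N14945 (iv F213589)) (tt N10557 F182220) (tt N14948 (iv F213609)) (tt N11222 F204396) (tt N10554 (iv D43622)))
theorem Q12688 : ∀ i, i < 12688 → P i := stepQ 12687 Q12687 (allL N12687 (tt N10556 (iv D43626)) (tt N11385 F204475) (tt N12687 F182232) (tt N14147 (iv F209851)) (tt N11584 F204476) (tt N11364 F182233) (tt N14949 (iv F213614)) (tt N12687 F182234) (tt N10564 F182235) (tt N14951 D47721))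
theorem Q12689 : ∀ i, i < 12689 → P i := stepQ 12688 Q12688 (allL N12688 (tt N14951 (iv F213622)) (tt N10557 F182241) (tt N12688 F182242) (tt N14816 (iv F213011)) (tt N11523 F204465) (tt N11365 F182243) (tt N14950 (iv F213620)) (tt N12688 F182244) (tt N11224 F204466) (tt N10556 (iv D43628)))
theorem Q12690 : ∀ i, i < 12690 → P i := stepQ 12689 Q12689 (allL N12689 (tt N10590 F204653) (tt N12689 F182262) (tt N14952 D47722) (tt N10558 (iv D43633)) (tt N10589 F204654) (tt N12689 F182263) (tt N10559 F182264) (tt N11366 F182265) (tt N14904 (iv F213359)) (tt N11344 F204434))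
theorem Q12691 : ∀ i, i < 12691 → P i := stepQ 12690 Q12690 (allL N12690 (tt N11376 F204428) (tt N14953 D47723) (tt N10559 (iv D43635)) (tt N10567 F182272) (tt N11377 F204696) (tt N10562 F182273) (tt N14952 (iv F213633)) (tt N10560 F182274) (tt N14941 (iv F213569)) (tt N11345 F204429))
theorem Q12692 : ∀ i, i < 12692 → P i := stepQ 12691 Q12691 (allL N12691 (tt N14954 D47724) (tt N10560 (iv D43638)) (tt N12691 F182282) (tt N10570 F182283) (tt N14955 D47725) (tt N10563 F182284) (tt N11369 F182285) (tt N14953 (iv F213641)) (tt N14943 (iv F213580)) (tt N11347 F204531))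
theorem Q12693 : ∀ i, i < 12693 → P i := stepQ 12692 Q12692 (allL N12692 (tt N11374 F204584) (tt N14955 (iv F213652)) (tt N10561 F182286) (tt N14956 D47726) (tt N10560 (iv D43639)) (tt N11380 (iv F204625)) (tt N11370 F182287) (tt N11377 F204585) (tt N14944 (iv F213586)) (tt N11348 F204538))
theorem Q12694 : ∀ i, i < 12694 → P i := stepQ 12693 Q12693 (allL N12693 (tt N11579 (iv F206667)) (tt N10562 (iv D43644)) (tt N12693 F182303) (tt N10575 F182304) (tt N11578 (iv F204873)) (tt N14953 (iv F213640)) (tt N12693 F182305) (tt N10563 F182306) (tt N14947 (iv F213604)) (tt N11349 F204438))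
theorem Q12695 : ∀ i, i < 12695 → P i := stepQ 12694 Q12694 (allL N12694 (tt N10563 (iv D43650)) (tt N11382 F204528) (tt N12694 F182326) (tt N10578 F182327) (tt N11577 (iv F204880)) (tt N14954 (iv F213646)) (tt N10564 F182328) (tt N11579 F206666) (tt N14949 (iv F213616)) (tt N11350 F204530))
theorem Q12696 : ∀ i, i < 12696 → P i := stepQ 12695 Q12695 (allL N12695 (tt N14928 (iv F213488)) (tt N14957 D47727) (tt N10565 (iv D43671)) (tt N14952 (iv F213630)) (tt N14958 D47728) (tt N12695 F182414) (tt N10567 F182415) (tt N11373 F182416) (tt N14873 (iv F213202)) (tt N14959 D47729))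
theorem Q12697 : ∀ i, i < 12697 → P i := stepQ 12696 Q12696 (allL N12696 (tt N14929 (iv F213495)) (tt N10585 F182417) (tt N14958 (iv F213673)) (tt N12696 F182418) (tt N10565 (iv D43672)) (tt N10595 F204648) (tt N10568 F182419) (tt N10591 F204649) (tt N14874 (iv F213206)) (tt N10587 F204650))
theorem Q12698 : ∀ i, i < 12698 → P i := stepQ 12697 Q12697 (allL N12697 (tt N11366 F204423) (tt N10586 F182421) (tt N14959 (iv F213681)) (tt N10566 F182422) (tt N10587 F204658) (tt N12697 F182423) (tt N10569 F182424) (tt N10590 F204659) (tt N14902 (iv F213350)) (tt N10565 (iv D43673)))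
theorem Q12699 : ∀ i, i < 12699 → P i := stepQ 12698 Q12698 (allL N12698 (tt N14960 D47730) (tt N10567 (iv D43674)) (tt N10587 F182426) (tt N14953 (iv F213638)) (tt N14959 (iv F213683)) (tt N10575 F182427) (tt N14957 (iv F213668)) (tt N10570 F182428) (tt N14876 (iv F213216)) (tt N14958 F213678))
theorem Q12700 : ∀ i, i < 12700 → P i := stepQ 12699 Q12699 (allL N12699 (tt N14930 (iv F213502)) (tt N14959 (iv F213680)) (tt N10568 F182429) (tt N14961 D47731) (tt N10567 (iv D43675)) (tt N12699 F182430) (tt N14958 (iv F213675)) (tt N10571 F182431) (tt N14877 (iv F213220)) (tt N14957 F213671))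
theorem Q12701 : ∀ i, i < 12701 → P i := stepQ 12700 Q12700 (allL N12700 (tt N11367 F204424) (tt N14958 (iv F213672)) (tt N10569 F182432) (tt N11345 F204425) (tt N14957 F213670) (tt N10576 F182433) (tt N14959 (iv F213685)) (tt N10572 F182434) (tt N14962 D47732) (tt N10567 (iv D43676)))
theorem Q12702 : ∀ i, i < 12702 → P i := stepQ 12701 Q12701 (allL N12701 (tt N11368 F204426) (tt N10584 (iv F204564)) (tt N14957 (iv F213666)) (tt N12701 F182436) (tt N10569 F182437) (tt N12701 F182438) (tt N10587 F204560) (tt N10573 F182439) (tt N14897 (iv F213314)) (tt N10568 (iv D43677)))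
theorem Q12703 : ∀ i, i < 12703 → P i := stepQ 12702 Q12702 (allL N12702 (tt N11355 F204146) (tt N10588 F182440) (tt N14962 (iv F213702)) (tt N11341 F204147) (tt N14897 (iv F213310)) (tt N10577 F182441) (tt N14902 (iv F213348)) (tt N10574 F182442) (tt N10569 (iv D43678)) (tt N14880 (iv F213233)))
theorem Q12704 : ∀ i, i < 12704 → P i := stepQ 12703 Q12703 (allL N12703 (tt N10570 (iv D43679)) (tt N14931 (iv F213509)) (tt N10589 F182443) (tt N14954 (iv F213645)) (tt N14952 (iv F213631)) (tt N10578 F182444) (tt N11377 F182445) (tt N14960 (iv F213693)) (tt N14881 (iv F213237)) (tt N14963 D47733))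
theorem Q12705 : ∀ i, i < 12705 → P i := stepQ 12704 Q12704 (allL N12704 (tt N14952 (iv F213629)) (tt N10571 F182446) (tt N10590 F182447) (tt N14928 (iv F213489)) (tt N10570 (iv D43680)) (tt N12704 F182448) (tt N11376 F204655) (tt N14959 (iv F213686)) (tt N14882 (iv F213242)) (tt N11373 F204656))
theorem Q12706 : ∀ i, i < 12706 → P i := stepQ 12705 Q12705 (allL N12705 (tt N14963 (iv F213705)) (tt N10572 F182450) (tt N10591 F182451) (tt N11347 F204527) (tt N11373 F204646) (tt N10579 F182452) (tt N11375 F204647) (tt N14958 (iv F213676)) (tt N14964 D47734) (tt N10570 (iv D43681)))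
theorem Q12707 : ∀ i, i < 12707 → P i := stepQ 12706 Q12706 (allL N12706 (tt N14933 (iv F213523)) (tt N14928 F213494) (tt N12706 F182454) (tt N10571 (iv D43682)) (tt N14956 (iv F213660)) (tt N12706 F182455) (tt N11378 F182456) (tt N14961 (iv F213700)) (tt N14965 D47735) (tt N14966 D47736))
theorem Q12708 : ∀ i, i < 12708 → P i := stepQ 12707 Q12707 (allL N12707 (tt N11370 F204532) (tt N11373 F204559) (tt N10573 F182457) (tt N14966 (iv F213723)) (tt N10572 F182458) (tt N12707 F182459) (tt N11374 (iv F204567)) (tt N14957 (iv F213669)) (tt N14967 D47737) (tt N10571 (iv D43683)))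
theorem Q12709 : ∀ i, i < 12709 → P i := stepQ 12708 Q12708 (allL N12708 (tt N11357 F204410) (tt N14964 (iv F213712)) (tt N10574 F182461) (tt N14968 D47738) (tt N14967 (iv F213730)) (tt N10580 F182462) (tt N11379 F182463) (tt N14962 (iv F213704)) (tt N10572 (iv D43684)) (tt N14886 (iv F213257)))
theorem Q12710 : ∀ i, i < 12710 → P i := stepQ 12709 Q12709 (allL N12709 (tt N11358 F204411) (tt N10593 F182464) (tt N14967 (iv F213729)) (tt N14969 D47739) (tt N10574 F182465) (tt N12709 F182466) (tt N11293 (iv F204570)) (tt N14897 (iv F213313)) (tt N10573 (iv D43685)) (tt N14887 (iv F213263)))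
theorem Q12711 : ∀ i, i < 12711 → P i := stepQ 12710 Q12710 (allL N12710 (tt N10575 (iv D43686)) (tt N11581 F206670) (tt N10594 F182468) (tt N11579 (iv F206668)) (tt N12710 F182469) (tt N14960 (iv F213691)) (tt N12710 F182470) (tt N10578 F182471) (tt N14888 (iv F213269)) (tt N14970 D47740))
theorem Q12712 : ∀ i, i < 12712 → P i := stepQ 12711 Q12711 (allL N12711 (tt N14970 (iv F213744)) (tt N10576 F182472) (tt N10595 F182473) (tt N11349 F204427) (tt N12711 F182474) (tt N14958 F213677) (tt N12711 F182475) (tt N10579 F182476) (tt N14971 D47741) (tt N10575 (iv D43687)))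
theorem Q12713 : ∀ i, i < 12713 → P i := stepQ 12712 Q12712 (allL N12712 (tt N11360 F204145) (tt N14971 (iv F213751)) (tt N10577 F182477) (tt N14972 D47742) (tt N12712 F182478) (tt N14962 (iv F213703)) (tt N12712 F182479) (tt N10580 F182480) (tt N10576 (iv D43688)) (tt N14890 (iv F213280)))
theorem Q12714 : ∀ i, i < 12714 → P i := stepQ 12713 Q12713 (allL N12713 (tt N10579 F182481) (tt N11372 F204525) (tt N10597 F182482) (tt N11350 F204526) (tt N12713 F182483) (tt N14963 (iv F213710)) (tt N10581 F182484) (tt N14970 (iv F213750)) (tt N14973 D47743) (tt N10578 (iv D43689)))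
theorem Q12715 : ∀ i, i < 12715 → P i := stepQ 12714 Q12714 (allL N12714 (tt N14973 (iv F213761)) (tt N10580 F182485) (tt N10598 F182486) (tt N14974 D47744) (tt N12714 F182487) (tt N14964 (iv F213715)) (tt N10582 F182488) (tt N14971 (iv F213755)) (tt N10579 (iv D43690)) (tt N14892 (iv F213289)))
theorem Q12716 : ∀ i, i < 12716 → P i := stepQ 12715 Q12715 (allL N12715 (tt N11233 F204209) (tt N14974 (iv F213766)) (tt N11199 F204210) (tt N10580 (iv D43691)) (tt N14975 D47745) (tt N14968 (iv F213735)) (tt N10583 F182489) (tt N14972 (iv F213759)) (tt N11208 F204211) (tt N14893 (iv F213293)))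
theorem Q12717 : ∀ i, i < 12717 → P i := stepQ 12716 Q12716 (allL N12716 (tt N10582 F182490) (tt N11364 F204469) (tt N10600 F182491) (tt N14149 (iv F209863)) (tt N12716 F182492) (tt N11385 F182493) (tt N14973 (iv F213765)) (tt N12716 F182494) (tt N10581 (iv D43692)) (tt N14894 (iv F213300)))
theorem Q12718 : ∀ i, i < 12718 → P i := stepQ 12717 Q12717 (allL N12717 (tt N14149 (iv F209860)) (tt N10583 F182495) (tt N14095 (iv F209595)) (tt N10582 (iv D43693)) (tt N14646 (iv F212221)) (tt N11386 F182496) (tt N14974 (iv F213767)) (tt N12717 F182497) (tt N11210 F204208) (tt N14895 (iv F213304)))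
theorem Q12719 : ∀ i, i < 12719 → P i := stepQ 12718 Q12718 (allL N12718 (tt N11237 F204015) (tt N14646 (iv F212219)) (tt N10761 F204016) (tt N12718 F182498) (tt N10583 (iv D43694)) (tt N14004 (iv F209074)) (tt N14975 (iv F213772)) (tt N12718 F182499) (tt N10768 F204017) (tt N14896 (iv F213309)))
theorem Q12720 : ∀ i, i < 12720 → P i := stepQ 12719 Q12719 (allL N12719 (tt N10587 (iv D43701)) (tt N12719 F182528) (tt N14960 (iv F213688)) (tt N12719 F182529) (tt N11366 F206677) (tt N10594 F182530) (tt N11368 F206678) (tt N10589 F182531) (tt N14901 (iv F213342)) (tt N14929 (iv F213500)))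
theorem Q12721 : ∀ i, i < 12721 → P i := stepQ 12720 Q12720 (allL N12720 (tt N10591 F182561) (tt N12720 F182562) (tt N14963 (iv F213707)) (tt N12720 F182563) (tt N11344 F204644) (tt N10597 F182564) (tt N11346 F204645) (tt N14929 (iv F213499)) (tt N14976 D47746) (tt N10589 (iv D43709)))
theorem Q12722 : ∀ i, i < 12722 → P i := stepQ 12721 Q12721 (allL N12721 (tt N14976 (iv F213774)) (tt N10592 F182574) (tt N14964 (iv F213713)) (tt N14977 D47747) (tt N11273 F204651) (tt N10598 F182575) (tt N11276 F204652) (tt N14874 (iv F213205)) (tt N10591 (iv D43712)) (tt N14908 (iv F213381)))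
theorem Q12723 : ∀ i, i < 12723 → P i := stepQ 12722 Q12722 (allL N12722 (tt N12722 F182593) (tt N14977 (iv F213779)) (tt N14468 (iv F211427)) (tt N10592 (iv D43716)) (tt N11101 F204668) (tt N10599 F182594) (tt N11104 (iv F204729)) (tt N14471 (iv F211449)) (tt N12722 F182596) (tt N14910 (iv F213394)))
theorem Q12724 : ∀ i, i < 12724 → P i := stepQ 12723 Q12723 (allL N12723 (tt N12723 F182597) (tt N14969 (iv F213739)) (tt N10877 F204582) (tt N10593 (iv D43717)) (tt N14042 (iv F209290)) (tt N12723 F182598) (tt N10879 (iv F204622)) (tt N14045 (iv F209313)) (tt N12723 F182600) (tt N14911 (iv F213399)))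
theorem Q12725 : ∀ i, i < 12725 → P i := stepQ 12724 Q12724 (allL N12724 (tt N10595 F182601) (tt N12724 F182602) (tt N14970 (iv F213746)) (tt N12724 F182603) (tt N12724 F182604) (tt N14929 F213501) (tt N12724 F182605) (tt N10597 F182606) (tt N14978 D47748) (tt N10594 (iv D43718)))
theorem Q12726 : ∀ i, i < 12726 → P i := stepQ 12725 Q12725 (allL N12725 (tt N14978 (iv F213784)) (tt N10596 F182607) (tt N14971 (iv F213752)) (tt N14979 D47749) (tt N12725 F182608) (tt N14874 F213207) (tt N12725 F182609) (tt N10598 F182610) (tt N10595 (iv D43719)) (tt N14913 (iv F213409)))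
theorem Q12727 : ∀ i, i < 12727 → P i := stepQ 12726 Q12726 (allL N12726 (tt N12726 F182611) (tt N14979 (iv F213789)) (tt N14374 (iv F211045)) (tt N10596 (iv D43720)) (tt N14373 F211042) (tt N14471 (iv F211447)) (tt N12726 F182612) (tt N10599 F182613) (tt N12726 F182614) (tt N14914 (iv F213413)))
theorem Q12728 : ∀ i, i < 12728 → P i := stepQ 12727 Q12727 (allL N12727 (tt N10598 F182615) (tt N12727 F182616) (tt N14973 (iv F213763)) (tt N13821 (iv F207919)) (tt N12727 F182617) (tt N14976 (iv F213777)) (tt N10600 F182618) (tt N14978 (iv F213788)) (tt N10597 (iv D43721)) (tt N14915 (iv F213418)))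
theorem Q12729 : ∀ i, i < 12729 → P i := stepQ 12728 Q12728 (allL N12728 (tt N13821 (iv F207916)) (tt N10599 F182619) (tt N14101 (iv F209628)) (tt N10598 (iv D43722)) (tt N13814 (iv F207871)) (tt N14977 (iv F213781)) (tt N10601 F182620) (tt N14979 (iv F213791)) (tt N12728 F182621) (tt N14916 (iv F213421)))
theorem Q12730 : ∀ i, i < 12730 → P i := stepQ 12729 Q12729 (allL N12729 (tt N12729 F182622) (tt N13814 (iv F207868)) (tt N14371 F211027) (tt N12729 F182623) (tt N10599 (iv D43723)) (tt N14376 (iv F211058)) (tt N10602 F182624) (tt N14373 (iv F211040)) (tt N12729 F182625) (tt N14917 (iv F213425)))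
theorem Q12731 : ∀ i, i < 12731 → P i := stepQ 12730 Q12730 (allL N12730 (tt N10660 F197054) (tt N12730 F183994) (tt N10672 F183995) (tt N14980 D47750) (tt N10647 F197055) (tt N13846 (iv F208083)) (tt N10704 F197056) (tt N10644 F197057) (tt N10607 (iv D44038)) (tt N13960 (iv F208840)))
theorem Q12732 : ∀ i, i < 12732 → P i := stepQ 12731 Q12731 (allL N12731 (tt N10614 F197072) (tt N12731 F183997) (tt N10610 F183998) (tt N10702 F197073) (tt N12731 F183999) (tt N10608 (iv D44039)) (tt N13847 (iv F208092)) (tt N10612 F197074) (tt N13853 (iv F208148)) (tt N10613 F184000))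
theorem Q12733 : ∀ i, i < 12733 → P i := stepQ 12732 Q12732 (allL N12732 (tt N11672 (iv F206514)) (tt N12732 F184009) (tt N13880 (iv F208340)) (tt N10609 (iv D44042)) (tt N12732 F206340) (tt N11444 (iv F206341)) (tt N13852 (iv F208138)) (tt N11669 F206339) (tt N14980 (iv F213799)) (tt N11443 (iv F206342)))
theorem Q12734 : ∀ i, i < 12734 → P i := stepQ 12733 Q12733 (allL N12733 (tt N13847 (iv F208087)) (tt N10620 F184315) (tt N11674 F206410) (tt N10728 F184316) (tt N12733 F184317) (tt N10618 F206166) (tt N10614 (iv D44127)) (tt N13849 (iv F208111)) (tt N13848 F208104) (tt N10615 F206167))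
theorem Q12735 : ∀ i, i < 12735 → P i := stepQ 12734 Q12734 (allL N12734 (tt N13853 (iv F208141)) (tt N10621 F184318) (tt N11670 (iv F206547)) (tt N13915 (iv F208539)) (tt N12734 F184319) (tt N10616 F184320) (tt N13848 (iv F208102)) (tt N10615 F184321) (tt N10614 (iv D44128)) (tt N13849 (iv F208112)))
theorem Q12736 : ∀ i, i < 12736 → P i := stepQ 12735 Q12735 (allL N12735 (tt N11675 (iv F206530)) (tt N10622 F184322) (tt N13944 (iv F208736)) (tt N10615 (iv D44129)) (tt N10771 F205888) (tt N10617 F184323) (tt N10680 F205889) (tt N13915 (iv F208542)) (tt N10730 F184324) (tt N10728 F205890))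
theorem Q12737 : ∀ i, i < 12737 → P i := stepQ 12736 Q12736 (allL N12736 (tt N13852 (iv F208132)) (tt N10623 F184328) (tt N13945 (iv F208743)) (tt N10616 (iv D44131)) (tt N12736 F184329) (tt N13915 (iv F208541)) (tt N11672 (iv F206516)) (tt N10617 F184330) (tt N10732 F184331) (tt N13850 (iv F208122)))
theorem Q12738 : ∀ i, i < 12738 → P i := stepQ 12737 Q12737 (allL N12737 (tt N13845 (iv F208069)) (tt N10625 F184338) (tt N11621 (iv F206414)) (tt N10618 F184339) (tt N12737 F184340) (tt N10728 F205960) (tt N10619 F184341) (tt N13850 (iv F208120)) (tt N13919 (iv F208571)) (tt N10617 (iv D44134)))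
theorem Q12739 : ∀ i, i < 12739 → P i := stepQ 12738 Q12738 (allL N12738 (tt N13846 (iv F208078)) (tt N10627 F184347) (tt N11619 (iv F206519)) (tt N13867 (iv F208242)) (tt N12738 F184348) (tt N10660 F205961) (tt N13919 (iv F208569)) (tt N10659 F205962) (tt N10619 (iv D44137)) (tt N10738 F184349))
theorem Q12740 : ∀ i, i < 12740 → P i := stepQ 12739 Q12739 (allL N12739 (tt N14484 (iv F211509)) (tt N10624 (iv D44146)) (tt N13933 (iv F208661)) (tt N12739 F184383) (tt N12739 F184384) (tt N11015 F206159) (tt N10626 F184385) (tt N14266 (iv F210483)) (tt N10747 F184386) (tt N10957 F206160))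
theorem Q12741 : ∀ i, i < 12741 → P i := stepQ 12740 Q12740 (allL N12740 (tt N10651 F197068) (tt N10909 F184686) (tt N10644 F197069) (tt N14981 D47751) (tt N10639 F197070) (tt N13855 (iv F208163)) (tt N10638 F197071) (tt N10672 F184688) (tt N10628 (iv D44210)) (tt N14982 D47752))
theorem Q12742 : ∀ i, i < 12742 → P i := stepQ 12741 Q12741 (allL N12741 (tt N10949 F201908) (tt N10912 F184702) (tt N13884 (iv F208366)) (tt N10630 (iv D44214)) (tt N10928 F201909) (tt N13859 (iv F208191)) (tt N13886 (iv F208379)) (tt N10676 F184703) (tt N14981 (iv F213806)) (tt N14983 D47753))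
theorem Q12743 : ∀ i, i < 12743 → P i := stepQ 12742 Q12742 (allL N12742 (tt N10954 F201910) (tt N10913 F184704) (tt N10633 F184705) (tt N14983 (iv F213816)) (tt N10632 F184706) (tt N13860 (iv F208197)) (tt N13895 (iv F208431)) (tt N10677 F184707) (tt N10653 F184708) (tt N10630 (iv D44215)))
theorem Q12744 : ∀ i, i < 12744 → P i := stepQ 12743 Q12743 (allL N12743 (tt N10952 F201734) (tt N10916 F184718) (tt N10634 F184719) (tt N10931 F201735) (tt N13895 (iv F208429)) (tt N12743 F184720) (tt N10632 F184721) (tt N11592 F206581) (tt N10654 F184722) (tt N10631 (iv D44218)))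
theorem Q12745 : ∀ i, i < 12745 → P i := stepQ 12744 Q12744 (allL N12744 (tt N10917 (iv F201469)) (tt N10638 F184818) (tt N12744 F184819) (tt N14984 D47754) (tt N10636 F184820) (tt N13872 (iv F208284)) (tt N10909 F197115) (tt N10690 F184821) (tt N10635 (iv D44245)) (tt N14985 D47755))
theorem Q12746 : ∀ i, i < 12746 → P i := stepQ 12745 Q12745 (allL N12745 (tt N10918 (iv F201471)) (tt N10641 F184839) (tt N12745 F184840) (tt N10901 F201347) (tt N14985 (iv F213828)) (tt N10637 F184841) (tt N11612 F206591) (tt N10692 F184842) (tt N10656 F201336) (tt N10636 (iv D44249)))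
theorem Q12747 : ∀ i, i < 12747 → P i := stepQ 12746 Q12746 (allL N12746 (tt N10652 F184876) (tt N14984 (iv F213820)) (tt N13882 (iv F208354)) (tt N10638 (iv D44258)) (tt N14986 D47756) (tt N13875 (iv F208306)) (tt N14981 (iv F213804)) (tt N10695 F184877) (tt N13886 (iv F208381)) (tt N14987 D47757))
theorem Q12748 : ∀ i, i < 12748 → P i := stepQ 12747 Q12747 (allL N12747 (tt N10653 F184878) (tt N14985 (iv F213826)) (tt N10646 F184879) (tt N14987 (iv F213839)) (tt N10641 F184880) (tt N13876 (iv F208313)) (tt N14982 (iv F213811)) (tt N10696 F184881) (tt N10954 F201904) (tt N10638 (iv D44259)))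
theorem Q12749 : ∀ i, i < 12749 → P i := stepQ 12748 Q12748 (allL N12748 (tt N10654 F184892) (tt N11612 (iv F206592)) (tt N10648 F184893) (tt N11613 (iv F206602)) (tt N14982 (iv F213810)) (tt N12748 F184894) (tt N10641 F184895) (tt N11591 F206601) (tt N10952 F201807) (tt N10639 (iv D44262)))
theorem Q12750 : ∀ i, i < 12750 → P i := stepQ 12749 Q12749 (allL N12749 (tt N10655 F184896) (tt N10899 F201337) (tt N12749 F184897) (tt N14986 (iv F213834)) (tt N10640 (iv D44263)) (tt N14223 (iv F210262)) (tt N10924 F201338) (tt N10700 F184898) (tt N10896 F201339) (tt N14988 D47758))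
theorem Q12751 : ∀ i, i < 12751 → P i := stepQ 12750 Q12750 (allL N12750 (tt N10656 F184900) (tt N10901 F201340) (tt N12750 F184901) (tt N10641 F184902) (tt N14988 (iv F213844)) (tt N10642 F184903) (tt N11613 F206603) (tt N10701 F184904) (tt N10918 F201334) (tt N10640 (iv D44264)))
theorem Q12752 : ∀ i, i < 12752 → P i := stepQ 12751 Q12751 (allL N12751 (tt N10659 F184923) (tt N12751 F184924) (tt N13855 (iv F208161)) (tt N11401 F206299) (tt N12751 F184925) (tt N10644 F184926) (tt N11396 (iv F206300)) (tt N13846 (iv F208085)) (tt N10643 (iv D44269)) (tt N14989 D47759))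
theorem Q12753 : ∀ i, i < 12753 → P i := stepQ 12752 Q12752 (allL N12752 (tt N10661 F184932) (tt N12752 F184933) (tt N13881 (iv F208348)) (tt N10644 (iv D44271)) (tt N12752 F184934) (tt N11401 (iv F206297)) (tt N10645 F184935) (tt N14980 (iv F213798)) (tt N11669 F206294) (tt N14990 D47760))
theorem Q12754 : ∀ i, i < 12754 → P i := stepQ 12753 Q12753 (allL N12753 (tt N10662 F184936) (tt N12753 F184937) (tt N14982 (iv F213809)) (tt N14990 (iv F213858)) (tt N10648 F184938) (tt N14989 (iv F213852)) (tt N10646 F184939) (tt N13960 (iv F208839)) (tt N11400 F206567) (tt N10644 (iv D44272)))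
theorem Q12755 : ∀ i, i < 12755 → P i := stepQ 12754 Q12754 (allL N12754 (tt N10664 F184943) (tt N12754 F184944) (tt N13883 (iv F208360)) (tt N10646 F184945) (tt N12754 F184946) (tt N11400 F206565) (tt N14990 (iv F213861)) (tt N10707 F184947) (tt N14989 (iv F213855)) (tt N10645 (iv D44274)))
theorem Q12756 : ∀ i, i < 12756 → P i := stepQ 12755 Q12755 (allL N12755 (tt N10665 F184948) (tt N12755 F184949) (tt N11591 F206599) (tt N12755 F184950) (tt N13960 (iv F208836)) (tt N12755 F184951) (tt N10708 F184952) (tt N10648 F184953) (tt N11399 (iv F206612)) (tt N10647 (iv D44275)))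
theorem Q12757 : ∀ i, i < 12757 → P i := stepQ 12756 Q12756 (allL N12756 (tt N13886 (iv F208376)) (tt N10941 F184963) (tt N13875 (iv F208304)) (tt N10649 (iv D44279)) (tt N10946 F201791) (tt N13882 (iv F208355)) (tt N10949 F201792) (tt N10711 F184964) (tt N10652 F184965) (tt N14991 D47761))
theorem Q12758 : ∀ i, i < 12758 → P i := stepQ 12757 Q12757 (allL N12757 (tt N13895 (iv F208426)) (tt N10942 F184966) (tt N11400 F201793) (tt N14991 (iv F213865)) (tt N10952 F201794) (tt N13883 (iv F208362)) (tt N10954 F201795) (tt N10712 F184968) (tt N14982 (iv F213813)) (tt N10649 (iv D44280)))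
theorem Q12759 : ∀ i, i < 12759 → P i := stepQ 12758 Q12758 (allL N12758 (tt N13855 (iv F208159)) (tt N10944 F184973) (tt N10659 F184974) (tt N14992 D47762) (tt N12758 F184975) (tt N10651 F184976) (tt N13869 (iv F208260)) (tt N11619 F206521) (tt N10650 (iv D44282)) (tt N14993 D47763))
theorem Q12760 : ∀ i, i < 12760 → P i := stepQ 12759 Q12759 (allL N12759 (tt N14981 (iv F213801)) (tt N10946 F184982) (tt N14994 D47764) (tt N10651 (iv D44284)) (tt N10941 F201802) (tt N14992 (iv F213870)) (tt N10652 F184983) (tt N11063 F201803) (tt N10949 F201804) (tt N14995 D47765))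
theorem Q12761 : ∀ i, i < 12761 → P i := stepQ 12760 Q12760 (allL N12760 (tt N14982 (iv F213807)) (tt N10947 F184984) (tt N10662 F184985) (tt N14995 (iv F213885)) (tt N10654 F184986) (tt N14993 (iv F213876)) (tt N10653 F184987) (tt N11620 (iv F206529)) (tt N13895 (iv F208433)) (tt N10651 (iv D44285)))
theorem Q12762 : ∀ i, i < 12762 → P i := stepQ 12761 Q12761 (allL N12761 (tt N13882 (iv F208352)) (tt N14996 D47766) (tt N10652 (iv D44286)) (tt N10663 F184988) (tt N14997 D47767) (tt N13886 (iv F208378)) (tt N14994 (iv F213881)) (tt N10718 F184989) (tt N13875 (iv F208309)) (tt N14998 D47768))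
theorem Q12763 : ∀ i, i < 12763 → P i := stepQ 12762 Q12762 (allL N12762 (tt N14986 (iv F213832)) (tt N10949 F184990) (tt N14997 (iv F213893)) (tt N10655 F184991) (tt N10652 (iv D44287)) (tt N14999 D47769) (tt N10941 F201812) (tt N10719 F184992) (tt N10946 F201813) (tt N15000 D47770))
theorem Q12764 : ∀ i, i < 12764 → P i := stepQ 12763 Q12763 (allL N12763 (tt N14987 (iv F213838)) (tt N10950 F184993) (tt N14998 (iv F213898)) (tt N10653 F184994) (tt N15000 (iv F213907)) (tt N13888 (iv F208392)) (tt N14995 (iv F213887)) (tt N10720 F184995) (tt N15001 D47771) (tt N10652 (iv D44288)))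
theorem Q12765 : ∀ i, i < 12765 → P i := stepQ 12764 Q12764 (allL N12764 (tt N14223 (iv F210258)) (tt N10953 F185016) (tt N12764 F185017) (tt N14999 (iv F213902)) (tt N10657 F185018) (tt N10655 (iv D44293)) (tt N14312 (iv F210727)) (tt N10724 F185019) (tt N10940 F201814) (tt N15002 D47772))
theorem Q12766 : ∀ i, i < 12766 → P i := stepQ 12765 Q12765 (allL N12765 (tt N14988 (iv F213841)) (tt N10954 F185021) (tt N12765 F185022) (tt N15000 (iv F213906)) (tt N10656 F185023) (tt N15002 (iv F213915)) (tt N10942 F201815) (tt N10725 F185024) (tt N14985 (iv F213831)) (tt N10655 (iv D44294)))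
theorem Q12767 : ∀ i, i < 12767 → P i := stepQ 12766 Q12766 (allL N12766 (tt N14225 (iv F210271)) (tt N10955 F185030) (tt N12766 F185031) (tt N13892 (iv F208414)) (tt N14312 (iv F210725)) (tt N12766 F185032) (tt N10657 (iv D44296)) (tt N15003 D47773) (tt N11590 F185033) (tt N15004 D47774))
theorem Q12768 : ∀ i, i < 12768 → P i := stepQ 12767 Q12767 (allL N12767 (tt N14226 (iv F210276)) (tt N10956 F185034) (tt N12767 F185035) (tt N13893 (iv F208418)) (tt N15002 (iv F213914)) (tt N10658 F185036) (tt N15004 (iv F213926)) (tt N10727 F185037) (tt N13873 (iv F208294)) (tt N10657 (iv D44297)))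
theorem Q12769 : ∀ i, i < 12769 → P i := stepQ 12768 Q12768 (allL N12768 (tt N14989 (iv F213848)) (tt N10666 F185053) (tt N14993 (iv F213874)) (tt N13868 (iv F208250)) (tt N12768 F185054) (tt N10662 F185055) (tt N13870 (iv F208268)) (tt N10738 F206216) (tt N10664 F206217) (tt N10659 (iv D44302)))
theorem Q12770 : ∀ i, i < 12770 → P i := stepQ 12769 Q12769 (allL N12769 (tt N14980 (iv F213793)) (tt N10667 F185056) (tt N15005 D47775) (tt N10660 (iv D44303)) (tt N12769 F185057) (tt N13867 (iv F208244)) (tt N10732 F185058) (tt N10661 F185059) (tt N11672 (iv F206517)) (tt N13925 (iv F208609)))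
theorem Q12771 : ∀ i, i < 12771 → P i := stepQ 12770 Q12770 (allL N12770 (tt N13881 (iv F208346)) (tt N14251 (iv F210416)) (tt N10661 (iv D44305)) (tt N14994 (iv F213879)) (tt N12770 F185064) (tt N13858 (iv F208187)) (tt N10663 F185065) (tt N15005 (iv F213932)) (tt N13856 F208174) (tt N15006 D47776))
theorem Q12772 : ∀ i, i < 12772 → P i := stepQ 12771 Q12771 (allL N12771 (tt N14990 (iv F213856)) (tt N10668 F185066) (tt N15006 (iv F213934)) (tt N10662 F185067) (tt N12771 F185068) (tt N13868 (iv F208252)) (tt N10664 F185069) (tt N13925 (iv F208608)) (tt N13870 (iv F208270)) (tt N10661 (iv D44306)))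
theorem Q12773 : ∀ i, i < 12773 → P i := stepQ 12772 Q12772 (allL N12772 (tt N14280 (iv F210560)) (tt N10663 (iv D44307)) (tt N10669 F185070) (tt N14996 (iv F213890)) (tt N12772 F185071) (tt N10911 F206183) (tt N14251 (iv F210420)) (tt N10736 F185072) (tt N10910 F206184) (tt N15007 D47777))
theorem Q12774 : ∀ i, i < 12774 → P i := stepQ 12773 Q12773 (allL N12773 (tt N13883 (iv F208358)) (tt N15007 (iv F213937)) (tt N10664 F185073) (tt N14998 (iv F213899)) (tt N12773 F185074) (tt N13895 (iv F208430)) (tt N15006 (iv F213936)) (tt N10737 F185075) (tt N14993 (iv F213878)) (tt N10663 (iv D44308)))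
theorem Q12775 : ∀ i, i < 12775 → P i := stepQ 12774 Q12774 (allL N12774 (tt N10669 (iv D44321)) (tt N12774 F185122) (tt N14280 (iv F210562)) (tt N10977 F185123) (tt N12774 F185124) (tt N10904 F206181) (tt N14240 (iv F210357)) (tt N10750 F185125) (tt N10902 F206182) (tt N15008 D47778))
theorem Q12776 : ∀ i, i < 12776 → P i := stepQ 12775 Q12775 (allL N12775 (tt N15008 (iv F213943)) (tt N10670 F185126) (tt N15007 (iv F213938)) (tt N10978 F185127) (tt N12775 F185128) (tt N10919 F206189) (tt N14268 (iv F210496)) (tt N10751 F185129) (tt N10960 F206190) (tt N10669 (iv D44322)))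
theorem Q12777 : ∀ i, i < 12777 → P i := stepQ 12776 Q12776 (allL N12776 (tt N10713 F197887) (tt N10998 F185493) (tt N10702 F197888) (tt N10673 F185494) (tt N10807 F197889) (tt N10671 (iv D44412)) (tt N13896 (iv F208438)) (tt N10693 F197890) (tt N15009 D47779) (tt N10709 F185495))
theorem Q12778 : ∀ i, i < 12778 → P i := stepQ 12777 Q12777 (allL N12777 (tt N10715 F197891) (tt N10999 F185500) (tt N10704 F197892) (tt N15010 D47780) (tt N10697 F197893) (tt N15009 (iv F213954)) (tt N10672 F185502) (tt N10694 F197894) (tt N10671 (iv D44414)) (tt N15011 D47781))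
theorem Q12779 : ∀ i, i < 12779 → P i := stepQ 12778 Q12778 (allL N12778 (tt N11063 F202114) (tt N11000 F185503) (tt N15012 D47782) (tt N10672 (iv D44415)) (tt N11036 F202115) (tt N13899 (iv F208457)) (tt N15010 (iv F213959)) (tt N14981 (iv F213805)) (tt N10676 F185504) (tt N15013 D47783))
theorem Q12780 : ∀ i, i < 12780 → P i := stepQ 12779 Q12779 (allL N12779 (tt N11620 (iv F206526)) (tt N11001 F185505) (tt N13960 (iv F208834)) (tt N15013 (iv F213974)) (tt N11591 F185506) (tt N13900 (iv F208463)) (tt N15011 (iv F213966)) (tt N14982 (iv F213812)) (tt N10712 F185507) (tt N10672 (iv D44416)))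
theorem Q12781 : ∀ i, i < 12781 → P i := stepQ 12780 Q12780 (allL N12780 (tt N10709 F197083) (tt N11002 F185508) (tt N10680 F185509) (tt N10693 F197084) (tt N10763 F185510) (tt N10674 F185511) (tt N13944 (iv F208738)) (tt N10673 (iv D44417)) (tt N13993 (iv F209004)) (tt N10713 F185512))
theorem Q12782 : ∀ i, i < 12782 → P i := stepQ 12781 Q12781 (allL N12781 (tt N11081 F202623) (tt N11003 F185513) (tt N10681 F185514) (tt N15014 D47784) (tt N10764 F185515) (tt N10675 F185516) (tt N13902 (iv F208476)) (tt N13993 (iv F209003)) (tt N10673 (iv D44418)) (tt N15015 D47785))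
theorem Q12783 : ∀ i, i < 12783 → P i := stepQ 12782 Q12782 (allL N12782 (tt N11072 F202621) (tt N11005 F185521) (tt N13972 (iv F208900)) (tt N10675 (iv D44420)) (tt N11041 F202622) (tt N15014 (iv F213978)) (tt N10676 F185522) (tt N13974 (iv F208913)) (tt N15010 (iv F213961)) (tt N15016 D47786))
theorem Q12784 : ∀ i, i < 12784 → P i := stepQ 12783 Q12783 (allL N12783 (tt N11082 F202624) (tt N11006 F185523) (tt N10682 F185524) (tt N15016 (iv F213987)) (tt N10679 F185525) (tt N15015 (iv F213983)) (tt N10677 F185526) (tt N13995 (iv F209018)) (tt N10717 F185527) (tt N10675 (iv D44421)))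
theorem Q12785 : ∀ i, i < 12785 → P i := stepQ 12784 Q12784 (allL N12784 (tt N11075 F202761) (tt N14322 (iv F210759)) (tt N10676 (iv D44422)) (tt N10683 F185528) (tt N11043 F202762) (tt N13906 (iv F208493)) (tt N13972 (iv F208902)) (tt N13884 (iv F208369)) (tt N15012 (iv F213971)) (tt N15017 D47787))
theorem Q12786 : ∀ i, i < 12786 → P i := stepQ 12785 Q12785 (allL N12785 (tt N11078 F202763) (tt N11009 F185531) (tt N15017 (iv F213991)) (tt N10677 F185532) (tt N11044 F202764) (tt N13908 (iv F208501)) (tt N15016 (iv F213989)) (tt N14983 (iv F213818)) (tt N15018 D47788) (tt N10676 (iv D44424)))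
theorem Q12787 : ∀ i, i < 12787 → P i := stepQ 12786 Q12786 (allL N12786 (tt N11080 F201732) (tt N11011 F185537) (tt N10685 F185538) (tt N11045 F201733) (tt N13995 (iv F209016)) (tt N10770 F185539) (tt N11592 F206580) (tt N10679 F185540) (tt N10721 F185541) (tt N10678 (iv D44426)))
theorem Q12788 : ∀ i, i < 12788 → P i := stepQ 12787 Q12787 (allL N12787 (tt N11463 (iv F206737)) (tt N10686 F185576) (tt N15015 (iv F213981)) (tt N13992 (iv F208994)) (tt N10774 F185577) (tt N10682 F185578) (tt N13918 (iv F208563)) (tt N13994 (iv F209011)) (tt N10731 F185579) (tt N10681 (iv D44438)))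
theorem Q12789 : ∀ i, i < 12789 → P i := stepQ 12788 Q12788 (allL N12788 (tt N11455 (iv F206810)) (tt N14323 (iv F210764)) (tt N10684 F185591) (tt N15017 (iv F213992)) (tt N11430 F206809) (tt N13924 (iv F208601)) (tt N13973 (iv F208908)) (tt N13885 (iv F208375)) (tt N15019 D47789) (tt N10683 (iv D44444)))
theorem Q12790 : ∀ i, i < 12790 → P i := stepQ 12789 Q12789 (allL N12789 (tt N11459 F206497) (tt N10687 F185592) (tt N15019 (iv F213999)) (tt N10738 F185593) (tt N11431 (iv F206496)) (tt N13925 (iv F208606)) (tt N13920 (iv F208578)) (tt N13868 (iv F208254)) (tt N10684 (iv D44445)) (tt N13867 (iv F208247)))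
theorem Q12791 : ∀ i, i < 12791 → P i := stepQ 12790 Q12790 (allL N12790 (tt N11033 F185646) (tt N10693 F185647) (tt N12790 F185648) (tt N11002 F197907) (tt N10795 F185649) (tt N10689 (iv D44463)) (tt N13934 (iv F208672)) (tt N10998 F197908) (tt N15020 D47790) (tt N11058 F197909))
theorem Q12792 : ∀ i, i < 12792 → P i := stepQ 12791 Q12791 (allL N12791 (tt N11012 (iv F202299)) (tt N10694 F185655) (tt N12791 F185656) (tt N15021 D47791) (tt N10691 F185657) (tt N15020 (iv F214005)) (tt N10690 F185658) (tt N10999 F197910) (tt N10689 (iv D44465)) (tt N15022 D47792))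
theorem Q12793 : ∀ i, i < 12793 → P i := stepQ 12792 Q12792 (allL N12792 (tt N11008 (iv F202303)) (tt N10695 F185660) (tt N14552 (iv F211796)) (tt N10690 (iv D44466)) (tt N10986 F202120) (tt N13937 (iv F208689)) (tt N15021 (iv F214010)) (tt N14984 (iv F213823)) (tt N13977 (iv F208932)) (tt N15023 D47793))
theorem Q12794 : ∀ i, i < 12794 → P i := stepQ 12793 Q12793 (allL N12793 (tt N11014 (iv F202304)) (tt N10696 F185662) (tt N12793 F185663) (tt N15023 (iv F214022)) (tt N10692 F185664) (tt N13938 (iv F208696)) (tt N15022 (iv F214017)) (tt N14985 (iv F213830)) (tt N10725 F202122) (tt N10690 (iv D44467)))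
theorem Q12795 : ∀ i, i < 12795 → P i := stepQ 12794 Q12794 (allL N12794 (tt N11013 (iv F202301)) (tt N10699 F185676) (tt N12794 F185677) (tt N10989 F202123) (tt N15022 (iv F214016)) (tt N10801 F185678) (tt N10692 F185679) (tt N11616 (iv F206593)) (tt N10723 F202121) (tt N10691 (iv D44470)))
theorem Q12796 : ∀ i, i < 12796 → P i := stepQ 12795 Q12795 (allL N12795 (tt N10714 F185729) (tt N15020 (iv F214002)) (tt N10703 F185730) (tt N15024 D47794) (tt N10808 F185731) (tt N10694 F185732) (tt N13947 (iv F208759)) (tt N15009 (iv F213955)) (tt N10693 (iv D44485)) (tt N15025 D47795))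
theorem Q12797 : ∀ i, i < 12797 → P i := stepQ 12796 Q12796 (allL N12796 (tt N10716 F185737) (tt N15021 (iv F214008)) (tt N13964 (iv F208860)) (tt N10694 (iv D44487)) (tt N15026 D47796) (tt N15024 (iv F214025)) (tt N10695 F185738) (tt N15010 (iv F213960)) (tt N13974 (iv F208914)) (tt N15027 D47797))
theorem Q12798 : ∀ i, i < 12798 → P i := stepQ 12797 Q12797 (allL N12797 (tt N10717 F185739) (tt N15022 (iv F214014)) (tt N10706 F185740) (tt N15027 (iv F214038)) (tt N10699 F185741) (tt N15025 (iv F214029)) (tt N10696 F185742) (tt N15011 (iv F213967)) (tt N11082 F202595) (tt N10694 (iv D44488)))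
theorem Q12799 : ∀ i, i < 12799 → P i := stepQ 12798 Q12798 (allL N12798 (tt N10719 F185745) (tt N10986 F202151) (tt N13966 (iv F208870)) (tt N10700 F185746) (tt N10695 (iv D44490)) (tt N14389 (iv F211126)) (tt N15026 (iv F214034)) (tt N14986 (iv F213836)) (tt N13978 (iv F208940)) (tt N15028 D47798))
theorem Q12800 : ∀ i, i < 12800 → P i := stepQ 12799 Q12799 (allL N12799 (tt N10720 F185747) (tt N15023 (iv F214021)) (tt N13967 (iv F208875)) (tt N10696 F185748) (tt N15028 (iv F214043)) (tt N13951 (iv F208782)) (tt N15027 (iv F214039)) (tt N14987 (iv F213840)) (tt N15029 D47799) (tt N10695 (iv D44491)))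
theorem Q12801 : ∀ i, i < 12801 → P i := stepQ 12800 Q12800 (allL N12800 (tt N10721 F185754) (tt N11616 F206595) (tt N10708 F185755) (tt N11618 F206600) (tt N15011 (iv F213965)) (tt N10816 F185756) (tt N11591 (iv F206598)) (tt N10699 F185757) (tt N11080 F201871) (tt N10697 (iv D44493)))
theorem Q12802 : ∀ i, i < 12802 → P i := stepQ 12801 Q12801 (allL N12801 (tt N10722 F185758) (tt N10985 F202127) (tt N12801 F185759) (tt N15026 (iv F214033)) (tt N10698 (iv D44494)) (tt N15030 D47800) (tt N10700 F185760) (tt N11035 F202128) (tt N10980 F202129) (tt N15031 D47801))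
theorem Q12803 : ∀ i, i < 12803 → P i := stepQ 12802 Q12802 (allL N12802 (tt N10723 F185762) (tt N10989 F202130) (tt N12802 F185763) (tt N10699 F185764) (tt N15031 (iv F214055)) (tt N10818 F185765) (tt N10701 F185766) (tt N11618 F206611) (tt N11013 F202125) (tt N10698 (iv D44495)))
theorem Q12804 : ∀ i, i < 12804 → P i := stepQ 12803 Q12803 (allL N12803 (tt N10725 F185771) (tt N10987 F202131) (tt N12803 F185772) (tt N15028 (iv F214042)) (tt N10701 F185773) (tt N14390 (iv F211131)) (tt N15031 (iv F214056)) (tt N14988 (iv F213846)) (tt N11014 F202126) (tt N10700 (iv D44497)))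
theorem Q12805 : ∀ i, i < 12805 → P i := stepQ 12804 Q12804 (allL N12804 (tt N10728 F185790) (tt N12804 F185791) (tt N13896 (iv F208436)) (tt N13847 (iv F208090)) (tt N10820 F185792) (tt N13845 (iv F208074)) (tt N10702 (iv D44502)) (tt N13958 (iv F208821)) (tt N15032 D47802) (tt N11675 F206534))
theorem Q12806 : ∀ i, i < 12806 → P i := stepQ 12805 Q12805 (allL N12805 (tt N10729 F185793) (tt N12805 F185794) (tt N15009 (iv F213952)) (tt N15033 D47803) (tt N10821 F185795) (tt N10704 F185796) (tt N15032 (iv F214064)) (tt N10703 F185797) (tt N10702 (iv D44503)) (tt N15034 D47804))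
theorem Q12807 : ∀ i, i < 12807 → P i := stepQ 12806 Q12806 (allL N12806 (tt N10730 F185798) (tt N12806 F185799) (tt N13962 (iv F208849)) (tt N10703 (iv D44504)) (tt N11560 (iv F206535)) (tt N10705 F185800) (tt N11460 (iv F206536)) (tt N15033 (iv F214070)) (tt N11675 F206533) (tt N15035 D47805))
theorem Q12808 : ∀ i, i < 12808 → P i := stepQ 12807 Q12807 (allL N12807 (tt N10731 F185801) (tt N12807 F185802) (tt N15025 (iv F214027)) (tt N15035 (iv F214081)) (tt N10823 F185803) (tt N10706 F185804) (tt N13959 (iv F208829)) (tt N15034 (iv F214077)) (tt N11463 F206734) (tt N10703 (iv D44505)))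
theorem Q12809 : ∀ i, i < 12809 → P i := stepQ 12808 Q12808 (allL N12808 (tt N10732 F185805) (tt N12808 F185806) (tt N13963 (iv F208855)) (tt N10704 (iv D44506)) (tt N12808 F185807) (tt N15033 (iv F214068)) (tt N14980 (iv F213797)) (tt N10705 F185808) (tt N13852 (iv F208139)) (tt N15036 D47806))
theorem Q12810 : ∀ i, i < 12810 → P i := stepQ 12809 Q12809 (allL N12809 (tt N10733 F185809) (tt N12809 F185810) (tt N15011 (iv F213964)) (tt N15036 (iv F214087)) (tt N10708 F185811) (tt N15034 (iv F214076)) (tt N13960 (iv F208838)) (tt N10706 F185812) (tt N11461 (iv F206575)) (tt N10704 (iv D44507)))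
theorem Q12811 : ∀ i, i < 12811 → P i := stepQ 12810 Q12810 (allL N12810 (tt N10735 F185816) (tt N12810 F185817) (tt N13965 (iv F208865)) (tt N10706 F185818) (tt N12810 F185819) (tt N15035 (iv F214083)) (tt N10707 F185820) (tt N15036 (iv F214090)) (tt N15037 D47807) (tt N10705 (iv D44509)))
theorem Q12812 : ∀ i, i < 12812 → P i := stepQ 12811 Q12811 (allL N12811 (tt N10738 F185826) (tt N12811 F185827) (tt N13900 (iv F208461)) (tt N11459 (iv F206498)) (tt N12811 F185828) (tt N13960 (iv F208837)) (tt N15037 (iv F214096)) (tt N14989 (iv F213854)) (tt N10707 (iv D44512)) (tt N13846 (iv F208086)))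
theorem Q12813 : ∀ i, i < 12813 → P i := stepQ 12812 Q12812 (allL N12812 (tt N13993 (iv F208998)) (tt N11059 F185835) (tt N11460 F202507) (tt N15038 D47808) (tt N11266 F202508) (tt N10710 F185836) (tt N13962 (iv F208852)) (tt N11081 F202509) (tt N10709 (iv D44515)) (tt N15039 D47809))
theorem Q12814 : ∀ i, i < 12814 → P i := stepQ 12813 Q12813 (allL N12813 (tt N13974 (iv F208910)) (tt N11060 F185840) (tt N13948 (iv F208762)) (tt N10710 (iv D44517)) (tt N11069 F202512) (tt N15038 (iv F214100)) (tt N10711 F185841) (tt N11072 F202513) (tt N10716 F185842) (tt N15040 D47810))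
theorem Q12815 : ∀ i, i < 12815 → P i := stepQ 12814 Q12814 (allL N12814 (tt N13995 (iv F209013)) (tt N11061 F185843) (tt N11461 F202514) (tt N15040 (iv F214109)) (tt N11080 F202515) (tt N15039 (iv F214106)) (tt N10712 F185845) (tt N11082 F202516) (tt N15011 (iv F213968)) (tt N10710 (iv D44518)))
theorem Q12816 : ∀ i, i < 12816 → P i := stepQ 12815 Q12815 (allL N12815 (tt N13978 (iv F208934)) (tt N11063 F185847) (tt N13950 (iv F208774)) (tt N10945 F202117) (tt N10711 (iv D44520)) (tt N15041 D47811) (tt N11069 F202118) (tt N10946 F202119) (tt N10719 F185849) (tt N15042 D47812))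
theorem Q12817 : ∀ i, i < 12817 → P i := stepQ 12816 Q12816 (allL N12816 (tt N13979 (iv F208941)) (tt N11064 F185850) (tt N13951 (iv F208780)) (tt N10712 F185851) (tt N15042 (iv F214119)) (tt N13967 (iv F208877)) (tt N15040 (iv F214111)) (tt N14991 (iv F213868)) (tt N15043 D47813) (tt N10711 (iv D44521)))
theorem Q12818 : ∀ i, i < 12818 → P i := stepQ 12817 Q12817 (allL N12817 (tt N13896 (iv F208434)) (tt N11065 F185852) (tt N10728 F185853) (tt N11622 (iv F206408)) (tt N10840 F185854) (tt N11621 F206412) (tt N10713 (iv D44522)) (tt N13968 (iv F208883)) (tt N15044 D47814) (tt N13944 (iv F208740)))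
theorem Q12819 : ∀ i, i < 12819 → P i := stepQ 12818 Q12818 (allL N12818 (tt N15009 (iv F213950)) (tt N11066 F185855) (tt N10729 F185856) (tt N15045 D47815) (tt N10841 F185857) (tt N10715 F185858) (tt N15044 (iv F214128)) (tt N10714 F185859) (tt N10713 (iv D44523)) (tt N15046 D47816))
theorem Q12820 : ∀ i, i < 12820 → P i := stepQ 12819 Q12819 (allL N12819 (tt N15024 (iv F214024)) (tt N11067 F185860) (tt N15047 D47817) (tt N10714 (iv D44524)) (tt N15048 D47818) (tt N10716 F185861) (tt N13970 (iv F208892)) (tt N15045 (iv F214131)) (tt N15038 (iv F214102)) (tt N15049 D47819))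
theorem Q12821 : ∀ i, i < 12821 → P i := stepQ 12820 Q12820 (allL N12820 (tt N15025 (iv F214026)) (tt N11068 F185862) (tt N10731 F185863) (tt N15049 (iv F214143)) (tt N10843 F185864) (tt N10717 F185865) (tt N13971 (iv F208897)) (tt N15046 (iv F214137)) (tt N15015 (iv F213984)) (tt N10714 (iv D44525)))
theorem Q12822 : ∀ i, i < 12822 → P i := stepQ 12821 Q12821 (allL N12821 (tt N15010 (iv F213956)) (tt N11069 F185866) (tt N15050 D47820) (tt N10715 (iv D44526)) (tt N11060 F202596) (tt N15045 (iv F214130)) (tt N11063 F202597) (tt N10716 F185867) (tt N11072 F202598) (tt N15051 D47821))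
theorem Q12823 : ∀ i, i < 12823 → P i := stepQ 12822 Q12822 (allL N12822 (tt N15011 (iv F213962)) (tt N11070 F185868) (tt N10733 F185869) (tt N15051 (iv F214151)) (tt N10721 F185870) (tt N15046 (iv F214136)) (tt N11620 (iv F206528)) (tt N10717 F185871) (tt N13995 (iv F209019)) (tt N10715 (iv D44527)))
theorem Q12824 : ∀ i, i < 12824 → P i := stepQ 12823 Q12823 (allL N12823 (tt N13964 (iv F208858)) (tt N15052 D47822) (tt N10716 (iv D44528)) (tt N10734 F185872) (tt N15053 D47823) (tt N15047 (iv F214139)) (tt N10718 F185873) (tt N15050 (iv F214148)) (tt N13948 (iv F208766)) (tt N15054 D47824))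
theorem Q12825 : ∀ i, i < 12825 → P i := stepQ 12824 Q12824 (allL N12824 (tt N15026 (iv F214031)) (tt N11072 F185874) (tt N15053 (iv F214158)) (tt N10722 F185875) (tt N10716 (iv D44529)) (tt N15055 D47825) (tt N10719 F185876) (tt N11060 F202703) (tt N11069 F202704) (tt N15056 D47826))
theorem Q12826 : ∀ i, i < 12826 → P i := stepQ 12825 Q12825 (allL N12825 (tt N15027 (iv F214037)) (tt N11073 F185877) (tt N15054 (iv F214163)) (tt N10717 F185878) (tt N15056 (iv F214172)) (tt N15049 (iv F214144)) (tt N10720 F185879) (tt N15051 (iv F214154)) (tt N15057 D47827) (tt N10716 (iv D44530)))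
theorem Q12827 : ∀ i, i < 12827 → P i := stepQ 12826 Q12826 (allL N12826 (tt N14488 (iv F211532)) (tt N10718 (iv D44531)) (tt N11074 F185880) (tt N10736 F185881) (tt N15058 D47828) (tt N13977 (iv F208929)) (tt N15052 (iv F214157)) (tt N14996 (iv F213892)) (tt N13937 (iv F208690)) (tt N15059 D47829))
theorem Q12828 : ∀ i, i < 12828 → P i := stepQ 12827 Q12827 (allL N12827 (tt N13966 (iv F208868)) (tt N15058 (iv F214177)) (tt N10719 F185882) (tt N12827 F185883) (tt N10718 (iv D44532)) (tt N15060 D47830) (tt N15053 (iv F214160)) (tt N14997 (iv F213896)) (tt N13950 (iv F208778)) (tt N15061 D47831))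
theorem Q12829 : ∀ i, i < 12829 → P i := stepQ 12828 Q12828 (allL N12828 (tt N13967 (iv F208873)) (tt N15059 (iv F214180)) (tt N10720 F185884) (tt N10737 F185885) (tt N15061 (iv F214187)) (tt N13979 (iv F208944)) (tt N15054 (iv F214165)) (tt N14998 (iv F213900)) (tt N15062 D47832) (tt N10718 (iv D44533)))
theorem Q12830 : ∀ i, i < 12830 → P i := stepQ 12829 Q12829 (allL N12829 (tt N14389 (iv F211124)) (tt N11077 F185886) (tt N15060 (iv F214183)) (tt N10724 F185887) (tt N13980 (iv F208947)) (tt N10719 (iv D44534)) (tt N15063 D47833) (tt N14999 (iv F213903)) (tt N15041 (iv F214116)) (tt N15064 D47834))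
theorem Q12831 : ∀ i, i < 12831 → P i := stepQ 12830 Q12830 (allL N12830 (tt N15028 (iv F214040)) (tt N11078 F185888) (tt N15061 (iv F214185)) (tt N10725 F185889) (tt N10720 F185890) (tt N15064 (iv F214193)) (tt N15056 (iv F214173)) (tt N15000 (iv F213909)) (tt N15065 D47835) (tt N10719 (iv D44535)))
theorem Q12832 : ∀ i, i < 12832 → P i := stepQ 12831 Q12831 (allL N12831 (tt N15029 (iv F214044)) (tt N11079 F185891) (tt N15062 (iv F214188)) (tt N15018 (iv F213996)) (tt N15065 (iv F214195)) (tt N13982 (iv F208952)) (tt N15057 (iv F214176)) (tt N15001 (iv F213911)) (tt N10720 (iv D44536)) (tt N15043 (iv F214123)))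
theorem Q12833 : ∀ i, i < 12833 → P i := stepQ 12832 Q12832 (allL N12832 (tt N15030 (iv F214046)) (tt N11081 F185901) (tt N12832 F185902) (tt N15055 (iv F214167)) (tt N10857 F185903) (tt N10722 (iv D44539)) (tt N15066 D47836) (tt N11059 F202705) (tt N11058 F202706) (tt N15067 D47837))
theorem Q12834 : ∀ i, i < 12834 → P i := stepQ 12833 Q12833 (allL N12833 (tt N15031 (iv F214052)) (tt N11082 F185905) (tt N12833 F185906) (tt N15056 (iv F214171)) (tt N10723 F185907) (tt N15067 (iv F214204)) (tt N10725 F185908) (tt N11061 F202707) (tt N15022 (iv F214019)) (tt N10722 (iv D44540)))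
theorem Q12835 : ∀ i, i < 12835 → P i := stepQ 12834 Q12834 (allL N12834 (tt N14388 (iv F211119)) (tt N11083 F185914) (tt N12834 F185915) (tt N15063 (iv F214190)) (tt N10726 F185916) (tt N15066 (iv F214199)) (tt N10724 (iv D44542)) (tt N15068 D47838) (tt N11593 F185917) (tt N15069 D47839))
theorem Q12836 : ∀ i, i < 12836 → P i := stepQ 12835 Q12835 (allL N12835 (tt N14390 (iv F211127)) (tt N11084 F185918) (tt N12835 F185919) (tt N15064 (iv F214192)) (tt N10727 F185920) (tt N10725 F185921) (tt N15069 (iv F214213)) (tt N15002 (iv F213916)) (tt N13938 (iv F208697)) (tt N10724 (iv D44543)))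
theorem Q12837 : ∀ i, i < 12837 → P i := stepQ 12836 Q12836 (allL N12836 (tt N14391 (iv F211133)) (tt N11085 F185926) (tt N12836 F185927) (tt N13989 (iv F208982)) (tt N15068 (iv F214208)) (tt N10861 F185928) (tt N15003 (iv F213920)) (tt N10726 (iv D44545)) (tt N11594 F185929) (tt N15070 D47840))
theorem Q12838 : ∀ i, i < 12838 → P i := stepQ 12837 Q12837 (allL N12837 (tt N14392 (iv F211138)) (tt N11086 F185930) (tt N12837 F185931) (tt N13990 (iv F208986)) (tt N15069 (iv F214212)) (tt N10862 F185932) (tt N10727 F185933) (tt N15070 (iv F214218)) (tt N13939 (iv F208705)) (tt N10726 (iv D44546)))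
theorem Q12839 : ∀ i, i < 12839 → P i := stepQ 12838 Q12838 (allL N12838 (tt N15032 (iv F214059)) (tt N10739 F185941) (tt N15044 (iv F214125)) (tt N13916 (iv F208547)) (tt N10863 F185942) (tt N13919 (iv F208568)) (tt N10729 F185943) (tt N13917 (iv F208556)) (tt N10728 (iv D44549)) (tt N15071 D47841))
theorem Q12840 : ∀ i, i < 12840 → P i := stepQ 12839 Q12839 (allL N12839 (tt N15033 (iv F214066)) (tt N10740 F185944) (tt N15072 D47842) (tt N10729 (iv D44550)) (tt N14027 (iv F209200)) (tt N10732 F185945) (tt N13916 (iv F208550)) (tt N10730 F185946) (tt N13915 F208544) (tt N15073 D47843))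
theorem Q12841 : ∀ i, i < 12841 → P i := stepQ 12840 Q12840 (allL N12840 (tt N15034 (iv F214073)) (tt N10741 F185947) (tt N15046 (iv F214134)) (tt N15073 (iv F214228)) (tt N10865 F185948) (tt N10733 F185949) (tt N15071 (iv F214223)) (tt N10731 F185950) (tt N13994 (iv F209012)) (tt N10729 (iv D44551)))
theorem Q12842 : ∀ i, i < 12842 → P i := stepQ 12841 Q12841 (allL N12841 (tt N13962 (iv F208847)) (tt N15074 D47844) (tt N10730 (iv D44552)) (tt N15047 (iv F214138)) (tt N15075 D47845) (tt N10734 F185951) (tt N13993 (iv F209002)) (tt N15072 (iv F214226)) (tt N13944 (iv F208739)) (tt N15076 D47846))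
theorem Q12843 : ∀ i, i < 12843 → P i := stepQ 12842 Q12842 (allL N12842 (tt N11560 F206554) (tt N10743 F185952) (tt N15075 (iv F214238)) (tt N10867 F185953) (tt N10730 (iv D44553)) (tt N12842 F185954) (tt N10772 F205535) (tt N14027 (iv F209203)) (tt N10771 F205536) (tt N15077 D47847))
theorem Q12844 : ∀ i, i < 12844 → P i := stepQ 12843 Q12843 (allL N12843 (tt N15035 (iv F214079)) (tt N10744 F185955) (tt N15076 (iv F214242)) (tt N10731 F185956) (tt N15077 (iv F214247)) (tt N10735 F185957) (tt N13994 (iv F209010)) (tt N15073 (iv F214230)) (tt N15071 (iv F214224)) (tt N10730 (iv D44554)))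
theorem Q12845 : ∀ i, i < 12845 → P i := stepQ 12844 Q12844 (allL N12844 (tt N13963 (iv F208853)) (tt N15078 D47848) (tt N10732 (iv D44555)) (tt N15050 (iv F214145)) (tt N12844 F185958) (tt N15072 (iv F214225)) (tt N15005 (iv F213931)) (tt N10734 F185959) (tt N13945 (iv F208747)) (tt N15079 D47849))
theorem Q12846 : ∀ i, i < 12846 → P i := stepQ 12845 Q12845 (allL N12845 (tt N15036 (iv F214085)) (tt N10746 F185960) (tt N15079 (iv F214254)) (tt N10733 F185961) (tt N12845 F185962) (tt N15073 (iv F214229)) (tt N13925 (iv F208607)) (tt N10735 F185963) (tt N13922 (iv F208592)) (tt N10732 (iv D44556)))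
theorem Q12847 : ∀ i, i < 12847 → P i := stepQ 12846 Q12846 (allL N12846 (tt N14487 (iv F211527)) (tt N10734 (iv D44557)) (tt N10747 F185964) (tt N15052 (iv F214156)) (tt N12846 F185965) (tt N15074 (iv F214232)) (tt N10736 F185966) (tt N15078 (iv F214253)) (tt N13933 (iv F208665)) (tt N15080 D47850))
theorem Q12848 : ∀ i, i < 12848 → P i := stepQ 12847 Q12847 (allL N12847 (tt N13965 (iv F208863)) (tt N15080 (iv F214257)) (tt N10735 F185967) (tt N15054 (iv F214164)) (tt N12847 F185968) (tt N15076 (iv F214243)) (tt N10737 F185969) (tt N15079 (iv F214256)) (tt N15081 D47851) (tt N10734 (iv D44558)))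
theorem Q12849 : ∀ i, i < 12849 → P i := stepQ 12848 Q12848 (allL N12848 (tt N15037 (iv F214092)) (tt N10749 F185970) (tt N15081 (iv F214261)) (tt N13920 (iv F208576)) (tt N12848 F185971) (tt N15071 (iv F214222)) (tt N10738 F185972) (tt N13922 (iv F208591)) (tt N10735 (iv D44559)) (tt N13919 F208573))
theorem Q12850 : ∀ i, i < 12850 → P i := stepQ 12849 Q12849 (allL N12849 (tt N14489 (iv F211537)) (tt N10737 F185975) (tt N10751 F185976) (tt N15059 (iv F214182)) (tt N12849 F185977) (tt N13996 (iv F209024)) (tt N15080 (iv F214260)) (tt N15007 (iv F213941)) (tt N15082 D47852) (tt N10736 (iv D44561)))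
theorem Q12851 : ∀ i, i < 12851 → P i := stepQ 12850 Q12850 (allL N12850 (tt N13900 (iv F208459)) (tt N15082 (iv F214265)) (tt N10738 F185978) (tt N15083 D47853) (tt N12850 F185979) (tt N11620 (iv F206523)) (tt N15081 (iv F214263)) (tt N14993 (iv F213877)) (tt N10737 (iv D44562)) (tt N11619 F206522))
theorem Q12852 : ∀ i, i < 12852 → P i := stepQ 12851 Q12851 (allL N12851 (tt N12851 F185982) (tt N15071 (iv F214220)) (tt N11102 F185983) (tt N13926 (iv F208612)) (tt N10878 F185984) (tt N10749 F206404) (tt N10741 F185985) (tt N13927 (iv F208624)) (tt N10744 F206405) (tt N10739 (iv D44564)))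
theorem Q12853 : ∀ i, i < 12853 → P i := stepQ 12852 Q12852 (allL N12852 (tt N12852 F185994) (tt N15073 (iv F214227)) (tt N14467 (iv F211419)) (tt N10741 F185995) (tt N14041 (iv F209283)) (tt N10746 F185996) (tt N13926 (iv F208615)) (tt N10744 F185997) (tt N13927 (iv F208625)) (tt N10740 (iv D44567)))
theorem Q12854 : ∀ i, i < 12854 → P i := stepQ 12853 Q12853 (allL N12853 (tt N15084 D47854) (tt N10742 (iv D44568)) (tt N15074 (iv F214231)) (tt N11106 F185998) (tt N11159 F205876) (tt N10747 F185999) (tt N11016 F205877) (tt N14454 (iv F211372)) (tt N11015 F205878) (tt N15085 D47855))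
theorem Q12855 : ∀ i, i < 12855 → P i := stepQ 12854 Q12854 (allL N12854 (tt N12854 F186003) (tt N15085 (iv F214279)) (tt N10744 F186004) (tt N11108 F186005) (tt N11172 F205885) (tt N10748 F186006) (tt N11025 F205886) (tt N14467 (iv F211424)) (tt N11102 F205887) (tt N10742 (iv D44570)))
theorem Q12856 : ∀ i, i < 12856 → P i := stepQ 12855 Q12855 (allL N12855 (tt N12855 F186007) (tt N15077 (iv F214245)) (tt N11172 F205542) (tt N10885 F186008) (tt N10744 F186009) (tt N12855 F186010) (tt N10782 F205543) (tt N14041 (iv F209286)) (tt N10878 F205544) (tt N10743 (iv D44571)))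
theorem Q12857 : ∀ i, i < 12857 → P i := stepQ 12856 Q12856 (allL N12856 (tt N15086 D47856) (tt N10745 (iv D44573)) (tt N15078 (iv F214251)) (tt N11111 F186013) (tt N12856 F186014) (tt N14454 (iv F211370)) (tt N14267 (iv F210489)) (tt N10747 F186015) (tt N14266 F210485) (tt N15087 D47857))
theorem Q12858 : ∀ i, i < 12858 → P i := stepQ 12857 Q12857 (allL N12857 (tt N12857 F186016) (tt N15087 (iv F214289)) (tt N10746 F186017) (tt N11112 F186018) (tt N12857 F186019) (tt N14467 (iv F211422)) (tt N13932 (iv F208655)) (tt N10748 F186020) (tt N13929 (iv F208639)) (tt N10745 (iv D44574)))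
theorem Q12859 : ∀ i, i < 12859 → P i := stepQ 12858 Q12858 (allL N12858 (tt N10747 (iv D44576)) (tt N12858 F186024) (tt N14487 (iv F211529)) (tt N11114 F186025) (tt N12858 F186026) (tt N15084 (iv F214276)) (tt N10750 F186027) (tt N15086 (iv F214288)) (tt N14484 (iv F211515)) (tt N15088 D47858))
theorem Q12860 : ∀ i, i < 12860 → P i := stepQ 12859 Q12859 (allL N12859 (tt N15088 (iv F214293)) (tt N10748 F186028) (tt N15080 (iv F214258)) (tt N11115 F186029) (tt N12859 F186030) (tt N15085 (iv F214282)) (tt N10751 F186031) (tt N15087 (iv F214292)) (tt N15089 D47859) (tt N10747 (iv D44577)))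
theorem Q12861 : ∀ i, i < 12861 → P i := stepQ 12860 Q12860 (allL N12860 (tt N12860 F186032) (tt N15089 (iv F214298)) (tt N10749 F186033) (tt N14476 (iv F211473)) (tt N12860 F186034) (tt N11102 F206210) (tt N10752 F186035) (tt N13929 (iv F208638)) (tt N10748 (iv D44578)) (tt N10968 F206211))
theorem Q12862 : ∀ i, i < 12862 → P i := stepQ 12861 Q12861 (allL N12861 (tt N10751 F186036) (tt N12861 F186037) (tt N14489 (iv F211539)) (tt N11117 F186038) (tt N12861 F186039) (tt N13997 (iv F209033)) (tt N15088 (iv F214297)) (tt N15008 (iv F213948)) (tt N15090 D47860) (tt N10750 (iv D44579)))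
theorem Q12863 : ∀ i, i < 12863 → P i := stepQ 12862 Q12862 (allL N12862 (tt N15090 (iv F214303)) (tt N10752 F186040) (tt N15082 (iv F214266)) (tt N15091 D47861) (tt N12862 F186041) (tt N10962 F206204) (tt N15089 (iv F214301)) (tt N10960 F206205) (tt N10751 (iv D44580)) (tt N10958 F206206))
theorem Q12864 : ∀ i, i < 12864 → P i := stepQ 12863 Q12863 (allL N12863 (tt N12863 F186042) (tt N15091 (iv F214309)) (tt N14275 (iv F210529)) (tt N10752 (iv D44581)) (tt N15092 D47862) (tt N10973 F206207) (tt N14476 (iv F211475)) (tt N10971 F206208) (tt N11119 F186043) (tt N10969 F206209))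
theorem Q12865 : ∀ i, i < 12865 → P i := stepQ 12864 Q12864 (allL N12864 (tt N15093 D47863) (tt N10753 (iv D44657)) (tt N11503 (iv F206689)) (tt N12864 F186393) (tt N10787 F186394) (tt N13836 (iv F208017)) (tt N10755 F186395) (tt N13833 (iv F207997)) (tt N12864 F186396) (tt N15094 D47864))
theorem Q12866 : ∀ i, i < 12866 → P i := stepQ 12865 Q12865 (allL N12865 (tt N12865 F186397) (tt N15094 (iv F214326)) (tt N10754 F186398) (tt N12865 F186399) (tt N10788 F186400) (tt N13837 (iv F208025)) (tt N10756 F186401) (tt N13834 (iv F208005)) (tt N15095 D47865) (tt N10753 (iv D44658)))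
theorem Q12867 : ∀ i, i < 12867 → P i := stepQ 12866 Q12866 (allL N12866 (tt N12866 F186402) (tt N11505 (iv F206695)) (tt N15095 (iv F214332)) (tt N12866 F186403) (tt N10789 F186404) (tt N13838 (iv F208032)) (tt N10757 F186405) (tt N13835 (iv F208012)) (tt N10754 (iv D44659)) (tt N12866 F186406))
theorem Q12868 : ∀ i, i < 12868 → P i := stepQ 12867 Q12867 (allL N12867 (tt N10755 (iv D44660)) (tt N12867 F186407) (tt N11506 (iv F206691)) (tt N12867 F186408) (tt N10790 F186409) (tt N12867 F186410) (tt N15093 (iv F214324)) (tt N12867 F186411) (tt N12867 F186412) (tt N15096 D47866))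
theorem Q12869 : ∀ i, i < 12869 → P i := stepQ 12868 Q12868 (allL N12868 (tt N15096 (iv F214336)) (tt N10756 F186413) (tt N11507 (iv F206688)) (tt N12868 F186414) (tt N10791 F186415) (tt N12868 F186416) (tt N15094 (iv F214330)) (tt N12868 F186417) (tt N15097 D47867) (tt N10755 (iv D44661)))
theorem Q12870 : ∀ i, i < 12870 → P i := stepQ 12869 Q12869 (allL N12869 (tt N12869 F186418) (tt N15097 (iv F214343)) (tt N10757 F186419) (tt N15098 D47868) (tt N10792 F186420) (tt N12869 F186421) (tt N15095 (iv F214334)) (tt N12869 F186422) (tt N10756 (iv D44662)) (tt N12869 F186423))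
theorem Q12871 : ∀ i, i < 12871 → P i := stepQ 12870 Q12870 (allL N12870 (tt N10832 F198712) (tt N11133 F186644) (tt N12870 F186645) (tt N10807 F198713) (tt N10758 (iv D44716)) (tt N10803 F198714) (tt N13998 (iv F209042)) (tt N10802 F198715) (tt N15099 D47869) (tt N10831 F186647))
theorem Q12872 : ∀ i, i < 12872 → P i := stepQ 12871 Q12871 (allL N12871 (tt N10831 F197967) (tt N11134 F186648) (tt N12871 F186649) (tt N10763 F186650) (tt N10802 F197968) (tt N10759 F186651) (tt N14076 (iv F209501)) (tt N10758 (iv D44717)) (tt N15100 D47870) (tt N10832 F186652))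
theorem Q12873 : ∀ i, i < 12873 → P i := stepQ 12872 Q12872 (allL N12872 (tt N11638 F206560) (tt N11135 F186653) (tt N12872 F186654) (tt N15101 D47871) (tt N15099 (iv F214358)) (tt N10760 F186655) (tt N14000 (iv F209054)) (tt N15100 (iv F214366)) (tt N10758 (iv D44718)) (tt N15102 D47872))
theorem Q12874 : ∀ i, i < 12874 → P i := stepQ 12873 Q12873 (allL N12873 (tt N11603 F206793) (tt N11136 F186656) (tt N12873 F186657) (tt N15103 D47873) (tt N11596 F186658) (tt N15100 (iv F214365)) (tt N12873 F186659) (tt N10760 F186660) (tt N10759 (iv D44719)) (tt N15104 D47874))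
theorem Q12875 : ∀ i, i < 12875 → P i := stepQ 12874 Q12874 (allL N12874 (tt N11234 F203514) (tt N11137 F186661) (tt N14975 (iv F213770)) (tt N10760 (iv D44720)) (tt N11199 F203515) (tt N15101 (iv F214369)) (tt N10761 F186662) (tt N15103 (iv F214380)) (tt N10766 F186663) (tt N15105 D47875))
theorem Q12876 : ∀ i, i < 12876 → P i := stepQ 12875 Q12875 (allL N12875 (tt N11639 (iv F206797)) (tt N11138 F186664) (tt N12875 F186665) (tt N15105 (iv F214391)) (tt N11597 F186666) (tt N15102 (iv F214374)) (tt N10762 F186667) (tt N15104 (iv F214387)) (tt N10836 F186668) (tt N10760 (iv D44721)))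
theorem Q12877 : ∀ i, i < 12877 → P i := stepQ 12876 Q12876 (allL N12876 (tt N11240 F203730) (tt N11140 F186676) (tt N14896 (iv F213306)) (tt N10762 F186677) (tt N11201 F203731) (tt N14006 (iv F209088)) (tt N15105 (iv F214393)) (tt N12876 F186678) (tt N15106 D47876) (tt N10761 (iv D44724)))
theorem Q12878 : ∀ i, i < 12878 → P i := stepQ 12877 Q12877 (allL N12877 (tt N11644 (iv F206824)) (tt N11141 F186679) (tt N10771 F186680) (tt N14076 (iv F209499)) (tt N13944 F208741) (tt N12877 F186681) (tt N10763 (iv D44725)) (tt N14007 (iv F209094)) (tt N15075 (iv F214241)) (tt N10840 F186682))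
theorem Q12879 : ∀ i, i < 12879 → P i := stepQ 12878 Q12878 (allL N12878 (tt N11266 F202627) (tt N11142 F186683) (tt N10772 F186684) (tt N15107 D47877) (tt N13993 (iv F209000)) (tt N10765 F186685) (tt N15075 (iv F214240)) (tt N10764 F186686) (tt N10763 (iv D44726)) (tt N15108 D47878))
theorem Q12880 : ∀ i, i < 12880 → P i := stepQ 12879 Q12879 (allL N12879 (tt N11254 F203509) (tt N11143 F186687) (tt N15109 D47879) (tt N10764 (iv D44727)) (tt N15110 D47880) (tt N10766 F186688) (tt N14009 (iv F209104)) (tt N15107 (iv F214403)) (tt N15101 (iv F214370)) (tt N15111 D47881))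
theorem Q12881 : ∀ i, i < 12881 → P i := stepQ 12880 Q12880 (allL N12880 (tt N11269 F203511) (tt N11144 F186689) (tt N10774 F186690) (tt N15111 (iv F214418)) (tt N15015 (iv F213982)) (tt N10767 F186691) (tt N14010 (iv F209109)) (tt N15108 (iv F214408)) (tt N10843 F186692) (tt N10764 (iv D44728)))
theorem Q12882 : ∀ i, i < 12882 → P i := stepQ 12881 Q12881 (allL N12881 (tt N11249 F202625) (tt N11145 F186693) (tt N15112 D47882) (tt N10765 (iv D44729)) (tt N11206 F202626) (tt N15107 (iv F214402)) (tt N12881 F186694) (tt N10766 F186695) (tt N15103 (iv F214381)) (tt N15113 D47883))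
theorem Q12883 : ∀ i, i < 12883 → P i := stepQ 12882 Q12882 (allL N12882 (tt N11267 F202628) (tt N11146 F186696) (tt N10776 F186697) (tt N15113 (iv F214427)) (tt N10770 F186698) (tt N15108 (iv F214407)) (tt N12882 F186699) (tt N10767 F186700) (tt N10845 F186701) (tt N10765 (iv D44730)))
theorem Q12884 : ∀ i, i < 12884 → P i := stepQ 12883 Q12883 (allL N12883 (tt N11252 F203512) (tt N15114 D47884) (tt N10766 (iv D44731)) (tt N10777 F186702) (tt N11208 F203513) (tt N15109 (iv F214412)) (tt N10768 F186703) (tt N15112 (iv F214424)) (tt N14975 (iv F213773)) (tt N15115 D47885))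
theorem Q12885 : ∀ i, i < 12885 → P i := stepQ 12884 Q12884 (allL N12884 (tt N11255 F203516) (tt N11149 F186707) (tt N15115 (iv F214436)) (tt N10767 F186708) (tt N11209 F203517) (tt N15111 (iv F214419)) (tt N10769 F186709) (tt N15113 (iv F214430)) (tt N15116 D47886) (tt N10766 (iv D44733)))
theorem Q12886 : ∀ i, i < 12886 → P i := stepQ 12885 Q12885 (allL N12885 (tt N15117 D47887) (tt N10768 (iv D44734)) (tt N11150 F186710) (tt N10779 F186711) (tt N11210 F203736) (tt N14016 (iv F209135)) (tt N15114 (iv F214434)) (tt N12885 F186712) (tt N14646 (iv F212224)) (tt N15118 D47888))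
theorem Q12887 : ∀ i, i < 12887 → P i := stepQ 12886 Q12886 (allL N12886 (tt N11261 F203732) (tt N15118 (iv F214452)) (tt N10769 F186715) (tt N10780 F186716) (tt N11211 F203733) (tt N14018 (iv F209150)) (tt N15115 (iv F214439)) (tt N12886 F186717) (tt N15119 D47889) (tt N10768 (iv D44736)))
theorem Q12888 : ∀ i, i < 12888 → P i := stepQ 12887 Q12887 (allL N12887 (tt N11265 F203734) (tt N11154 F186725) (tt N15119 (iv F214458)) (tt N10854 F186726) (tt N11212 F203735) (tt N14020 (iv F209161)) (tt N15116 (iv F214444)) (tt N12887 F186727) (tt N10769 (iv D44739)) (tt N15106 (iv F214399)))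
theorem Q12889 : ∀ i, i < 12889 → P i := stepQ 12888 Q12888 (allL N12888 (tt N11561 (iv F206736)) (tt N10782 F186776) (tt N15108 (iv F214406)) (tt N14173 (iv F209966)) (tt N13994 (iv F209008)) (tt N10776 F186777) (tt N15077 (iv F214249)) (tt N10774 F186778) (tt N10865 F186779) (tt N10772 (iv D44754)))
theorem Q12890 : ∀ i, i < 12890 → P i := stepQ 12889 Q12889 (allL N12889 (tt N11542 F206733) (tt N15120 D47890) (tt N10773 (iv D44755)) (tt N15109 (iv F214411)) (tt N14168 (iv F209941)) (tt N10777 F186780) (tt N14030 (iv F209219)) (tt N14171 (iv F209959)) (tt N12889 F186781) (tt N15121 D47891))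
theorem Q12891 : ∀ i, i < 12891 → P i := stepQ 12890 Q12890 (allL N12890 (tt N11546 F206732) (tt N10784 F186784) (tt N15121 (iv F214465)) (tt N10774 F186785) (tt N14169 (iv F209948)) (tt N10778 F186786) (tt N14032 (iv F209232)) (tt N14173 (iv F209970)) (tt N15122 D47892) (tt N10773 (iv D44757)))
theorem Q12892 : ∀ i, i < 12892 → P i := stepQ 12891 Q12891 (allL N12891 (tt N11534 (iv F206731)) (tt N15123 D47893) (tt N10775 (iv D44758)) (tt N15112 (iv F214421)) (tt N11501 F206730) (tt N14171 (iv F209957)) (tt N12891 F186787) (tt N10777 F186788) (tt N12891 F186789) (tt N15124 D47894))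
theorem Q12893 : ∀ i, i < 12893 → P i := stepQ 12892 Q12892 (allL N12892 (tt N11537 (iv F206635)) (tt N10786 F186790) (tt N15124 (iv F214478)) (tt N10776 F186791) (tt N11502 F206624) (tt N14173 (iv F209968)) (tt N12892 F186792) (tt N10778 F186793) (tt N15125 D47895) (tt N10775 (iv D44759)))
theorem Q12894 : ∀ i, i < 12894 → P i := stepQ 12893 Q12893 (allL N12893 (tt N15126 D47896) (tt N10777 (iv D44760)) (tt N10787 F186794) (tt N15114 (iv F214432)) (tt N11503 F206686) (tt N15120 (iv F214462)) (tt N10779 F186795) (tt N15123 (iv F214475)) (tt N12893 F186796) (tt N15127 D47897))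
theorem Q12895 : ∀ i, i < 12895 → P i := stepQ 12894 Q12894 (allL N12894 (tt N11543 (iv F206699)) (tt N15127 (iv F214494)) (tt N10778 F186797) (tt N15115 (iv F214437)) (tt N11504 F206698) (tt N15121 (iv F214466)) (tt N10780 F186798) (tt N15124 (iv F214481)) (tt N15128 D47898) (tt N10777 (iv D44761)))
theorem Q12896 : ∀ i, i < 12896 → P i := stepQ 12895 Q12895 (allL N12895 (tt N11547 (iv F206694)) (tt N10789 F186799) (tt N15128 (iv F214499)) (tt N10873 F186800) (tt N11505 F206693) (tt N15122 (iv F214470)) (tt N10781 F186801) (tt N15125 (iv F214487)) (tt N10778 (iv D44762)) (tt N12895 F186802))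
theorem Q12897 : ∀ i, i < 12897 → P i := stepQ 12896 Q12896 (allL N12896 (tt N10779 (iv D44763)) (tt N11548 (iv F206690)) (tt N10790 F186803) (tt N15117 (iv F214447)) (tt N11506 F206685) (tt N14038 (iv F209265)) (tt N15126 (iv F214492)) (tt N12896 F186804) (tt N12896 F186805) (tt N15129 D47899))
theorem Q12898 : ∀ i, i < 12898 → P i := stepQ 12897 Q12897 (allL N12897 (tt N15129 (iv F214503)) (tt N10780 F186806) (tt N10791 F186807) (tt N15118 (iv F214454)) (tt N11507 F206687) (tt N14039 (iv F209272)) (tt N15127 (iv F214497)) (tt N12897 F186808) (tt N15130 D47900) (tt N10779 (iv D44764)))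
theorem Q12899 : ∀ i, i < 12899 → P i := stepQ 12898 Q12898 (allL N12898 (tt N11555 (iv F206697)) (tt N15130 (iv F214508)) (tt N10781 F186809) (tt N15131 D47901) (tt N11508 F206692) (tt N14040 (iv F209277)) (tt N15128 (iv F214501)) (tt N12898 F186810) (tt N10780 (iv D44765)) (tt N12898 F186811))
theorem Q12900 : ∀ i, i < 12900 → P i := stepQ 12899 Q12899 (allL N12899 (tt N15132 D47902) (tt N10783 (iv D44771)) (tt N15120 (iv F214461)) (tt N11176 F186833) (tt N14184 (iv F210017)) (tt N10787 F186834) (tt N14044 (iv F209304)) (tt N14188 (iv F210040)) (tt N12899 F186835) (tt N15133 D47903))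
theorem Q12901 : ∀ i, i < 12901 → P i := stepQ 12900 Q12900 (allL N12900 (tt N12900 F186839) (tt N15133 (iv F214522)) (tt N10784 F186840) (tt N11178 F186841) (tt N14185 (iv F210024)) (tt N10788 F186842) (tt N14046 (iv F209319)) (tt N14190 (iv F210053)) (tt N15134 D47904) (tt N10783 (iv D44773)))
theorem Q12902 : ∀ i, i < 12902 → P i := stepQ 12901 Q12901 (allL N12901 (tt N12901 F186845) (tt N15122 (iv F214468)) (tt N15134 (iv F214526)) (tt N10886 F186846) (tt N14186 (iv F210028)) (tt N10789 F186847) (tt N14048 (iv F209329)) (tt N14192 (iv F210064)) (tt N10784 (iv D44775)) (tt N12901 F186848))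
theorem Q12903 : ∀ i, i < 12903 → P i := stepQ 12902 Q12902 (allL N12902 (tt N15135 D47905) (tt N10785 (iv D44776)) (tt N15123 (iv F214472)) (tt N11181 F186849) (tt N13833 (iv F207994)) (tt N14188 (iv F210038)) (tt N12902 F186850) (tt N10787 F186851) (tt N12902 F186852) (tt N15136 D47906))
theorem Q12904 : ∀ i, i < 12904 → P i := stepQ 12903 Q12903 (allL N12903 (tt N12903 F186853) (tt N15136 (iv F214534)) (tt N10786 F186854) (tt N11182 F186855) (tt N13834 (iv F208002)) (tt N14190 (iv F210051)) (tt N12903 F186856) (tt N10788 F186857) (tt N15137 D47907) (tt N10785 (iv D44777)))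
theorem Q12905 : ∀ i, i < 12905 → P i := stepQ 12904 Q12904 (allL N12904 (tt N12904 F186858) (tt N15125 (iv F214483)) (tt N15137 (iv F214539)) (tt N10889 F186859) (tt N13835 (iv F208009)) (tt N14192 (iv F210062)) (tt N12904 F186860) (tt N10789 F186861) (tt N10786 (iv D44778)) (tt N12904 F186862))
theorem Q12906 : ∀ i, i < 12906 → P i := stepQ 12905 Q12905 (allL N12905 (tt N10787 (iv D44779)) (tt N12905 F186863) (tt N15126 (iv F214490)) (tt N11184 F186864) (tt N15093 (iv F214323)) (tt N15132 (iv F214519)) (tt N10790 F186865) (tt N15135 (iv F214532)) (tt N12905 F186866) (tt N15138 D47908))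
theorem Q12907 : ∀ i, i < 12907 → P i := stepQ 12906 Q12906 (allL N12906 (tt N15138 (iv F214544)) (tt N10788 F186867) (tt N15127 (iv F214495)) (tt N11185 F186868) (tt N15094 (iv F214329)) (tt N15133 (iv F214524)) (tt N10791 F186869) (tt N15136 (iv F214537)) (tt N15139 D47909) (tt N10787 (iv D44780)))
theorem Q12908 : ∀ i, i < 12908 → P i := stepQ 12907 Q12907 (allL N12907 (tt N12907 F186870) (tt N15139 (iv F214548)) (tt N10789 F186871) (tt N15140 D47910) (tt N15095 (iv F214333)) (tt N15134 (iv F214527)) (tt N10792 F186872) (tt N15137 (iv F214542)) (tt N10788 (iv D44781)) (tt N12907 F186873))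
theorem Q12909 : ∀ i, i < 12909 → P i := stepQ 12908 Q12908 (allL N12908 (tt N10791 F186874) (tt N12908 F186875) (tt N15129 (iv F214505)) (tt N11187 F186876) (tt N15096 (iv F214340)) (tt N14053 (iv F209359)) (tt N15138 (iv F214547)) (tt N12908 F186877) (tt N15141 D47911) (tt N10790 (iv D44782)))
theorem Q12910 : ∀ i, i < 12910 → P i := stepQ 12909 Q12909 (allL N12909 (tt N15141 (iv F214558)) (tt N10792 F186878) (tt N15130 (iv F214509)) (tt N15142 D47912) (tt N15097 (iv F214345)) (tt N14054 (iv F209364)) (tt N15139 (iv F214549)) (tt N12909 F186879) (tt N10791 (iv D44783)) (tt N12909 F186880))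
theorem Q12911 : ∀ i, i < 12911 → P i := stepQ 12910 Q12910 (allL N12910 (tt N12910 F186881) (tt N15142 (iv F214562)) (tt N10895 F186882) (tt N10792 (iv D44784)) (tt N15143 D47913) (tt N14055 (iv F209369)) (tt N15140 (iv F214553)) (tt N12910 F186883) (tt N11189 F186884) (tt N12910 F186885))
theorem Q12912 : ∀ i, i < 12912 → P i := stepQ 12911 Q12911 (allL N12911 (tt N11190 F186896) (tt N10802 F186897) (tt N11309 F198758) (tt N10795 F186898) (tt N11134 F198759) (tt N10793 (iv D44787)) (tt N14056 (iv F209377)) (tt N11133 F198760) (tt N15144 D47914) (tt N11225 F198761))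
theorem Q12913 : ∀ i, i < 12913 → P i := stepQ 12912 Q12912 (allL N12912 (tt N11192 F186904) (tt N10804 F186905) (tt N11649 F206717) (tt N14689 (iv F212424)) (tt N11598 F186906) (tt N15144 (iv F214576)) (tt N10794 F186907) (tt N11627 (iv F206723)) (tt N10793 (iv D44789)) (tt N15145 D47915))
theorem Q12914 : ∀ i, i < 12914 → P i := stepQ 12913 Q12913 (allL N12913 (tt N11193 F186912) (tt N10806 F186913) (tt N14629 (iv F212118)) (tt N14695 (iv F212447)) (tt N11599 F186914) (tt N14060 (iv F209403)) (tt N15145 (iv F214582)) (tt N12913 F186915) (tt N11609 (iv F206782)) (tt N10794 (iv D44791)))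
theorem Q12915 : ∀ i, i < 12915 → P i := stepQ 12914 Q12914 (allL N12914 (tt N11194 F186916) (tt N10807 F186917) (tt N12914 F186918) (tt N11133 F198706) (tt N10998 F198707) (tt N10796 F186919) (tt N14421 (iv F211270)) (tt N10795 (iv D44792)) (tt N15146 D47916) (tt N11057 F198708))
theorem Q12916 : ∀ i, i < 12916 → P i := stepQ 12915 Q12915 (allL N12915 (tt N11157 (iv F203193)) (tt N10808 F186921) (tt N12915 F186922) (tt N15147 D47917) (tt N15020 (iv F214004)) (tt N10797 F186923) (tt N14062 (iv F209415)) (tt N15146 (iv F214590)) (tt N10795 (iv D44793)) (tt N15148 D47918))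
theorem Q12917 : ∀ i, i < 12917 → P i := stepQ 12916 Q12916 (allL N12916 (tt N11155 (iv F203101)) (tt N10809 F186925) (tt N12916 F186926) (tt N15149 D47919) (tt N10800 F186927) (tt N15146 (iv F214589)) (tt N12916 F186928) (tt N10797 F186929) (tt N10796 (iv D44794)) (tt N15150 D47920))
theorem Q12918 : ∀ i, i < 12918 → P i := stepQ 12917 Q12917 (allL N12917 (tt N11148 (iv F203195)) (tt N10810 F186931) (tt N14675 (iv F212363)) (tt N10797 (iv D44795)) (tt N11125 F203009) (tt N15147 (iv F214593)) (tt N10798 F186932) (tt N15149 (iv F214603)) (tt N14689 (iv F212427)) (tt N15151 D47921))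
theorem Q12919 : ∀ i, i < 12919 → P i := stepQ 12918 Q12918 (allL N12918 (tt N11158 (iv F203196)) (tt N10811 F186934) (tt N12918 F186935) (tt N15151 (iv F214614)) (tt N10801 F186936) (tt N15148 (iv F214597)) (tt N10799 F186937) (tt N15150 (iv F214610)) (tt N10858 F203008) (tt N10797 (iv D44796)))
theorem Q12920 : ∀ i, i < 12920 → P i := stepQ 12919 Q12919 (allL N12919 (tt N11153 (iv F203400)) (tt N10814 F186946) (tt N14677 (iv F212372)) (tt N10799 F186947) (tt N11127 F203047) (tt N14068 (iv F209448)) (tt N15151 (iv F214616)) (tt N12919 F186948) (tt N15152 D47922) (tt N10798 (iv D44799)))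
theorem Q12921 : ∀ i, i < 12921 → P i := stepQ 12920 Q12920 (allL N12920 (tt N11156 (iv F203104)) (tt N10816 F186955) (tt N12920 F186956) (tt N11128 F202746) (tt N15150 (iv F214608)) (tt N11616 F206597) (tt N12920 F186957) (tt N10801 F186958) (tt N10856 F202732) (tt N10800 (iv D44801)))
theorem Q12922 : ∀ i, i < 12922 → P i := stepQ 12921 Q12921 (allL N12921 (tt N10833 F187035) (tt N15144 (iv F214573)) (tt N12921 F187036) (tt N15153 D47923) (tt N15100 (iv F214364)) (tt N10804 F187037) (tt N14078 (iv F209511)) (tt N15099 (iv F214360)) (tt N10802 (iv D44819)) (tt N15154 D47924))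
theorem Q12923 : ∀ i, i < 12923 → P i := stepQ 12922 Q12922 (allL N12922 (tt N10834 F187038) (tt N11627 F206725) (tt N12922 F187039) (tt N15155 D47925) (tt N11595 (iv F198303)) (tt N15099 (iv F214359)) (tt N12922 F187041) (tt N10804 F187042) (tt N10803 (iv D44820)) (tt N15156 D47926))
theorem Q12924 : ∀ i, i < 12924 → P i := stepQ 12923 Q12923 (allL N12923 (tt N10835 F187043) (tt N14689 (iv F212422)) (tt N15157 D47927) (tt N10804 (iv D44821)) (tt N14688 F212420) (tt N15153 (iv F214623)) (tt N10805 F187044) (tt N15155 (iv F214633)) (tt N10810 F187045) (tt N15158 D47928))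
theorem Q12925 : ∀ i, i < 12925 → P i := stepQ 12924 Q12924 (allL N12924 (tt N10836 F187046) (tt N15145 (iv F214579)) (tt N12924 F187047) (tt N15158 (iv F214647)) (tt N11601 F187048) (tt N15154 (iv F214627)) (tt N10806 F187049) (tt N15156 (iv F214640)) (tt N11639 F206796) (tt N10804 (iv D44822)))
theorem Q12926 : ∀ i, i < 12926 → P i := stepQ 12925 Q12925 (allL N12925 (tt N10837 F187050) (tt N14017 (iv F209141)) (tt N10805 (iv D44823)) (tt N12925 F187051) (tt N14016 F209139) (tt N14082 (iv F209528)) (tt N15157 (iv F214644)) (tt N12925 F187052) (tt N10812 F187053) (tt N15159 D47929))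
theorem Q12927 : ∀ i, i < 12927 → P i := stepQ 12926 Q12926 (allL N12926 (tt N10839 F187058) (tt N14695 (iv F212445)) (tt N15159 (iv F214650)) (tt N10806 F187059) (tt N14694 (iv F212441)) (tt N14084 (iv F209541)) (tt N15158 (iv F214648)) (tt N12926 F187060) (tt N15160 D47930) (tt N10805 (iv D44825)))
theorem Q12928 : ∀ i, i < 12928 → P i := stepQ 12927 Q12927 (allL N12927 (tt N10840 F187061) (tt N14421 (iv F211266)) (tt N10820 F187062) (tt N13998 (iv F209040)) (tt N13896 F208440) (tt N12927 F187063) (tt N10807 (iv D44826)) (tt N14085 (iv F209546)) (tt N15161 D47931) (tt N11644 F206823))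
theorem Q12929 : ∀ i, i < 12929 → P i := stepQ 12928 Q12928 (allL N12928 (tt N10841 F187064) (tt N15146 (iv F214586)) (tt N10821 F187065) (tt N15162 D47932) (tt N15009 (iv F213953)) (tt N10809 F187066) (tt N15161 (iv F214660)) (tt N10808 F187067) (tt N10807 (iv D44827)) (tt N15163 D47933))
theorem Q12930 : ∀ i, i < 12930 → P i := stepQ 12929 Q12929 (allL N12929 (tt N10842 F187068) (tt N15147 (iv F214592)) (tt N15164 D47934) (tt N10808 (iv D44828)) (tt N15165 D47935) (tt N10810 F187069) (tt N14087 (iv F209555)) (tt N15162 (iv F214663)) (tt N15153 (iv F214624)) (tt N15166 D47936))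
theorem Q12931 : ∀ i, i < 12931 → P i := stepQ 12930 Q12930 (allL N12930 (tt N10843 F187070) (tt N15148 (iv F214595)) (tt N10823 F187071) (tt N15166 (iv F214674)) (tt N15025 (iv F214028)) (tt N10811 F187072) (tt N14088 (iv F209559)) (tt N15163 (iv F214667)) (tt N11269 F203497) (tt N10808 (iv D44829)))
theorem Q12932 : ∀ i, i < 12932 → P i := stepQ 12931 Q12931 (allL N12931 (tt N10844 F187073) (tt N15149 (iv F214600)) (tt N15167 D47937) (tt N10809 (iv D44830)) (tt N15168 D47938) (tt N15162 (iv F214662)) (tt N12931 F187074) (tt N10810 F187075) (tt N15155 (iv F214634)) (tt N15169 D47939))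
theorem Q12933 : ∀ i, i < 12933 → P i := stepQ 12932 Q12932 (allL N12932 (tt N10845 F187076) (tt N15150 (iv F214606)) (tt N10825 F187077) (tt N15169 (iv F214687)) (tt N10816 F187078) (tt N15163 (iv F214666)) (tt N12932 F187079) (tt N10811 F187080) (tt N11267 F202747) (tt N10809 (iv D44831)))
theorem Q12934 : ∀ i, i < 12934 → P i := stepQ 12933 Q12933 (allL N12933 (tt N10846 F187081) (tt N15170 D47940) (tt N10810 (iv D44832)) (tt N10826 F187082) (tt N15171 D47941) (tt N15164 (iv F214671)) (tt N10812 F187083) (tt N15167 (iv F214679)) (tt N15157 (iv F214645)) (tt N15172 D47942))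
theorem Q12935 : ∀ i, i < 12935 → P i := stepQ 12934 Q12934 (allL N12934 (tt N10847 F187084) (tt N11125 F203012) (tt N15171 (iv F214693)) (tt N10817 F187085) (tt N10810 (iv D44833)) (tt N15173 D47943) (tt N10813 F187086) (tt N15168 (iv F214684)) (tt N14688 (iv F212419)) (tt N15174 D47944))
theorem Q12936 : ∀ i, i < 12936 → P i := stepQ 12935 Q12935 (allL N12935 (tt N10848 F187087) (tt N15151 (iv F214613)) (tt N15172 (iv F214697)) (tt N10811 F187088) (tt N15174 (iv F214706)) (tt N15166 (iv F214675)) (tt N10814 F187089) (tt N15169 (iv F214689)) (tt N15175 D47945) (tt N10810 (iv D44834)))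
theorem Q12937 : ∀ i, i < 12937 → P i := stepQ 12936 Q12936 (allL N12936 (tt N14817 (iv F213014)) (tt N10812 (iv D44835)) (tt N14005 (iv F209080)) (tt N10828 F187090) (tt N14004 F209077) (tt N11387 F204546) (tt N15170 (iv F214691)) (tt N12936 F187091) (tt N14017 (iv F209146)) (tt N15176 D47946))
theorem Q12938 : ∀ i, i < 12938 → P i := stepQ 12937 Q12937 (allL N12937 (tt N10850 F187092) (tt N14004 (iv F209072)) (tt N10813 F187093) (tt N12937 F187094) (tt N10812 (iv D44836)) (tt N14646 (iv F212222)) (tt N15171 (iv F214695)) (tt N12937 F187095) (tt N14016 (iv F209137)) (tt N15177 D47947))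
theorem Q12939 : ∀ i, i < 12939 → P i := stepQ 12938 Q12938 (allL N12938 (tt N10851 F187096) (tt N15176 (iv F214711)) (tt N10814 F187097) (tt N10829 F187098) (tt N15177 (iv F214718)) (tt N14094 (iv F209591)) (tt N15172 (iv F214699)) (tt N12938 F187099) (tt N15178 D47948) (tt N10812 (iv D44837)))
theorem Q12940 : ∀ i, i < 12940 → P i := stepQ 12939 Q12939 (allL N12939 (tt N10853 F187103) (tt N11127 F203062) (tt N15177 (iv F214716)) (tt N10819 F187104) (tt N10814 F187105) (tt N14647 (iv F212228)) (tt N15174 (iv F214707)) (tt N12939 F187106) (tt N15179 D47949) (tt N10813 (iv D44839)))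
theorem Q12941 : ∀ i, i < 12941 → P i := stepQ 12940 Q12940 (allL N12940 (tt N10854 F187107) (tt N15152 (iv F214618)) (tt N15178 (iv F214721)) (tt N11265 F203713) (tt N15179 (iv F214726)) (tt N14097 (iv F209607)) (tt N15175 (iv F214710)) (tt N12940 F187108) (tt N10814 (iv D44840)) (tt N15160 (iv F214656)))
theorem Q12942 : ∀ i, i < 12942 → P i := stepQ 12941 Q12941 (allL N12941 (tt N10855 F187109) (tt N11124 F202749) (tt N12941 F187110) (tt N15168 (iv F214682)) (tt N10815 (iv D44841)) (tt N15180 D47950) (tt N12941 F187111) (tt N10817 F187112) (tt N11121 F202750) (tt N15181 D47951))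
theorem Q12943 : ∀ i, i < 12943 → P i := stepQ 12942 Q12942 (allL N12942 (tt N10856 F187114) (tt N11128 F202751) (tt N12942 F187115) (tt N10816 F187116) (tt N15181 (iv F214737)) (tt N11618 F206610) (tt N12942 F187117) (tt N10818 F187118) (tt N11156 F202748) (tt N10815 (iv D44842)))
theorem Q12944 : ∀ i, i < 12944 → P i := stepQ 12943 Q12943 (allL N12943 (tt N10857 F187119) (tt N11123 F203013) (tt N12943 F187120) (tt N15173 (iv F214702)) (tt N15030 (iv F214049)) (tt N10817 (iv D44843)) (tt N14642 (iv F212201)) (tt N15180 (iv F214732)) (tt N11120 F203014) (tt N15182 D47952))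
theorem Q12945 : ∀ i, i < 12945 → P i := stepQ 12944 Q12944 (allL N12944 (tt N10858 F187122) (tt N11126 F203011) (tt N12944 F187123) (tt N15174 (iv F214705)) (tt N10818 F187124) (tt N15182 (iv F214744)) (tt N10819 F187125) (tt N15181 (iv F214739)) (tt N11158 F203010) (tt N10817 (iv D44844)))
theorem Q12946 : ∀ i, i < 12946 → P i := stepQ 12945 Q12945 (allL N12945 (tt N10863 F187159) (tt N12945 F187160) (tt N15161 (iv F214658)) (tt N15183 D47953) (tt N15032 (iv F214062)) (tt N12945 F187161) (tt N10821 F187162) (tt N14107 (iv F209662)) (tt N10820 (iv D44853)) (tt N15184 D47954))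
theorem Q12947 : ∀ i, i < 12947 → P i := stepQ 12946 Q12946 (allL N12946 (tt N10864 F187163) (tt N12946 F187164) (tt N15185 D47955) (tt N10821 (iv D44854)) (tt N15186 D47956) (tt N10824 F187165) (tt N15183 (iv F214750)) (tt N10822 F187166) (tt N12946 F187167) (tt N15187 D47957))
theorem Q12948 : ∀ i, i < 12948 → P i := stepQ 12947 Q12947 (allL N12947 (tt N10865 F187168) (tt N12947 F187169) (tt N15163 (iv F214665)) (tt N15187 (iv F214771)) (tt N15034 (iv F214075)) (tt N10825 F187170) (tt N15184 (iv F214756)) (tt N10823 F187171) (tt N11561 F206735) (tt N10821 (iv D44855)))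
theorem Q12949 : ∀ i, i < 12949 → P i := stepQ 12948 Q12948 (allL N12948 (tt N10866 F187172) (tt N15188 D47958) (tt N10822 (iv D44856)) (tt N15164 (iv F214670)) (tt N15189 D47959) (tt N10826 F187173) (tt N14109 (iv F209674)) (tt N15185 (iv F214760)) (tt N12948 F187174) (tt N15190 D47960))
theorem Q12950 : ∀ i, i < 12950 → P i := stepQ 12949 Q12949 (allL N12949 (tt N10867 F187175) (tt N12949 F187176) (tt N15189 (iv F214779)) (tt N11560 (iv F206553)) (tt N10822 (iv D44857)) (tt N12949 F187177) (tt N11536 F206552) (tt N15186 (iv F214767)) (tt N12949 F187178) (tt N15191 D47961))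
theorem Q12951 : ∀ i, i < 12951 → P i := stepQ 12950 Q12950 (allL N12950 (tt N10868 F187179) (tt N12950 F187180) (tt N15190 (iv F214784)) (tt N10823 F187181) (tt N15191 (iv F214789)) (tt N10827 F187182) (tt N14110 (iv F209683)) (tt N15187 (iv F214773)) (tt N15192 D47962) (tt N10822 (iv D44858)))
theorem Q12952 : ∀ i, i < 12952 → P i := stepQ 12951 Q12951 (allL N12951 (tt N10869 F187183) (tt N15193 D47963) (tt N10824 (iv D44859)) (tt N15167 (iv F214677)) (tt N12951 F187184) (tt N15185 (iv F214759)) (tt N12951 F187185) (tt N10826 F187186) (tt N12951 F187187) (tt N15194 D47964))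
theorem Q12953 : ∀ i, i < 12953 → P i := stepQ 12952 Q12952 (allL N12952 (tt N10870 F187188) (tt N12952 F187189) (tt N15194 (iv F214803)) (tt N10825 F187190) (tt N12952 F187191) (tt N15187 (iv F214772)) (tt N12952 F187192) (tt N10827 F187193) (tt N15195 D47965) (tt N10824 (iv D44860)))
theorem Q12954 : ∀ i, i < 12954 → P i := stepQ 12953 Q12953 (allL N12953 (tt N15196 D47966) (tt N10826 (iv D44861)) (tt N12953 F187194) (tt N15170 (iv F214690)) (tt N12953 F187195) (tt N15188 (iv F214775)) (tt N10828 F187196) (tt N15193 (iv F214800)) (tt N12953 F187197) (tt N15197 D47967))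
theorem Q12955 : ∀ i, i < 12955 → P i := stepQ 12954 Q12954 (allL N12954 (tt N10872 F187198) (tt N15197 (iv F214819)) (tt N10827 F187199) (tt N15172 (iv F214698)) (tt N12954 F187200) (tt N15190 (iv F214785)) (tt N10829 F187201) (tt N15194 (iv F214806)) (tt N15198 D47968) (tt N10826 (iv D44862)))
theorem Q12956 : ∀ i, i < 12956 → P i := stepQ 12955 Q12955 (allL N12955 (tt N10873 F187202) (tt N12955 F187203) (tt N15198 (iv F214824)) (tt N11547 F206696) (tt N12955 F187204) (tt N15192 (iv F214795)) (tt N10830 F187205) (tt N15195 (iv F214812)) (tt N10827 (iv D44863)) (tt N12955 F187206))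
theorem Q12957 : ∀ i, i < 12957 → P i := stepQ 12956 Q12956 (allL N12956 (tt N10828 (iv D44864)) (tt N10874 F187207) (tt N12956 F187208) (tt N14817 (iv F213017)) (tt N12956 F187209) (tt N11586 F204551) (tt N15196 (iv F214817)) (tt N12956 F187210) (tt N12956 F187211) (tt N15199 D47969))
theorem Q12958 : ∀ i, i < 12958 → P i := stepQ 12957 Q12957 (allL N12957 (tt N15199 (iv F214828)) (tt N10829 F187212) (tt N12957 F187213) (tt N15176 (iv F214712)) (tt N12957 F187214) (tt N11576 F204558) (tt N15197 (iv F214822)) (tt N12957 F187215) (tt N15200 D47970) (tt N10828 (iv D44865)))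
theorem Q12959 : ∀ i, i < 12959 → P i := stepQ 12958 Q12958 (allL N12958 (tt N10876 F187216) (tt N15200 (iv F214834)) (tt N10830 F187217) (tt N15201 D47971) (tt N12958 F187218) (tt N14113 (iv F209702)) (tt N15198 (iv F214826)) (tt N12958 F187219) (tt N10829 (iv D44866)) (tt N12958 F187220))
theorem Q12960 : ∀ i, i < 12960 → P i := stepQ 12959 Q12959 (allL N12959 (tt N15100 (iv F214361)) (tt N11226 F187225) (tt N12959 F187226) (tt N15202 D47972) (tt N10833 F187227) (tt N11603 F187228) (tt N14115 (iv F209715)) (tt N11638 F206820) (tt N10831 (iv D44868)) (tt N15203 D47973))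
theorem Q12961 : ∀ i, i < 12961 → P i := stepQ 12960 Q12960 (allL N12960 (tt N13998 (iv F209037)) (tt N11227 F187229) (tt N12960 F187230) (tt N10840 F187231) (tt N11642 F206411) (tt N12960 F187232) (tt N10832 (iv D44869)) (tt N14116 (iv F209721)) (tt N15204 D47974) (tt N14076 (iv F209502)))
theorem Q12962 : ∀ i, i < 12962 → P i := stepQ 12961 Q12961 (allL N12961 (tt N15099 (iv F214355)) (tt N11228 F187233) (tt N12961 F187234) (tt N15205 D47975) (tt N11638 (iv F206822)) (tt N10834 F187235) (tt N15204 (iv F214857)) (tt N10833 F187236) (tt N10832 (iv D44870)) (tt N15206 D47976))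
theorem Q12963 : ∀ i, i < 12963 → P i := stepQ 12962 Q12962 (allL N12962 (tt N15153 (iv F214622)) (tt N11229 F187237) (tt N15207 D47977) (tt N10833 (iv D44871)) (tt N15208 D47978) (tt N10835 F187238) (tt N14118 (iv F209728)) (tt N15205 (iv F214860)) (tt N10842 F187239) (tt N15209 D47979))
theorem Q12964 : ∀ i, i < 12964 → P i := stepQ 12963 Q12963 (allL N12963 (tt N15154 (iv F214625)) (tt N11230 F187240) (tt N12963 F187241) (tt N15209 (iv F214873)) (tt N15203 (iv F214850)) (tt N10836 F187242) (tt N14119 (iv F209733)) (tt N15206 (iv F214866)) (tt N15102 (iv F214375)) (tt N10833 (iv D44872)))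
theorem Q12965 : ∀ i, i < 12965 → P i := stepQ 12964 Q12964 (allL N12964 (tt N15155 (iv F214629)) (tt N11231 F187243) (tt N15210 D47980) (tt N10834 (iv D44873)) (tt N11636 F206827) (tt N15205 (iv F214859)) (tt N12964 F187244) (tt N10835 F187245) (tt N10844 F187246) (tt N15211 D47981))
theorem Q12966 : ∀ i, i < 12966 → P i := stepQ 12965 Q12965 (allL N12965 (tt N15156 (iv F214635)) (tt N11232 F187247) (tt N12965 F187248) (tt N15211 (iv F214881)) (tt N11605 F187249) (tt N15206 (iv F214865)) (tt N12965 F187250) (tt N10836 F187251) (tt N15104 (iv F214388)) (tt N10834 (iv D44874)))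
theorem Q12967 : ∀ i, i < 12967 → P i := stepQ 12966 Q12966 (allL N12966 (tt N15157 (iv F214642)) (tt N15212 D47982) (tt N10835 (iv D44875)) (tt N12966 F187252) (tt N15213 D47983) (tt N15207 (iv F214868)) (tt N10837 F187253) (tt N15210 (iv F214878)) (tt N10846 F187254) (tt N15214 D47984))
theorem Q12968 : ∀ i, i < 12968 → P i := stepQ 12967 Q12967 (allL N12967 (tt N14688 (iv F212415)) (tt N11234 F187255) (tt N15213 (iv F214889)) (tt N11606 F187256) (tt N10835 (iv D44876)) (tt N15215 D47985) (tt N10838 F187257) (tt N11636 (iv F206825)) (tt N10847 F187258) (tt N15216 D47986))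
theorem Q12969 : ∀ i, i < 12969 → P i := stepQ 12968 Q12968 (allL N12968 (tt N15158 (iv F214646)) (tt N11235 F187259) (tt N15214 (iv F214894)) (tt N10836 F187260) (tt N15216 (iv F214903)) (tt N15209 (iv F214874)) (tt N10839 F187261) (tt N15211 (iv F214884)) (tt N15217 D47987) (tt N10835 (iv D44877)))
theorem Q12970 : ∀ i, i < 12970 → P i := stepQ 12969 Q12969 (allL N12969 (tt N14850 (iv F213115)) (tt N10837 (iv D44878)) (tt N11236 F187262) (tt N12969 F187263) (tt N15218 D47988) (tt N14125 (iv F209756)) (tt N15212 (iv F214887)) (tt N12969 F187264) (tt N10849 F187265) (tt N15219 D47989))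
theorem Q12971 : ∀ i, i < 12971 → P i := stepQ 12970 Q12970 (allL N12970 (tt N14016 F209138) (tt N15218 (iv F214910)) (tt N10838 F187266) (tt N14038 (iv F209263)) (tt N10837 (iv D44879)) (tt N15117 (iv F214449)) (tt N15213 (iv F214890)) (tt N12970 F187267) (tt N10850 F187268) (tt N15220 D47990))
theorem Q12972 : ∀ i, i < 12972 → P i := stepQ 12971 Q12971 (allL N12971 (tt N15159 (iv F214649)) (tt N15219 (iv F214916)) (tt N10839 F187269) (tt N12971 F187270) (tt N15220 (iv F214921)) (tt N14127 (iv F209769)) (tt N15214 (iv F214896)) (tt N12971 F187271) (tt N15221 D47991) (tt N10837 (iv D44880)))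
theorem Q12973 : ∀ i, i < 12973 → P i := stepQ 12972 Q12972 (allL N12972 (tt N11150 F203079) (tt N11239 F187272) (tt N15117 (iv F214446)) (tt N11169 F203080) (tt N14128 (iv F209775)) (tt N10838 (iv D44881)) (tt N15222 D47992) (tt N12972 F187274) (tt N10852 F187275) (tt N15223 D47993))
theorem Q12974 : ∀ i, i < 12974 → P i := stepQ 12973 Q12973 (allL N12973 (tt N14694 (iv F212438)) (tt N11240 F187276) (tt N15220 (iv F214920)) (tt N11609 F187277) (tt N10839 F187278) (tt N15223 (iv F214933)) (tt N15216 (iv F214904)) (tt N12973 F187279) (tt N15224 D47994) (tt N10838 (iv D44882)))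
theorem Q12975 : ∀ i, i < 12975 → P i := stepQ 12974 Q12974 (allL N12974 (tt N15160 (iv F214653)) (tt N11241 F187280) (tt N15221 (iv F214923)) (tt N15106 (iv F214396)) (tt N15224 (iv F214936)) (tt N14130 (iv F209783)) (tt N15217 (iv F214907)) (tt N12974 F187281) (tt N10839 (iv D44883)) (tt N10854 F187282))
theorem Q12976 : ∀ i, i < 12976 → P i := stepQ 12975 Q12975 (allL N12975 (tt N15161 (iv F214657)) (tt N11242 F187283) (tt N10863 F187284) (tt N15225 D47995) (tt N15044 (iv F214126)) (tt N12975 F187285) (tt N10841 F187286) (tt N14131 (iv F209790)) (tt N10840 (iv D44884)) (tt N15226 D47996))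
theorem Q12977 : ∀ i, i < 12977 → P i := stepQ 12976 Q12976 (allL N12976 (tt N15162 (iv F214661)) (tt N11243 F187287) (tt N15227 D47997) (tt N10841 (iv D44885)) (tt N15228 D47998) (tt N10844 F187288) (tt N15225 (iv F214941)) (tt N10842 F187289) (tt N15205 (iv F214861)) (tt N15229 D47999))
theorem Q12978 : ∀ i, i < 12978 → P i := stepQ 12977 Q12977 (allL N12977 (tt N15163 (iv F214664)) (tt N11244 F187290) (tt N10865 F187291) (tt N15229 (iv F214952)) (tt N15046 (iv F214135)) (tt N10845 F187292) (tt N15226 (iv F214945)) (tt N10843 F187293) (tt N15108 (iv F214409)) (tt N10841 (iv D44886)))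
theorem Q12979 : ∀ i, i < 12979 → P i := stepQ 12978 Q12978 (allL N12978 (tt N15164 (iv F214669)) (tt N15230 D48000) (tt N10842 (iv D44887)) (tt N10866 F187294) (tt N15231 D48001) (tt N10846 F187295) (tt N14134 (iv F209800)) (tt N15227 (iv F214948)) (tt N15207 (iv F214869)) (tt N15232 D48002))
theorem Q12980 : ∀ i, i < 12980 → P i := stepQ 12979 Q12979 (allL N12979 (tt N15165 (iv F214672)) (tt N11246 F187296) (tt N15231 (iv F214958)) (tt N15048 (iv F214141)) (tt N10842 (iv D44888)) (tt N15233 D48003) (tt N14135 (iv F209802)) (tt N15228 (iv F214950)) (tt N15208 (iv F214871)) (tt N15234 D48004))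
theorem Q12981 : ∀ i, i < 12981 → P i := stepQ 12980 Q12980 (allL N12980 (tt N15166 (iv F214673)) (tt N11247 F187297) (tt N15232 (iv F214959)) (tt N10843 F187298) (tt N15234 (iv F214965)) (tt N10848 F187299) (tt N14136 (iv F209806)) (tt N15229 (iv F214954)) (tt N15235 D48005) (tt N10842 (iv D44889)))
theorem Q12982 : ∀ i, i < 12982 → P i := stepQ 12981 Q12981 (allL N12981 (tt N15167 (iv F214676)) (tt N15236 D48006) (tt N10844 (iv D44890)) (tt N10869 F187300) (tt N15237 D48007) (tt N15227 (iv F214947)) (tt N12981 F187301) (tt N10846 F187302) (tt N15210 (iv F214879)) (tt N15238 D48008))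
theorem Q12983 : ∀ i, i < 12983 → P i := stepQ 12982 Q12982 (allL N12982 (tt N15168 (iv F214680)) (tt N11249 F187303) (tt N15237 (iv F214972)) (tt N10855 F187304) (tt N10844 (iv D44891)) (tt N15239 D48009) (tt N12982 F187305) (tt N10847 F187306) (tt N11636 F206828) (tt N15240 D48010))
theorem Q12984 : ∀ i, i < 12984 → P i := stepQ 12983 Q12983 (allL N12983 (tt N15169 (iv F214686)) (tt N11250 F187307) (tt N15238 (iv F214977)) (tt N10845 F187308) (tt N15240 (iv F214987)) (tt N15229 (iv F214953)) (tt N12983 F187309) (tt N10848 F187310) (tt N15241 D48011) (tt N10844 (iv D44892)))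
theorem Q12985 : ∀ i, i < 12985 → P i := stepQ 12984 Q12984 (allL N12984 (tt N15242 D48012) (tt N10846 (iv D44893)) (tt N11251 F187311) (tt N10871 F187312) (tt N15243 D48013) (tt N15230 (iv F214957)) (tt N10849 F187313) (tt N15236 (iv F214971)) (tt N15212 (iv F214888)) (tt N15244 D48014))
theorem Q12986 : ∀ i, i < 12986 → P i := stepQ 12985 Q12985 (allL N12985 (tt N15171 (iv F214692)) (tt N15243 (iv F214996)) (tt N10847 F187314) (tt N12985 F187315) (tt N10846 (iv D44894)) (tt N15245 D48015) (tt N10850 F187316) (tt N15237 (iv F214975)) (tt N15213 (iv F214892)) (tt N15246 D48016))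
theorem Q12987 : ∀ i, i < 12987 → P i := stepQ 12986 Q12986 (allL N12986 (tt N15172 (iv F214696)) (tt N15244 (iv F215000)) (tt N10848 F187317) (tt N10872 F187318) (tt N15246 (iv F215008)) (tt N15232 (iv F214961)) (tt N10851 F187319) (tt N15238 (iv F214980)) (tt N15247 D48017) (tt N10846 (iv D44895)))
theorem Q12988 : ∀ i, i < 12988 → P i := stepQ 12987 Q12987 (allL N12987 (tt N15173 (iv F214700)) (tt N11254 F187320) (tt N15245 (iv F215004)) (tt N10857 F187321) (tt N15233 (iv F214963)) (tt N10847 (iv D44896)) (tt N15248 D48018) (tt N15239 (iv F214983)) (tt N15215 (iv F214900)) (tt N15249 D48019))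
theorem Q12989 : ∀ i, i < 12989 → P i := stepQ 12988 Q12988 (allL N12988 (tt N15174 (iv F214703)) (tt N11255 F187322) (tt N15246 (iv F215006)) (tt N10858 F187323) (tt N10848 F187324) (tt N15249 (iv F215017)) (tt N10853 F187325) (tt N15240 (iv F214989)) (tt N15250 D48020) (tt N10847 (iv D44897)))
theorem Q12990 : ∀ i, i < 12990 → P i := stepQ 12989 Q12989 (allL N12989 (tt N15175 (iv F214708)) (tt N11256 F187326) (tt N15247 (iv F215010)) (tt N15116 (iv F214442)) (tt N15250 (iv F215019)) (tt N15235 (iv F214967)) (tt N10854 F187327) (tt N15241 (iv F214992)) (tt N10848 (iv D44898)) (tt N15217 (iv F214908)))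
theorem Q12991 : ∀ i, i < 12991 → P i := stepQ 12990 Q12990 (allL N12990 (tt N10849 (iv D44899)) (tt N14817 (iv F213015)) (tt N11257 F187328) (tt N10874 F187329) (tt N15251 D48021) (tt N14146 (iv F209844)) (tt N15242 (iv F214995)) (tt N12990 F187330) (tt N14850 (iv F213121)) (tt N15252 D48022))
theorem Q12992 : ∀ i, i < 12992 → P i := stepQ 12991 Q12991 (allL N12991 (tt N15251 (iv F215021)) (tt N10850 F187331) (tt N11258 F187332) (tt N12991 F187333) (tt N10849 (iv D44900)) (tt N15253 D48023) (tt N15243 (iv F214999)) (tt N12991 F187334) (tt N15218 (iv F214914)) (tt N15254 D48024))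
theorem Q12993 : ∀ i, i < 12993 → P i := stepQ 12992 Q12992 (allL N12992 (tt N15252 (iv F215028)) (tt N10851 F187335) (tt N11259 F187336) (tt N10875 F187337) (tt N15254 (iv F215042)) (tt N14148 (iv F209858)) (tt N15244 (iv F215003)) (tt N12992 F187338) (tt N15255 D48025) (tt N10849 (iv D44901)))
theorem Q12994 : ∀ i, i < 12994 → P i := stepQ 12993 Q12993 (allL N12993 (tt N14646 (iv F212218)) (tt N15253 (iv F215033)) (tt N10852 F187339) (tt N12993 F187340) (tt N14149 (iv F209864)) (tt N10850 (iv D44902)) (tt N15256 D48026) (tt N12993 F187341) (tt N15117 (iv F214451)) (tt N15257 D48027))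
theorem Q12995 : ∀ i, i < 12995 → P i := stepQ 12994 Q12994 (allL N12994 (tt N15177 (iv F214715)) (tt N15254 (iv F215039)) (tt N10853 F187342) (tt N12994 F187343) (tt N10851 F187344) (tt N15257 (iv F215051)) (tt N15246 (iv F215009)) (tt N12994 F187345) (tt N15258 D48028) (tt N10850 (iv D44903)))
theorem Q12996 : ∀ i, i < 12996 → P i := stepQ 12995 Q12995 (allL N12995 (tt N15178 (iv F214720)) (tt N15255 (iv F215044)) (tt N10854 F187346) (tt N15259 D48029) (tt N15258 (iv F215054)) (tt N14151 (iv F209873)) (tt N15247 (iv F215011)) (tt N12995 F187347) (tt N10851 (iv D44904)) (tt N15221 (iv F214925)))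
theorem Q12997 : ∀ i, i < 12997 → P i := stepQ 12996 Q12996 (allL N12996 (tt N14644 (iv F212208)) (tt N11263 F187348) (tt N15256 (iv F215047)) (tt N10859 F187349) (tt N14152 (iv F209877)) (tt N15248 (iv F215014)) (tt N10852 (iv D44905)) (tt N15260 D48030) (tt N15222 (iv F214929)) (tt N15261 D48031))
theorem Q12998 : ∀ i, i < 12998 → P i := stepQ 12997 Q12997 (allL N12997 (tt N14647 (iv F212225)) (tt N11264 F187350) (tt N15257 (iv F215049)) (tt N10860 F187351) (tt N14153 (iv F209880)) (tt N10853 F187352) (tt N15261 (iv F215063)) (tt N12997 F187353) (tt N15262 D48032) (tt N10852 (iv D44906)))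
theorem Q12999 : ∀ i, i < 12999 → P i := stepQ 12998 Q12998 (allL N12998 (tt N15179 (iv F214723)) (tt N11265 F187354) (tt N15258 (iv F215053)) (tt N15152 (iv F214619)) (tt N10854 F187355) (tt N15262 (iv F215065)) (tt N15250 (iv F215020)) (tt N12998 F187356) (tt N10853 (iv D44907)) (tt N15224 (iv F214938)))
theorem Q13000 : ∀ i, i < 13000 → P i := stepQ 12999 Q12999 (allL N12999 (tt N15180 (iv F214728)) (tt N11266 F187357) (tt N12999 F187358) (tt N15239 (iv F214982)) (tt N11059 F203004) (tt N10855 (iv D44908)) (tt N14542 (iv F211767)) (tt N10857 F187359) (tt N11057 F203005) (tt N15263 D48033))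
theorem Q13001 : ∀ i, i < 13001 → P i := stepQ 13000 Q13000 (allL N13000 (tt N15181 (iv F214734)) (tt N11267 F187361) (tt N13000 F187362) (tt N15240 (iv F214986)) (tt N10856 F187363) (tt N15263 (iv F215070)) (tt N13000 F187364) (tt N10858 F187365) (tt N15150 (iv F214611)) (tt N10855 (iv D44909)))
theorem Q13002 : ∀ i, i < 13002 → P i := stepQ 13001 Q13001 (allL N13001 (tt N14642 (iv F212197)) (tt N11268 F187371) (tt N13001 F187372) (tt N15248 (iv F215013)) (tt N15066 (iv F214198)) (tt N10859 F187373) (tt N10857 (iv D44911)) (tt N15264 D48034) (tt N11610 F187374) (tt N15265 D48035))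
theorem Q13003 : ∀ i, i < 13003 → P i := stepQ 13002 Q13002 (allL N13002 (tt N15182 (iv F214741)) (tt N11269 F187375) (tt N13002 F187376) (tt N15249 (iv F215016)) (tt N15067 (iv F214203)) (tt N10858 F187377) (tt N15265 (iv F215079)) (tt N15263 (iv F215071)) (tt N15148 (iv F214598)) (tt N10857 (iv D44912)))
theorem Q13004 : ∀ i, i < 13004 → P i := stepQ 13003 Q13003 (allL N13003 (tt N14643 (iv F212202)) (tt N11270 F187383) (tt N13003 F187384) (tt N15260 (iv F215059)) (tt N10861 F187385) (tt N15264 (iv F215074)) (tt N13003 F187386) (tt N10859 (iv D44914)) (tt N11611 F187387) (tt N15266 D48036))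
theorem Q13005 : ∀ i, i < 13005 → P i := stepQ 13004 Q13004 (allL N13004 (tt N14645 (iv F212212)) (tt N11271 F187388) (tt N13004 F187389) (tt N15261 (iv F215062)) (tt N10862 F187390) (tt N15265 (iv F215078)) (tt N10860 F187391) (tt N15266 (iv F215084)) (tt N14065 (iv F209430)) (tt N10859 (iv D44915)))
theorem Q13006 : ∀ i, i < 13006 → P i := stepQ 13005 Q13005 (allL N13005 (tt N14648 (iv F212230)) (tt N11272 F187401) (tt N13005 F187402) (tt N14165 (iv F209930)) (tt N15266 (iv F215082)) (tt N15070 (iv F214216)) (tt N13005 F187403) (tt N10862 F187404) (tt N14069 (iv F209457)) (tt N10861 (iv D44918)))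
theorem Q13007 : ∀ i, i < 13007 → P i := stepQ 13006 Q13006 (allL N13006 (tt N15183 (iv F214746)) (tt N10877 F187416) (tt N15267 D48037) (tt N10863 (iv D44922)) (tt N14028 (iv F209207)) (tt N13006 F187417) (tt N10864 F187418) (tt N14031 (iv F209226)) (tt N13006 F187419) (tt N15268 D48038))
theorem Q13008 : ∀ i, i < 13008 → P i := stepQ 13007 Q13007 (allL N13007 (tt N15184 (iv F214753)) (tt N10878 F187420) (tt N15226 (iv F214943)) (tt N15268 (iv F215089)) (tt N15071 (iv F214221)) (tt N13007 F187421) (tt N10865 F187422) (tt N14167 (iv F209939)) (tt N15077 (iv F214250)) (tt N10863 (iv D44923)))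
theorem Q13009 : ∀ i, i < 13009 → P i := stepQ 13008 Q13008 (allL N13008 (tt N15185 (iv F214758)) (tt N15269 D48039) (tt N10864 (iv D44924)) (tt N15227 (iv F214946)) (tt N15270 D48040) (tt N10869 F187423) (tt N15267 (iv F215086)) (tt N10866 F187424) (tt N13008 F187425) (tt N15271 D48041))
theorem Q13010 : ∀ i, i < 13010 → P i := stepQ 13009 Q13009 (allL N13009 (tt N15186 (iv F214762)) (tt N10880 F187426) (tt N15270 (iv F215096)) (tt N14027 F209204) (tt N10864 (iv D44925)) (tt N13009 F187427) (tt N14028 (iv F209209)) (tt N10867 F187428) (tt N13009 F187429) (tt N15272 D48042))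
theorem Q13011 : ∀ i, i < 13011 → P i := stepQ 13010 Q13010 (allL N13010 (tt N15187 (iv F214769)) (tt N10881 F187430) (tt N15271 (iv F215100)) (tt N10865 F187431) (tt N15272 (iv F215104)) (tt N10870 F187432) (tt N15268 (iv F215091)) (tt N10868 F187433) (tt N15273 D48043) (tt N10864 (iv D44926)))
theorem Q13012 : ∀ i, i < 13012 → P i := stepQ 13011 Q13011 (allL N13011 (tt N15274 D48044) (tt N10866 (iv D44927)) (tt N10882 F187434) (tt N15230 (iv F214956)) (tt N15275 D48045) (tt N10871 F187435) (tt N14170 (iv F209953)) (tt N15269 (iv F215094)) (tt N13011 F187436) (tt N15276 D48046))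
theorem Q13013 : ∀ i, i < 13013 → P i := stepQ 13012 Q13012 (allL N13012 (tt N15189 (iv F214778)) (tt N15275 (iv F215114)) (tt N10867 F187437) (tt N15277 D48047) (tt N10866 (iv D44928)) (tt N13012 F187438) (tt N14171 (iv F209958)) (tt N15270 (iv F215098)) (tt N13012 F187439) (tt N15278 D48048))
theorem Q13014 : ∀ i, i < 13014 → P i := stepQ 13013 Q13013 (allL N13013 (tt N15190 (iv F214783)) (tt N15276 (iv F215118)) (tt N10868 F187440) (tt N15232 (iv F214960)) (tt N15278 (iv F215123)) (tt N10872 F187441) (tt N14172 (iv F209963)) (tt N15271 (iv F215102)) (tt N15279 D48049) (tt N10866 (iv D44929)))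
theorem Q13015 : ∀ i, i < 13015 → P i := stepQ 13014 Q13014 (allL N13014 (tt N15191 (iv F214786)) (tt N10885 F187442) (tt N15278 (iv F215122)) (tt N15077 (iv F214246)) (tt N10868 F187443) (tt N13014 F187444) (tt N14173 (iv F209969)) (tt N15272 (iv F215106)) (tt N15280 D48050) (tt N10867 (iv D44930)))
theorem Q13016 : ∀ i, i < 13016 → P i := stepQ 13015 Q13015 (allL N13015 (tt N15192 (iv F214792)) (tt N10886 F187445) (tt N15279 (iv F215125)) (tt N15122 (iv F214469)) (tt N15280 (iv F215129)) (tt N10873 F187446) (tt N14174 (iv F209973)) (tt N15273 (iv F215109)) (tt N10868 (iv D44931)) (tt N13015 F187447))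
theorem Q13017 : ∀ i, i < 13017 → P i := stepQ 13016 Q13016 (allL N13016 (tt N15281 D48051) (tt N10869 (iv D44932)) (tt N10887 F187448) (tt N15236 (iv F214969)) (tt N13016 F187449) (tt N15269 (iv F215093)) (tt N13016 F187450) (tt N10871 F187451) (tt N13016 F187452) (tt N15282 D48052))
theorem Q13018 : ∀ i, i < 13018 → P i := stepQ 13017 Q13017 (allL N13017 (tt N15194 (iv F214802)) (tt N15282 (iv F215137)) (tt N10870 F187453) (tt N15238 (iv F214978)) (tt N13017 F187454) (tt N15271 (iv F215101)) (tt N13017 F187455) (tt N10872 F187456) (tt N15283 D48053) (tt N10869 (iv D44933)))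
theorem Q13019 : ∀ i, i < 13019 → P i := stepQ 13018 Q13018 (allL N13018 (tt N15195 (iv F214807)) (tt N10889 F187457) (tt N15283 (iv F215142)) (tt N15125 (iv F214484)) (tt N13018 F187458) (tt N15273 (iv F215108)) (tt N13018 F187459) (tt N10873 F187460) (tt N10870 (iv D44934)) (tt N13018 F187461))
theorem Q13020 : ∀ i, i < 13020 → P i := stepQ 13019 Q13019 (allL N13019 (tt N10871 (iv D44935)) (tt N15196 (iv F214814)) (tt N10890 F187462) (tt N15242 (iv F214994)) (tt N13019 F187463) (tt N15274 (iv F215112)) (tt N10874 F187464) (tt N15281 (iv F215135)) (tt N13019 F187465) (tt N15284 D48054))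
theorem Q13021 : ∀ i, i < 13021 → P i := stepQ 13020 Q13020 (allL N13020 (tt N15284 (iv F215147)) (tt N10872 F187466) (tt N10891 F187467) (tt N15244 (iv F215002)) (tt N13020 F187468) (tt N15276 (iv F215120)) (tt N10875 F187469) (tt N15282 (iv F215141)) (tt N15285 D48055) (tt N10871 (iv D44936)))
theorem Q13022 : ∀ i, i < 13022 → P i := stepQ 13021 Q13021 (allL N13021 (tt N15198 (iv F214823)) (tt N15285 (iv F215151)) (tt N10873 F187470) (tt N15286 D48056) (tt N13021 F187471) (tt N15279 (iv F215126)) (tt N10876 F187472) (tt N15283 (iv F215145)) (tt N10872 (iv D44937)) (tt N13021 F187473))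
theorem Q13023 : ∀ i, i < 13023 → P i := stepQ 13022 Q13022 (allL N13022 (tt N10875 F187474) (tt N15199 (iv F214829)) (tt N10893 F187475) (tt N15252 (iv F215030)) (tt N13022 F187476) (tt N14181 (iv F210006)) (tt N15284 (iv F215150)) (tt N13022 F187477) (tt N15287 D48057) (tt N10874 (iv D44938)))
theorem Q13024 : ∀ i, i < 13024 → P i := stepQ 13023 Q13023 (allL N13023 (tt N15287 (iv F215158)) (tt N10876 F187478) (tt N10894 F187479) (tt N15288 D48058) (tt N13023 F187480) (tt N14182 (iv F210010)) (tt N15285 (iv F215154)) (tt N13023 F187481) (tt N10875 (iv D44939)) (tt N13023 F187482))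
theorem Q13025 : ∀ i, i < 13025 → P i := stepQ 13024 Q13024 (allL N13024 (tt N15201 (iv F214840)) (tt N15288 (iv F215163)) (tt N15131 (iv F214514)) (tt N10876 (iv D44940)) (tt N15289 D48059) (tt N14183 (iv F210013)) (tt N15286 (iv F215156)) (tt N13024 F187483) (tt N15259 (iv F215057)) (tt N13024 F187484))
theorem Q13026 : ∀ i, i < 13026 → P i := stepQ 13025 Q13025 (allL N13025 (tt N13025 F187493) (tt N15268 (iv F215088)) (tt N14911 (iv F213396)) (tt N10878 F187494) (tt N14043 (iv F209298)) (tt N13025 F187495) (tt N10881 F187496) (tt N14047 (iv F209325)) (tt N15290 D48060) (tt N10877 (iv D44943)))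
theorem Q13027 : ∀ i, i < 13027 → P i := stepQ 13026 Q13026 (allL N13026 (tt N14938 (iv F213550)) (tt N10879 (iv D44944)) (tt N15269 (iv F215092)) (tt N11293 F187497) (tt N14925 (iv F213471)) (tt N10887 F187498) (tt N14969 (iv F213742)) (tt N10882 F187499) (tt N13026 F187500) (tt N15291 D48061))
theorem Q13028 : ∀ i, i < 13028 → P i := stepQ 13027 Q13027 (allL N13027 (tt N13027 F187501) (tt N14925 (iv F213470)) (tt N10880 F187502) (tt N11330 F204684) (tt N10879 (iv D44945)) (tt N13027 F187503) (tt N14042 (iv F209292)) (tt N10883 F187504) (tt N13027 F187505) (tt N15292 D48062))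
theorem Q13029 : ∀ i, i < 13029 → P i := stepQ 13028 Q13028 (allL N13028 (tt N13028 F187506) (tt N15291 (iv F215174)) (tt N10881 F187507) (tt N11294 F187508) (tt N15292 (iv F215181)) (tt N10888 F187509) (tt N14911 (iv F213398)) (tt N10884 F187510) (tt N15293 D48063) (tt N10879 (iv D44946)))
theorem Q13030 : ∀ i, i < 13030 → P i := stepQ 13029 Q13029 (allL N13029 (tt N13029 F187511) (tt N15272 (iv F215103)) (tt N15292 (iv F215179)) (tt N14041 (iv F209282)) (tt N10881 F187512) (tt N13029 F187513) (tt N14043 (iv F209300)) (tt N10885 F187514) (tt N15294 D48064) (tt N10880 (iv D44947)))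
theorem Q13031 : ∀ i, i < 13031 → P i := stepQ 13030 Q13030 (allL N13030 (tt N13030 F187515) (tt N15273 (iv F215107)) (tt N15293 (iv F215185)) (tt N14192 (iv F210060)) (tt N15294 (iv F215191)) (tt N10889 F187516) (tt N15290 (iv F215172)) (tt N10886 F187517) (tt N10881 (iv D44948)) (tt N13030 F187518))
theorem Q13032 : ∀ i, i < 13032 → P i := stepQ 13031 Q13031 (allL N13031 (tt N10882 (iv D44949)) (tt N13031 F187519) (tt N15274 (iv F215111)) (tt N11297 F187520) (tt N14935 (iv F213539)) (tt N10890 F187521) (tt N14187 (iv F210035)) (tt N14938 (iv F213554)) (tt N13031 F187522) (tt N15295 D48065))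
theorem Q13033 : ∀ i, i < 13033 → P i := stepQ 13032 Q13032 (allL N13032 (tt N14935 (iv F213537)) (tt N10883 F187523) (tt N15275 (iv F215115)) (tt N14924 F213468) (tt N10882 (iv D44950)) (tt N13032 F187524) (tt N14188 (iv F210039)) (tt N14925 (iv F213474)) (tt N13032 F187525) (tt N15296 D48066))
theorem Q13034 : ∀ i, i < 13034 → P i := stepQ 13033 Q13033 (allL N13033 (tt N15295 (iv F215195)) (tt N10884 F187526) (tt N15276 (iv F215119)) (tt N11299 F187527) (tt N15296 (iv F215200)) (tt N10891 F187528) (tt N14189 (iv F210046)) (tt N15291 (iv F215177)) (tt N15297 D48067) (tt N10882 (iv D44951)))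
theorem Q13035 : ∀ i, i < 13035 → P i := stepQ 13034 Q13034 (allL N13034 (tt N13034 F187529) (tt N14924 (iv F213463)) (tt N11171 F204823) (tt N10883 (iv D44952)) (tt N11300 F187530) (tt N13034 F187531) (tt N11173 F204824) (tt N11330 F204825) (tt N11322 F204826) (tt N15298 D48068))
theorem Q13036 : ∀ i, i < 13036 → P i := stepQ 13035 Q13035 (allL N13035 (tt N13035 F187532) (tt N15296 (iv F215199)) (tt N10885 F187533) (tt N15298 (iv F215207)) (tt N10884 F187534) (tt N13035 F187535) (tt N14190 (iv F210052)) (tt N15292 (iv F215183)) (tt N15299 D48069) (tt N10883 (iv D44953)))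
theorem Q13037 : ∀ i, i < 13037 → P i := stepQ 13036 Q13036 (allL N13036 (tt N13036 F187536) (tt N15297 (iv F215202)) (tt N10886 F187537) (tt N15300 D48070) (tt N15299 (iv F215215)) (tt N10892 F187538) (tt N14191 (iv F210057)) (tt N15293 (iv F215188)) (tt N10884 (iv D44954)) (tt N13036 F187539))
theorem Q13038 : ∀ i, i < 13038 → P i := stepQ 13037 Q13037 (allL N13037 (tt N13037 F187540) (tt N15280 (iv F215128)) (tt N15299 (iv F215214)) (tt N15290 (iv F215170)) (tt N10886 F187541) (tt N13037 F187542) (tt N14192 (iv F210063)) (tt N15294 (iv F215193)) (tt N10885 (iv D44955)) (tt N13037 F187543))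
theorem Q13039 : ∀ i, i < 13039 → P i := stepQ 13038 Q13038 (allL N13038 (tt N10887 (iv D44956)) (tt N13038 F187544) (tt N15281 (iv F215132)) (tt N11301 F187545) (tt N13038 F187546) (tt N14938 F213556) (tt N13038 F187547) (tt N10890 F187548) (tt N13038 F187549) (tt N15301 D48071))
theorem Q13040 : ∀ i, i < 13040 → P i := stepQ 13039 Q13039 (allL N13039 (tt N15301 (iv F215224)) (tt N10888 F187550) (tt N15282 (iv F215138)) (tt N11302 F187551) (tt N13039 F187552) (tt N15291 (iv F215176)) (tt N13039 F187553) (tt N10891 F187554) (tt N15302 D48072) (tt N10887 (iv D44957)))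
theorem Q13041 : ∀ i, i < 13041 → P i := stepQ 13040 Q13040 (allL N13040 (tt N13040 F187555) (tt N15302 (iv F215230)) (tt N10889 F187556) (tt N11489 F206656) (tt N13040 F187557) (tt N15293 (iv F215187)) (tt N13040 F187558) (tt N10892 F187559) (tt N10888 (iv D44958)) (tt N13040 F187560))
theorem Q13042 : ∀ i, i < 13042 → P i := stepQ 13041 Q13041 (allL N13041 (tt N10891 F187561) (tt N13041 F187562) (tt N15284 (iv F215148)) (tt N11303 F187563) (tt N13041 F187564) (tt N15295 (iv F215198)) (tt N10893 F187565) (tt N15301 (iv F215229)) (tt N15303 D48073) (tt N10890 (iv D44959)))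
theorem Q13043 : ∀ i, i < 13043 → P i := stepQ 13042 Q13042 (allL N13042 (tt N15303 (iv F215236)) (tt N10892 F187566) (tt N15285 (iv F215152)) (tt N15304 D48074) (tt N13042 F187567) (tt N15297 (iv F215203)) (tt N10894 F187568) (tt N15302 (iv F215234)) (tt N10891 (iv D44960)) (tt N13042 F187569))
theorem Q13044 : ∀ i, i < 13044 → P i := stepQ 13043 Q13043 (allL N13043 (tt N13043 F187570) (tt N15304 (iv F215241)) (tt N15140 (iv F214552)) (tt N10892 (iv D44961)) (tt N11483 F206654) (tt N15300 (iv F215219)) (tt N10895 F187571) (tt N11489 (iv F206655)) (tt N11305 F187572) (tt N13043 F187573))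
theorem Q13045 : ∀ i, i < 13045 → P i := stepQ 13044 Q13044 (allL N13044 (tt N10894 F187574) (tt N13044 F187575) (tt N15287 (iv F215159)) (tt N13823 (iv F207932)) (tt N13044 F187576) (tt N14199 (iv F210093)) (tt N15303 (iv F215239)) (tt N13044 F187577) (tt N10893 (iv D44962)) (tt N13044 F187578))
theorem Q13046 : ∀ i, i < 13046 → P i := stepQ 13045 Q13045 (allL N13045 (tt N13823 (iv F207929)) (tt N10895 F187579) (tt N14103 (iv F209638)) (tt N10894 (iv D44963)) (tt N13813 (iv F207862)) (tt N14200 (iv F210097)) (tt N15304 (iv F215242)) (tt N13045 F187580) (tt N11307 F187581) (tt N13045 F187582))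
theorem Q13047 : ∀ i, i < 13047 → P i := stepQ 13046 Q13046 (allL N13046 (tt N13046 F187583) (tt N13813 (iv F207859)) (tt N15143 (iv F214567)) (tt N13046 F187584) (tt N10895 (iv D44964)) (tt N13812 (iv F207854)) (tt N11483 (iv F206653)) (tt N13046 F187585) (tt N11308 F187586) (tt N13046 F187587))
theorem Q13048 : ∀ i, i < 13048 → P i := stepQ 13047 Q13047 (allL N13047 (tt N10909 F187637) (tt N10927 F197899) (tt N13047 F187638) (tt N15305 D48075) (tt N10915 F201736) (tt N14228 (iv F210293)) (tt N10917 F201737) (tt N10982 F187640) (tt N10897 (iv D44976)) (tt N15306 D48076))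
theorem Q13049 : ∀ i, i < 13049 → P i := stepQ 13048 Q13048 (allL N13048 (tt N10911 F187650) (tt N10924 F197111) (tt N10904 F187651) (tt N15307 D48077) (tt N10900 F187652) (tt N14280 (iv F210564)) (tt N10899 F187653) (tt N11032 F197112) (tt N10898 (iv D44979)) (tt N15308 D48078))
theorem Q13050 : ∀ i, i < 13050 → P i := stepQ 13049 Q13049 (allL N13049 (tt N10912 F187654) (tt N14986 (iv F213833)) (tt N15309 D48079) (tt N10899 (iv D44980)) (tt N14984 (iv F213821)) (tt N14232 (iv F210312)) (tt N15307 (iv F215263)) (tt N10986 F187655) (tt N15305 (iv F215252)) (tt N15310 D48080))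
theorem Q13051 : ∀ i, i < 13051 → P i := stepQ 13050 Q13050 (allL N13050 (tt N10913 F187656) (tt N14988 (iv F213842)) (tt N10906 F187657) (tt N15310 (iv F215277)) (tt N10901 F187658) (tt N14233 (iv F210317)) (tt N15308 (iv F215270)) (tt N10987 F187659) (tt N10929 F187660) (tt N10899 (iv D44981)))
theorem Q13052 : ∀ i, i < 13052 → P i := stepQ 13051 Q13051 (allL N13051 (tt N10916 F187671) (tt N11613 (iv F206588)) (tt N10908 F187672) (tt N11612 (iv F206589)) (tt N15308 (iv F215269)) (tt N13051 F187673) (tt N10901 F187674) (tt N11617 F206587) (tt N10931 F187675) (tt N10900 (iv D44984)))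
theorem Q13053 : ∀ i, i < 13053 → P i := stepQ 13052 Q13052 (allL N13052 (tt N10919 F187720) (tt N13052 F187721) (tt N15308 (iv F215268)) (tt N14346 (iv F210868)) (tt N10908 F187722) (tt N15008 (iv F213947)) (tt N10906 F187723) (tt N13997 (iv F209035)) (tt N10936 F187724) (tt N10904 (iv D44994)))
theorem Q13054 : ∀ i, i < 13054 → P i := stepQ 13053 Q13053 (allL N13053 (tt N10920 F187725) (tt N15311 D48081) (tt N10905 (iv D44995)) (tt N15309 (iv F215274)) (tt N13053 F187726) (tt N14243 (iv F210372)) (tt N14343 (iv F210852)) (tt N10995 F187727) (tt N13053 F187728) (tt N15312 D48082))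
theorem Q13055 : ∀ i, i < 13055 → P i := stepQ 13054 Q13054 (allL N13054 (tt N10921 F187729) (tt N13054 F187730) (tt N15312 (iv F215284)) (tt N10906 F187731) (tt N13054 F187732) (tt N14244 (iv F210379)) (tt N14346 (iv F210871)) (tt N10996 F187733) (tt N15313 D48083) (tt N10905 (iv D44996)))
theorem Q13056 : ∀ i, i < 13056 → P i := stepQ 13055 Q13055 (allL N13055 (tt N10922 F187734) (tt N13055 F187735) (tt N11617 F206585) (tt N13055 F187736) (tt N13997 (iv F209032)) (tt N13055 F187737) (tt N10997 F187738) (tt N10908 F187739) (tt N10939 F187740) (tt N10907 (iv D44997)))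
theorem Q13057 : ∀ i, i < 13057 → P i := stepQ 13056 Q13056 (allL N13056 (tt N15305 (iv F215247)) (tt N14981 (iv F213802)) (tt N15314 D48084) (tt N10909 (iv D45001)) (tt N15307 (iv F215262)) (tt N14248 (iv F210402)) (tt N14984 (iv F213822)) (tt N11000 F187752) (tt N10912 F187753) (tt N15315 D48085))
theorem Q13058 : ∀ i, i < 13058 → P i := stepQ 13057 Q13057 (allL N13057 (tt N15306 (iv F215253)) (tt N14982 (iv F213808)) (tt N13057 F187754) (tt N15315 (iv F215296)) (tt N11612 F187755) (tt N14249 (iv F210407)) (tt N14985 (iv F213829)) (tt N11001 F187756) (tt N10942 F187757) (tt N10909 (iv D45002)))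
theorem Q13059 : ∀ i, i < 13059 → P i := stepQ 13058 Q13058 (allL N13058 (tt N15307 (iv F215260)) (tt N13886 F208382) (tt N14327 (iv F210779)) (tt N10911 (iv D45006)) (tt N15305 (iv F215249)) (tt N14996 (iv F213891)) (tt N10912 F187769) (tt N13977 (iv F208931)) (tt N14984 (iv F213824)) (tt N15316 D48086))
theorem Q13060 : ∀ i, i < 13060 → P i := stepQ 13059 Q13059 (allL N13059 (tt N15308 (iv F215266)) (tt N13895 (iv F208427)) (tt N10919 F187770) (tt N15316 (iv F215298)) (tt N10916 F187771) (tt N15007 (iv F213940)) (tt N10913 F187772) (tt N13996 (iv F209026)) (tt N10947 F187773) (tt N10911 (iv D45007)))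
theorem Q13061 : ∀ i, i < 13061 → P i := stepQ 13060 Q13060 (allL N13060 (tt N15309 (iv F215273)) (tt N14324 (iv F210769)) (tt N10912 (iv D45008)) (tt N10920 F187774) (tt N15317 D48087) (tt N14255 (iv F210431)) (tt N14327 (iv F210782)) (tt N11007 F187775) (tt N15314 (iv F215295)) (tt N15318 D48088))
theorem Q13062 : ∀ i, i < 13062 → P i := stepQ 13061 Q13061 (allL N13061 (tt N14984 (iv F213819)) (tt N10928 F201902) (tt N15317 (iv F215300)) (tt N10917 F187776) (tt N10912 (iv D45009)) (tt N14283 (iv F210579)) (tt N15305 (iv F215250)) (tt N11008 F187777) (tt N15307 (iv F215265)) (tt N15319 D48089))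
theorem Q13063 : ∀ i, i < 13063 → P i := stepQ 13062 Q13062 (allL N13062 (tt N15310 (iv F215276)) (tt N14983 (iv F213815)) (tt N15318 (iv F215303)) (tt N10913 F187778) (tt N15319 (iv F215308)) (tt N14257 (iv F210436)) (tt N15316 (iv F215299)) (tt N11009 F187779) (tt N15320 D48090) (tt N10912 (iv D45010)))
theorem Q13064 : ∀ i, i < 13064 → P i := stepQ 13063 Q13063 (allL N13063 (tt N11617 F206583) (tt N11592 F206578) (tt N10922 F187785) (tt N11615 F206606) (tt N13996 (iv F209023)) (tt N13063 F187786) (tt N11011 F187787) (tt N10916 F187788) (tt N10951 F187789) (tt N10914 (iv D45012)))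
theorem Q13065 : ∀ i, i < 13065 → P i := stepQ 13064 Q13064 (allL N13064 (tt N11612 F206590) (tt N10931 F201738) (tt N13064 F187793) (tt N10916 F187794) (tt N15306 (iv F215256)) (tt N13064 F187795) (tt N10918 F187796) (tt N11615 (iv F206605)) (tt N11613 F206604) (tt N10915 (iv D45014)))
theorem Q13066 : ∀ i, i < 13066 → P i := stepQ 13065 Q13065 (allL N13065 (tt N14985 (iv F213825)) (tt N10929 F201903) (tt N13065 F187801) (tt N15319 (iv F215307)) (tt N10918 F187802) (tt N14284 (iv F210584)) (tt N15306 (iv F215257)) (tt N11014 F187803) (tt N14988 (iv F213847)) (tt N10917 (iv D45016)))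
theorem Q13067 : ∀ i, i < 13067 → P i := stepQ 13066 Q13066 (allL N13066 (tt N15312 (iv F215283)) (tt N14341 (iv F210839)) (tt N10921 F187857) (tt N15318 (iv F215304)) (tt N13066 F187858) (tt N14273 (iv F210521)) (tt N14344 (iv F210859)) (tt N11023 F187859) (tt N15321 D48091) (tt N10920 (iv D45030)))
theorem Q13068 : ∀ i, i < 13068 → P i := stepQ 13067 Q13067 (allL N13067 (tt N15313 (iv F215287)) (tt N10923 F187860) (tt N15321 (iv F215312)) (tt N10967 F187861) (tt N13067 F187862) (tt N14274 (iv F210525)) (tt N14347 (iv F210877)) (tt N11024 F187863) (tt N10921 (iv D45031)) (tt N13067 F187864))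
theorem Q13069 : ∀ i, i < 13069 → P i := stepQ 13068 Q13068 (allL N13068 (tt N10941 F188007) (tt N15307 (iv F215261)) (tt N15322 D48092) (tt N10924 (iv D45068)) (tt N14981 (iv F213803)) (tt N14288 (iv F210603)) (tt N14986 (iv F213835)) (tt N11036 F188008) (tt N10928 F188009) (tt N15323 D48093))
theorem Q13070 : ∀ i, i < 13070 → P i := stepQ 13069 Q13069 (allL N13069 (tt N10942 F188010) (tt N15308 (iv F215267)) (tt N13069 F188011) (tt N15323 (iv F215321)) (tt N11613 F188012) (tt N14289 (iv F210609)) (tt N14988 (iv F213845)) (tt N11037 F188013) (tt N15306 (iv F215259)) (tt N10924 (iv D45069)))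
theorem Q13071 : ∀ i, i < 13071 → P i := stepQ 13070 Q13070 (allL N13070 (tt N10944 F188018) (tt N14228 (iv F210290)) (tt N10933 F188019) (tt N15324 D48094) (tt N13070 F188020) (tt N10927 F188021) (tt N14291 (iv F210619)) (tt N14385 (iv F211106)) (tt N10925 (iv D45071)) (tt N15325 D48095))
theorem Q13072 : ∀ i, i < 13072 → P i := stepQ 13071 Q13071 (allL N13071 (tt N10945 F188022) (tt N10982 F197915) (tt N10934 F188023) (tt N13978 (iv F208937)) (tt N10930 F188024) (tt N14385 (iv F211105)) (tt N11040 F188025) (tt N10927 F188026) (tt N10926 (iv D45072)) (tt N15326 D48096))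
theorem Q13073 : ∀ i, i < 13073 → P i := stepQ 13072 Q13072 (allL N13072 (tt N10946 F188027) (tt N15305 (iv F215248)) (tt N13887 (iv F208386)) (tt N10927 (iv D45073)) (tt N13886 F208383) (tt N15324 (iv F215324)) (tt N10928 F188028) (tt N13978 (iv F208939)) (tt N14986 (iv F213837)) (tt N15327 D48097))
theorem Q13074 : ∀ i, i < 13074 → P i := stepQ 13073 Q13073 (allL N13073 (tt N10947 F188029) (tt N15306 (iv F215254)) (tt N10936 F188030) (tt N15327 (iv F215337)) (tt N10931 F188031) (tt N15325 (iv F215328)) (tt N10929 F188032) (tt N15326 (iv F215334)) (tt N15308 (iv F215272)) (tt N10927 (iv D45074)))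
theorem Q13075 : ∀ i, i < 13075 → P i := stepQ 13074 Q13074 (allL N13074 (tt N10948 F188033) (tt N14325 (iv F210773)) (tt N10928 (iv D45075)) (tt N10937 F188034) (tt N13884 (iv F208367)) (tt N14295 (iv F210634)) (tt N13887 (iv F208388)) (tt N11043 F188035) (tt N15322 (iv F215319)) (tt N15328 D48098))
theorem Q13076 : ∀ i, i < 13076 → P i := stepQ 13075 Q13075 (allL N13075 (tt N10950 F188039) (tt N15319 (iv F215306)) (tt N15328 (iv F215340)) (tt N10929 F188040) (tt N14983 (iv F213817)) (tt N14297 (iv F210641)) (tt N15327 (iv F215338)) (tt N11044 F188041) (tt N15329 D48099) (tt N10928 (iv D45077)))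
theorem Q13077 : ∀ i, i < 13077 → P i := stepQ 13076 Q13076 (allL N13076 (tt N10951 F188048) (tt N11615 F206584) (tt N10939 F188049) (tt N11592 F206579) (tt N15326 (iv F215332)) (tt N13076 F188050) (tt N11045 F188051) (tt N10931 F188052) (tt N11617 (iv F206582)) (tt N10930 (iv D45079)))
theorem Q13078 : ∀ i, i < 13078 → P i := stepQ 13077 Q13077 (allL N13077 (tt N10957 F188090) (tt N13077 F188091) (tt N14384 (iv F211096)) (tt N13077 F188092) (tt N13077 F188093) (tt N11046 F188094) (tt N10932 (iv D45088)) (tt N14303 (iv F210677)) (tt N15330 D48100) (tt N14484 (iv F211516)))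
theorem Q13079 : ∀ i, i < 13079 → P i := stepQ 13078 Q13078 (allL N13078 (tt N10958 F188095) (tt N13078 F188096) (tt N14385 (iv F211103)) (tt N13804 (iv F207802)) (tt N13078 F188097) (tt N10934 F188098) (tt N15330 (iv F215349)) (tt N10933 F188099) (tt N10932 (iv D45089)) (tt N15090 (iv F214308)))
theorem Q13080 : ∀ i, i < 13080 → P i := stepQ 13079 Q13079 (allL N13079 (tt N10959 F188100) (tt N13079 F188101) (tt N13889 (iv F208396)) (tt N10933 (iv D45090)) (tt N13798 (iv F207759)) (tt N10935 F188102) (tt N14277 (iv F210545)) (tt N13804 (iv F207804)) (tt N13079 F188103) (tt N15331 D48101))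
theorem Q13081 : ∀ i, i < 13081 → P i := stepQ 13080 Q13080 (allL N13080 (tt N10960 F188104) (tt N13080 F188105) (tt N15325 (iv F215326)) (tt N15331 (iv F215352)) (tt N13080 F188106) (tt N10936 F188107) (tt N14304 (iv F210682)) (tt N15090 (iv F214307)) (tt N15008 (iv F213949)) (tt N10933 (iv D45091)))
theorem Q13082 : ∀ i, i < 13082 → P i := stepQ 13081 Q13081 (allL N13081 (tt N10962 F188114) (tt N13081 F188115) (tt N15326 (iv F215331)) (tt N13805 (iv F207809)) (tt N10939 F188116) (tt N15090 (iv F214306)) (tt N11051 F188117) (tt N10936 F188118) (tt N13997 (iv F209036)) (tt N10934 (iv D45093)))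
theorem Q13083 : ∀ i, i < 13083 → P i := stepQ 13082 Q13082 (allL N13082 (tt N10964 F188123) (tt N13082 F188124) (tt N13890 (iv F208402)) (tt N10936 F188125) (tt N11390 F188126) (tt N15331 (iv F215353)) (tt N10938 F188127) (tt N13805 (iv F207812)) (tt N15332 D48102) (tt N10935 (iv D45095)))
theorem Q13084 : ∀ i, i < 13084 → P i := stepQ 13083 Q13083 (allL N13083 (tt N10966 F188132) (tt N14333 (iv F210799)) (tt N10938 F188133) (tt N15328 (iv F215341)) (tt N11391 F188134) (tt N14309 (iv F210708)) (tt N13890 (iv F208404)) (tt N11055 F188135) (tt N15333 D48103) (tt N10937 (iv D45097)))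
theorem Q13085 : ∀ i, i < 13085 → P i := stepQ 13084 Q13084 (allL N13084 (tt N10967 F188136) (tt N13084 F188137) (tt N15333 (iv F215360)) (tt N15313 (iv F215289)) (tt N11392 F188138) (tt N14310 (iv F210713)) (tt N15332 (iv F215357)) (tt N11056 F188139) (tt N10938 (iv D45098)) (tt N13084 F188140))
theorem Q13086 : ∀ i, i < 13086 → P i := stepQ 13085 Q13085 (allL N13085 (tt N15322 (iv F215316)) (tt N15334 D48104) (tt N10941 (iv D45105)) (tt N13085 F188158) (tt N14994 (iv F213880)) (tt N14316 (iv F210738)) (tt N14997 (iv F213895)) (tt N11062 F188159) (tt N10948 F188160) (tt N15335 D48105))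
theorem Q13087 : ∀ i, i < 13087 → P i := stepQ 13086 Q13086 (allL N13086 (tt N15323 (iv F215320)) (tt N14991 (iv F213864)) (tt N15335 (iv F215367)) (tt N10942 F188164) (tt N14995 (iv F213886)) (tt N14318 (iv F210745)) (tt N15000 (iv F213908)) (tt N11064 F188165) (tt N15336 D48106) (tt N10941 (iv D45107)))
theorem Q13088 : ∀ i, i < 13088 → P i := stepQ 13087 Q13087 (allL N13087 (tt N14384 (iv F211094)) (tt N11621 (iv F206413)) (tt N10957 F188166) (tt N11593 F206417) (tt N13087 F188167) (tt N11065 F188168) (tt N10943 (iv D45108)) (tt N14319 (iv F210752)) (tt N15337 D48107) (tt N13933 (iv F208666)))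
theorem Q13089 : ∀ i, i < 13089 → P i := stepQ 13088 Q13088 (allL N13088 (tt N14385 (iv F211101)) (tt N11619 F206520) (tt N10958 F188169) (tt N15041 (iv F214114)) (tt N13088 F188170) (tt N10945 F188171) (tt N15337 (iv F215376)) (tt N10944 F188172) (tt N10943 (iv D45109)) (tt N15082 (iv F214270)))
theorem Q13090 : ∀ i, i < 13090 → P i := stepQ 13089 Q13089 (allL N13089 (tt N15324 (iv F215323)) (tt N14992 (iv F213869)) (tt N15338 D48108) (tt N10944 (iv D45110)) (tt N15339 D48109) (tt N10946 F188173) (tt N14320 (iv F210754)) (tt N15041 (iv F214115)) (tt N14999 (iv F213904)) (tt N15340 D48110))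
theorem Q13091 : ∀ i, i < 13091 → P i := stepQ 13090 Q13090 (allL N13090 (tt N15325 (iv F215325)) (tt N14993 (iv F213873)) (tt N10960 F188174) (tt N15340 (iv F215380)) (tt N13090 F188175) (tt N10947 F188176) (tt N14321 (iv F210758)) (tt N15082 (iv F214269)) (tt N15007 (iv F213942)) (tt N10944 (iv D45111)))
theorem Q13092 : ∀ i, i < 13092 → P i := stepQ 13091 Q13091 (allL N13091 (tt N15326 (iv F215329)) (tt N11620 (iv F206527)) (tt N10962 F188179) (tt N15042 (iv F214118)) (tt N10951 F188180) (tt N15082 (iv F214268)) (tt N11070 F188181) (tt N10947 F188182) (tt N13996 (iv F209027)) (tt N10945 (iv D45113)))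
theorem Q13093 : ∀ i, i < 13093 → P i := stepQ 13092 Q13092 (allL N13092 (tt N13887 (iv F208384)) (tt N15341 D48111) (tt N10946 (iv D45114)) (tt N10963 F188183) (tt N13875 (iv F208305)) (tt N15338 (iv F215378)) (tt N10948 F188184) (tt N13950 (iv F208777)) (tt N14997 (iv F213897)) (tt N15342 D48112))
theorem Q13094 : ∀ i, i < 13094 → P i := stepQ 13093 Q13093 (allL N13093 (tt N15327 (iv F215336)) (tt N14995 (iv F213884)) (tt N15342 (iv F215384)) (tt N10947 F188187) (tt N14991 (iv F213866)) (tt N15340 (iv F215381)) (tt N10950 F188188) (tt N15042 (iv F214121)) (tt N15343 D48113) (tt N10946 (iv D45116)))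
theorem Q13095 : ∀ i, i < 13095 → P i := stepQ 13094 Q13094 (allL N13094 (tt N15344 D48114) (tt N10948 (iv D45117)) (tt N14996 (iv F213889)) (tt N10965 F188189) (tt N15345 D48115) (tt N14327 (iv F210781)) (tt N15341 (iv F215383)) (tt N11074 F188190) (tt N15334 (iv F215366)) (tt N15346 D48116))
theorem Q13096 : ∀ i, i < 13096 → P i := stepQ 13095 Q13095 (allL N13095 (tt N13884 (iv F208364)) (tt N15345 (iv F215390)) (tt N10949 F188191) (tt N11394 F188192) (tt N10948 (iv D45118)) (tt N15347 D48117) (tt N13875 (iv F208307)) (tt N11075 F188193) (tt N14994 (iv F213883)) (tt N15348 D48118))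
theorem Q13097 : ∀ i, i < 13097 → P i := stepQ 13096 Q13096 (allL N13096 (tt N15328 (iv F215339)) (tt N15346 (iv F215393)) (tt N10950 F188194) (tt N10966 F188195) (tt N15348 (iv F215401)) (tt N14329 (iv F210789)) (tt N15342 (iv F215386)) (tt N11076 F188196) (tt N15349 D48119) (tt N10948 (iv D45119)))
theorem Q13098 : ∀ i, i < 13098 → P i := stepQ 13097 Q13097 (allL N13097 (tt N13859 (iv F208189)) (tt N14999 (iv F213901)) (tt N15347 (iv F215396)) (tt N10953 F188197) (tt N14330 (iv F210792)) (tt N10949 (iv D45120)) (tt N15350 D48120) (tt N11077 F188198) (tt N14992 (iv F213872)) (tt N15351 D48121))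
theorem Q13099 : ∀ i, i < 13099 → P i := stepQ 13098 Q13098 (allL N13098 (tt N14983 (iv F213814)) (tt N15000 (iv F213905)) (tt N15348 (iv F215399)) (tt N10954 F188199) (tt N10950 F188200) (tt N15351 (iv F215407)) (tt N14991 (iv F213867)) (tt N11078 F188201) (tt N15352 D48122) (tt N10949 (iv D45121)))
theorem Q13100 : ∀ i, i < 13100 → P i := stepQ 13099 Q13099 (allL N13099 (tt N15329 (iv F215343)) (tt N15001 (iv F213910)) (tt N15349 (iv F215403)) (tt N15320 (iv F215310)) (tt N15352 (iv F215409)) (tt N14332 (iv F210797)) (tt N15343 (iv F215387)) (tt N11079 F188202) (tt N10950 (iv D45122)) (tt N15336 (iv F215371)))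
theorem Q13101 : ∀ i, i < 13101 → P i := stepQ 13100 Q13100 (allL N13100 (tt N13858 (iv F208183)) (tt N14312 (iv F210723)) (tt N11401 F188222) (tt N15350 (iv F215405)) (tt N10955 F188223) (tt N13881 (iv F208350)) (tt N10953 (iv D45128)) (tt N15353 D48123) (tt N11614 F188224) (tt N15354 D48124))
theorem Q13102 : ∀ i, i < 13102 → P i := stepQ 13101 Q13101 (allL N13101 (tt N13860 (iv F208193)) (tt N15002 (iv F213912)) (tt N11402 F188225) (tt N15351 (iv F215406)) (tt N10956 F188226) (tt N10954 F188227) (tt N15354 (iv F215418)) (tt N11084 F188228) (tt N13876 (iv F208316)) (tt N10953 (iv D45129)))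
theorem Q13103 : ∀ i, i < 13103 → P i := stepQ 13102 Q13102 (allL N13102 (tt N13861 (iv F208200)) (tt N15003 (iv F213917)) (tt N11403 F188233) (tt N14338 (iv F210822)) (tt N15353 (iv F215412)) (tt N13102 F188234) (tt N11085 F188235) (tt N10955 (iv D45131)) (tt N11442 (iv F205438)) (tt N11456 F206460))
theorem Q13104 : ∀ i, i < 13104 → P i := stepQ 13103 Q13103 (allL N13103 (tt N13863 (iv F208213)) (tt N15004 (iv F213923)) (tt N11398 (iv F206461)) (tt N14339 (iv F210828)) (tt N15354 (iv F215417)) (tt N13103 F188238) (tt N10956 F188239) (tt N11456 F206459) (tt N11395 (iv F206464)) (tt N10955 (iv D45132)))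
theorem Q13105 : ∀ i, i < 13105 → P i := stepQ 13104 Q13104 (allL N13104 (tt N15330 (iv F215345)) (tt N10968 F188247) (tt N15337 (iv F215373)) (tt N14475 (iv F211466)) (tt N13104 F188248) (tt N11087 F188249) (tt N10958 F188250) (tt N13928 (iv F208630)) (tt N10957 (iv D45135)) (tt N15089 (iv F214302)))
theorem Q13106 : ∀ i, i < 13106 → P i := stepQ 13105 Q13105 (allL N13105 (tt N13804 (iv F207799)) (tt N10969 F188251) (tt N13952 (iv F208785)) (tt N10958 (iv D45136)) (tt N13801 (iv F207781)) (tt N10961 F188252) (tt N14475 (iv F211468)) (tt N10959 F188253) (tt N13105 F188254) (tt N15091 (iv F214313)))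
theorem Q13107 : ∀ i, i < 13107 → P i := stepQ 13106 Q13106 (allL N13106 (tt N13889 (iv F208394)) (tt N14236 (iv F210332)) (tt N10959 (iv D45138)) (tt N15338 (iv F215377)) (tt N13877 (iv F208321)) (tt N10963 F188259) (tt N14272 (iv F210517)) (tt N13952 (iv F208787)) (tt N13106 F188260) (tt N15355 D48125))
theorem Q13108 : ∀ i, i < 13108 → P i := stepQ 13107 Q13107 (allL N13107 (tt N13798 (iv F207755)) (tt N10970 F188261) (tt N13877 (iv F208319)) (tt N13107 F188262) (tt N10959 (iv D45139)) (tt N11404 F188263) (tt N14219 (iv F210235)) (tt N13801 (iv F207782)) (tt N13107 F188264) (tt N15356 D48126))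
theorem Q13109 : ∀ i, i < 13109 → P i := stepQ 13108 Q13108 (allL N13108 (tt N15331 (iv F215350)) (tt N10971 F188265) (tt N15355 (iv F215421)) (tt N10960 F188266) (tt N15356 (iv F215425)) (tt N10964 F188267) (tt N14278 (iv F210551)) (tt N15091 (iv F214311)) (tt N15357 D48127) (tt N10959 (iv D45140)))
theorem Q13110 : ∀ i, i < 13110 → P i := stepQ 13109 Q13109 (allL N13109 (tt N13805 (iv F207806)) (tt N10973 F188272) (tt N13953 (iv F208790)) (tt N10962 F188273) (tt N11406 F188274) (tt N15091 (iv F214310)) (tt N11094 F188275) (tt N10964 F188276) (tt N14622 (iv F212077)) (tt N10961 (iv D45142)))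
theorem Q13111 : ∀ i, i < 13111 → P i := stepQ 13110 Q13110 (allL N13110 (tt N14261 (iv F210454)) (tt N10963 (iv D45143)) (tt N10974 F188277) (tt N15341 (iv F215382)) (tt N11407 F188278) (tt N14236 (iv F210334)) (tt N10965 F188279) (tt N13940 (iv F208711)) (tt N13110 F188280) (tt N15358 D48128))
theorem Q13112 : ∀ i, i < 13112 → P i := stepQ 13111 Q13111 (allL N13111 (tt N13890 (iv F208400)) (tt N15358 (iv F215432)) (tt N10964 F188281) (tt N15342 (iv F215385)) (tt N11408 F188282) (tt N15355 (iv F215422)) (tt N10966 F188283) (tt N13953 (iv F208793)) (tt N15359 D48129) (tt N10963 (iv D45144)))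
theorem Q13113 : ∀ i, i < 13113 → P i := stepQ 13112 Q13112 (allL N13112 (tt N15332 (iv F215354)) (tt N10976 F188284) (tt N15359 (iv F215436)) (tt N14347 (iv F210874)) (tt N11409 F188285) (tt N15357 (iv F215429)) (tt N10967 F188286) (tt N14622 (iv F212076)) (tt N10964 (iv D45145)) (tt N13112 F188287))
theorem Q13114 : ∀ i, i < 13114 → P i := stepQ 13113 Q13113 (allL N13113 (tt N10965 (iv D45146)) (tt N14299 (iv F210651)) (tt N10977 F188288) (tt N15344 (iv F215388)) (tt N11410 F188289) (tt N14343 (iv F210851)) (tt N14261 F210460) (tt N11098 F188290) (tt N13113 F188291) (tt N15360 D48130))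
theorem Q13115 : ∀ i, i < 13115 → P i := stepQ 13114 Q13114 (allL N13114 (tt N15360 (iv F215440)) (tt N10966 F188292) (tt N10978 F188293) (tt N15346 (iv F215394)) (tt N11411 F188294) (tt N14344 (iv F210858)) (tt N15358 (iv F215435)) (tt N11099 F188295) (tt N15361 D48131) (tt N10965 (iv D45147)))
theorem Q13116 : ∀ i, i < 13116 → P i := stepQ 13115 Q13115 (allL N13115 (tt N15333 (iv F215359)) (tt N15361 (iv F215444)) (tt N10967 F188296) (tt N15362 D48132) (tt N11412 F188297) (tt N14345 (iv F210863)) (tt N15359 (iv F215438)) (tt N11100 F188298) (tt N10966 (iv D45148)) (tt N13115 F188299))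
theorem Q13117 : ∀ i, i < 13117 → P i := stepQ 13116 Q13116 (allL N13116 (tt N13116 F188312) (tt N13801 (iv F207778)) (tt N14216 (iv F210217)) (tt N13116 F188313) (tt N10969 (iv D45152)) (tt N11414 F188314) (tt N14376 (iv F211059)) (tt N10970 F188315) (tt N13116 F188316) (tt N15092 (iv F214319)))
theorem Q13118 : ∀ i, i < 13118 → P i := stepQ 13117 Q13117 (allL N13117 (tt N13117 F188330) (tt N15356 (iv F215423)) (tt N14218 (iv F210227)) (tt N13117 F188331) (tt N10971 F188332) (tt N11419 F188333) (tt N14220 (iv F210243)) (tt N15092 (iv F214317)) (tt N15363 D48133) (tt N10970 (iv D45157)))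
theorem Q13119 : ∀ i, i < 13119 → P i := stepQ 13118 Q13118 (allL N13118 (tt N13118 F188334) (tt N15357 (iv F215427)) (tt N14276 (iv F210536)) (tt N10979 F206502) (tt N15363 (iv F215452)) (tt N10976 F188335) (tt N14279 (iv F210557)) (tt N11119 F206503) (tt N10971 (iv D45158)) (tt N13118 F188336))
theorem Q13120 : ∀ i, i < 13120 → P i := stepQ 13119 Q13119 (allL N13119 (tt N14359 (iv F210954)) (tt N10972 (iv D45159)) (tt N13940 (iv F208708)) (tt N14267 F210491) (tt N11421 F188337) (tt N14269 (iv F210501)) (tt N11111 F188338) (tt N10974 F188339) (tt N13119 F188340) (tt N15364 D48134))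
theorem Q13121 : ∀ i, i < 13121 → P i := stepQ 13120 Q13120 (allL N13120 (tt N13120 F188341) (tt N15364 (iv F215457)) (tt N10973 F188342) (tt N13932 F208658) (tt N11422 F188343) (tt N14275 (iv F210531)) (tt N11112 F188344) (tt N10975 F188345) (tt N14483 (iv F211506)) (tt N10972 (iv D45160)))
theorem Q13122 : ∀ i, i < 13122 → P i := stepQ 13121 Q13121 (allL N13121 (tt N10974 (iv D45162)) (tt N13121 F188351) (tt N14261 (iv F210456)) (tt N14240 F210358) (tt N11424 F188352) (tt N14209 (iv F210166)) (tt N10977 F188353) (tt N14359 (iv F210958)) (tt N13121 F188354) (tt N15365 D48135))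
theorem Q13123 : ∀ i, i < 13123 → P i := stepQ 13122 Q13122 (allL N13122 (tt N15365 (iv F215461)) (tt N10975 F188355) (tt N15358 (iv F215433)) (tt N14268 (iv F210493)) (tt N11425 F188356) (tt N14271 (iv F210513)) (tt N10978 F188357) (tt N15364 (iv F215460)) (tt N15366 D48136) (tt N10974 (iv D45163)))
theorem Q13124 : ∀ i, i < 13124 → P i := stepQ 13123 Q13123 (allL N13123 (tt N13123 F188358) (tt N15366 (iv F215465)) (tt N10976 F188359) (tt N14279 (iv F210555)) (tt N11426 F188360) (tt N14276 (iv F210538)) (tt N10979 F188361) (tt N14483 (iv F211505)) (tt N10975 (iv D45164)) (tt N13123 F188362))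
theorem Q13125 : ∀ i, i < 13125 → P i := stepQ 13124 Q13124 (allL N13124 (tt N10978 F188363) (tt N13124 F188364) (tt N15360 (iv F215441)) (tt N15008 (iv F213945)) (tt N11427 F188365) (tt N14346 (iv F210870)) (tt N15365 (iv F215464)) (tt N11117 F188366) (tt N15367 D48137) (tt N10977 (iv D45165)))
theorem Q13126 : ∀ i, i < 13126 → P i := stepQ 13125 Q13125 (allL N13125 (tt N15367 (iv F215469)) (tt N10979 F188367) (tt N15361 (iv F215445)) (tt N15357 (iv F215428)) (tt N11428 F188368) (tt N14347 (iv F210876)) (tt N15366 (iv F215467)) (tt N11118 F188369) (tt N10978 (iv D45166)) (tt N13125 F188370))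
theorem Q13127 : ∀ i, i < 13127 → P i := stepQ 13126 Q13126 (allL N13126 (tt N11058 F198686) (tt N10983 F188384) (tt N13126 F188385) (tt N11038 F198687) (tt N11120 F188386) (tt N10980 (iv D45171)) (tt N14386 (iv F211112)) (tt N11034 F198688) (tt N15030 (iv F214051)) (tt N11033 F188387))
theorem Q13128 : ∀ i, i < 13128 → P i := stepQ 13127 Q13127 (allL N13127 (tt N10998 F188440) (tt N11038 F198716) (tt N13127 F188441) (tt N10983 F188442) (tt N11194 F198717) (tt N10981 (iv D45187)) (tt N14393 (iv F211148)) (tt N11033 F198718) (tt N15368 D48138) (tt N11034 F188443))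
theorem Q13129 : ∀ i, i < 13129 → P i := stepQ 13128 Q13128 (allL N13128 (tt N10999 F188449) (tt N11040 F198719) (tt N13128 F188450) (tt N15369 D48139) (tt N11010 F202606) (tt N15368 (iv F215478)) (tt N10982 F188452) (tt N11012 F202607) (tt N10981 (iv D45189)) (tt N15370 D48140))
theorem Q13130 : ∀ i, i < 13130 → P i := stepQ 13129 Q13129 (allL N13129 (tt N11000 F188453) (tt N13978 (iv F208935)) (tt N14574 (iv F211866)) (tt N10982 (iv D45190)) (tt N13977 F208933) (tt N14396 (iv F211161)) (tt N15369 (iv F215483)) (tt N15305 (iv F215251)) (tt N10986 F188454) (tt N15371 D48141))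
theorem Q13131 : ∀ i, i < 13131 → P i := stepQ 13130 Q13130 (allL N13130 (tt N11001 F188455) (tt N15326 (iv F215330)) (tt N13130 F188456) (tt N15371 (iv F215494)) (tt N11615 F188457) (tt N14397 (iv F211166)) (tt N15370 (iv F215490)) (tt N15306 (iv F215258)) (tt N11037 F188458) (tt N10982 (iv D45191)))
theorem Q13132 : ∀ i, i < 13132 → P i := stepQ 13131 Q13131 (allL N13131 (tt N11002 F188459) (tt N11034 F197903) (tt N10990 F188460) (tt N11033 F197904) (tt N11122 F188461) (tt N10984 F188462) (tt N14485 (iv F211521)) (tt N10983 (iv D45192)) (tt N15372 D48142) (tt N11038 F188463))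
theorem Q13133 : ∀ i, i < 13133 → P i := stepQ 13132 Q13132 (allL N13132 (tt N11003 F188464) (tt N15030 (iv F214047)) (tt N10991 F188465) (tt N15373 D48143) (tt N11123 F188466) (tt N10985 F188467) (tt N14399 (iv F211177)) (tt N15372 (iv F215500)) (tt N10983 (iv D45193)) (tt N15374 D48144))
theorem Q13134 : ∀ i, i < 13134 → P i := stepQ 13133 Q13133 (allL N13133 (tt N11004 F188468) (tt N11035 F197905) (tt N10992 F188469) (tt N15375 D48145) (tt N10988 F188470) (tt N15372 (iv F215499)) (tt N11032 F197906) (tt N10985 F188471) (tt N10984 (iv D45194)) (tt N15376 D48146))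
theorem Q13135 : ∀ i, i < 13135 → P i := stepQ 13134 Q13134 (allL N13134 (tt N11005 F188472) (tt N15026 (iv F214032)) (tt N15377 D48147) (tt N10985 (iv D45195)) (tt N15021 (iv F214009)) (tt N15373 (iv F215502)) (tt N10986 F188473) (tt N15375 (iv F215512)) (tt N15369 (iv F215485)) (tt N15378 D48148))
theorem Q13136 : ∀ i, i < 13136 → P i := stepQ 13135 Q13135 (allL N13135 (tt N11006 F188474) (tt N15031 (iv F214053)) (tt N10994 F188475) (tt N15378 (iv F215525)) (tt N10989 F188476) (tt N15374 (iv F215506)) (tt N10987 F188477) (tt N15376 (iv F215519)) (tt N11042 F188478) (tt N10985 (iv D45196)))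
theorem Q13137 : ∀ i, i < 13137 → P i := stepQ 13136 Q13136 (allL N13136 (tt N11007 F188479) (tt N14553 (iv F211802)) (tt N10986 (iv D45197)) (tt N10995 F188480) (tt N14552 (iv F211801)) (tt N14403 (iv F211191)) (tt N15377 (iv F215523)) (tt N15309 (iv F215275)) (tt N14574 (iv F211868)) (tt N15379 D48149))
theorem Q13138 : ∀ i, i < 13138 → P i := stepQ 13137 Q13137 (allL N13137 (tt N11009 F188483) (tt N15028 (iv F214041)) (tt N15379 (iv F215528)) (tt N10987 F188484) (tt N15023 (iv F214023)) (tt N14405 (iv F211196)) (tt N15378 (iv F215526)) (tt N15310 (iv F215278)) (tt N15380 D48150) (tt N10986 (iv D45199)))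
theorem Q13139 : ∀ i, i < 13139 → P i := stepQ 13138 Q13138 (allL N13138 (tt N11011 F188490) (tt N11618 F206609) (tt N10997 F188491) (tt N11616 F206596) (tt N15376 (iv F215517)) (tt N11128 F188492) (tt N11617 F206586) (tt N10989 F188493) (tt N11045 F188494) (tt N10988 (iv D45201)))
theorem Q13140 : ∀ i, i < 13140 → P i := stepQ 13139 Q13139 (allL N13139 (tt N11015 F188528) (tt N13139 F188529) (tt N14485 (iv F211519)) (tt N13139 F188530) (tt N11129 F188531) (tt N14484 (iv F211514)) (tt N10990 (iv D45210)) (tt N14411 (iv F211221)) (tt N15084 (iv F214278)) (tt N11046 F188532))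
theorem Q13141 : ∀ i, i < 13141 → P i := stepQ 13140 Q13140 (allL N13140 (tt N11016 F188533) (tt N13140 F188534) (tt N15372 (iv F215497)) (tt N14613 (iv F212021)) (tt N11130 F188535) (tt N10992 F188536) (tt N15084 (iv F214277)) (tt N10991 F188537) (tt N10990 (iv D45211)) (tt N15381 D48151))
theorem Q13142 : ∀ i, i < 13142 → P i := stepQ 13141 Q13141 (allL N13141 (tt N11017 F188538) (tt N13141 F188539) (tt N15382 D48152) (tt N10991 (iv D45212)) (tt N14920 (iv F213440)) (tt N10993 F188540) (tt N14413 (iv F211232)) (tt N14613 (iv F212024)) (tt N13141 F188541) (tt N15383 D48153))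
theorem Q13143 : ∀ i, i < 13143 → P i := stepQ 13142 Q13142 (allL N13142 (tt N11018 F188542) (tt N13142 F188543) (tt N15374 (iv F215504)) (tt N15383 (iv F215543)) (tt N11131 F188544) (tt N10994 F188545) (tt N14414 (iv F211238)) (tt N15381 (iv F215536)) (tt N11049 F188546) (tt N10991 (iv D45213)))
theorem Q13144 : ∀ i, i < 13144 → P i := stepQ 13143 Q13143 (allL N13143 (tt N11019 F188552) (tt N13143 F188553) (tt N15376 (iv F215516)) (tt N14619 (iv F212058)) (tt N10997 F188554) (tt N15381 (iv F215535)) (tt N13997 (iv F209034)) (tt N10994 F188555) (tt N11051 F188556) (tt N10992 (iv D45215)))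
theorem Q13145 : ∀ i, i < 13145 → P i := stepQ 13144 Q13144 (allL N13144 (tt N11020 F188557) (tt N15384 D48154) (tt N10993 (iv D45216)) (tt N15377 (iv F215522)) (tt N13144 F188558) (tt N15382 (iv F215539)) (tt N10995 F188559) (tt N14605 (iv F211987)) (tt N13144 F188560) (tt N15385 D48155))
theorem Q13146 : ∀ i, i < 13146 → P i := stepQ 13145 Q13145 (allL N13145 (tt N11021 F188561) (tt N13145 F188562) (tt N15385 (iv F215550)) (tt N10994 F188563) (tt N13145 F188564) (tt N15383 (iv F215544)) (tt N10996 F188565) (tt N14619 (iv F212061)) (tt N15386 D48156) (tt N10993 (iv D45217)))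
theorem Q13147 : ∀ i, i < 13147 → P i := stepQ 13146 Q13146 (allL N13146 (tt N15387 D48157) (tt N10995 (iv D45218)) (tt N13146 F188566) (tt N14553 F211805) (tt N13146 F188567) (tt N14418 (iv F211255)) (tt N15384 (iv F215547)) (tt N15311 (iv F215281)) (tt N13146 F188568) (tt N15388 D48158))
theorem Q13148 : ∀ i, i < 13148 → P i := stepQ 13147 Q13147 (allL N13147 (tt N11023 F188569) (tt N15388 (iv F215563)) (tt N10996 F188570) (tt N15379 (iv F215529)) (tt N13147 F188571) (tt N14419 (iv F211259)) (tt N15385 (iv F215552)) (tt N15312 (iv F215286)) (tt N15389 D48159) (tt N10995 (iv D45219)))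
theorem Q13149 : ∀ i, i < 13149 → P i := stepQ 13148 Q13148 (allL N13148 (tt N11024 F188572) (tt N13148 F188573) (tt N15389 (iv F215567)) (tt N11056 F188574) (tt N13148 F188575) (tt N14420 (iv F211263)) (tt N15386 (iv F215557)) (tt N15313 (iv F215291)) (tt N10996 (iv D45220)) (tt N13148 F188576))
theorem Q13150 : ∀ i, i < 13150 → P i := stepQ 13149 Q13149 (allL N13149 (tt N15368 (iv F215474)) (tt N15009 (iv F213951)) (tt N13149 F188585) (tt N15390 D48160) (tt N15146 (iv F214588)) (tt N10999 F188586) (tt N14423 (iv F211278)) (tt N15020 (iv F214006)) (tt N10998 (iv D45223)) (tt N15391 D48161))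
theorem Q13151 : ∀ i, i < 13151 → P i := stepQ 13150 Q13150 (allL N13150 (tt N15369 (iv F215480)) (tt N15010 (iv F213957)) (tt N15392 D48162) (tt N10999 (iv D45225)) (tt N15375 (iv F215510)) (tt N15390 (iv F215570)) (tt N11000 F188590) (tt N15021 (iv F214011)) (tt N11005 F188591) (tt N15393 D48163))
theorem Q13152 : ∀ i, i < 13152 → P i := stepQ 13151 Q13151 (allL N13151 (tt N15370 (iv F215486)) (tt N15011 (iv F213963)) (tt N13151 F188592) (tt N15393 (iv F215578)) (tt N11616 F188593) (tt N15391 (iv F215573)) (tt N11001 F188594) (tt N15022 (iv F214018)) (tt N11061 F188595) (tt N10999 (iv D45226)))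
theorem Q13153 : ∀ i, i < 13153 → P i := stepQ 13152 Q13152 (allL N13152 (tt N14574 (iv F211864)) (tt N15394 D48164) (tt N11000 (iv D45227)) (tt N13152 F188596) (tt N14573 F211863) (tt N14427 (iv F211291)) (tt N15392 (iv F215576)) (tt N15314 (iv F215294)) (tt N11007 F188597) (tt N15395 D48165))
theorem Q13154 : ∀ i, i < 13154 → P i := stepQ 13153 Q13153 (allL N13153 (tt N13977 (iv F208926)) (tt N11036 F202599) (tt N14573 (iv F211859)) (tt N11032 F202600) (tt N11000 (iv D45228)) (tt N14488 (iv F211535)) (tt N15375 (iv F215511)) (tt N15307 (iv F215264)) (tt N11008 F188599) (tt N15396 D48166))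
theorem Q13155 : ∀ i, i < 13155 → P i := stepQ 13154 Q13154 (allL N13154 (tt N15371 (iv F215493)) (tt N15013 (iv F213973)) (tt N15395 (iv F215582)) (tt N11001 F188600) (tt N15396 (iv F215586)) (tt N14429 (iv F211296)) (tt N15393 (iv F215579)) (tt N15315 (iv F215297)) (tt N15397 D48167) (tt N11000 (iv D45229)))
theorem Q13156 : ∀ i, i < 13156 → P i := stepQ 13155 Q13155 (allL N13155 (tt N14485 (iv F211517)) (tt N13944 (iv F208735)) (tt N11015 F188601) (tt N13934 (iv F208670)) (tt N11141 F188602) (tt N13933 (iv F208664)) (tt N11002 (iv D45230)) (tt N14430 (iv F211299)) (tt N15074 (iv F214234)) (tt N11065 F188603))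
theorem Q13157 : ∀ i, i < 13157 → P i := stepQ 13156 Q13156 (allL N13156 (tt N15372 (iv F215495)) (tt N13993 (iv F208999)) (tt N11016 F188604) (tt N15398 D48168) (tt N11142 F188605) (tt N11004 F188606) (tt N15074 (iv F214233)) (tt N11003 F188607) (tt N11002 (iv D45231)) (tt N15399 D48169))
theorem Q13158 : ∀ i, i < 13158 → P i := stepQ 13157 Q13157 (allL N13157 (tt N15373 (iv F215501)) (tt N15014 (iv F213977)) (tt N15400 D48170) (tt N11003 (iv D45232)) (tt N15401 D48171) (tt N11005 F188608) (tt N14432 (iv F211306)) (tt N15398 (iv F215590)) (tt N15390 (iv F215571)) (tt N15402 D48172))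
theorem Q13159 : ∀ i, i < 13159 → P i := stepQ 13158 Q13158 (allL N13158 (tt N15374 (iv F215503)) (tt N15015 (iv F213980)) (tt N11018 F188609) (tt N15402 (iv F215599)) (tt N11144 F188610) (tt N11006 F188611) (tt N14433 (iv F211310)) (tt N15399 (iv F215594)) (tt N11068 F188612) (tt N11003 (iv D45233)))
theorem Q13160 : ∀ i, i < 13160 → P i := stepQ 13159 Q13159 (allL N13159 (tt N15375 (iv F215508)) (tt N13974 F208915) (tt N14567 (iv F211844)) (tt N11004 (iv D45234)) (tt N15369 (iv F215482)) (tt N15398 (iv F215589)) (tt N13977 (iv F208930)) (tt N11005 F188613) (tt N15021 (iv F214012)) (tt N15403 D48173))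
theorem Q13161 : ∀ i, i < 13161 → P i := stepQ 13160 Q13160 (allL N13160 (tt N15376 (iv F215514)) (tt N13995 (iv F209014)) (tt N11019 F188614) (tt N15403 (iv F215601)) (tt N11011 F188615) (tt N15399 (iv F215593)) (tt N13996 (iv F209025)) (tt N11006 F188616) (tt N11070 F188617) (tt N11004 (iv D45235)))
theorem Q13162 : ∀ i, i < 13162 → P i := stepQ 13161 Q13161 (allL N13161 (tt N15377 (iv F215521)) (tt N14564 (iv F211834)) (tt N11005 (iv D45236)) (tt N11020 F188618) (tt N15404 D48174) (tt N15400 (iv F215597)) (tt N11007 F188619) (tt N14567 (iv F211847)) (tt N15392 (iv F215577)) (tt N15405 D48175))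
theorem Q13163 : ∀ i, i < 13163 → P i := stepQ 13162 Q13162 (allL N13162 (tt N15021 (iv F214007)) (tt N11041 F202741) (tt N15404 (iv F215603)) (tt N11012 F188620) (tt N11005 (iv D45237)) (tt N15406 D48176) (tt N11008 F188621) (tt N15369 (iv F215484)) (tt N15375 (iv F215513)) (tt N15407 D48177))
theorem Q13164 : ∀ i, i < 13164 → P i := stepQ 13163 Q13163 (allL N13163 (tt N15378 (iv F215524)) (tt N15016 (iv F213986)) (tt N15405 (iv F215606)) (tt N11006 F188622) (tt N15407 (iv F215613)) (tt N15402 (iv F215600)) (tt N11009 F188623) (tt N15403 (iv F215602)) (tt N15408 D48178) (tt N11005 (iv D45238)))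
theorem Q13165 : ∀ i, i < 13165 → P i := stepQ 13164 Q13164 (allL N13164 (tt N15409 D48179) (tt N11007 (iv D45239)) (tt N14322 (iv F210760)) (tt N11022 F188624) (tt N15410 D48180) (tt N14439 (iv F211324)) (tt N14564 (iv F211836)) (tt N14324 (iv F210772)) (tt N15394 (iv F215581)) (tt N15411 D48181))
theorem Q13166 : ∀ i, i < 13166 → P i := stepQ 13165 Q13165 (allL N13165 (tt N14552 F211800) (tt N15410 (iv F215618)) (tt N11008 F188625) (tt N13165 F188626) (tt N11007 (iv D45240)) (tt N14495 (iv F211565)) (tt N15404 (iv F215605)) (tt N15317 (iv F215302)) (tt N14573 (iv F211862)) (tt N15412 D48182))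
theorem Q13167 : ∀ i, i < 13167 → P i := stepQ 13166 Q13166 (allL N13166 (tt N15379 (iv F215527)) (tt N15411 (iv F215621)) (tt N11009 F188627) (tt N11023 F188628) (tt N15412 (iv F215625)) (tt N14441 (iv F211328)) (tt N15405 (iv F215608)) (tt N15318 (iv F215305)) (tt N15413 D48183) (tt N11007 (iv D45241)))
theorem Q13168 : ∀ i, i < 13168 → P i := stepQ 13167 Q13167 (allL N13167 (tt N15023 (iv F214020)) (tt N11044 F202745) (tt N15412 (iv F215623)) (tt N11014 F188630) (tt N11009 F188631) (tt N14496 (iv F211569)) (tt N15407 (iv F215614)) (tt N15319 (iv F215309)) (tt N15414 D48184) (tt N11008 (iv D45243)))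
theorem Q13169 : ∀ i, i < 13169 → P i := stepQ 13168 Q13168 (allL N13168 (tt N15380 (iv F215530)) (tt N15018 (iv F213995)) (tt N15413 (iv F215626)) (tt N11079 F188632) (tt N15414 (iv F215628)) (tt N14444 (iv F211335)) (tt N15408 (iv F215616)) (tt N15320 (iv F215311)) (tt N11009 (iv D45244)) (tt N15397 (iv F215588)))
theorem Q13170 : ∀ i, i < 13170 → P i := stepQ 13169 Q13169 (allL N13169 (tt N11616 F206594) (tt N11045 F202608) (tt N13169 F188636) (tt N11011 F188637) (tt N15370 (iv F215489)) (tt N11156 F188638) (tt N11615 F206607) (tt N11013 F188639) (tt N11618 (iv F206608)) (tt N11010 (iv D45246)))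
theorem Q13171 : ∀ i, i < 13171 → P i := stepQ 13170 Q13170 (allL N13170 (tt N15020 (iv F214001)) (tt N11039 F202739) (tt N13170 F188640) (tt N15406 (iv F215610)) (tt N11157 F188641) (tt N11012 (iv D45247)) (tt N14491 (iv F211550)) (tt N15368 (iv F215479)) (tt N11033 F202740) (tt N15415 D48185))
theorem Q13172 : ∀ i, i < 13172 → P i := stepQ 13171 Q13171 (allL N13171 (tt N15022 (iv F214013)) (tt N11042 F202742) (tt N13171 F188643) (tt N15407 (iv F215612)) (tt N11013 F188644) (tt N15415 (iv F215632)) (tt N11014 F188645) (tt N15370 (iv F215491)) (tt N15031 (iv F214058)) (tt N11012 (iv D45248)))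
theorem Q13173 : ∀ i, i < 13173 → P i := stepQ 13172 Q13172 (allL N13172 (tt N15381 (iv F215532)) (tt N11025 F188679) (tt N15399 (iv F215591)) (tt N14615 (iv F212033)) (tt N11161 F188680) (tt N11019 F188681) (tt N15085 (iv F214283)) (tt N11018 F188682) (tt N11089 F188683) (tt N11016 (iv D45259)))
theorem Q13174 : ∀ i, i < 13174 → P i := stepQ 13173 Q13173 (allL N13173 (tt N15382 (iv F215538)) (tt N14595 (iv F211940)) (tt N11017 (iv D45260)) (tt N15400 (iv F215596)) (tt N15416 D48186) (tt N11020 F188684) (tt N14457 (iv F211385)) (tt N14598 (iv F211956)) (tt N13173 F188685) (tt N15417 D48187))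
theorem Q13175 : ∀ i, i < 13175 → P i := stepQ 13174 Q13174 (allL N13174 (tt N14920 (iv F213438)) (tt N11026 F188686) (tt N15416 (iv F215633)) (tt N11163 F188687) (tt N11017 (iv D45261)) (tt N13174 F188688) (tt N14458 (iv F211391)) (tt N14614 (iv F212030)) (tt N13174 F188689) (tt N15418 D48188))
theorem Q13176 : ∀ i, i < 13176 → P i := stepQ 13175 Q13175 (allL N13175 (tt N15383 (iv F215541)) (tt N11027 F188690) (tt N15417 (iv F215636)) (tt N11018 F188691) (tt N15418 (iv F215640)) (tt N11021 F188692) (tt N14459 (iv F211396)) (tt N14615 (iv F212036)) (tt N15419 D48189) (tt N11017 (iv D45262)))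
theorem Q13177 : ∀ i, i < 13177 → P i := stepQ 13176 Q13176 (allL N13176 (tt N15385 (iv F215549)) (tt N14603 (iv F211974)) (tt N11021 F188704) (tt N15405 (iv F215607)) (tt N13176 F188705) (tt N15417 (iv F215637)) (tt N11023 F188706) (tt N14606 (iv F211993)) (tt N15420 D48190) (tt N11020 (iv D45266)))
theorem Q13178 : ∀ i, i < 13178 → P i := stepQ 13177 Q13177 (allL N13177 (tt N15386 (iv F215553)) (tt N11028 F188707) (tt N15420 (iv F215646)) (tt N11097 F188708) (tt N13177 F188709) (tt N15419 (iv F215644)) (tt N11024 F188710) (tt N14620 (iv F212066)) (tt N11021 (iv D45267)) (tt N13177 F188711))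
theorem Q13179 : ∀ i, i < 13179 → P i := stepQ 13178 Q13178 (allL N13178 (tt N11022 (iv D45268)) (tt N15387 (iv F215559)) (tt N11029 F188712) (tt N15409 (iv F215617)) (tt N13178 F188713) (tt N14464 (iv F211410)) (tt N14533 (iv F211721)) (tt N14306 (iv F210692)) (tt N13178 F188714) (tt N15421 D48191))
theorem Q13180 : ∀ i, i < 13180 → P i := stepQ 13179 Q13179 (allL N13179 (tt N15421 (iv F215650)) (tt N11023 F188715) (tt N11030 F188716) (tt N15411 (iv F215622)) (tt N13179 F188717) (tt N14465 (iv F211414)) (tt N14603 (iv F211977)) (tt N14341 (iv F210843)) (tt N15422 D48192) (tt N11022 (iv D45269)))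
theorem Q13181 : ∀ i, i < 13181 → P i := stepQ 13180 Q13180 (allL N13180 (tt N15389 (iv F215566)) (tt N15422 (iv F215653)) (tt N11024 F188718) (tt N15423 D48193) (tt N13180 F188719) (tt N14466 (iv F211416)) (tt N15420 (iv F215648)) (tt N15321 (iv F215314)) (tt N11023 (iv D45270)) (tt N13180 F188720))
theorem Q13182 : ∀ i, i < 13182 → P i := stepQ 13181 Q13181 (allL N13181 (tt N13181 F188750) (tt N15418 (iv F215638)) (tt N14611 (iv F212010)) (tt N11179 F188751) (tt N11027 F188752) (tt N13181 F188753) (tt N14473 (iv F211460)) (tt N14616 (iv F212043)) (tt N15424 D48194) (tt N11026 (iv D45279)))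
theorem Q13183 : ∀ i, i < 13183 → P i := stepQ 13182 Q13182 (allL N13182 (tt N13182 F188754) (tt N15419 (iv F215642)) (tt N14612 (iv F212016)) (tt N11110 F188755) (tt N15424 (iv F215660)) (tt N11028 F188756) (tt N14474 (iv F211464)) (tt N14617 (iv F212049)) (tt N11027 (iv D45280)) (tt N13182 F188757))
theorem Q13184 : ∀ i, i < 13184 → P i := stepQ 13183 Q13183 (allL N13183 (tt N11030 F188782) (tt N13183 F188783) (tt N15421 (iv F215651)) (tt N14305 (iv F210685)) (tt N13183 F188784) (tt N14481 (iv F211497)) (tt N14534 (iv F211728)) (tt N14307 (iv F210699)) (tt N15425 D48195) (tt N11029 (iv D45287)))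
theorem Q13185 : ∀ i, i < 13185 → P i := stepQ 13184 Q13184 (allL N13184 (tt N15425 (iv F215663)) (tt N11031 F188785) (tt N15422 (iv F215654)) (tt N15426 D48196) (tt N13184 F188786) (tt N14482 (iv F211499)) (tt N14604 (iv F211981)) (tt N14342 (iv F210847)) (tt N11030 (iv D45288)) (tt N13184 F188787))
theorem Q13186 : ∀ i, i < 13186 → P i := stepQ 13185 Q13185 (allL N13185 (tt N13185 F188788) (tt N15426 (iv F215667)) (tt N11119 F188789) (tt N11031 (iv D45289)) (tt N15427 D48197) (tt N14483 (iv F211503)) (tt N14477 (iv F211481)) (tt N14276 (iv F210540)) (tt N14275 F210534) (tt N13185 F188790))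
theorem Q13187 : ∀ i, i < 13187 → P i := stepQ 13186 Q13186 (allL N13186 (tt N13996 (iv F209020)) (tt N11037 F188808) (tt N13997 (iv F209030)) (tt N15396 (iv F215585)) (tt N11617 (iv F202199)) (tt N14489 (iv F211541)) (tt N15376 (iv F215518)) (tt N15308 (iv F215271)) (tt N15326 (iv F215335)) (tt N11032 (iv D45296)))
theorem Q13188 : ∀ i, i < 13188 → P i := stepQ 13187 Q13187 (allL N13187 (tt N11057 F188891) (tt N11122 F198699) (tt N13187 F188892) (tt N11195 F188893) (tt N11034 (iv D45322)) (tt N11121 F198700) (tt N14498 (iv F211582)) (tt N11120 F198701) (tt N15180 (iv F214733)) (tt N11194 F198702))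
theorem Q13189 : ∀ i, i < 13189 → P i := stepQ 13188 Q13188 (allL N13188 (tt N11059 F188899) (tt N15372 (iv F215496)) (tt N13188 F188900) (tt N15428 D48198) (tt N15180 (iv F214731)) (tt N11035 F188901) (tt N14500 (iv F211591)) (tt N15030 (iv F214050)) (tt N11034 (iv D45324)) (tt N15429 D48199))
theorem Q13190 : ∀ i, i < 13190 → P i := stepQ 13189 Q13189 (allL N13189 (tt N11060 F188906) (tt N15375 (iv F215509)) (tt N15430 D48200) (tt N11035 (iv D45326)) (tt N15010 (iv F213958)) (tt N15428 (iv F215674)) (tt N11036 F188907) (tt N15026 (iv F214035)) (tt N11041 F188908) (tt N15431 D48201))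
theorem Q13191 : ∀ i, i < 13191 → P i := stepQ 13190 Q13190 (allL N13190 (tt N11061 F188909) (tt N15376 (iv F215515)) (tt N13190 F188910) (tt N15431 (iv F215684)) (tt N11618 F188911) (tt N15429 (iv F215678)) (tt N11037 F188912) (tt N15031 (iv F214057)) (tt N15370 (iv F215492)) (tt N11035 (iv D45327)))
theorem Q13192 : ∀ i, i < 13192 → P i := stepQ 13191 Q13191 (allL N13191 (tt N11062 F188913) (tt N15432 D48202) (tt N11036 (iv D45328)) (tt N13191 F188914) (tt N15012 (iv F213970)) (tt N14504 (iv F211605)) (tt N15430 (iv F215681)) (tt N15322 (iv F215318)) (tt N11043 F188915) (tt N15433 D48203))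
theorem Q13193 : ∀ i, i < 13193 → P i := stepQ 13192 Q13192 (allL N13192 (tt N11064 F188919) (tt N15396 (iv F215584)) (tt N15433 (iv F215689)) (tt N11037 F188920) (tt N15013 (iv F213975)) (tt N14506 (iv F211612)) (tt N15431 (iv F215685)) (tt N15323 (iv F215322)) (tt N15434 D48204) (tt N11036 (iv D45330)))
theorem Q13194 : ∀ i, i < 13194 → P i := stepQ 13193 Q13193 (allL N13193 (tt N11065 F188921) (tt N14393 (iv F211145)) (tt N11046 F188922) (tt N14386 (iv F211110)) (tt N11202 F188923) (tt N14384 (iv F211099)) (tt N11038 (iv D45331)) (tt N14507 (iv F211616)) (tt N15435 D48205) (tt N14485 (iv F211522)))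
theorem Q13195 : ∀ i, i < 13195 → P i := stepQ 13194 Q13194 (allL N13194 (tt N11066 F188924) (tt N15368 (iv F215475)) (tt N11047 F188925) (tt N15436 D48206) (tt N11203 F188926) (tt N11040 F188927) (tt N15435 (iv F215696)) (tt N11039 F188928) (tt N11038 (iv D45332)) (tt N15437 D48207))
theorem Q13196 : ∀ i, i < 13196 → P i := stepQ 13195 Q13195 (allL N13195 (tt N11067 F188929) (tt N15406 (iv F215609)) (tt N15438 D48208) (tt N11039 (iv D45333)) (tt N15439 D48209) (tt N11041 F188930) (tt N14509 (iv F211624)) (tt N15436 (iv F215699)) (tt N15428 (iv F215675)) (tt N15440 D48210))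
theorem Q13197 : ∀ i, i < 13197 → P i := stepQ 13196 Q13196 (allL N13196 (tt N11068 F188931) (tt N15415 (iv F215629)) (tt N11049 F188932) (tt N15440 (iv F215711)) (tt N11205 F188933) (tt N11042 F188934) (tt N14510 (iv F211629)) (tt N15437 (iv F215704)) (tt N15374 (iv F215507)) (tt N11039 (iv D45334)))
theorem Q13198 : ∀ i, i < 13198 → P i := stepQ 13197 Q13197 (allL N13197 (tt N11069 F188935) (tt N15369 (iv F215481)) (tt N13975 (iv F208919)) (tt N11040 (iv D45335)) (tt N13974 F208916) (tt N15436 (iv F215698)) (tt N13978 (iv F208938)) (tt N11041 F188936) (tt N15026 (iv F214036)) (tt N15441 D48211))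
theorem Q13199 : ∀ i, i < 13199 → P i := stepQ 13198 Q13198 (allL N13198 (tt N11070 F188937) (tt N15370 (iv F215487)) (tt N11051 F188938) (tt N15441 (iv F215714)) (tt N11045 F188939) (tt N15437 (iv F215703)) (tt N15326 (iv F215333)) (tt N11042 F188940) (tt N15376 (iv F215520)) (tt N11040 (iv D45336)))
theorem Q13200 : ∀ i, i < 13200 → P i := stepQ 13199 Q13199 (allL N13199 (tt N11071 F188941) (tt N14565 (iv F211838)) (tt N11041 (iv D45337)) (tt N11052 F188942) (tt N13972 (iv F208901)) (tt N15438 (iv F215707)) (tt N11043 F188943) (tt N13975 (iv F208922)) (tt N15430 (iv F215682)) (tt N15442 D48212))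
theorem Q13201 : ∀ i, i < 13201 → P i := stepQ 13200 Q13200 (allL N13200 (tt N11073 F188947) (tt N15407 (iv F215611)) (tt N15442 (iv F215717)) (tt N11042 F188948) (tt N15016 (iv F213988)) (tt N15440 (iv F215712)) (tt N11044 F188949) (tt N15441 (iv F215715)) (tt N15443 D48213) (tt N11041 (iv D45339)))
theorem Q13202 : ∀ i, i < 13202 → P i := stepQ 13201 Q13201 (allL N13201 (tt N15444 D48214) (tt N11043 (iv D45340)) (tt N15410 (iv F215619)) (tt N11054 F188950) (tt N14322 (iv F210761)) (tt N14516 (iv F211646)) (tt N14565 (iv F211840)) (tt N14325 (iv F210776)) (tt N15432 (iv F215687)) (tt N15445 D48215))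
theorem Q13203 : ∀ i, i < 13203 → P i := stepQ 13202 Q13202 (allL N13202 (tt N11076 F188954) (tt N15445 (iv F215724)) (tt N11044 F188955) (tt N11055 F188956) (tt N15017 (iv F213993)) (tt N14518 (iv F211653)) (tt N15442 (iv F215719)) (tt N15328 (iv F215342)) (tt N15446 D48216) (tt N11043 (iv D45342)))
theorem Q13204 : ∀ i, i < 13204 → P i := stepQ 13203 Q13203 (allL N13203 (tt N11079 F188962) (tt N15414 (iv F215627)) (tt N15446 (iv F215727)) (tt N15380 (iv F215531)) (tt N15018 (iv F213997)) (tt N14520 (iv F211658)) (tt N15443 (iv F215721)) (tt N15329 (iv F215344)) (tt N11044 (iv D45345)) (tt N15434 (iv F215692)))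
theorem Q13205 : ∀ i, i < 13205 → P i := stepQ 13204 Q13204 (allL N13204 (tt N11087 F189012) (tt N13204 F189013) (tt N15435 (iv F215694)) (tt N15447 D48217) (tt N11213 F189014) (tt N15330 (iv F215348)) (tt N11047 F189015) (tt N14527 (iv F211693)) (tt N11046 (iv D45358)) (tt N15448 D48218))
theorem Q13206 : ∀ i, i < 13206 → P i := stepQ 13205 Q13205 (allL N13205 (tt N11088 F189016) (tt N13205 F189017) (tt N13983 (iv F208955)) (tt N11047 (iv D45359)) (tt N13818 (iv F207898)) (tt N11050 F189018) (tt N15447 (iv F215730)) (tt N11048 F189019) (tt N13205 F189020) (tt N15449 D48219))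
theorem Q13207 : ∀ i, i < 13207 → P i := stepQ 13206 Q13206 (allL N13206 (tt N11089 F189021) (tt N13206 F189022) (tt N15437 (iv F215701)) (tt N15449 (iv F215738)) (tt N11215 F189023) (tt N11051 F189024) (tt N15448 (iv F215735)) (tt N11049 F189025) (tt N15381 (iv F215537)) (tt N11047 (iv D45360)))
theorem Q13208 : ∀ i, i < 13208 → P i := stepQ 13207 Q13207 (allL N13207 (tt N11090 F189026) (tt N14582 (iv F211886)) (tt N11048 (iv D45361)) (tt N15438 (iv F215706)) (tt N14155 (iv F209889)) (tt N11052 F189027) (tt N14530 (iv F211706)) (tt N13983 (iv F208957)) (tt N13207 F189028) (tt N15450 D48220))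
theorem Q13209 : ∀ i, i < 13209 → P i := stepQ 13208 Q13208 (allL N13208 (tt N11091 F189029) (tt N13208 F189030) (tt N14155 (iv F209888)) (tt N11217 F189031) (tt N11048 (iv D45362)) (tt N11432 F189032) (tt N14531 (iv F211712)) (tt N13818 (iv F207899)) (tt N13208 F189033) (tt N15451 D48221))
theorem Q13210 : ∀ i, i < 13210 → P i := stepQ 13209 Q13209 (allL N13209 (tt N11092 F189034) (tt N13209 F189035) (tt N15450 (iv F215742)) (tt N11049 F189036) (tt N15451 (iv F215747)) (tt N11053 F189037) (tt N14532 (iv F211718)) (tt N15449 (iv F215740)) (tt N15452 D48222) (tt N11048 (iv D45363)))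
theorem Q13211 : ∀ i, i < 13211 → P i := stepQ 13210 Q13210 (allL N13210 (tt N11094 F189042) (tt N13210 F189043) (tt N13984 (iv F208961)) (tt N11051 F189044) (tt N11434 F189045) (tt N15449 (iv F215739)) (tt N13805 (iv F207811)) (tt N11053 F189046) (tt N15453 D48223) (tt N11050 (iv D45365)))
theorem Q13212 : ∀ i, i < 13212 → P i := stepQ 13211 Q13211 (allL N13211 (tt N11096 F189051) (tt N14583 (iv F211891)) (tt N11053 F189052) (tt N15442 (iv F215718)) (tt N11435 F189053) (tt N15450 (iv F215743)) (tt N11055 F189054) (tt N13984 (iv F208964)) (tt N15454 D48224) (tt N11052 (iv D45367)))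
theorem Q13213 : ∀ i, i < 13213 → P i := stepQ 13212 Q13212 (allL N13212 (tt N11097 F189055) (tt N13212 F189056) (tt N15454 (iv F215759)) (tt N15386 (iv F215555)) (tt N11436 F189057) (tt N15452 (iv F215751)) (tt N11056 F189058) (tt N15453 (iv F215756)) (tt N11053 (iv D45368)) (tt N13212 F189059))
theorem Q13214 : ∀ i, i < 13214 → P i := stepQ 13213 Q13213 (allL N13213 (tt N11054 (iv D45369)) (tt N11098 F189060) (tt N13213 F189061) (tt N15444 (iv F215723)) (tt N11437 F189062) (tt N14538 (iv F211746)) (tt N14521 (iv F211662)) (tt N14299 (iv F210654)) (tt N13213 F189063) (tt N15455 D48225))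
theorem Q13215 : ∀ i, i < 13215 → P i := stepQ 13214 Q13214 (allL N13214 (tt N15455 (iv F215763)) (tt N11055 F189064) (tt N13214 F189065) (tt N15445 (iv F215725)) (tt N11438 F189066) (tt N14539 (iv F211751)) (tt N14583 (iv F211894)) (tt N14333 (iv F210803)) (tt N15456 D48226) (tt N11054 (iv D45370)))
theorem Q13216 : ∀ i, i < 13216 → P i := stepQ 13215 Q13215 (allL N13215 (tt N11100 F189067) (tt N15456 (iv F215767)) (tt N11056 F189068) (tt N15457 D48227) (tt N11439 F189069) (tt N14540 (iv F211755)) (tt N15454 (iv F215761)) (tt N15333 (iv F215362)) (tt N11055 (iv D45371)) (tt N13215 F189070))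
theorem Q13217 : ∀ i, i < 13217 → P i := stepQ 13216 Q13216 (allL N13216 (tt N14386 (iv F211107)) (tt N11622 F206409) (tt N13216 F189078) (tt N11065 F189079) (tt N11610 F206419) (tt N11593 (iv F206418)) (tt N11058 (iv D45374)) (tt N14543 (iv F211773)) (tt N15066 (iv F214200)) (tt N13934 (iv F208673)))
theorem Q13218 : ∀ i, i < 13218 → P i := stepQ 13217 Q13217 (allL N13217 (tt N15428 (iv F215673)) (tt N15038 (iv F214099)) (tt N15458 D48228) (tt N11059 (iv D45376)) (tt N15459 D48229) (tt N11060 F189083) (tt N14545 (iv F211778)) (tt N15055 (iv F214168)) (tt N11067 F189084) (tt N15460 D48230))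
theorem Q13219 : ∀ i, i < 13219 → P i := stepQ 13218 Q13218 (allL N13218 (tt N15429 (iv F215676)) (tt N15039 (iv F214103)) (tt N13218 F189085) (tt N15460 (iv F215777)) (tt N15263 (iv F215069)) (tt N11061 F189086) (tt N14546 (iv F211782)) (tt N15067 (iv F214205)) (tt N15391 (iv F215574)) (tt N11059 (iv D45377)))
theorem Q13220 : ∀ i, i < 13220 → P i := stepQ 13219 Q13219 (allL N13219 (tt N15430 (iv F215679)) (tt N15461 D48231) (tt N11060 (iv D45380)) (tt N13219 F189092) (tt N15050 (iv F214146)) (tt N15458 (iv F215774)) (tt N11062 F189093) (tt N15053 (iv F214161)) (tt N11071 F189094) (tt N15462 D48232))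
theorem Q13221 : ∀ i, i < 13221 → P i := stepQ 13220 Q13220 (allL N13220 (tt N15431 (iv F215683)) (tt N15040 (iv F214108)) (tt N15462 (iv F215782)) (tt N11061 F189098) (tt N15051 (iv F214152)) (tt N15460 (iv F215778)) (tt N11064 F189099) (tt N15056 (iv F214174)) (tt N15463 D48233) (tt N11060 (iv D45382)))
theorem Q13222 : ∀ i, i < 13222 → P i := stepQ 13221 Q13221 (allL N13221 (tt N14495 (iv F211563)) (tt N11062 (iv D45383)) (tt N13937 F208691) (tt N13221 F189100) (tt N15464 D48234) (tt N14552 (iv F211798)) (tt N15461 (iv F215780)) (tt N15334 (iv F215365)) (tt N11074 F189101) (tt N15465 D48235))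
theorem Q13223 : ∀ i, i < 13223 → P i := stepQ 13222 Q13222 (allL N13222 (tt N15012 (iv F213969)) (tt N15464 (iv F215787)) (tt N11063 F189102) (tt N15005 (iv F213929)) (tt N11062 (iv D45384)) (tt N15466 D48236) (tt N15050 (iv F214147)) (tt N14994 (iv F213882)) (tt N11075 F189103) (tt N15467 D48237))
theorem Q13224 : ∀ i, i < 13224 → P i := stepQ 13223 Q13223 (allL N13223 (tt N15433 (iv F215688)) (tt N15465 (iv F215789)) (tt N11064 F189104) (tt N13223 F189105) (tt N15467 (iv F215794)) (tt N14554 (iv F211808)) (tt N15462 (iv F215784)) (tt N15335 (iv F215369)) (tt N15468 D48238) (tt N11062 (iv D45385)))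
theorem Q13225 : ∀ i, i < 13225 → P i := stepQ 13224 Q13224 (allL N13224 (tt N13899 (iv F208455)) (tt N15041 (iv F214113)) (tt N15466 (iv F215791)) (tt N11619 F189106) (tt N14555 (iv F211810)) (tt N11063 (iv D45386)) (tt N15469 D48239) (tt N14992 (iv F213871)) (tt N11077 F189107) (tt N15083 (iv F214272)))
theorem Q13226 : ∀ i, i < 13226 → P i := stepQ 13225 Q13225 (allL N13225 (tt N15013 (iv F213972)) (tt N15042 (iv F214117)) (tt N15467 (iv F215793)) (tt N11620 F189108) (tt N11064 F189109) (tt N15083 (iv F214271)) (tt N15051 (iv F214153)) (tt N14995 (iv F213888)) (tt N15470 D48240) (tt N11063 (iv D45387)))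
theorem Q13227 : ∀ i, i < 13227 → P i := stepQ 13226 Q13226 (allL N13226 (tt N15434 (iv F215691)) (tt N15043 (iv F214122)) (tt N15468 (iv F215795)) (tt N15397 (iv F215587)) (tt N15470 (iv F215799)) (tt N14557 (iv F211814)) (tt N15463 (iv F215785)) (tt N15336 (iv F215370)) (tt N11064 (iv D45388)) (tt N11079 F189110))
theorem Q13228 : ∀ i, i < 13228 → P i := stepQ 13227 Q13227 (allL N13227 (tt N15435 (iv F215693)) (tt N15044 (iv F214124)) (tt N11087 F189111) (tt N15471 D48241) (tt N11242 F189112) (tt N15337 (iv F215375)) (tt N11066 F189113) (tt N14558 (iv F211819)) (tt N11065 (iv D45389)) (tt N15472 D48242))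
theorem Q13229 : ∀ i, i < 13229 → P i := stepQ 13228 Q13228 (allL N13228 (tt N15436 (iv F215697)) (tt N15045 (iv F214129)) (tt N15473 D48243) (tt N11066 (iv D45390)) (tt N15474 D48244) (tt N11069 F189114) (tt N15471 (iv F215801)) (tt N11067 F189115) (tt N15055 (iv F214169)) (tt N15475 D48245))
theorem Q13230 : ∀ i, i < 13230 → P i := stepQ 13229 Q13229 (allL N13229 (tt N15437 (iv F215700)) (tt N15046 (iv F214133)) (tt N11089 F189116) (tt N15475 (iv F215810)) (tt N11244 F189117) (tt N11070 F189118) (tt N15472 (iv F215804)) (tt N11068 F189119) (tt N15399 (iv F215595)) (tt N11066 (iv D45391)))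
theorem Q13231 : ∀ i, i < 13231 → P i := stepQ 13230 Q13230 (allL N13230 (tt N15438 (iv F215705)) (tt N15476 D48246) (tt N11067 (iv D45392)) (tt N11090 F189120) (tt N15477 D48247) (tt N11071 F189121) (tt N14561 (iv F211828)) (tt N15473 (iv F215807)) (tt N15458 (iv F215775)) (tt N15478 D48248))
theorem Q13232 : ∀ i, i < 13232 → P i := stepQ 13231 Q13231 (allL N13231 (tt N15439 (iv F215708)) (tt N15048 (iv F214140)) (tt N15477 (iv F215815)) (tt N11246 F189122) (tt N11067 (iv D45393)) (tt N15479 D48249) (tt N14562 (iv F211830)) (tt N15474 (iv F215809)) (tt N15459 (iv F215776)) (tt N15480 D48250))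
theorem Q13233 : ∀ i, i < 13233 → P i := stepQ 13232 Q13232 (allL N13232 (tt N15440 (iv F215710)) (tt N15049 (iv F214142)) (tt N15478 (iv F215816)) (tt N11068 F189123) (tt N15480 (iv F215822)) (tt N11073 F189124) (tt N14563 (iv F211833)) (tt N15475 (iv F215812)) (tt N15481 D48251) (tt N11067 (iv D45394)))
theorem Q13234 : ∀ i, i < 13234 → P i := stepQ 13233 Q13233 (allL N13233 (tt N13975 (iv F208917)) (tt N15482 D48252) (tt N11069 (iv D45395)) (tt N11093 F189125) (tt N13948 (iv F208763)) (tt N15473 (iv F215806)) (tt N13950 (iv F208776)) (tt N11071 F189126) (tt N15053 (iv F214162)) (tt N15483 D48253))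
theorem Q13235 : ∀ i, i < 13235 → P i := stepQ 13234 Q13234 (allL N13234 (tt N15441 (iv F215713)) (tt N15051 (iv F214150)) (tt N15483 (iv F215826)) (tt N11070 F189129) (tt N15040 (iv F214110)) (tt N15475 (iv F215811)) (tt N15042 (iv F214120)) (tt N11073 F189130) (tt N15484 D48254) (tt N11069 (iv D45397)))
theorem Q13236 : ∀ i, i < 13236 → P i := stepQ 13235 Q13235 (allL N13235 (tt N15485 D48255) (tt N11071 (iv D45398)) (tt N15052 (iv F214155)) (tt N11095 F189131) (tt N15486 D48256) (tt N15476 (iv F215814)) (tt N11074 F189132) (tt N15482 (iv F215825)) (tt N15461 (iv F215781)) (tt N15487 D48257))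
theorem Q13237 : ∀ i, i < 13237 → P i := stepQ 13236 Q13236 (allL N13236 (tt N13972 (iv F208898)) (tt N15486 (iv F215832)) (tt N11072 F189133) (tt N11446 F189134) (tt N11071 (iv D45399)) (tt N15488 D48258) (tt N11075 F189135) (tt N13948 (iv F208765)) (tt N15050 (iv F214149)) (tt N15489 D48259))
theorem Q13238 : ∀ i, i < 13238 → P i := stepQ 13237 Q13237 (allL N13237 (tt N15442 (iv F215716)) (tt N15487 (iv F215835)) (tt N11073 F189136) (tt N11096 F189137) (tt N15489 (iv F215842)) (tt N15478 (iv F215818)) (tt N11076 F189138) (tt N15483 (iv F215828)) (tt N15490 D48260) (tt N11071 (iv D45400)))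
theorem Q13239 : ∀ i, i < 13239 → P i := stepQ 13238 Q13238 (allL N13238 (tt N15014 (iv F213976)) (tt N15055 (iv F214166)) (tt N15488 (iv F215838)) (tt N11081 F189139) (tt N15479 (iv F215820)) (tt N11072 (iv D45401)) (tt N15491 D48261) (tt N15038 (iv F214101)) (tt N15045 (iv F214132)) (tt N15492 D48262))
theorem Q13240 : ∀ i, i < 13240 → P i := stepQ 13239 Q13239 (allL N13239 (tt N15016 (iv F213985)) (tt N15056 (iv F214170)) (tt N15489 (iv F215840)) (tt N11082 F189140) (tt N11073 F189141) (tt N15492 (iv F215849)) (tt N11078 F189142) (tt N15040 (iv F214112)) (tt N15493 D48263) (tt N11072 (iv D45402)))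
theorem Q13241 : ∀ i, i < 13241 → P i := stepQ 13240 Q13240 (allL N13240 (tt N15443 (iv F215720)) (tt N15057 (iv F214175)) (tt N15490 (iv F215844)) (tt N15408 (iv F215615)) (tt N15493 (iv F215850)) (tt N15481 (iv F215823)) (tt N11079 F189143) (tt N15484 (iv F215829)) (tt N11073 (iv D45403)) (tt N15463 (iv F215786)))
theorem Q13242 : ∀ i, i < 13242 → P i := stepQ 13241 Q13241 (allL N13241 (tt N11074 (iv D45404)) (tt N15444 (iv F215722)) (tt N14488 (iv F211534)) (tt N11098 F189144) (tt N15494 D48264) (tt N14573 (iv F211861)) (tt N15485 (iv F215831)) (tt N15344 (iv F215389)) (tt N14495 (iv F211566)) (tt N15495 D48265))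
theorem Q13243 : ∀ i, i < 13243 → P i := stepQ 13242 Q13242 (allL N13242 (tt N15494 (iv F215852)) (tt N11075 F189145) (tt N15058 (iv F214178)) (tt N11452 F189146) (tt N11074 (iv D45405)) (tt N15496 D48266) (tt N15486 (iv F215834)) (tt N15345 (iv F215392)) (tt N15464 (iv F215788)) (tt N15497 D48267))
theorem Q13244 : ∀ i, i < 13244 → P i := stepQ 13243 Q13243 (allL N13243 (tt N15495 (iv F215854)) (tt N11076 F189147) (tt N15059 (iv F214181)) (tt N11099 F189148) (tt N15497 (iv F215860)) (tt N14575 (iv F211871)) (tt N15487 (iv F215837)) (tt N15346 (iv F215395)) (tt N15498 D48268) (tt N11074 (iv D45406)))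
theorem Q13245 : ∀ i, i < 13245 → P i := stepQ 13244 Q13244 (allL N13244 (tt N13906 (iv F208491)) (tt N15496 (iv F215856)) (tt N11077 F189149) (tt N11454 F189150) (tt N14576 (iv F211874)) (tt N11075 (iv D45407)) (tt N15499 D48269) (tt N15347 (iv F215398)) (tt N15466 (iv F215792)) (tt N15500 D48270))
theorem Q13246 : ∀ i, i < 13246 → P i := stepQ 13245 Q13245 (allL N13245 (tt N15017 (iv F213990)) (tt N15497 (iv F215858)) (tt N11078 F189151) (tt N11455 F189152) (tt N11076 F189153) (tt N15500 (iv F215866)) (tt N15489 (iv F215843)) (tt N15348 (iv F215402)) (tt N15501 D48271) (tt N11075 (iv D45408)))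
theorem Q13247 : ∀ i, i < 13247 → P i := stepQ 13246 Q13246 (allL N13246 (tt N15446 (iv F215726)) (tt N15498 (iv F215861)) (tt N11079 F189154) (tt N15502 D48272) (tt N15501 (iv F215868)) (tt N14578 (iv F211879)) (tt N15490 (iv F215845)) (tt N15349 (iv F215404)) (tt N11076 (iv D45409)) (tt N15468 (iv F215796)))
theorem Q13248 : ∀ i, i < 13248 → P i := stepQ 13247 Q13247 (allL N13247 (tt N13904 (iv F208482)) (tt N15063 (iv F214189)) (tt N15499 (iv F215862)) (tt N11083 F189155) (tt N14579 (iv F211881)) (tt N15491 (iv F215847)) (tt N11077 (iv D45410)) (tt N15503 D48273) (tt N15469 (iv F215798)) (tt N15504 D48274))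
theorem Q13249 : ∀ i, i < 13249 → P i := stepQ 13248 Q13248 (allL N13248 (tt N13908 (iv F208498)) (tt N15064 (iv F214191)) (tt N15500 (iv F215864)) (tt N11084 F189156) (tt N14580 (iv F211883)) (tt N11078 F189157) (tt N15504 (iv F215872)) (tt N15351 (iv F215408)) (tt N15505 D48275) (tt N11077 (iv D45411)))
theorem Q13250 : ∀ i, i < 13250 → P i := stepQ 13249 Q13249 (allL N13249 (tt N15018 (iv F213994)) (tt N15065 (iv F214194)) (tt N15501 (iv F215867)) (tt N15029 (iv F214045)) (tt N11079 F189158) (tt N15505 (iv F215873)) (tt N15493 (iv F215851)) (tt N15352 (iv F215410)) (tt N11078 (iv D45412)) (tt N15470 (iv F215800)))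
theorem Q13251 : ∀ i, i < 13251 → P i := stepQ 13250 Q13250 (allL N13250 (tt N13902 (iv F208471)) (tt N15066 (iv F214196)) (tt N11462 F189170) (tt N15491 (iv F215846)) (tt N11268 F189171) (tt N11083 F189172) (tt N11081 (iv D45416)) (tt N15506 D48276) (tt N11622 F189173) (tt N15507 D48277))
theorem Q13252 : ∀ i, i < 13252 → P i := stepQ 13251 Q13251 (allL N13251 (tt N15015 (iv F213979)) (tt N15067 (iv F214201)) (tt N11463 F189174) (tt N15492 (iv F215848)) (tt N11269 F189175) (tt N11082 F189176) (tt N15507 (iv F215881)) (tt N15039 (iv F214107)) (tt N15025 (iv F214030)) (tt N11081 (iv D45417)))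
theorem Q13253 : ∀ i, i < 13253 → P i := stepQ 13252 Q13252 (allL N13252 (tt N13903 (iv F208477)) (tt N15068 (iv F214206)) (tt N11464 F189181) (tt N15503 (iv F215870)) (tt N11085 F189182) (tt N15506 (iv F215876)) (tt N15353 (iv F215413)) (tt N11083 (iv D45419)) (tt N11623 F189183) (tt N15508 D48278))
theorem Q13254 : ∀ i, i < 13254 → P i := stepQ 13253 Q13253 (allL N13253 (tt N13905 (iv F208485)) (tt N15069 (iv F214210)) (tt N11465 F189184) (tt N15504 (iv F215871)) (tt N11086 F189185) (tt N15507 (iv F215880)) (tt N11084 F189186) (tt N15508 (iv F215885)) (tt N13949 (iv F208772)) (tt N11083 (iv D45420)))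
theorem Q13255 : ∀ i, i < 13255 → P i := stepQ 13254 Q13254 (allL N13254 (tt N13910 (iv F208508)) (tt N15070 (iv F214214)) (tt N11450 (iv F206454)) (tt N14592 (iv F211925)) (tt N15508 (iv F215883)) (tt N11272 F189193) (tt N11456 (iv F206458)) (tt N11086 F189194) (tt N11447 F206453) (tt N11085 (iv D45423)))
theorem Q13256 : ∀ i, i < 13256 → P i := stepQ 13255 Q13255 (allL N13255 (tt N15447 (iv F215728)) (tt N11101 F189204) (tt N15509 D48279) (tt N11087 (iv D45427)) (tt N14977 (iv F213780)) (tt N14475 (iv F211467)) (tt N11088 F189205) (tt N14470 (iv F211442)) (tt N13255 F189206) (tt N15510 D48280))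
theorem Q13257 : ∀ i, i < 13257 → P i := stepQ 13256 Q13256 (allL N13256 (tt N15448 (iv F215732)) (tt N11102 F189207) (tt N15472 (iv F215802)) (tt N15510 (iv F215890)) (tt N11274 F189208) (tt N15089 (iv F214300)) (tt N11089 F189209) (tt N14594 (iv F211939)) (tt N15085 (iv F214284)) (tt N11087 (iv D45428)))
theorem Q13258 : ∀ i, i < 13258 → P i := stepQ 13257 Q13257 (allL N13257 (tt N13983 (iv F208953)) (tt N15511 D48281) (tt N11088 (iv D45429)) (tt N15473 (iv F215805)) (tt N14098 (iv F209611)) (tt N11093 F189210) (tt N15509 (iv F215887)) (tt N11090 F189211) (tt N13257 F189212) (tt N15512 D48282))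
theorem Q13259 : ∀ i, i < 13259 → P i := stepQ 13258 Q13258 (allL N13258 (tt N13818 (iv F207894)) (tt N11104 F189213) (tt N14098 (iv F209610)) (tt N11276 F189214) (tt N11088 (iv D45430)) (tt N11389 (iv F204796)) (tt N14977 (iv F213782)) (tt N11091 F189216) (tt N13258 F189217) (tt N15513 D48283))
theorem Q13260 : ∀ i, i < 13260 → P i := stepQ 13259 Q13259 (allL N13259 (tt N15449 (iv F215736)) (tt N11105 F189218) (tt N15512 (iv F215896)) (tt N11089 F189219) (tt N15513 (iv F215901)) (tt N11094 F189220) (tt N15510 (iv F215891)) (tt N11092 F189221) (tt N15514 D48284) (tt N11088 (iv D45431)))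
theorem Q13261 : ∀ i, i < 13261 → P i := stepQ 13260 Q13260 (allL N13260 (tt N15515 D48285) (tt N11090 (iv D45432)) (tt N11106 F189222) (tt N15476 (iv F215813)) (tt N15516 D48286) (tt N11095 F189223) (tt N14598 (iv F211955)) (tt N15511 (iv F215894)) (tt N13260 F189224) (tt N15517 D48287))
theorem Q13262 : ∀ i, i < 13262 → P i := stepQ 13261 Q13261 (allL N13261 (tt N14155 (iv F209886)) (tt N15516 (iv F215911)) (tt N11091 F189225) (tt N15518 D48288) (tt N11090 (iv D45433)) (tt N11468 F189226) (tt N14599 (iv F211960)) (tt N14098 (iv F209612)) (tt N13261 F189227) (tt N15519 D48289))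
theorem Q13263 : ∀ i, i < 13263 → P i := stepQ 13262 Q13262 (allL N13262 (tt N15450 (iv F215741)) (tt N15517 (iv F215915)) (tt N11092 F189228) (tt N15478 (iv F215817)) (tt N15519 (iv F215921)) (tt N11096 F189229) (tt N14600 (iv F211964)) (tt N15512 (iv F215898)) (tt N15520 D48290) (tt N11090 (iv D45434)))
theorem Q13264 : ∀ i, i < 13264 → P i := stepQ 13263 Q13263 (allL N13263 (tt N15451 (iv F215744)) (tt N11109 F189230) (tt N15519 (iv F215920)) (tt N11281 F189231) (tt N11092 F189232) (tt N11470 F189233) (tt N14601 (iv F211969)) (tt N15513 (iv F215903)) (tt N15521 D48291) (tt N11091 (iv D45435)))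
theorem Q13265 : ∀ i, i < 13265 → P i := stepQ 13264 Q13264 (allL N13264 (tt N15452 (iv F215749)) (tt N11110 F189234) (tt N15520 (iv F215923)) (tt N15419 (iv F215643)) (tt N15521 (iv F215927)) (tt N11097 F189235) (tt N14602 (iv F211972)) (tt N15514 (iv F215906)) (tt N11092 (iv D45436)) (tt N13264 F189236))
theorem Q13266 : ∀ i, i < 13266 → P i := stepQ 13265 Q13265 (allL N13265 (tt N14449 (iv F211347)) (tt N11093 (iv D45437)) (tt N11111 F189237) (tt N15482 (iv F215824)) (tt N11472 F189238) (tt N15511 (iv F215893)) (tt N13940 (iv F208710)) (tt N11095 F189239) (tt N13265 F189240) (tt N15522 D48292))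
theorem Q13267 : ∀ i, i < 13267 → P i := stepQ 13266 Q13266 (allL N13266 (tt N13984 (iv F208959)) (tt N15522 (iv F215930)) (tt N11094 F189241) (tt N15483 (iv F215827)) (tt N11473 F189242) (tt N15512 (iv F215897)) (tt N13953 (iv F208792)) (tt N11096 F189243) (tt N15523 D48293) (tt N11093 (iv D45438)))
theorem Q13268 : ∀ i, i < 13268 → P i := stepQ 13267 Q13267 (allL N13267 (tt N15453 (iv F215753)) (tt N11113 F189244) (tt N15523 (iv F215934)) (tt N14620 (iv F212063)) (tt N11474 F189245) (tt N15514 (iv F215905)) (tt N14622 (iv F212075)) (tt N11097 F189246) (tt N11094 (iv D45439)) (tt N13267 F189247))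
theorem Q13269 : ∀ i, i < 13269 → P i := stepQ 13268 Q13268 (allL N13268 (tt N11095 (iv D45440)) (tt N14521 (iv F211660)) (tt N11114 F189248) (tt N15485 (iv F215830)) (tt N11475 F189249) (tt N15515 (iv F215909)) (tt N11098 F189250) (tt N14449 (iv F211351)) (tt N13268 F189251) (tt N15524 D48294))
theorem Q13270 : ∀ i, i < 13270 → P i := stepQ 13269 Q13269 (allL N13269 (tt N15524 (iv F215938)) (tt N11096 F189252) (tt N11115 F189253) (tt N15487 (iv F215836)) (tt N11476 F189254) (tt N15517 (iv F215917)) (tt N11099 F189255) (tt N15522 (iv F215933)) (tt N15525 D48295) (tt N11095 (iv D45441)))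
theorem Q13271 : ∀ i, i < 13271 → P i := stepQ 13270 Q13270 (allL N13270 (tt N15454 (iv F215758)) (tt N15525 (iv F215942)) (tt N11097 F189256) (tt N15526 D48296) (tt N11477 F189257) (tt N15520 (iv F215924)) (tt N11100 F189258) (tt N15523 (iv F215936)) (tt N11096 (iv D45442)) (tt N13270 F189259))
theorem Q13272 : ∀ i, i < 13272 → P i := stepQ 13271 Q13271 (allL N13271 (tt N11099 F189260) (tt N15455 (iv F215764)) (tt N11117 F189261) (tt N15495 (iv F215855)) (tt N11478 F189262) (tt N14608 (iv F212001)) (tt N15524 (iv F215941)) (tt N15360 (iv F215443)) (tt N15527 D48297) (tt N11098 (iv D45443)))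
theorem Q13273 : ∀ i, i < 13273 → P i := stepQ 13272 Q13272 (allL N13272 (tt N15527 (iv F215949)) (tt N11100 F189263) (tt N11118 F189264) (tt N15528 D48298) (tt N11479 F189265) (tt N14609 (iv F212005)) (tt N15525 (iv F215945)) (tt N15361 (iv F215447)) (tt N11099 (iv D45444)) (tt N13272 F189266))
theorem Q13274 : ∀ i, i < 13274 → P i := stepQ 13273 Q13273 (allL N13273 (tt N15457 (iv F215771)) (tt N15528 (iv F215953)) (tt N15423 (iv F215657)) (tt N11100 (iv D45445)) (tt N15529 D48299) (tt N14610 (iv F212007)) (tt N15526 (iv F215947)) (tt N15362 (iv F215449)) (tt N15502 (iv F215869)) (tt N13273 F189267))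
theorem Q13275 : ∀ i, i < 13275 → P i := stepQ 13274 Q13274 (allL N13274 (tt N13274 F189275) (tt N15510 (iv F215889)) (tt N14469 (iv F211434)) (tt N11102 F189276) (tt N14910 (iv F213391)) (tt N14476 (iv F211474)) (tt N11105 F189277) (tt N14472 (iv F211456)) (tt N15530 D48300) (tt N11101 (iv D45448)))
theorem Q13276 : ∀ i, i < 13276 → P i := stepQ 13275 Q13275 (allL N13275 (tt N15531 D48301) (tt N11103 (iv D45449)) (tt N15511 (iv F215892)) (tt N14454 F211373) (tt N15532 D48302) (tt N11111 F189278) (tt N14455 (iv F211376)) (tt N11106 F189279) (tt N13275 F189280) (tt N15533 D48303))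
theorem Q13277 : ∀ i, i < 13277 → P i := stepQ 13276 Q13276 (allL N13276 (tt N13276 F189281) (tt N15532 (iv F215966)) (tt N11104 F189282) (tt N11329 F204809) (tt N11103 (iv D45450)) (tt N11336 (iv F204858)) (tt N14468 (iv F211430)) (tt N11107 F189284) (tt N13276 F189285) (tt N15534 D48304))
theorem Q13278 : ∀ i, i < 13278 → P i := stepQ 13277 Q13277 (allL N13277 (tt N13277 F189286) (tt N15533 (iv F215971)) (tt N11105 F189287) (tt N14467 (iv F211420)) (tt N15534 (iv F215977)) (tt N11112 F189288) (tt N14469 (iv F211437)) (tt N11108 F189289) (tt N15535 D48305) (tt N11103 (iv D45451)))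
theorem Q13279 : ∀ i, i < 13279 → P i := stepQ 13278 Q13278 (allL N13278 (tt N13278 F189290) (tt N15513 (iv F215899)) (tt N15534 (iv F215975)) (tt N11295 F189291) (tt N11105 F189292) (tt N11305 (iv F204861)) (tt N14910 (iv F213393)) (tt N11109 F189294) (tt N15300 (iv F215221)) (tt N11104 (iv D45452)))
theorem Q13280 : ∀ i, i < 13280 → P i := stepQ 13279 Q13279 (allL N13279 (tt N13279 F189295) (tt N15514 (iv F215904)) (tt N15535 (iv F215981)) (tt N14617 (iv F212046)) (tt N15300 F215223) (tt N11113 F189296) (tt N15530 (iv F215960)) (tt N11110 F189297) (tt N11105 (iv D45453)) (tt N13279 F189298))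
theorem Q13281 : ∀ i, i < 13281 → P i := stepQ 13280 Q13280 (allL N13280 (tt N11106 (iv D45454)) (tt N13280 F189299) (tt N15515 (iv F215908)) (tt N15084 (iv F214274)) (tt N15536 D48306) (tt N11114 F189300) (tt N14613 (iv F212023)) (tt N15531 (iv F215964)) (tt N13280 F189301) (tt N15537 D48307))
theorem Q13282 : ∀ i, i < 13282 → P i := stepQ 13281 Q13281 (allL N13281 (tt N15536 (iv F215985)) (tt N11107 F189302) (tt N15516 (iv F215912)) (tt N15538 D48308) (tt N11106 (iv D45455)) (tt N11485 F189303) (tt N14614 (iv F212029)) (tt N15532 (iv F215969)) (tt N13281 F189304) (tt N15539 D48309))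
theorem Q13283 : ∀ i, i < 13283 → P i := stepQ 13282 Q13282 (allL N13282 (tt N15537 (iv F215989)) (tt N11108 F189305) (tt N15517 (iv F215916)) (tt N15085 (iv F214280)) (tt N15539 (iv F215999)) (tt N11115 F189306) (tt N14615 (iv F212035)) (tt N15533 (iv F215973)) (tt N15540 D48310) (tt N11106 (iv D45456)))
theorem Q13284 : ∀ i, i < 13284 → P i := stepQ 13283 Q13283 (allL N13283 (tt N13283 F189307) (tt N15538 (iv F215992)) (tt N11300 F189308) (tt N11107 (iv D45457)) (tt N11171 F204819) (tt N11333 (iv F204871)) (tt N11174 F204820) (tt N11329 F204821) (tt N11323 F204822) (tt N15541 D48311))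
theorem Q13285 : ∀ i, i < 13285 → P i := stepQ 13284 Q13284 (allL N13284 (tt N13284 F189310) (tt N15539 (iv F215998)) (tt N11109 F189311) (tt N15541 (iv F216006)) (tt N11108 F189312) (tt N11487 F189313) (tt N14616 (iv F212042)) (tt N15534 (iv F215979)) (tt N15542 D48312) (tt N11107 (iv D45458)))
theorem Q13286 : ∀ i, i < 13286 → P i := stepQ 13285 Q13285 (allL N13285 (tt N13285 F189314) (tt N15540 (iv F216001)) (tt N11110 F189315) (tt N15530 (iv F215958)) (tt N15542 (iv F216014)) (tt N11116 F189316) (tt N14617 (iv F212048)) (tt N15535 (iv F215983)) (tt N11108 (iv D45459)) (tt N13285 F189317))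
theorem Q13287 : ∀ i, i < 13287 → P i := stepQ 13286 Q13286 (allL N13286 (tt N13286 F189318) (tt N15521 (iv F215926)) (tt N15542 (iv F216013)) (tt N15293 (iv F215186)) (tt N11110 F189319) (tt N11489 F189320) (tt N14618 (iv F212054)) (tt N15300 (iv F215220)) (tt N11109 (iv D45460)) (tt N13286 F189321))
theorem Q13288 : ∀ i, i < 13288 → P i := stepQ 13287 Q13287 (allL N13287 (tt N11111 (iv D45461)) (tt N13287 F189322) (tt N14449 (iv F211349)) (tt N15086 (iv F214286)) (tt N11490 F189323) (tt N15531 (iv F215963)) (tt N14359 F210960) (tt N11114 F189324) (tt N13287 F189325) (tt N15543 D48313))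
theorem Q13289 : ∀ i, i < 13289 → P i := stepQ 13288 Q13288 (allL N13288 (tt N15543 (iv F216017)) (tt N11112 F189326) (tt N15522 (iv F215931)) (tt N15087 (iv F214290)) (tt N11491 F189327) (tt N15533 (iv F215972)) (tt N15364 (iv F215459)) (tt N11115 F189328) (tt N15544 D48314) (tt N11111 (iv D45462)))
theorem Q13290 : ∀ i, i < 13290 → P i := stepQ 13289 Q13289 (allL N13289 (tt N13289 F189329) (tt N15544 (iv F216021)) (tt N11113 F189330) (tt N14480 (iv F211491)) (tt N11492 F189331) (tt N15535 (iv F215982)) (tt N14483 (iv F211504)) (tt N11116 F189332) (tt N11112 (iv D45463)) (tt N13289 F189333))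
theorem Q13291 : ∀ i, i < 13291 → P i := stepQ 13290 Q13290 (allL N13290 (tt N11115 F189334) (tt N13290 F189335) (tt N15524 (iv F215939)) (tt N15088 (iv F214295)) (tt N11493 F189336) (tt N15537 (iv F215991)) (tt N11117 F189337) (tt N15543 (iv F216020)) (tt N15545 D48315) (tt N11114 (iv D45464)))
theorem Q13292 : ∀ i, i < 13292 → P i := stepQ 13291 Q13291 (allL N13291 (tt N15545 (iv F216025)) (tt N11116 F189338) (tt N15525 (iv F215943)) (tt N15546 D48316) (tt N11494 F189339) (tt N15540 (iv F216002)) (tt N11118 F189340) (tt N15544 (iv F216023)) (tt N11115 (iv D45465)) (tt N13291 F189341))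
theorem Q13293 : ∀ i, i < 13293 → P i := stepQ 13292 Q13292 (allL N13292 (tt N13292 F189342) (tt N15546 (iv F216030)) (tt N14477 (iv F211479)) (tt N11116 (iv D45466)) (tt N15547 D48317) (tt N15530 (iv F215959)) (tt N11119 F189343) (tt N14480 (iv F211493)) (tt N14476 F211477) (tt N13292 F189344))
theorem Q13294 : ∀ i, i < 13294 → P i := stepQ 13293 Q13293 (allL N13293 (tt N11118 F189345) (tt N13293 F189346) (tt N15527 (iv F215950)) (tt N15548 D48318) (tt N11496 F189347) (tt N14621 (iv F212071)) (tt N15545 (iv F216028)) (tt N15367 (iv F215472)) (tt N11117 (iv D45467)) (tt N13293 F189348))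
theorem Q13295 : ∀ i, i < 13295 → P i := stepQ 13294 Q13294 (allL N13294 (tt N15548 (iv F216037)) (tt N11119 F189349) (tt N15549 D48319) (tt N11118 (iv D45468)) (tt N15550 D48320) (tt N14622 (iv F212074)) (tt N15546 (iv F216031)) (tt N15357 (iv F215430)) (tt N15091 (iv F214312)) (tt N13294 F189350))
theorem Q13296 : ∀ i, i < 13296 → P i := stepQ 13295 Q13295 (allL N13295 (tt N13295 F189351) (tt N15550 (iv F216041)) (tt N15427 (iv F215670)) (tt N11498 F189352) (tt N11119 (iv D45469)) (tt N15551 D48321) (tt N15547 (iv F216035)) (tt N15363 (iv F215454)) (tt N15092 (iv F214318)) (tt N13295 F189353))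
theorem Q13297 : ∀ i, i < 13297 → P i := stepQ 13296 Q13296 (allL N13296 (tt N11141 F189508) (tt N14498 (iv F211578)) (tt N11129 F189509) (tt N14730 (iv F212633)) (tt N14485 F211523) (tt N13296 F189510) (tt N11122 (iv D45511)) (tt N14649 (iv F212240)) (tt N15552 D48322) (tt N11202 F189511))
theorem Q13298 : ∀ i, i < 13298 → P i := stepQ 13297 Q13297 (allL N13297 (tt N11142 F189512) (tt N15180 (iv F214729)) (tt N11130 F189513) (tt N15553 D48323) (tt N15372 (iv F215498)) (tt N11124 F189514) (tt N15552 (iv F216053)) (tt N11123 F189515) (tt N11122 (iv D45512)) (tt N15554 D48324))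
theorem Q13299 : ∀ i, i < 13299 → P i := stepQ 13298 Q13298 (allL N13298 (tt N11143 F189516) (tt N15173 (iv F214701)) (tt N14671 (iv F212342)) (tt N11123 (iv D45513)) (tt N15555 D48325) (tt N11125 F189517) (tt N14651 (iv F212249)) (tt N15553 (iv F216056)) (tt N14682 (iv F212396)) (tt N15556 D48326))
theorem Q13300 : ∀ i, i < 13300 → P i := stepQ 13299 Q13299 (allL N13299 (tt N11144 F189518) (tt N15182 (iv F214742)) (tt N11131 F189519) (tt N15556 (iv F216064)) (tt N15374 (iv F215505)) (tt N11126 F189520) (tt N14652 (iv F212254)) (tt N15554 (iv F216060)) (tt N11205 F189521) (tt N11123 (iv D45514)))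
theorem Q13301 : ∀ i, i < 13301 → P i := stepQ 13300 Q13300 (allL N13300 (tt N11145 F189522) (tt N15168 (iv F214681)) (tt N14673 (iv F212352)) (tt N11124 (iv D45515)) (tt N15149 (iv F214601)) (tt N15553 (iv F216055)) (tt N13300 F189523) (tt N11125 F189524) (tt N14685 (iv F212405)) (tt N15557 D48327))
theorem Q13302 : ∀ i, i < 13302 → P i := stepQ 13301 Q13301 (allL N13301 (tt N11146 F189525) (tt N15181 (iv F214735)) (tt N11132 F189526) (tt N15557 (iv F216067)) (tt N11128 F189527) (tt N15554 (iv F216059)) (tt N13301 F189528) (tt N11126 F189529) (tt N11207 F189530) (tt N11124 (iv D45516)))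
theorem Q13303 : ∀ i, i < 13303 → P i := stepQ 13302 Q13302 (allL N13302 (tt N11149 F189537) (tt N15174 (iv F214704)) (tt N14676 (iv F212368)) (tt N11126 F189538) (tt N15151 (iv F214615)) (tt N15556 (iv F216065)) (tt N11127 F189539) (tt N15557 (iv F216069)) (tt N15558 D48328) (tt N11125 (iv D45519)))
theorem Q13304 : ∀ i, i < 13304 → P i := stepQ 13303 Q13303 (allL N13303 (tt N11154 F189557) (tt N15179 (iv F214724)) (tt N14678 (iv F212377)) (tt N11212 F189558) (tt N15152 (iv F214620)) (tt N14658 (iv F212284)) (tt N15558 (iv F216072)) (tt N13303 F189559) (tt N11127 (iv D45525)) (tt N14696 (iv F212455)))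
theorem Q13305 : ∀ i, i < 13305 → P i := stepQ 13304 Q13304 (allL N13304 (tt N11159 F189612) (tt N13304 F189613) (tt N15552 (iv F216051)) (tt N14922 (iv F213452)) (tt N15084 (iv F214275)) (tt N13304 F189614) (tt N11130 F189615) (tt N14665 (iv F212314)) (tt N11129 (iv D45538)) (tt N15559 D48329))
theorem Q13306 : ∀ i, i < 13306 → P i := stepQ 13305 Q13305 (allL N13305 (tt N11161 F189621) (tt N13305 F189622) (tt N15554 (iv F216058)) (tt N14923 (iv F213458)) (tt N15381 (iv F215534)) (tt N11132 F189623) (tt N15559 (iv F216076)) (tt N11131 F189624) (tt N11215 F189625) (tt N11130 (iv D45540)))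
theorem Q13307 : ∀ i, i < 13307 → P i := stepQ 13306 Q13306 (allL N13306 (tt N14718 (iv F212549)) (tt N15099 (iv F214356)) (tt N11310 F189680) (tt N15560 D48330) (tt N11135 F189681) (tt N11627 F189682) (tt N14668 (iv F212330)) (tt N15144 (iv F214577)) (tt N11133 (iv D45553)) (tt N15561 D48331))
theorem Q13308 : ∀ i, i < 13308 → P i := stepQ 13307 Q13307 (allL N13307 (tt N14730 (iv F212630)) (tt N14076 (iv F209497)) (tt N11311 F189683) (tt N11141 F189684) (tt N14056 F209379) (tt N13307 F189685) (tt N11134 (iv D45554)) (tt N14669 (iv F212335)) (tt N15562 D48332) (tt N11227 F189686))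
theorem Q13309 : ∀ i, i < 13309 → P i := stepQ 13308 Q13308 (allL N13308 (tt N14714 (iv F212523)) (tt N15100 (iv F214362)) (tt N11312 F189687) (tt N15563 D48333) (tt N15144 (iv F214575)) (tt N11136 F189688) (tt N15562 (iv F216085)) (tt N11135 F189689) (tt N11134 (iv D45555)) (tt N15564 D48334))
theorem Q13310 : ∀ i, i < 13310 → P i := stepQ 13309 Q13309 (allL N13309 (tt N14682 (iv F212392)) (tt N15101 (iv F214368)) (tt N14651 (iv F212247)) (tt N11135 (iv D45556)) (tt N15565 D48335) (tt N11137 F189690) (tt N14671 (iv F212344)) (tt N15563 (iv F216087)) (tt N11143 F189691) (tt N15566 D48336))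
theorem Q13311 : ∀ i, i < 13311 → P i := stepQ 13310 Q13310 (allL N13310 (tt N14719 (iv F212556)) (tt N15102 (iv F214372)) (tt N11313 F189692) (tt N15566 (iv F216094)) (tt N15561 (iv F216080)) (tt N11138 F189693) (tt N14672 (iv F212349)) (tt N15564 (iv F216091)) (tt N11230 F189694) (tt N11135 (iv D45557)))
theorem Q13312 : ∀ i, i < 13312 → P i := stepQ 13311 Q13311 (allL N13311 (tt N14685 (iv F212401)) (tt N15103 (iv F214377)) (tt N14653 (iv F212257)) (tt N11136 (iv D45558)) (tt N15567 D48337) (tt N15563 (iv F216086)) (tt N13311 F189695) (tt N11137 F189696) (tt N11145 F189697) (tt N15568 D48338))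
theorem Q13313 : ∀ i, i < 13313 → P i := stepQ 13312 Q13312 (allL N13312 (tt N14721 (iv F212567)) (tt N15104 (iv F214383)) (tt N11314 F189698) (tt N15568 (iv F216102)) (tt N11629 F189699) (tt N15564 (iv F216090)) (tt N13312 F189700) (tt N11138 F189701) (tt N11232 F189702) (tt N11136 (iv D45559)))
theorem Q13314 : ∀ i, i < 13314 → P i := stepQ 13313 Q13313 (allL N13313 (tt N14689 (iv F212421)) (tt N11199 F203624) (tt N14655 (iv F212268)) (tt N11192 F203625) (tt N11137 (iv D45561)) (tt N15569 D48339) (tt N11139 F189707) (tt N15567 (iv F216100)) (tt N11148 F189708) (tt N15570 D48340))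
theorem Q13315 : ∀ i, i < 13315 → P i := stepQ 13314 Q13314 (allL N13314 (tt N14690 (iv F212428)) (tt N15105 (iv F214390)) (tt N14656 (iv F212273)) (tt N11138 F189709) (tt N15570 (iv F216110)) (tt N15566 (iv F216095)) (tt N11140 F189710) (tt N15568 (iv F216104)) (tt N15571 D48341) (tt N11137 (iv D45562)))
theorem Q13316 : ∀ i, i < 13316 → P i := stepQ 13315 Q13315 (allL N13315 (tt N14695 (iv F212444)) (tt N11201 F203858) (tt N14657 (iv F212277)) (tt N11193 F203859) (tt N11140 F189724) (tt N14736 (iv F212664)) (tt N15570 (iv F216111)) (tt N13315 F189725) (tt N15572 D48342) (tt N11139 (iv D45567)))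
theorem Q13317 : ∀ i, i < 13317 → P i := stepQ 13316 Q13316 (allL N13316 (tt N14696 (iv F212450)) (tt N15106 (iv F214395)) (tt N14658 (iv F212282)) (tt N11241 F189726) (tt N15572 (iv F216116)) (tt N14678 (iv F212379)) (tt N15571 (iv F216113)) (tt N13316 F189727) (tt N11140 (iv D45568)) (tt N11154 F189728))
theorem Q13318 : ∀ i, i < 13318 → P i := stepQ 13317 Q13317 (allL N13317 (tt N15552 (iv F216050)) (tt N15075 (iv F214237)) (tt N11159 F189729) (tt N15573 D48343) (tt N15074 F214235) (tt N13317 F189730) (tt N11142 F189731) (tt N14679 (iv F212385)) (tt N11141 (iv D45569)) (tt N15574 D48344))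
theorem Q13319 : ∀ i, i < 13319 → P i := stepQ 13318 Q13318 (allL N13318 (tt N15553 (iv F216054)) (tt N15107 (iv F214401)) (tt N15575 D48345) (tt N11142 (iv D45570)) (tt N15576 D48346) (tt N11145 F189732) (tt N15573 (iv F216120)) (tt N11143 F189733) (tt N15563 (iv F216088)) (tt N15577 D48347))
theorem Q13320 : ∀ i, i < 13320 → P i := stepQ 13319 Q13319 (allL N13319 (tt N15554 (iv F216057)) (tt N15108 (iv F214405)) (tt N11161 F189734) (tt N15577 (iv F216129)) (tt N15399 (iv F215592)) (tt N11146 F189735) (tt N15574 (iv F216123)) (tt N11144 F189736) (tt N11244 F189737) (tt N11142 (iv D45571)))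
theorem Q13321 : ∀ i, i < 13321 → P i := stepQ 13320 Q13320 (allL N13320 (tt N14671 (iv F212341)) (tt N15578 D48348) (tt N11143 (iv D45572)) (tt N11162 F189738) (tt N15579 D48349) (tt N11147 F189739) (tt N14682 (iv F212395)) (tt N15575 (iv F216127)) (tt N14651 (iv F212250)) (tt N15580 D48350))
theorem Q13322 : ∀ i, i < 13322 → P i := stepQ 13321 Q13321 (allL N13321 (tt N15555 (iv F216062)) (tt N15110 (iv F214414)) (tt N15579 (iv F216134)) (tt N15401 (iv F215598)) (tt N11143 (iv D45573)) (tt N15581 D48351) (tt N14683 (iv F212397)) (tt N15576 (iv F216128)) (tt N15565 (iv F216093)) (tt N15582 D48352))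
theorem Q13323 : ∀ i, i < 13323 → P i := stepQ 13322 Q13322 (allL N13322 (tt N15556 (iv F216063)) (tt N15111 (iv F214417)) (tt N15580 (iv F216135)) (tt N11144 F189740) (tt N15582 (iv F216140)) (tt N11149 F189741) (tt N14684 (iv F212400)) (tt N15577 (iv F216131)) (tt N15583 D48353) (tt N11143 (iv D45574)))
theorem Q13324 : ∀ i, i < 13324 → P i := stepQ 13323 Q13323 (allL N13323 (tt N14673 (iv F212351)) (tt N15584 D48354) (tt N11145 (iv D45575)) (tt N11165 F189742) (tt N15585 D48355) (tt N15575 (iv F216126)) (tt N13323 F189743) (tt N11147 F189744) (tt N14653 (iv F212260)) (tt N15586 D48356))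
theorem Q13325 : ∀ i, i < 13325 → P i := stepQ 13324 Q13324 (allL N13324 (tt N15149 (iv F214599)) (tt N11206 F203498) (tt N15585 (iv F216146)) (tt N11155 F189745) (tt N11145 (iv D45576)) (tt N15587 D48357) (tt N13324 F189746) (tt N11148 F189747) (tt N15567 (iv F216101)) (tt N15588 D48358))
theorem Q13326 : ∀ i, i < 13326 → P i := stepQ 13325 Q13325 (allL N13325 (tt N15557 (iv F216066)) (tt N15113 (iv F214426)) (tt N15586 (iv F216150)) (tt N11146 F189748) (tt N15588 (iv F216159)) (tt N15577 (iv F216130)) (tt N13325 F189749) (tt N11149 F189750) (tt N15589 D48359) (tt N11145 (iv D45577)))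
theorem Q13327 : ∀ i, i < 13327 → P i := stepQ 13326 Q13326 (allL N13326 (tt N15222 (iv F214926)) (tt N11147 (iv D45578)) (tt N15114 (iv F214431)) (tt N11167 F189751) (tt N15590 D48360) (tt N15578 (iv F216133)) (tt N11150 F189752) (tt N15584 (iv F216145)) (tt N14644 (iv F212211)) (tt N15591 D48361))
theorem Q13328 : ∀ i, i < 13328 → P i := stepQ 13327 Q13327 (allL N13327 (tt N14675 (iv F212362)) (tt N15590 (iv F216165)) (tt N11148 F189753) (tt N13327 F189754) (tt N11147 (iv D45579)) (tt N15592 D48362) (tt N11151 F189755) (tt N15585 (iv F216149)) (tt N14655 (iv F212271)) (tt N15593 D48363))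
theorem Q13329 : ∀ i, i < 13329 → P i := stepQ 13328 Q13328 (allL N13328 (tt N14676 (iv F212367)) (tt N15591 (iv F216169)) (tt N11149 F189756) (tt N11168 F189757) (tt N15593 (iv F216176)) (tt N15580 (iv F216137)) (tt N11152 F189758) (tt N15586 (iv F216153)) (tt N15594 D48364) (tt N11147 (iv D45580)))
theorem Q13330 : ∀ i, i < 13330 → P i := stepQ 13329 Q13329 (allL N13329 (tt N15147 (iv F214591)) (tt N11204 F203627) (tt N15592 (iv F216172)) (tt N11157 F189759) (tt N15581 (iv F216139)) (tt N11148 (iv D45581)) (tt N14739 (iv F212677)) (tt N15587 (iv F216156)) (tt N15569 (iv F216107)) (tt N15595 D48365))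
theorem Q13331 : ∀ i, i < 13331 → P i := stepQ 13330 Q13330 (allL N13330 (tt N15151 (iv F214612)) (tt N11209 F203629) (tt N15593 (iv F216174)) (tt N11158 F189760) (tt N11149 F189761) (tt N15595 (iv F216182)) (tt N11153 F189762) (tt N15588 (iv F216161)) (tt N15596 D48366) (tt N11148 (iv D45582)))
theorem Q13332 : ∀ i, i < 13332 → P i := stepQ 13331 Q13331 (allL N13331 (tt N15558 (iv F216070)) (tt N15116 (iv F214441)) (tt N15594 (iv F216178)) (tt N11256 F189763) (tt N15596 (iv F216184)) (tt N15583 (iv F216142)) (tt N11154 F189764) (tt N15589 (iv F216164)) (tt N11149 (iv D45583)) (tt N15571 (iv F216114)))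
theorem Q13333 : ∀ i, i < 13333 → P i := stepQ 13332 Q13332 (allL N13332 (tt N14128 (iv F209771)) (tt N11151 F189767) (tt N11210 F203860) (tt N13332 F189768) (tt N11150 (iv D45585)) (tt N14083 (iv F209536)) (tt N15590 (iv F216168)) (tt N13332 F189769) (tt N14095 (iv F209599)) (tt N15597 D48367))
theorem Q13334 : ∀ i, i < 13334 → P i := stepQ 13333 Q13333 (allL N13333 (tt N15223 (iv F214930)) (tt N11152 F189770) (tt N15118 (iv F214453)) (tt N11170 F189771) (tt N15597 (iv F216189)) (tt N14694 (iv F212442)) (tt N15591 (iv F216171)) (tt N13333 F189772) (tt N15598 D48368) (tt N11150 (iv D45586)))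
theorem Q13335 : ∀ i, i < 13335 → P i := stepQ 13334 Q13334 (allL N13334 (tt N14677 (iv F212371)) (tt N15597 (iv F216186)) (tt N11153 F189776) (tt N13334 F189777) (tt N11152 F189778) (tt N14745 (iv F212697)) (tt N15593 (iv F216177)) (tt N13334 F189779) (tt N15599 D48369) (tt N11151 (iv D45588)))
theorem Q13336 : ∀ i, i < 13336 → P i := stepQ 13335 Q13335 (allL N13335 (tt N14678 (iv F212376)) (tt N15598 (iv F216191)) (tt N11154 F189780) (tt N14758 (iv F212763)) (tt N15599 (iv F216194)) (tt N14696 (iv F212453)) (tt N15594 (iv F216179)) (tt N13335 F189781) (tt N11152 (iv D45589)) (tt N14658 (iv F212286)))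
theorem Q13337 : ∀ i, i < 13337 → P i := stepQ 13336 Q13336 (allL N13336 (tt N15152 (iv F214617)) (tt N11212 F203861) (tt N15599 (iv F216193)) (tt N15179 (iv F214725)) (tt N11154 F189786) (tt N14746 (iv F212700)) (tt N15596 (iv F216185)) (tt N13336 F189787) (tt N11153 (iv D45592)) (tt N15572 (iv F216118)))
theorem Q13338 : ∀ i, i < 13338 → P i := stepQ 13337 Q13337 (allL N13337 (tt N15146 (iv F214585)) (tt N11203 F203499) (tt N13337 F189788) (tt N15587 (iv F216155)) (tt N15368 (iv F215477)) (tt N11155 (iv D45593)) (tt N15600 D48370) (tt N11157 F189789) (tt N11194 F203500) (tt N15601 D48371))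
theorem Q13339 : ∀ i, i < 13339 → P i := stepQ 13338 Q13338 (allL N13338 (tt N15150 (iv F214605)) (tt N11207 F203501) (tt N13338 F189791) (tt N15588 (iv F216158)) (tt N11156 F189792) (tt N15601 (iv F216202)) (tt N13338 F189793) (tt N11158 F189794) (tt N15181 (iv F214740)) (tt N11155 (iv D45594)))
theorem Q13340 : ∀ i, i < 13340 → P i := stepQ 13339 Q13339 (allL N13339 (tt N15148 (iv F214594)) (tt N11205 F203628) (tt N13339 F189803) (tt N15595 (iv F216181)) (tt N15415 (iv F215631)) (tt N11158 F189804) (tt N14740 (iv F212681)) (tt N15601 (iv F216203)) (tt N15182 (iv F214745)) (tt N11157 (iv D45597)))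
theorem Q13341 : ∀ i, i < 13341 → P i := stepQ 13340 Q13340 (allL N13340 (tt N14922 (iv F213450)) (tt N11171 F189837) (tt N15602 D48372) (tt N11159 (iv D45607)) (tt N15538 (iv F215993)) (tt N13340 F189838) (tt N11160 F189839) (tt N14712 (iv F212515)) (tt N11315 F189840) (tt N15603 D48373))
theorem Q13342 : ∀ i, i < 13342 → P i := stepQ 13341 Q13341 (allL N13341 (tt N15559 (iv F216073)) (tt N11172 F189841) (tt N15574 (iv F216121)) (tt N15603 (iv F216208)) (tt N15085 (iv F214281)) (tt N13341 F189842) (tt N11161 F189843) (tt N14713 (iv F212521)) (tt N11274 F189844) (tt N11159 (iv D45608)))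
theorem Q13343 : ∀ i, i < 13343 → P i := stepQ 13342 Q13342 (allL N13342 (tt N14670 (iv F212337)) (tt N15604 D48374) (tt N11160 (iv D45609)) (tt N15575 (iv F216125)) (tt N15605 D48375) (tt N11165 F189845) (tt N15602 (iv F216205)) (tt N11162 F189846) (tt N11316 F189847) (tt N15606 D48376))
theorem Q13344 : ∀ i, i < 13344 → P i := stepQ 13343 Q13343 (allL N13343 (tt N14919 (iv F213433)) (tt N11174 F189848) (tt N15605 (iv F216215)) (tt N14614 (iv F212027)) (tt N11160 (iv D45610)) (tt N13343 F189849) (tt N15538 (iv F215995)) (tt N11163 F189850) (tt N11317 F189851) (tt N15607 D48377))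
theorem Q13345 : ∀ i, i < 13345 → P i := stepQ 13344 Q13344 (allL N13344 (tt N14923 (iv F213456)) (tt N11175 F189852) (tt N15606 (iv F216219)) (tt N11161 F189853) (tt N15607 (iv F216223)) (tt N11166 F189854) (tt N15603 (iv F216210)) (tt N11164 F189855) (tt N14927 (iv F213487)) (tt N11160 (iv D45611)))
theorem Q13346 : ∀ i, i < 13346 → P i := stepQ 13345 Q13345 (allL N13345 (tt N15608 D48378) (tt N11162 (iv D45612)) (tt N11176 F189856) (tt N15578 (iv F216132)) (tt N15609 D48379) (tt N11167 F189857) (tt N14717 (iv F212545)) (tt N15604 (iv F216213)) (tt N11318 F189858) (tt N15610 D48380))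
theorem Q13347 : ∀ i, i < 13347 → P i := stepQ 13346 Q13346 (allL N13346 (tt N14668 (iv F212326)) (tt N15609 (iv F216233)) (tt N11163 F189859) (tt N15611 D48381) (tt N11162 (iv D45613)) (tt N13346 F189860) (tt N14718 (iv F212553)) (tt N15605 (iv F216217)) (tt N11319 F189861) (tt N15612 D48382))
theorem Q13348 : ∀ i, i < 13348 → P i := stepQ 13347 Q13347 (allL N13347 (tt N14672 (iv F212346)) (tt N15610 (iv F216238)) (tt N11164 F189862) (tt N15580 (iv F216136)) (tt N15612 (iv F216243)) (tt N11168 F189863) (tt N14719 (iv F212559)) (tt N15606 (iv F216221)) (tt N14752 (iv F212735)) (tt N11162 (iv D45614)))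
theorem Q13349 : ∀ i, i < 13349 → P i := stepQ 13348 Q13348 (allL N13348 (tt N14921 (iv F213444)) (tt N11179 F189864) (tt N15612 (iv F216242)) (tt N15418 (iv F215639)) (tt N11164 F189865) (tt N13348 F189866) (tt N14720 (iv F212565)) (tt N15607 (iv F216225)) (tt N14926 (iv F213481)) (tt N11163 (iv D45615)))
theorem Q13350 : ∀ i, i < 13350 → P i := stepQ 13349 Q13349 (allL N13349 (tt N15613 D48383) (tt N11165 (iv D45617)) (tt N11181 F189871) (tt N15584 (iv F216143)) (tt N13349 F189872) (tt N15604 (iv F216212)) (tt N13349 F189873) (tt N11167 F189874) (tt N11320 F189875) (tt N15614 D48384))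
theorem Q13351 : ∀ i, i < 13351 → P i := stepQ 13350 Q13350 (allL N13350 (tt N14674 (iv F212356)) (tt N15614 (iv F216251)) (tt N11166 F189876) (tt N15586 (iv F216151)) (tt N13350 F189877) (tt N15606 (iv F216220)) (tt N13350 F189878) (tt N11168 F189879) (tt N14754 (iv F212746)) (tt N11165 (iv D45618)))
theorem Q13352 : ∀ i, i < 13352 → P i := stepQ 13351 Q13351 (allL N13351 (tt N11167 (iv D45620)) (tt N11640 (iv F206805)) (tt N11184 F189886) (tt N15222 (iv F214928)) (tt N13351 F189887) (tt N15608 (iv F216228)) (tt N11169 F189888) (tt N15613 (iv F216249)) (tt N11321 F189889) (tt N15615 D48385))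
theorem Q13353 : ∀ i, i < 13353 → P i := stepQ 13352 Q13352 (allL N13352 (tt N15615 (iv F216256)) (tt N11168 F189890) (tt N11185 F189891) (tt N15591 (iv F216170)) (tt N13352 F189892) (tt N15610 (iv F216240)) (tt N11170 F189893) (tt N15614 (iv F216255)) (tt N14735 (iv F212661)) (tt N11167 (iv D45621)))
theorem Q13354 : ∀ i, i < 13354 → P i := stepQ 13353 Q13353 (allL N13353 (tt N11170 F189898) (tt N11641 (iv F206779)) (tt N11187 F189899) (tt N15223 (iv F214932)) (tt N13353 F189900) (tt N11609 F206778) (tt N15615 (iv F216260)) (tt N13353 F189901) (tt N14060 (iv F209405)) (tt N11169 (iv D45623)))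
theorem Q13355 : ∀ i, i < 13355 → P i := stepQ 13354 Q13354 (allL N13354 (tt N13354 F189917) (tt N15603 (iv F216207)) (tt N15298 (iv F215206)) (tt N11172 F189918) (tt N15541 (iv F216007)) (tt N13354 F189919) (tt N11175 F189920) (tt N14723 (iv F212587)) (tt N14909 (iv F213389)) (tt N11171 (iv D45628)))
theorem Q13356 : ∀ i, i < 13356 → P i := stepQ 13355 Q13355 (allL N13355 (tt N14934 (iv F213531)) (tt N11173 (iv D45629)) (tt N15604 (iv F216211)) (tt N14188 F210042) (tt N14906 (iv F213367)) (tt N11181 F189921) (tt N14924 (iv F213466)) (tt N11176 F189922) (tt N11325 F189923) (tt N15616 D48386))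
theorem Q13357 : ∀ i, i < 13357 → P i := stepQ 13356 Q13356 (allL N13356 (tt N13356 F189929) (tt N15616 (iv F216261)) (tt N11175 F189930) (tt N14190 (iv F210049)) (tt N14909 (iv F213385)) (tt N11182 F189931) (tt N15298 (iv F215210)) (tt N11178 F189932) (tt N15541 (iv F216011)) (tt N11173 (iv D45631)))
theorem Q13358 : ∀ i, i < 13358 → P i := stepQ 13357 Q13357 (allL N13357 (tt N13357 F189933) (tt N15607 (iv F216222)) (tt N14909 (iv F213383)) (tt N14616 (iv F212039)) (tt N11175 F189934) (tt N13357 F189935) (tt N15541 (iv F216009)) (tt N11179 F189936) (tt N15298 (iv F215212)) (tt N11174 (iv D45632)))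
theorem Q13359 : ∀ i, i < 13359 → P i := stepQ 13358 Q13358 (allL N13358 (tt N13358 F189937) (tt N14927 (iv F213483)) (tt N15541 (iv F216005)) (tt N11296 F189938) (tt N15298 (iv F215208)) (tt N11183 F189939) (tt N14909 (iv F213387)) (tt N11180 F189940) (tt N11175 (iv D45633)) (tt N11300 F204818))
theorem Q13360 : ∀ i, i < 13360 → P i := stepQ 13359 Q13359 (allL N13359 (tt N11176 (iv D45634)) (tt N13359 F189942) (tt N15608 (iv F216227)) (tt N15132 (iv F214518)) (tt N11354 F204082) (tt N11184 F189943) (tt N11351 F204083) (tt N14934 (iv F213536)) (tt N11326 F189944) (tt N15617 D48387))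
theorem Q13361 : ∀ i, i < 13361 → P i := stepQ 13360 Q13360 (allL N13360 (tt N11354 F204294) (tt N11177 F189945) (tt N15609 (iv F216234)) (tt N14902 (iv F213346)) (tt N11176 (iv D45635)) (tt N13360 F189946) (tt N11341 F204295) (tt N14906 (iv F213370)) (tt N11327 F189947) (tt N15618 D48388))
theorem Q13362 : ∀ i, i < 13362 → P i := stepQ 13361 Q13361 (allL N13361 (tt N15617 (iv F216264)) (tt N11178 F189948) (tt N15610 (iv F216239)) (tt N15133 (iv F214523)) (tt N15618 (iv F216271)) (tt N11185 F189949) (tt N14727 (iv F212617)) (tt N15616 (iv F216263)) (tt N15619 D48389) (tt N11176 (iv D45636)))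
theorem Q13363 : ∀ i, i < 13363 → P i := stepQ 13362 Q13362 (allL N13362 (tt N13362 F189952) (tt N15618 (iv F216270)) (tt N11179 F189953) (tt N14900 (iv F213332)) (tt N11178 F189954) (tt N13362 F189955) (tt N14726 (iv F212610)) (tt N14909 (iv F213388)) (tt N14723 (iv F212588)) (tt N11177 (iv D45638)))
theorem Q13364 : ∀ i, i < 13364 → P i := stepQ 13363 Q13363 (allL N13363 (tt N13363 F189956) (tt N15619 (iv F216274)) (tt N11180 F189957) (tt N15534 (iv F215976)) (tt N14723 (iv F212584)) (tt N11186 F189958) (tt N14725 (iv F212601)) (tt N15541 (iv F216010)) (tt N11178 (iv D45639)) (tt N11329 F189959))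
theorem Q13365 : ∀ i, i < 13365 → P i := stepQ 13364 Q13364 (allL N13364 (tt N13364 F189960) (tt N14926 (iv F213477)) (tt N14723 (iv F212582)) (tt N15292 (iv F215180)) (tt N11180 F189961) (tt N13364 F189962) (tt N14724 (iv F212594)) (tt N15298 (iv F215211)) (tt N11179 (iv D45640)) (tt N11330 F189963))
theorem Q13366 : ∀ i, i < 13366 → P i := stepQ 13365 Q13365 (allL N13365 (tt N11181 (iv D45641)) (tt N13365 F189964) (tt N15613 (iv F216246)) (tt N15135 (iv F214530)) (tt N13365 F189965) (tt N14934 (iv F213534)) (tt N13365 F189966) (tt N11184 F189967) (tt N11331 F189968) (tt N15620 D48390))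
theorem Q13367 : ∀ i, i < 13367 → P i := stepQ 13366 Q13366 (allL N13366 (tt N15620 (iv F216277)) (tt N11182 F189969) (tt N15614 (iv F216252)) (tt N15136 (iv F214535)) (tt N13366 F189970) (tt N15616 (iv F216262)) (tt N13366 F189971) (tt N11185 F189972) (tt N15621 D48391) (tt N11181 (iv D45642)))
theorem Q13368 : ∀ i, i < 13368 → P i := stepQ 13367 Q13367 (allL N13367 (tt N13367 F189973) (tt N15621 (iv F216282)) (tt N11183 F189974) (tt N11487 F206659) (tt N13367 F189975) (tt N15541 (iv F216008)) (tt N13367 F189976) (tt N11186 F189977) (tt N11182 (iv D45643)) (tt N11333 F189978))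
theorem Q13369 : ∀ i, i < 13369 → P i := stepQ 13368 Q13368 (allL N13368 (tt N11185 F189979) (tt N13368 F189980) (tt N15615 (iv F216258)) (tt N15138 (iv F214546)) (tt N13368 F189981) (tt N15617 (iv F216267)) (tt N11187 F189982) (tt N15620 (iv F216281)) (tt N15622 D48392) (tt N11184 (iv D45644)))
theorem Q13370 : ∀ i, i < 13370 → P i := stepQ 13369 Q13369 (allL N13369 (tt N15622 (iv F216288)) (tt N11186 F189983) (tt N14735 (iv F212658)) (tt N15623 D48393) (tt N13369 F189984) (tt N15619 (iv F216275)) (tt N11188 F189985) (tt N15621 (iv F216285)) (tt N11185 (iv D45645)) (tt N11335 F189986))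
theorem Q13371 : ∀ i, i < 13371 → P i := stepQ 13370 Q13370 (allL N13370 (tt N13370 F189987) (tt N15623 (iv F216293)) (tt N11305 F189988) (tt N11186 (iv D45646)) (tt N11482 F206657) (tt N15534 (iv F215978)) (tt N11189 F189989) (tt N11487 (iv F206658)) (tt N15140 (iv F214555)) (tt N11336 F189990))
theorem Q13372 : ∀ i, i < 13372 → P i := stepQ 13371 Q13371 (allL N13371 (tt N11188 F189991) (tt N13371 F189992) (tt N14060 (iv F209401)) (tt N14635 (iv F212157)) (tt N13371 F189993) (tt N14629 (iv F212121)) (tt N15622 (iv F216291)) (tt N13371 F189994) (tt N11187 (iv D45647)) (tt N11337 F189995))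
theorem Q13373 : ∀ i, i < 13373 → P i := stepQ 13372 Q13372 (allL N13372 (tt N14635 (iv F212154)) (tt N11189 F189996) (tt N14073 (iv F209481)) (tt N11188 (iv D45648)) (tt N14072 (iv F209475)) (tt N14627 (iv F212108)) (tt N15623 (iv F216294)) (tt N13372 F189997) (tt N15142 (iv F214564)) (tt N11338 F189998))
theorem Q13374 : ∀ i, i < 13374 → P i := stepQ 13373 Q13373 (allL N13373 (tt N13373 F189999) (tt N14072 (iv F209472)) (tt N11308 F190000) (tt N13373 F190001) (tt N11189 (iv D45649)) (tt N13810 (iv F207840)) (tt N11482 (iv F206652)) (tt N13373 F190002) (tt N15143 (iv F214570)) (tt N11339 F190003))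
theorem Q13375 : ∀ i, i < 13375 → P i := stepQ 13374 Q13374 (allL N13374 (tt N15144 (iv F214572)) (tt N11197 F190028) (tt N14715 (iv F212531)) (tt N15569 (iv F216106)) (tt N14714 F212528) (tt N11192 F190029) (tt N14732 (iv F212648)) (tt N14718 (iv F212554)) (tt N11190 (iv D45657)) (tt N15624 D48394))
theorem Q13376 : ∀ i, i < 13376 → P i := stepQ 13375 Q13375 (allL N13375 (tt N11627 F206724) (tt N11198 F190030) (tt N11646 F206714) (tt N15567 (iv F216098)) (tt N11624 (iv F198937)) (tt N14718 (iv F212552)) (tt N13375 F190032) (tt N11192 F190033) (tt N11191 (iv D45658)) (tt N15625 D48395))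
theorem Q13377 : ∀ i, i < 13377 → P i := stepQ 13376 Q13376 (allL N13376 (tt N15145 (iv F214578)) (tt N11200 F190037) (tt N14728 (iv F212621)) (tt N15570 (iv F216109)) (tt N11631 (iv F203206)) (tt N15624 (iv F216299)) (tt N11193 F190039) (tt N15625 (iv F216305)) (tt N14722 (iv F212580)) (tt N11192 (iv D45660)))
theorem Q13378 : ∀ i, i < 13378 → P i := stepQ 13377 Q13377 (allL N13377 (tt N14421 (iv F211265)) (tt N11202 F190049) (tt N13377 F190050) (tt N11319 F206679) (tt N14393 F211150) (tt N13377 F190051) (tt N11194 (iv D45664)) (tt N14737 (iv F212670)) (tt N15600 (iv F216199)) (tt N14498 (iv F211583)))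
theorem Q13379 : ∀ i, i < 13379 → P i := stepQ 13378 Q13378 (allL N13378 (tt N11226 F190194) (tt N14714 (iv F212524)) (tt N11340 F190195) (tt N15626 D48396) (tt N11197 F190196) (tt N11633 F190197) (tt N14748 (iv F212713)) (tt N14717 (iv F212546)) (tt N11195 (iv D45706)) (tt N15627 D48397))
theorem Q13380 : ∀ i, i < 13380 → P i := stepQ 13379 Q13379 (allL N13379 (tt N11227 F190198) (tt N11319 F204288) (tt N11327 F204289) (tt N11202 F190200) (tt N11318 F204290) (tt N13379 F190201) (tt N11196 (iv D45707)) (tt N14749 (iv F212720)) (tt N15609 (iv F216237)) (tt N14730 (iv F212636)))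
theorem Q13381 : ∀ i, i < 13381 → P i := stepQ 13380 Q13380 (allL N13380 (tt N11228 F190202) (tt N14718 (iv F212550)) (tt N11341 F190203) (tt N15628 D48398) (tt N14717 F212548) (tt N11198 F190204) (tt N15609 (iv F216236)) (tt N11197 F190205) (tt N11196 (iv D45708)) (tt N15629 D48399))
theorem Q13382 : ∀ i, i < 13382 → P i := stepQ 13381 Q13381 (allL N13381 (tt N11229 F190206) (tt N15569 (iv F216105)) (tt N14968 (iv F213734)) (tt N11197 (iv D45709)) (tt N15630 D48400) (tt N11199 F190207) (tt N14751 (iv F212729)) (tt N15628 (iv F216315)) (tt N11204 F190208) (tt N15631 D48401))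
theorem Q13383 : ∀ i, i < 13383 → P i := stepQ 13382 Q13382 (allL N13382 (tt N11230 F190209) (tt N15624 (iv F216298)) (tt N11342 F190210) (tt N15631 (iv F216324)) (tt N15627 (iv F216311)) (tt N11200 F190211) (tt N14752 (iv F212734)) (tt N15629 (iv F216320)) (tt N14719 (iv F212560)) (tt N11197 (iv D45710)))
theorem Q13384 : ∀ i, i < 13384 → P i := stepQ 13383 Q13383 (allL N13383 (tt N11231 F190212) (tt N15567 (iv F216097)) (tt N14972 (iv F213757)) (tt N11198 (iv D45711)) (tt N15103 (iv F214378)) (tt N15628 (iv F216314)) (tt N13383 F190213) (tt N11199 F190214) (tt N11206 F190215) (tt N15632 D48402))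
theorem Q13385 : ∀ i, i < 13385 → P i := stepQ 13384 Q13384 (allL N13384 (tt N11232 F190216) (tt N15625 (iv F216301)) (tt N11343 F190217) (tt N15632 (iv F216327)) (tt N11635 F190218) (tt N15629 (iv F216319)) (tt N13384 F190219) (tt N11200 F190220) (tt N14721 (iv F212573)) (tt N11198 (iv D45712)))
theorem Q13386 : ∀ i, i < 13386 → P i := stepQ 13385 Q13385 (allL N13385 (tt N11235 F190229) (tt N15570 (iv F216108)) (tt N14893 (iv F213291)) (tt N11200 F190230) (tt N15105 (iv F214392)) (tt N15631 (iv F216325)) (tt N11201 F190231) (tt N15632 (iv F216329)) (tt N15633 D48403) (tt N11199 (iv D45715)))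
theorem Q13387 : ∀ i, i < 13387 → P i := stepQ 13386 Q13386 (allL N13386 (tt N11241 F190252) (tt N15572 (iv F216115)) (tt N14856 (iv F213141)) (tt N14696 (iv F212452)) (tt N15106 (iv F214397)) (tt N14758 (iv F212764)) (tt N15633 (iv F216331)) (tt N13386 F190253) (tt N11201 (iv D45721)) (tt N11212 F190254))
theorem Q13388 : ∀ i, i < 13388 → P i := stepQ 13387 Q13387 (allL N13387 (tt N11242 F190255) (tt N15600 (iv F216196)) (tt N11213 F190256) (tt N15634 D48404) (tt N15435 (iv F215695)) (tt N13387 F190257) (tt N11203 F190258) (tt N14759 (iv F212771)) (tt N11202 (iv D45722)) (tt N15635 D48405))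
theorem Q13389 : ∀ i, i < 13389 → P i := stepQ 13388 Q13388 (allL N13388 (tt N11243 F190259) (tt N15587 (iv F216154)) (tt N15636 D48406) (tt N11203 (iv D45723)) (tt N15637 D48407) (tt N11206 F190260) (tt N15634 (iv F216335)) (tt N11204 F190261) (tt N15628 (iv F216316)) (tt N15638 D48408))
theorem Q13390 : ∀ i, i < 13390 → P i := stepQ 13389 Q13389 (allL N13389 (tt N11244 F190262) (tt N15601 (iv F216200)) (tt N11215 F190263) (tt N15638 (iv F216347)) (tt N15437 (iv F215702)) (tt N11207 F190264) (tt N15635 (iv F216339)) (tt N11205 F190265) (tt N15554 (iv F216061)) (tt N11203 (iv D45724)))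
theorem Q13391 : ∀ i, i < 13391 → P i := stepQ 13390 Q13390 (allL N13390 (tt N11245 F190266) (tt N15639 D48409) (tt N11204 (iv D45725)) (tt N11216 F190267) (tt N15640 D48410) (tt N11208 F190268) (tt N14762 (iv F212782)) (tt N15636 (iv F216343)) (tt N14968 (iv F213737)) (tt N15641 D48411))
theorem Q13392 : ∀ i, i < 13392 → P i := stepQ 13391 Q13391 (allL N13391 (tt N11246 F190269) (tt N15581 (iv F216138)) (tt N15640 (iv F216353)) (tt N15439 (iv F215709)) (tt N11204 (iv D45726)) (tt N15110 (iv F214415)) (tt N14763 (iv F212785)) (tt N15637 (iv F216345)) (tt N15630 (iv F216322)) (tt N15642 D48412))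
theorem Q13393 : ∀ i, i < 13393 → P i := stepQ 13392 Q13392 (allL N13392 (tt N11247 F190270) (tt N15595 (iv F216180)) (tt N15641 (iv F216355)) (tt N11205 F190271) (tt N15642 (iv F216359)) (tt N11209 F190272) (tt N14764 (iv F212789)) (tt N15638 (iv F216349)) (tt N15643 D48413) (tt N11204 (iv D45727)))
theorem Q13394 : ∀ i, i < 13394 → P i := stepQ 13393 Q13393 (allL N13393 (tt N11248 F190273) (tt N15644 D48414) (tt N11206 (iv D45728)) (tt N11219 F190274) (tt N15112 (iv F214422)) (tt N15636 (iv F216342)) (tt N13393 F190275) (tt N11208 F190276) (tt N14972 (iv F213760)) (tt N15645 D48415))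
theorem Q13395 : ∀ i, i < 13395 → P i := stepQ 13394 Q13394 (allL N13394 (tt N11250 F190281) (tt N15588 (iv F216157)) (tt N15645 (iv F216366)) (tt N11207 F190282) (tt N15113 (iv F214428)) (tt N15638 (iv F216348)) (tt N13394 F190283) (tt N11209 F190284) (tt N15646 D48416) (tt N11206 (iv D45730)))
theorem Q13396 : ∀ i, i < 13396 → P i := stepQ 13395 Q13395 (allL N13395 (tt N15647 D48417) (tt N11208 (iv D45731)) (tt N15590 (iv F216166)) (tt N11221 F190285) (tt N15114 (iv F214433)) (tt N15639 (iv F216351)) (tt N11210 F190286) (tt N15644 (iv F216364)) (tt N14974 (iv F213768)) (tt N15648 D48418))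
theorem Q13397 : ∀ i, i < 13397 → P i := stepQ 13396 Q13396 (allL N13396 (tt N11253 F190291) (tt N15648 (iv F216376)) (tt N11209 F190292) (tt N11222 F190293) (tt N15115 (iv F214438)) (tt N15641 (iv F216357)) (tt N11211 F190294) (tt N15645 (iv F216369)) (tt N15649 D48419) (tt N11208 (iv D45733)))
theorem Q13398 : ∀ i, i < 13398 → P i := stepQ 13397 Q13397 (allL N13397 (tt N11256 F190301) (tt N15596 (iv F216183)) (tt N15649 (iv F216380)) (tt N15558 (iv F216071)) (tt N15116 (iv F214443)) (tt N15643 (iv F216361)) (tt N11212 F190302) (tt N15646 (iv F216372)) (tt N11209 (iv D45736)) (tt N15633 (iv F216332)))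
theorem Q13399 : ∀ i, i < 13399 → P i := stepQ 13398 Q13398 (allL N13398 (tt N11210 (iv D45737)) (tt N11257 F190303) (tt N14128 (iv F209773)) (tt N11223 F190304) (tt N15117 (iv F214448)) (tt N14126 F209766) (tt N15647 (iv F216375)) (tt N13398 F190305) (tt N14149 (iv F209866)) (tt N15650 D48420))
theorem Q13400 : ∀ i, i < 13400 → P i := stepQ 13399 Q13399 (allL N13399 (tt N15650 (iv F216382)) (tt N11211 F190309) (tt N15597 (iv F216187)) (tt N11224 F190310) (tt N15118 (iv F214455)) (tt N14774 (iv F212827)) (tt N15648 (iv F216378)) (tt N13399 F190311) (tt N15651 D48421) (tt N11210 (iv D45739)))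
theorem Q13401 : ∀ i, i < 13401 → P i := stepQ 13400 Q13400 (allL N13400 (tt N11262 F190321) (tt N15651 (iv F216386)) (tt N11212 F190322) (tt N14819 (iv F213028)) (tt N15119 (iv F214459)) (tt N14776 (iv F212837)) (tt N15649 (iv F216381)) (tt N13400 F190323) (tt N11211 (iv D45742)) (tt N14856 (iv F213145)))
theorem Q13402 : ∀ i, i < 13402 → P i := stepQ 13401 Q13401 (allL N13401 (tt N11273 F190393) (tt N13401 F190394) (tt N15652 D48422) (tt N11213 (iv D45760)) (tt N14976 (iv F213776)) (tt N13401 F190395) (tt N11214 F190396) (tt N14784 (iv F212872)) (tt N11344 F190397) (tt N15653 D48423))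
theorem Q13403 : ∀ i, i < 13403 → P i := stepQ 13402 Q13402 (allL N13402 (tt N11274 F190398) (tt N13402 F190399) (tt N15635 (iv F216337)) (tt N15653 (iv F216394)) (tt N15448 (iv F215734)) (tt N13402 F190400) (tt N11215 F190401) (tt N14785 (iv F212878)) (tt N15559 (iv F216077)) (tt N11213 (iv D45761)))
theorem Q13404 : ∀ i, i < 13404 → P i := stepQ 13403 Q13403 (allL N13403 (tt N11275 F190402) (tt N15654 D48424) (tt N11214 (iv D45762)) (tt N15636 (iv F216341)) (tt N15655 D48425) (tt N11219 F190403) (tt N15652 (iv F216390)) (tt N11216 F190404) (tt N11345 F190405) (tt N15656 D48426))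
theorem Q13405 : ∀ i, i < 13405 → P i := stepQ 13404 Q13404 (allL N13404 (tt N11276 F190406) (tt N13404 F190407) (tt N15655 (iv F216402)) (tt N13818 (iv F207897)) (tt N11214 (iv D45763)) (tt N11388 (iv F204785)) (tt N14976 (iv F213778)) (tt N11217 F190409) (tt N11346 F190410) (tt N15657 D48427))
theorem Q13406 : ∀ i, i < 13406 → P i := stepQ 13405 Q13405 (allL N13405 (tt N11277 F190411) (tt N13405 F190412) (tt N15656 (iv F216407)) (tt N11215 F190413) (tt N15657 (iv F216412)) (tt N11220 F190414) (tt N15653 (iv F216396)) (tt N11218 F190415) (tt N14942 (iv F213576)) (tt N11214 (iv D45764)))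
theorem Q13407 : ∀ i, i < 13407 → P i := stepQ 13406 Q13406 (allL N13406 (tt N15658 D48428) (tt N11216 (iv D45765)) (tt N13406 F190416) (tt N15639 (iv F216350)) (tt N15659 D48429) (tt N11221 F190417) (tt N14789 (iv F212897)) (tt N15654 (iv F216399)) (tt N11347 F190418) (tt N15660 D48430))
theorem Q13408 : ∀ i, i < 13408 → P i := stepQ 13407 Q13407 (allL N13407 (tt N11279 F190419) (tt N15659 (iv F216420)) (tt N11217 F190420) (tt N15661 D48431) (tt N11216 (iv D45766)) (tt N11512 F190421) (tt N14790 (iv F212903)) (tt N15655 (iv F216404)) (tt N11348 F190422) (tt N15662 D48432))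
theorem Q13409 : ∀ i, i < 13409 → P i := stepQ 13408 Q13408 (allL N13408 (tt N11280 F190423) (tt N15660 (iv F216424)) (tt N11218 F190424) (tt N15641 (iv F216356)) (tt N15662 (iv F216431)) (tt N11222 F190425) (tt N14791 (iv F212908)) (tt N15656 (iv F216409)) (tt N14945 (iv F213591)) (tt N11216 (iv D45767)))
theorem Q13410 : ∀ i, i < 13410 → P i := stepQ 13409 Q13409 (allL N13409 (tt N11281 F190426) (tt N13409 F190427) (tt N15662 (iv F216430)) (tt N15451 (iv F215746)) (tt N11218 F190428) (tt N11514 F190429) (tt N14792 (iv F212914)) (tt N15657 (iv F216414)) (tt N14946 (iv F213598)) (tt N11217 (iv D45768)))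
theorem Q13411 : ∀ i, i < 13411 → P i := stepQ 13410 Q13410 (allL N13410 (tt N15663 D48433) (tt N11219 (iv D45770)) (tt N13410 F190434) (tt N15644 (iv F216362)) (tt N11516 F190435) (tt N15654 (iv F216398)) (tt N13410 F190436) (tt N11221 F190437) (tt N11349 F190438) (tt N15664 D48434))
theorem Q13412 : ∀ i, i < 13412 → P i := stepQ 13411 Q13411 (allL N13411 (tt N11284 F190439) (tt N15664 (iv F216439)) (tt N11220 F190440) (tt N15645 (iv F216367)) (tt N11517 F190441) (tt N15656 (iv F216408)) (tt N13411 F190442) (tt N11222 F190443) (tt N14948 (iv F213610)) (tt N11219 (iv D45771)))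
theorem Q13413 : ∀ i, i < 13413 → P i := stepQ 13412 Q13412 (allL N13412 (tt N11221 (iv D45773)) (tt N11286 F190450) (tt N13412 F190451) (tt N15647 (iv F216374)) (tt N11519 F190452) (tt N15658 (iv F216418)) (tt N11223 F190453) (tt N15663 (iv F216437)) (tt N11350 F190454) (tt N15665 D48435))
theorem Q13414 : ∀ i, i < 13414 → P i := stepQ 13413 Q13413 (allL N13413 (tt N15665 (iv F216444)) (tt N11222 F190455) (tt N13413 F190456) (tt N15648 (iv F216377)) (tt N11520 F190457) (tt N15660 (iv F216426)) (tt N11224 F190458) (tt N15664 (iv F216443)) (tt N14950 (iv F213621)) (tt N11221 (iv D45774)))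
theorem Q13415 : ∀ i, i < 13415 → P i := stepQ 13414 Q13414 (allL N13414 (tt N11224 F190464) (tt N11289 F190465) (tt N13414 F190466) (tt N15650 (iv F216384)) (tt N11522 F190467) (tt N14796 (iv F212939)) (tt N15665 (iv F216448)) (tt N13414 F190468) (tt N14951 (iv F213628)) (tt N11223 (iv D45776)))
theorem Q13416 : ∀ i, i < 13416 → P i := stepQ 13415 Q13415 (allL N13415 (tt N11318 F204074) (tt N11642 F206422) (tt N11326 F204075) (tt N11610 (iv F206420)) (tt N11227 F190478) (tt N11321 F204076) (tt N11225 (iv D45779)) (tt N14797 (iv F212947)) (tt N15608 (iv F216230)) (tt N14056 (iv F209378)))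
theorem Q13417 : ∀ i, i < 13417 → P i := stepQ 13416 Q13416 (allL N13416 (tt N14717 (iv F212542)) (tt N11638 (iv F206821)) (tt N11351 F190479) (tt N15215 (iv F214898)) (tt N11228 F190480) (tt N11606 (iv F203212)) (tt N15608 (iv F216229)) (tt N11226 F190482) (tt N11225 (iv D45780)) (tt N15666 D48436))
theorem Q13418 : ∀ i, i < 13418 → P i := stepQ 13417 Q13417 (allL N13417 (tt N15626 (iv F216307)) (tt N15202 (iv F214844)) (tt N15667 D48437) (tt N11226 (iv D45781)) (tt N15668 D48438) (tt N11636 F190483) (tt N14799 (iv F212954)) (tt N15215 (iv F214899)) (tt N15239 (iv F214984)) (tt N15669 D48439))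
theorem Q13419 : ∀ i, i < 13419 → P i := stepQ 13418 Q13418 (allL N13418 (tt N15627 (iv F216309)) (tt N15203 (iv F214848)) (tt N11353 F190484) (tt N15669 (iv F216457)) (tt N11230 F190485) (tt N11637 F190486) (tt N14800 (iv F212958)) (tt N15666 (iv F216453)) (tt N15561 (iv F216082)) (tt N11226 (iv D45782)))
theorem Q13420 : ∀ i, i < 13420 → P i := stepQ 13419 Q13419 (allL N13419 (tt N15609 (iv F216232)) (tt N15204 (iv F214853)) (tt N11354 F190487) (tt N15670 D48440) (tt N15608 F216231) (tt N13419 F190488) (tt N11228 F190489) (tt N14801 (iv F212962)) (tt N11227 (iv D45783)) (tt N15671 D48441))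
theorem Q13421 : ∀ i, i < 13421 → P i := stepQ 13420 Q13420 (allL N13420 (tt N15628 (iv F216313)) (tt N15205 (iv F214858)) (tt N15672 D48442) (tt N11228 (iv D45784)) (tt N15673 D48443) (tt N11231 F190490) (tt N15670 (iv F216460)) (tt N11229 F190491) (tt N11243 F190492) (tt N15674 D48444))
theorem Q13422 : ∀ i, i < 13422 → P i := stepQ 13421 Q13421 (allL N13421 (tt N15629 (iv F216317)) (tt N15206 (iv F214862)) (tt N11356 F190493) (tt N15674 (iv F216471)) (tt N15666 (iv F216451)) (tt N11232 F190494) (tt N15671 (iv F216464)) (tt N11230 F190495) (tt N15564 (iv F216092)) (tt N11228 (iv D45785)))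
theorem Q13423 : ∀ i, i < 13423 → P i := stepQ 13422 Q13422 (allL N13422 (tt N14968 (iv F213733)) (tt N15675 D48445) (tt N11229 (iv D45786)) (tt N11357 F190496) (tt N15676 D48446) (tt N11233 F190497) (tt N14804 (iv F212972)) (tt N15672 (iv F216467)) (tt N11245 F190498) (tt N15677 D48447))
theorem Q13424 : ∀ i, i < 13424 → P i := stepQ 13423 Q13423 (allL N13423 (tt N15630 (iv F216321)) (tt N15208 (iv F214870)) (tt N15676 (iv F216477)) (tt N15668 (iv F216456)) (tt N11229 (iv D45787)) (tt N15678 D48448) (tt N14805 (iv F212974)) (tt N15673 (iv F216469)) (tt N11246 F190499) (tt N15679 D48449))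
theorem Q13425 : ∀ i, i < 13425 → P i := stepQ 13424 Q13424 (allL N13424 (tt N15631 (iv F216323)) (tt N15209 (iv F214872)) (tt N15677 (iv F216479)) (tt N11230 F190500) (tt N15679 (iv F216484)) (tt N11235 F190501) (tt N14806 (iv F212978)) (tt N15674 (iv F216473)) (tt N15680 D48450) (tt N11229 (iv D45788)))
theorem Q13426 : ∀ i, i < 13426 → P i := stepQ 13425 Q13425 (allL N13425 (tt N14972 (iv F213756)) (tt N15681 D48451) (tt N11231 (iv D45789)) (tt N11360 F190502) (tt N15682 D48452) (tt N15672 (iv F216466)) (tt N13425 F190503) (tt N11233 F190504) (tt N11248 F190505) (tt N15683 D48453))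
theorem Q13427 : ∀ i, i < 13427 → P i := stepQ 13426 Q13426 (allL N13426 (tt N15103 (iv F214376)) (tt N11636 F206826) (tt N15682 (iv F216491)) (tt N11603 (iv F203173)) (tt N11231 (iv D45790)) (tt N15202 (iv F214845)) (tt N13426 F190507) (tt N11234 F190508) (tt N11249 F190509) (tt N15684 D48454))
theorem Q13428 : ∀ i, i < 13428 → P i := stepQ 13427 Q13427 (allL N13427 (tt N15632 (iv F216326)) (tt N15211 (iv F214880)) (tt N15683 (iv F216496)) (tt N11232 F190510) (tt N15684 (iv F216502)) (tt N15674 (iv F216472)) (tt N13427 F190511) (tt N11235 F190512) (tt N15685 D48455) (tt N11231 (iv D45791)))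
theorem Q13429 : ∀ i, i < 13429 → P i := stepQ 13428 Q13428 (allL N13428 (tt N15686 D48456) (tt N11233 (iv D45792)) (tt N15212 (iv F214885)) (tt N11362 F190513) (tt N15687 D48457) (tt N15675 (iv F216475)) (tt N11236 F190514) (tt N15681 (iv F216489)) (tt N11251 F190515) (tt N15688 D48458))
theorem Q13430 : ∀ i, i < 13430 → P i := stepQ 13429 Q13429 (allL N13429 (tt N14975 (iv F213769)) (tt N15687 (iv F216511)) (tt N11234 F190516) (tt N13429 F190517) (tt N11233 (iv D45793)) (tt N15689 D48459) (tt N11237 F190518) (tt N15682 (iv F216494)) (tt N11252 F190519) (tt N15690 D48460))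
theorem Q13431 : ∀ i, i < 13431 → P i := stepQ 13430 Q13430 (allL N13430 (tt N14893 (iv F213290)) (tt N15688 (iv F216515)) (tt N11235 F190520) (tt N11363 F190521) (tt N15690 (iv F216523)) (tt N15677 (iv F216481)) (tt N11238 F190522) (tt N15683 (iv F216499)) (tt N15691 D48461) (tt N11233 (iv D45794)))
theorem Q13432 : ∀ i, i < 13432 → P i := stepQ 13431 Q13431 (allL N13431 (tt N15101 (iv F214367)) (tt N15215 (iv F214897)) (tt N15689 (iv F216518)) (tt N11638 F190523) (tt N15678 (iv F216482)) (tt N11234 (iv D45795)) (tt N15692 D48462) (tt N15202 (iv F214846)) (tt N11254 F190524) (tt N15693 D48463))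
theorem Q13433 : ∀ i, i < 13433 → P i := stepQ 13432 Q13432 (allL N13432 (tt N15105 (iv F214389)) (tt N15216 (iv F214901)) (tt N15690 (iv F216521)) (tt N11639 F190525) (tt N11235 F190526) (tt N15693 (iv F216532)) (tt N11240 F190527) (tt N15684 (iv F216504)) (tt N15694 D48464) (tt N11234 (iv D45796)))
theorem Q13434 : ∀ i, i < 13434 → P i := stepQ 13433 Q13433 (allL N13433 (tt N15633 (iv F216330)) (tt N15217 (iv F214906)) (tt N15691 (iv F216525)) (tt N15571 (iv F216112)) (tt N15694 (iv F216533)) (tt N15680 (iv F216485)) (tt N11241 F190528) (tt N15685 (iv F216506)) (tt N11235 (iv D45797)) (tt N11256 F190529))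
theorem Q13435 : ∀ i, i < 13435 → P i := stepQ 13434 Q13434 (allL N13434 (tt N11236 (iv D45798)) (tt N14149 (iv F209861)) (tt N14850 (iv F213117)) (tt N11364 F190530) (tt N15253 (iv F215036)) (tt N14147 F209854) (tt N15686 (iv F216509)) (tt N13434 F190531) (tt N11257 F190532) (tt N15695 D48465))
theorem Q13436 : ∀ i, i < 13436 → P i := stepQ 13435 Q13435 (allL N13435 (tt N15253 (iv F215032)) (tt N11237 F190533) (tt N15218 (iv F214911)) (tt N13435 F190534) (tt N11236 (iv D45799)) (tt N15251 (iv F215025)) (tt N15687 (iv F216513)) (tt N13435 F190535) (tt N11258 F190536) (tt N15696 D48466))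
theorem Q13437 : ∀ i, i < 13437 → P i := stepQ 13436 Q13436 (allL N13436 (tt N15695 (iv F216536)) (tt N11238 F190537) (tt N15219 (iv F214917)) (tt N11365 F190538) (tt N15696 (iv F216541)) (tt N14816 (iv F213012)) (tt N15688 (iv F216517)) (tt N13436 F190539) (tt N15697 D48467) (tt N11236 (iv D45800)))
theorem Q13438 : ∀ i, i < 13438 → P i := stepQ 13437 Q13437 (allL N13437 (tt N14004 (iv F209071)) (tt N15251 (iv F215022)) (tt N11239 F190540) (tt N13437 F190541) (tt N14817 (iv F213018)) (tt N11237 (iv D45801)) (tt N15698 D48468) (tt N13437 F190542) (tt N11260 F190543) (tt N15699 D48469))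
theorem Q13439 : ∀ i, i < 13439 → P i := stepQ 13438 Q13438 (allL N13438 (tt N14896 (iv F213305)) (tt N15696 (iv F216539)) (tt N11240 F190544) (tt N13438 F190545) (tt N11238 F190546) (tt N15699 (iv F216551)) (tt N15690 (iv F216524)) (tt N13438 F190547) (tt N15700 D48470) (tt N11237 (iv D45802)))
theorem Q13440 : ∀ i, i < 13440 → P i := stepQ 13439 Q13439 (allL N13439 (tt N14856 (iv F213140)) (tt N15697 (iv F216543)) (tt N11241 F190548) (tt N14776 (iv F212836)) (tt N15700 (iv F216554)) (tt N14819 (iv F213029)) (tt N15691 (iv F216526)) (tt N13439 F190549) (tt N11238 (iv D45803)) (tt N11262 F190550))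
theorem Q13441 : ∀ i, i < 13441 → P i := stepQ 13440 Q13440 (allL N13440 (tt N14002 (iv F209061)) (tt N15222 (iv F214927)) (tt N15698 (iv F216546)) (tt N11640 F190551) (tt N14820 (iv F213033)) (tt N15692 (iv F216529)) (tt N11239 (iv D45804)) (tt N15701 D48471) (tt N11263 F190552) (tt N15702 D48472))
theorem Q13442 : ∀ i, i < 13442 → P i := stepQ 13441 Q13441 (allL N13441 (tt N14006 (iv F209085)) (tt N15223 (iv F214931)) (tt N15699 (iv F216549)) (tt N11641 F190553) (tt N14821 (iv F213036)) (tt N11240 F190554) (tt N15702 (iv F216561)) (tt N13441 F190555) (tt N15703 D48473) (tt N11239 (iv D45805)))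
theorem Q13443 : ∀ i, i < 13443 → P i := stepQ 13442 Q13442 (allL N13442 (tt N15106 (iv F214394)) (tt N15224 (iv F214935)) (tt N15700 (iv F216553)) (tt N15160 (iv F214654)) (tt N11241 F190556) (tt N15703 (iv F216562)) (tt N15694 (iv F216534)) (tt N13442 F190557) (tt N11240 (iv D45806)) (tt N11265 F190558))
theorem Q13444 : ∀ i, i < 13444 → P i := stepQ 13443 Q13443 (allL N13443 (tt N15634 (iv F216333)) (tt N15225 (iv F214939)) (tt N15704 D48474) (tt N11242 (iv D45807)) (tt N15705 D48475) (tt N13443 F190559) (tt N11243 F190560) (tt N14823 (iv F213044)) (tt N15670 (iv F216461)) (tt N15706 D48476))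
theorem Q13445 : ∀ i, i < 13445 → P i := stepQ 13444 Q13444 (allL N13444 (tt N15635 (iv F216336)) (tt N15226 (iv F214942)) (tt N11274 F190561) (tt N15706 (iv F216569)) (tt N15472 (iv F215803)) (tt N13444 F190562) (tt N11244 F190563) (tt N14824 (iv F213048)) (tt N15574 (iv F216124)) (tt N11242 (iv D45808)))
theorem Q13446 : ∀ i, i < 13446 → P i := stepQ 13445 Q13445 (allL N13445 (tt N15636 (iv F216340)) (tt N15707 D48477) (tt N11243 (iv D45809)) (tt N11275 F190564) (tt N15708 D48478) (tt N11248 F190565) (tt N15704 (iv F216567)) (tt N11245 F190566) (tt N15672 (iv F216468)) (tt N15709 D48479))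
theorem Q13447 : ∀ i, i < 13447 → P i := stepQ 13446 Q13446 (allL N13446 (tt N15637 (iv F216344)) (tt N15228 (iv F214949)) (tt N15708 (iv F216575)) (tt N15474 (iv F215808)) (tt N11243 (iv D45810)) (tt N15710 D48480) (tt N15705 (iv F216568)) (tt N11246 F190567) (tt N15673 (iv F216470)) (tt N15711 D48481))
theorem Q13448 : ∀ i, i < 13448 → P i := stepQ 13447 Q13447 (allL N13447 (tt N15638 (iv F216346)) (tt N15229 (iv F214951)) (tt N15709 (iv F216577)) (tt N11244 F190568) (tt N15711 (iv F216583)) (tt N11250 F190569) (tt N15706 (iv F216571)) (tt N11247 F190570) (tt N15712 D48482) (tt N11243 (iv D45811)))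
theorem Q13449 : ∀ i, i < 13449 → P i := stepQ 13448 Q13448 (allL N13448 (tt N15713 D48483) (tt N11245 (iv D45812)) (tt N15230 (iv F214955)) (tt N11278 F190571) (tt N15714 D48484) (tt N11251 F190572) (tt N14828 (iv F213058)) (tt N15707 (iv F216574)) (tt N15675 (iv F216476)) (tt N15715 D48485))
theorem Q13450 : ∀ i, i < 13450 → P i := stepQ 13449 Q13449 (allL N13449 (tt N15640 (iv F216352)) (tt N15714 (iv F216589)) (tt N11246 F190573) (tt N15716 D48486) (tt N11245 (iv D45813)) (tt N15717 D48487) (tt N14829 (iv F213060)) (tt N15708 (iv F216576)) (tt N15676 (iv F216478)) (tt N15718 D48488))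
theorem Q13451 : ∀ i, i < 13451 → P i := stepQ 13450 Q13450 (allL N13450 (tt N15641 (iv F216354)) (tt N15715 (iv F216590)) (tt N11247 F190574) (tt N11280 F190575) (tt N15718 (iv F216597)) (tt N11253 F190576) (tt N14830 (iv F213064)) (tt N15709 (iv F216580)) (tt N15719 D48489) (tt N11245 (iv D45814)))
theorem Q13452 : ∀ i, i < 13452 → P i := stepQ 13451 Q13451 (allL N13451 (tt N15110 (iv F214413)) (tt N15233 (iv F214962)) (tt N15717 (iv F216594)) (tt N15479 (iv F215819)) (tt N11254 F190577) (tt N11246 (iv D45815)) (tt N15720 D48490) (tt N15710 (iv F216582)) (tt N15678 (iv F216483)) (tt N15721 D48491))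
theorem Q13453 : ∀ i, i < 13453 → P i := stepQ 13452 Q13452 (allL N13452 (tt N15642 (iv F216358)) (tt N15234 (iv F214964)) (tt N15718 (iv F216596)) (tt N15480 (iv F215821)) (tt N11247 F190578) (tt N15721 (iv F216602)) (tt N14832 (iv F213067)) (tt N15711 (iv F216584)) (tt N15722 D48492) (tt N11246 (iv D45816)))
theorem Q13454 : ∀ i, i < 13454 → P i := stepQ 13453 Q13453 (allL N13453 (tt N15643 (iv F216360)) (tt N15235 (iv F214966)) (tt N15719 (iv F216598)) (tt N15583 (iv F216141)) (tt N15722 (iv F216603)) (tt N11256 F190579) (tt N14833 (iv F213069)) (tt N15712 (iv F216586)) (tt N11247 (iv D45817)) (tt N15680 (iv F216486)))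
theorem Q13455 : ∀ i, i < 13455 → P i := stepQ 13454 Q13454 (allL N13454 (tt N15723 D48493) (tt N11248 (iv D45818)) (tt N15236 (iv F214968)) (tt N11283 F190580) (tt N15724 D48494) (tt N15707 (iv F216573)) (tt N13454 F190581) (tt N11251 F190582) (tt N15681 (iv F216490)) (tt N15725 D48495))
theorem Q13456 : ∀ i, i < 13456 → P i := stepQ 13455 Q13455 (allL N13455 (tt N15112 (iv F214420)) (tt N15724 (iv F216607)) (tt N11249 F190583) (tt N11534 F190584) (tt N11248 (iv D45819)) (tt N15726 D48496) (tt N13455 F190585) (tt N11252 F190586) (tt N15682 (iv F216495)) (tt N15727 D48497))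
theorem Q13457 : ∀ i, i < 13457 → P i := stepQ 13456 Q13456 (allL N13456 (tt N15645 (iv F216365)) (tt N15725 (iv F216611)) (tt N11250 F190587) (tt N11284 F190588) (tt N15727 (iv F216620)) (tt N15709 (iv F216579)) (tt N13456 F190589) (tt N11253 F190590) (tt N15728 D48498) (tt N11248 (iv D45820)))
theorem Q13458 : ∀ i, i < 13458 → P i := stepQ 13457 Q13457 (allL N13457 (tt N15107 (iv F214400)) (tt N15239 (iv F214981)) (tt N15726 (iv F216615)) (tt N11266 F190591) (tt N15710 (iv F216581)) (tt N11249 (iv D45821)) (tt N15729 D48499) (tt N11254 F190592) (tt N15202 (iv F214847)) (tt N15730 D48500))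
theorem Q13459 : ∀ i, i < 13459 → P i := stepQ 13458 Q13458 (allL N13458 (tt N15113 (iv F214425)) (tt N15240 (iv F214985)) (tt N15727 (iv F216618)) (tt N11267 F190593) (tt N11250 F190594) (tt N15730 (iv F216629)) (tt N13458 F190595) (tt N11255 F190596) (tt N15731 D48501) (tt N11249 (iv D45822)))
theorem Q13460 : ∀ i, i < 13460 → P i := stepQ 13459 Q13459 (allL N13459 (tt N15646 (iv F216370)) (tt N15241 (iv F214990)) (tt N15728 (iv F216623)) (tt N15589 (iv F216162)) (tt N15731 (iv F216631)) (tt N15712 (iv F216585)) (tt N13459 F190597) (tt N11256 F190598) (tt N11250 (iv D45823)) (tt N15685 (iv F216507)))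
theorem Q13461 : ∀ i, i < 13461 → P i := stepQ 13460 Q13460 (allL N13460 (tt N11251 (iv D45824)) (tt N15647 (iv F216373)) (tt N15242 (iv F214993)) (tt N11286 F190599) (tt N15732 D48502) (tt N15713 (iv F216588)) (tt N11257 F190600) (tt N15723 (iv F216606)) (tt N15686 (iv F216510)) (tt N15733 D48503))
theorem Q13462 : ∀ i, i < 13462 → P i := stepQ 13461 Q13461 (allL N13461 (tt N15732 (iv F216634)) (tt N11252 F190601) (tt N15243 (iv F214997)) (tt N11540 F190602) (tt N11251 (iv D45825)) (tt N15734 D48504) (tt N11258 F190603) (tt N15724 (iv F216610)) (tt N15687 (iv F216514)) (tt N15735 D48505))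
theorem Q13463 : ∀ i, i < 13463 → P i := stepQ 13462 Q13462 (allL N13462 (tt N15733 (iv F216637)) (tt N11253 F190604) (tt N15244 (iv F215001)) (tt N11287 F190605) (tt N15735 (iv F216644)) (tt N15715 (iv F216592)) (tt N11259 F190606) (tt N15725 (iv F216614)) (tt N15736 D48506) (tt N11251 (iv D45826)))
theorem Q13464 : ∀ i, i < 13464 → P i := stepQ 13463 Q13463 (allL N13463 (tt N15109 (iv F214410)) (tt N15734 (iv F216640)) (tt N11254 F190607) (tt N11542 F190608) (tt N15717 (iv F216595)) (tt N11252 (iv D45827)) (tt N15737 D48507) (tt N15726 (iv F216617)) (tt N15689 (iv F216520)) (tt N15738 D48508))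
theorem Q13465 : ∀ i, i < 13465 → P i := stepQ 13464 Q13464 (allL N13464 (tt N15115 (iv F214435)) (tt N15735 (iv F216642)) (tt N11255 F190609) (tt N11543 F190610) (tt N11253 F190611) (tt N15738 (iv F216653)) (tt N11261 F190612) (tt N15727 (iv F216622)) (tt N15739 D48509) (tt N11252 (iv D45828)))
theorem Q13466 : ∀ i, i < 13466 → P i := stepQ 13465 Q13465 (allL N13465 (tt N15649 (iv F216379)) (tt N15736 (iv F216646)) (tt N11256 F190613) (tt N15740 D48510) (tt N15739 (iv F216655)) (tt N15719 (iv F216599)) (tt N11262 F190614) (tt N15728 (iv F216625)) (tt N11253 (iv D45829)) (tt N15691 (iv F216527)))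
theorem Q13467 : ∀ i, i < 13467 → P i := stepQ 13466 Q13466 (allL N13466 (tt N14009 (iv F209101)) (tt N15248 (iv F215012)) (tt N15737 (iv F216648)) (tt N11268 F190615) (tt N15720 (iv F216600)) (tt N11263 F190616) (tt N11254 (iv D45830)) (tt N15741 D48511) (tt N15692 (iv F216530)) (tt N15742 D48512))
theorem Q13468 : ∀ i, i < 13468 → P i := stepQ 13467 Q13467 (allL N13467 (tt N15111 (iv F214416)) (tt N15249 (iv F215015)) (tt N15738 (iv F216651)) (tt N11269 F190617) (tt N15721 (iv F216601)) (tt N11255 F190618) (tt N15742 (iv F216663)) (tt N15730 (iv F216630)) (tt N15743 D48513) (tt N11254 (iv D45831)))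
theorem Q13469 : ∀ i, i < 13469 → P i := stepQ 13468 Q13468 (allL N13468 (tt N15116 (iv F214440)) (tt N15250 (iv F215018)) (tt N15739 (iv F216654)) (tt N15175 (iv F214709)) (tt N11256 F190619) (tt N15743 (iv F216664)) (tt N11265 F190620) (tt N15731 (iv F216633)) (tt N11255 (iv D45832)) (tt N15694 (iv F216535)))
theorem Q13470 : ∀ i, i < 13470 → P i := stepQ 13469 Q13469 (allL N13469 (tt N11258 F190621) (tt N15117 (iv F214445)) (tt N15251 (iv F215023)) (tt N11548 F190622) (tt N11257 (iv D45833)) (tt N15218 (iv F214912)) (tt N15732 (iv F216636)) (tt N13469 F190623) (tt N15253 (iv F215038)) (tt N15744 D48514))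
theorem Q13471 : ∀ i, i < 13471 → P i := stepQ 13470 Q13470 (allL N13470 (tt N11259 F190624) (tt N15650 (iv F216383)) (tt N15252 (iv F215029)) (tt N11289 F190625) (tt N15744 (iv F216667)) (tt N14849 (iv F213113)) (tt N15733 (iv F216639)) (tt N13470 F190626) (tt N15745 D48515) (tt N11257 (iv D45834)))
theorem Q13472 : ∀ i, i < 13472 → P i := stepQ 13471 Q13471 (allL N13471 (tt N15218 (iv F214909)) (tt N11260 F190627) (tt N15253 (iv F215034)) (tt N11550 F190628) (tt N14850 (iv F213119)) (tt N11258 (iv D45835)) (tt N15746 D48516) (tt N13471 F190629) (tt N15251 (iv F215027)) (tt N15747 D48517))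
theorem Q13473 : ∀ i, i < 13473 → P i := stepQ 13472 Q13472 (allL N13472 (tt N15744 (iv F216665)) (tt N11261 F190630) (tt N15254 (iv F215040)) (tt N11551 F190631) (tt N11259 F190632) (tt N15747 (iv F216675)) (tt N15735 (iv F216645)) (tt N13472 F190633) (tt N15748 D48518) (tt N11258 (iv D45836)))
theorem Q13474 : ∀ i, i < 13474 → P i := stepQ 13473 Q13473 (allL N13473 (tt N15745 (iv F216669)) (tt N11262 F190634) (tt N15255 (iv F215045)) (tt N15749 D48519) (tt N15748 (iv F216678)) (tt N14852 (iv F213127)) (tt N15736 (iv F216647)) (tt N13473 F190635) (tt N11259 (iv D45837)) (tt N15697 (iv F216545)))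
theorem Q13475 : ∀ i, i < 13475 → P i := stepQ 13474 Q13474 (allL N13474 (tt N14013 (iv F209122)) (tt N15746 (iv F216671)) (tt N11263 F190636) (tt N11553 F190637) (tt N14853 (iv F213131)) (tt N15737 (iv F216650)) (tt N11260 (iv D45838)) (tt N15750 D48520) (tt N15698 (iv F216548)) (tt N15751 D48521))
theorem Q13476 : ∀ i, i < 13476 → P i := stepQ 13475 Q13475 (allL N13475 (tt N14018 (iv F209147)) (tt N15747 (iv F216673)) (tt N11264 F190638) (tt N11554 F190639) (tt N14854 (iv F213134)) (tt N11261 F190640) (tt N15751 (iv F216688)) (tt N13475 F190641) (tt N15752 D48522) (tt N11260 (iv D45839)))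
theorem Q13477 : ∀ i, i < 13477 → P i := stepQ 13476 Q13476 (allL N13476 (tt N15119 (iv F214457)) (tt N15748 (iv F216677)) (tt N11265 F190642) (tt N15753 D48523) (tt N11262 F190643) (tt N15752 (iv F216690)) (tt N15739 (iv F216656)) (tt N13476 F190644) (tt N11261 (iv D45840)) (tt N15700 (iv F216556)))
theorem Q13478 : ∀ i, i < 13478 → P i := stepQ 13477 Q13477 (allL N13477 (tt N14819 (iv F213026)) (tt N15749 (iv F216680)) (tt N14758 (iv F212762)) (tt N11262 (iv D45841)) (tt N15754 D48524) (tt N14856 (iv F213142)) (tt N15740 (iv F216657)) (tt N13477 F190645) (tt N11291 F190646) (tt N14776 (iv F212839)))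
theorem Q13479 : ∀ i, i < 13479 → P i := stepQ 13478 Q13478 (allL N13478 (tt N14011 (iv F209111)) (tt N15260 (iv F215058)) (tt N15750 (iv F216683)) (tt N11270 F190647) (tt N14857 (iv F213147)) (tt N15741 (iv F216660)) (tt N13478 F190648) (tt N11263 (iv D45842)) (tt N15701 (iv F216559)) (tt N15755 D48525))
theorem Q13480 : ∀ i, i < 13480 → P i := stepQ 13479 Q13479 (allL N13479 (tt N14015 (iv F209129)) (tt N15261 (iv F215061)) (tt N15751 (iv F216686)) (tt N11271 F190649) (tt N14858 (iv F213150)) (tt N15742 (iv F216662)) (tt N11264 F190650) (tt N15755 (iv F216698)) (tt N15756 D48526) (tt N11263 (iv D45843)))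
theorem Q13481 : ∀ i, i < 13481 → P i := stepQ 13480 Q13480 (allL N13480 (tt N14020 (iv F209158)) (tt N15262 (iv F215064)) (tt N15752 (iv F216689)) (tt N14097 (iv F209606)) (tt N14859 (iv F213152)) (tt N11265 F190651) (tt N15756 (iv F216699)) (tt N13480 F190652) (tt N11264 (iv D45844)) (tt N15703 (iv F216564)))
theorem Q13482 : ∀ i, i < 13482 → P i := stepQ 13481 Q13481 (allL N13481 (tt N15075 (iv F214236)) (tt N14542 (iv F211763)) (tt N11560 F190655) (tt N15729 (iv F216626)) (tt N13962 (iv F208850)) (tt N13481 F190656) (tt N11266 (iv D45846)) (tt N15757 D48527) (tt N11644 F190657) (tt N15758 D48528))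
theorem Q13483 : ∀ i, i < 13483 → P i := stepQ 13482 Q13482 (allL N13482 (tt N15108 (iv F214404)) (tt N15263 (iv F215067)) (tt N11561 F190658) (tt N15730 (iv F216628)) (tt N15039 (iv F214105)) (tt N11267 F190659) (tt N15758 (iv F216706)) (tt N11269 F190660) (tt N15163 (iv F214668)) (tt N11266 (iv D45847)))
theorem Q13484 : ∀ i, i < 13484 → P i := stepQ 13483 Q13483 (allL N13483 (tt N14008 (iv F209096)) (tt N15264 (iv F215072)) (tt N11562 F190666) (tt N15741 (iv F216659)) (tt N15506 (iv F215875)) (tt N11270 F190667) (tt N15757 (iv F216702)) (tt N11268 (iv D45849)) (tt N11645 F190668) (tt N15759 D48529))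
theorem Q13485 : ∀ i, i < 13485 → P i := stepQ 13484 Q13484 (allL N13484 (tt N14010 (iv F209105)) (tt N15265 (iv F215076)) (tt N11563 F190669) (tt N15742 (iv F216661)) (tt N15507 (iv F215879)) (tt N11271 F190670) (tt N11269 F190671) (tt N15759 (iv F216709)) (tt N14088 (iv F209560)) (tt N11268 (iv D45850)))
theorem Q13486 : ∀ i, i < 13486 → P i := stepQ 13485 Q13485 (allL N13485 (tt N14012 (iv F209115)) (tt N15266 (iv F215080)) (tt N11564 F190677) (tt N15755 (iv F216696)) (tt N11272 F190678) (tt N15759 (iv F216708)) (tt N13485 F190679) (tt N11271 F190680) (tt N14090 (iv F209571)) (tt N11270 (iv D45853)))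
theorem Q13487 : ∀ i, i < 13487 → P i := stepQ 13486 Q13486 (allL N13486 (tt N15652 (iv F216388)) (tt N14967 (iv F213728)) (tt N11273 (iv D45862)) (tt N15704 (iv F216565)) (tt N14964 (iv F213714)) (tt N13486 F190706) (tt N11275 F190707) (tt N14873 (iv F213201)) (tt N11373 F190708) (tt N15760 D48530))
theorem Q13488 : ∀ i, i < 13488 → P i := stepQ 13487 Q13487 (allL N13487 (tt N15653 (iv F216392)) (tt N11292 F190712) (tt N15760 (iv F216710)) (tt N11274 F190713) (tt N14908 (iv F213378)) (tt N13487 F190714) (tt N11277 F190715) (tt N14875 (iv F213212)) (tt N14907 (iv F213376)) (tt N11273 (iv D45864)))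
theorem Q13489 : ∀ i, i < 13489 → P i := stepQ 13488 Q13488 (allL N13488 (tt N14944 (iv F213581)) (tt N11275 (iv D45865)) (tt N11293 F190716) (tt N15707 (iv F216572)) (tt N11379 F204588) (tt N11283 F190717) (tt N14967 (iv F213732)) (tt N11278 F190718) (tt N11374 F190719) (tt N15761 D48531))
theorem Q13490 : ∀ i, i < 13490 → P i := stepQ 13489 Q13489 (allL N13489 (tt N15655 (iv F216401)) (tt N11379 F204693) (tt N11276 F190720) (tt N15762 D48532) (tt N11275 (iv D45866)) (tt N11383 (iv F204762)) (tt N14964 (iv F213716)) (tt N11279 F190722) (tt N11375 F190723) (tt N15763 D48533))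
theorem Q13491 : ∀ i, i < 13491 → P i := stepQ 13490 Q13490 (allL N13490 (tt N15656 (iv F216406)) (tt N15761 (iv F216713)) (tt N11277 F190724) (tt N15709 (iv F216578)) (tt N15763 (iv F216724)) (tt N11284 F190725) (tt N15760 (iv F216712)) (tt N11280 F190726) (tt N15764 D48534) (tt N11275 (iv D45867)))
theorem Q13492 : ∀ i, i < 13492 → P i := stepQ 13491 Q13491 (allL N13491 (tt N15657 (iv F216410)) (tt N11295 F190727) (tt N15763 (iv F216723)) (tt N15513 (iv F215900)) (tt N11277 F190728) (tt N11304 (iv F204798)) (tt N14908 (iv F213380)) (tt N11281 F190730) (tt N11299 F204723) (tt N11276 (iv D45868)))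
theorem Q13493 : ∀ i, i < 13493 → P i := stepQ 13492 Q13492 (allL N13492 (tt N14942 (iv F213570)) (tt N11296 F190731) (tt N15764 (iv F216729)) (tt N14927 (iv F213484)) (tt N11299 F204713) (tt N11285 F190732) (tt N14907 (iv F213375)) (tt N11282 F190733) (tt N11277 (iv D45869)) (tt N11298 F204714))
theorem Q13494 : ∀ i, i < 13494 → P i := stepQ 13493 Q13493 (allL N13493 (tt N11278 (iv D45870)) (tt N15658 (iv F216416)) (tt N11297 F190735) (tt N15713 (iv F216587)) (tt N14941 (iv F213566)) (tt N11286 F190736) (tt N14881 (iv F213236)) (tt N14944 (iv F213585)) (tt N11377 F190737) (tt N15765 D48535))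
theorem Q13495 : ∀ i, i < 13495 → P i := stepQ 13494 Q13494 (allL N13494 (tt N14941 (iv F213565)) (tt N11279 F190738) (tt N11298 F190739) (tt N15766 D48536) (tt N11278 (iv D45871)) (tt N11381 (iv F204770)) (tt N14882 (iv F213241)) (tt N11379 F204698) (tt N11376 F204699) (tt N15764 (iv F216733)))
theorem Q13496 : ∀ i, i < 13496 → P i := stepQ 13495 Q13495 (allL N13495 (tt N15765 (iv F216734)) (tt N11280 F190742) (tt N11299 F190743) (tt N15715 (iv F216591)) (tt N15764 (iv F216730)) (tt N11287 F190744) (tt N14883 (iv F213246)) (tt N15761 (iv F216717)) (tt N15763 (iv F216727)) (tt N11278 (iv D45872)))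
theorem Q13497 : ∀ i, i < 13497 → P i := stepQ 13496 Q13496 (allL N13496 (tt N15661 (iv F216427)) (tt N15766 (iv F216737)) (tt N15518 (iv F215918)) (tt N11279 (iv D45873)) (tt N15716 (iv F216593)) (tt N11568 F190745) (tt N14884 (iv F213248)) (tt N15762 (iv F216721)) (tt N15767 D48537) (tt N15768 D48538))
theorem Q13498 : ∀ i, i < 13498 → P i := stepQ 13497 Q13497 (allL N13497 (tt N15662 (iv F216429)) (tt N15764 (iv F216728)) (tt N11281 F190746) (tt N15768 (iv F216742)) (tt N11280 F190747) (tt N11569 F190748) (tt N14885 (iv F213252)) (tt N15763 (iv F216726)) (tt N15761 (iv F216718)) (tt N11279 (iv D45874)))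
theorem Q13499 : ∀ i, i < 13499 → P i := stepQ 13498 Q13498 (allL N13498 (tt N14945 (iv F213587)) (tt N15763 (iv F216722)) (tt N11282 F190749) (tt N15769 D48539) (tt N15761 (iv F216715)) (tt N11288 F190750) (tt N14886 (iv F213256)) (tt N15764 (iv F216732)) (tt N11280 (iv D45875)) (tt N11379 F190751))
theorem Q13500 : ∀ i, i < 13500 → P i := stepQ 13499 Q13499 (allL N13499 (tt N14946 (iv F213592)) (tt N11294 (iv F204623)) (tt N15761 (iv F216714)) (tt N15291 (iv F215175)) (tt N11282 F190753) (tt N11302 (iv F204643)) (tt N14887 (iv F213262)) (tt N11299 F204599) (tt N11281 (iv D45876)) (tt N11293 F204600))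
theorem Q13501 : ∀ i, i < 13501 → P i := stepQ 13500 Q13500 (allL N13500 (tt N11283 (iv D45877)) (tt N15663 (iv F216433)) (tt N11301 F190756) (tt N15723 (iv F216604)) (tt N11571 F190757) (tt N14944 (iv F213583)) (tt N13500 F190758) (tt N11286 F190759) (tt N11380 F190760) (tt N15770 D48540))
theorem Q13502 : ∀ i, i < 13502 → P i := stepQ 13501 Q13501 (allL N13501 (tt N15770 (iv F216746)) (tt N11284 F190761) (tt N11302 F190762) (tt N15725 (iv F216612)) (tt N11570 (iv F204774)) (tt N15761 (iv F216716)) (tt N13501 F190764) (tt N11287 F190765) (tt N11569 (iv F206664)) (tt N11283 (iv D45878)))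
theorem Q13503 : ∀ i, i < 13503 → P i := stepQ 13502 Q13502 (allL N13502 (tt N14948 (iv F213605)) (tt N11569 F206662) (tt N11285 F190766) (tt N15771 D48541) (tt N11567 (iv F204895)) (tt N15764 (iv F216731)) (tt N13502 F190768) (tt N11288 F190769) (tt N11284 (iv D45879)) (tt N11381 F190770))
theorem Q13504 : ∀ i, i < 13504 → P i := stepQ 13503 Q13503 (allL N13503 (tt N11287 F190771) (tt N15665 (iv F216445)) (tt N11303 F190772) (tt N15733 (iv F216638)) (tt N11572 F190773) (tt N15765 (iv F216736)) (tt N11289 F190774) (tt N15770 (iv F216750)) (tt N15772 D48542) (tt N11286 (iv D45880)))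
theorem Q13505 : ∀ i, i < 13505 → P i := stepQ 13504 Q13504 (allL N13504 (tt N15772 (iv F216756)) (tt N11288 F190775) (tt N11304 F190776) (tt N15773 D48543) (tt N11565 (iv F204890)) (tt N15763 (iv F216725)) (tt N11290 F190778) (tt N11569 (iv F206663)) (tt N11287 (iv D45881)) (tt N11383 F190779))
theorem Q13506 : ∀ i, i < 13506 → P i := stepQ 13505 Q13505 (allL N13505 (tt N14812 (iv F212999)) (tt N15773 (iv F216762)) (tt N14756 (iv F212753)) (tt N11288 (iv D45882)) (tt N15774 D48544) (tt N15769 (iv F216744)) (tt N11291 F190780) (tt N15771 (iv F216754)) (tt N15740 (iv F216658)) (tt N11384 F190781))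
theorem Q13507 : ∀ i, i < 13507 → P i := stepQ 13506 Q13506 (allL N13506 (tt N11290 F190782) (tt N14951 (iv F213623)) (tt N11306 F190783) (tt N14150 (iv F209869)) (tt N11574 F190784) (tt N14894 (iv F213298)) (tt N15772 (iv F216759)) (tt N13506 F190785) (tt N11289 (iv D45883)) (tt N11385 F190786))
theorem Q13508 : ∀ i, i < 13508 → P i := stepQ 13507 Q13507 (allL N13507 (tt N14150 (iv F209867)) (tt N11291 F190787) (tt N14096 (iv F209601)) (tt N11290 (iv D45884)) (tt N14094 (iv F209590)) (tt N14895 (iv F213302)) (tt N15773 (iv F216763)) (tt N13507 F190788) (tt N15749 (iv F216682)) (tt N11386 F190789))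
theorem Q13509 : ∀ i, i < 13509 → P i := stepQ 13508 Q13508 (allL N13508 (tt N14818 (iv F213021)) (tt N14094 (iv F209587)) (tt N14757 (iv F212757)) (tt N11576 F190790) (tt N11291 (iv D45885)) (tt N15176 (iv F214713)) (tt N15774 (iv F216767)) (tt N13508 F190791) (tt N15754 (iv F216695)) (tt N11387 F190792))
theorem Q13510 : ∀ i, i < 13510 → P i := stepQ 13509 Q13509 (allL N13509 (tt N11299 F190848) (tt N13509 F190849) (tt N15765 (iv F216735)) (tt N15295 (iv F215197)) (tt N14942 (iv F213573)) (tt N11303 F190850) (tt N14905 (iv F213364)) (tt N14946 (iv F213597)) (tt N15657 (iv F216415)) (tt N11297 (iv D45900)))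
theorem Q13511 : ∀ i, i < 13511 → P i := stepQ 13510 Q13510 (allL N13510 (tt N11302 F190876) (tt N13510 F190877) (tt N15770 (iv F216747)) (tt N15301 (iv F215226)) (tt N11515 (iv F204782)) (tt N14946 (iv F213595)) (tt N13510 F190879) (tt N11303 F190880) (tt N11514 (iv F206661)) (tt N11301 (iv D45909)))
theorem Q13512 : ∀ i, i < 13512 → P i := stepQ 13511 Q13511 (allL N13511 (tt N11304 F190890) (tt N13511 F190891) (tt N15772 (iv F216757)) (tt N13819 (iv F207904)) (tt N11510 (iv F204902)) (tt N15657 (iv F216413)) (tt N11306 F190893) (tt N11514 F206660) (tt N11303 (iv D45912)) (tt N11388 F190894))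
theorem Q13513 : ∀ i, i < 13513 → P i := stepQ 13512 Q13512 (allL N13512 (tt N13819 (iv F207901)) (tt N11305 F190895) (tt N14099 (iv F209615)) (tt N11304 (iv D45913)) (tt N11466 F206499) (tt N15513 (iv F215902)) (tt N11307 F190896) (tt N11470 (iv F206500)) (tt N15304 (iv F215244)) (tt N11389 F190897))
theorem Q13514 : ∀ i, i < 13514 → P i := stepQ 13513 Q13513 (allL N13513 (tt N11328 F204084) (tt N13513 F191407) (tt N14056 (iv F209375)) (tt N13513 F191408) (tt N11311 F191409) (tt N11334 F204085) (tt N11309 (iv D46034)) (tt N14918 (iv F213430)) (tt N15775 D48545) (tt N11326 F204086))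
theorem Q13515 : ∀ i, i < 13515 → P i := stepQ 13514 Q13514 (allL N13514 (tt N14715 (iv F212529)) (tt N13514 F191411) (tt N15144 (iv F214574)) (tt N14631 (iv F212133)) (tt N11312 F191412) (tt N11649 F191413) (tt N15775 (iv F216773)) (tt N11310 F191414) (tt N11309 (iv D46035)) (tt N15776 D48546))
theorem Q13516 : ∀ i, i < 13516 → P i := stepQ 13515 Q13515 (allL N13515 (tt N14458 (iv F211387)) (tt N13515 F191415) (tt N14700 (iv F212466)) (tt N11310 (iv D46036)) (tt N14413 (iv F211230)) (tt N11650 F191416) (tt N14920 (iv F213442)) (tt N14631 (iv F212134)) (tt N13515 F191417) (tt N15777 D48547))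
theorem Q13517 : ∀ i, i < 13517 → P i := stepQ 13516 Q13516 (allL N13516 (tt N14720 (iv F212561)) (tt N13516 F191418) (tt N15561 (iv F216079)) (tt N15777 (iv F216780)) (tt N11313 F191419) (tt N11651 F191420) (tt N14921 (iv F213448)) (tt N15776 (iv F216777)) (tt N11353 F191421) (tt N11310 (iv D46037)))
theorem Q13518 : ∀ i, i < 13518 → P i := stepQ 13517 Q13517 (allL N13517 (tt N14712 (iv F212511)) (tt N13517 F191422) (tt N15562 (iv F216083)) (tt N14665 (iv F212311)) (tt N15775 (iv F216771)) (tt N13517 F191423) (tt N11312 F191424) (tt N14922 (iv F213455)) (tt N11311 (iv D46038)) (tt N15778 D48548))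
theorem Q13519 : ∀ i, i < 13519 → P i := stepQ 13518 Q13518 (allL N13518 (tt N14716 (iv F212536)) (tt N13518 F191429) (tt N15564 (iv F216089)) (tt N14666 (iv F212317)) (tt N15776 (iv F216775)) (tt N11314 F191430) (tt N15778 (iv F216784)) (tt N11313 F191431) (tt N11356 F191432) (tt N11312 (iv D46040)))
theorem Q13520 : ∀ i, i < 13520 → P i := stepQ 13519 Q13519 (allL N13519 (tt N14669 (iv F212331)) (tt N14747 (iv F212703)) (tt N11315 (iv D46106)) (tt N14649 (iv F212238)) (tt N14731 (iv F212641)) (tt N13519 F191663) (tt N11316 F191664) (tt N14730 F212637) (tt N15602 (iv F216206)) (tt N14749 (iv F212721)))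
theorem Q13521 : ∀ i, i < 13521 → P i := stepQ 13520 Q13520 (allL N13520 (tt N14918 (iv F213426)) (tt N11323 F191665) (tt N14731 (iv F212639)) (tt N13520 F191666) (tt N11315 (iv D46107)) (tt N11332 F204489) (tt N11317 F191667) (tt N11328 F204490) (tt N15538 F215997) (tt N11325 F204491))
theorem Q13522 : ∀ i, i < 13522 → P i := stepQ 13521 Q13521 (allL N13521 (tt N14797 (iv F212942)) (tt N11316 (iv D46109)) (tt N11325 F191672) (tt N14641 (iv F212194)) (tt N14749 (iv F212718)) (tt N11320 F191673) (tt N14747 (iv F212707)) (tt N11318 F191674) (tt N15604 (iv F216214)) (tt N14731 (iv F212644)))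
theorem Q13523 : ∀ i, i < 13523 → P i := stepQ 13522 Q13522 (allL N13522 (tt N14667 (iv F212321)) (tt N14749 (iv F212715)) (tt N11317 F191675) (tt N14737 (iv F212668)) (tt N11316 (iv D46110)) (tt N13522 F191676) (tt N14731 (iv F212643)) (tt N11319 F191677) (tt N15605 (iv F216218)) (tt N14747 (iv F212708)))
theorem Q13524 : ∀ i, i < 13524 → P i := stepQ 13523 Q13523 (allL N13523 (tt N11320 (iv D46121)) (tt N11643 F206801) (tt N11331 F191708) (tt N11611 (iv F206802)) (tt N13523 F191709) (tt N14797 F212948) (tt N13523 F191710) (tt N11321 F191711) (tt N15613 (iv F216250)) (tt N14057 (iv F209386)))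
theorem Q13525 : ∀ i, i < 13525 → P i := stepQ 13524 Q13524 (allL N13524 (tt N15775 (iv F216769)) (tt N11329 F191805) (tt N14732 (iv F212646)) (tt N15532 (iv F215967)) (tt N14712 F212517) (tt N11335 F191806) (tt N14715 (iv F212533)) (tt N15538 (iv F215996)) (tt N11328 (iv D46147)) (tt N15619 (iv F216276)))
theorem Q13526 : ∀ i, i < 13526 → P i := stepQ 13525 Q13525 (allL N13525 (tt N11332 F191828) (tt N13525 F191829) (tt N14057 (iv F209382)) (tt N13525 F191830) (tt N13525 F191831) (tt N14918 F213432) (tt N13525 F191832) (tt N11334 F191833) (tt N15779 D48549) (tt N11331 (iv D46153)))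
theorem Q13527 : ∀ i, i < 13527 → P i := stepQ 13526 Q13526 (allL N13526 (tt N15779 (iv F216786)) (tt N11333 F191834) (tt N14733 (iv F212650)) (tt N11485 F206385) (tt N13526 F191835) (tt N15538 (iv F215994)) (tt N13526 F191836) (tt N11335 F191837) (tt N11332 (iv D46154)) (tt N15621 (iv F216286)))
theorem Q13528 : ∀ i, i < 13528 → P i := stepQ 13527 Q13527 (allL N13527 (tt N11335 F191843) (tt N13527 F191844) (tt N14058 (iv F209389)) (tt N14634 (iv F212150)) (tt N13527 F191845) (tt N15775 (iv F216772)) (tt N11337 F191846) (tt N15779 (iv F216790)) (tt N11334 (iv D46156)) (tt N15622 (iv F216292)))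
theorem Q13529 : ∀ i, i < 13529 → P i := stepQ 13528 Q13528 (allL N13528 (tt N14634 (iv F212147)) (tt N11336 F191847) (tt N14070 (iv F209460)) (tt N11335 (iv D46157)) (tt N11481 F206383) (tt N15532 (iv F215968)) (tt N11338 F191848) (tt N11485 (iv F206384)) (tt N13528 F191849) (tt N15623 (iv F216296)))
theorem Q13530 : ∀ i, i < 13530 → P i := stepQ 13529 Q13529 (allL N13529 (tt N11352 F192033) (tt N14042 F209295) (tt N15780 D48550) (tt N11340 (iv D46201)) (tt N14969 (iv F213740)) (tt N11660 F192034) (tt N14925 (iv F213473)) (tt N14044 (iv F209305)) (tt N13529 F192035) (tt N15781 D48551))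
theorem Q13531 : ∀ i, i < 13531 → P i := stepQ 13530 Q13530 (allL N13530 (tt N11353 F192036) (tt N14724 (iv F212590)) (tt N15627 (iv F216310)) (tt N15781 (iv F216796)) (tt N11342 F192037) (tt N11661 F192038) (tt N14926 (iv F213480)) (tt N14727 (iv F212618)) (tt N14720 (iv F212566)) (tt N11340 (iv D46202)))
theorem Q13532 : ∀ i, i < 13532 → P i := stepQ 13531 Q13531 (allL N13531 (tt N11356 F192046) (tt N14726 (iv F212605)) (tt N15629 (iv F216318)) (tt N14880 (iv F213230)) (tt N14727 (iv F212615)) (tt N11343 F192047) (tt N15618 (iv F216273)) (tt N11342 F192048) (tt N14716 (iv F212541)) (tt N11341 (iv D46205)))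
theorem Q13533 : ∀ i, i < 13533 → P i := stepQ 13532 Q13532 (allL N13532 (tt N11373 F192163) (tt N14961 (iv F213695)) (tt N11344 (iv D46236)) (tt N14959 (iv F213682)) (tt N14963 (iv F213709)) (tt N13532 F192164) (tt N11345 F192165) (tt N14928 (iv F213492)) (tt N15652 (iv F216391)) (tt N14952 (iv F213635)))
theorem Q13534 : ∀ i, i < 13534 → P i := stepQ 13533 Q13533 (allL N13533 (tt N14955 (iv F213651)) (tt N11345 (iv D46239)) (tt N13533 F192175) (tt N14958 (iv F213674)) (tt N14954 F213650) (tt N11349 F192176) (tt N14961 (iv F213699)) (tt N11347 F192177) (tt N15654 (iv F216400)) (tt N14953 (iv F213642)))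
theorem Q13535 : ∀ i, i < 13535 → P i := stepQ 13534 Q13534 (allL N13534 (tt N11375 F192178) (tt N14954 (iv F213643)) (tt N11346 F192179) (tt N14931 (iv F213511)) (tt N11345 (iv D46240)) (tt N11382 (iv F204756)) (tt N14963 (iv F213711)) (tt N11348 F192181) (tt N15655 (iv F216405)) (tt N11377 F204688))
theorem Q13536 : ∀ i, i < 13536 → P i := stepQ 13535 Q13535 (allL N13535 (tt N11347 (iv D46244)) (tt N11377 F192196) (tt N13535 F192197) (tt N14963 (iv F213708)) (tt N14953 (iv F213639)) (tt N11350 F192198) (tt N14931 (iv F213513)) (tt N14955 (iv F213656)) (tt N15658 (iv F216419)) (tt N14954 (iv F213649)))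
theorem Q13537 : ∀ i, i < 13537 → P i := stepQ 13536 Q13536 (allL N13536 (tt N14953 (iv F213636)) (tt N11348 F192199) (tt N13536 F192200) (tt N14960 (iv F213689)) (tt N11347 (iv D46245)) (tt N11579 F192201) (tt N14932 (iv F213520)) (tt N14954 (iv F213648)) (tt N15659 (iv F216423)) (tt N14955 (iv F213657)))
theorem Q13538 : ∀ i, i < 13538 → P i := stepQ 13537 Q13537 (allL N13537 (tt N11378 F192205) (tt N14960 (iv F213687)) (tt N13537 F192206) (tt N11348 (iv D46247)) (tt N14966 (iv F213724)) (tt N11581 F192207) (tt N14933 (iv F213528)) (tt N14931 (iv F213514)) (tt N15782 D48552) (tt N14956 (iv F213664)))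
theorem Q13539 : ∀ i, i < 13539 → P i := stepQ 13538 Q13538 (allL N13538 (tt N11349 (iv D46251)) (tt N11380 F192219) (tt N13538 F192220) (tt N14970 (iv F213747)) (tt N11580 (iv F204751)) (tt N14955 (iv F213654)) (tt N13538 F192222) (tt N11350 F192223) (tt N15663 (iv F216438)) (tt N11579 (iv F206669)))
theorem Q13540 : ∀ i, i < 13540 → P i := stepQ 13539 Q13539 (allL N13539 (tt N14044 F209307) (tt N13539 F192262) (tt N15783 D48553) (tt N11351 (iv D46262)) (tt N15784 D48554) (tt N11663 F192263) (tt N15132 (iv F214520)) (tt N11352 F192264) (tt N13539 F192265) (tt N15785 D48555))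
theorem Q13541 : ∀ i, i < 13541 → P i := stepQ 13540 Q13540 (allL N13540 (tt N14727 (iv F212613)) (tt N13540 F192266) (tt N15666 (iv F216450)) (tt N15785 (iv F216810)) (tt N11356 F192267) (tt N11664 F192268) (tt N15617 (iv F216268)) (tt N11353 F192269) (tt N15776 (iv F216778)) (tt N11351 (iv D46263)))
theorem Q13542 : ∀ i, i < 13542 → P i := stepQ 13541 Q13541 (allL N13541 (tt N15780 (iv F216792)) (tt N15786 D48556) (tt N11352 (iv D46264)) (tt N15667 (iv F216454)) (tt N15787 D48557) (tt N11665 F192270) (tt N14937 (iv F213548)) (tt N15783 (iv F216802)) (tt N13541 F192271) (tt N15788 D48558))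
theorem Q13543 : ∀ i, i < 13543 → P i := stepQ 13542 Q13542 (allL N13542 (tt N14969 (iv F213738)) (tt N13542 F192272) (tt N15787 (iv F216816)) (tt N11358 F192273) (tt N11352 (iv D46265)) (tt N13542 F192274) (tt N14938 (iv F213553)) (tt N15784 (iv F216807)) (tt N13542 F192275) (tt N15789 D48559))
theorem Q13544 : ∀ i, i < 13544 → P i := stepQ 13543 Q13543 (allL N13543 (tt N15781 (iv F216795)) (tt N13543 F192276) (tt N15788 (iv F216819)) (tt N11353 F192277) (tt N15789 (iv F216823)) (tt N11666 F192278) (tt N14939 (iv F213560)) (tt N15785 (iv F216812)) (tt N15790 D48560) (tt N11352 (iv D46266)))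
theorem Q13545 : ∀ i, i < 13545 → P i := stepQ 13544 Q13544 (allL N13544 (tt N14902 (iv F213344)) (tt N13544 F192279) (tt N15791 D48561) (tt N11354 (iv D46267)) (tt N14901 F213343) (tt N13544 F192280) (tt N11355 F192281) (tt N14904 (iv F213358)) (tt N11366 F192282) (tt N15792 D48562))
theorem Q13546 : ∀ i, i < 13546 → P i := stepQ 13545 Q13545 (allL N13545 (tt N15618 (iv F216269)) (tt N13545 F192283) (tt N15671 (iv F216462)) (tt N15792 (iv F216832)) (tt N15617 (iv F216266)) (tt N13545 F192284) (tt N11356 F192285) (tt N14940 (iv F213564)) (tt N15778 (iv F216785)) (tt N11354 (iv D46268)))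
theorem Q13547 : ∀ i, i < 13547 → P i := stepQ 13546 Q13546 (allL N13546 (tt N14962 (iv F213701)) (tt N15793 D48563) (tt N11355 (iv D46269)) (tt N15672 (iv F216465)) (tt N15794 D48564) (tt N11360 F192286) (tt N15791 (iv F216829)) (tt N11357 F192287) (tt N11367 F192288) (tt N15795 D48565))
theorem Q13548 : ∀ i, i < 13548 → P i := stepQ 13547 Q13547 (allL N13547 (tt N14897 (iv F213315)) (tt N13547 F192289) (tt N15794 (iv F216839)) (tt N15784 (iv F216805)) (tt N11355 (iv D46270)) (tt N13547 F192290) (tt N14901 (iv F213340)) (tt N11358 F192291) (tt N11368 F192292) (tt N15796 D48566))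
theorem Q13549 : ∀ i, i < 13549 → P i := stepQ 13548 Q13548 (allL N13548 (tt N14880 (iv F213228)) (tt N13548 F192293) (tt N15795 (iv F216843)) (tt N11356 F192294) (tt N15796 (iv F216847)) (tt N11361 F192295) (tt N15792 (iv F216834)) (tt N11359 F192296) (tt N14788 (iv F212894)) (tt N11355 (iv D46271)))
theorem Q13550 : ∀ i, i < 13550 → P i := stepQ 13549 Q13549 (allL N13549 (tt N15797 D48567) (tt N11357 (iv D46272)) (tt N13549 F192297) (tt N15675 (iv F216474)) (tt N15798 D48568) (tt N11362 F192298) (tt N14943 (iv F213579)) (tt N15793 (iv F216837)) (tt N11369 F192299) (tt N15799 D48569))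
theorem Q13551 : ∀ i, i < 13551 → P i := stepQ 13550 Q13550 (allL N13550 (tt N14967 (iv F213727)) (tt N15798 (iv F216853)) (tt N11358 F192300) (tt N15800 D48570) (tt N11357 (iv D46273)) (tt N13550 F192301) (tt N14944 (iv F213584)) (tt N15794 (iv F216841)) (tt N11370 F192302) (tt N15801 D48571))
theorem Q13552 : ∀ i, i < 13552 → P i := stepQ 13551 Q13551 (allL N13551 (tt N14886 (iv F213253)) (tt N15799 (iv F216857)) (tt N11359 F192303) (tt N15677 (iv F216480)) (tt N15801 (iv F216862)) (tt N11363 F192304) (tt N14945 (iv F213590)) (tt N15795 (iv F216845)) (tt N14791 (iv F212909)) (tt N11357 (iv D46274)))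
theorem Q13553 : ∀ i, i < 13553 → P i := stepQ 13552 Q13552 (allL N13552 (tt N14887 (iv F213258)) (tt N13552 F192305) (tt N15801 (iv F216861)) (tt N15789 (iv F216822)) (tt N11359 F192306) (tt N13552 F192307) (tt N14946 (iv F213596)) (tt N15796 (iv F216849)) (tt N14792 (iv F212915)) (tt N11358 (iv D46275)))
theorem Q13554 : ∀ i, i < 13554 → P i := stepQ 13553 Q13553 (allL N13553 (tt N15802 D48572) (tt N11360 (iv D46277)) (tt N13553 F192311) (tt N15681 (iv F216487)) (tt N13553 F192312) (tt N15793 (iv F216836)) (tt N13553 F192313) (tt N11362 F192314) (tt N11371 F192315) (tt N15803 D48573))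
theorem Q13555 : ∀ i, i < 13555 → P i := stepQ 13554 Q13554 (allL N13554 (tt N14890 (iv F213275)) (tt N15803 (iv F216869)) (tt N11361 F192316) (tt N15683 (iv F216497)) (tt N13554 F192317) (tt N15795 (iv F216844)) (tt N13554 F192318) (tt N11363 F192319) (tt N14793 (iv F212922)) (tt N11360 (iv D46278)))
theorem Q13556 : ∀ i, i < 13556 → P i := stepQ 13555 Q13555 (allL N13555 (tt N11362 (iv D46280)) (tt N14973 (iv F213762)) (tt N13555 F192325) (tt N15686 (iv F216508)) (tt N13555 F192326) (tt N15797 (iv F216851)) (tt N11364 F192327) (tt N15802 (iv F216867)) (tt N11372 F192328) (tt N15804 D48574))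
theorem Q13557 : ∀ i, i < 13557 → P i := stepQ 13556 Q13556 (allL N13556 (tt N15804 (iv F216875)) (tt N11363 F192329) (tt N13556 F192330) (tt N15688 (iv F216516)) (tt N13556 F192331) (tt N15799 (iv F216859)) (tt N11365 F192332) (tt N15803 (iv F216873)) (tt N14795 (iv F212934)) (tt N11362 (iv D46281)))
theorem Q13558 : ∀ i, i < 13558 → P i := stepQ 13557 Q13557 (allL N13557 (tt N11365 F192337) (tt N14894 (iv F213295)) (tt N13557 F192338) (tt N15695 (iv F216537)) (tt N13557 F192339) (tt N14951 (iv F213626)) (tt N15804 (iv F216878)) (tt N13557 F192340) (tt N14796 (iv F212941)) (tt N11364 (iv D46283)))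
theorem Q13559 : ∀ i, i < 13559 → P i := stepQ 13558 Q13558 (allL N13558 (tt N14959 (iv F213679)) (tt N14966 (iv F213721)) (tt N11366 (iv D46286)) (tt N11373 F192348) (tt N14960 (iv F213690)) (tt N13558 F192349) (tt N11367 F192350) (tt N14952 (iv F213634)) (tt N15791 (iv F216830)) (tt N14928 (iv F213493)))
theorem Q13560 : ∀ i, i < 13560 → P i := stepQ 13559 Q13559 (allL N13559 (tt N14956 (iv F213658)) (tt N11367 (iv D46289)) (tt N13559 F192358) (tt N11374 F192359) (tt N14933 (iv F213526)) (tt N11371 F192360) (tt N14966 (iv F213726)) (tt N11369 F192361) (tt N15793 (iv F216838)) (tt N11378 F204586))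
theorem Q13561 : ∀ i, i < 13561 → P i := stepQ 13560 Q13560 (allL N13560 (tt N14957 (iv F213665)) (tt N14933 (iv F213524)) (tt N11368 F192362) (tt N14932 (iv F213518)) (tt N11367 (iv D46290)) (tt N13560 F192363) (tt N14960 (iv F213692)) (tt N11370 F192364) (tt N15794 (iv F216842)) (tt N14930 (iv F213508)))
theorem Q13562 : ∀ i, i < 13562 → P i := stepQ 13561 Q13561 (allL N13561 (tt N11369 (iv D46294)) (tt N14963 (iv F213706)) (tt N13561 F192377) (tt N11377 F192378) (tt N14961 (iv F213697)) (tt N11372 F192379) (tt N14954 (iv F213647)) (tt N14956 (iv F213663)) (tt N15797 (iv F216852)) (tt N14931 (iv F213515)))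
theorem Q13563 : ∀ i, i < 13563 → P i := stepQ 13562 Q13562 (allL N13562 (tt N14961 (iv F213694)) (tt N11370 F192380) (tt N13562 F192381) (tt N14930 (iv F213505)) (tt N11369 (iv D46295)) (tt N13562 F192382) (tt N14955 (iv F213655)) (tt N14933 (iv F213529)) (tt N15798 (iv F216856)) (tt N14932 (iv F213522)))
theorem Q13564 : ∀ i, i < 13564 → P i := stepQ 13563 Q13563 (allL N13563 (tt N14966 (iv F213720)) (tt N14930 (iv F213503)) (tt N13563 F192387) (tt N11370 (iv D46297)) (tt N11378 F192388) (tt N13563 F192389) (tt N14956 (iv F213662)) (tt N14932 (iv F213521)) (tt N15805 D48575) (tt N14933 (iv F213530)))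
theorem Q13565 : ∀ i, i < 13565 → P i := stepQ 13564 Q13564 (allL N13564 (tt N11371 (iv D46301)) (tt N14970 (iv F213745)) (tt N13564 F192398) (tt N11380 F192399) (tt N13564 F192400) (tt N14956 (iv F213661)) (tt N13564 F192401) (tt N11372 F192402) (tt N15802 (iv F216868)) (tt N11581 F206672))
theorem Q13566 : ∀ i, i < 13566 → P i := stepQ 13565 Q13565 (allL N13565 (tt N15782 (iv F216798)) (tt N14786 F212883) (tt N13565 F192493) (tt N15767 (iv F216740)) (tt N15805 (iv F216880)) (tt N11587 F192494) (tt N14965 (iv F213719)) (tt N14789 (iv F212898)) (tt N11378 (iv D46328)) (tt N15806 D48576))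
theorem Q13567 : ∀ i, i < 13567 → P i := stepQ 13566 Q13566 (allL N13566 (tt N14804 (iv F212969)) (tt N15762 (iv F216719)) (tt N14751 (iv F212727)) (tt N11379 (iv D46331)) (tt N15807 D48577) (tt N11384 F192501) (tt N14968 (iv F213736)) (tt N15766 (iv F216739)) (tt N14762 (iv F212783)) (tt N15769 (iv F216745)))
theorem Q13568 : ∀ i, i < 13568 → P i := stepQ 13567 Q13567 (allL N13567 (tt N14807 (iv F212979)) (tt N11568 (iv F206673)) (tt N14753 (iv F212737)) (tt N11381 (iv D46335)) (tt N15808 D48578) (tt N15766 (iv F216738)) (tt N13567 F192515) (tt N11384 F192516) (tt N14765 (iv F212794)) (tt N15771 (iv F216755)))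
theorem Q13569 : ∀ i, i < 13569 → P i := stepQ 13568 Q13568 (allL N13568 (tt N11383 F192517) (tt N14949 (iv F213611)) (tt N11388 F192518) (tt N14141 (iv F209827)) (tt N11509 (iv F204884)) (tt N15655 (iv F216403)) (tt N11385 F192520) (tt N11512 F206665) (tt N11382 (iv D46336)) (tt N15772 (iv F216761)))
theorem Q13570 : ∀ i, i < 13570 → P i := stepQ 13569 Q13569 (allL N13569 (tt N14141 (iv F209825)) (tt N11384 F192521) (tt N14092 (iv F209579)) (tt N11383 (iv D46337)) (tt N14091 F209576) (tt N15762 (iv F216720)) (tt N11386 F192522) (tt N11568 F206674) (tt N14768 (iv F212807)) (tt N15773 (iv F216765)))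
theorem Q13571 : ∀ i, i < 13571 → P i := stepQ 13570 Q13570 (allL N13570 (tt N14811 (iv F212994)) (tt N14091 (iv F209577)) (tt N14755 (iv F212748)) (tt N11588 F192523) (tt N11384 (iv D46338)) (tt N15809 D48579) (tt N11387 F192524) (tt N15808 (iv F216887)) (tt N14769 (iv F212812)) (tt N15774 (iv F216768)))
theorem Q13572 : ∀ i, i < 13572 → P i := stepQ 13571 Q13571 (allL N13571 (tt N11409 F206839) (tt N13571 F206840) (tt N13891 (iv F208408)) (tt N13571 F206841) (tt N15332 (iv F215356)) (tt N13800 (iv F207773)) (tt N11392 F206842) (tt N13806 (iv F207819)) (tt N11390 (iv D46341)) (tt N13571 F206843))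
theorem Q13573 : ∀ i, i < 13573 → P i := stepQ 13572 Q13572 (allL N13572 (tt N11412 F206844) (tt N14334 (iv F210804)) (tt N11392 F206845) (tt N15810 D48580) (tt N15333 (iv F215361)) (tt N13572 F206846) (tt N13891 (iv F208410)) (tt N11439 F206847) (tt N11391 (iv D46342)) (tt N13572 F206848))
theorem Q13574 : ∀ i, i < 13574 → P i := stepQ 13573 Q13573 (allL N13573 (tt N14282 (iv F210572)) (tt N11394 F206849) (tt N13573 F206850) (tt N15345 (iv F215391)) (tt N11393 (iv D46343)) (tt N14247 (iv F210399)) (tt N13872 (iv F208285)) (tt N11452 F206851) (tt N13871 F208279) (tt N15811 D48581))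
theorem Q13575 : ∀ i, i < 13575 → P i := stepQ 13574 Q13574 (allL N13574 (tt N14285 (iv F210586)) (tt N11395 F206852) (tt N13574 F206853) (tt N11411 F206854) (tt N15811 (iv F216896)) (tt N13574 F206855) (tt N13873 (iv F208292)) (tt N11453 F206856) (tt N15004 (iv F213928)) (tt N11393 (iv D46344)))
theorem Q13576 : ∀ i, i < 13576 → P i := stepQ 13575 Q13575 (allL N13575 (tt N13869 (iv F208256)) (tt N14247 (iv F210396)) (tt N11396 F206857) (tt N15347 (iv F215397)) (tt N13575 F206858) (tt N11394 (iv D46345)) (tt N13855 (iv F208164)) (tt N11454 F206859) (tt N13854 F208158) (tt N15812 D48582))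
theorem Q13577 : ∀ i, i < 13577 → P i := stepQ 13576 Q13576 (allL N13576 (tt N13885 (iv F208370)) (tt N15811 (iv F216894)) (tt N11397 F206860) (tt N15348 (iv F215400)) (tt N11395 F206861) (tt N15812 (iv F216900)) (tt N13876 (iv F208314)) (tt N11455 F206862) (tt N15354 (iv F215420)) (tt N11394 (iv D46346)))
theorem Q13578 : ∀ i, i < 13578 → P i := stepQ 13577 Q13577 (allL N13577 (tt N13870 (iv F208263)) (tt N13577 F206863) (tt N15812 (iv F216898)) (tt N11402 F206864) (tt N13577 F206865) (tt N11397 F206866) (tt N14989 (iv F213853)) (tt N11458 F206867) (tt N14990 (iv F213863)) (tt N11396 (iv D46347)))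
theorem Q13579 : ∀ i, i < 13579 → P i := stepQ 13578 Q13578 (allL N13578 (tt N13868 (iv F208248)) (tt N13578 F206868) (tt N15354 (iv F215416)) (tt N14989 (iv F213850)) (tt N11398 F206869) (tt N14990 (iv F213860)) (tt N11402 F206870) (tt N11459 F206871) (tt N11397 (iv D46348)) (tt N11401 F206872))
theorem Q13580 : ∀ i, i < 13580 → P i := stepQ 13579 Q13579 (allL N13579 (tt N13867 (iv F208240)) (tt N13579 F206873) (tt N15353 (iv F215411)) (tt N13846 (iv F208081)) (tt N11403 F206874) (tt N14980 (iv F213796)) (tt N11464 F206875) (tt N11401 (iv D46349)) (tt N11444 F206876) (tt N11459 F206877))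
theorem Q13581 : ∀ i, i < 13581 → P i := stepQ 13580 Q13580 (allL N13580 (tt N13799 (iv F207762)) (tt N11419 F206878) (tt N13878 (iv F208326)) (tt N13580 F206879) (tt N11405 F206880) (tt N15356 (iv F215426)) (tt N13580 F206881) (tt N13802 (iv F207790)) (tt N15813 D48583) (tt N11404 (iv D46350)))
theorem Q13582 : ∀ i, i < 13582 → P i := stepQ 13581 Q13581 (allL N13581 (tt N13800 (iv F207769)) (tt N11420 F206882) (tt N13879 (iv F208332)) (tt N13581 F206883) (tt N15813 (iv F216903)) (tt N11409 F206884) (tt N13581 F206885) (tt N13803 (iv F207797)) (tt N11405 (iv D46351)) (tt N13581 F206886))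
theorem Q13583 : ∀ i, i < 13583 → P i := stepQ 13582 Q13582 (allL N13582 (tt N13806 (iv F207813)) (tt N11423 F206887) (tt N13954 (iv F208795)) (tt N13582 F206888) (tt N14622 F212079) (tt N13803 (iv F207795)) (tt N11474 F206889) (tt N11409 F206890) (tt N11406 (iv D46352)) (tt N13582 F206891))
theorem Q13584 : ∀ i, i < 13584 → P i := stepQ 13583 Q13583 (allL N13583 (tt N14264 (iv F210467)) (tt N11408 F206892) (tt N11425 F206893) (tt N13873 (iv F208290)) (tt N15358 (iv F215434)) (tt N13874 (iv F208300)) (tt N11411 F206894) (tt N13941 (iv F208719)) (tt N15814 D48584) (tt N11407 (iv D46353)))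
theorem Q13585 : ∀ i, i < 13585 → P i := stepQ 13584 Q13584 (allL N13584 (tt N13891 (iv F208406)) (tt N15814 (iv F216906)) (tt N11409 F206895) (tt N14340 (iv F210834)) (tt N15359 (iv F215437)) (tt N13879 (iv F208334)) (tt N11412 F206896) (tt N13954 (iv F208799)) (tt N11408 (iv D46354)) (tt N13584 F206897))
theorem Q13586 : ∀ i, i < 13586 → P i := stepQ 13585 Q13585 (allL N13585 (tt N11411 F206898) (tt N14300 (iv F210657)) (tt N11427 F206899) (tt N14285 (iv F210589)) (tt N15360 (iv F215442)) (tt N13585 F206900) (tt N14264 (iv F210472)) (tt N11478 F206901) (tt N15815 D48585) (tt N11410 (iv D46355)))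
theorem Q13587 : ∀ i, i < 13587 → P i := stepQ 13586 Q13586 (allL N13586 (tt N15815 (iv F216910)) (tt N11412 F206902) (tt N11428 F206903) (tt N15816 D48586) (tt N15361 (iv F215446)) (tt N13586 F206904) (tt N15814 (iv F216908)) (tt N11479 F206905) (tt N11411 (iv D46356)) (tt N13586 F206906))
theorem Q13588 : ∀ i, i < 13588 → P i := stepQ 13587 Q13587 (allL N13587 (tt N15810 (iv F216889)) (tt N15816 (iv F216915)) (tt N13587 F206907) (tt N11412 (iv D46357)) (tt N15817 D48587) (tt N13587 F206908) (tt N14340 (iv F210836)) (tt N11480 F206909) (tt N14339 F210832) (tt N13587 F206910))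
theorem Q13589 : ∀ i, i < 13589 → P i := stepQ 13588 Q13588 (allL N13588 (tt N13588 F206911) (tt N13942 (iv F208721)) (tt N11415 F206912) (tt N13588 F206913) (tt N14348 (iv F210884)) (tt N11422 F206914) (tt N13810 (iv F207841)) (tt N11418 F206915) (tt N15818 D48588) (tt N11413 (iv D46358)))
theorem Q13590 : ∀ i, i < 13590 → P i := stepQ 13589 Q13589 (allL N13589 (tt N13589 F206916) (tt N13802 (iv F207785)) (tt N14348 (iv F210882)) (tt N13589 F206917) (tt N11415 F206918) (tt N15092 (iv F214316)) (tt N13811 (iv F207849)) (tt N11419 F206919) (tt N15551 (iv F216048)) (tt N11414 (iv D46359)))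
theorem Q13591 : ∀ i, i < 13591 → P i := stepQ 13590 Q13590 (allL N13590 (tt N13590 F206920) (tt N13803 (iv F207792)) (tt N15818 (iv F216923)) (tt N13590 F206921) (tt N15551 (iv F216046)) (tt N11423 F206922) (tt N13812 (iv F207855)) (tt N11420 F206923) (tt N11415 (iv D46360)) (tt N13590 F206924))
theorem Q13592 : ∀ i, i < 13592 → P i := stepQ 13591 Q13591 (allL N13591 (tt N14211 (iv F210175)) (tt N11418 F206925) (tt N13874 (iv F208297)) (tt N13591 F206926) (tt N14205 (iv F210134)) (tt N11425 F206927) (tt N13591 F206928) (tt N13942 (iv F208727)) (tt N15819 D48589) (tt N11416 (iv D46361)))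
theorem Q13593 : ∀ i, i < 13593 → P i := stepQ 13592 Q13592 (allL N13592 (tt N13592 F206929) (tt N14205 (iv F210131)) (tt N11419 F206930) (tt N14202 (iv F210108)) (tt N11418 F206931) (tt N14218 (iv F210230)) (tt N13592 F206932) (tt N14348 (iv F210886)) (tt N15820 D48590) (tt N11417 (iv D46362)))
theorem Q13594 : ∀ i, i < 13594 → P i := stepQ 13593 Q13593 (allL N13593 (tt N13593 F206933) (tt N15819 (iv F216927)) (tt N11420 F206934) (tt N15821 D48591) (tt N15820 (iv F216934)) (tt N11426 F206935) (tt N13593 F206936) (tt N15818 (iv F216925)) (tt N11418 (iv D46363)) (tt N13593 F206937))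
theorem Q13595 : ∀ i, i < 13595 → P i := stepQ 13594 Q13594 (allL N13594 (tt N13594 F206938) (tt N15813 (iv F216902)) (tt N15820 (iv F216932)) (tt N15822 D48592) (tt N11420 F206939) (tt N15363 (iv F215453)) (tt N13594 F206940) (tt N15551 (iv F216047)) (tt N11419 (iv D46364)) (tt N13594 F206941))
theorem Q13596 : ∀ i, i < 13596 → P i := stepQ 13595 Q13595 (allL N13595 (tt N14362 (iv F210969)) (tt N11422 F206942) (tt N13941 (iv F208715)) (tt N13595 F206943) (tt N15364 (iv F215458)) (tt N13942 (iv F208725)) (tt N11491 F206944) (tt N11425 F206945) (tt N15823 D48593) (tt N11421 (iv D46365)))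
theorem Q13597 : ∀ i, i < 13597 → P i := stepQ 13596 Q13596 (allL N13596 (tt N13596 F206946) (tt N15823 (iv F216952)) (tt N11423 F206947) (tt N15824 D48594) (tt N14483 F211508) (tt N15818 (iv F216924)) (tt N11492 F206948) (tt N11426 F206949) (tt N11422 (iv D46366)) (tt N13596 F206950))
theorem Q13598 : ∀ i, i < 13598 → P i := stepQ 13597 Q13597 (allL N13597 (tt N11425 F206951) (tt N13597 F206952) (tt N14264 (iv F210469)) (tt N13597 F206953) (tt N15365 (iv F215463)) (tt N14211 (iv F210180)) (tt N11427 F206954) (tt N14362 (iv F210975)) (tt N15825 D48595) (tt N11424 (iv D46367)))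
theorem Q13599 : ∀ i, i < 13599 → P i := stepQ 13598 Q13598 (allL N13598 (tt N15825 (iv F216962)) (tt N11426 F206955) (tt N15814 (iv F216907)) (tt N15826 D48596) (tt N15366 (iv F215466)) (tt N15819 (iv F216928)) (tt N11428 F206956) (tt N15823 (iv F216954)) (tt N11425 (iv D46368)) (tt N13598 F206957))
theorem Q13600 : ∀ i, i < 13600 → P i := stepQ 13599 Q13599 (allL N13599 (tt N13599 F206958) (tt N15826 (iv F216966)) (tt N13599 F206959) (tt N11426 (iv D46369)) (tt N15827 D48597) (tt N15821 (iv F216940)) (tt N11429 F206960) (tt N15824 (iv F216959)) (tt N13599 F206961) (tt N13599 F206962))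
theorem Q13601 : ∀ i, i < 13601 → P i := stepQ 13600 Q13600 (allL N13600 (tt N11428 F206963) (tt N13600 F206964) (tt N15815 (iv F216911)) (tt N15828 D48598) (tt N15367 (iv F215471)) (tt N13600 F206965) (tt N15825 (iv F216964)) (tt N11496 F206966) (tt N11427 (iv D46370)) (tt N13600 F206967))
theorem Q13602 : ∀ i, i < 13602 → P i := stepQ 13601 Q13601 (allL N13601 (tt N15828 (iv F216976)) (tt N11429 F206968) (tt N15829 D48599) (tt N11428 (iv D46371)) (tt N15830 D48600) (tt N13601 F206969) (tt N15826 (iv F216967)) (tt N11497 F206970) (tt N13601 F206971) (tt N13601 F206972))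
theorem Q13603 : ∀ i, i < 13603 → P i := stepQ 13602 Q13602 (allL N13602 (tt N13602 F206973) (tt N15830 (iv F216987)) (tt N13602 F206974) (tt N15363 F215456) (tt N11429 (iv D46372)) (tt N15822 (iv F216947)) (tt N15827 (iv F216973)) (tt N11498 F206975) (tt N13602 F206976) (tt N13602 F206977))
theorem Q13604 : ∀ i, i < 13604 → P i := stepQ 13603 Q13603 (allL N13603 (tt N11456 F206978) (tt N14259 (iv F210445)) (tt N11431 F206979) (tt N15831 D48601) (tt N15019 (iv F214000)) (tt N13603 F206980) (tt N13910 (iv F208512)) (tt N13863 (iv F208218)) (tt N11430 (iv D46373)) (tt N13861 (iv F208206)))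
theorem Q13605 : ∀ i, i < 13605 → P i := stepQ 13604 Q13604 (allL N13604 (tt N11470 F206981) (tt N13604 F206982) (tt N14156 (iv F209894)) (tt N11514 F206983) (tt N11433 F206984) (tt N15451 (iv F215748)) (tt N13604 F206985) (tt N13819 (iv F207907)) (tt N15832 D48602) (tt N11432 (iv D46374)))
theorem Q13606 : ∀ i, i < 13606 → P i := stepQ 13605 Q13605 (allL N13605 (tt N11471 F206986) (tt N13605 F206987) (tt N14157 (iv F209900)) (tt N13605 F206988) (tt N15832 (iv F216997)) (tt N11436 F206989) (tt N13605 F206990) (tt N13820 (iv F207914)) (tt N11433 (iv D46375)) (tt N13605 F206991))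
theorem Q13607 : ∀ i, i < 13607 → P i := stepQ 13606 Q13606 (allL N13606 (tt N11474 F206992) (tt N13606 F206993) (tt N13985 (iv F208967)) (tt N13606 F206994) (tt N15453 (iv F215755)) (tt N13820 (iv F207912)) (tt N13806 (iv F207818)) (tt N11436 F206995) (tt N11434 (iv D46376)) (tt N13606 F206996))
theorem Q13608 : ∀ i, i < 13608 → P i := stepQ 13607 Q13607 (allL N13607 (tt N11477 F206997) (tt N14584 (iv F211896)) (tt N11436 F206998) (tt N15833 D48603) (tt N15454 (iv F215760)) (tt N14157 (iv F209901)) (tt N11439 F206999) (tt N13985 (iv F208970)) (tt N11435 (iv D46377)) (tt N13607 F207000))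
theorem Q13609 : ∀ i, i < 13609 → P i := stepQ 13608 Q13608 (allL N13608 (tt N11438 F207001) (tt N11478 F207002) (tt N13608 F207003) (tt N14298 (iv F210646)) (tt N15455 (iv F215766)) (tt N13608 F207004) (tt N14522 (iv F211670)) (tt N14300 (iv F210662)) (tt N15834 D48604) (tt N11437 (iv D46378)))
theorem Q13610 : ∀ i, i < 13610 → P i := stepQ 13609 Q13609 (allL N13609 (tt N15834 (iv F217004)) (tt N11439 F207005) (tt N13609 F207006) (tt N15835 D48605) (tt N15456 (iv F215769)) (tt N13609 F207007) (tt N14584 (iv F211899)) (tt N14334 (iv F210808)) (tt N11438 (iv D46379)) (tt N13609 F207008))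
theorem Q13611 : ∀ i, i < 13611 → P i := stepQ 13610 Q13610 (allL N13610 (tt N11480 F207009) (tt N15835 (iv F217009)) (tt N13610 F207010) (tt N11439 (iv D46380)) (tt N15836 D48606) (tt N13610 F207011) (tt N15833 (iv F217002)) (tt N15810 (iv F216892)) (tt N15831 (iv F216994)) (tt N13610 F207012))
theorem Q13612 : ∀ i, i < 13612 → P i := stepQ 13611 Q13611 (allL N13611 (tt N14281 (iv F210566)) (tt N11441 F207013) (tt N13611 F207014) (tt N14250 (iv F210412)) (tt N11440 (iv D46381)) (tt N14246 (iv F210392)) (tt N13935 (iv F208678)) (tt N13871 F208278) (tt N11452 F207015) (tt N14311 (iv F210722)))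
theorem Q13613 : ∀ i, i < 13613 → P i := stepQ 13612 Q13612 (allL N13612 (tt N14224 (iv F210264)) (tt N11442 F207016) (tt N13612 F207017) (tt N13612 F207018) (tt N14311 (iv F210719)) (tt N13612 F207019) (tt N11594 F207020) (tt N11590 F207021) (tt N15003 (iv F213921)) (tt N11440 (iv D46382)))
theorem Q13614 : ∀ i, i < 13614 → P i := stepQ 13613 Q13613 (allL N13613 (tt N13880 (iv F208338)) (tt N14250 (iv F210410)) (tt N11672 F207022) (tt N11441 (iv D46383)) (tt N13613 F207023) (tt N13857 (iv F208180)) (tt N13945 (iv F208746)) (tt N13856 F208173) (tt N15005 (iv F213933)) (tt N13851 (iv F208131)))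
theorem Q13615 : ∀ i, i < 13615 → P i := stepQ 13614 Q13614 (allL N13614 (tt N13851 (iv F208123)) (tt N14246 (iv F210388)) (tt N11443 F207024) (tt N13857 (iv F208178)) (tt N13614 F207025) (tt N11441 (iv D46384)) (tt N13897 (iv F208446)) (tt N13854 F208157) (tt N11454 F207026) (tt N13880 (iv F208345)))
theorem Q13616 : ∀ i, i < 13616 → P i := stepQ 13615 Q13615 (allL N13615 (tt N13857 (iv F208175)) (tt N14311 (iv F210716)) (tt N11444 F207027) (tt N13851 (iv F208125)) (tt N11442 F207028) (tt N13880 (iv F208343)) (tt N11623 F207029) (tt N11614 F207030) (tt N15353 (iv F215414)) (tt N11441 (iv D46385)))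
theorem Q13617 : ∀ i, i < 13617 → P i := stepQ 13616 Q13616 (allL N13616 (tt N13850 (iv F208114)) (tt N13616 F207031) (tt N13897 (iv F208443)) (tt N11673 F207032) (tt N13616 F207033) (tt N13958 (iv F208820)) (tt N11443 (iv D46386)) (tt N13845 (iv F208075)) (tt N11457 F207034) (tt N13852 (iv F208140)))
theorem Q13618 : ∀ i, i < 13618 → P i := stepQ 13617 Q13617 (allL N13617 (tt N14492 (iv F211551)) (tt N11446 F207035) (tt N13617 F207036) (tt N15486 (iv F215833)) (tt N11445 (iv D46387)) (tt N15837 D48607) (tt N11452 F207037) (tt N13936 (iv F208686)) (tt N13935 F208680) (tt N15838 D48608))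
theorem Q13619 : ∀ i, i < 13619 → P i := stepQ 13618 Q13618 (allL N13618 (tt N14497 (iv F211570)) (tt N11447 F207038) (tt N13618 F207039) (tt N11476 F207040) (tt N15838 (iv F217019)) (tt N14069 (iv F209454)) (tt N11453 F207041) (tt N13939 (iv F208704)) (tt N15070 (iv F214219)) (tt N11445 (iv D46388)))
theorem Q13620 : ∀ i, i < 13620 → P i := stepQ 13619 Q13619 (allL N13619 (tt N13969 (iv F208884)) (tt N15837 (iv F217015)) (tt N11448 F207042) (tt N15488 (iv F215839)) (tt N14086 (iv F209550)) (tt N11446 (iv D46389)) (tt N15839 D48609) (tt N13947 (iv F208760)) (tt N13946 F208754) (tt N15840 D48610))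
theorem Q13621 : ∀ i, i < 13621 → P i := stepQ 13620 Q13620 (allL N13620 (tt N13973 (iv F208904)) (tt N15838 (iv F217017)) (tt N11449 F207043) (tt N15489 (iv F215841)) (tt N11447 F207044) (tt N15840 (iv F217024)) (tt N11455 F207045) (tt N13949 (iv F208771)) (tt N15508 (iv F215886)) (tt N11446 (iv D46390)))
theorem Q13622 : ∀ i, i < 13622 → P i := stepQ 13621 Q13621 (allL N13621 (tt N13917 (iv F208552)) (tt N13621 F207046) (tt N15839 (iv F217021)) (tt N11462 F207047) (tt N14107 (iv F209659)) (tt N11457 F207048) (tt N11448 (iv D46391)) (tt N15032 (iv F214065)) (tt N13958 (iv F208822)) (tt N15841 D48611))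
theorem Q13623 : ∀ i, i < 13623 → P i := stepQ 13622 Q13622 (allL N13622 (tt N13992 (iv F208992)) (tt N13622 F207049) (tt N15840 (iv F217023)) (tt N11463 F207050) (tt N14108 (iv F209667)) (tt N11449 F207051) (tt N15841 (iv F217028)) (tt N13959 (iv F208830)) (tt N15842 D48612) (tt N11448 (iv D46392)))
theorem Q13624 : ∀ i, i < 13624 → P i := stepQ 13623 Q13623 (allL N13623 (tt N13920 (iv F208574)) (tt N13623 F207052) (tt N15508 (iv F215882)) (tt N15037 (iv F214094)) (tt N11450 F207053) (tt N15842 (iv F217031)) (tt N11459 F207054) (tt N11465 F207055) (tt N11449 (iv D46393)) (tt N11464 F207056))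
theorem Q13625 : ∀ i, i < 13625 → P i := stepQ 13624 Q13624 (allL N13624 (tt N11452 F207057) (tt N14292 (iv F210621)) (tt N13624 F207058) (tt N15494 (iv F215853)) (tt N11451 (iv D46394)) (tt N15843 D48613) (tt N14492 (iv F211555)) (tt N14282 (iv F210577)) (tt N14281 F210571) (tt N15844 D48614))
theorem Q13626 : ∀ i, i < 13626 → P i := stepQ 13625 Q13625 (allL N13625 (tt N11453 F207059) (tt N14298 (iv F210644)) (tt N13625 F207060) (tt N11478 F207061) (tt N15844 (iv F217039)) (tt N13625 F207062) (tt N14497 (iv F211575)) (tt N14285 (iv F210592)) (tt N15845 D48615) (tt N11451 (iv D46395)))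
theorem Q13627 : ∀ i, i < 13627 → P i := stepQ 13626 Q13626 (allL N13626 (tt N15843 (iv F217034)) (tt N11454 F207063) (tt N13626 F207064) (tt N15496 (iv F215857)) (tt N13626 F207065) (tt N11452 (iv D46396)) (tt N14424 (iv F211282)) (tt N14247 (iv F210401)) (tt N14246 F210395) (tt N15846 D48616))
theorem Q13628 : ∀ i, i < 13628 → P i := stepQ 13627 Q13627 (allL N13627 (tt N15844 (iv F217037)) (tt N11455 F207066) (tt N13627 F207067) (tt N15497 (iv F215859)) (tt N11453 F207068) (tt N15846 (iv F217046)) (tt N15838 (iv F217020)) (tt N15811 (iv F216897)) (tt N15847 D48617) (tt N11452 (iv D46397)))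
theorem Q13629 : ∀ i, i < 13629 → P i := stepQ 13628 Q13628 (allL N13628 (tt N15845 (iv F217040)) (tt N11456 F207069) (tt N13628 F207070) (tt N15848 D48618) (tt N15847 (iv F217049)) (tt N13628 F207071) (tt N15070 (iv F214217)) (tt N15004 (iv F213927)) (tt N11453 (iv D46398)) (tt N15003 F213922))
theorem Q13630 : ∀ i, i < 13630 → P i := stepQ 13629 Q13629 (allL N13629 (tt N13921 (iv F208581)) (tt N14424 (iv F211279)) (tt N11457 F207072) (tt N15499 (iv F215863)) (tt N13629 F207073) (tt N15839 (iv F217022)) (tt N11454 (iv D46399)) (tt N13898 (iv F208454)) (tt N13897 F208448) (tt N15849 D48619))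
theorem Q13631 : ∀ i, i < 13631 → P i := stepQ 13630 Q13630 (allL N13630 (tt N13924 (iv F208598)) (tt N15846 (iv F217043)) (tt N11458 F207074) (tt N15500 (iv F215865)) (tt N13630 F207075) (tt N11455 F207076) (tt N15849 (iv F217055)) (tt N15812 (iv F216901)) (tt N15850 D48620) (tt N11454 (iv D46400)))
theorem Q13632 : ∀ i, i < 13632 → P i := stepQ 13631 Q13631 (allL N13631 (tt N15019 (iv F213998)) (tt N15847 (iv F217047)) (tt N11459 F207077) (tt N15851 D48621) (tt N11456 F207078) (tt N15850 (iv F217058)) (tt N15508 (iv F215884)) (tt N15354 (iv F215419)) (tt N11455 (iv D46401)) (tt N15353 F215415))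
theorem Q13633 : ∀ i, i < 13633 → P i := stepQ 13632 Q13632 (allL N13632 (tt N15831 (iv F216991)) (tt N15848 (iv F217050)) (tt N13632 F207079) (tt N11456 (iv D46402)) (tt N15852 D48622) (tt N13632 F207080) (tt N14592 (iv F211927)) (tt N14339 (iv F210831)) (tt N11480 F207081) (tt N14338 F210826))
theorem Q13634 : ∀ i, i < 13634 → P i := stepQ 13633 Q13633 (allL N13633 (tt N13919 (iv F208565)) (tt N13633 F207082) (tt N13898 (iv F208451)) (tt N11464 F207083) (tt N13633 F207084) (tt N15032 (iv F214063)) (tt N13846 (iv F208084)) (tt N11457 (iv D46403)) (tt N13845 F208077) (tt N15037 (iv F214098)))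
theorem Q13635 : ∀ i, i < 13635 → P i := stepQ 13634 Q13634 (allL N13634 (tt N13922 (iv F208586)) (tt N13634 F207085) (tt N15849 (iv F217053)) (tt N11465 F207086) (tt N13634 F207087) (tt N15841 (iv F217027)) (tt N11458 F207088) (tt N15037 (iv F214097)) (tt N15036 (iv F214091)) (tt N11457 (iv D46404)))
theorem Q13636 : ∀ i, i < 13636 → P i := stepQ 13635 Q13635 (allL N13635 (tt N13925 (iv F208602)) (tt N13635 F207089) (tt N15850 (iv F217056)) (tt N13960 (iv F208835)) (tt N13635 F207090) (tt N11459 F207091) (tt N15036 (iv F214089)) (tt N14990 (iv F213862)) (tt N11458 (iv D46405)) (tt N14980 (iv F213800)))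
theorem Q13637 : ∀ i, i < 13637 → P i := stepQ 13636 Q13636 (allL N13636 (tt N13994 (iv F209005)) (tt N13636 F207092) (tt N15039 (iv F214104)) (tt N13959 (iv F208826)) (tt N11561 F207093) (tt N11461 F207094) (tt N15035 (iv F214084)) (tt N11463 F207095) (tt N15034 (iv F214078)) (tt N11460 (iv D46406)))
theorem Q13638 : ∀ i, i < 13638 → P i := stepQ 13637 Q13637 (allL N13637 (tt N13916 (iv F208545)) (tt N13637 F207096) (tt N15506 (iv F215874)) (tt N15032 (iv F214061)) (tt N11562 F207097) (tt N11464 F207098) (tt N15033 (iv F214069)) (tt N11462 (iv D46407)) (tt N11676 F207099) (tt N15842 (iv F217033)))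
theorem Q13639 : ∀ i, i < 13639 → P i := stepQ 13638 Q13638 (allL N13638 (tt N13918 (iv F208559)) (tt N13638 F207100) (tt N15507 (iv F215878)) (tt N15841 (iv F217026)) (tt N11563 F207101) (tt N11465 F207102) (tt N11463 F207103) (tt N15842 (iv F217032)) (tt N13959 (iv F208831)) (tt N11462 (iv D46408)))
theorem Q13640 : ∀ i, i < 13640 → P i := stepQ 13639 Q13639 (allL N13639 (tt N13820 (iv F207908)) (tt N11483 F207104) (tt N14100 (iv F209620)) (tt N13639 F207105) (tt N15304 F215246) (tt N11474 F207106) (tt N13813 (iv F207864)) (tt N11471 F207107) (tt N11466 (iv D46409)) (tt N13639 F207108))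
theorem Q13641 : ∀ i, i < 13641 → P i := stepQ 13640 Q13640 (allL N13640 (tt N14706 (iv F212484)) (tt N11468 F207109) (tt N11485 F207110) (tt N15853 D48623) (tt N11467 (iv D46410)) (tt N15516 (iv F215913)) (tt N13640 F207111) (tt N14070 (iv F209462)) (tt N13640 F207112) (tt N15854 D48624))
theorem Q13642 : ∀ i, i < 13642 → P i := stepQ 13641 Q13641 (allL N13641 (tt N14710 (iv F212501)) (tt N11469 F207113) (tt N11486 F207114) (tt N14069 (iv F209453)) (tt N15854 (iv F217065)) (tt N11476 F207115) (tt N13641 F207116) (tt N14071 (iv F209470)) (tt N15855 D48625) (tt N11467 (iv D46411)))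
theorem Q13643 : ∀ i, i < 13643 → P i := stepQ 13642 Q13642 (allL N13642 (tt N14138 (iv F209812)) (tt N15853 (iv F217061)) (tt N11568 F207117) (tt N11468 (iv D46412)) (tt N14089 (iv F209563)) (tt N15518 (iv F215919)) (tt N13642 F207118) (tt N14092 (iv F209582)) (tt N15856 D48626) (tt N15857 D48627))
theorem Q13644 : ∀ i, i < 13644 → P i := stepQ 13643 Q13643 (allL N13643 (tt N14156 (iv F209892)) (tt N15854 (iv F217063)) (tt N11470 F207119) (tt N15857 (iv F217076)) (tt N11469 F207120) (tt N15519 (iv F215922)) (tt N13643 F207121) (tt N14099 (iv F209618)) (tt N15858 D48628) (tt N11468 (iv D46413)))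
theorem Q13645 : ∀ i, i < 13645 → P i := stepQ 13644 Q13644 (allL N13644 (tt N14157 (iv F209898)) (tt N15855 (iv F217067)) (tt N11471 F207122) (tt N14872 (iv F213194)) (tt N15858 (iv F217079)) (tt N11477 F207123) (tt N13644 F207124) (tt N14100 (iv F209624)) (tt N11469 (iv D46414)) (tt N13644 F207125))
theorem Q13646 : ∀ i, i < 13646 → P i := stepQ 13645 Q13645 (allL N13645 (tt N15832 (iv F216995)) (tt N11489 F207126) (tt N15858 (iv F217078)) (tt N15302 (iv F215231)) (tt N11471 F207127) (tt N15521 (iv F215928)) (tt N13645 F207128) (tt N15304 (iv F215243)) (tt N11470 (iv D46415)) (tt N13645 F207129))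
theorem Q13647 : ∀ i, i < 13647 → P i := stepQ 13646 Q13646 (allL N13646 (tt N14452 (iv F211358)) (tt N11473 F207130) (tt N11491 F207131) (tt N13939 (iv F208701)) (tt N15522 (iv F215932)) (tt N14071 (iv F209468)) (tt N13941 (iv F208718)) (tt N11476 F207132) (tt N15859 D48629) (tt N11472 (iv D46416)))
theorem Q13648 : ∀ i, i < 13648 → P i := stepQ 13647 Q13647 (allL N13647 (tt N13985 (iv F208965)) (tt N15859 (iv F217082)) (tt N11474 F207133) (tt N14593 (iv F211931)) (tt N15523 (iv F215935)) (tt N14100 (iv F209622)) (tt N13954 (iv F208798)) (tt N11477 F207134) (tt N11473 (iv D46417)) (tt N13647 F207135))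
theorem Q13649 : ∀ i, i < 13649 → P i := stepQ 13648 Q13648 (allL N13648 (tt N11476 F207136) (tt N14522 (iv F211666)) (tt N11493 F207137) (tt N14497 (iv F211573)) (tt N15524 (iv F215940)) (tt N14710 (iv F212505)) (tt N11478 F207138) (tt N14452 (iv F211364)) (tt N15860 D48630) (tt N11475 (iv D46418)))
theorem Q13650 : ∀ i, i < 13650 → P i := stepQ 13649 Q13649 (allL N13649 (tt N15860 (iv F217086)) (tt N11477 F207139) (tt N11494 F207140) (tt N15861 D48631) (tt N15525 (iv F215944)) (tt N15855 (iv F217069)) (tt N11479 F207141) (tt N15859 (iv F217084)) (tt N11476 (iv D46419)) (tt N13649 F207142))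
theorem Q13651 : ∀ i, i < 13651 → P i := stepQ 13650 Q13650 (allL N13650 (tt N15833 (iv F217000)) (tt N15861 (iv F217090)) (tt N13650 F207143) (tt N11477 (iv D46420)) (tt N15862 D48632) (tt N14872 (iv F213195)) (tt N11480 F207144) (tt N14593 (iv F211934)) (tt N14592 F211929) (tt N13650 F207145))
theorem Q13652 : ∀ i, i < 13652 → P i := stepQ 13651 Q13651 (allL N13651 (tt N11479 F207146) (tt N15834 (iv F217005)) (tt N11496 F207147) (tt N15863 D48633) (tt N15527 (iv F215951)) (tt N13651 F207148) (tt N15860 (iv F217088)) (tt N15815 (iv F216913)) (tt N11478 (iv D46421)) (tt N13651 F207149))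
theorem Q13653 : ∀ i, i < 13653 → P i := stepQ 13652 Q13652 (allL N13652 (tt N15863 (iv F217096)) (tt N11480 F207150) (tt N15864 D48634) (tt N11479 (iv D46422)) (tt N15865 D48635) (tt N13652 F207151) (tt N15861 (iv F217091)) (tt N15816 (iv F216917)) (tt N15848 (iv F217052)) (tt N13652 F207152))
theorem Q13654 : ∀ i, i < 13654 → P i := stepQ 13653 Q13653 (allL N13653 (tt N15836 (iv F217012)) (tt N15865 (iv F217103)) (tt N13653 F207153) (tt N15529 (iv F215955)) (tt N11480 (iv D46423)) (tt N15866 D48636) (tt N15862 (iv F217094)) (tt N15817 (iv F216920)) (tt N15852 (iv F217060)) (tt N13653 F207154))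
theorem Q13655 : ∀ i, i < 13655 → P i := stepQ 13654 Q13654 (allL N13654 (tt N14637 (iv F212166)) (tt N11482 F207155) (tt N14071 (iv F209466)) (tt N13654 F207156) (tt N15623 F216297) (tt N11491 F207157) (tt N14072 (iv F209477)) (tt N11486 F207158) (tt N15867 D48637) (tt N11481 (iv D46424)))
theorem Q13656 : ∀ i, i < 13656 → P i := stepQ 13655 Q13655 (allL N13655 (tt N13655 F207159) (tt N15867 (iv F217108)) (tt N11483 F207160) (tt N15868 D48638) (tt N15140 F214557) (tt N11492 F207161) (tt N15143 (iv F214568)) (tt N11488 F207162) (tt N11482 (iv D46425)) (tt N13655 F207163))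
theorem Q13657 : ∀ i, i < 13657 → P i := stepQ 13656 Q13656 (allL N13656 (tt N11485 F207164) (tt N13656 F207165) (tt N14706 (iv F212486)) (tt N15779 F216791) (tt N11484 (iv D46426)) (tt N15536 (iv F215987)) (tt N13656 F207166) (tt N14634 F212153) (tt N13656 F207167) (tt N15869 D48639))
theorem Q13658 : ∀ i, i < 13658 → P i := stepQ 13657 Q13657 (allL N13657 (tt N11486 F207168) (tt N13657 F207169) (tt N14710 (iv F212503)) (tt N13657 F207170) (tt N15869 (iv F217120)) (tt N11493 F207171) (tt N13657 F207172) (tt N14637 (iv F212172)) (tt N15870 D48640) (tt N11484 (iv D46427)))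
theorem Q13659 : ∀ i, i < 13659 → P i := stepQ 13658 Q13658 (allL N13658 (tt N15869 (iv F217118)) (tt N11487 F207173) (tt N15854 (iv F217064)) (tt N15621 F216287) (tt N11486 F207174) (tt N15539 (iv F216000)) (tt N13658 F207175) (tt N15623 (iv F216295)) (tt N15871 D48641) (tt N11485 (iv D46428)))
theorem Q13660 : ∀ i, i < 13660 → P i := stepQ 13659 Q13659 (allL N13659 (tt N15870 (iv F217122)) (tt N11488 F207176) (tt N15855 (iv F217068)) (tt N15872 D48642) (tt N15871 (iv F217128)) (tt N11494 F207177) (tt N13659 F207178) (tt N15867 (iv F217110)) (tt N11486 (iv D46429)) (tt N13659 F207179))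
theorem Q13661 : ∀ i, i < 13661 → P i := stepQ 13660 Q13660 (allL N13660 (tt N13660 F207180) (tt N15871 (iv F217127)) (tt N11489 F207181) (tt N15137 (iv F214540)) (tt N11488 F207182) (tt N15542 (iv F216015)) (tt N13660 F207183) (tt N15140 (iv F214554)) (tt N11487 (iv D46430)) (tt N13660 F207184))
theorem Q13662 : ∀ i, i < 13662 → P i := stepQ 13661 Q13661 (allL N13661 (tt N13661 F207185) (tt N15872 (iv F217131)) (tt N13661 F207186) (tt N11488 (iv D46431)) (tt N15873 D48643) (tt N11495 F207187) (tt N13661 F207188) (tt N15868 (iv F217115)) (tt N13661 F207189) (tt N13661 F207190))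
theorem Q13663 : ∀ i, i < 13663 → P i := stepQ 13662 Q13662 (allL N13662 (tt N11491 F207191) (tt N13662 F207192) (tt N14452 (iv F211360)) (tt N13662 F207193) (tt N15543 (iv F216019)) (tt N14637 (iv F212170)) (tt N14362 (iv F210974)) (tt N11493 F207194) (tt N15874 D48644) (tt N11490 (iv D46432)))
theorem Q13664 : ∀ i, i < 13664 → P i := stepQ 13663 Q13663 (allL N13663 (tt N15874 (iv F217141)) (tt N11492 F207195) (tt N15859 (iv F217083)) (tt N15875 D48645) (tt N15544 (iv F216022)) (tt N15867 (iv F217109)) (tt N15823 (iv F216953)) (tt N11494 F207196) (tt N11491 (iv D46433)) (tt N13663 F207197))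
theorem Q13665 : ∀ i, i < 13665 → P i := stepQ 13664 Q13664 (allL N13664 (tt N13664 F207198) (tt N15875 (iv F217145)) (tt N13664 F207199) (tt N11492 (iv D46434)) (tt N15876 D48646) (tt N15868 (iv F217114)) (tt N15824 (iv F216958)) (tt N11495 F207200) (tt N13664 F207201) (tt N13664 F207202))
theorem Q13666 : ∀ i, i < 13666 → P i := stepQ 13665 Q13665 (allL N13665 (tt N11494 F207203) (tt N13665 F207204) (tt N15860 (iv F217087)) (tt N15877 D48647) (tt N15545 (iv F216027)) (tt N15870 (iv F217124)) (tt N11496 F207205) (tt N15874 (iv F217143)) (tt N11493 (iv D46435)) (tt N13665 F207206))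
theorem Q13667 : ∀ i, i < 13667 → P i := stepQ 13666 Q13666 (allL N13666 (tt N15877 (iv F217154)) (tt N11495 F207207) (tt N15878 D48648) (tt N11494 (iv D46436)) (tt N15879 D48649) (tt N15872 (iv F217132)) (tt N11497 F207208) (tt N15875 (iv F217146)) (tt N13666 F207209) (tt N13666 F207210))
theorem Q13668 : ∀ i, i < 13668 → P i := stepQ 13667 Q13667 (allL N13667 (tt N13667 F207211) (tt N15879 (iv F217163)) (tt N13667 F207212) (tt N15547 (iv F216034)) (tt N11495 (iv D46437)) (tt N15880 D48650) (tt N11498 F207213) (tt N15876 (iv F217151)) (tt N13667 F207214) (tt N13667 F207215))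
theorem Q13669 : ∀ i, i < 13669 → P i := stepQ 13668 Q13668 (allL N13668 (tt N11497 F207216) (tt N13668 F207217) (tt N15881 D48651) (tt N11496 (iv D46438)) (tt N15882 D48652) (tt N13668 F207218) (tt N15877 (iv F217156)) (tt N15828 (iv F216979)) (tt N13668 F207219) (tt N13668 F207220))
theorem Q13670 : ∀ i, i < 13670 → P i := stepQ 13669 Q13669 (allL N13669 (tt N15881 (iv F217171)) (tt N13669 F207221) (tt N11497 (iv D46439)) (tt N15864 (iv F217100)) (tt N15883 D48653) (tt N13669 F207222) (tt N15878 (iv F217160)) (tt N15829 (iv F216984)) (tt N13669 F207223) (tt N13669 F207224))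
theorem Q13671 : ∀ i, i < 13671 → P i := stepQ 13670 Q13670 (allL N13670 (tt N15882 (iv F217175)) (tt N11498 F207225) (tt N15883 (iv F217180)) (tt N15550 (iv F216042)) (tt N11497 (iv D46440)) (tt N15884 D48654) (tt N15879 (iv F217164)) (tt N15830 (iv F216988)) (tt N13670 F207226) (tt N13670 F207227))
theorem Q13672 : ∀ i, i < 13672 → P i := stepQ 13671 Q13671 (allL N13671 (tt N13671 F207228) (tt N15884 (iv F217183)) (tt N13671 F207229) (tt N15551 (iv F216045)) (tt N13671 F207230) (tt N11498 (iv D46441)) (tt N15885 D48655) (tt N15822 (iv F216949)) (tt N13671 F207231) (tt N13671 F207232))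
theorem Q13673 : ∀ i, i < 13673 → P i := stepQ 13672 Q13672 (allL N13672 (tt N15886 D48656) (tt N11499 (iv D46442)) (tt N13836 (iv F208014)) (tt N11511 F207233) (tt N14175 (iv F209976)) (tt N11503 F207234) (tt N13672 F207235) (tt N13828 (iv F207961)) (tt N13672 F207236) (tt N15887 D48657))
theorem Q13674 : ∀ i, i < 13674 → P i := stepQ 13673 Q13673 (allL N13673 (tt N11529 F207237) (tt N15887 (iv F217199)) (tt N11500 F207238) (tt N11513 F207239) (tt N14176 (iv F209982)) (tt N11504 F207240) (tt N13673 F207241) (tt N13829 (iv F207969)) (tt N15888 D48658) (tt N11499 (iv D46443)))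
theorem Q13675 : ∀ i, i < 13675 → P i := stepQ 13674 Q13674 (allL N13674 (tt N11532 F207242) (tt N13838 (iv F208029)) (tt N15888 (iv F217204)) (tt N13674 F207243) (tt N14177 (iv F209987)) (tt N11505 F207244) (tt N13674 F207245) (tt N13830 (iv F207976)) (tt N11500 (iv D46444)) (tt N13674 F207246))
theorem Q13676 : ∀ i, i < 13676 → P i := stepQ 13675 Q13675 (allL N13675 (tt N15889 D48659) (tt N11501 (iv D46445)) (tt N13833 (iv F207992)) (tt N11516 F207247) (tt N15123 (iv F214473)) (tt N13828 (iv F207959)) (tt N13675 F207248) (tt N11503 F207249) (tt N13675 F207250) (tt N15890 D48660))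
theorem Q13677 : ∀ i, i < 13677 → P i := stepQ 13676 Q13676 (allL N13676 (tt N11535 F207251) (tt N15890 (iv F217214)) (tt N11502 F207252) (tt N11517 F207253) (tt N15124 (iv F214479)) (tt N13829 (iv F207967)) (tt N13676 F207254) (tt N11504 F207255) (tt N15891 D48661) (tt N11501 (iv D46446)))
theorem Q13678 : ∀ i, i < 13678 → P i := stepQ 13677 Q13677 (allL N13677 (tt N11538 F207256) (tt N13835 (iv F208007)) (tt N15891 (iv F217219)) (tt N13677 F207257) (tt N15125 (iv F214485)) (tt N13830 (iv F207974)) (tt N13677 F207258) (tt N11505 F207259) (tt N11502 (iv D46447)) (tt N13677 F207260))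
theorem Q13679 : ∀ i, i < 13679 → P i := stepQ 13678 Q13678 (allL N13678 (tt N11503 (iv D46448)) (tt N11539 F207261) (tt N15093 (iv F214321)) (tt N11519 F207262) (tt N15126 (iv F214491)) (tt N15886 (iv F217195)) (tt N11506 F207263) (tt N15889 (iv F217212)) (tt N13678 F207264) (tt N15892 D48662))
theorem Q13680 : ∀ i, i < 13680 → P i := stepQ 13679 Q13679 (allL N13679 (tt N15892 (iv F217223)) (tt N11504 F207265) (tt N15094 (iv F214327)) (tt N11520 F207266) (tt N15127 (iv F214496)) (tt N15887 (iv F217201)) (tt N11507 F207267) (tt N15890 (iv F217217)) (tt N15893 D48663) (tt N11503 (iv D46449)))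
theorem Q13681 : ∀ i, i < 13681 → P i := stepQ 13680 Q13680 (allL N13680 (tt N11544 F207268) (tt N15893 (iv F217227)) (tt N11505 F207269) (tt N15894 D48664) (tt N15128 (iv F214500)) (tt N15888 (iv F217205)) (tt N11508 F207270) (tt N15891 (iv F217221)) (tt N11504 (iv D46450)) (tt N13680 F207271))
theorem Q13682 : ∀ i, i < 13682 → P i := stepQ 13681 Q13681 (allL N13681 (tt N11507 F207272) (tt N11549 F207273) (tt N15096 (iv F214338)) (tt N11522 F207274) (tt N15129 (iv F214506)) (tt N13681 F207275) (tt N15892 (iv F217226)) (tt N13681 F207276) (tt N15895 D48665) (tt N11506 (iv D46451)))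
theorem Q13683 : ∀ i, i < 13683 → P i := stepQ 13682 Q13682 (allL N13682 (tt N15895 (iv F217235)) (tt N11508 F207277) (tt N15097 (iv F214344)) (tt N15896 D48666) (tt N15130 (iv F214510)) (tt N13682 F207278) (tt N15893 (iv F217228)) (tt N13682 F207279) (tt N11507 (iv D46452)) (tt N13682 F207280))
theorem Q13684 : ∀ i, i < 13684 → P i := stepQ 13683 Q13683 (allL N13683 (tt N11556 F207281) (tt N15896 (iv F217240)) (tt N13683 F207282) (tt N11508 (iv D46453)) (tt N15897 D48667) (tt N13683 F207283) (tt N15894 (iv F217232)) (tt N13683 F207284) (tt N11524 F207285) (tt N13683 F207286))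
theorem Q13685 : ∀ i, i < 13685 → P i := stepQ 13684 Q13684 (allL N13684 (tt N11582 F207287) (tt N11509 (iv D46454)) (tt N13684 F207288) (tt N13828 (iv F207957)) (tt N14949 (iv F213613)) (tt N11516 F207289) (tt N11584 F207290) (tt N11511 F207291) (tt N11577 F207292) (tt N15898 D48668))
theorem Q13686 : ∀ i, i < 13686 → P i := stepQ 13685 Q13685 (allL N13685 (tt N11565 F207293) (tt N15898 (iv F217251)) (tt N11510 F207294) (tt N13829 (iv F207965)) (tt N15772 (iv F216758)) (tt N11517 F207295) (tt N11574 F207296) (tt N11513 F207297) (tt N11572 F207298) (tt N11509 (iv D46455)))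
theorem Q13687 : ∀ i, i < 13687 → P i := stepQ 13686 Q13686 (allL N13686 (tt N11511 (iv D46456)) (tt N11566 F207299) (tt N13686 F207300) (tt N15886 (iv F217194)) (tt N14947 (iv F213601)) (tt N11519 F207301) (tt N13686 F207302) (tt N11582 F207303) (tt N11578 F207304) (tt N15899 D48669))
theorem Q13688 : ∀ i, i < 13688 → P i := stepQ 13687 Q13687 (allL N13687 (tt N14947 (iv F213599)) (tt N11512 F207305) (tt N13687 F207306) (tt N15900 D48670) (tt N11511 (iv D46457)) (tt N15659 (iv F216422)) (tt N13687 F207307) (tt N14949 (iv F213615)) (tt N11579 F207308) (tt N15901 D48671))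
theorem Q13689 : ∀ i, i < 13689 → P i := stepQ 13688 Q13688 (allL N13688 (tt N15899 (iv F217257)) (tt N11513 F207309) (tt N13688 F207310) (tt N15887 (iv F217200)) (tt N15901 (iv F217268)) (tt N11520 F207311) (tt N13688 F207312) (tt N15898 (iv F217255)) (tt N15902 D48672) (tt N11511 (iv D46458)))
theorem Q13690 : ∀ i, i < 13690 → P i := stepQ 13689 Q13689 (allL N13689 (tt N11568 F207313) (tt N15900 (iv F217264)) (tt N14138 (iv F209814)) (tt N11512 (iv D46459)) (tt N14137 F209811) (tt N15661 (iv F216428)) (tt N13689 F207314) (tt N14141 (iv F209829)) (tt N15903 D48673) (tt N15904 D48674))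
theorem Q13691 : ∀ i, i < 13691 → P i := stepQ 13690 Q13690 (allL N13690 (tt N11569 F207315) (tt N15901 (iv F217266)) (tt N11514 F207316) (tt N15904 (iv F217281)) (tt N11513 F207317) (tt N15662 (iv F216432)) (tt N13690 F207318) (tt N15772 (iv F216760)) (tt N15770 (iv F216751)) (tt N11512 (iv D46460)))
theorem Q13692 : ∀ i, i < 13692 → P i := stepQ 13691 Q13691 (allL N13691 (tt N11570 F207319) (tt N15902 (iv F217271)) (tt N11515 F207320) (tt N15905 D48675) (tt N15770 (iv F216748)) (tt N11521 F207321) (tt N13691 F207322) (tt N11572 F207323) (tt N11513 (iv D46461)) (tt N11571 F207324))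
theorem Q13693 : ∀ i, i < 13693 → P i := stepQ 13692 Q13692 (allL N13692 (tt N11516 (iv D46462)) (tt N11571 F207325) (tt N13692 F207326) (tt N15889 (iv F217209)) (tt N15663 (iv F216435)) (tt N11582 F207327) (tt N13692 F207328) (tt N11519 F207329) (tt N11580 F207330) (tt N15902 (iv F217276)))
theorem Q13694 : ∀ i, i < 13694 → P i := stepQ 13693 Q13693 (allL N13693 (tt N15902 (iv F217270)) (tt N11517 F207331) (tt N13693 F207332) (tt N15890 (iv F217215)) (tt N15664 (iv F216441)) (tt N15898 (iv F217253)) (tt N13693 F207333) (tt N11520 F207334) (tt N15899 (iv F217263)) (tt N11516 (iv D46463)))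
theorem Q13695 : ∀ i, i < 13695 → P i := stepQ 13694 Q13694 (allL N13694 (tt N11567 F207335) (tt N15899 (iv F217258)) (tt N11518 F207336) (tt N15906 D48676) (tt N14948 (iv F213607)) (tt N11572 F207337) (tt N13694 F207338) (tt N11521 F207339) (tt N11517 (iv D46464)) (tt N11566 F207340))
theorem Q13696 : ∀ i, i < 13696 → P i := stepQ 13695 Q13695 (allL N13695 (tt N11520 F207341) (tt N11572 F207342) (tt N13695 F207343) (tt N15892 (iv F217225)) (tt N15665 (iv F216447)) (tt N15899 (iv F217260)) (tt N11522 F207344) (tt N15902 (iv F217275)) (tt N15898 (iv F217256)) (tt N11519 (iv D46465)))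
theorem Q13697 : ∀ i, i < 13697 → P i := stepQ 13696 Q13696 (allL N13696 (tt N15898 (iv F217250)) (tt N11521 F207345) (tt N13696 F207346) (tt N15907 D48677) (tt N14950 (iv F213619)) (tt N15902 (iv F217273)) (tt N11523 F207347) (tt N15899 (iv F217262)) (tt N11520 (iv D46466)) (tt N11582 F207348))
theorem Q13698 : ∀ i, i < 13698 → P i := stepQ 13697 Q13697 (allL N13697 (tt N11573 F207349) (tt N15907 (iv F217295)) (tt N13697 F207350) (tt N11521 (iv D46467)) (tt N15908 D48678) (tt N15905 (iv F217285)) (tt N11524 F207351) (tt N15906 (iv F217293)) (tt N15894 (iv F217233)) (tt N11583 F207352))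
theorem Q13699 : ∀ i, i < 13699 → P i := stepQ 13698 Q13698 (allL N13698 (tt N11523 F207353) (tt N11574 F207354) (tt N13698 F207355) (tt N13831 (iv F207981)) (tt N14951 (iv F213625)) (tt N13698 F207356) (tt N15898 (iv F217254)) (tt N13698 F207357) (tt N11522 (iv D46468)) (tt N11584 F207358))
theorem Q13700 : ∀ i, i < 13700 → P i := stepQ 13699 Q13699 (allL N13699 (tt N13831 (iv F207978)) (tt N11524 F207359) (tt N13842 (iv F208053)) (tt N11523 (iv D46469)) (tt N14181 (iv F210005)) (tt N13699 F207360) (tt N15907 (iv F217296)) (tt N13699 F207361) (tt N15896 (iv F217243)) (tt N11585 F207362))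
theorem Q13701 : ∀ i, i < 13701 → P i := stepQ 13700 Q13700 (allL N13700 (tt N11576 F207363) (tt N14181 (iv F210003)) (tt N13700 F207364) (tt N14818 (iv F213023)) (tt N11524 (iv D46470)) (tt N15199 (iv F214832)) (tt N15908 (iv F217300)) (tt N13700 F207365) (tt N15897 (iv F217248)) (tt N11586 F207366))
theorem Q13702 : ∀ i, i < 13702 → P i := stepQ 13701 Q13701 (allL N13701 (tt N13829 (iv F207963)) (tt N11573 F207367) (tt N11526 F207368) (tt N11565 F207369) (tt N14111 (iv F209688)) (tt N11535 F207370) (tt N11575 F207371) (tt N11529 F207372) (tt N15909 D48679) (tt N11525 (iv D46471)))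
theorem Q13703 : ∀ i, i < 13703 → P i := stepQ 13702 Q13702 (allL N13702 (tt N13830 (iv F207970)) (tt N13702 F207373) (tt N15909 (iv F217303)) (tt N13702 F207374) (tt N14112 (iv F209694)) (tt N11538 F207375) (tt N13817 (iv F207891)) (tt N11532 F207376) (tt N11526 (iv D46472)) (tt N13702 F207377))
theorem Q13704 : ∀ i, i < 13704 → P i := stepQ 13703 Q13703 (allL N13703 (tt N11527 (iv D46473)) (tt N15886 (iv F217193)) (tt N13703 F207378) (tt N11566 F207379) (tt N15910 D48680) (tt N11539 F207380) (tt N13703 F207381) (tt N11583 F207382) (tt N13703 F207383) (tt N15906 (iv F217294)))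
theorem Q13705 : ∀ i, i < 13705 → P i := stepQ 13704 Q13704 (allL N13704 (tt N15910 (iv F217309)) (tt N11528 F207384) (tt N13704 F207385) (tt N15808 (iv F216885)) (tt N11527 (iv D46474)) (tt N15911 D48681) (tt N13704 F207386) (tt N11588 F207387) (tt N13704 F207388) (tt N15912 D48682))
theorem Q13706 : ∀ i, i < 13706 → P i := stepQ 13705 Q13705 (allL N13705 (tt N15906 (iv F217289)) (tt N11529 F207389) (tt N13705 F207390) (tt N11567 F207391) (tt N15912 (iv F217321)) (tt N11541 F207392) (tt N13705 F207393) (tt N11573 F207394) (tt N15913 D48683) (tt N11527 (iv D46475)))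
theorem Q13707 : ∀ i, i < 13707 → P i := stepQ 13706 Q13706 (allL N13706 (tt N14137 (iv F209807)) (tt N15808 (iv F216884)) (tt N14089 (iv F209562)) (tt N11528 (iv D46476)) (tt N11568 F207395) (tt N15914 D48684) (tt N13706 F207396) (tt N14091 (iv F209575)) (tt N15915 D48685) (tt N15916 D48686))
theorem Q13708 : ∀ i, i < 13708 → P i := stepQ 13707 Q13707 (allL N13707 (tt N14168 (iv F209940)) (tt N15911 (iv F217314)) (tt N11530 F207397) (tt N15914 (iv F217331)) (tt N11542 F207398) (tt N11528 (iv D46477)) (tt N15917 D48687) (tt N14109 (iv F209675)) (tt N13707 F207399) (tt N15918 D48688))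
theorem Q13709 : ∀ i, i < 13709 → P i := stepQ 13708 Q13708 (allL N13708 (tt N14176 (iv F209980)) (tt N15912 (iv F217319)) (tt N11531 F207400) (tt N15916 (iv F217335)) (tt N11529 F207401) (tt N15918 (iv F217344)) (tt N13708 F207402) (tt N14111 (iv F209690)) (tt N15919 D48689) (tt N11528 (iv D46478)))
theorem Q13710 : ∀ i, i < 13710 → P i := stepQ 13709 Q13709 (allL N13709 (tt N15888 (iv F217203)) (tt N15913 (iv F217324)) (tt N11532 F207403) (tt N15920 D48690) (tt N15919 (iv F217346)) (tt N11544 F207404) (tt N13709 F207405) (tt N15909 (iv F217307)) (tt N11529 (iv D46479)) (tt N13709 F207406))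
theorem Q13711 : ∀ i, i < 13711 → P i := stepQ 13710 Q13710 (allL N13710 (tt N14031 (iv F209221)) (tt N13710 F207407) (tt N15917 (iv F217338)) (tt N14107 F209663) (tt N11545 F207408) (tt N13710 F207409) (tt N11530 (iv D46480)) (tt N15183 (iv F214751)) (tt N13710 F207410) (tt N15921 D48691))
theorem Q13712 : ∀ i, i < 13712 → P i := stepQ 13711 Q13711 (allL N13711 (tt N14169 (iv F209945)) (tt N13711 F207411) (tt N15918 (iv F217342)) (tt N14108 (iv F209666)) (tt N11546 F207412) (tt N11531 F207413) (tt N15921 (iv F217359)) (tt N14110 (iv F209684)) (tt N15922 D48692) (tt N11530 (iv D46481)))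
theorem Q13713 : ∀ i, i < 13713 → P i := stepQ 13712 Q13712 (allL N13712 (tt N14177 (iv F209985)) (tt N13712 F207414) (tt N15919 (iv F217345)) (tt N15923 D48693) (tt N11532 F207415) (tt N15922 (iv F217362)) (tt N13712 F207416) (tt N14112 (iv F209696)) (tt N11531 (iv D46482)) (tt N13712 F207417))
theorem Q13714 : ∀ i, i < 13714 → P i := stepQ 13713 Q13713 (allL N13713 (tt N11533 (iv D46483)) (tt N15889 (iv F217208)) (tt N13713 F207418) (tt N11571 F207419) (tt N15924 D48694) (tt N11583 F207420) (tt N13713 F207421) (tt N11539 F207422) (tt N13713 F207423) (tt N15905 (iv F217288)))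
theorem Q13715 : ∀ i, i < 13715 → P i := stepQ 13714 Q13714 (allL N13714 (tt N15924 (iv F217370)) (tt N11534 F207424) (tt N13714 F207425) (tt N15724 (iv F216608)) (tt N11533 (iv D46484)) (tt N15925 D48695) (tt N13714 F207426) (tt N11540 F207427) (tt N13714 F207428) (tt N15926 D48696))
theorem Q13716 : ∀ i, i < 13716 → P i := stepQ 13715 Q13715 (allL N13715 (tt N15905 (iv F217283)) (tt N11535 F207429) (tt N13715 F207430) (tt N11570 F207431) (tt N15926 (iv F217382)) (tt N11573 F207432) (tt N13715 F207433) (tt N11541 F207434) (tt N15920 (iv F217354)) (tt N11533 (iv D46485)))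
theorem Q13717 : ∀ i, i < 13717 → P i := stepQ 13716 Q13716 (allL N13716 (tt N14171 (iv F209955)) (tt N15925 (iv F217375)) (tt N11536 F207435) (tt N15726 (iv F216616)) (tt N14109 (iv F209672)) (tt N11534 (iv D46486)) (tt N15189 (iv F214781)) (tt N11542 F207436) (tt N13716 F207437) (tt N15927 D48697))
theorem Q13718 : ∀ i, i < 13718 → P i := stepQ 13717 Q13717 (allL N13717 (tt N15124 (iv F214477)) (tt N15926 (iv F217380)) (tt N11537 F207438) (tt N15727 (iv F216619)) (tt N11535 F207439) (tt N15927 (iv F217386)) (tt N13717 F207440) (tt N11543 F207441) (tt N15928 D48698) (tt N11534 (iv D46487)))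
theorem Q13719 : ∀ i, i < 13719 → P i := stepQ 13718 Q13718 (allL N13718 (tt N15891 (iv F217218)) (tt N15920 (iv F217349)) (tt N11538 F207442) (tt N15913 (iv F217326)) (tt N15928 (iv F217389)) (tt N15909 (iv F217305)) (tt N13718 F207443) (tt N11544 F207444) (tt N11535 (iv D46488)) (tt N13718 F207445))
theorem Q13720 : ∀ i, i < 13720 → P i := stepQ 13719 Q13719 (allL N13719 (tt N14173 (iv F209964)) (tt N13719 F207446) (tt N15927 (iv F217385)) (tt N11561 F207447) (tt N14110 (iv F209681)) (tt N11537 F207448) (tt N15191 (iv F214791)) (tt N11546 F207449) (tt N15929 D48699) (tt N11536 (iv D46489)))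
theorem Q13721 : ∀ i, i < 13721 → P i := stepQ 13720 Q13720 (allL N13720 (tt N15125 (iv F214482)) (tt N13720 F207450) (tt N15928 (iv F217388)) (tt N15195 (iv F214809)) (tt N11538 F207451) (tt N15929 (iv F217394)) (tt N13720 F207452) (tt N11547 F207453) (tt N11537 (iv D46490)) (tt N13720 F207454))
theorem Q13722 : ∀ i, i < 13722 → P i := stepQ 13721 Q13721 (allL N13721 (tt N11540 F207455) (tt N15126 (iv F214489)) (tt N13721 F207456) (tt N15732 (iv F216635)) (tt N11539 (iv D46491)) (tt N15930 D48700) (tt N11548 F207457) (tt N15924 (iv F217373)) (tt N13721 F207458) (tt N15931 D48701))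
theorem Q13723 : ∀ i, i < 13723 → P i := stepQ 13722 Q13722 (allL N13722 (tt N11541 F207459) (tt N15892 (iv F217224)) (tt N13722 F207460) (tt N11572 F207461) (tt N15931 (iv F217402)) (tt N15906 (iv F217291)) (tt N11549 F207462) (tt N15905 (iv F217287)) (tt N15932 D48702) (tt N11539 (iv D46492)))
theorem Q13724 : ∀ i, i < 13724 → P i := stepQ 13723 Q13723 (allL N13723 (tt N15930 (iv F217397)) (tt N11542 F207463) (tt N13723 F207464) (tt N15734 (iv F216641)) (tt N15911 (iv F217316)) (tt N11540 (iv D46493)) (tt N15933 D48703) (tt N15925 (iv F217378)) (tt N13723 F207465) (tt N15934 D48704))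
theorem Q13725 : ∀ i, i < 13725 → P i := stepQ 13724 Q13724 (allL N13724 (tt N15931 (iv F217400)) (tt N11543 F207466) (tt N13724 F207467) (tt N15735 (iv F216643)) (tt N11541 F207468) (tt N15934 (iv F217414)) (tt N11551 F207469) (tt N15926 (iv F217384)) (tt N15935 D48705) (tt N11540 (iv D46494)))
theorem Q13726 : ∀ i, i < 13726 → P i := stepQ 13725 Q13725 (allL N13725 (tt N15932 (iv F217404)) (tt N11544 F207470) (tt N13725 F207471) (tt N15909 (iv F217304)) (tt N15935 (iv F217417)) (tt N15913 (iv F217327)) (tt N11552 F207472) (tt N15920 (iv F217353)) (tt N11541 (iv D46495)) (tt N13725 F207473))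
theorem Q13727 : ∀ i, i < 13727 → P i := stepQ 13726 Q13726 (allL N13726 (tt N14030 (iv F209217)) (tt N15933 (iv F217408)) (tt N11545 F207474) (tt N15737 (iv F216649)) (tt N15917 (iv F217339)) (tt N11553 F207475) (tt N11542 (iv D46496)) (tt N15936 D48706) (tt N13726 F207476) (tt N15937 D48707))
theorem Q13728 : ∀ i, i < 13728 → P i := stepQ 13727 Q13727 (allL N13727 (tt N15121 (iv F214464)) (tt N15934 (iv F217412)) (tt N11546 F207477) (tt N15738 (iv F216652)) (tt N15918 (iv F217343)) (tt N11543 F207478) (tt N15937 (iv F217425)) (tt N15927 (iv F217387)) (tt N15938 D48708) (tt N11542 (iv D46497)))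
theorem Q13729 : ∀ i, i < 13729 → P i := stepQ 13728 Q13728 (allL N13728 (tt N15128 (iv F214498)) (tt N15935 (iv F217415)) (tt N11547 F207479) (tt N15939 D48709) (tt N11544 F207480) (tt N15938 (iv F217427)) (tt N11555 F207481) (tt N15928 (iv F217391)) (tt N11543 (iv D46498)) (tt N13728 F207482))
theorem Q13730 : ∀ i, i < 13730 → P i := stepQ 13729 Q13729 (allL N13729 (tt N15894 (iv F217230)) (tt N15909 (iv F217302)) (tt N13729 F207483) (tt N11544 (iv D46499)) (tt N15940 D48710) (tt N15920 (iv F217351)) (tt N11556 F207484) (tt N15913 (iv F217329)) (tt N11573 F207485) (tt N13729 F207486))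
theorem Q13731 : ∀ i, i < 13731 → P i := stepQ 13730 Q13730 (allL N13730 (tt N14028 (iv F209205)) (tt N13730 F207487) (tt N15936 (iv F217420)) (tt N11562 F207488) (tt N15183 (iv F214748)) (tt N11557 F207489) (tt N15186 (iv F214766)) (tt N11545 (iv D46500)) (tt N13730 F207490) (tt N15941 D48711))
theorem Q13732 : ∀ i, i < 13732 → P i := stepQ 13731 Q13731 (allL N13731 (tt N14032 (iv F209228)) (tt N13731 F207491) (tt N15937 (iv F217423)) (tt N11563 F207492) (tt N15921 (iv F217357)) (tt N11558 F207493) (tt N11546 F207494) (tt N15941 (iv F217438)) (tt N15942 D48712) (tt N11545 (iv D46501)))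
theorem Q13733 : ∀ i, i < 13733 → P i := stepQ 13732 Q13732 (allL N13732 (tt N15122 (iv F214467)) (tt N13732 F207495) (tt N15938 (iv F217426)) (tt N15192 (iv F214794)) (tt N15922 (iv F217361)) (tt N11547 F207496) (tt N15942 (iv F217441)) (tt N15929 (iv F217395)) (tt N11546 (iv D46502)) (tt N13732 F207497))
theorem Q13734 : ∀ i, i < 13734 → P i := stepQ 13733 Q13733 (allL N13733 (tt N11550 F207498) (tt N14038 (iv F209261)) (tt N13733 F207499) (tt N15218 (iv F214915)) (tt N13733 F207500) (tt N11548 (iv D46503)) (tt N15943 D48713) (tt N13733 F207501) (tt N13733 F207502) (tt N15944 D48714))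
theorem Q13735 : ∀ i, i < 13735 → P i := stepQ 13734 Q13734 (allL N13734 (tt N11551 F207503) (tt N15129 (iv F214504)) (tt N13734 F207504) (tt N15744 (iv F216666)) (tt N11549 F207505) (tt N15944 (iv F217452)) (tt N15931 (iv F217403)) (tt N13734 F207506) (tt N15945 D48715) (tt N11548 (iv D46504)))
theorem Q13736 : ∀ i, i < 13736 → P i := stepQ 13735 Q13735 (allL N13735 (tt N11552 F207507) (tt N15895 (iv F217236)) (tt N13735 F207508) (tt N13832 (iv F207987)) (tt N15945 (iv F217456)) (tt N13735 F207509) (tt N15932 (iv F217406)) (tt N13735 F207510) (tt N11549 (iv D46505)) (tt N13735 F207511))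
theorem Q13737 : ∀ i, i < 13737 → P i := stepQ 13736 Q13736 (allL N13736 (tt N15943 (iv F217443)) (tt N11553 F207512) (tt N13736 F207513) (tt N15746 (iv F216672)) (tt N13736 F207514) (tt N15933 (iv F217410)) (tt N11550 (iv D46506)) (tt N15946 D48716) (tt N13736 F207515) (tt N15947 D48717))
theorem Q13738 : ∀ i, i < 13738 → P i := stepQ 13737 Q13737 (allL N13737 (tt N15944 (iv F217449)) (tt N11554 F207516) (tt N13737 F207517) (tt N15747 (iv F216674)) (tt N13737 F207518) (tt N11551 F207519) (tt N15947 (iv F217468)) (tt N13737 F207520) (tt N15948 D48718) (tt N11550 (iv D46507)))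
theorem Q13739 : ∀ i, i < 13739 → P i := stepQ 13738 Q13738 (allL N13738 (tt N15945 (iv F217454)) (tt N11555 F207521) (tt N13738 F207522) (tt N15949 D48719) (tt N11552 F207523) (tt N15948 (iv F217472)) (tt N15935 (iv F217418)) (tt N13738 F207524) (tt N11551 (iv D46508)) (tt N13738 F207525))
theorem Q13740 : ∀ i, i < 13740 → P i := stepQ 13739 Q13739 (allL N13739 (tt N13832 (iv F207985)) (tt N11556 F207526) (tt N13817 (iv F207887)) (tt N11552 (iv D46509)) (tt N14113 (iv F209701)) (tt N13739 F207527) (tt N15909 (iv F217306)) (tt N13739 F207528) (tt N11575 F207529) (tt N13739 F207530))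
theorem Q13741 : ∀ i, i < 13741 → P i := stepQ 13740 Q13740 (allL N13740 (tt N14033 (iv F209233)) (tt N15946 (iv F217460)) (tt N11557 F207531) (tt N15750 (iv F216684)) (tt N13740 F207532) (tt N15936 (iv F217421)) (tt N13740 F207533) (tt N11553 (iv D46510)) (tt N13740 F207534) (tt N15950 D48720))
theorem Q13742 : ∀ i, i < 13742 → P i := stepQ 13741 Q13741 (allL N13741 (tt N14036 (iv F209251)) (tt N15947 (iv F217465)) (tt N11558 F207535) (tt N15751 (iv F216687)) (tt N13741 F207536) (tt N15937 (iv F217424)) (tt N11554 F207537) (tt N15950 (iv F217481)) (tt N15951 D48721) (tt N11553 (iv D46511)))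
theorem Q13743 : ∀ i, i < 13743 → P i := stepQ 13742 Q13742 (allL N13742 (tt N14040 (iv F209274)) (tt N15948 (iv F217469)) (tt N11559 F207538) (tt N15952 D48722) (tt N13742 F207539) (tt N11555 F207540) (tt N15951 (iv F217484)) (tt N13742 F207541) (tt N11554 (iv D46512)) (tt N13742 F207542))
theorem Q13744 : ∀ i, i < 13744 → P i := stepQ 13743 Q13743 (allL N13743 (tt N15131 (iv F214513)) (tt N15949 (iv F217475)) (tt N15201 (iv F214841)) (tt N11555 (iv D46513)) (tt N15953 D48723) (tt N15952 (iv F217486)) (tt N15939 (iv F217429)) (tt N13743 F207543) (tt N15753 (iv F216693)) (tt N13743 F207544))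
theorem Q13745 : ∀ i, i < 13745 → P i := stepQ 13744 Q13744 (allL N13744 (tt N15897 (iv F217245)) (tt N14113 (iv F209699)) (tt N13744 F207545) (tt N15953 (iv F217489)) (tt N11556 (iv D46514)) (tt N15200 (iv F214837)) (tt N15940 (iv F217432)) (tt N13744 F207546) (tt N11576 F207547) (tt N13744 F207548))
theorem Q13746 : ∀ i, i < 13746 → P i := stepQ 13745 Q13745 (allL N13745 (tt N14034 (iv F209239)) (tt N13745 F207549) (tt N15950 (iv F217478)) (tt N11564 F207550) (tt N13745 F207551) (tt N15941 (iv F217437)) (tt N13745 F207552) (tt N11558 F207553) (tt N15923 (iv F217368)) (tt N11557 (iv D46515)))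
theorem Q13747 : ∀ i, i < 13747 → P i := stepQ 13746 Q13746 (allL N13746 (tt N14037 (iv F209255)) (tt N13746 F207554) (tt N15951 (iv F217482)) (tt N14112 (iv F209693)) (tt N13746 F207555) (tt N15942 (iv F217440)) (tt N11559 F207556) (tt N15923 (iv F217367)) (tt N11558 (iv D46516)) (tt N13746 F207557))
theorem Q13748 : ∀ i, i < 13748 → P i := stepQ 13747 Q13747 (allL N13747 (tt N14027 (iv F209198)) (tt N13747 F207558) (tt N15757 (iv F216700)) (tt N15186 (iv F214764)) (tt N15033 F214072) (tt N13747 F207559) (tt N11562 F207560) (tt N11560 (iv D46517)) (tt N11677 F207561) (tt N15954 D48724))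
theorem Q13749 : ∀ i, i < 13749 → P i := stepQ 13748 Q13748 (allL N13748 (tt N15077 (iv F214244)) (tt N13748 F207562) (tt N15758 (iv F216704)) (tt N15191 (iv F214788)) (tt N15035 (iv F214082)) (tt N13748 F207563) (tt N11561 F207564) (tt N15954 (iv F217495)) (tt N15184 (iv F214757)) (tt N11560 (iv D46518)))
theorem Q13750 : ∀ i, i < 13750 → P i := stepQ 13749 Q13749 (allL N13749 (tt N14029 (iv F209212)) (tt N13749 F207565) (tt N15759 (iv F216707)) (tt N15941 (iv F217436)) (tt N15842 (iv F217030)) (tt N11564 F207566) (tt N15954 (iv F217494)) (tt N11563 F207567) (tt N14108 (iv F209670)) (tt N11562 (iv D46519)))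
theorem Q13751 : ∀ i, i < 13751 → P i := stepQ 13750 Q13750 (allL N13750 (tt N15903 (iv F217277)) (tt N14765 F212795) (tt N15856 (iv F217072)) (tt N11587 F207568) (tt N15915 (iv F217333)) (tt N15767 (iv F216741)) (tt N13750 F207569) (tt N14768 (iv F212806)) (tt N11568 (iv D46520)) (tt N15955 D48725))
theorem Q13752 : ∀ i, i < 13752 → P i := stepQ 13751 Q13751 (allL N13751 (tt N15904 (iv F217280)) (tt N15771 (iv F216752)) (tt N15857 (iv F217075)) (tt N11569 F207570) (tt N15916 (iv F217336)) (tt N15768 (iv F216743)) (tt N13751 F207571) (tt N15773 (iv F216764)) (tt N15956 D48726) (tt N11568 (iv D46521)))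
theorem Q13753 : ∀ i, i < 13753 → P i := stepQ 13752 Q13752 (allL N13752 (tt N15908 (iv F217298)) (tt N14111 (iv F209686)) (tt N13752 F207572) (tt N15774 (iv F216766)) (tt N11573 (iv D46522)) (tt N15957 D48727) (tt N11576 F207573) (tt N15912 (iv F217323)) (tt N15940 (iv F217433)) (tt N11588 F207574))
theorem Q13754 : ∀ i, i < 13754 → P i := stepQ 13753 Q13753 (allL N13753 (tt N11587 F207575) (tt N14888 (iv F213264)) (tt N13753 F207576) (tt N15903 (iv F217278)) (tt N13753 F207577) (tt N15782 (iv F216800)) (tt N13753 F207578) (tt N14794 (iv F212927)) (tt N11581 (iv D46523)) (tt N15958 D48728))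
theorem Q13755 : ∀ i, i < 13755 → P i := stepQ 13754 Q13754 (allL N13754 (tt N13828 (iv F207955)) (tt N11583 F207579) (tt N13839 (iv F208037)) (tt N11582 (iv D46524)) (tt N14178 (iv F209993)) (tt N15889 (iv F217210)) (tt N11585 F207580) (tt N15886 (iv F217197)) (tt N13754 F207581) (tt N15907 (iv F217297)))
theorem Q13756 : ∀ i, i < 13756 → P i := stepQ 13755 Q13755 (allL N13755 (tt N11588 F207582) (tt N14178 (iv F209991)) (tt N13755 F207583) (tt N14811 (iv F212996)) (tt N11583 (iv D46525)) (tt N15959 D48729) (tt N11586 F207584) (tt N15910 (iv F217312)) (tt N13755 F207585) (tt N15908 (iv F217301)))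
theorem Q13757 : ∀ i, i < 13757 → P i := stepQ 13756 Q13756 (allL N13756 (tt N15958 (iv F217501)) (tt N14793 (iv F212917)) (tt N13756 F207586) (tt N15955 (iv F217496)) (tt N13756 F207587) (tt N15806 (iv F216883)) (tt N13756 F207588) (tt N14795 (iv F212933)) (tt N15803 (iv F216874)) (tt N11587 (iv D46526)))
theorem Q13758 : ∀ i, i < 13758 → P i := stepQ 13757 Q13757 (allL N13757 (tt N15959 (iv F217505)) (tt N14109 F209677) (tt N13757 F207589) (tt N15809 (iv F216888)) (tt N15925 (iv F217377)) (tt N11588 (iv D46527)) (tt N15188 (iv F214776)) (tt N15911 (iv F217317)) (tt N13757 F207590) (tt N15957 (iv F217500)))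
theorem Q13759 : ∀ i, i < 13759 → P i := stepQ 13758 Q13758 (allL N13758 (tt N14387 (iv F211114)) (tt N11623 F207591) (tt N13758 F207592) (tt N14319 (iv F210749)) (tt N11594 F207593) (tt N14543 (iv F211772)) (tt N14311 (iv F210721)) (tt N11593 (iv D46528)) (tt N15068 (iv F214209)) (tt N13935 (iv F208679)))
theorem Q13760 : ∀ i, i < 13760 → P i := stepQ 13759 Q13759 (allL N13759 (tt N11605 F207594) (tt N11628 F207595) (tt N13759 F207596) (tt N11634 F207597) (tt N15156 (iv F214638)) (tt N11597 F207598) (tt N13759 F207599) (tt N11601 F207600) (tt N11604 F207601) (tt N11595 (iv D46529)))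
theorem Q13761 : ∀ i, i < 13761 → P i := stepQ 13760 Q13760 (allL N13760 (tt N11604 F207602) (tt N11629 F207603) (tt N13760 F207604) (tt N11635 F207605) (tt N15104 (iv F214385)) (tt N11601 F207606) (tt N13760 F207607) (tt N11597 F207608) (tt N11605 F207609) (tt N11596 (iv D46530)))
theorem Q13762 : ∀ i, i < 13762 → P i := stepQ 13761 Q13761 (allL N13761 (tt N11631 F207610) (tt N11601 F207611) (tt N11652 F207612) (tt N11626 F207613) (tt N15145 (iv F214581)) (tt N11629 F207614) (tt N11599 F207615) (tt N11628 F207616) (tt N11607 F207617) (tt N11598 (iv D46531)))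
theorem Q13763 : ∀ i, i < 13763 → P i := stepQ 13762 Q13762 (allL N13762 (tt N11607 F207618) (tt N11626 F207619) (tt N11662 F207620) (tt N11601 F207621) (tt N14722 (iv F212577)) (tt N11635 F207622) (tt N11602 F207623) (tt N11634 F207624) (tt N11631 F207625) (tt N11600 (iv D46532)))
theorem Q13764 : ∀ i, i < 13764 → P i := stepQ 13763 Q13763 (allL N13763 (tt N15104 (iv F214382)) (tt N11637 F207626) (tt N13763 F207627) (tt N15684 (iv F216501)) (tt N11604 F207628) (tt N15203 (iv F214851)) (tt N13763 F207629) (tt N11639 F207630) (tt N15156 (iv F214641)) (tt N11603 (iv D46533)))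
theorem Q13765 : ∀ i, i < 13765 → P i := stepQ 13764 Q13764 (allL N13764 (tt N14722 (iv F212574)) (tt N11639 F207631) (tt N11664 F207632) (tt N15216 (iv F214902)) (tt N11607 F207633) (tt N15666 (iv F216452)) (tt N11609 F207634) (tt N11637 F207635) (tt N15145 (iv F214584)) (tt N11606 (iv D46534)))
theorem Q13766 : ∀ i, i < 13766 → P i := stepQ 13765 Q13765 (allL N13765 (tt N14641 (iv F212191)) (tt N11645 F207636) (tt N13765 F207637) (tt N14797 (iv F212945)) (tt N14543 (iv F211771)) (tt N11611 F207638) (tt N14541 (iv F211762)) (tt N11610 (iv D46535)) (tt N15264 (iv F215075)) (tt N14061 (iv F209410)))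
theorem Q13767 : ∀ i, i < 13767 → P i := stepQ 13766 Q13766 (allL N13766 (tt N13898 (iv F208449)) (tt N15337 (iv F215372)) (tt N13919 F208572) (tt N15469 (iv F215797)) (tt N13766 F207639) (tt N15044 (iv F214127)) (tt N11619 (iv D46536)) (tt N13921 (iv F208584)) (tt N11621 F207640) (tt N15081 (iv F214264)))
theorem Q13768 : ∀ i, i < 13768 → P i := stepQ 13767 Q13767 (allL N13767 (tt N13897 (iv F208441)) (tt N14319 (iv F210747)) (tt N13850 (iv F208116)) (tt N11623 F207641) (tt N13767 F207642) (tt N13968 (iv F208882)) (tt N13851 (iv F208128)) (tt N11621 (iv D46537)) (tt N13921 (iv F208585)) (tt N13945 (iv F208748)))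
theorem Q13769 : ∀ i, i < 13769 → P i := stepQ 13768 Q13768 (allL N13768 (tt N13901 (iv F208465)) (tt N14543 (iv F211768)) (tt N11676 F207643) (tt N13968 (iv F208880)) (tt N11645 F207644) (tt N11623 F207645) (tt N13961 (iv F208846)) (tt N11622 (iv D46538)) (tt N15506 (iv F215877)) (tt N13946 (iv F208753)))
theorem Q13770 : ∀ i, i < 13770 → P i := stepQ 13769 Q13769 (allL N13769 (tt N11628 F207646) (tt N11635 F207647) (tt N11647 F207648) (tt N11629 F207649) (tt N15625 (iv F216303)) (tt N11626 F207650) (tt N13769 F207651) (tt N11631 F207652) (tt N11634 F207653) (tt N11624 (iv D46539)))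
theorem Q13771 : ∀ i, i < 13771 → P i := stepQ 13770 Q13770 (allL N13770 (tt N11629 F207654) (tt N11634 F207655) (tt N11648 F207656) (tt N11628 F207657) (tt N14721 (iv F212570)) (tt N11631 F207658) (tt N13770 F207659) (tt N11626 F207660) (tt N11635 F207661) (tt N11625 (iv D46540)))
theorem Q13772 : ∀ i, i < 13772 → P i := stepQ 13771 Q13771 (allL N13771 (tt N15567 (iv F216096)) (tt N15155 (iv F214630)) (tt N14686 (iv F212408)) (tt N11627 (iv D46541)) (tt N14685 F212407) (tt N15560 (iv F216078)) (tt N13771 F207662) (tt N14689 (iv F212426)) (tt N15149 (iv F214604)) (tt N15960 D48730))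
theorem Q13773 : ∀ i, i < 13773 → P i := stepQ 13772 Q13772 (allL N13772 (tt N15625 (iv F216300)) (tt N15156 (iv F214636)) (tt N11651 F207663) (tt N15960 (iv F217508)) (tt N11628 F207664) (tt N15561 (iv F216081)) (tt N13772 F207665) (tt N15145 (iv F214583)) (tt N11637 F207666) (tt N11627 (iv D46542)))
theorem Q13774 : ∀ i, i < 13774 → P i := stepQ 13773 Q13773 (allL N13773 (tt N11652 F207667) (tt N11657 F207668) (tt N11631 F207669) (tt N11655 F207670) (tt N14728 (iv F212622)) (tt N11648 F207671) (tt N11632 F207672) (tt N11647 F207673) (tt N11662 F207674) (tt N11630 (iv D46543)))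
theorem Q13775 : ∀ i, i < 13775 → P i := stepQ 13774 Q13774 (allL N13774 (tt N11636 F207675) (tt N14685 F212406) (tt N15961 D48731) (tt N11633 (iv D46544)) (tt N15155 (iv F214631)) (tt N15626 (iv F216308)) (tt N13774 F207676) (tt N14688 (iv F212418)) (tt N15168 (iv F214685)) (tt N15962 D48732))
theorem Q13776 : ∀ i, i < 13776 → P i := stepQ 13775 Q13775 (allL N13775 (tt N11637 F207677) (tt N14721 (iv F212568)) (tt N11661 F207678) (tt N15962 (iv F217514)) (tt N11634 F207679) (tt N15627 (iv F216312)) (tt N13775 F207680) (tt N14722 (iv F212579)) (tt N15625 (iv F216306)) (tt N11633 (iv D46545)))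
theorem Q13777 : ∀ i, i < 13777 → P i := stepQ 13776 Q13776 (allL N13776 (tt N15961 (iv F217510)) (tt N15963 D48733) (tt N11636 (iv D46546)) (tt N11665 F207681) (tt N15210 (iv F214876)) (tt N15667 (iv F216455)) (tt N13776 F207682) (tt N15213 (iv F214891)) (tt N15237 (iv F214976)) (tt N15964 D48734))
theorem Q13778 : ∀ i, i < 13778 → P i := stepQ 13777 Q13777 (allL N13777 (tt N15962 (iv F217513)) (tt N15684 (iv F216500)) (tt N15964 (iv F217518)) (tt N11637 F207683) (tt N15211 (iv F214882)) (tt N15669 (iv F216458)) (tt N13777 F207684) (tt N15216 (iv F214905)) (tt N15965 D48735) (tt N11636 (iv D46547)))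
theorem Q13779 : ∀ i, i < 13779 → P i := stepQ 13778 Q13778 (allL N13778 (tt N14000 (iv F209050)) (tt N15608 (iv F216226)) (tt N13778 F207685) (tt N15692 (iv F216528)) (tt N15204 (iv F214855)) (tt N11640 F207686) (tt N11638 (iv D46548)) (tt N15966 D48736) (tt N11642 F207687) (tt N15967 D48737))
theorem Q13780 : ∀ i, i < 13780 → P i := stepQ 13779 Q13779 (allL N13779 (tt N15102 (iv F214371)) (tt N15666 (iv F216449)) (tt N13779 F207688) (tt N15693 (iv F216531)) (tt N15206 (iv F214864)) (tt N11639 F207689) (tt N15967 (iv F217527)) (tt N15203 (iv F214852)) (tt N15154 (iv F214628)) (tt N11638 (iv D46549)))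
theorem Q13781 : ∀ i, i < 13781 → P i := stepQ 13780 Q13780 (allL N13780 (tt N14001 (iv F209055)) (tt N15613 (iv F216245)) (tt N13780 F207690) (tt N15701 (iv F216557)) (tt N13780 F207691) (tt N15966 (iv F217523)) (tt N13780 F207692) (tt N11640 (iv D46550)) (tt N11643 F207693) (tt N15968 D48738))
theorem Q13782 : ∀ i, i < 13782 → P i := stepQ 13781 Q13781 (allL N13781 (tt N14003 (iv F209065)) (tt N15615 (iv F216257)) (tt N13781 F207694) (tt N15702 (iv F216560)) (tt N13781 F207695) (tt N15967 (iv F217526)) (tt N11641 F207696) (tt N15968 (iv F217531)) (tt N14081 (iv F209524)) (tt N11640 (iv D46551)))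
theorem Q13783 : ∀ i, i < 13783 → P i := stepQ 13782 Q13782 (allL N13782 (tt N13999 (iv F209044)) (tt N14797 (iv F212943)) (tt N13782 F207697) (tt N11645 F207698) (tt N14116 (iv F209719)) (tt N11643 F207699) (tt N14114 (iv F209710)) (tt N11642 (iv D46552)) (tt N15966 (iv F217524)) (tt N14077 (iv F209507)))
theorem Q13784 : ∀ i, i < 13784 → P i := stepQ 13783 Q13783 (allL N13783 (tt N14007 (iv F209090)) (tt N14541 (iv F211757)) (tt N11677 F207700) (tt N14114 (iv F209707)) (tt N13961 (iv F208844)) (tt N13783 F207701) (tt N11645 F207702) (tt N11644 (iv D46553)) (tt N15757 (iv F216703)) (tt N14085 (iv F209547)))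
theorem Q13785 : ∀ i, i < 13785 → P i := stepQ 13784 Q13784 (allL N13784 (tt N11650 F207703) (tt N14374 (iv F211044)) (tt N14659 (iv F212288)) (tt N11646 (iv D46554)) (tt N14364 (iv F210984)) (tt N14458 (iv F211390)) (tt N13784 F207704) (tt N14625 (iv F212097)) (tt N13784 F207705) (tt N15969 D48739))
theorem Q13786 : ∀ i, i < 13786 → P i := stepQ 13785 Q13785 (allL N13785 (tt N11651 F207706) (tt N14640 (iv F212184)) (tt N15625 (iv F216302)) (tt N15969 (iv F217533)) (tt N11647 F207707) (tt N14720 (iv F212564)) (tt N13785 F207708) (tt N14728 (iv F212624)) (tt N11661 F207709) (tt N11646 (iv D46555)))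
theorem Q13787 : ∀ i, i < 13787 → P i := stepQ 13786 Q13786 (allL N13786 (tt N14728 (iv F212619)) (tt N13786 F207710) (tt N15145 (iv F214580)) (tt N14632 (iv F212138)) (tt N11652 F207711) (tt N15776 (iv F216776)) (tt N14629 (iv F212122)) (tt N11651 F207712) (tt N11664 F207713) (tt N11649 (iv D46556)))
theorem Q13788 : ∀ i, i < 13788 → P i := stepQ 13787 Q13787 (allL N13787 (tt N15969 (iv F217532)) (tt N13787 F207714) (tt N14701 (iv F212469)) (tt N11651 F207715) (tt N14630 (iv F212128)) (tt N15777 (iv F216781)) (tt N13787 F207716) (tt N14632 (iv F212141)) (tt N15970 D48740) (tt N11650 (iv D46557)))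
theorem Q13789 : ∀ i, i < 13789 → P i := stepQ 13788 Q13788 (allL N13788 (tt N11665 F207717) (tt N14033 (iv F209234)) (tt N11660 (iv D46558)) (tt N15961 (iv F217511)) (tt N13788 F207718) (tt N15780 (iv F216793)) (tt N13788 F207719) (tt N14035 (iv F209248)) (tt N13788 F207720) (tt N15971 D48741))
theorem Q13790 : ∀ i, i < 13790 → P i := stepQ 13789 Q13789 (allL N13789 (tt N11666 F207721) (tt N14049 (iv F209332)) (tt N15971 (iv F217540)) (tt N11661 F207722) (tt N13789 F207723) (tt N15781 (iv F216797)) (tt N13789 F207724) (tt N14051 (iv F209349)) (tt N15972 D48742) (tt N11660 (iv D46559)))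
theorem Q13791 : ∀ i, i < 13791 → P i := stepQ 13790 Q13790 (allL N13790 (tt N14035 F209250) (tt N15943 (iv F217444)) (tt N11663 (iv D46560)) (tt N15213 F214893) (tt N13790 F207725) (tt N15783 (iv F216801)) (tt N14038 (iv F209266)) (tt N11665 F207726) (tt N13790 F207727) (tt N15973 D48743))
theorem Q13792 : ∀ i, i < 13792 → P i := stepQ 13791 Q13791 (allL N13791 (tt N14051 (iv F209344)) (tt N13791 F207728) (tt N15973 (iv F217547)) (tt N11664 F207729) (tt N13791 F207730) (tt N15785 (iv F216811)) (tt N14053 (iv F209360)) (tt N11666 F207731) (tt N15974 D48744) (tt N11663 (iv D46561)))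
theorem Q13793 : ∀ i, i < 13793 → P i := stepQ 13792 Q13792 (allL N13792 (tt N15946 (iv F217459)) (tt N11665 (iv D46562)) (tt N13792 F207732) (tt N15963 (iv F217516)) (tt N13792 F207733) (tt N15786 (iv F216814)) (tt N13792 F207734) (tt N15943 F217448) (tt N13792 F207735) (tt N15975 D48745))
theorem Q13794 : ∀ i, i < 13794 → P i := stepQ 13793 Q13793 (allL N13793 (tt N15971 (iv F217539)) (tt N15975 (iv F217554)) (tt N11666 F207736) (tt N15964 (iv F217519)) (tt N13793 F207737) (tt N15788 (iv F216820)) (tt N13793 F207738) (tt N15973 (iv F217549)) (tt N15976 D48746) (tt N11665 (iv D46563)))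
theorem Q13795 : ∀ i, i < 13795 → P i := stepQ 13794 Q13794 (allL N13794 (tt N15972 (iv F217543)) (tt N13794 F207739) (tt N15976 (iv F217558)) (tt N15970 (iv F217536)) (tt N13794 F207740) (tt N15790 (iv F216826)) (tt N13794 F207741) (tt N15974 (iv F217552)) (tt N11666 (iv D46564)) (tt N13794 F207742))
theorem Q13796 : ∀ i, i < 13796 → P i := stepQ 13795 Q13795 (allL N13795 (tt N13849 (iv F208105)) (tt N13795 F207743) (tt N13848 (iv F208098)) (tt N13958 (iv F208818)) (tt N13795 F207744) (tt N11673 F207745) (tt N11670 (iv D46565)) (tt N13847 (iv F208093)) (tt N11674 F207746) (tt N13853 (iv F208149)))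
theorem Q13797 : ∀ i, i < 13797 → P i := stepQ 13796 Q13796 (allL N13796 (tt N13848 (iv F208096)) (tt N13796 F207747) (tt N13849 (iv F208107)) (tt N11676 F207748) (tt N13796 F207749) (tt N11671 F207750) (tt N13853 (iv F208147)) (tt N11674 F207751) (tt N13847 (iv F208094)) (tt N11670 (iv D46566)))
theorem Q13798 : ∀ i, i < 13798 → P i := stepQ 13797 Q13797 (allL N13797 (tt N13915 (iv F208537)) (tt N13797 F207752) (tt N13961 (iv F208842)) (tt N13853 (iv F208144)) (tt N11677 F207753) (tt N13852 (iv F208137)) (tt N11676 F207754) (tt N11675 (iv D46567)) (tt N15033 (iv F214071)) (tt N13958 (iv F208823)))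
theorem Q13799 : ∀ i, i < 13799 → P i := stepQ 13798 Q13798 (allL N13798 (tt N13107 F207755) (tt N13798 F207756) (tt N11781 F207757) (tt N13798 F207758) (tt N13079 F207759) (tt N11678 (iv D46568)) (tt N15977 D48747) (tt N11684 F207760) (tt N13798 F207761) (tt N15978 D48748))
theorem Q13800 : ∀ i, i < 13800 → P i := stepQ 13799 Q13799 (allL N13799 (tt N13580 F207762) (tt N13799 F207763) (tt N11782 F207764) (tt N13799 F207765) (tt N11679 F207766) (tt N15978 (iv F217575)) (tt N13799 F207767) (tt N11685 F207768) (tt N15979 D48749) (tt N11678 (iv D46569)))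
theorem Q13801 : ∀ i, i < 13801 → P i := stepQ 13800 Q13800 (allL N13800 (tt N13581 F207769) (tt N13800 F207770) (tt N11783 F207771) (tt N13800 F207772) (tt N15979 (iv F217580)) (tt N13571 F207773) (tt N13800 F207774) (tt N11686 F207775) (tt N11679 (iv D46570)) (tt N13800 F207776))
theorem Q13802 : ∀ i, i < 13802 → P i := stepQ 13801 Q13801 (allL N13801 (tt N11684 F207777) (tt N13116 F207778) (tt N11837 F207779) (tt N13801 F207780) (tt N13105 F207781) (tt N11680 (iv D46571)) (tt N15980 D48750) (tt N13107 F207782) (tt N13801 F207783) (tt N15981 D48751))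
theorem Q13803 : ∀ i, i < 13803 → P i := stepQ 13802 Q13802 (allL N13802 (tt N11685 F207784) (tt N13589 F207785) (tt N11838 F207786) (tt N13802 F207787) (tt N11681 F207788) (tt N15981 (iv F217597)) (tt N11693 F207789) (tt N13580 F207790) (tt N15982 D48752) (tt N11680 (iv D46572)))
theorem Q13804 : ∀ i, i < 13804 → P i := stepQ 13803 Q13803 (allL N13803 (tt N11686 F207791) (tt N13590 F207792) (tt N11839 F207793) (tt N13803 F207794) (tt N15982 (iv F217603)) (tt N13582 F207795) (tt N11694 F207796) (tt N13581 F207797) (tt N11681 (iv D46573)) (tt N13803 F207798))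
theorem Q13805 : ∀ i, i < 13805 → P i := stepQ 13804 Q13804 (allL N13804 (tt N13105 F207799) (tt N13804 F207800) (tt N11860 F207801) (tt N13078 F207802) (tt N11684 F207803) (tt N11682 (iv D46574)) (tt N15983 D48753) (tt N13079 F207804) (tt N13804 F207805) (tt N15984 D48754))
theorem Q13806 : ∀ i, i < 13806 → P i := stepQ 13805 Q13805 (allL N13805 (tt N13109 F207806) (tt N13805 F207807) (tt N11861 F207808) (tt N13081 F207809) (tt N11683 F207810) (tt N15984 (iv F217622)) (tt N13210 F207811) (tt N13082 F207812) (tt N15985 D48755) (tt N11682 (iv D46575)))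
theorem Q13807 : ∀ i, i < 13807 → P i := stepQ 13806 Q13806 (allL N13806 (tt N13582 F207813) (tt N13806 F207814) (tt N11862 F207815) (tt N13806 F207816) (tt N15985 (iv F217629)) (tt N11686 F207817) (tt N13606 F207818) (tt N13571 F207819) (tt N11683 (iv D46576)) (tt N13806 F207820))
theorem Q13808 : ∀ i, i < 13808 → P i := stepQ 13807 Q13807 (allL N13807 (tt N15980 (iv F217584)) (tt N13807 F207821) (tt N11863 F207822) (tt N13807 F207823) (tt N15983 (iv F217613)) (tt N11701 F207824) (tt N11684 (iv D46577)) (tt N15986 D48756) (tt N13807 F207825) (tt N15987 D48757))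
theorem Q13809 : ∀ i, i < 13809 → P i := stepQ 13808 Q13808 (allL N13808 (tt N15981 (iv F217592)) (tt N13808 F207826) (tt N11864 F207827) (tt N13808 F207828) (tt N15984 (iv F217621)) (tt N11685 F207829) (tt N15987 (iv F217646)) (tt N15978 (iv F217576)) (tt N15988 D48758) (tt N11684 (iv D46578)))
theorem Q13810 : ∀ i, i < 13810 → P i := stepQ 13809 Q13809 (allL N13809 (tt N15982 (iv F217600)) (tt N13809 F207830) (tt N11865 F207831) (tt N15989 D48759) (tt N11686 F207832) (tt N15988 (iv F217651)) (tt N11703 F207833) (tt N15979 (iv F217582)) (tt N11685 (iv D46579)) (tt N13809 F207834))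
theorem Q13811 : ∀ i, i < 13811 → P i := stepQ 13810 Q13810 (allL N13810 (tt N13810 F207835) (tt N11937 F207836) (tt N11690 F207837) (tt N13810 F207838) (tt N12385 F207839) (tt N13373 F207840) (tt N13588 F207841) (tt N13810 F207842) (tt N15990 D48760) (tt N11688 (iv D46580)))
theorem Q13812 : ∀ i, i < 13812 → P i := stepQ 13811 Q13811 (allL N13811 (tt N13811 F207843) (tt N11693 F207844) (tt N12385 F207845) (tt N13811 F207846) (tt N11690 F207847) (tt N12647 F207848) (tt N13589 F207849) (tt N13811 F207850) (tt N15991 D48761) (tt N11689 (iv D46581)))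
theorem Q13813 : ∀ i, i < 13813 → P i := stepQ 13812 Q13812 (allL N13812 (tt N13812 F207851) (tt N11694 F207852) (tt N15990 (iv F217663)) (tt N13812 F207853) (tt N15991 (iv F217672)) (tt N13046 F207854) (tt N13590 F207855) (tt N13812 F207856) (tt N11690 (iv D46582)) (tt N13812 F207857))
theorem Q13814 : ∀ i, i < 13814 → P i := stepQ 13813 Q13813 (allL N13813 (tt N11700 F207858) (tt N13046 F207859) (tt N11957 F207860) (tt N13813 F207861) (tt N13045 F207862) (tt N11694 F207863) (tt N13639 F207864) (tt N13813 F207865) (tt N11691 (iv D46583)) (tt N13813 F207866))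
theorem Q13815 : ∀ i, i < 13815 → P i := stepQ 13814 Q13814 (allL N13814 (tt N11701 F207867) (tt N12729 F207868) (tt N11958 F207869) (tt N13814 F207870) (tt N12728 F207871) (tt N15980 (iv F217589)) (tt N11692 (iv D46584)) (tt N15992 D48762) (tt N13814 F207872) (tt N15993 D48763))
theorem Q13816 : ∀ i, i < 13816 → P i := stepQ 13815 Q13815 (allL N13815 (tt N11702 F207873) (tt N12647 F207874) (tt N11959 F207875) (tt N13815 F207876) (tt N12646 F207877) (tt N11693 F207878) (tt N15993 (iv F217691)) (tt N13815 F207879) (tt N15994 D48764) (tt N11692 (iv D46585)))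
theorem Q13817 : ∀ i, i < 13817 → P i := stepQ 13816 Q13816 (allL N13816 (tt N11703 F207880) (tt N15991 (iv F217670)) (tt N11960 F207881) (tt N15995 D48765) (tt N11694 F207882) (tt N15994 (iv F217696)) (tt N15982 (iv F217605)) (tt N13816 F207883) (tt N11693 (iv D46586)) (tt N13816 F207884))
theorem Q13818 : ∀ i, i < 13818 → P i := stepQ 13817 Q13817 (allL N13817 (tt N11708 F207885) (tt N13817 F207886) (tt N13739 F207887) (tt N13817 F207888) (tt N11969 F207889) (tt N13817 F207890) (tt N13702 F207891) (tt N13817 F207892) (tt N11695 (iv D46587)) (tt N13817 F207893))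
theorem Q13819 : ∀ i, i < 13819 → P i := stepQ 13818 Q13818 (allL N13818 (tt N13258 F207894) (tt N13818 F207895) (tt N11996 F207896) (tt N13404 F207897) (tt N13205 F207898) (tt N11696 (iv D46588)) (tt N15996 D48766) (tt N13208 F207899) (tt N13818 F207900) (tt N15997 D48767))
theorem Q13820 : ∀ i, i < 13820 → P i := stepQ 13819 Q13819 (allL N13819 (tt N13512 F207901) (tt N13819 F207902) (tt N11997 F207903) (tt N13511 F207904) (tt N11697 F207905) (tt N15997 (iv F217719)) (tt N11699 F207906) (tt N13604 F207907) (tt N15998 D48768) (tt N11696 (iv D46589)))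
theorem Q13821 : ∀ i, i < 13821 → P i := stepQ 13820 Q13820 (allL N13820 (tt N13639 F207908) (tt N13820 F207909) (tt N11998 F207910) (tt N13820 F207911) (tt N15998 (iv F217725)) (tt N13606 F207912) (tt N11700 F207913) (tt N13605 F207914) (tt N11697 (iv D46590)) (tt N13820 F207915))
theorem Q13822 : ∀ i, i < 13822 → P i := stepQ 13821 Q13821 (allL N13821 (tt N12728 F207916) (tt N13821 F207917) (tt N11999 F207918) (tt N12727 F207919) (tt N11701 F207920) (tt N15996 (iv F217712)) (tt N11698 (iv D46591)) (tt N15999 D48769) (tt N13821 F207921) (tt N16000 D48770))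
theorem Q13823 : ∀ i, i < 13823 → P i := stepQ 13822 Q13822 (allL N13822 (tt N12646 F207922) (tt N13822 F207923) (tt N12000 F207924) (tt N12645 F207925) (tt N11702 F207926) (tt N11699 F207927) (tt N16000 (iv F217741)) (tt N13822 F207928) (tt N16001 D48771) (tt N11698 (iv D46592)))
theorem Q13824 : ∀ i, i < 13824 → P i := stepQ 13823 Q13823 (allL N13823 (tt N13045 F207929) (tt N13823 F207930) (tt N12001 F207931) (tt N13044 F207932) (tt N11700 F207933) (tt N16001 (iv F217747)) (tt N15998 (iv F217726)) (tt N13823 F207934) (tt N11699 (iv D46593)) (tt N13823 F207935))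
theorem Q13825 : ∀ i, i < 13825 → P i := stepQ 13824 Q13824 (allL N13824 (tt N15992 (iv F217678)) (tt N13824 F207936) (tt N12002 F207937) (tt N13824 F207938) (tt N15999 (iv F217733)) (tt N15986 (iv F217639)) (tt N13824 F207939) (tt N11701 (iv D46594)) (tt N13824 F207940) (tt N16002 D48772))
theorem Q13826 : ∀ i, i < 13826 → P i := stepQ 13825 Q13825 (allL N13825 (tt N15993 (iv F217686)) (tt N13825 F207941) (tt N12003 F207942) (tt N13825 F207943) (tt N16000 (iv F217740)) (tt N15987 (iv F217645)) (tt N11702 F207944) (tt N16002 (iv F217754)) (tt N16003 D48773) (tt N11701 (iv D46595)))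
theorem Q13827 : ∀ i, i < 13827 → P i := stepQ 13826 Q13826 (allL N13826 (tt N15994 (iv F217692)) (tt N13826 F207945) (tt N12004 F207946) (tt N16004 D48774) (tt N16001 (iv F217746)) (tt N11703 F207947) (tt N16003 (iv F217757)) (tt N13826 F207948) (tt N11702 (iv D46596)) (tt N13826 F207949))
theorem Q13828 : ∀ i, i < 13828 → P i := stepQ 13827 Q13827 (allL N13827 (tt N15995 (iv F217699)) (tt N13827 F207950) (tt N16005 D48775) (tt N11703 (iv D46597)) (tt N13827 F207951) (tt N16004 (iv F217760)) (tt N15989 (iv F217658)) (tt N13827 F207952) (tt N13827 F207953) (tt N13827 F207954))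
theorem Q13829 : ∀ i, i < 13829 → P i := stepQ 13828 Q13828 (allL N13828 (tt N13754 F207955) (tt N11704 (iv D46598)) (tt N11713 F207956) (tt N13684 F207957) (tt N12013 F207958) (tt N13675 F207959) (tt N11706 F207960) (tt N13672 F207961) (tt N13828 F207962) (tt N16006 D48776))
theorem Q13830 : ∀ i, i < 13830 → P i := stepQ 13829 Q13829 (allL N13829 (tt N13701 F207963) (tt N16006 (iv F217771)) (tt N11705 F207964) (tt N13685 F207965) (tt N12014 F207966) (tt N13676 F207967) (tt N11707 F207968) (tt N13673 F207969) (tt N16007 D48777) (tt N11704 (iv D46599)))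
theorem Q13831 : ∀ i, i < 13831 → P i := stepQ 13830 Q13830 (allL N13830 (tt N13702 F207970) (tt N11715 F207971) (tt N16007 (iv F217779)) (tt N13830 F207972) (tt N12015 F207973) (tt N13677 F207974) (tt N11708 F207975) (tt N13674 F207976) (tt N11705 (iv D46600)) (tt N13830 F207977))
theorem Q13832 : ∀ i, i < 13832 → P i := stepQ 13831 Q13831 (allL N13831 (tt N13699 F207978) (tt N11707 F207979) (tt N11717 F207980) (tt N13698 F207981) (tt N12017 F207982) (tt N13831 F207983) (tt N16006 (iv F217776)) (tt N13831 F207984) (tt N16008 D48778) (tt N11706 (iv D46601)))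
theorem Q13833 : ∀ i, i < 13833 → P i := stepQ 13832 Q13832 (allL N13832 (tt N13739 F207985) (tt N16008 (iv F217787)) (tt N11708 F207986) (tt N13735 F207987) (tt N12018 F207988) (tt N13832 F207989) (tt N16007 (iv F217783)) (tt N13832 F207990) (tt N11707 (iv D46602)) (tt N13832 F207991))
theorem Q13834 : ∀ i, i < 13834 → P i := stepQ 13833 Q13833 (allL N13833 (tt N16009 D48779) (tt N11709 (iv D46603)) (tt N13675 F207992) (tt N13833 F207993) (tt N12902 F207994) (tt N11713 F207995) (tt N13833 F207996) (tt N12864 F207997) (tt N13833 F207998) (tt N16010 D48780))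
theorem Q13835 : ∀ i, i < 13835 → P i := stepQ 13834 Q13834 (allL N13834 (tt N13834 F207999) (tt N16010 (iv F217802)) (tt N11710 F208000) (tt N13834 F208001) (tt N12903 F208002) (tt N11714 F208003) (tt N13834 F208004) (tt N12865 F208005) (tt N16011 D48781) (tt N11709 (iv D46604)))
theorem Q13836 : ∀ i, i < 13836 → P i := stepQ 13835 Q13835 (allL N13835 (tt N13835 F208006) (tt N13677 F208007) (tt N16011 (iv F217810)) (tt N13835 F208008) (tt N12904 F208009) (tt N11715 F208010) (tt N13835 F208011) (tt N12866 F208012) (tt N11710 (iv D46605)) (tt N13835 F208013))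
theorem Q13837 : ∀ i, i < 13837 → P i := stepQ 13836 Q13836 (allL N13836 (tt N16012 D48782) (tt N11711 (iv D46606)) (tt N13672 F208014) (tt N13836 F208015) (tt N12027 F208016) (tt N12864 F208017) (tt N13836 F208018) (tt N11713 F208019) (tt N13836 F208020) (tt N16013 D48783))
theorem Q13838 : ∀ i, i < 13838 → P i := stepQ 13837 Q13837 (allL N13837 (tt N13837 F208021) (tt N16013 (iv F217825)) (tt N11712 F208022) (tt N13837 F208023) (tt N12028 F208024) (tt N12865 F208025) (tt N13837 F208026) (tt N11714 F208027) (tt N16014 D48784) (tt N11711 (iv D46607)))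
theorem Q13839 : ∀ i, i < 13839 → P i := stepQ 13838 Q13838 (allL N13838 (tt N13838 F208028) (tt N13674 F208029) (tt N16014 (iv F217833)) (tt N13838 F208030) (tt N12029 F208031) (tt N12866 F208032) (tt N13838 F208033) (tt N11715 F208034) (tt N11712 (iv D46608)) (tt N13838 F208035))
theorem Q13840 : ∀ i, i < 13840 → P i := stepQ 13839 Q13839 (allL N13839 (tt N11713 (iv D46609)) (tt N13839 F208036) (tt N13754 F208037) (tt N13839 F208038) (tt N12030 F208039) (tt N16009 (iv F217798)) (tt N11716 F208040) (tt N16012 (iv F217823)) (tt N13839 F208041) (tt N16015 D48785))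
theorem Q13841 : ∀ i, i < 13841 → P i := stepQ 13840 Q13840 (allL N13840 (tt N16015 (iv F217839)) (tt N11714 F208042) (tt N16006 (iv F217772)) (tt N13840 F208043) (tt N12031 F208044) (tt N16010 (iv F217806)) (tt N11717 F208045) (tt N16013 (iv F217831)) (tt N16016 D48786) (tt N11713 (iv D46610)))
theorem Q13842 : ∀ i, i < 13842 → P i := stepQ 13841 Q13841 (allL N13841 (tt N13841 F208046) (tt N16016 (iv F217845)) (tt N11715 F208047) (tt N16017 D48787) (tt N12032 F208048) (tt N16011 (iv F217812)) (tt N11718 F208049) (tt N16014 (iv F217837)) (tt N11714 (iv D46611)) (tt N13841 F208050))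
theorem Q13843 : ∀ i, i < 13843 → P i := stepQ 13842 Q13842 (allL N13842 (tt N11717 F208051) (tt N13842 F208052) (tt N13699 F208053) (tt N13842 F208054) (tt N12033 F208055) (tt N13842 F208056) (tt N16015 (iv F217844)) (tt N13842 F208057) (tt N16018 D48788) (tt N11716 (iv D46612)))
theorem Q13844 : ∀ i, i < 13844 → P i := stepQ 13843 Q13843 (allL N13843 (tt N16018 (iv F217856)) (tt N11718 F208058) (tt N16008 (iv F217788)) (tt N16019 D48789) (tt N12034 F208059) (tt N13843 F208060) (tt N16016 (iv F217847)) (tt N13843 F208061) (tt N11717 (iv D46613)) (tt N13843 F208062))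
theorem Q13845 : ∀ i, i < 13845 → P i := stepQ 13844 Q13844 (allL N13844 (tt N13844 F208063) (tt N16019 (iv F217863)) (tt N13844 F208064) (tt N11718 (iv D46614)) (tt N16020 D48790) (tt N13844 F208065) (tt N16017 (iv F217852)) (tt N13844 F208066) (tt N13844 F208067) (tt N13844 F208068))
theorem Q13846 : ∀ i, i < 13846 → P i := stepQ 13845 Q13845 (allL N13845 (tt N12737 F208069) (tt N13845 F208070) (tt N11787 F208071) (tt N11724 F208072) (tt N13845 F208073) (tt N12804 F208074) (tt N11723 (iv D46615)) (tt N13616 F208075) (tt N13633 (iv F208077)) (tt N11734 F208076))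
theorem Q13847 : ∀ i, i < 13847 → P i := stepQ 13846 Q13846 (allL N13846 (tt N12738 F208078) (tt N13846 F208079) (tt N11788 F208080) (tt N13579 F208081) (tt N13846 F208082) (tt N12730 F208083) (tt N13633 F208084) (tt N12751 F208085) (tt N11723 (iv D46616)) (tt N12811 F208086))
theorem Q13848 : ∀ i, i < 13848 → P i := stepQ 13847 Q13847 (allL N13847 (tt N12733 F208087) (tt N13847 F208088) (tt N11725 F208089) (tt N12804 F208090) (tt N13847 F208091) (tt N11724 (iv D46617)) (tt N12731 F208092) (tt N13795 F208093) (tt N13796 F208094) (tt N11735 F208095))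
theorem Q13849 : ∀ i, i < 13849 → P i := stepQ 13848 Q13848 (allL N13848 (tt N13796 F208096) (tt N11729 F208097) (tt N13795 F208098) (tt N11800 F208099) (tt N13848 F208100) (tt N11726 F208101) (tt N12734 F208102) (tt N11725 (iv D46618)) (tt N12733 (iv F208104)) (tt N11737 F208103))
theorem Q13850 : ∀ i, i < 13850 → P i := stepQ 13849 Q13849 (allL N13849 (tt N13795 F208105) (tt N11730 F208106) (tt N13796 F208107) (tt N11866 (iv F208113)) (tt N13849 F208108) (tt N11727 F208109) (tt N11737 F208110) (tt N12733 F208111) (tt N11725 (iv D46619)) (tt N12734 F208112))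
theorem Q13851 : ∀ i, i < 13851 → P i := stepQ 13850 Q13850 (allL N13850 (tt N13616 F208114) (tt N11731 F208115) (tt N13767 F208116) (tt N11727 (iv D46620)) (tt N13850 F208117) (tt N11866 F208118) (tt N11728 F208119) (tt N12737 F208120) (tt N11803 F208121) (tt N12736 F208122))
theorem Q13852 : ∀ i, i < 13852 → P i := stepQ 13851 Q13851 (allL N13851 (tt N13614 F208123) (tt N12140 F208124) (tt N11728 (iv D46621)) (tt N13615 F208125) (tt N13851 F208126) (tt N11774 F208127) (tt N13767 F208128) (tt N11773 F208129) (tt N11805 F208130) (tt N13613 F208131))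
theorem Q13853 : ∀ i, i < 13853 → P i := stepQ 13852 Q13852 (allL N13852 (tt N12736 F208132) (tt N13852 F208133) (tt N11845 F208134) (tt N11736 F208135) (tt N13852 F208136) (tt N13797 F208137) (tt N12732 F208138) (tt N11734 (iv D46622)) (tt N12808 F208139) (tt N13616 F208140))
theorem Q13854 : ∀ i, i < 13854 → P i := stepQ 13853 Q13853 (allL N13853 (tt N12734 F208141) (tt N13853 F208142) (tt N11737 F208143) (tt N13797 F208144) (tt N13853 F208145) (tt N11736 F208146) (tt N13796 F208147) (tt N11735 (iv D46623)) (tt N12731 F208148) (tt N13795 F208149))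
theorem Q13855 : ∀ i, i < 13855 → P i := stepQ 13854 Q13854 (allL N13854 (tt N11773 F208150) (tt N12076 F208151) (tt N11769 F208152) (tt N11740 F208153) (tt N13854 F208154) (tt N11764 F208155) (tt N11739 (iv D46624)) (tt N13614 (iv F208157)) (tt N13575 (iv F208158)) (tt N11771 F208156))
theorem Q13856 : ∀ i, i < 13856 → P i := stepQ 13855 Q13855 (allL N13855 (tt N12758 F208159) (tt N12077 F208160) (tt N12751 F208161) (tt N16021 D48791) (tt N13855 F208162) (tt N12740 F208163) (tt N13575 F208164) (tt N11788 F208165) (tt N11739 (iv D46625)) (tt N16022 D48792))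
theorem Q13857 : ∀ i, i < 13857 → P i := stepQ 13856 Q13856 (allL N13856 (tt N11771 F208166) (tt N12078 F208167) (tt N11747 F208168) (tt N11764 F208169) (tt N13856 F208170) (tt N11740 (iv D46626)) (tt N11763 F208171) (tt N13613 (iv F208173)) (tt N12770 (iv F208174)) (tt N11773 F208172))
theorem Q13858 : ∀ i, i < 13858 → P i := stepQ 13857 Q13857 (allL N13857 (tt N13615 F208175) (tt N12079 F208176) (tt N11748 F208177) (tt N13614 F208178) (tt N11742 F208179) (tt N13613 F208180) (tt N11790 F208181) (tt N11740 (iv D46627)) (tt N16023 D48793) (tt N11774 F208182))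
theorem Q13859 : ∀ i, i < 13859 → P i := stepQ 13858 Q13858 (allL N13858 (tt N13100 F208183) (tt N12080 F208184) (tt N11749 F208185) (tt N16024 D48794) (tt N11743 F208186) (tt N12770 F208187) (tt N11741 F208188) (tt N16023 (iv F217898)) (tt N11740 (iv D46628)) (tt N16025 D48795))
theorem Q13860 : ∀ i, i < 13860 → P i := stepQ 13859 Q13859 (allL N13859 (tt N13097 F208189) (tt N12081 F208190) (tt N16026 D48796) (tt N11741 (iv D46629)) (tt N16027 D48797) (tt N12741 F208191) (tt N16024 (iv F217904)) (tt N11792 F208192) (tt N16021 (iv F217882)) (tt N16028 D48798))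
theorem Q13861 : ∀ i, i < 13861 → P i := stepQ 13860 Q13860 (allL N13860 (tt N13101 F208193) (tt N12082 F208194) (tt N11751 F208195) (tt N16028 (iv F217929)) (tt N11745 F208196) (tt N12742 F208197) (tt N16025 (iv F217912)) (tt N11793 F208198) (tt N11777 F208199) (tt N11741 (iv D46630)))
theorem Q13862 : ∀ i, i < 13862 → P i := stepQ 13861 Q13861 (allL N13861 (tt N13102 F208200) (tt N12083 F208201) (tt N11752 F208202) (tt N16029 D48799) (tt N16023 (iv F217895)) (tt N13861 F208203) (tt N11794 F208204) (tt N11743 F208205) (tt N11742 (iv D46631)) (tt N13603 F208206))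
theorem Q13863 : ∀ i, i < 13863 → P i := stepQ 13862 Q13862 (allL N13862 (tt N12154 F208207) (tt N12084 F208208) (tt N13862 F208209) (tt N11743 (iv D46632)) (tt N16030 D48800) (tt N13862 F208210) (tt N11744 F208211) (tt N16029 (iv F217937)) (tt N13862 F208212) (tt N16031 D48801))
theorem Q13864 : ∀ i, i < 13864 → P i := stepQ 13863 Q13863 (allL N13863 (tt N13103 F208213) (tt N12085 F208214) (tt N11753 F208215) (tt N16031 (iv F217951)) (tt N16025 (iv F217910)) (tt N13863 F208216) (tt N11745 F208217) (tt N13603 F208218) (tt N11778 F208219) (tt N11743 (iv D46633)))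
theorem Q13865 : ∀ i, i < 13865 → P i := stepQ 13864 Q13864 (allL N13864 (tt N12151 F208220) (tt N12086 F208221) (tt N13864 F208222) (tt N16027 (iv F217924)) (tt N11744 (iv D46634)) (tt N12124 F208223) (tt N16030 (iv F217944)) (tt N11797 F208224) (tt N13864 F208225) (tt N16032 D48802))
theorem Q13866 : ∀ i, i < 13866 → P i := stepQ 13865 Q13865 (allL N13865 (tt N12155 F208226) (tt N12087 F208227) (tt N13865 F208228) (tt N11745 F208229) (tt N16032 (iv F217959)) (tt N11746 F208230) (tt N16031 (iv F217953)) (tt N11798 F208231) (tt N16033 D48803) (tt N11744 (iv D46635)))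
theorem Q13867 : ∀ i, i < 13867 → P i := stepQ 13866 Q13866 (allL N13866 (tt N12156 F208232) (tt N12090 F208233) (tt N13866 F208234) (tt N11783 F208235) (tt N12126 F208236) (tt N16033 (iv F217966)) (tt N13866 F208237) (tt N11799 F208238) (tt N11746 (iv D46636)) (tt N13866 F208239))
theorem Q13868 : ∀ i, i < 13868 → P i := stepQ 13867 Q13867 (allL N13867 (tt N13579 F208240) (tt N11754 F208241) (tt N16023 (iv F217893)) (tt N12738 F208242) (tt N11752 F208243) (tt N12769 F208244) (tt N11802 F208245) (tt N11749 F208246) (tt N11748 (iv D46637)) (tt N12789 F208247))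
theorem Q13869 : ∀ i, i < 13869 → P i := stepQ 13868 Q13868 (allL N13868 (tt N13578 F208248) (tt N11755 F208249) (tt N16025 (iv F217909)) (tt N12768 F208250) (tt N11753 F208251) (tt N12771 F208252) (tt N11751 F208253) (tt N12789 F208254) (tt N11784 F208255) (tt N11749 (iv D46638)))
theorem Q13870 : ∀ i, i < 13870 → P i := stepQ 13869 Q13869 (allL N13869 (tt N13575 F208256) (tt N12141 F208257) (tt N11750 (iv D46639)) (tt N16026 (iv F217916)) (tt N13869 F208258) (tt N11775 F208259) (tt N12758 F208260) (tt N11805 F208261) (tt N11773 F208262) (tt N16034 D48804))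
theorem Q13871 : ∀ i, i < 13871 → P i := stepQ 13870 Q13870 (allL N13870 (tt N13577 F208263) (tt N11756 F208264) (tt N16034 (iv F217972)) (tt N11751 F208265) (tt N13870 F208266) (tt N11784 F208267) (tt N12768 F208268) (tt N11806 F208269) (tt N12771 F208270) (tt N11750 (iv D46640)))
theorem Q13872 : ∀ i, i < 13872 → P i := stepQ 13871 Q13871 (allL N13871 (tt N12109 F208271) (tt N11764 F208272) (tt N13871 F208273) (tt N12078 F208274) (tt N11759 F208275) (tt N12076 F208276) (tt N11758 (iv D46641)) (tt N13611 (iv F208278)) (tt N13573 (iv F208279)) (tt N12135 F208277))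
theorem Q13873 : ∀ i, i < 13873 → P i := stepQ 13872 Q13872 (allL N13872 (tt N12110 F208280) (tt N11765 F208281) (tt N13872 F208282) (tt N16035 D48805) (tt N11760 F208283) (tt N12744 F208284) (tt N13573 F208285) (tt N11821 F208286) (tt N11758 (iv D46642)) (tt N16036 D48806))
theorem Q13874 : ∀ i, i < 13874 → P i := stepQ 13873 Q13873 (allL N13873 (tt N12113 F208287) (tt N11766 F208288) (tt N13873 F208289) (tt N13583 F208290) (tt N16036 (iv F217989)) (tt N11762 F208291) (tt N13574 F208292) (tt N11825 F208293) (tt N12767 F208294) (tt N11760 (iv D46643)))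
theorem Q13875 : ∀ i, i < 13875 → P i := stepQ 13874 Q13874 (allL N13874 (tt N12089 F208295) (tt N11768 F208296) (tt N13591 F208297) (tt N11762 F208298) (tt N12068 F208299) (tt N13583 F208300) (tt N13874 F208301) (tt N11827 F208302) (tt N16037 D48807) (tt N11761 (iv D46644)))
theorem Q13876 : ∀ i, i < 13876 → P i := stepQ 13875 Q13875 (allL N13875 (tt N11776 F208303) (tt N16035 (iv F217979)) (tt N12756 F208304) (tt N11765 (iv D46645)) (tt N13092 F208305) (tt N12746 F208306) (tt N13095 F208307) (tt N11832 F208308) (tt N12761 F208309) (tt N16038 D48808))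
theorem Q13877 : ∀ i, i < 13877 → P i := stepQ 13876 Q13876 (allL N13876 (tt N11777 F208310) (tt N16036 (iv F217987)) (tt N11770 F208311) (tt N16038 (iv F218005)) (tt N11766 F208312) (tt N12747 F208313) (tt N13576 F208314) (tt N11833 F208315) (tt N13101 F208316) (tt N11765 (iv D46646)))
theorem Q13878 : ∀ i, i < 13878 → P i := stepQ 13877 Q13877 (allL N13877 (tt N11781 F208317) (tt N12066 F208318) (tt N13107 F208319) (tt N12059 F208320) (tt N13106 F208321) (tt N11767 (iv D46647)) (tt N16039 D48809) (tt N11837 F208322) (tt N13877 F208323) (tt N16040 D48810))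
theorem Q13879 : ∀ i, i < 13879 → P i := stepQ 13878 Q13878 (allL N13878 (tt N11782 F208324) (tt N12068 F208325) (tt N13580 F208326) (tt N12060 F208327) (tt N11768 F208328) (tt N16040 (iv F218023)) (tt N13878 F208329) (tt N11838 F208330) (tt N16041 D48811) (tt N11767 (iv D46648)))
theorem Q13880 : ∀ i, i < 13880 → P i := stepQ 13879 Q13879 (allL N13879 (tt N11783 F208331) (tt N16037 (iv F217995)) (tt N13581 F208332) (tt N12156 F208333) (tt N16041 (iv F218029)) (tt N13584 F208334) (tt N13879 F208335) (tt N11839 F208336) (tt N11768 (iv D46649)) (tt N13879 F208337))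
theorem Q13881 : ∀ i, i < 13881 → P i := stepQ 13880 Q13880 (allL N13880 (tt N13613 F208338) (tt N12136 F208339) (tt N12732 F208340) (tt N11774 F208341) (tt N13880 F208342) (tt N13615 F208343) (tt N11845 F208344) (tt N11771 (iv D46650)) (tt N16042 D48812) (tt N13614 F208345))
theorem Q13882 : ∀ i, i < 13882 → P i := stepQ 13881 Q13881 (allL N13881 (tt N12770 F208346) (tt N12137 F208347) (tt N12752 F208348) (tt N16043 D48813) (tt N13881 F208349) (tt N13100 F208350) (tt N11772 F208351) (tt N16042 (iv F218040)) (tt N11771 (iv D46651)) (tt N16044 D48814))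
theorem Q13883 : ∀ i, i < 13883 → P i := stepQ 13882 Q13882 (allL N13882 (tt N12761 F208352) (tt N12138 F208353) (tt N12746 F208354) (tt N11772 (iv D46652)) (tt N16045 D48815) (tt N12756 F208355) (tt N16043 (iv F218046)) (tt N11847 F208356) (tt N11776 F208357) (tt N16046 D48816))
theorem Q13884 : ∀ i, i < 13884 → P i := stepQ 13883 Q13883 (allL N13883 (tt N12773 F208358) (tt N12139 F208359) (tt N12754 F208360) (tt N16046 (iv F218069)) (tt N13883 F208361) (tt N12757 F208362) (tt N16044 (iv F218055)) (tt N11848 F208363) (tt N16022 (iv F217890)) (tt N11772 (iv D46653)))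
theorem Q13885 : ∀ i, i < 13885 → P i := stepQ 13884 Q13884 (allL N13884 (tt N13095 F208364) (tt N12143 F208365) (tt N12741 F208366) (tt N11775 (iv D46654)) (tt N13074 F208367) (tt N16026 (iv F217917)) (tt N11776 F208368) (tt N12784 F208369) (tt N16043 (iv F218048)) (tt N16047 D48817))
theorem Q13886 : ∀ i, i < 13886 → P i := stepQ 13885 Q13885 (allL N13885 (tt N13576 F208370) (tt N12144 F208371) (tt N11784 F208372) (tt N16047 (iv F218075)) (tt N11778 F208373) (tt N16034 (iv F217974)) (tt N11777 F208374) (tt N12788 F208375) (tt N16025 (iv F217914)) (tt N11775 (iv D46655)))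
theorem Q13887 : ∀ i, i < 13887 → P i := stepQ 13886 Q13886 (allL N13886 (tt N12756 F208376) (tt N13058 (iv F208382)) (tt N11776 (iv D46656)) (tt N11785 F208377) (tt N13072 (iv F208383)) (tt N12761 F208378) (tt N12741 F208379) (tt N11854 F208380) (tt N12746 F208381) (tt N16048 D48818))
theorem Q13888 : ∀ i, i < 13888 → P i := stepQ 13887 Q13887 (allL N13887 (tt N13092 F208384) (tt N12146 F208385) (tt N13072 F208386) (tt N11779 F208387) (tt N11776 (iv D46657)) (tt N16049 D48819) (tt N13074 F208388) (tt N11855 F208389) (tt N16045 (iv F218065)) (tt N16050 D48820))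
theorem Q13889 : ∀ i, i < 13889 → P i := stepQ 13888 Q13888 (allL N13888 (tt N16038 (iv F218003)) (tt N12147 F208390) (tt N16048 (iv F218081)) (tt N11777 F208391) (tt N16050 (iv F218098)) (tt N12763 F208392) (tt N16047 (iv F218077)) (tt N11856 F208393) (tt N16051 D48821) (tt N11776 (iv D46658)))
theorem Q13890 : ∀ i, i < 13890 → P i := stepQ 13889 Q13889 (allL N13889 (tt N13106 F208394) (tt N12151 F208395) (tt N13079 F208396) (tt N16049 (iv F218090)) (tt N11781 F208397) (tt N11779 (iv D46659)) (tt N16052 D48822) (tt N11860 F208398) (tt N13889 F208399) (tt N16053 D48823))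
theorem Q13891 : ∀ i, i < 13891 → P i := stepQ 13890 Q13890 (allL N13890 (tt N13111 F208400) (tt N12152 F208401) (tt N13082 F208402) (tt N16050 (iv F218097)) (tt N11780 F208403) (tt N16053 (iv F218115)) (tt N13083 F208404) (tt N11861 F208405) (tt N16054 D48824) (tt N11779 (iv D46660)))
theorem Q13892 : ∀ i, i < 13892 → P i := stepQ 13891 Q13891 (allL N13891 (tt N13584 F208406) (tt N12153 F208407) (tt N13571 F208408) (tt N16033 (iv F217965)) (tt N16054 (iv F218120)) (tt N11783 F208409) (tt N13572 F208410) (tt N11862 F208411) (tt N11780 (iv D46661)) (tt N13891 F208412))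
theorem Q13893 : ∀ i, i < 13893 → P i := stepQ 13892 Q13892 (allL N13892 (tt N16039 (iv F218010)) (tt N12154 F208413) (tt N15977 (iv F217564)) (tt N12766 F208414) (tt N16052 (iv F218107)) (tt N13892 F208415) (tt N11781 (iv D46662)) (tt N16055 D48825) (tt N13892 F208416) (tt N16056 D48826))
theorem Q13894 : ∀ i, i < 13894 → P i := stepQ 13893 Q13893 (allL N13893 (tt N16040 (iv F218018)) (tt N12155 F208417) (tt N15978 (iv F217572)) (tt N12767 F208418) (tt N16053 (iv F218114)) (tt N11782 F208419) (tt N16056 (iv F218136)) (tt N11864 F208420) (tt N16057 D48827) (tt N11781 (iv D46663)))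
theorem Q13895 : ∀ i, i < 13895 → P i := stepQ 13894 Q13894 (allL N13894 (tt N16041 (iv F218025)) (tt N12156 F208421) (tt N15979 (iv F217579)) (tt N16037 (iv F217997)) (tt N11783 F208422) (tt N16057 (iv F218141)) (tt N13894 F208423) (tt N11865 F208424) (tt N11782 (iv D46664)) (tt N13894 F208425))
theorem Q13896 : ∀ i, i < 13896 → P i := stepQ 13895 Q13895 (allL N13895 (tt N12757 F208426) (tt N13059 F208427) (tt N11786 F208428) (tt N16048 (iv F218082)) (tt N12743 F208429) (tt N12773 F208430) (tt N12742 F208431) (tt N11874 F208432) (tt N12760 F208433) (tt N11785 (iv D46665)))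
theorem Q13897 : ∀ i, i < 13897 → P i := stepQ 13896 Q13896 (allL N13896 (tt N12817 F208434) (tt N12231 F208435) (tt N12804 F208436) (tt N11789 F208437) (tt N12927 (iv F208440)) (tt N11787 (iv D46666)) (tt N12776 F208438) (tt N16058 D48828) (tt N16059 D48829) (tt N11844 F208439))
theorem Q13898 : ∀ i, i < 13898 → P i := stepQ 13897 Q13897 (allL N13897 (tt N13767 F208441) (tt N12232 F208442) (tt N13616 F208443) (tt N11790 F208444) (tt N13897 F208445) (tt N16058 (iv F218150)) (tt N13614 F208446) (tt N11787 (iv D46667)) (tt N13629 (iv F208448)) (tt N11845 F208447))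
theorem Q13899 : ∀ i, i < 13899 → P i := stepQ 13898 Q13898 (allL N13898 (tt N13766 F208449) (tt N12233 F208450) (tt N13633 F208451) (tt N16060 D48830) (tt N13898 F208452) (tt N16059 (iv F218158)) (tt N11788 F208453) (tt N13629 F208454) (tt N11787 (iv D46668)) (tt N16061 D48831))
theorem Q13900 : ∀ i, i < 13900 → P i := stepQ 13899 Q13899 (allL N13899 (tt N13224 F208455) (tt N12234 F208456) (tt N16062 D48832) (tt N11788 (iv D46669)) (tt N16063 D48833) (tt N12778 F208457) (tt N16060 (iv F218164)) (tt N16021 (iv F217881)) (tt N11792 F208458) (tt N16064 D48834))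
theorem Q13901 : ∀ i, i < 13901 → P i := stepQ 13900 Q13900 (allL N13900 (tt N12850 F208459) (tt N12235 F208460) (tt N12811 F208461) (tt N16064 (iv F218189)) (tt N13900 F208462) (tt N12779 F208463) (tt N16061 (iv F218171)) (tt N16022 (iv F217889)) (tt N11848 F208464) (tt N11788 (iv D46670)))
theorem Q13902 : ∀ i, i < 13902 → P i := stepQ 13901 Q13901 (allL N13901 (tt N13768 F208465) (tt N12236 F208466) (tt N11800 F208467) (tt N16058 (iv F218148)) (tt N11885 F208468) (tt N11790 F208469) (tt N16065 D48835) (tt N11789 (iv D46671)) (tt N16066 D48836) (tt N11849 F208470))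
theorem Q13903 : ∀ i, i < 13903 → P i := stepQ 13902 Q13902 (allL N13902 (tt N13250 F208471) (tt N12237 F208472) (tt N11801 F208473) (tt N16067 D48837) (tt N11886 F208474) (tt N11791 F208475) (tt N12781 F208476) (tt N16066 (iv F218206)) (tt N11789 (iv D46672)) (tt N16068 D48838))
theorem Q13904 : ∀ i, i < 13904 → P i := stepQ 13903 Q13903 (allL N13903 (tt N13252 F208477) (tt N12238 F208478) (tt N11802 F208479) (tt N16069 D48839) (tt N11794 F208480) (tt N16066 (iv F218204)) (tt N16023 (iv F217897)) (tt N11791 F208481) (tt N11790 (iv D46673)) (tt N16070 D48840))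
theorem Q13905 : ∀ i, i < 13905 → P i := stepQ 13904 Q13904 (allL N13904 (tt N13247 F208482) (tt N12239 F208483) (tt N16071 D48841) (tt N11791 (iv D46674)) (tt N16072 D48842) (tt N16067 (iv F218209)) (tt N11792 F208484) (tt N16069 (iv F218222)) (tt N16060 (iv F218166)) (tt N16073 D48843))
theorem Q13906 : ∀ i, i < 13906 → P i := stepQ 13905 Q13905 (allL N13905 (tt N13253 F208485) (tt N12240 F208486) (tt N11804 F208487) (tt N16073 (iv F218242)) (tt N11796 F208488) (tt N16068 (iv F218215)) (tt N11793 F208489) (tt N16070 (iv F218229)) (tt N11853 F208490) (tt N11791 (iv D46675)))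
theorem Q13907 : ∀ i, i < 13907 → P i := stepQ 13906 Q13906 (allL N13906 (tt N13244 F208491) (tt N16074 D48844) (tt N11792 (iv D46676)) (tt N11805 F208492) (tt N16075 D48845) (tt N12784 F208493) (tt N16071 (iv F218233)) (tt N16026 (iv F217919)) (tt N16062 (iv F218179)) (tt N16076 D48846))
theorem Q13908 : ∀ i, i < 13908 → P i := stepQ 13907 Q13907 (allL N13907 (tt N12340 F208494) (tt N12242 F208495) (tt N16075 (iv F218249)) (tt N11797 F208496) (tt N11792 (iv D46677)) (tt N12300 F208497) (tt N16072 (iv F218239)) (tt N16027 (iv F217926)) (tt N16063 (iv F218185)) (tt N16077 D48847))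
theorem Q13909 : ∀ i, i < 13909 → P i := stepQ 13908 Q13908 (allL N13908 (tt N13248 F208498) (tt N12243 F208499) (tt N16076 (iv F218253)) (tt N11793 F208500) (tt N16077 (iv F218259)) (tt N12785 F208501) (tt N16073 (iv F218243)) (tt N16028 (iv F217931)) (tt N16078 D48848) (tt N11792 (iv D46678)))
theorem Q13910 : ∀ i, i < 13910 → P i := stepQ 13909 Q13909 (allL N13909 (tt N12351 F208502) (tt N12244 F208503) (tt N13909 F208504) (tt N11794 (iv D46679)) (tt N16079 D48849) (tt N11893 F208505) (tt N16029 (iv F217936)) (tt N11795 F208506) (tt N13909 F208507) (tt N16080 D48850))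
theorem Q13911 : ∀ i, i < 13911 → P i := stepQ 13910 Q13910 (allL N13910 (tt N13254 F208508) (tt N12245 F208509) (tt N11807 F208510) (tt N16080 (iv F218274)) (tt N16070 (iv F218227)) (tt N11894 F208511) (tt N13603 F208512) (tt N11796 F208513) (tt N11857 F208514) (tt N11794 (iv D46680)))
theorem Q13912 : ∀ i, i < 13912 → P i := stepQ 13911 Q13911 (allL N13911 (tt N12348 F208515) (tt N12246 F208516) (tt N13911 F208517) (tt N16072 (iv F218238)) (tt N11795 (iv D46681)) (tt N16081 D48851) (tt N11797 F208518) (tt N16079 (iv F218269)) (tt N13911 F208519) (tt N16082 D48852))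
theorem Q13913 : ∀ i, i < 13913 → P i := stepQ 13912 Q13912 (allL N13912 (tt N12352 F208520) (tt N12247 F208521) (tt N13912 F208522) (tt N11796 F208523) (tt N16082 (iv F218288)) (tt N11896 F208524) (tt N11798 F208525) (tt N16080 (iv F218277)) (tt N16083 D48853) (tt N11795 (iv D46682)))
theorem Q13914 : ∀ i, i < 13914 → P i := stepQ 13913 Q13913 (allL N13913 (tt N12349 F208526) (tt N12249 F208527) (tt N13913 F208528) (tt N16077 (iv F218258)) (tt N11798 F208529) (tt N12306 F208530) (tt N16082 (iv F218289)) (tt N16032 (iv F217961)) (tt N16084 D48854) (tt N11797 (iv D46683)))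
theorem Q13915 : ∀ i, i < 13915 → P i := stepQ 13914 Q13914 (allL N13914 (tt N12353 F208531) (tt N12250 F208532) (tt N13914 F208533) (tt N11862 F208534) (tt N16084 (iv F218301)) (tt N11799 F208535) (tt N16083 (iv F218295)) (tt N16033 (iv F217968)) (tt N11798 (iv D46684)) (tt N13914 F208536))
theorem Q13916 : ∀ i, i < 13916 → P i := stepQ 13915 Q13915 (allL N13915 (tt N13797 F208537) (tt N11808 F208538) (tt N16065 (iv F218193)) (tt N12734 F208539) (tt N11899 F208540) (tt N12736 F208541) (tt N11800 (iv D46685)) (tt N12735 F208542) (tt N12839 (iv F208544)) (tt N11866 F208543))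
theorem Q13917 : ∀ i, i < 13917 → P i := stepQ 13916 Q13916 (allL N13916 (tt N13637 F208545) (tt N11809 F208546) (tt N16066 (iv F218202)) (tt N12838 F208547) (tt N11900 F208548) (tt N11802 F208549) (tt N12839 F208550) (tt N11801 F208551) (tt N11800 (iv D46686)) (tt N16085 D48855))
theorem Q13918 : ∀ i, i < 13918 → P i := stepQ 13917 Q13917 (allL N13917 (tt N13621 F208552) (tt N11810 F208553) (tt N16086 D48856) (tt N11801 (iv D46687)) (tt N12005 (iv F208558)) (tt N11803 F208554) (tt N11867 F208555) (tt N12838 F208556) (tt N11866 F208557) (tt N16087 D48857))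
theorem Q13919 : ∀ i, i < 13919 → P i := stepQ 13918 Q13918 (allL N13918 (tt N13638 F208559) (tt N11811 F208560) (tt N16068 (iv F218213)) (tt N16087 (iv F218321)) (tt N11902 F208561) (tt N11804 F208562) (tt N12787 F208563) (tt N16085 (iv F218310)) (tt N11869 F208564) (tt N11801 (iv D46688)))
theorem Q13920 : ∀ i, i < 13920 → P i := stepQ 13919 Q13919 (allL N13919 (tt N13633 F208565) (tt N11812 F208566) (tt N13766 (iv F208572)) (tt N11802 (iv D46689)) (tt N13919 F208567) (tt N12838 F208568) (tt N12738 F208569) (tt N11803 F208570) (tt N12737 F208571) (tt N12848 (iv F208573)))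
theorem Q13921 : ∀ i, i < 13921 → P i := stepQ 13920 Q13920 (allL N13920 (tt N13623 F208574) (tt N11813 F208575) (tt N16070 (iv F218226)) (tt N12848 F208576) (tt N11807 F208577) (tt N16085 (iv F218308)) (tt N12789 F208578) (tt N11804 F208579) (tt N11870 F208580) (tt N11802 (iv D46690)))
theorem Q13922 : ∀ i, i < 13922 → P i := stepQ 13921 Q13921 (allL N13921 (tt N13629 F208581) (tt N16088 D48858) (tt N11803 (iv D46691)) (tt N16071 (iv F218232)) (tt N13921 F208582) (tt N16086 (iv F218315)) (tt N11805 F208583) (tt N13766 F208584) (tt N13767 F208585) (tt N16089 D48859))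
theorem Q13923 : ∀ i, i < 13923 → P i := stepQ 13922 Q13922 (allL N13922 (tt N13634 F208586) (tt N11815 F208587) (tt N16089 (iv F218334)) (tt N11804 F208588) (tt N13922 F208589) (tt N16087 (iv F218323)) (tt N11806 F208590) (tt N12848 F208591) (tt N12845 F208592) (tt N11803 (iv D46692)))
theorem Q13924 : ∀ i, i < 13924 → P i := stepQ 13923 Q13923 (allL N13923 (tt N16090 D48860) (tt N11805 (iv D46693)) (tt N11816 F208593) (tt N16074 (iv F218245)) (tt N13923 F208594) (tt N12142 F208595) (tt N16088 (iv F218330)) (tt N12141 F208596) (tt N12140 F208597) (tt N16091 D48861))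
theorem Q13925 : ∀ i, i < 13925 → P i := stepQ 13924 Q13924 (allL N13924 (tt N13630 F208598) (tt N16091 (iv F218345)) (tt N11806 F208599) (tt N16076 (iv F218254)) (tt N13924 F208600) (tt N12788 F208601) (tt N16089 (iv F218336)) (tt N16034 (iv F217976)) (tt N16092 D48862) (tt N11805 (iv D46694)))
theorem Q13926 : ∀ i, i < 13926 → P i := stepQ 13925 Q13925 (allL N13925 (tt N13635 F208602) (tt N11818 F208603) (tt N16092 (iv F218351)) (tt N11875 F208604) (tt N13925 F208605) (tt N12789 F208606) (tt N12845 F208607) (tt N12771 F208608) (tt N11806 (iv D46695)) (tt N12769 F208609))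
theorem Q13927 : ∀ i, i < 13927 → P i := stepQ 13926 Q13926 (allL N13926 (tt N13926 F208610) (tt N16085 (iv F218305)) (tt N12267 F208611) (tt N12851 F208612) (tt N11912 F208613) (tt N11813 F208614) (tt N12852 F208615) (tt N11811 F208616) (tt N11876 F208617) (tt N11809 (iv D46696)))
theorem Q13928 : ∀ i, i < 13928 → P i := stepQ 13927 Q13927 (allL N13927 (tt N13927 F208618) (tt N16087 (iv F218320)) (tt N12368 F208619) (tt N11811 F208620) (tt N12019 F208621) (tt N11815 F208622) (tt N11876 F208623) (tt N12851 F208624) (tt N12852 F208625) (tt N11810 (iv D46697)))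
theorem Q13929 : ∀ i, i < 13929 → P i := stepQ 13928 Q13928 (allL N13928 (tt N16093 D48863) (tt N11814 (iv D46698)) (tt N16088 (iv F218327)) (tt N12273 F208626) (tt N13928 F208627) (tt N12354 F208628) (tt N11816 F208629) (tt N13104 F208630) (tt N12157 F208631) (tt N16094 D48864))
theorem Q13930 : ∀ i, i < 13930 → P i := stepQ 13929 Q13929 (allL N13929 (tt N13929 F208632) (tt N16094 (iv F218365)) (tt N11815 F208633) (tt N12274 F208634) (tt N13929 F208635) (tt N12368 F208636) (tt N11817 F208637) (tt N12860 F208638) (tt N12857 F208639) (tt N11814 (iv D46699)))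
theorem Q13931 : ∀ i, i < 13931 → P i := stepQ 13930 Q13930 (allL N13930 (tt N11816 (iv D46700)) (tt N13930 F208640) (tt N16090 (iv F218340)) (tt N12276 F208641) (tt N13930 F208642) (tt N12129 F208643) (tt N16093 (iv F218362)) (tt N12128 F208644) (tt N12127 F208645) (tt N16095 D48865))
theorem Q13932 : ∀ i, i < 13932 → P i := stepQ 13931 Q13931 (allL N13931 (tt N16095 (iv F218372)) (tt N11817 F208646) (tt N16091 (iv F218346)) (tt N12277 F208647) (tt N13931 F208648) (tt N12159 F208649) (tt N16094 (iv F218369)) (tt N12158 F208650) (tt N16096 D48866) (tt N11816 (iv D46701)))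
theorem Q13933 : ∀ i, i < 13933 → P i := stepQ 13932 Q13932 (allL N13932 (tt N13932 F208651) (tt N16096 (iv F218378)) (tt N11818 F208652) (tt N13120 (iv F208658)) (tt N13932 F208653) (tt N12103 F208654) (tt N12857 F208655) (tt N12101 F208656) (tt N11817 (iv D46702)) (tt N12100 F208657))
theorem Q13934 : ∀ i, i < 13934 → P i := stepQ 13933 Q13933 (allL N13933 (tt N12280 F208659) (tt N11828 F208660) (tt N12739 F208661) (tt N11820 F208662) (tt N13933 F208663) (tt N13155 F208664) (tt N11819 (iv D46703)) (tt N16097 D48867) (tt N12846 F208665) (tt N13087 F208666))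
theorem Q13935 : ∀ i, i < 13935 → P i := stepQ 13934 Q13934 (allL N13934 (tt N12282 F208667) (tt N11829 F208668) (tt N13934 F208669) (tt N13155 F208670) (tt N11926 F208671) (tt N11820 (iv D46704)) (tt N12790 F208672) (tt N16098 D48868) (tt N16099 D48869) (tt N13216 F208673))
theorem Q13936 : ∀ i, i < 13936 → P i := stepQ 13935 Q13935 (allL N13935 (tt N12283 F208674) (tt N11830 F208675) (tt N13935 F208676) (tt N16097 (iv F218388)) (tt N11822 F208677) (tt N16098 (iv F218399)) (tt N13611 F208678) (tt N11820 (iv D46705)) (tt N13617 (iv F208680)) (tt N13758 F208679))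
theorem Q13937 : ∀ i, i < 13937 → P i := stepQ 13936 Q13936 (allL N13936 (tt N12284 F208681) (tt N11831 F208682) (tt N13936 F208683) (tt N16100 D48870) (tt N11823 F208684) (tt N16099 (iv F218407)) (tt N11821 F208685) (tt N13617 F208686) (tt N11820 (iv D46706)) (tt N16101 D48871))
theorem Q13938 : ∀ i, i < 13938 → P i := stepQ 13937 Q13937 (allL N13937 (tt N12285 F208687) (tt N11832 F208688) (tt N13221 (iv F208691)) (tt N11821 (iv D46707)) (tt N16102 D48872) (tt N12792 F208689) (tt N16100 (iv F218413)) (tt N16035 (iv F217983)) (tt N12826 F208690) (tt N16103 D48873))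
theorem Q13939 : ∀ i, i < 13939 → P i := stepQ 13938 Q13938 (allL N13938 (tt N12286 F208692) (tt N11833 F208693) (tt N13938 F208694) (tt N16103 (iv F218435)) (tt N11825 F208695) (tt N12793 F208696) (tt N16101 (iv F218421)) (tt N16036 (iv F217992)) (tt N12835 F208697) (tt N11821 (iv D46708)))
theorem Q13940 : ∀ i, i < 13940 → P i := stepQ 13939 Q13939 (allL N13939 (tt N12288 F208698) (tt N11834 F208699) (tt N13939 F208700) (tt N13646 F208701) (tt N16101 (iv F218420)) (tt N11933 F208702) (tt N11825 F208703) (tt N13618 F208704) (tt N12837 F208705) (tt N11823 (iv D46709)))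
theorem Q13941 : ∀ i, i < 13941 → P i := stepQ 13940 Q13940 (allL N13940 (tt N12248 F208706) (tt N11835 F208707) (tt N13119 F208708) (tt N16102 (iv F218427)) (tt N11824 (iv D46710)) (tt N12220 F208709) (tt N13265 F208710) (tt N13110 F208711) (tt N13940 F208712) (tt N16104 D48874))
theorem Q13942 : ∀ i, i < 13942 → P i := stepQ 13941 Q13941 (allL N13941 (tt N12252 F208713) (tt N11836 F208714) (tt N13595 F208715) (tt N11825 F208716) (tt N16104 (iv F218440)) (tt N11827 F208717) (tt N13646 F208718) (tt N13583 F208719) (tt N16105 D48875) (tt N11824 (iv D46711)))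
theorem Q13943 : ∀ i, i < 13943 → P i := stepQ 13942 Q13942 (allL N13942 (tt N12186 F208720) (tt N13588 F208721) (tt N11827 F208722) (tt N13942 F208723) (tt N12174 F208724) (tt N13595 F208725) (tt N11937 F208726) (tt N13591 F208727) (tt N16106 D48876) (tt N11826 (iv D46712)))
theorem Q13944 : ∀ i, i < 13944 → P i := stepQ 13943 Q13943 (allL N13943 (tt N12253 F208728) (tt N11839 F208729) (tt N16106 (iv F218454)) (tt N11865 F208730) (tt N12222 F208731) (tt N16105 (iv F218448)) (tt N11938 F208732) (tt N16037 (iv F218001)) (tt N11827 (iv D46713)) (tt N13943 F208733))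
theorem Q13945 : ∀ i, i < 13945 → P i := stepQ 13944 Q13944 (allL N13944 (tt N11844 F208734) (tt N13155 F208735) (tt N12735 F208736) (tt N11829 F208737) (tt N12877 (iv F208741)) (tt N11828 (iv D46714)) (tt N12780 F208738) (tt N16065 (iv F218197)) (tt N12841 F208739) (tt N12817 F208740))
theorem Q13946 : ∀ i, i < 13946 → P i := stepQ 13945 Q13945 (allL N13945 (tt N11845 F208742) (tt N16097 (iv F218386)) (tt N12736 F208743) (tt N11830 F208744) (tt N13945 F208745) (tt N16065 (iv F218196)) (tt N13613 F208746) (tt N11828 (iv D46715)) (tt N12844 F208747) (tt N13767 F208748))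
theorem Q13947 : ∀ i, i < 13947 → P i := stepQ 13946 Q13946 (allL N13946 (tt N11849 F208749) (tt N16098 (iv F218395)) (tt N11840 F208750) (tt N16065 (iv F218194)) (tt N11944 F208751) (tt N11830 F208752) (tt N16058 (iv F218151)) (tt N11829 (iv D46716)) (tt N13619 (iv F208754)) (tt N13768 F208753))
theorem Q13948 : ∀ i, i < 13948 → P i := stepQ 13947 Q13947 (allL N13947 (tt N11850 F208755) (tt N16099 (iv F218404)) (tt N11841 F208756) (tt N16107 D48877) (tt N11945 F208757) (tt N11831 F208758) (tt N12795 F208759) (tt N13619 F208760) (tt N11829 (iv D46717)) (tt N16108 D48878))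
theorem Q13949 : ∀ i, i < 13949 → P i := stepQ 13948 Q13948 (allL N13948 (tt N11852 F208761) (tt N16100 (iv F218411)) (tt N12813 F208762) (tt N11831 (iv D46718)) (tt N13233 F208763) (tt N16107 (iv F218462)) (tt N11832 F208764) (tt N13236 F208765) (tt N12823 F208766) (tt N16109 D48879))
theorem Q13950 : ∀ i, i < 13950 → P i := stepQ 13949 Q13949 (allL N13949 (tt N11853 F208767) (tt N16101 (iv F218418)) (tt N11842 F208768) (tt N16109 (iv F218475)) (tt N11834 F208769) (tt N16108 (iv F218469)) (tt N11833 F208770) (tt N13620 F208771) (tt N13253 F208772) (tt N11831 (iv D46719)))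
theorem Q13951 : ∀ i, i < 13951 → P i := stepQ 13950 Q13950 (allL N13950 (tt N11855 F208773) (tt N16102 (iv F218425)) (tt N12815 F208774) (tt N11835 F208775) (tt N11832 (iv D46720)) (tt N16110 D48880) (tt N13233 F208776) (tt N13092 F208777) (tt N12827 F208778) (tt N16111 D48881))
theorem Q13952 : ∀ i, i < 13952 → P i := stepQ 13951 Q13951 (allL N13951 (tt N11856 F208779) (tt N16103 (iv F218433)) (tt N12816 F208780) (tt N11833 F208781) (tt N16111 (iv F218489)) (tt N12799 F208782) (tt N16109 (iv F218477)) (tt N16038 (iv F218009)) (tt N16112 D48882) (tt N11832 (iv D46721)))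
theorem Q13953 : ∀ i, i < 13953 → P i := stepQ 13952 Q13952 (allL N13952 (tt N11860 F208783) (tt N12220 F208784) (tt N13105 F208785) (tt N16110 (iv F218482)) (tt N11837 F208786) (tt N11835 (iv D46722)) (tt N16113 D48883) (tt N13106 F208787) (tt N13952 F208788) (tt N16114 D48884))
theorem Q13954 : ∀ i, i < 13954 → P i := stepQ 13953 Q13953 (allL N13953 (tt N11861 F208789) (tt N16104 (iv F218438)) (tt N13109 F208790) (tt N16111 (iv F218488)) (tt N11836 F208791) (tt N16114 (iv F218508)) (tt N13266 F208792) (tt N13111 F208793) (tt N16115 D48885) (tt N11835 (iv D46723)))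
theorem Q13955 : ∀ i, i < 13955 → P i := stepQ 13954 Q13954 (allL N13954 (tt N11862 F208794) (tt N16105 (iv F218445)) (tt N13582 F208795) (tt N12353 F208796) (tt N16115 (iv F218513)) (tt N11839 F208797) (tt N13647 F208798) (tt N13584 F208799) (tt N11836 (iv D46724)) (tt N13954 F208800))
theorem Q13956 : ∀ i, i < 13956 → P i := stepQ 13955 Q13955 (allL N13955 (tt N11863 F208801) (tt N12218 F208802) (tt N15980 (iv F217586)) (tt N12208 F208803) (tt N16113 (iv F218500)) (tt N11958 F208804) (tt N11837 (iv D46725)) (tt N16116 D48886) (tt N13955 F208805) (tt N16117 D48887))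
theorem Q13957 : ∀ i, i < 13957 → P i := stepQ 13956 Q13956 (allL N13956 (tt N11864 F208806) (tt N12221 F208807) (tt N15981 (iv F217594)) (tt N12209 F208808) (tt N16114 (iv F218507)) (tt N11838 F208809) (tt N16117 (iv F218530)) (tt N16040 (iv F218024)) (tt N16118 D48888) (tt N11837 (iv D46726)))
theorem Q13958 : ∀ i, i < 13958 → P i := stepQ 13957 Q13957 (allL N13957 (tt N11865 F208810) (tt N12222 F208811) (tt N15982 (iv F217602)) (tt N12253 F208812) (tt N11839 F208813) (tt N16118 (iv F218536)) (tt N11960 F208814) (tt N16041 (iv F218031)) (tt N11838 (iv D46727)) (tt N13957 F208815))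
theorem Q13959 : ∀ i, i < 13959 → P i := stepQ 13958 Q13958 (allL N13958 (tt N11866 F208816) (tt N13958 F208817) (tt N16058 (iv F218147)) (tt N13795 F208818) (tt N11961 F208819) (tt N13616 F208820) (tt N11840 (iv D46728)) (tt N12804 F208821) (tt N13621 F208822) (tt N13797 F208823))
theorem Q13960 : ∀ i, i < 13960 → P i := stepQ 13959 Q13959 (allL N13959 (tt N11869 F208824) (tt N13959 F208825) (tt N16108 (iv F218467)) (tt N13636 F208826) (tt N11964 F208827) (tt N11842 F208828) (tt N12807 F208829) (tt N13622 F208830) (tt N13638 F208831) (tt N11841 (iv D46729)))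
theorem Q13961 : ∀ i, i < 13961 → P i := stepQ 13960 Q13960 (allL N13960 (tt N11875 F208832) (tt N13960 F208833) (tt N12779 F208834) (tt N13635 F208835) (tt N12755 F208836) (tt N12811 F208837) (tt N12809 F208838) (tt N12753 F208839) (tt N11843 (iv D46730)) (tt N12730 F208840))
theorem Q13962 : ∀ i, i < 13962 → P i := stepQ 13961 Q13961 (allL N13961 (tt N16065 (iv F218191)) (tt N12320 F208841) (tt N13797 F208842) (tt N11849 F208843) (tt N13783 F208844) (tt N11845 F208845) (tt N13768 F208846) (tt N11844 (iv D46731)) (tt N16119 D48889) (tt N16058 (iv F218152)))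
theorem Q13963 : ∀ i, i < 13963 → P i := stepQ 13962 Q13962 (allL N13962 (tt N12841 F208847) (tt N12321 F208848) (tt N12806 F208849) (tt N16120 D48890) (tt N13481 F208850) (tt N11846 F208851) (tt N12812 F208852) (tt N16119 (iv F218544)) (tt N11844 (iv D46732)) (tt N16121 D48891))
theorem Q13964 : ∀ i, i < 13964 → P i := stepQ 13963 Q13963 (allL N13963 (tt N12844 F208853) (tt N12322 F208854) (tt N12808 F208855) (tt N16122 D48892) (tt N13963 F208856) (tt N16119 (iv F218542)) (tt N16042 (iv F218039)) (tt N11846 F208857) (tt N11845 (iv D46733)) (tt N16123 D48893))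
theorem Q13965 : ∀ i, i < 13965 → P i := stepQ 13964 Q13964 (allL N13964 (tt N12823 F208858) (tt N12323 F208859) (tt N12796 F208860) (tt N11846 (iv D46734)) (tt N16124 D48894) (tt N16120 (iv F218548)) (tt N11847 F208861) (tt N16122 (iv F218561)) (tt N11852 F208862) (tt N16125 D48895))
theorem Q13966 : ∀ i, i < 13966 → P i := stepQ 13965 Q13965 (allL N13965 (tt N12847 F208863) (tt N12324 F208864) (tt N12810 F208865) (tt N16125 (iv F218581)) (tt N13965 F208866) (tt N16121 (iv F218555)) (tt N11848 F208867) (tt N16123 (iv F218569)) (tt N16061 (iv F218173)) (tt N11846 (iv D46735)))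
theorem Q13967 : ∀ i, i < 13967 → P i := stepQ 13966 Q13966 (allL N13966 (tt N12827 F208868) (tt N12326 F208869) (tt N12798 F208870) (tt N13966 F208871) (tt N11847 (iv D46736)) (tt N16126 D48896) (tt N16124 (iv F218575)) (tt N16045 (iv F218064)) (tt N11855 F208872) (tt N16127 D48897))
theorem Q13968 : ∀ i, i < 13968 → P i := stepQ 13967 Q13967 (allL N13967 (tt N12828 F208873) (tt N12327 F208874) (tt N12799 F208875) (tt N11848 F208876) (tt N16127 (iv F218594)) (tt N12816 F208877) (tt N16125 (iv F218582)) (tt N16046 (iv F218071)) (tt N16128 D48898) (tt N11847 (iv D46737)))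
theorem Q13969 : ∀ i, i < 13969 → P i := stepQ 13968 Q13968 (allL N13968 (tt N16058 (iv F218145)) (tt N12328 F208878) (tt N11866 F208879) (tt N13768 F208880) (tt N11979 F208881) (tt N13767 F208882) (tt N11849 (iv D46738)) (tt N12817 F208883) (tt N16086 (iv F218318)) (tt N16065 (iv F218198)))
theorem Q13970 : ∀ i, i < 13970 → P i := stepQ 13969 Q13969 (allL N13969 (tt N13619 F208884) (tt N12329 F208885) (tt N11867 F208886) (tt N16129 D48899) (tt N11980 F208887) (tt N11851 F208888) (tt N16086 (iv F218316)) (tt N11850 F208889) (tt N11849 (iv D46739)) (tt N16130 D48900))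
theorem Q13971 : ∀ i, i < 13971 → P i := stepQ 13970 Q13970 (allL N13970 (tt N16107 (iv F218460)) (tt N12330 F208890) (tt N16131 D48901) (tt N11850 (iv D46740)) (tt N16132 D48902) (tt N11852 F208891) (tt N12819 F208892) (tt N16129 (iv F218604)) (tt N16120 (iv F218550)) (tt N16133 D48903))
theorem Q13972 : ∀ i, i < 13972 → P i := stepQ 13971 Q13971 (allL N13971 (tt N16108 (iv F218466)) (tt N12331 F208893) (tt N11869 F208894) (tt N16133 (iv F218622)) (tt N11982 F208895) (tt N11853 F208896) (tt N12820 F208897) (tt N16130 (iv F218610)) (tt N16068 (iv F218217)) (tt N11850 (iv D46741)))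
theorem Q13973 : ∀ i, i < 13973 → P i := stepQ 13972 Q13972 (allL N13972 (tt N13236 F208898) (tt N12332 F208899) (tt N12782 F208900) (tt N11851 (iv D46742)) (tt N13199 F208901) (tt N16129 (iv F218603)) (tt N12784 F208902) (tt N11852 F208903) (tt N16122 (iv F218562)) (tt N16134 D48904))
theorem Q13974 : ∀ i, i < 13974 → P i := stepQ 13973 Q13973 (allL N13973 (tt N13620 F208904) (tt N12333 F208905) (tt N11870 F208906) (tt N16134 (iv F218628)) (tt N11857 F208907) (tt N16130 (iv F218609)) (tt N12788 F208908) (tt N11853 F208909) (tt N16070 (iv F218230)) (tt N11851 (iv D46743)))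
theorem Q13975 : ∀ i, i < 13975 → P i := stepQ 13974 Q13974 (allL N13974 (tt N12813 F208910) (tt N13159 (iv F208915)) (tt N11852 (iv D46744)) (tt N11871 F208911) (tt N13197 (iv F208916)) (tt N16131 (iv F218613)) (tt N11854 F208912) (tt N12782 F208913) (tt N12796 F208914) (tt N16135 D48905))
theorem Q13976 : ∀ i, i < 13976 → P i := stepQ 13975 Q13975 (allL N13975 (tt N13233 F208917) (tt N12335 F208918) (tt N13197 F208919) (tt N11858 F208920) (tt N11852 (iv D46745)) (tt N16136 D48906) (tt N11855 F208921) (tt N13199 F208922) (tt N16124 (iv F218577)) (tt N16137 D48907))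
theorem Q13977 : ∀ i, i < 13977 → P i := stepQ 13976 Q13976 (allL N13976 (tt N16109 (iv F218473)) (tt N12336 F208923) (tt N16135 (iv F218634)) (tt N11853 F208924) (tt N16137 (iv F218648)) (tt N16133 (iv F218623)) (tt N11856 F208925) (tt N16134 (iv F218631)) (tt N16138 D48908) (tt N11852 (iv D46746)))
theorem Q13978 : ∀ i, i < 13978 → P i := stepQ 13977 Q13977 (allL N13977 (tt N13153 F208926) (tt N11854 (iv D46747)) (tt N12337 F208927) (tt N11873 F208928) (tt N13129 (iv F208933)) (tt N12826 F208929) (tt N13159 F208930) (tt N13058 F208931) (tt N12792 F208932) (tt N16139 D48909))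
theorem Q13979 : ∀ i, i < 13979 → P i := stepQ 13978 Q13978 (allL N13978 (tt N12815 F208934) (tt N13129 F208935) (tt N11855 F208936) (tt N13071 F208937) (tt N11854 (iv D46748)) (tt N16140 D48910) (tt N13197 F208938) (tt N13072 F208939) (tt N12798 F208940) (tt N16141 D48911))
theorem Q13980 : ∀ i, i < 13980 → P i := stepQ 13979 Q13979 (allL N13979 (tt N12816 F208941) (tt N16139 (iv F218654)) (tt N11856 F208942) (tt N11874 F208943) (tt N16141 (iv F218672)) (tt N12828 F208944) (tt N16135 (iv F218637)) (tt N16048 (iv F218086)) (tt N16142 D48912) (tt N11854 (iv D46749)))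
theorem Q13981 : ∀ i, i < 13981 → P i := stepQ 13980 Q13980 (allL N13980 (tt N16110 (iv F218479)) (tt N12340 F208945) (tt N16140 (iv F218663)) (tt N11860 F208946) (tt N12829 F208947) (tt N11855 (iv D46750)) (tt N16143 D48913) (tt N16049 (iv F218092)) (tt N16126 (iv F218589)) (tt N16144 D48914))
theorem Q13982 : ∀ i, i < 13982 → P i := stepQ 13981 Q13981 (allL N13981 (tt N16111 (iv F218486)) (tt N12341 F208948) (tt N16141 (iv F218670)) (tt N11861 F208949) (tt N11856 F208950) (tt N16144 (iv F218686)) (tt N16137 (iv F218649)) (tt N16050 (iv F218100)) (tt N16145 D48915) (tt N11855 (iv D46751)))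
theorem Q13983 : ∀ i, i < 13983 → P i := stepQ 13982 Q13982 (allL N13982 (tt N16112 (iv F218492)) (tt N12342 F208951) (tt N16142 (iv F218676)) (tt N16078 (iv F218263)) (tt N16145 (iv F218688)) (tt N12831 F208952) (tt N16138 (iv F218652)) (tt N16051 (iv F218103)) (tt N11856 (iv D46752)) (tt N16128 (iv F218599)))
theorem Q13984 : ∀ i, i < 13984 → P i := stepQ 13983 Q13983 (allL N13983 (tt N13257 F208953) (tt N12345 F208954) (tt N13205 F208955) (tt N16136 (iv F218642)) (tt N11996 F208956) (tt N11858 (iv D46753)) (tt N16146 D48916) (tt N13207 F208957) (tt N13983 F208958) (tt N16147 D48917))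
theorem Q13985 : ∀ i, i < 13985 → P i := stepQ 13984 Q13984 (allL N13984 (tt N13266 F208959) (tt N12346 F208960) (tt N13210 F208961) (tt N16137 (iv F218647)) (tt N11859 F208962) (tt N16147 (iv F218699)) (tt N11861 F208963) (tt N13211 F208964) (tt N16148 D48918) (tt N11858 (iv D46754)))
theorem Q13986 : ∀ i, i < 13986 → P i := stepQ 13985 Q13985 (allL N13985 (tt N13647 F208965) (tt N12347 F208966) (tt N13606 F208967) (tt N16083 (iv F218293)) (tt N16148 (iv F218704)) (tt N11998 F208968) (tt N11862 F208969) (tt N13607 F208970) (tt N11859 (iv D46755)) (tt N13985 F208971))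
theorem Q13987 : ∀ i, i < 13987 → P i := stepQ 13986 Q13986 (allL N13986 (tt N16113 (iv F218497)) (tt N12348 F208972) (tt N15983 (iv F217611)) (tt N16143 (iv F218681)) (tt N11863 F208973) (tt N16146 (iv F218693)) (tt N11860 (iv D46756)) (tt N16149 D48919) (tt N13986 F208974) (tt N16150 D48920))
theorem Q13988 : ∀ i, i < 13988 → P i := stepQ 13987 Q13987 (allL N13987 (tt N16114 (iv F218504)) (tt N12349 F208975) (tt N15984 (iv F217619)) (tt N16144 (iv F218684)) (tt N11864 F208976) (tt N11861 F208977) (tt N16150 (iv F218716)) (tt N16053 (iv F218116)) (tt N16151 D48921) (tt N11860 (iv D46757)))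
theorem Q13989 : ∀ i, i < 13989 → P i := stepQ 13988 Q13988 (allL N13988 (tt N16115 (iv F218511)) (tt N12350 F208978) (tt N15985 (iv F217627)) (tt N16152 D48922) (tt N11862 F208979) (tt N16151 (iv F218721)) (tt N16148 (iv F218705)) (tt N16054 (iv F218122)) (tt N11861 (iv D46758)) (tt N13988 F208980))
theorem Q13990 : ∀ i, i < 13990 → P i := stepQ 13989 Q13989 (allL N13989 (tt N16116 (iv F218518)) (tt N12351 F208981) (tt N15986 (iv F217636)) (tt N12836 F208982) (tt N16149 (iv F218711)) (tt N12002 F208983) (tt N16055 (iv F218130)) (tt N11863 (iv D46759)) (tt N13989 F208984) (tt N16153 D48923))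
theorem Q13991 : ∀ i, i < 13991 → P i := stepQ 13990 Q13990 (allL N13990 (tt N16117 (iv F218526)) (tt N12352 F208985) (tt N15987 (iv F217643)) (tt N12837 F208986) (tt N16150 (iv F218715)) (tt N12003 F208987) (tt N11864 F208988) (tt N16153 (iv F218729)) (tt N16154 D48924) (tt N11863 (iv D46760)))
theorem Q13992 : ∀ i, i < 13992 → P i := stepQ 13991 Q13991 (allL N13991 (tt N16118 (iv F218531)) (tt N12353 F208989) (tt N15988 (iv F217649)) (tt N16105 (iv F218447)) (tt N16151 (iv F218720)) (tt N11865 F208990) (tt N16154 (iv F218734)) (tt N16057 (iv F218143)) (tt N11864 (iv D46761)) (tt N13991 F208991))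
theorem Q13993 : ∀ i, i < 13993 → P i := stepQ 13992 Q13992 (allL N13992 (tt N13622 F208992) (tt N11876 F208993) (tt N16130 (iv F218607)) (tt N12787 F208994) (tt N12007 F208995) (tt N11870 F208996) (tt N16087 (iv F218324)) (tt N11869 F208997) (tt N16085 (iv F218311)) (tt N11867 (iv D46762)))
theorem Q13994 : ∀ i, i < 13994 → P i := stepQ 13993 Q13993 (allL N13993 (tt N12812 F208998) (tt N13156 F208999) (tt N11868 (iv D46763)) (tt N16131 (iv F218612)) (tt N12878 F209000) (tt N11871 F209001) (tt N12841 F209002) (tt N12781 F209003) (tt N12780 F209004) (tt N16155 D48925))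
theorem Q13995 : ∀ i, i < 13995 → P i := stepQ 13994 Q13994 (allL N13994 (tt N13636 F209005) (tt N11877 F209006) (tt N16155 (iv F218739)) (tt N11869 F209007) (tt N12888 F209008) (tt N11872 F209009) (tt N12843 F209010) (tt N12787 F209011) (tt N12840 F209012) (tt N11868 (iv D46764)))
theorem Q13996 : ∀ i, i < 13996 → P i := stepQ 13995 Q13995 (allL N13995 (tt N12814 F209013) (tt N13160 F209014) (tt N11872 F209015) (tt N16135 (iv F218635)) (tt N12786 F209016) (tt N16155 (iv F218741)) (tt N11874 F209017) (tt N12783 F209018) (tt N12822 F209019) (tt N11871 (iv D46765)))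
theorem Q13997 : ∀ i, i < 13997 → P i := stepQ 13996 Q13996 (allL N13996 (tt N13186 F209020) (tt N11874 F209021) (tt N11879 F209022) (tt N16139 (iv F218656)) (tt N13063 F209023) (tt N12849 F209024) (tt N13160 F209025) (tt N13059 F209026) (tt N13091 F209027) (tt N11873 (iv D46766)))
theorem Q13998 : ∀ i, i < 13998 → P i := stepQ 13997 Q13997 (allL N13997 (tt N11879 F209028) (tt N13997 F209029) (tt N13186 F209030) (tt N12380 F209031) (tt N13055 F209032) (tt N12861 F209033) (tt N13143 F209034) (tt N13052 F209035) (tt N13081 F209036) (tt N11878 (iv D46767)))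
theorem Q13999 : ∀ i, i < 13999 → P i := stepQ 13998 Q13998 (allL N13998 (tt N12960 F209037) (tt N12437 F209038) (tt N13998 F209039) (tt N12927 F209040) (tt N11880 (iv D46768)) (tt N13998 F209041) (tt N12870 F209042) (tt N16156 D48926) (tt N16157 D48927) (tt N11970 F209043))
theorem Q14000 : ∀ i, i < 14000 → P i := stepQ 13999 Q13999 (allL N13999 (tt N13782 F209044) (tt N12438 F209045) (tt N13999 F209046) (tt N11885 F209047) (tt N16156 (iv F218749)) (tt N11881 F209048) (tt N16158 D48928) (tt N11880 (iv D46769)) (tt N16159 D48929) (tt N11971 F209049))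
theorem Q14001 : ∀ i, i < 14001 → P i := stepQ 14000 Q14000 (allL N14000 (tt N13778 F209050) (tt N12439 F209051) (tt N14000 F209052) (tt N16160 D48930) (tt N16157 (iv F218756)) (tt N11882 F209053) (tt N12872 F209054) (tt N16159 (iv F218771)) (tt N11880 (iv D46770)) (tt N16161 D48931))
theorem Q14002 : ∀ i, i < 14002 → P i := stepQ 14001 Q14001 (allL N14001 (tt N13780 F209055) (tt N12440 F209056) (tt N14001 F209057) (tt N16162 D48932) (tt N14001 F209058) (tt N16159 (iv F218770)) (tt N14001 F209059) (tt N11882 F209060) (tt N11881 (iv D46771)) (tt N16163 D48933))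
theorem Q14003 : ∀ i, i < 14003 → P i := stepQ 14002 Q14002 (allL N14002 (tt N13440 F209061) (tt N12441 F209062) (tt N16164 D48934) (tt N11882 (iv D46772)) (tt N16165 D48935) (tt N16160 (iv F218774)) (tt N11883 F209063) (tt N16162 (iv F218786)) (tt N11888 F209064) (tt N16166 D48936))
theorem Q14004 : ∀ i, i < 14004 → P i := stepQ 14003 Q14003 (allL N14003 (tt N13781 F209065) (tt N12442 F209066) (tt N14003 F209067) (tt N16166 (iv F218809)) (tt N14003 F209068) (tt N16161 (iv F218780)) (tt N11884 F209069) (tt N16163 (iv F218793)) (tt N11975 F209070) (tt N11882 (iv D46773)))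
theorem Q14005 : ∀ i, i < 14005 → P i := stepQ 14004 Q14004 (allL N14004 (tt N13437 F209071) (tt N12937 F209072) (tt N11883 (iv D46774)) (tt N14004 F209073) (tt N12936 (iv F209077)) (tt N12718 F209074) (tt N16164 (iv F218798)) (tt N14004 F209075) (tt N11890 F209076) (tt N16167 D48937))
theorem Q14006 : ∀ i, i < 14006 → P i := stepQ 14005 Q14005 (allL N14005 (tt N12566 F209078) (tt N12443 F209079) (tt N12936 F209080) (tt N14005 F209081) (tt N11883 (iv D46775)) (tt N12518 F209082) (tt N16165 (iv F218805)) (tt N14005 F209083) (tt N11891 F209084) (tt N16168 D48938))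
theorem Q14007 : ∀ i, i < 14007 → P i := stepQ 14006 Q14006 (allL N14006 (tt N13441 F209085) (tt N12444 F209086) (tt N16167 (iv F218813)) (tt N11884 F209087) (tt N16168 (iv F218822)) (tt N12876 F209088) (tt N16166 (iv F218810)) (tt N14006 F209089) (tt N16169 D48939) (tt N11883 (iv D46776)))
theorem Q14008 : ∀ i, i < 14008 → P i := stepQ 14007 Q14007 (allL N14007 (tt N13783 F209090) (tt N12445 F209091) (tt N11899 F209092) (tt N16158 (iv F218762)) (tt N16065 (iv F218195)) (tt N14007 F209093) (tt N11885 (iv D46777)) (tt N12877 F209094) (tt N16170 D48940) (tt N11979 F209095))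
theorem Q14009 : ∀ i, i < 14009 → P i := stepQ 14008 Q14008 (allL N14008 (tt N13483 F209096) (tt N12446 F209097) (tt N11900 F209098) (tt N16171 D48941) (tt N16066 (iv F218203)) (tt N11887 F209099) (tt N16170 (iv F218836)) (tt N11886 F209100) (tt N11885 (iv D46778)) (tt N16172 D48942))
theorem Q14010 : ∀ i, i < 14010 → P i := stepQ 14009 Q14009 (allL N14009 (tt N13466 F209101) (tt N12447 F209102) (tt N16173 D48943) (tt N11886 (iv D46779)) (tt N16174 D48944) (tt N11888 F209103) (tt N12879 F209104) (tt N16171 (iv F218841)) (tt N16160 (iv F218776)) (tt N16175 D48945))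
theorem Q14011 : ∀ i, i < 14011 → P i := stepQ 14010 Q14010 (allL N14010 (tt N13484 F209105) (tt N12448 F209106) (tt N11902 F209107) (tt N16175 (iv F218857)) (tt N16068 (iv F218214)) (tt N11889 F209108) (tt N12880 F209109) (tt N16172 (iv F218846)) (tt N11982 F209110) (tt N11886 (iv D46780)))
theorem Q14012 : ∀ i, i < 14012 → P i := stepQ 14011 Q14011 (allL N14011 (tt N13478 F209111) (tt N12449 F209112) (tt N16176 D48946) (tt N11887 (iv D46781)) (tt N16177 D48947) (tt N16171 (iv F218840)) (tt N14011 F209113) (tt N11888 F209114) (tt N16162 (iv F218787)) (tt N16178 D48948))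
theorem Q14013 : ∀ i, i < 14013 → P i := stepQ 14012 Q14012 (allL N14012 (tt N13485 F209115) (tt N12450 F209116) (tt N11904 F209117) (tt N16178 (iv F218872)) (tt N11894 F209118) (tt N16172 (iv F218845)) (tt N14012 F209119) (tt N11889 F209120) (tt N11984 F209121) (tt N11887 (iv D46782)))
theorem Q14014 : ∀ i, i < 14014 → P i := stepQ 14013 Q14013 (allL N14013 (tt N13474 F209122) (tt N16179 D48949) (tt N11888 (iv D46783)) (tt N11905 F209123) (tt N16180 D48950) (tt N16173 (iv F218850)) (tt N11890 F209124) (tt N16176 (iv F218864)) (tt N16164 (iv F218799)) (tt N16181 D48951))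
theorem Q14015 : ∀ i, i < 14015 → P i := stepQ 14014 Q14014 (allL N14014 (tt N12590 F209125) (tt N12452 F209126) (tt N16180 (iv F218884)) (tt N11895 F209127) (tt N11888 (iv D46784)) (tt N16182 D48952) (tt N11891 F209128) (tt N16177 (iv F218869)) (tt N16165 (iv F218806)) (tt N16183 D48953))
theorem Q14016 : ∀ i, i < 14016 → P i := stepQ 14015 Q14015 (allL N14015 (tt N13479 F209129) (tt N12453 F209130) (tt N16181 (iv F218889)) (tt N11889 F209131) (tt N16183 (iv F218899)) (tt N16175 (iv F218858)) (tt N11892 F209132) (tt N16178 (iv F218874)) (tt N16184 D48954) (tt N11888 (iv D46785)))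
theorem Q14017 : ∀ i, i < 14017 → P i := stepQ 14016 Q14016 (allL N14016 (tt N12970 (iv F209138)) (tt N11890 (iv D46786)) (tt N12454 F209133) (tt N11907 F209134) (tt N12925 (iv F209139)) (tt N12885 F209135) (tt N16179 (iv F218877)) (tt N14016 F209136) (tt N12937 F209137) (tt N16185 D48955))
theorem Q14018 : ∀ i, i < 14018 → P i := stepQ 14017 Q14017 (allL N14017 (tt N12587 F209140) (tt N12925 F209141) (tt N11891 F209142) (tt N14017 F209143) (tt N11890 (iv D46787)) (tt N12530 F209144) (tt N16180 (iv F218886)) (tt N14017 F209145) (tt N12936 F209146) (tt N16186 D48956))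
theorem Q14019 : ∀ i, i < 14019 → P i := stepQ 14018 Q14018 (allL N14018 (tt N13475 F209147) (tt N16185 (iv F218906)) (tt N11892 F209148) (tt N11908 F209149) (tt N16186 (iv F218916)) (tt N12886 F209150) (tt N16181 (iv F218891)) (tt N14018 F209151) (tt N16187 D48957) (tt N11890 (iv D46788)))
theorem Q14020 : ∀ i, i < 14020 → P i := stepQ 14019 Q14019 (allL N14019 (tt N12591 F209152) (tt N12458 F209153) (tt N16186 (iv F218914)) (tt N11897 F209154) (tt N11892 F209155) (tt N12532 F209156) (tt N16183 (iv F218900)) (tt N14019 F209157) (tt N16188 D48958) (tt N11891 (iv D46789)))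
theorem Q14021 : ∀ i, i < 14021 → P i := stepQ 14020 Q14020 (allL N14020 (tt N13480 F209158) (tt N12459 F209159) (tt N16187 (iv F218920)) (tt N11993 F209160) (tt N16188 (iv F218925)) (tt N12887 F209161) (tt N16184 (iv F218904)) (tt N14020 F209162) (tt N11892 (iv D46790)) (tt N16169 (iv F218830)))
theorem Q14022 : ∀ i, i < 14022 → P i := stepQ 14021 Q14021 (allL N14021 (tt N12599 F209163) (tt N12460 F209164) (tt N14021 F209165) (tt N16177 (iv F218867)) (tt N11893 (iv D46791)) (tt N16189 D48959) (tt N14021 F209166) (tt N11895 F209167) (tt N14021 F209168) (tt N16190 D48960))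
theorem Q14023 : ∀ i, i < 14023 → P i := stepQ 14022 Q14022 (allL N14022 (tt N12603 F209169) (tt N12461 F209170) (tt N14022 F209171) (tt N11894 F209172) (tt N16190 (iv F218936)) (tt N16080 (iv F218275)) (tt N14022 F209173) (tt N11896 F209174) (tt N16191 D48961) (tt N11893 (iv D46792)))
theorem Q14024 : ∀ i, i < 14024 → P i := stepQ 14023 Q14023 (allL N14023 (tt N12596 F209175) (tt N12462 F209176) (tt N14023 F209177) (tt N16182 (iv F218894)) (tt N16081 (iv F218282)) (tt N11895 (iv D46793)) (tt N12536 F209178) (tt N16189 (iv F218931)) (tt N14023 F209179) (tt N16192 D48962))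
theorem Q14025 : ∀ i, i < 14025 → P i := stepQ 14024 Q14024 (allL N14024 (tt N12600 F209180) (tt N12463 F209181) (tt N14024 F209182) (tt N16183 (iv F218898)) (tt N11896 F209183) (tt N16192 (iv F218950)) (tt N11897 F209184) (tt N16190 (iv F218938)) (tt N16193 D48963) (tt N11895 (iv D46794)))
theorem Q14026 : ∀ i, i < 14026 → P i := stepQ 14025 Q14025 (allL N14025 (tt N12604 F209185) (tt N12464 F209186) (tt N14025 F209187) (tt N11998 F209188) (tt N16193 (iv F218955)) (tt N16083 (iv F218294)) (tt N11898 F209189) (tt N16191 (iv F218945)) (tt N11896 (iv D46795)) (tt N14025 F209190))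
theorem Q14027 : ∀ i, i < 14027 → P i := stepQ 14026 Q14026 (allL N14026 (tt N12601 F209191) (tt N12467 F209192) (tt N14026 F209193) (tt N16194 D48964) (tt N11898 F209194) (tt N12539 F209195) (tt N16193 (iv F218956)) (tt N14026 F209196) (tt N11897 (iv D46796)) (tt N14026 F209197))
theorem Q14028 : ∀ i, i < 14028 → P i := stepQ 14027 Q14027 (allL N14027 (tt N13747 F209198) (tt N11910 F209199) (tt N16170 (iv F218833)) (tt N13009 (iv F209204)) (tt N12839 F209200) (tt N14027 F209201) (tt N11900 F209202) (tt N12842 F209203) (tt N11899 (iv D46797)) (tt N16195 D48965))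
theorem Q14029 : ∀ i, i < 14029 → P i := stepQ 14028 Q14028 (allL N14028 (tt N13730 F209205) (tt N11911 F209206) (tt N16196 D48966) (tt N11900 (iv D46798)) (tt N13006 F209207) (tt N11903 F209208) (tt N13009 F209209) (tt N11901 F209210) (tt N14028 F209211) (tt N16197 D48967))
theorem Q14030 : ∀ i, i < 14030 → P i := stepQ 14029 Q14029 (allL N14029 (tt N13749 F209212) (tt N11912 F209213) (tt N16172 (iv F218844)) (tt N16197 (iv F218981)) (tt N16085 (iv F218307)) (tt N11904 F209214) (tt N16195 (iv F218969)) (tt N11902 F209215) (tt N12007 F209216) (tt N11900 (iv D46799)))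
theorem Q14031 : ∀ i, i < 14031 → P i := stepQ 14030 Q14030 (allL N14030 (tt N13726 F209217) (tt N16198 D48968) (tt N11901 (iv D46800)) (tt N16173 (iv F218849)) (tt N16199 D48969) (tt N11905 F209218) (tt N12889 F209219) (tt N16196 (iv F218977)) (tt N14030 F209220) (tt N16200 D48970))
theorem Q14032 : ∀ i, i < 14032 → P i := stepQ 14031 Q14031 (allL N14031 (tt N13710 F209221) (tt N11914 F209222) (tt N16199 (iv F218993)) (tt N12005 F209223) (tt N11901 (iv D46801)) (tt N14031 F209224) (tt N12006 F209225) (tt N13006 F209226) (tt N14031 F209227) (tt N16201 D48971))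
theorem Q14033 : ∀ i, i < 14033 → P i := stepQ 14032 Q14032 (allL N14032 (tt N13731 F209228) (tt N11915 F209229) (tt N16200 (iv F218999)) (tt N11902 F209230) (tt N16201 (iv F219005)) (tt N11906 F209231) (tt N12890 F209232) (tt N16197 (iv F218985)) (tt N16202 D48972) (tt N11901 (iv D46802)))
theorem Q14034 : ∀ i, i < 14034 → P i := stepQ 14033 Q14033 (allL N14033 (tt N13740 F209233) (tt N13788 F209234) (tt N11903 (iv D46803)) (tt N16176 (iv F218862)) (tt N14033 F209235) (tt N16196 (iv F218975)) (tt N14033 F209236) (tt N11905 F209237) (tt N14033 F209238) (tt N16203 D48973))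
theorem Q14035 : ∀ i, i < 14035 → P i := stepQ 14034 Q14034 (allL N14034 (tt N13745 F209239) (tt N11917 F209240) (tt N16203 (iv F219017)) (tt N11904 F209241) (tt N14034 F209242) (tt N16197 (iv F218983)) (tt N14034 F209243) (tt N11906 F209244) (tt N16204 D48974) (tt N11903 (iv D46804)))
theorem Q14036 : ∀ i, i < 14036 → P i := stepQ 14035 Q14035 (allL N14035 (tt N13790 (iv F209250)) (tt N11905 (iv D46805)) (tt N11918 F209245) (tt N16179 (iv F218876)) (tt N14035 F209246) (tt N16198 (iv F218987)) (tt N11907 F209247) (tt N13788 F209248) (tt N14035 F209249) (tt N16205 D48975))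
theorem Q14037 : ∀ i, i < 14037 → P i := stepQ 14036 Q14036 (allL N14036 (tt N13741 F209251) (tt N16205 (iv F219029)) (tt N11906 F209252) (tt N16181 (iv F218890)) (tt N14036 F209253) (tt N16200 (iv F219000)) (tt N11908 F209254) (tt N16203 (iv F219020)) (tt N16206 D48976) (tt N11905 (iv D46806)))
theorem Q14038 : ∀ i, i < 14038 → P i := stepQ 14037 Q14037 (allL N14037 (tt N13746 F209255) (tt N11920 F209256) (tt N16206 (iv F219035)) (tt N12015 F209257) (tt N14037 F209258) (tt N16202 (iv F219012)) (tt N11909 F209259) (tt N16204 (iv F219026)) (tt N11906 (iv D46807)) (tt N14037 F209260))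
theorem Q14039 : ∀ i, i < 14039 → P i := stepQ 14038 Q14038 (allL N14038 (tt N11907 (iv D46808)) (tt N13733 F209261) (tt N11921 F209262) (tt N12970 F209263) (tt N14038 F209264) (tt N12896 F209265) (tt N13790 F209266) (tt N14038 F209267) (tt N14038 F209268) (tt N16207 D48977))
theorem Q14040 : ∀ i, i < 14040 → P i := stepQ 14039 Q14039 (allL N14039 (tt N16207 (iv F219039)) (tt N11908 F209269) (tt N11922 F209270) (tt N16185 (iv F218908)) (tt N14039 F209271) (tt N12897 F209272) (tt N16205 (iv F219032)) (tt N14039 F209273) (tt N16208 D48978) (tt N11907 (iv D46809)))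
theorem Q14041 : ∀ i, i < 14041 → P i := stepQ 14040 Q14040 (allL N14040 (tt N13742 F209274) (tt N16208 (iv F219047)) (tt N11909 F209275) (tt N16209 D48979) (tt N14040 F209276) (tt N12898 F209277) (tt N16206 (iv F219037)) (tt N14040 F209278) (tt N11908 (iv D46810)) (tt N14040 F209279))
theorem Q14042 : ∀ i, i < 14042 → P i := stepQ 14041 Q14041 (allL N14041 (tt N14041 F209280) (tt N16195 (iv F218965)) (tt N12483 F209281) (tt N13029 F209282) (tt N12852 F209283) (tt N14041 F209284) (tt N11912 F209285) (tt N12855 F209286) (tt N12019 F209287) (tt N11910 (iv D46811)))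
theorem Q14043 : ∀ i, i < 14043 → P i := stepQ 14042 Q14042 (allL N14042 (tt N14042 F209288) (tt N13529 (iv F209295)) (tt N11911 (iv D46812)) (tt N12484 F209289) (tt N12723 F209290) (tt N11916 F209291) (tt N13027 F209292) (tt N11913 F209293) (tt N14042 F209294) (tt N16210 D48980))
theorem Q14044 : ∀ i, i < 14044 → P i := stepQ 14043 Q14043 (allL N14043 (tt N14043 F209296) (tt N16197 (iv F218980)) (tt N16210 (iv F219060)) (tt N11912 F209297) (tt N13025 F209298) (tt N11917 F209299) (tt N13029 F209300) (tt N11915 F209301) (tt N16211 D48981) (tt N11911 (iv D46813)))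
theorem Q14045 : ∀ i, i < 14045 → P i := stepQ 14044 Q14044 (allL N14044 (tt N13539 (iv F209307)) (tt N11913 (iv D46814)) (tt N16198 (iv F218986)) (tt N12487 F209302) (tt N16212 D48982) (tt N11918 F209303) (tt N12899 F209304) (tt N13529 F209305) (tt N14044 F209306) (tt N16213 D48983))
theorem Q14046 : ∀ i, i < 14046 → P i := stepQ 14045 Q14045 (allL N14045 (tt N14045 F209308) (tt N16212 (iv F219074)) (tt N11914 F209309) (tt N12624 F209310) (tt N11913 (iv D46815)) (tt N14045 F209311) (tt N12020 F209312) (tt N12723 F209313) (tt N14045 F209314) (tt N16214 D48984))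
theorem Q14047 : ∀ i, i < 14047 → P i := stepQ 14046 Q14046 (allL N14046 (tt N14046 F209315) (tt N16213 (iv F219081)) (tt N11915 F209316) (tt N12489 F209317) (tt N16214 (iv F219089)) (tt N11919 F209318) (tt N12900 F209319) (tt N16210 (iv F219065)) (tt N16215 D48985) (tt N11913 (iv D46816)))
theorem Q14048 : ∀ i, i < 14048 → P i := stepQ 14047 Q14047 (allL N14047 (tt N14047 F209320) (tt N16201 (iv F219003)) (tt N16214 (iv F219087)) (tt N12019 F209321) (tt N11915 F209322) (tt N14047 F209323) (tt N12021 F209324) (tt N13025 F209325) (tt N16216 D48986) (tt N11914 (iv D46817)))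
theorem Q14049 : ∀ i, i < 14049 → P i := stepQ 14048 Q14048 (allL N14048 (tt N14048 F209326) (tt N16202 (iv F219010)) (tt N16215 (iv F219094)) (tt N12026 F209327) (tt N16216 (iv F219100)) (tt N11920 F209328) (tt N12901 F209329) (tt N16211 (iv F219071)) (tt N11915 (iv D46818)) (tt N14048 F209330))
theorem Q14050 : ∀ i, i < 14050 → P i := stepQ 14049 Q14049 (allL N14049 (tt N14049 F209331) (tt N13789 F209332) (tt N11917 F209333) (tt N12492 F209334) (tt N14049 F209335) (tt N16210 (iv F219063)) (tt N14049 F209336) (tt N11919 F209337) (tt N16217 D48987) (tt N11916 (iv D46819)))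
theorem Q14051 : ∀ i, i < 14051 → P i := stepQ 14050 Q14050 (allL N14050 (tt N14050 F209338) (tt N16204 (iv F219022)) (tt N16217 (iv F219107)) (tt N12029 F209339) (tt N14050 F209340) (tt N16211 (iv F219069)) (tt N14050 F209341) (tt N11920 F209342) (tt N11917 (iv D46820)) (tt N14050 F209343))
theorem Q14052 : ∀ i, i < 14052 → P i := stepQ 14051 Q14051 (allL N14051 (tt N13791 F209344) (tt N11919 F209345) (tt N16205 (iv F219030)) (tt N12494 F209346) (tt N14051 F209347) (tt N16213 (iv F219083)) (tt N11922 F209348) (tt N13789 F209349) (tt N16218 D48988) (tt N11918 (iv D46821)))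
theorem Q14053 : ∀ i, i < 14053 → P i := stepQ 14052 Q14052 (allL N14052 (tt N14052 F209350) (tt N16218 (iv F219113)) (tt N11920 F209351) (tt N16219 D48989) (tt N14052 F209352) (tt N16215 (iv F219095)) (tt N11923 F209353) (tt N16217 (iv F219110)) (tt N11919 (iv D46822)) (tt N14052 F209354))
theorem Q14054 : ∀ i, i < 14054 → P i := stepQ 14053 Q14053 (allL N14053 (tt N11922 F209355) (tt N14053 F209356) (tt N16207 (iv F219041)) (tt N12496 F209357) (tt N14053 F209358) (tt N12908 F209359) (tt N13791 F209360) (tt N14053 F209361) (tt N16220 D48990) (tt N11921 (iv D46823)))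
theorem Q14055 : ∀ i, i < 14055 → P i := stepQ 14054 Q14054 (allL N14054 (tt N16220 (iv F219123)) (tt N11923 F209362) (tt N16208 (iv F219048)) (tt N16221 D48991) (tt N14054 F209363) (tt N12909 F209364) (tt N16218 (iv F219115)) (tt N14054 F209365) (tt N11922 (iv D46824)) (tt N14054 F209366))
theorem Q14056 : ∀ i, i < 14056 → P i := stepQ 14055 Q14055 (allL N14055 (tt N14055 F209367) (tt N16221 (iv F219132)) (tt N12035 F209368) (tt N11923 (iv D46825)) (tt N16222 D48992) (tt N12910 F209369) (tt N16219 (iv F219120)) (tt N14055 F209370) (tt N12498 F209371) (tt N14055 F209372))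
theorem Q14057 : ∀ i, i < 14057 → P i := stepQ 14056 Q14056 (allL N14056 (tt N12499 F209373) (tt N11939 F209374) (tt N13513 F209375) (tt N11926 F209376) (tt N13307 (iv F209379)) (tt N11924 (iv D46826)) (tt N12911 F209377) (tt N16223 D48993) (tt N16224 D48994) (tt N13415 F209378))
theorem Q14058 : ∀ i, i < 14058 → P i := stepQ 14057 Q14057 (allL N14057 (tt N12500 F209380) (tt N11940 F209381) (tt N13525 F209382) (tt N11927 F209383) (tt N14057 F209384) (tt N16223 (iv F219152)) (tt N14057 F209385) (tt N11924 (iv D46827)) (tt N16225 D48995) (tt N13523 F209386))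
theorem Q14059 : ∀ i, i < 14059 → P i := stepQ 14058 Q14058 (allL N14058 (tt N12501 F209387) (tt N11941 F209388) (tt N13527 F209389) (tt N16226 D48996) (tt N14058 F209390) (tt N16224 (iv F219159)) (tt N11925 F209391) (tt N16225 (iv F219166)) (tt N11924 (iv D46828)) (tt N16227 D48997))
theorem Q14060 : ∀ i, i < 14060 → P i := stepQ 14059 Q14059 (allL N14059 (tt N12502 F209392) (tt N11942 F209393) (tt N12457 F209394) (tt N11925 (iv D46829)) (tt N12509 (iv F209398)) (tt N12455 F209395) (tt N16226 (iv F219170)) (tt N14059 F209396) (tt N11929 F209397) (tt N16228 D48998))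
theorem Q14061 : ∀ i, i < 14061 → P i := stepQ 14060 Q14060 (allL N14060 (tt N12503 F209399) (tt N11943 F209400) (tt N13371 F209401) (tt N16228 (iv F219182)) (tt N14060 F209402) (tt N12913 F209403) (tt N16227 (iv F219177)) (tt N14060 F209404) (tt N13353 F209405) (tt N11925 (iv D46830)))
theorem Q14062 : ∀ i, i < 14062 → P i := stepQ 14061 Q14061 (allL N14061 (tt N12504 F209406) (tt N11944 F209407) (tt N14061 F209408) (tt N16223 (iv F219150)) (tt N16098 (iv F218398)) (tt N11927 F209409) (tt N16229 D48999) (tt N11926 (iv D46831)) (tt N16230 D49000) (tt N13765 F209410))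
theorem Q14063 : ∀ i, i < 14063 → P i := stepQ 14062 Q14062 (allL N14062 (tt N12505 F209411) (tt N11945 F209412) (tt N14062 F209413) (tt N16231 D49001) (tt N16099 (iv F218406)) (tt N11928 F209414) (tt N12915 F209415) (tt N16230 (iv F219199)) (tt N11926 (iv D46832)) (tt N16232 D49002))
theorem Q14064 : ∀ i, i < 14064 → P i := stepQ 14063 Q14063 (allL N14063 (tt N12506 F209416) (tt N11946 F209417) (tt N14063 F209418) (tt N16233 D49003) (tt N11931 F209419) (tt N16230 (iv F219198)) (tt N14063 F209420) (tt N11928 F209421) (tt N11927 (iv D46833)) (tt N16234 D49004))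
theorem Q14065 : ∀ i, i < 14065 → P i := stepQ 14064 Q14064 (allL N14064 (tt N12507 F209422) (tt N11947 F209423) (tt N16235 D49005) (tt N11928 (iv D46834)) (tt N16236 D49006) (tt N16231 (iv F219202)) (tt N11929 F209424) (tt N16233 (iv F219214)) (tt N16226 (iv F219171)) (tt N16237 D49007))
theorem Q14066 : ∀ i, i < 14066 → P i := stepQ 14065 Q14065 (allL N14065 (tt N12508 F209425) (tt N11948 F209426) (tt N14065 F209427) (tt N16237 (iv F219237)) (tt N11933 F209428) (tt N16232 (iv F219207)) (tt N11930 F209429) (tt N16234 (iv F219220)) (tt N13004 F209430) (tt N11928 (iv D46835)))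
theorem Q14067 : ∀ i, i < 14067 → P i := stepQ 14066 Q14066 (allL N14066 (tt N12509 F209431) (tt N12518 F209432) (tt N11929 (iv D46836)) (tt N14066 F209433) (tt N12502 (iv F209437)) (tt N12443 F209434) (tt N16235 (iv F219225)) (tt N14066 F209435) (tt N12457 F209436) (tt N16238 D49008))
theorem Q14068 : ∀ i, i < 14068 → P i := stepQ 14067 Q14067 (allL N14067 (tt N12457 F209438) (tt N11950 F209439) (tt N12502 F209440) (tt N11935 F209441) (tt N11929 (iv D46837)) (tt N12425 F209442) (tt N16236 (iv F219232)) (tt N14067 F209443) (tt N12509 F209444) (tt N16239 D49009))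
theorem Q14069 : ∀ i, i < 14069 → P i := stepQ 14068 Q14068 (allL N14068 (tt N12510 F209445) (tt N11951 F209446) (tt N16238 (iv F219241)) (tt N11930 F209447) (tt N16239 (iv F219250)) (tt N12919 F209448) (tt N16237 (iv F219238)) (tt N14068 F209449) (tt N16240 D49010) (tt N11929 (iv D46838)))
theorem Q14070 : ∀ i, i < 14070 → P i := stepQ 14069 Q14069 (allL N14069 (tt N12511 F209450) (tt N11952 F209451) (tt N14069 F209452) (tt N13641 F209453) (tt N16234 (iv F219218)) (tt N13618 F209454) (tt N14069 F209455) (tt N11933 F209456) (tt N13005 F209457) (tt N11931 (iv D46839)))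
theorem Q14071 : ∀ i, i < 14071 → P i := stepQ 14070 Q14070 (allL N14070 (tt N12465 F209458) (tt N11953 F209459) (tt N13528 F209460) (tt N16236 (iv F219231)) (tt N11932 (iv D46840)) (tt N16241 D49011) (tt N11935 F209461) (tt N13640 F209462) (tt N14070 F209463) (tt N16242 D49012))
theorem Q14072 : ∀ i, i < 14072 → P i := stepQ 14071 Q14071 (allL N14071 (tt N12469 F209464) (tt N11954 F209465) (tt N13654 F209466) (tt N11933 F209467) (tt N16242 (iv F219268)) (tt N13646 F209468) (tt N11936 F209469) (tt N13641 F209470) (tt N16243 D49013) (tt N11932 (iv D46841)))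
theorem Q14073 : ∀ i, i < 14073 → P i := stepQ 14072 Q14072 (allL N14072 (tt N12403 F209471) (tt N13373 F209472) (tt N11936 F209473) (tt N14072 F209474) (tt N13372 F209475) (tt N11937 F209476) (tt N13654 F209477) (tt N14072 F209478) (tt N16244 D49014) (tt N11934 (iv D46842)))
theorem Q14074 : ∀ i, i < 14074 → P i := stepQ 14073 Q14073 (allL N14073 (tt N12466 F209479) (tt N11956 F209480) (tt N13372 F209481) (tt N16239 (iv F219249)) (tt N11936 F209482) (tt N12431 F209483) (tt N16242 (iv F219269)) (tt N14073 F209484) (tt N16245 D49015) (tt N11935 (iv D46843)))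
theorem Q14075 : ∀ i, i < 14075 → P i := stepQ 14074 Q14074 (allL N14074 (tt N12470 F209485) (tt N11957 F209486) (tt N16244 (iv F219281)) (tt N12004 F209487) (tt N16245 (iv F219290)) (tt N11938 F209488) (tt N16243 (iv F219276)) (tt N14074 F209489) (tt N11936 (iv D46844)) (tt N14074 F209490))
theorem Q14076 : ∀ i, i < 14076 → P i := stepQ 14075 Q14075 (allL N14075 (tt N12404 F209491) (tt N15990 (iv F217662)) (tt N11938 F209492) (tt N16005 (iv F217765)) (tt N12390 F209493) (tt N16244 (iv F219283)) (tt N16106 (iv F218457)) (tt N14075 F209494) (tt N11937 (iv D46845)) (tt N14075 F209495))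
theorem Q14077 : ∀ i, i < 14077 → P i := stepQ 14076 Q14076 (allL N14076 (tt N11970 F209496) (tt N13307 F209497) (tt N14076 F209498) (tt N12877 F209499) (tt N11939 (iv D46846)) (tt N14076 F209500) (tt N12871 F209501) (tt N16158 (iv F218765)) (tt N16246 D49016) (tt N12960 F209502))
theorem Q14078 : ∀ i, i < 14078 → P i := stepQ 14077 Q14077 (allL N14077 (tt N11971 F209503) (tt N16223 (iv F219148)) (tt N14077 F209504) (tt N11944 F209505) (tt N16158 (iv F218763)) (tt N11940 F209506) (tt N16156 (iv F218751)) (tt N11939 (iv D46847)) (tt N16247 D49017) (tt N13782 F209507))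
theorem Q14079 : ∀ i, i < 14079 → P i := stepQ 14078 Q14078 (allL N14078 (tt N11972 F209508) (tt N16224 (iv F219156)) (tt N14078 F209509) (tt N16248 D49018) (tt N16246 (iv F219297)) (tt N11941 F209510) (tt N12921 F209511) (tt N16247 (iv F219303)) (tt N11939 (iv D46848)) (tt N16249 D49019))
theorem Q14080 : ∀ i, i < 14080 → P i := stepQ 14079 Q14079 (allL N14079 (tt N11973 F209512) (tt N16225 (iv F219162)) (tt N14079 F209513) (tt N16250 D49020) (tt N14079 F209514) (tt N16247 (iv F219302)) (tt N14079 F209515) (tt N11941 F209516) (tt N11940 (iv D46849)) (tt N16251 D49021))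
theorem Q14081 : ∀ i, i < 14081 → P i := stepQ 14080 Q14080 (allL N14080 (tt N11974 F209517) (tt N16226 (iv F219168)) (tt N16252 D49022) (tt N11941 (iv D46850)) (tt N16253 D49023) (tt N16248 (iv F219305)) (tt N11942 F209518) (tt N16250 (iv F219315)) (tt N11947 F209519) (tt N16254 D49024))
theorem Q14082 : ∀ i, i < 14082 → P i := stepQ 14081 Q14081 (allL N14081 (tt N11975 F209520) (tt N16227 (iv F219174)) (tt N14081 F209521) (tt N16254 (iv F219340)) (tt N14081 F209522) (tt N16249 (iv F219310)) (tt N11943 F209523) (tt N16251 (iv F219323)) (tt N13781 F209524) (tt N11941 (iv D46851)))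
theorem Q14083 : ∀ i, i < 14083 → P i := stepQ 14082 Q14082 (allL N14082 (tt N11976 F209525) (tt N12530 F209526) (tt N11942 (iv D46852)) (tt N14082 F209527) (tt N12529 (iv F209531)) (tt N12925 F209528) (tt N16252 (iv F219328)) (tt N14082 F209529) (tt N11949 F209530) (tt N16255 D49025))
theorem Q14084 : ∀ i, i < 14084 → P i := stepQ 14083 Q14083 (allL N14083 (tt N11977 F209532) (tt N12509 F209533) (tt N12529 F209534) (tt N14083 F209535) (tt N11942 (iv D46853)) (tt N13332 F209536) (tt N16253 (iv F219336)) (tt N14083 F209537) (tt N11950 F209538) (tt N16256 D49026))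
theorem Q14085 : ∀ i, i < 14085 → P i := stepQ 14084 Q14084 (allL N14084 (tt N11978 F209539) (tt N16228 (iv F219180)) (tt N16255 (iv F219344)) (tt N11943 F209540) (tt N16256 (iv F219353)) (tt N12926 F209541) (tt N16254 (iv F219341)) (tt N14084 F209542) (tt N16257 D49027) (tt N11942 (iv D46854)))
theorem Q14086 : ∀ i, i < 14086 → P i := stepQ 14085 Q14085 (allL N14085 (tt N11979 F209543) (tt N16229 (iv F219187)) (tt N11961 F209544) (tt N16156 (iv F218748)) (tt N16058 (iv F218149)) (tt N14085 F209545) (tt N11944 (iv D46855)) (tt N12927 F209546) (tt N16258 D49028) (tt N13783 F209547))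
theorem Q14087 : ∀ i, i < 14087 → P i := stepQ 14086 Q14086 (allL N14086 (tt N11980 F209548) (tt N16230 (iv F219195)) (tt N11962 F209549) (tt N16259 D49029) (tt N13619 F209550) (tt N11946 F209551) (tt N16258 (iv F219365)) (tt N11945 F209552) (tt N11944 (iv D46856)) (tt N16260 D49030))
theorem Q14088 : ∀ i, i < 14088 → P i := stepQ 14087 Q14087 (allL N14087 (tt N11981 F209553) (tt N16231 (iv F219201)) (tt N16261 D49031) (tt N11945 (iv D46857)) (tt N16262 D49032) (tt N11947 F209554) (tt N12929 F209555) (tt N16259 (iv F219370)) (tt N16248 (iv F219307)) (tt N16263 D49033))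
theorem Q14089 : ∀ i, i < 14089 → P i := stepQ 14088 Q14088 (allL N14088 (tt N11982 F209556) (tt N16232 (iv F219205)) (tt N11964 F209557) (tt N16263 (iv F219386)) (tt N16108 (iv F218468)) (tt N11948 F209558) (tt N12930 F209559) (tt N16260 (iv F219375)) (tt N13484 F209560) (tt N11945 (iv D46858)))
theorem Q14090 : ∀ i, i < 14090 → P i := stepQ 14089 Q14089 (allL N14089 (tt N11983 F209561) (tt N16233 (iv F219211)) (tt N13706 F209562) (tt N11946 (iv D46859)) (tt N13642 F209563) (tt N16259 (iv F219369)) (tt N14089 F209564) (tt N11947 F209565) (tt N16250 (iv F219316)) (tt N16264 D49034))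
theorem Q14091 : ∀ i, i < 14091 → P i := stepQ 14090 Q14090 (allL N14090 (tt N11984 F209566) (tt N16234 (iv F219216)) (tt N11965 F209567) (tt N16264 (iv F219391)) (tt N11952 F209568) (tt N16260 (iv F219374)) (tt N14090 F209569) (tt N11948 F209570) (tt N13485 F209571) (tt N11946 (iv D46860)))
theorem Q14092 : ∀ i, i < 14092 → P i := stepQ 14091 Q14091 (allL N14091 (tt N11985 F209572) (tt N13570 F209577) (tt N11947 (iv D46861)) (tt N11966 F209573) (tt N13569 (iv F209576)) (tt N16261 (iv F219379)) (tt N11949 F209574) (tt N13706 F209575) (tt N16252 (iv F219330)) (tt N16265 D49035))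
theorem Q14093 : ∀ i, i < 14093 → P i := stepQ 14092 Q14092 (allL N14092 (tt N11986 F209578) (tt N16236 (iv F219229)) (tt N13569 F209579) (tt N11953 F209580) (tt N11947 (iv D46862)) (tt N16266 D49036) (tt N11950 F209581) (tt N13642 F209582) (tt N16253 (iv F219338)) (tt N16267 D49037))
theorem Q14094 : ∀ i, i < 14094 → P i := stepQ 14093 Q14093 (allL N14093 (tt N11987 F209583) (tt N16237 (iv F219236)) (tt N16265 (iv F219397)) (tt N11948 F209584) (tt N16267 (iv F219409)) (tt N16263 (iv F219387)) (tt N11951 F209585) (tt N16264 (iv F219394)) (tt N16268 D49038) (tt N11947 (iv D46863)))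
theorem Q14095 : ∀ i, i < 14095 → P i := stepQ 14094 Q14094 (allL N14094 (tt N11990 F209586) (tt N13508 F209587) (tt N11951 F209588) (tt N11968 F209589) (tt N13507 F209590) (tt N12938 F209591) (tt N16265 (iv F219400)) (tt N14094 F209592) (tt N16269 D49039) (tt N11949 (iv D46864)))
theorem Q14096 : ∀ i, i < 14096 → P i := stepQ 14095 Q14095 (allL N14095 (tt N11991 F209593) (tt N12425 F209594) (tt N12717 F209595) (tt N11955 F209596) (tt N12416 F209597) (tt N11950 (iv D46865)) (tt N16270 D49040) (tt N14095 F209598) (tt N13332 F209599) (tt N16271 D49041))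
theorem Q14097 : ∀ i, i < 14097 → P i := stepQ 14096 Q14096 (allL N14096 (tt N11992 F209600) (tt N16239 (iv F219247)) (tt N13507 F209601) (tt N11956 F209602) (tt N11951 F209603) (tt N16271 (iv F219432)) (tt N16267 (iv F219410)) (tt N14096 F209604) (tt N16272 D49042) (tt N11950 (iv D46866)))
theorem Q14098 : ∀ i, i < 14098 → P i := stepQ 14097 Q14097 (allL N14097 (tt N11993 F209605) (tt N16240 (iv F219254)) (tt N16269 (iv F219417)) (tt N13480 F209606) (tt N16272 (iv F219436)) (tt N12940 F209607) (tt N16268 (iv F219414)) (tt N14097 F209608) (tt N11951 (iv D46867)) (tt N16257 (iv F219360)))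
theorem Q14099 : ∀ i, i < 14099 → P i := stepQ 14098 Q14098 (allL N14098 (tt N11996 F209609) (tt N16241 (iv F219259)) (tt N13258 F209610) (tt N16266 (iv F219404)) (tt N13257 F209611) (tt N11953 (iv D46868)) (tt N16273 D49043) (tt N13261 F209612) (tt N14098 F209613) (tt N16274 D49044))
theorem Q14100 : ∀ i, i < 14100 → P i := stepQ 14099 Q14099 (allL N14099 (tt N11997 F209614) (tt N16242 (iv F219266)) (tt N13512 F209615) (tt N16267 (iv F219408)) (tt N11954 F209616) (tt N16274 (iv F219447)) (tt N11956 F209617) (tt N13643 F209618) (tt N16275 D49045) (tt N11953 (iv D46869)))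
theorem Q14101 : ∀ i, i < 14101 → P i := stepQ 14100 Q14100 (allL N14100 (tt N11998 F209619) (tt N16243 (iv F219272)) (tt N13639 F209620) (tt N12604 F209621) (tt N16275 (iv F219451)) (tt N13647 F209622) (tt N11957 F209623) (tt N13644 F209624) (tt N11954 (iv D46870)) (tt N14100 F209625))
theorem Q14102 : ∀ i, i < 14102 → P i := stepQ 14101 Q14101 (allL N14101 (tt N11999 F209626) (tt N12429 F209627) (tt N12728 F209628) (tt N16270 (iv F219424)) (tt N11958 F209629) (tt N16273 (iv F219442)) (tt N11955 (iv D46871)) (tt N16276 D49046) (tt N14101 F209630) (tt N16277 D49047))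
theorem Q14103 : ∀ i, i < 14103 → P i := stepQ 14102 Q14102 (allL N14102 (tt N12000 F209631) (tt N12431 F209632) (tt N12646 F209633) (tt N16271 (iv F219430)) (tt N11959 F209634) (tt N11956 F209635) (tt N16277 (iv F219465)) (tt N14102 F209636) (tt N16278 D49048) (tt N11955 (iv D46872)))
theorem Q14104 : ∀ i, i < 14104 → P i := stepQ 14103 Q14103 (allL N14103 (tt N12001 F209637) (tt N16245 (iv F219288)) (tt N13045 F209638) (tt N16279 D49049) (tt N11957 F209639) (tt N16278 (iv F219470)) (tt N16275 (iv F219452)) (tt N14103 F209640) (tt N11956 (iv D46873)) (tt N14103 F209641))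
theorem Q14105 : ∀ i, i < 14105 → P i := stepQ 14104 Q14104 (allL N14104 (tt N12002 F209642) (tt N12427 F209643) (tt N15992 (iv F217680)) (tt N12418 F209644) (tt N16276 (iv F219458)) (tt N16116 (iv F218523)) (tt N14104 F209645) (tt N11958 (iv D46874)) (tt N14104 F209646) (tt N16280 D49050))
theorem Q14106 : ∀ i, i < 14106 → P i := stepQ 14105 Q14105 (allL N14105 (tt N12003 F209647) (tt N12430 F209648) (tt N15993 (iv F217688)) (tt N12419 F209649) (tt N16277 (iv F219464)) (tt N16117 (iv F218529)) (tt N11959 F209650) (tt N16280 (iv F219482)) (tt N16281 D49051) (tt N11958 (iv D46875)))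
theorem Q14107 : ∀ i, i < 14107 → P i := stepQ 14106 Q14106 (allL N14106 (tt N12004 F209651) (tt N12432 F209652) (tt N15994 (iv F217694)) (tt N12470 F209653) (tt N16278 (iv F219469)) (tt N11960 F209654) (tt N16281 (iv F219486)) (tt N14106 F209655) (tt N11959 (iv D46876)) (tt N14106 F209656))
theorem Q14108 : ∀ i, i < 14108 → P i := stepQ 14107 Q14107 (allL N14107 (tt N12005 F209657) (tt N14107 F209658) (tt N16258 (iv F219362)) (tt N13710 (iv F209663)) (tt N13621 F209659) (tt N14107 F209660) (tt N11962 F209661) (tt N12945 F209662) (tt N11961 (iv D46877)) (tt N16282 D49052))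
theorem Q14109 : ∀ i, i < 14109 → P i := stepQ 14108 Q14108 (allL N14108 (tt N12007 F209664) (tt N14108 F209665) (tt N16260 (iv F219372)) (tt N13711 F209666) (tt N13622 F209667) (tt N11965 F209668) (tt N16282 (iv F219493)) (tt N11964 F209669) (tt N13749 F209670) (tt N11962 (iv D46878)))
theorem Q14110 : ∀ i, i < 14110 → P i := stepQ 14109 Q14109 (allL N14109 (tt N12008 F209671) (tt N13757 (iv F209677)) (tt N11963 (iv D46879)) (tt N16261 (iv F219378)) (tt N13716 F209672) (tt N11966 F209673) (tt N12948 F209674) (tt N13707 F209675) (tt N14109 F209676) (tt N16283 D49053))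
theorem Q14111 : ∀ i, i < 14111 → P i := stepQ 14110 Q14110 (allL N14110 (tt N12010 F209678) (tt N14110 F209679) (tt N16283 (iv F219498)) (tt N11964 F209680) (tt N13719 F209681) (tt N11967 F209682) (tt N12950 F209683) (tt N13711 F209684) (tt N16284 D49054) (tt N11963 (iv D46880)))
theorem Q14112 : ∀ i, i < 14112 → P i := stepQ 14111 Q14111 (allL N14111 (tt N12014 F209685) (tt N13752 F209686) (tt N11967 F209687) (tt N16265 (iv F219398)) (tt N13701 F209688) (tt N16283 (iv F219500)) (tt N11968 F209689) (tt N13708 F209690) (tt N16285 D49055) (tt N11966 (iv D46881)))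
theorem Q14113 : ∀ i, i < 14113 → P i := stepQ 14112 Q14112 (allL N14112 (tt N12015 F209691) (tt N14112 F209692) (tt N16285 (iv F219513)) (tt N13746 F209693) (tt N13702 F209694) (tt N16284 (iv F219507)) (tt N11969 F209695) (tt N13712 F209696) (tt N11967 (iv D46882)) (tt N14112 F209697))
theorem Q14114 : ∀ i, i < 14114 → P i := stepQ 14113 Q14113 (allL N14113 (tt N12018 F209698) (tt N13744 F209699) (tt N11969 F209700) (tt N16286 D49056) (tt N13739 F209701) (tt N12958 F209702) (tt N16285 (iv F219515)) (tt N14113 F209703) (tt N11968 (iv D46883)) (tt N14113 F209704))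
theorem Q14115 : ∀ i, i < 14115 → P i := stepQ 14114 Q14114 (allL N14114 (tt N16158 (iv F218759)) (tt N12552 F209705) (tt N14114 F209706) (tt N13783 F209707) (tt N11971 F209708) (tt N14114 F209709) (tt N13782 F209710) (tt N11970 (iv D46884)) (tt N16287 D49057) (tt N16156 (iv F218752)))
theorem Q14116 : ∀ i, i < 14116 → P i := stepQ 14115 Q14115 (allL N14115 (tt N16246 (iv F219294)) (tt N12553 F209711) (tt N14115 F209712) (tt N16288 D49058) (tt N11972 F209713) (tt N14115 F209714) (tt N12959 F209715) (tt N16287 (iv F219530)) (tt N11970 (iv D46885)) (tt N16289 D49059))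
theorem Q14117 : ∀ i, i < 14117 → P i := stepQ 14116 Q14116 (allL N14116 (tt N16156 (iv F218745)) (tt N12554 F209716) (tt N14116 F209717) (tt N11979 F209718) (tt N13782 F209719) (tt N14116 F209720) (tt N11971 (iv D46886)) (tt N12960 F209721) (tt N16290 D49060) (tt N16158 (iv F218766)))
theorem Q14118 : ∀ i, i < 14118 → P i := stepQ 14117 Q14117 (allL N14117 (tt N16247 (iv F219300)) (tt N12555 F209722) (tt N14117 F209723) (tt N16291 D49061) (tt N16287 (iv F219527)) (tt N11973 F209724) (tt N16290 (iv F219544)) (tt N11972 F209725) (tt N11971 (iv D46887)) (tt N16292 D49062))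
theorem Q14119 : ∀ i, i < 14119 → P i := stepQ 14118 Q14118 (allL N14118 (tt N16248 (iv F219304)) (tt N12556 F209726) (tt N16293 D49063) (tt N11972 (iv D46888)) (tt N16294 D49064) (tt N11974 F209727) (tt N12962 F209728) (tt N16291 (iv F219548)) (tt N11981 F209729) (tt N16295 D49065))
theorem Q14120 : ∀ i, i < 14120 → P i := stepQ 14119 Q14119 (allL N14119 (tt N16249 (iv F219308)) (tt N12557 F209730) (tt N14119 F209731) (tt N16295 (iv F219562)) (tt N16289 (iv F219537)) (tt N11975 F209732) (tt N12963 F209733) (tt N16292 (iv F219553)) (tt N16161 (iv F218782)) (tt N11972 (iv D46889)))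
theorem Q14121 : ∀ i, i < 14121 → P i := stepQ 14120 Q14120 (allL N14120 (tt N16250 (iv F219313)) (tt N12558 F209734) (tt N16296 D49066) (tt N11973 (iv D46890)) (tt N16297 D49067) (tt N16291 (iv F219547)) (tt N14120 F209735) (tt N11974 F209736) (tt N11983 F209737) (tt N16298 D49068))
theorem Q14122 : ∀ i, i < 14122 → P i := stepQ 14121 Q14121 (allL N14121 (tt N16251 (iv F219319)) (tt N12559 F209738) (tt N14121 F209739) (tt N16298 (iv F219579)) (tt N14121 F209740) (tt N16292 (iv F219552)) (tt N14121 F209741) (tt N11975 F209742) (tt N16163 (iv F218794)) (tt N11973 (iv D46891)))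
theorem Q14123 : ∀ i, i < 14123 → P i := stepQ 14122 Q14122 (allL N14122 (tt N16252 (iv F219325)) (tt N16299 D49069) (tt N11974 (iv D46892)) (tt N14122 F209743) (tt N16300 D49070) (tt N16293 (iv F219555)) (tt N11976 F209744) (tt N16296 (iv F219568)) (tt N11985 F209745) (tt N16301 D49071))
theorem Q14124 : ∀ i, i < 14124 → P i := stepQ 14123 Q14123 (allL N14123 (tt N16253 (iv F219332)) (tt N12561 F209746) (tt N16300 (iv F219590)) (tt N14123 F209747) (tt N11974 (iv D46893)) (tt N16302 D49072) (tt N11977 F209748) (tt N16297 (iv F219576)) (tt N11986 F209749) (tt N16303 D49073))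
theorem Q14125 : ∀ i, i < 14125 → P i := stepQ 14124 Q14124 (allL N14124 (tt N16254 (iv F219339)) (tt N12562 F209750) (tt N16301 (iv F219595)) (tt N11975 F209751) (tt N16303 (iv F219603)) (tt N16295 (iv F219563)) (tt N11978 F209752) (tt N16298 (iv F219581)) (tt N16304 D49074) (tt N11974 (iv D46894)))
theorem Q14126 : ∀ i, i < 14126 → P i := stepQ 14125 Q14125 (allL N14125 (tt N12585 F209753) (tt N11976 (iv D46895)) (tt N12563 F209754) (tt N14125 F209755) (tt N12584 (iv F209759)) (tt N12969 F209756) (tt N16299 (iv F219585)) (tt N14125 F209757) (tt N11988 F209758) (tt N16305 D49075))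
theorem Q14127 : ∀ i, i < 14127 → P i := stepQ 14126 Q14126 (allL N14126 (tt N12529 F209760) (tt N12584 F209761) (tt N11977 F209762) (tt N12550 F209765) (tt N11976 (iv D46896)) (tt N13398 (iv F209766)) (tt N16300 (iv F219591)) (tt N14126 F209763) (tt N11989 F209764) (tt N16306 D49076))
theorem Q14128 : ∀ i, i < 14128 → P i := stepQ 14127 Q14127 (allL N14127 (tt N16255 (iv F219342)) (tt N16305 (iv F219609)) (tt N11978 F209767) (tt N14127 F209768) (tt N16306 (iv F219619)) (tt N12971 F209769) (tt N16301 (iv F219597)) (tt N14127 F209770) (tt N16307 D49077) (tt N11976 (iv D46897)))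
theorem Q14129 : ∀ i, i < 14129 → P i := stepQ 14128 Q14128 (allL N14128 (tt N13332 F209771) (tt N12566 F209772) (tt N13398 F209773) (tt N14128 F209774) (tt N12972 F209775) (tt N11977 (iv D46898)) (tt N16308 D49078) (tt N14128 F209776) (tt N11991 F209777) (tt N16309 D49079))
theorem Q14130 : ∀ i, i < 14130 → P i := stepQ 14129 Q14129 (allL N14129 (tt N16256 (iv F219349)) (tt N12567 F209778) (tt N16306 (iv F219617)) (tt N14129 F209779) (tt N11978 F209780) (tt N16309 (iv F219637)) (tt N16303 (iv F219604)) (tt N14129 F209781) (tt N16310 D49080) (tt N11977 (iv D46899)))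
theorem Q14131 : ∀ i, i < 14131 → P i := stepQ 14130 Q14130 (allL N14130 (tt N16257 (iv F219356)) (tt N12568 F209782) (tt N16307 (iv F219622)) (tt N16169 (iv F218827)) (tt N16310 (iv F219640)) (tt N12974 F209783) (tt N16304 (iv F219606)) (tt N14130 F209784) (tt N11978 (iv D46900)) (tt N11993 F209785))
theorem Q14132 : ∀ i, i < 14132 → P i := stepQ 14131 Q14131 (allL N14131 (tt N16258 (iv F219361)) (tt N12569 F209786) (tt N12005 F209787) (tt N16311 D49081) (tt N16086 (iv F218314)) (tt N14131 F209788) (tt N11980 F209789) (tt N12975 F209790) (tt N11979 (iv D46901)) (tt N16312 D49082))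
theorem Q14133 : ∀ i, i < 14133 → P i := stepQ 14132 Q14132 (allL N14132 (tt N16259 (iv F219367)) (tt N12570 F209791) (tt N16313 D49083) (tt N11980 (iv D46902)) (tt N16314 D49084) (tt N11983 F209792) (tt N16311 (iv F219645)) (tt N11981 F209793) (tt N16291 (iv F219549)) (tt N16315 D49085))
theorem Q14134 : ∀ i, i < 14134 → P i := stepQ 14133 Q14133 (allL N14133 (tt N16260 (iv F219371)) (tt N12571 F209794) (tt N12007 F209795) (tt N16315 (iv F219659)) (tt N16130 (iv F218608)) (tt N11984 F209796) (tt N16312 (iv F219650)) (tt N11982 F209797) (tt N16172 (iv F218847)) (tt N11980 (iv D46903)))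
theorem Q14135 : ∀ i, i < 14135 → P i := stepQ 14134 Q14134 (allL N14134 (tt N16261 (iv F219377)) (tt N16316 D49086) (tt N11981 (iv D46904)) (tt N12008 F209798) (tt N16317 D49087) (tt N11985 F209799) (tt N12978 F209800) (tt N16313 (iv F219655)) (tt N16293 (iv F219557)) (tt N16318 D49088))
theorem Q14136 : ∀ i, i < 14136 → P i := stepQ 14135 Q14135 (allL N14135 (tt N16262 (iv F219383)) (tt N12573 F209801) (tt N16317 (iv F219666)) (tt N16132 (iv F218619)) (tt N11981 (iv D46905)) (tt N16319 D49089) (tt N12979 F209802) (tt N16314 (iv F219657)) (tt N16294 (iv F219560)) (tt N16320 D49090))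
theorem Q14137 : ∀ i, i < 14137 → P i := stepQ 14136 Q14136 (allL N14136 (tt N16263 (iv F219385)) (tt N12574 F209803) (tt N16318 (iv F219668)) (tt N11982 F209804) (tt N16320 (iv F219675)) (tt N11987 F209805) (tt N12980 F209806) (tt N16315 (iv F219661)) (tt N16321 D49091) (tt N11981 (iv D46906)))
theorem Q14138 : ∀ i, i < 14138 → P i := stepQ 14137 Q14137 (allL N14137 (tt N13706 F209807) (tt N16322 D49092) (tt N11983 (iv D46907)) (tt N12011 F209808) (tt N13689 (iv F209811)) (tt N16313 (iv F219654)) (tt N14137 F209809) (tt N11985 F209810) (tt N16296 (iv F219569)) (tt N16323 D49093))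
theorem Q14139 : ∀ i, i < 14139 → P i := stepQ 14138 Q14138 (allL N14138 (tt N13642 F209812) (tt N12576 F209813) (tt N13689 F209814) (tt N11994 F209815) (tt N11983 (iv D46908)) (tt N16324 D49094) (tt N14138 F209816) (tt N11986 F209817) (tt N16297 (iv F219577)) (tt N16325 D49095))
theorem Q14140 : ∀ i, i < 14140 → P i := stepQ 14139 Q14139 (allL N14139 (tt N16264 (iv F219389)) (tt N12577 F209818) (tt N16323 (iv F219686)) (tt N11984 F209819) (tt N16325 (iv F219700)) (tt N16315 (iv F219660)) (tt N14139 F209820) (tt N11987 F209821) (tt N16326 D49096) (tt N11983 (iv D46909)))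
theorem Q14141 : ∀ i, i < 14141 → P i := stepQ 14140 Q14140 (allL N14140 (tt N16327 D49097) (tt N11985 (iv D46910)) (tt N12578 F209822) (tt N12013 F209823) (tt N16328 D49098) (tt N16316 (iv F219664)) (tt N11988 F209824) (tt N16322 (iv F219684)) (tt N16299 (iv F219586)) (tt N16329 D49099))
theorem Q14142 : ∀ i, i < 14142 → P i := stepQ 14141 Q14141 (allL N14141 (tt N13569 F209825) (tt N16328 (iv F219713)) (tt N11986 F209826) (tt N13568 F209827) (tt N11985 (iv D46911)) (tt N16330 D49100) (tt N11989 F209828) (tt N13689 F209829) (tt N16300 (iv F219593)) (tt N16331 D49101))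
theorem Q14143 : ∀ i, i < 14143 → P i := stepQ 14142 Q14142 (allL N14142 (tt N16265 (iv F219395)) (tt N16329 (iv F219719)) (tt N11987 F209830) (tt N12014 F209831) (tt N16331 (iv F219730)) (tt N16318 (iv F219670)) (tt N11990 F209832) (tt N16323 (iv F219690)) (tt N16332 D49102) (tt N11985 (iv D46912)))
theorem Q14144 : ∀ i, i < 14144 → P i := stepQ 14143 Q14143 (allL N14143 (tt N16266 (iv F219402)) (tt N12581 F209833) (tt N16330 (iv F219724)) (tt N11996 F209834) (tt N16319 (iv F219673)) (tt N11986 (iv D46913)) (tt N16333 D49103) (tt N16324 (iv F219695)) (tt N16302 (iv F219600)) (tt N16334 D49104))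
theorem Q14145 : ∀ i, i < 14145 → P i := stepQ 14144 Q14144 (allL N14144 (tt N16267 (iv F219406)) (tt N12582 F209835) (tt N16331 (iv F219728)) (tt N11997 F209836) (tt N11987 F209837) (tt N16334 (iv F219740)) (tt N11992 F209838) (tt N16325 (iv F219702)) (tt N16335 D49105) (tt N11986 (iv D46914)))
theorem Q14146 : ∀ i, i < 14146 → P i := stepQ 14145 Q14145 (allL N14145 (tt N16268 (iv F219412)) (tt N12583 F209839) (tt N16332 (iv F219733)) (tt N16184 (iv F218903)) (tt N16335 (iv F219742)) (tt N16321 (iv F219678)) (tt N11993 F209840) (tt N16326 (iv F219705)) (tt N11987 (iv D46915)) (tt N16304 (iv F219607)))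
theorem Q14147 : ∀ i, i < 14147 → P i := stepQ 14146 Q14146 (allL N14146 (tt N11988 (iv D46916)) (tt N12564 F209841) (tt N12584 F209842) (tt N12016 F209843) (tt N12563 (iv F209847)) (tt N12990 F209844) (tt N16327 (iv F219709)) (tt N14146 F209845) (tt N12585 F209846) (tt N16336 D49106))
theorem Q14148 : ∀ i, i < 14148 → P i := stepQ 14147 Q14147 (allL N14147 (tt N12563 F209848) (tt N11989 F209849) (tt N12585 F209850) (tt N12687 F209851) (tt N11988 (iv D46917)) (tt N13434 (iv F209854)) (tt N16328 (iv F219716)) (tt N14147 F209852) (tt N12584 F209853) (tt N16337 D49107))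
theorem Q14149 : ∀ i, i < 14149 → P i := stepQ 14148 Q14148 (allL N14148 (tt N16336 (iv F219744)) (tt N11990 F209855) (tt N12586 F209856) (tt N12017 F209857) (tt N16337 (iv F219755)) (tt N12992 F209858) (tt N16329 (iv F219722)) (tt N14148 F209859) (tt N16338 D49108) (tt N11988 (iv D46918)))
theorem Q14150 : ∀ i, i < 14150 → P i := stepQ 14149 Q14149 (allL N14149 (tt N12717 F209860) (tt N13434 F209861) (tt N11991 F209862) (tt N12716 F209863) (tt N12993 F209864) (tt N11989 (iv D46919)) (tt N16339 D49109) (tt N14149 F209865) (tt N13398 F209866) (tt N16340 D49110))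
theorem Q14151 : ∀ i, i < 14151 → P i := stepQ 14150 Q14150 (allL N14150 (tt N13507 F209867) (tt N16337 (iv F219752)) (tt N11992 F209868) (tt N13506 F209869) (tt N11990 F209870) (tt N16340 (iv F219773)) (tt N16331 (iv F219731)) (tt N14150 F209871) (tt N16341 D49111) (tt N11989 (iv D46920)))
theorem Q14152 : ∀ i, i < 14152 → P i := stepQ 14151 Q14151 (allL N14151 (tt N16269 (iv F219415)) (tt N16338 (iv F219758)) (tt N11993 F209872) (tt N16342 D49112) (tt N16341 (iv F219778)) (tt N12995 F209873) (tt N16332 (iv F219734)) (tt N14151 F209874) (tt N11990 (iv D46921)) (tt N16307 (iv F219625)))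
theorem Q14153 : ∀ i, i < 14153 → P i := stepQ 14152 Q14152 (allL N14152 (tt N16270 (iv F219421)) (tt N12590 F209875) (tt N16339 (iv F219764)) (tt N11999 F209876) (tt N12996 F209877) (tt N16333 (iv F219737)) (tt N11991 (iv D46922)) (tt N16343 D49113) (tt N16308 (iv F219631)) (tt N16344 D49114))
theorem Q14154 : ∀ i, i < 14154 → P i := stepQ 14153 Q14153 (allL N14153 (tt N16271 (iv F219427)) (tt N12591 F209878) (tt N16340 (iv F219770)) (tt N12000 F209879) (tt N12997 F209880) (tt N11992 F209881) (tt N16344 (iv F219790)) (tt N14153 F209882) (tt N16345 D49115) (tt N11991 (iv D46923)))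
theorem Q14155 : ∀ i, i < 14155 → P i := stepQ 14154 Q14154 (allL N14154 (tt N16272 (iv F219434)) (tt N12592 F209883) (tt N16341 (iv F219776)) (tt N16346 D49116) (tt N11993 F209884) (tt N16345 (iv F219793)) (tt N16335 (iv F219743)) (tt N14154 F209885) (tt N11992 (iv D46924)) (tt N16310 (iv F219642)))
theorem Q14156 : ∀ i, i < 14156 → P i := stepQ 14155 Q14155 (allL N14155 (tt N13261 F209886) (tt N12593 F209887) (tt N13208 F209888) (tt N16324 (iv F219694)) (tt N13207 F209889) (tt N11994 (iv D46925)) (tt N16347 D49117) (tt N11996 F209890) (tt N14155 F209891) (tt N16348 D49118))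
theorem Q14157 : ∀ i, i < 14157 → P i := stepQ 14156 Q14156 (allL N14156 (tt N13643 F209892) (tt N12594 F209893) (tt N13604 F209894) (tt N16325 (iv F219699)) (tt N11995 F209895) (tt N16348 (iv F219808)) (tt N14156 F209896) (tt N11997 F209897) (tt N16349 D49119) (tt N11994 (iv D46926)))
theorem Q14158 : ∀ i, i < 14158 → P i := stepQ 14157 Q14157 (allL N14157 (tt N13644 F209898) (tt N12595 F209899) (tt N13605 F209900) (tt N16191 (iv F218942)) (tt N16349 (iv F219813)) (tt N13607 F209901) (tt N14157 F209902) (tt N11998 F209903) (tt N11995 (iv D46927)) (tt N14157 F209904))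
theorem Q14159 : ∀ i, i < 14159 → P i := stepQ 14158 Q14158 (allL N14158 (tt N16273 (iv F219438)) (tt N12596 F209905) (tt N15996 (iv F217709)) (tt N16333 (iv F219736)) (tt N16146 (iv F218692)) (tt N11999 F209906) (tt N11996 (iv D46928)) (tt N16350 D49120) (tt N14158 F209907) (tt N16351 D49121))
theorem Q14160 : ∀ i, i < 14160 → P i := stepQ 14159 Q14159 (allL N14159 (tt N16274 (iv F219444)) (tt N12597 F209908) (tt N15997 (iv F217716)) (tt N16334 (iv F219739)) (tt N16147 (iv F218698)) (tt N11997 F209909) (tt N16351 (iv F219822)) (tt N16348 (iv F219809)) (tt N16352 D49122) (tt N11996 (iv D46929)))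
theorem Q14161 : ∀ i, i < 14161 → P i := stepQ 14160 Q14160 (allL N14160 (tt N16275 (iv F219449)) (tt N12598 F209910) (tt N15998 (iv F217723)) (tt N16353 D49123) (tt N11998 F209911) (tt N16352 (iv F219824)) (tt N12001 F209912) (tt N16349 (iv F219815)) (tt N11997 (iv D46930)) (tt N14160 F209913))
theorem Q14162 : ∀ i, i < 14162 → P i := stepQ 14161 Q14161 (allL N14161 (tt N16276 (iv F219455)) (tt N12599 F209914) (tt N15999 (iv F217731)) (tt N16343 (iv F219784)) (tt N12002 F209915) (tt N16350 (iv F219818)) (tt N14161 F209916) (tt N11999 (iv D46931)) (tt N14161 F209917) (tt N16354 D49124))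
theorem Q14163 : ∀ i, i < 14163 → P i := stepQ 14162 Q14162 (allL N14162 (tt N16277 (iv F219461)) (tt N12600 F209918) (tt N16000 (iv F217738)) (tt N16344 (iv F219788)) (tt N12003 F209919) (tt N16351 (iv F219821)) (tt N12000 F209920) (tt N16354 (iv F219832)) (tt N16355 D49125) (tt N11999 (iv D46932)))
theorem Q14164 : ∀ i, i < 14164 → P i := stepQ 14163 Q14163 (allL N14163 (tt N16278 (iv F219466)) (tt N12601 F209921) (tt N16001 (iv F217744)) (tt N16356 D49126) (tt N12004 F209922) (tt N12001 F209923) (tt N16355 (iv F219835)) (tt N14163 F209924) (tt N12000 (iv D46933)) (tt N14163 F209925))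
theorem Q14165 : ∀ i, i < 14165 → P i := stepQ 14164 Q14164 (allL N14164 (tt N16279 (iv F219473)) (tt N12602 F209926) (tt N16357 D49127) (tt N12001 (iv D46934)) (tt N16194 (iv F218960)) (tt N16356 (iv F219838)) (tt N16353 (iv F219827)) (tt N14164 F209927) (tt N16346 (iv F219797)) (tt N14164 F209928))
theorem Q14166 : ∀ i, i < 14166 → P i := stepQ 14165 Q14165 (allL N14165 (tt N16280 (iv F219478)) (tt N12603 F209929) (tt N16002 (iv F217751)) (tt N13005 F209930) (tt N16354 (iv F219830)) (tt N16153 (iv F218727)) (tt N14165 F209931) (tt N12003 F209932) (tt N16358 D49128) (tt N12002 (iv D46935)))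
theorem Q14167 : ∀ i, i < 14167 → P i := stepQ 14166 Q14166 (allL N14166 (tt N16281 (iv F219483)) (tt N12604 F209933) (tt N16003 (iv F217756)) (tt N16243 (iv F219274)) (tt N16355 (iv F219834)) (tt N16154 (iv F218733)) (tt N12004 F209934) (tt N16358 (iv F219849)) (tt N12003 (iv D46936)) (tt N14166 F209935))
theorem Q14168 : ∀ i, i < 14168 → P i := stepQ 14167 Q14167 (allL N14167 (tt N16282 (iv F219488)) (tt N12019 F209936) (tt N16312 (iv F219648)) (tt N16201 (iv F219004)) (tt N16087 (iv F218322)) (tt N14167 F209937) (tt N12007 F209938) (tt N13007 F209939) (tt N16195 (iv F218971)) (tt N12005 (iv D46937)))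
theorem Q14169 : ∀ i, i < 14169 → P i := stepQ 14168 Q14168 (allL N14168 (tt N13707 F209940) (tt N16359 D49129) (tt N12006 (iv D46938)) (tt N16313 (iv F219653)) (tt N12889 F209941) (tt N12011 F209942) (tt N16199 (iv F218995)) (tt N12008 F209943) (tt N14168 F209944) (tt N16360 D49130))
theorem Q14170 : ∀ i, i < 14170 → P i := stepQ 14169 Q14169 (allL N14169 (tt N13711 F209945) (tt N12021 F209946) (tt N16360 (iv F219857)) (tt N12007 F209947) (tt N12890 F209948) (tt N12012 F209949) (tt N16201 (iv F219007)) (tt N12010 F209950) (tt N16361 D49131) (tt N12006 (iv D46939)))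
theorem Q14171 : ∀ i, i < 14171 → P i := stepQ 14170 Q14170 (allL N14170 (tt N16362 D49132) (tt N12008 (iv D46940)) (tt N12022 F209951) (tt N16316 (iv F219663)) (tt N16363 D49133) (tt N12013 F209952) (tt N13011 F209953) (tt N16359 (iv F219854)) (tt N14170 F209954) (tt N16364 D49134))
theorem Q14172 : ∀ i, i < 14172 → P i := stepQ 14171 Q14171 (allL N14171 (tt N13716 F209955) (tt N16363 (iv F219872)) (tt N12009 F209956) (tt N16365 D49135) (tt N12008 (iv D46941)) (tt N12891 F209957) (tt N13012 F209958) (tt N12889 F209959) (tt N14171 F209960) (tt N16366 D49136))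
theorem Q14173 : ∀ i, i < 14173 → P i := stepQ 14172 Q14172 (allL N14172 (tt N16283 (iv F219496)) (tt N16364 (iv F219878)) (tt N12010 F209961) (tt N16318 (iv F219669)) (tt N16366 (iv F219889)) (tt N12014 F209962) (tt N13013 F209963) (tt N16360 (iv F219860)) (tt N16367 D49137) (tt N12008 (iv D46942)))
theorem Q14174 : ∀ i, i < 14174 → P i := stepQ 14173 Q14173 (allL N14173 (tt N13719 F209964) (tt N12025 F209965) (tt N16366 (iv F219888)) (tt N12888 F209966) (tt N12010 F209967) (tt N12892 F209968) (tt N13014 F209969) (tt N12890 F209970) (tt N16368 D49138) (tt N12009 (iv D46943)))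
theorem Q14175 : ∀ i, i < 14175 → P i := stepQ 14174 Q14174 (allL N14174 (tt N16284 (iv F219503)) (tt N12026 F209971) (tt N16367 (iv F219893)) (tt N16202 (iv F219011)) (tt N16368 (iv F219900)) (tt N12015 F209972) (tt N13015 F209973) (tt N16361 (iv F219865)) (tt N12010 (iv D46944)) (tt N14174 F209974))
theorem Q14176 : ∀ i, i < 14176 → P i := stepQ 14175 Q14175 (allL N14175 (tt N16369 D49139) (tt N12011 (iv D46945)) (tt N12027 F209975) (tt N16322 (iv F219681)) (tt N13672 F209976) (tt N16359 (iv F219853)) (tt N14175 F209977) (tt N12013 F209978) (tt N14175 F209979) (tt N16370 D49140))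
theorem Q14177 : ∀ i, i < 14177 → P i := stepQ 14176 Q14176 (allL N14176 (tt N13708 F209980) (tt N16370 (iv F219911)) (tt N12012 F209981) (tt N16323 (iv F219687)) (tt N13673 F209982) (tt N16360 (iv F219859)) (tt N14176 F209983) (tt N12014 F209984) (tt N16371 D49141) (tt N12011 (iv D46946)))
theorem Q14178 : ∀ i, i < 14178 → P i := stepQ 14177 Q14177 (allL N14177 (tt N13712 F209985) (tt N12029 F209986) (tt N16371 (iv F219917)) (tt N16204 (iv F219023)) (tt N13674 F209987) (tt N16361 (iv F219864)) (tt N14177 F209988) (tt N12015 F209989) (tt N12012 (iv D46947)) (tt N14177 F209990))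
theorem Q14179 : ∀ i, i < 14179 → P i := stepQ 14178 Q14178 (allL N14178 (tt N12013 (iv D46948)) (tt N13755 F209991) (tt N12030 F209992) (tt N16327 (iv F219708)) (tt N13754 F209993) (tt N16362 (iv F219869)) (tt N12016 F209994) (tt N16369 (iv F219909)) (tt N14178 F209995) (tt N16372 D49142))
theorem Q14180 : ∀ i, i < 14180 → P i := stepQ 14179 Q14179 (allL N14179 (tt N16372 (iv F219922)) (tt N12014 F209996) (tt N12031 F209997) (tt N16329 (iv F219721)) (tt N16006 (iv F217774)) (tt N16364 (iv F219880)) (tt N12017 F209998) (tt N16370 (iv F219915)) (tt N16373 D49143) (tt N12013 (iv D46949)))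
theorem Q14181 : ∀ i, i < 14181 → P i := stepQ 14180 Q14180 (allL N14180 (tt N16285 (iv F219511)) (tt N16373 (iv F219927)) (tt N12015 F209999) (tt N16374 D49144) (tt N16007 (iv F217781)) (tt N16367 (iv F219894)) (tt N12018 F210000) (tt N16371 (iv F219920)) (tt N12014 (iv D46950)) (tt N14180 F210001))
theorem Q14182 : ∀ i, i < 14182 → P i := stepQ 14181 Q14181 (allL N14181 (tt N12017 F210002) (tt N13700 F210003) (tt N12033 F210004) (tt N16336 (iv F219747)) (tt N13699 F210005) (tt N13022 F210006) (tt N16372 (iv F219926)) (tt N14181 F210007) (tt N16375 D49145) (tt N12016 (iv D46951)))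
theorem Q14183 : ∀ i, i < 14183 → P i := stepQ 14182 Q14182 (allL N14182 (tt N16375 (iv F219933)) (tt N12018 F210008) (tt N12034 F210009) (tt N16376 D49146) (tt N16008 (iv F217790)) (tt N13023 F210010) (tt N16373 (iv F219929)) (tt N14182 F210011) (tt N12017 (iv D46952)) (tt N14182 F210012))
theorem Q14184 : ∀ i, i < 14184 → P i := stepQ 14183 Q14183 (allL N14183 (tt N16286 (iv F219518)) (tt N16376 (iv F219940)) (tt N16209 (iv F219054)) (tt N12018 (iv D46953)) (tt N16377 D49147) (tt N13024 F210013) (tt N16374 (iv F219931)) (tt N14183 F210014) (tt N16342 (iv F219782)) (tt N14183 F210015))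
theorem Q14185 : ∀ i, i < 14185 → P i := stepQ 14184 Q14184 (allL N14184 (tt N16378 D49148) (tt N12020 (iv D46954)) (tt N16359 (iv F219851)) (tt N12627 F210016) (tt N12899 F210017) (tt N12027 F210018) (tt N16212 (iv F219077)) (tt N12022 F210019) (tt N14184 F210020) (tt N16379 D49149))
theorem Q14186 : ∀ i, i < 14186 → P i := stepQ 14185 Q14185 (allL N14185 (tt N14185 F210021) (tt N16379 (iv F219955)) (tt N12021 F210022) (tt N12629 F210023) (tt N12900 F210024) (tt N12028 F210025) (tt N16214 (iv F219091)) (tt N12024 F210026) (tt N16380 D49150) (tt N12020 (iv D46955)))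
theorem Q14187 : ∀ i, i < 14187 → P i := stepQ 14186 Q14186 (allL N14186 (tt N14186 F210027) (tt N16361 (iv F219862)) (tt N16380 (iv F219961)) (tt N16211 (iv F219067)) (tt N12901 F210028) (tt N12029 F210029) (tt N16216 (iv F219102)) (tt N12026 F210030) (tt N12021 (iv D46956)) (tt N14186 F210031))
theorem Q14188 : ∀ i, i < 14188 → P i := stepQ 14187 Q14187 (allL N14187 (tt N12022 (iv D46957)) (tt N14187 F210032) (tt N16362 (iv F219868)) (tt N12632 F210033) (tt N16381 D49151) (tt N12030 F210034) (tt N13031 F210035) (tt N16378 (iv F219953)) (tt N14187 F210036) (tt N16382 D49152))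
theorem Q14189 : ∀ i, i < 14189 → P i := stepQ 14188 Q14188 (allL N14188 (tt N16381 (iv F219966)) (tt N12023 F210037) (tt N16363 (iv F219873)) (tt N13355 (iv F210042)) (tt N12022 (iv D46958)) (tt N12902 F210038) (tt N13032 F210039) (tt N12899 F210040) (tt N14188 F210041) (tt N16383 D49153))
theorem Q14190 : ∀ i, i < 14190 → P i := stepQ 14189 Q14189 (allL N14189 (tt N16382 (iv F219973)) (tt N12024 F210043) (tt N16364 (iv F219879)) (tt N12634 F210044) (tt N16383 (iv F219980)) (tt N12031 F210045) (tt N13033 F210046) (tt N16379 (iv F219959)) (tt N16384 D49154) (tt N12022 (iv D46959)))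
theorem Q14191 : ∀ i, i < 14191 → P i := stepQ 14190 Q14190 (allL N14190 (tt N14190 F210047) (tt N16383 (iv F219978)) (tt N12025 F210048) (tt N13356 F210049) (tt N12024 F210050) (tt N12903 F210051) (tt N13035 F210052) (tt N12900 F210053) (tt N16385 D49155) (tt N12023 (iv D46960)))
theorem Q14192 : ∀ i, i < 14192 → P i := stepQ 14191 Q14191 (allL N14191 (tt N14191 F210054) (tt N16384 (iv F219984)) (tt N12026 F210055) (tt N16386 D49156) (tt N16385 (iv F219991)) (tt N12032 F210056) (tt N13036 F210057) (tt N16380 (iv F219964)) (tt N12024 (iv D46961)) (tt N14191 F210058))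
theorem Q14193 : ∀ i, i < 14193 → P i := stepQ 14192 Q14192 (allL N14192 (tt N14192 F210059) (tt N16368 (iv F219898)) (tt N16385 (iv F219989)) (tt N13030 F210060) (tt N12026 F210061) (tt N12904 F210062) (tt N13037 F210063) (tt N12901 F210064) (tt N12025 (iv D46962)) (tt N14192 F210065))
theorem Q14194 : ∀ i, i < 14194 → P i := stepQ 14193 Q14193 (allL N14193 (tt N12027 (iv D46963)) (tt N14193 F210066) (tt N16369 (iv F219906)) (tt N12639 F210067) (tt N16012 (iv F217820)) (tt N16378 (iv F219951)) (tt N14193 F210068) (tt N12030 F210069) (tt N14193 F210070) (tt N16387 D49157))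
theorem Q14195 : ∀ i, i < 14195 → P i := stepQ 14194 Q14194 (allL N14194 (tt N16387 (iv F220002)) (tt N12028 F210071) (tt N16370 (iv F219912)) (tt N12640 F210072) (tt N16013 (iv F217828)) (tt N16379 (iv F219958)) (tt N14194 F210073) (tt N12031 F210074) (tt N16388 D49158) (tt N12027 (iv D46964)))
theorem Q14196 : ∀ i, i < 14196 → P i := stepQ 14195 Q14195 (allL N14195 (tt N14195 F210075) (tt N16388 (iv F220007)) (tt N12029 F210076) (tt N16389 D49159) (tt N16014 (iv F217834)) (tt N16380 (iv F219963)) (tt N14195 F210077) (tt N12032 F210078) (tt N12028 (iv D46965)) (tt N14195 F210079))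
theorem Q14197 : ∀ i, i < 14197 → P i := stepQ 14196 Q14196 (allL N14196 (tt N12031 F210080) (tt N14196 F210081) (tt N16372 (iv F219924)) (tt N12642 F210082) (tt N16015 (iv F217843)) (tt N16382 (iv F219976)) (tt N12033 F210083) (tt N16387 (iv F220006)) (tt N16390 D49160) (tt N12030 (iv D46966)))
theorem Q14198 : ∀ i, i < 14198 → P i := stepQ 14197 Q14197 (allL N14197 (tt N16390 (iv F220016)) (tt N12032 F210084) (tt N16373 (iv F219928)) (tt N16391 D49161) (tt N16016 (iv F217846)) (tt N16384 (iv F219985)) (tt N12034 F210085) (tt N16388 (iv F220009)) (tt N12031 (iv D46967)) (tt N14197 F210086))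
theorem Q14199 : ∀ i, i < 14199 → P i := stepQ 14198 Q14198 (allL N14198 (tt N14198 F210087) (tt N16391 (iv F220020)) (tt N16219 (iv F219119)) (tt N12032 (iv D46968)) (tt N16392 D49162) (tt N16386 (iv F219998)) (tt N12035 F210088) (tt N16389 (iv F220013)) (tt N12644 F210089) (tt N14198 F210090))
theorem Q14200 : ∀ i, i < 14200 → P i := stepQ 14199 Q14199 (allL N14199 (tt N12034 F210091) (tt N14199 F210092) (tt N16375 (iv F219935)) (tt N16001 (iv F217745)) (tt N16018 (iv F217859)) (tt N13044 F210093) (tt N16390 (iv F220018)) (tt N14199 F210094) (tt N12033 (iv D46969)) (tt N14199 F210095))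
theorem Q14201 : ∀ i, i < 14201 → P i := stepQ 14200 Q14200 (allL N14200 (tt N16001 (iv F217742)) (tt N12035 F210096) (tt N16278 (iv F219468)) (tt N12034 (iv D46970)) (tt N15994 (iv F217695)) (tt N13045 F210097) (tt N16391 (iv F220021)) (tt N14200 F210098) (tt N12646 F210099) (tt N14200 F210100))
theorem Q14202 : ∀ i, i < 14202 → P i := stepQ 14201 Q14201 (allL N14201 (tt N14201 F210101) (tt N15994 (iv F217693)) (tt N16222 (iv F219141)) (tt N16020 (iv F217870)) (tt N12035 (iv D46971)) (tt N15991 (iv F217673)) (tt N16392 (iv F220027)) (tt N14201 F210102) (tt N12647 F210103) (tt N14201 F210104))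
theorem Q14203 : ∀ i, i < 14203 → P i := stepQ 14202 Q14202 (allL N14202 (tt N14202 F210105) (tt N12039 F210106) (tt N14202 F210107) (tt N13592 F210108) (tt N14202 F210109) (tt N12053 F210110) (tt N14202 F210111) (tt N12170 F210112) (tt N14202 F210113) (tt N12036 (iv D46972)))
theorem Q14204 : ∀ i, i < 14204 → P i := stepQ 14203 Q14203 (allL N14203 (tt N12043 F210114) (tt N12052 F210115) (tt N12066 F210116) (tt N12037 (iv D46973)) (tt N12094 F210117) (tt N12038 F210118) (tt N12047 F210119) (tt N12172 F210120) (tt N14203 F210121) (tt N16393 D49163))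
theorem Q14205 : ∀ i, i < 14205 → P i := stepQ 14204 Q14204 (allL N14204 (tt N12044 F210122) (tt N12053 F210123) (tt N12042 F210124) (tt N16393 (iv F220033)) (tt N12050 F210125) (tt N12039 F210126) (tt N12048 F210127) (tt N12173 F210128) (tt N14204 F210129) (tt N12037 (iv D46974)))
theorem Q14206 : ∀ i, i < 14206 → P i := stepQ 14205 Q14205 (allL N14205 (tt N12046 F210130) (tt N13592 F210131) (tt N12068 F210132) (tt N12039 F210133) (tt N13591 F210134) (tt N16393 (iv F220035)) (tt N14205 F210135) (tt N12174 F210136) (tt N16394 D49164) (tt N12038 (iv D46975)))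
theorem Q14207 : ∀ i, i < 14207 → P i := stepQ 14206 Q14206 (allL N14206 (tt N12047 F210137) (tt N14206 F210138) (tt N12084 F210139) (tt N12040 (iv D46976)) (tt N12072 F210140) (tt N14206 F210141) (tt N12043 F210142) (tt N12176 F210143) (tt N14206 F210144) (tt N16395 D49165))
theorem Q14208 : ∀ i, i < 14208 → P i := stepQ 14207 Q14207 (allL N14207 (tt N12048 F210145) (tt N14207 F210146) (tt N12050 F210147) (tt N16395 (iv F220049)) (tt N12042 F210148) (tt N14207 F210149) (tt N12044 F210150) (tt N12177 F210151) (tt N14207 F210152) (tt N12040 (iv D46977)))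
theorem Q14209 : ∀ i, i < 14209 → P i := stepQ 14208 Q14208 (allL N14208 (tt N12050 F210153) (tt N14208 F210154) (tt N12048 F210155) (tt N12075 F210156) (tt N12044 F210157) (tt N14208 F210158) (tt N12042 F210159) (tt N12180 F210160) (tt N14208 F210161) (tt N12041 (iv D46978)))
theorem Q14210 : ∀ i, i < 14210 → P i := stepQ 14209 Q14209 (allL N14209 (tt N12094 F210162) (tt N14209 F210163) (tt N12086 F210164) (tt N12071 F210165) (tt N12043 (iv D46979)) (tt N13121 F210166) (tt N12072 F210167) (tt N12183 F210168) (tt N14209 F210169) (tt N16396 D49166))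
theorem Q14211 : ∀ i, i < 14211 → P i := stepQ 14210 Q14210 (allL N14210 (tt N16393 (iv F220030)) (tt N14210 F210170) (tt N12087 F210171) (tt N12044 F210172) (tt N16396 (iv F220058)) (tt N12046 F210173) (tt N16395 (iv F220052)) (tt N12184 F210174) (tt N16397 D49167) (tt N12043 (iv D46980)))
theorem Q14212 : ∀ i, i < 14212 → P i := stepQ 14211 Q14211 (allL N14211 (tt N13591 F210175) (tt N14211 F210176) (tt N12089 F210177) (tt N14211 F210178) (tt N12046 F210179) (tt N13597 F210180) (tt N14211 F210181) (tt N12186 F210182) (tt N16398 D49168) (tt N12045 (iv D46981)))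
theorem Q14213 : ∀ i, i < 14213 → P i := stepQ 14212 Q14212 (allL N14212 (tt N16394 (iv F220038)) (tt N14212 F210183) (tt N12090 F210184) (tt N14212 F210185) (tt N16398 (iv F220071)) (tt N16397 (iv F220065)) (tt N14212 F210186) (tt N12187 F210187) (tt N12046 (iv D46982)) (tt N14212 F210188))
theorem Q14214 : ∀ i, i < 14214 → P i := stepQ 14213 Q14213 (allL N14213 (tt N12084 F210189) (tt N16039 (iv F218011)) (tt N12047 (iv D46983)) (tt N12065 F210190) (tt N12096 F210191) (tt N14213 F210192) (tt N12066 F210193) (tt N12191 F210194) (tt N14213 F210195) (tt N16399 D49169))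
theorem Q14215 : ∀ i, i < 14215 → P i := stepQ 14214 Q14214 (allL N14214 (tt N16395 (iv F220046)) (tt N12055 F210196) (tt N16399 (iv F220077)) (tt N12048 F210197) (tt N12097 F210198) (tt N14214 F210199) (tt N16393 (iv F220036)) (tt N12192 F210200) (tt N16400 D49170) (tt N12047 (iv D46984)))
theorem Q14216 : ∀ i, i < 14216 → P i := stepQ 14215 Q14215 (allL N14215 (tt N12180 F210201) (tt N12056 F210202) (tt N12177 F210203) (tt N12098 F210204) (tt N12173 F210205) (tt N14215 F210206) (tt N12193 F210207) (tt N12050 F210208) (tt N14215 F210209) (tt N12049 (iv D46985)))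
theorem Q14217 : ∀ i, i < 14217 → P i := stepQ 14216 Q14216 (allL N14216 (tt N14216 F210210) (tt N12172 F210211) (tt N13116 F210217) (tt N12051 (iv D46986)) (tt N12102 F210212) (tt N12169 F210213) (tt N12197 F210214) (tt N12052 F210215) (tt N14216 F210216) (tt N16401 D49171))
theorem Q14218 : ∀ i, i < 14218 → P i := stepQ 14217 Q14217 (allL N14217 (tt N14217 F210218) (tt N12173 F210219) (tt N14217 F210220) (tt N16401 (iv F220092)) (tt N12056 F210221) (tt N12170 F210222) (tt N12198 F210223) (tt N12053 F210224) (tt N14217 F210225) (tt N12051 (iv D46987)))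
theorem Q14219 : ∀ i, i < 14219 → P i := stepQ 14218 Q14218 (allL N14218 (tt N14218 F210226) (tt N16393 (iv F220031)) (tt N13117 F210227) (tt N12053 F210228) (tt N12104 F210229) (tt N13592 F210230) (tt N12055 F210231) (tt N16401 (iv F220096)) (tt N16402 D49172) (tt N12052 (iv D46988)))
theorem Q14220 : ∀ i, i < 14220 → P i := stepQ 14219 Q14219 (allL N14219 (tt N15977 (iv F217562)) (tt N12054 (iv D46989)) (tt N16039 (iv F218012)) (tt N14219 F210232) (tt N12105 F210233) (tt N14219 F210234) (tt N13107 F210235) (tt N12201 F210236) (tt N14219 F210237) (tt N16403 D49173))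
theorem Q14221 : ∀ i, i < 14221 → P i := stepQ 14220 Q14220 (allL N14220 (tt N14220 F210238) (tt N16403 (iv F220106)) (tt N12055 F210239) (tt N14220 F210240) (tt N12106 F210241) (tt N14220 F210242) (tt N13117 F210243) (tt N12202 F210244) (tt N16404 D49174) (tt N12054 (iv D46990)))
theorem Q14222 : ∀ i, i < 14222 → P i := stepQ 14221 Q14221 (allL N14221 (tt N14221 F210245) (tt N16400 (iv F220083)) (tt N16404 (iv F220113)) (tt N14221 F210246) (tt N12107 F210247) (tt N14221 F210248) (tt N16402 (iv F220103)) (tt N12203 F210249) (tt N12055 (iv D46991)) (tt N14221 F210250))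
theorem Q14223 : ∀ i, i < 14223 → P i := stepQ 14222 Q14222 (allL N14222 (tt N12135 F210251) (tt N12062 F210252) (tt N14222 F210253) (tt N12116 F210254) (tt N12058 F210255) (tt N12114 F210256) (tt N12057 (iv D46992)) (tt N16405 D49175) (tt N16406 D49176) (tt N12109 F210257))
theorem Q14224 : ∀ i, i < 14224 → P i := stepQ 14223 Q14223 (allL N14223 (tt N12764 F210258) (tt N12063 F210259) (tt N14223 F210260) (tt N16407 D49177) (tt N12059 F210261) (tt N12749 F210262) (tt N16406 (iv F220133)) (tt N12206 F210263) (tt N12057 (iv D46993)) (tt N16408 D49178))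
theorem Q14225 : ∀ i, i < 14225 → P i := stepQ 14224 Q14224 (allL N14224 (tt N13612 F210264) (tt N12064 F210265) (tt N14224 F210266) (tt N14224 F210267) (tt N16405 (iv F220124)) (tt N14224 F210268) (tt N12207 F210269) (tt N12058 (iv D46994)) (tt N16409 D49179) (tt N12111 F210270))
theorem Q14226 : ∀ i, i < 14226 → P i := stepQ 14225 Q14225 (allL N14225 (tt N12766 F210271) (tt N12065 F210272) (tt N14225 F210273) (tt N16039 (iv F218013)) (tt N16406 (iv F220131)) (tt N14225 F210274) (tt N12059 F210275) (tt N16409 (iv F220153)) (tt N12058 (iv D46995)) (tt N16410 D49180))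
theorem Q14227 : ∀ i, i < 14227 → P i := stepQ 14226 Q14226 (allL N14226 (tt N12767 F210276) (tt N12067 F210277) (tt N14226 F210278) (tt N16040 (iv F218021)) (tt N16408 (iv F220144)) (tt N12060 F210279) (tt N16410 (iv F220160)) (tt N12209 F210280) (tt N12113 F210281) (tt N12059 (iv D46996)))
theorem Q14228 : ∀ i, i < 14228 → P i := stepQ 14227 Q14227 (allL N14227 (tt N12076 F210282) (tt N12116 F210283) (tt N14227 F210284) (tt N12062 F210285) (tt N14227 F210286) (tt N12109 F210287) (tt N12061 (iv D46997)) (tt N16411 D49181) (tt N16412 D49182) (tt N12114 F210288))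
theorem Q14229 : ∀ i, i < 14229 → P i := stepQ 14228 Q14228 (allL N14228 (tt N12077 F210289) (tt N13070 F210290) (tt N14228 F210291) (tt N16413 D49183) (tt N14228 F210292) (tt N13047 F210293) (tt N16412 (iv F220177)) (tt N12211 F210294) (tt N12061 (iv D46998)) (tt N16414 D49184))
theorem Q14230 : ∀ i, i < 14230 → P i := stepQ 14229 Q14229 (allL N14229 (tt N12078 F210295) (tt N12114 F210296) (tt N12069 F210297) (tt N12109 F210298) (tt N14229 F210299) (tt N12062 (iv D46999)) (tt N12108 F210300) (tt N16415 D49185) (tt N16416 D49186) (tt N12116 F210301))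
theorem Q14231 : ∀ i, i < 14231 → P i := stepQ 14230 Q14230 (allL N14230 (tt N12079 F210302) (tt N16405 (iv F220121)) (tt N12070 F210303) (tt N16411 (iv F220166)) (tt N12064 F210304) (tt N16415 (iv F220196)) (tt N12213 F210305) (tt N12062 (iv D47000)) (tt N16417 D49187) (tt N12117 F210306))
theorem Q14232 : ∀ i, i < 14232 → P i := stepQ 14231 Q14231 (allL N14231 (tt N12080 F210307) (tt N16406 (iv F220129)) (tt N12071 F210308) (tt N16418 D49188) (tt N12065 F210309) (tt N16416 (iv F220203)) (tt N12063 F210310) (tt N16417 (iv F220209)) (tt N12062 (iv D47001)) (tt N16419 D49189))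
theorem Q14233 : ∀ i, i < 14233 → P i := stepQ 14232 Q14232 (allL N14232 (tt N12081 F210311) (tt N16407 (iv F220135)) (tt N16420 D49190) (tt N12063 (iv D47002)) (tt N16421 D49191) (tt N13049 F210312) (tt N16418 (iv F220214)) (tt N12215 F210313) (tt N16413 (iv F220183)) (tt N16422 D49192))
theorem Q14234 : ∀ i, i < 14234 → P i := stepQ 14233 Q14233 (allL N14233 (tt N12082 F210314) (tt N16408 (iv F220142)) (tt N12073 F210315) (tt N16422 (iv F220235)) (tt N12067 F210316) (tt N13050 F210317) (tt N16419 (iv F220219)) (tt N12216 F210318) (tt N12120 F210319) (tt N12063 (iv D47003)))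
theorem Q14235 : ∀ i, i < 14235 → P i := stepQ 14234 Q14234 (allL N14234 (tt N12083 F210320) (tt N16409 (iv F220149)) (tt N12074 F210321) (tt N12191 (iv F210325)) (tt N16417 (iv F220207)) (tt N14234 F210322) (tt N12217 F210323) (tt N12065 F210324) (tt N12064 (iv D47004)) (tt N16423 D49193))
theorem Q14236 : ∀ i, i < 14236 → P i := stepQ 14235 Q14235 (allL N14235 (tt N12085 F210326) (tt N16410 (iv F220157)) (tt N12075 F210327) (tt N16399 (iv F220078)) (tt N16419 (iv F220218)) (tt N14235 F210328) (tt N12067 F210329) (tt N16423 (iv F220244)) (tt N12123 F210330) (tt N12065 (iv D47005)))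
theorem Q14237 : ∀ i, i < 14237 → P i := stepQ 14236 Q14236 (allL N14236 (tt N12086 F210331) (tt N13106 F210332) (tt N12094 F210333) (tt N16421 (iv F220230)) (tt N12066 (iv D47006)) (tt N13110 F210334) (tt N12096 F210335) (tt N12220 F210336) (tt N14236 F210337) (tt N16424 D49194))
theorem Q14238 : ∀ i, i < 14238 → P i := stepQ 14237 Q14237 (allL N14237 (tt N12087 F210338) (tt N16040 (iv F218019)) (tt N16393 (iv F220032)) (tt N12067 F210339) (tt N16424 (iv F220249)) (tt N12068 F210340) (tt N16399 (iv F220081)) (tt N12221 F210341) (tt N16425 D49195) (tt N12066 (iv D47007)))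
theorem Q14239 : ∀ i, i < 14239 → P i := stepQ 14238 Q14238 (allL N14238 (tt N12090 F210342) (tt N16041 (iv F218026)) (tt N16394 (iv F220040)) (tt N12126 F210343) (tt N16037 (iv F217998)) (tt N16425 (iv F220255)) (tt N14238 F210344) (tt N12222 F210345) (tt N12068 (iv D47008)) (tt N14238 F210346))
theorem Q14240 : ∀ i, i < 14240 → P i := stepQ 14239 Q14239 (allL N14239 (tt N12091 F210347) (tt N14239 F210348) (tt N16415 (iv F220193)) (tt N14239 F210349) (tt N14239 F210350) (tt N12070 F210351) (tt N16426 D49196) (tt N12069 (iv D47009)) (tt N16427 D49197) (tt N12127 F210352))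
theorem Q14241 : ∀ i, i < 14241 → P i := stepQ 14240 Q14240 (allL N14240 (tt N12092 F210353) (tt N14240 F210354) (tt N16416 (iv F220201)) (tt N13121 (iv F210358)) (tt N14240 F210355) (tt N12071 F210356) (tt N12774 F210357) (tt N16427 (iv F220272)) (tt N12069 (iv D47010)) (tt N16428 D49198))
theorem Q14242 : ∀ i, i < 14242 → P i := stepQ 14241 Q14241 (allL N14241 (tt N12093 F210359) (tt N14241 F210360) (tt N16417 (iv F220206)) (tt N12183 (iv F210364)) (tt N12074 F210361) (tt N16427 (iv F220270)) (tt N12225 F210362) (tt N12071 F210363) (tt N12070 (iv D47011)) (tt N16429 D49199))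
theorem Q14243 : ∀ i, i < 14243 → P i := stepQ 14242 Q14242 (allL N14242 (tt N12095 F210365) (tt N14242 F210366) (tt N16419 (iv F220217)) (tt N16396 (iv F220057)) (tt N12075 F210367) (tt N16428 (iv F220278)) (tt N12073 F210368) (tt N16429 (iv F220286)) (tt N12131 F210369) (tt N12071 (iv D47012)))
theorem Q14244 : ∀ i, i < 14244 → P i := stepQ 14243 Q14243 (allL N14243 (tt N12096 F210370) (tt N16030 (iv F217942)) (tt N12072 (iv D47013)) (tt N16420 (iv F220222)) (tt N12084 F210371) (tt N13053 F210372) (tt N12086 F210373) (tt N12228 F210374) (tt N14243 F210375) (tt N16430 D49200))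
theorem Q14245 : ∀ i, i < 14245 → P i := stepQ 14244 Q14244 (allL N14244 (tt N12097 F210376) (tt N14244 F210377) (tt N16430 (iv F220289)) (tt N12073 F210378) (tt N16395 (iv F220050)) (tt N13054 F210379) (tt N16396 (iv F220060)) (tt N12229 F210380) (tt N16431 D49201) (tt N12072 (iv D47014)))
theorem Q14246 : ∀ i, i < 14246 → P i := stepQ 14245 Q14245 (allL N14245 (tt N12098 F210381) (tt N14245 F210382) (tt N16423 (iv F220240)) (tt N12180 F210383) (tt N16429 (iv F220284)) (tt N14245 F210384) (tt N12230 F210385) (tt N12075 F210386) (tt N12134 F210387) (tt N12074 (iv D47015)))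
theorem Q14247 : ∀ i, i < 14247 → P i := stepQ 14246 Q14246 (allL N14246 (tt N16411 (iv F220163)) (tt N13614 F210388) (tt N14246 F210389) (tt N12079 F210390) (tt N14246 F210391) (tt N13611 F210392) (tt N12232 F210393) (tt N12076 (iv D47016)) (tt N13626 (iv F210395)) (tt N12136 F210394))
theorem Q14248 : ∀ i, i < 14248 → P i := stepQ 14247 Q14247 (allL N14247 (tt N16412 (iv F220172)) (tt N13575 F210396) (tt N14247 F210397) (tt N16432 D49202) (tt N14247 F210398) (tt N13573 F210399) (tt N12077 F210400) (tt N13626 F210401) (tt N12076 (iv D47017)) (tt N16433 D49203))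
theorem Q14249 : ∀ i, i < 14249 → P i := stepQ 14248 Q14248 (allL N14248 (tt N16413 (iv F220179)) (tt N16021 (iv F217877)) (tt N16434 D49204) (tt N12077 (iv D47018)) (tt N16435 D49205) (tt N13056 F210402) (tt N16432 (iv F220302)) (tt N12234 F210403) (tt N12081 F210404) (tt N16436 D49206))
theorem Q14250 : ∀ i, i < 14250 → P i := stepQ 14249 Q14249 (allL N14249 (tt N16414 (iv F220184)) (tt N16022 (iv F217884)) (tt N14249 F210405) (tt N16436 (iv F220319)) (tt N14249 F210406) (tt N13057 F210407) (tt N16433 (iv F220309)) (tt N12235 F210408) (tt N12139 F210409) (tt N12077 (iv D47019)))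
theorem Q14251 : ∀ i, i < 14251 → P i := stepQ 14250 Q14250 (allL N14250 (tt N16415 (iv F220191)) (tt N13613 F210410) (tt N12091 F210411) (tt N13611 F210412) (tt N14250 F210413) (tt N12079 F210414) (tt N16097 (iv F218391)) (tt N12078 (iv D47020)) (tt N16437 D49207) (tt N12140 F210415))
theorem Q14252 : ∀ i, i < 14252 → P i := stepQ 14251 Q14251 (allL N14251 (tt N16416 (iv F220199)) (tt N12770 F210416) (tt N12092 F210417) (tt N16438 D49208) (tt N14251 F210418) (tt N12080 F210419) (tt N12772 F210420) (tt N16437 (iv F220328)) (tt N12078 (iv D47021)) (tt N16439 D49209))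
theorem Q14253 : ∀ i, i < 14253 → P i := stepQ 14252 Q14252 (allL N14252 (tt N16417 (iv F220205)) (tt N16023 (iv F217892)) (tt N12093 F210421) (tt N16440 D49210) (tt N12083 F210422) (tt N16437 (iv F220326)) (tt N12238 F210423) (tt N12080 F210424) (tt N12079 (iv D47022)) (tt N16441 D49211))
theorem Q14254 : ∀ i, i < 14254 → P i := stepQ 14253 Q14253 (allL N14253 (tt N16418 (iv F220211)) (tt N16024 (iv F217901)) (tt N16421 (iv F220229)) (tt N12080 (iv D47023)) (tt N16420 F220226) (tt N16438 (iv F220331)) (tt N12081 F210425) (tt N16440 (iv F220348)) (tt N16432 (iv F220304)) (tt N16442 D49212))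
theorem Q14255 : ∀ i, i < 14255 → P i := stepQ 14254 Q14254 (allL N14254 (tt N16419 (iv F220216)) (tt N16025 (iv F217908)) (tt N12095 F210426) (tt N16442 (iv F220356)) (tt N12085 F210427) (tt N16439 (iv F220339)) (tt N12082 F210428) (tt N16441 (iv F220354)) (tt N12144 F210429) (tt N12080 (iv D47024)))
theorem Q14256 : ∀ i, i < 14256 → P i := stepQ 14255 Q14255 (allL N14255 (tt N16420 (iv F220221)) (tt N16443 D49213) (tt N12081 (iv D47025)) (tt N12096 F210430) (tt N16418 (iv F220213)) (tt N13060 F210431) (tt N16421 (iv F220232)) (tt N12241 F210432) (tt N16434 (iv F220315)) (tt N16444 D49214))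
theorem Q14257 : ∀ i, i < 14257 → P i := stepQ 14256 Q14256 (allL N14256 (tt N16421 (iv F220227)) (tt N16027 (iv F217923)) (tt N16418 (iv F220212)) (tt N12086 F210433) (tt N12081 (iv D47026)) (tt N16445 D49215) (tt N16420 (iv F220224)) (tt N12242 F210434) (tt N16435 (iv F220318)) (tt N16446 D49216))
theorem Q14258 : ∀ i, i < 14258 → P i := stepQ 14257 Q14257 (allL N14257 (tt N16422 (iv F220234)) (tt N16028 (iv F217928)) (tt N16444 (iv F220363)) (tt N12082 F210435) (tt N16446 (iv F220374)) (tt N13062 F210436) (tt N16442 (iv F220357)) (tt N12243 F210437) (tt N16447 D49217) (tt N12081 (iv D47027)))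
theorem Q14259 : ∀ i, i < 14259 → P i := stepQ 14258 Q14258 (allL N14258 (tt N12191 F210438) (tt N16029 (iv F217933)) (tt N12176 F210439) (tt N12083 (iv D47028)) (tt N12228 (iv F210444)) (tt N14258 F210440) (tt N12244 F210441) (tt N12084 F210442) (tt N14258 F210443) (tt N16448 D49218))
theorem Q14260 : ∀ i, i < 14260 → P i := stepQ 14259 Q14259 (allL N14259 (tt N16423 (iv F220238)) (tt N13603 F210445) (tt N12098 F210446) (tt N16448 (iv F220382)) (tt N16441 (iv F220352)) (tt N14259 F210447) (tt N12245 F210448) (tt N12085 F210449) (tt N12148 F210450) (tt N12083 (iv D47029)))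
theorem Q14261 : ∀ i, i < 14261 → P i := stepQ 14260 Q14260 (allL N14260 (tt N16399 (iv F220076)) (tt N16031 (iv F217949)) (tt N16395 (iv F220048)) (tt N12085 F210451) (tt N16430 (iv F220290)) (tt N14260 F210452) (tt N12087 F210453) (tt N16448 (iv F220386)) (tt N16449 D49219) (tt N12084 (iv D47030)))
theorem Q14262 : ∀ i, i < 14262 → P i := stepQ 14261 Q14261 (allL N14261 (tt N13110 F210454) (tt N12124 F210455) (tt N13121 F210456) (tt N16445 (iv F220369)) (tt N12088 F210457) (tt N12086 (iv D47031)) (tt N13113 (iv F210460)) (tt N12248 F210458) (tt N14261 F210459) (tt N16450 D49220))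
theorem Q14263 : ∀ i, i < 14263 → P i := stepQ 14262 Q14262 (allL N14262 (tt N16424 (iv F220246)) (tt N16032 (iv F217957)) (tt N16396 (iv F220056)) (tt N16446 (iv F220373)) (tt N12087 F210461) (tt N16450 (iv F220398)) (tt N16430 (iv F220292)) (tt N12249 F210462) (tt N16451 D49221) (tt N12086 (iv D47032)))
theorem Q14264 : ∀ i, i < 14264 → P i := stepQ 14263 Q14263 (allL N14263 (tt N16425 (iv F220253)) (tt N16033 (iv F217963)) (tt N16397 (iv F220063)) (tt N12153 F210463) (tt N16451 (iv F220401)) (tt N12090 F210464) (tt N16449 (iv F220391)) (tt N12250 F210465) (tt N12087 (iv D47033)) (tt N14263 F210466))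
theorem Q14265 : ∀ i, i < 14265 → P i := stepQ 14264 Q14264 (allL N14264 (tt N13583 F210467) (tt N12125 F210468) (tt N13597 F210469) (tt N12113 F210470) (tt N16450 (iv F220397)) (tt N12089 F210471) (tt N13585 F210472) (tt N12252 F210473) (tt N16452 D49222) (tt N12088 (iv D47034)))
theorem Q14266 : ∀ i, i < 14266 → P i := stepQ 14265 Q14265 (allL N14265 (tt N16037 (iv F217994)) (tt N12126 F210474) (tt N16398 (iv F220070)) (tt N16041 (iv F218028)) (tt N12090 F210475) (tt N16452 (iv F220407)) (tt N14265 F210476) (tt N12253 F210477) (tt N12089 (iv D47035)) (tt N14265 F210478))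
theorem Q14267 : ∀ i, i < 14267 → P i := stepQ 14266 Q14266 (allL N14266 (tt N16426 (iv F220258)) (tt N12099 F210479) (tt N16097 (iv F218387)) (tt N14266 F210480) (tt N14266 F210481) (tt N12254 F210482) (tt N12091 (iv D47036)) (tt N12739 F210483) (tt N12856 (iv F210485)) (tt N12157 F210484))
theorem Q14268 : ∀ i, i < 14268 → P i := stepQ 14267 Q14267 (allL N14267 (tt N16427 (iv F220267)) (tt N12100 F210486) (tt N16437 (iv F220323)) (tt N13119 (iv F210491)) (tt N14267 F210487) (tt N12093 F210488) (tt N12856 F210489) (tt N12092 F210490) (tt N12091 (iv D47037)) (tt N16096 (iv F218383)))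
theorem Q14269 : ∀ i, i < 14269 → P i := stepQ 14268 Q14268 (allL N14268 (tt N16428 (iv F220274)) (tt N12101 F210492) (tt N16439 (iv F220337)) (tt N13122 F210493) (tt N14268 F210494) (tt N12095 F210495) (tt N12775 F210496) (tt N16096 (iv F218382)) (tt N12158 F210497) (tt N12092 (iv D47038)))
theorem Q14270 : ∀ i, i < 14270 → P i := stepQ 14269 Q14269 (allL N14269 (tt N12183 F210498) (tt N12102 F210499) (tt N12220 (iv F210505)) (tt N12093 (iv D47039)) (tt N12172 F210500) (tt N13119 F210501) (tt N12258 F210502) (tt N12094 F210503) (tt N14269 F210504) (tt N16453 D49223))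
theorem Q14271 : ∀ i, i < 14271 → P i := stepQ 14270 Q14270 (allL N14270 (tt N16429 (iv F220281)) (tt N12103 F210506) (tt N16441 (iv F220351)) (tt N16453 (iv F220414)) (tt N12098 F210507) (tt N16096 (iv F218380)) (tt N12259 F210508) (tt N12095 F210509) (tt N12159 F210510) (tt N12093 (iv D47040)))
theorem Q14272 : ∀ i, i < 14272 → P i := stepQ 14271 Q14271 (allL N14271 (tt N16396 (iv F220054)) (tt N12104 F210511) (tt N16424 (iv F220248)) (tt N12095 F210512) (tt N16393 (iv F220034)) (tt N13122 F210513) (tt N12097 F210514) (tt N16453 (iv F220418)) (tt N16454 D49224) (tt N12094 (iv D47041)))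
theorem Q14273 : ∀ i, i < 14273 → P i := stepQ 14272 Q14272 (allL N14272 (tt N16052 (iv F218104)) (tt N12096 (iv D47042)) (tt N12105 F210515) (tt N16443 (iv F220359)) (tt N16039 (iv F218014)) (tt N12160 F210516) (tt N13106 F210517) (tt N12262 F210518) (tt N14272 F210519) (tt N16455 D49225))
theorem Q14274 : ∀ i, i < 14274 → P i := stepQ 14273 Q14273 (allL N14273 (tt N16430 (iv F220288)) (tt N16455 (iv F220426)) (tt N12097 F210520) (tt N16444 (iv F220364)) (tt N16399 (iv F220079)) (tt N13066 F210521) (tt N16424 (iv F220251)) (tt N12263 F210522) (tt N16456 D49226) (tt N12096 (iv D47043)))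
theorem Q14275 : ∀ i, i < 14275 → P i := stepQ 14274 Q14274 (allL N14274 (tt N16431 (iv F220294)) (tt N12107 F210523) (tt N16456 (iv F220431)) (tt N12164 F210524) (tt N16400 (iv F220085)) (tt N13067 F210525) (tt N16454 (iv F220423)) (tt N12264 F210526) (tt N12097 (iv D47044)) (tt N14274 F210527))
theorem Q14276 : ∀ i, i < 14276 → P i := stepQ 14275 Q14275 (allL N14275 (tt N14275 F210528) (tt N16453 (iv F220412)) (tt N12863 F210529) (tt N12103 F210530) (tt N16401 (iv F220093)) (tt N13120 F210531) (tt N12272 F210532) (tt N12104 F210533) (tt N13185 (iv F210534)) (tt N12102 (iv D47045)))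
theorem Q14277 : ∀ i, i < 14277 → P i := stepQ 14276 Q14276 (allL N14276 (tt N14276 F210535) (tt N16454 (iv F220420)) (tt N13118 F210536) (tt N12165 F210537) (tt N16402 (iv F220101)) (tt N13123 F210538) (tt N12107 F210539) (tt N13185 F210540) (tt N12104 (iv D47046)) (tt N14276 F210541))
theorem Q14278 : ∀ i, i < 14278 → P i := stepQ 14277 Q14277 (allL N14277 (tt N12105 (iv D47047)) (tt N14277 F210542) (tt N16052 (iv F218106)) (tt N12128 F210543) (tt N15977 (iv F217566)) (tt N12130 F210544) (tt N13079 F210545) (tt N12276 F210546) (tt N14277 F210547) (tt N16457 D49227))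
theorem Q14279 : ∀ i, i < 14279 → P i := stepQ 14278 Q14278 (allL N14278 (tt N16457 (iv F220435)) (tt N12106 F210548) (tt N16455 (iv F220427)) (tt N12158 F210549) (tt N16403 (iv F220108)) (tt N12161 F210550) (tt N13108 F210551) (tt N12277 F210552) (tt N16458 D49228) (tt N12105 (iv D47048)))
theorem Q14280 : ∀ i, i < 14280 → P i := stepQ 14279 Q14279 (allL N14279 (tt N14279 F210553) (tt N16458 (iv F220441)) (tt N12107 F210554) (tt N13123 F210555) (tt N16404 (iv F220114)) (tt N12165 F210556) (tt N13118 F210557) (tt N12278 F210558) (tt N12106 (iv D47049)) (tt N14279 F210559))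
theorem Q14281 : ∀ i, i < 14281 → P i := stepQ 14280 Q14280 (allL N14280 (tt N12772 F210560) (tt N12115 F210561) (tt N12774 F210562) (tt N16459 D49229) (tt N14280 F210563) (tt N13048 F210564) (tt N16416 (iv F220204)) (tt N12281 F210565) (tt N12108 (iv D47050)) (tt N16460 D49230))
theorem Q14282 : ∀ i, i < 14282 → P i := stepQ 14281 Q14281 (allL N14281 (tt N13611 F210566) (tt N12117 F210567) (tt N14281 F210568) (tt N16415 (iv F220194)) (tt N12111 F210569) (tt N16411 (iv F220168)) (tt N12283 F210570) (tt N12109 (iv D47051)) (tt N13624 (iv F210571)) (tt N16405 (iv F220127)))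
theorem Q14283 : ∀ i, i < 14283 → P i := stepQ 14282 Q14282 (allL N14282 (tt N13573 F210572) (tt N12118 F210573) (tt N14282 F210574) (tt N16461 D49231) (tt N12112 F210575) (tt N16412 (iv F220176)) (tt N12110 F210576) (tt N13624 F210577) (tt N12109 (iv D47052)) (tt N16462 D49232))
theorem Q14284 : ∀ i, i < 14284 → P i := stepQ 14283 Q14283 (allL N14283 (tt N16035 (iv F217978)) (tt N12119 F210578) (tt N16463 D49233) (tt N12110 (iv D47053)) (tt N16445 (iv F220370)) (tt N13061 F210579) (tt N16461 (iv F220463)) (tt N12285 F210580) (tt N16459 (iv F220452)) (tt N16464 D49234))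
theorem Q14285 : ∀ i, i < 14285 → P i := stepQ 14284 Q14284 (allL N14284 (tt N16036 (iv F217986)) (tt N12120 F210581) (tt N14284 F210582) (tt N16464 (iv F220477)) (tt N12113 F210583) (tt N13065 F210584) (tt N16462 (iv F220469)) (tt N12286 F210585) (tt N16408 (iv F220147)) (tt N12110 (iv D47054)))
theorem Q14286 : ∀ i, i < 14286 → P i := stepQ 14285 Q14285 (allL N14285 (tt N13574 F210586) (tt N12123 F210587) (tt N14285 F210588) (tt N13585 F210589) (tt N16462 (iv F220468)) (tt N14285 F210590) (tt N12113 F210591) (tt N13625 F210592) (tt N16410 (iv F220162)) (tt N12112 (iv D47055)))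
theorem Q14287 : ∀ i, i < 14287 → P i := stepQ 14286 Q14286 (allL N14286 (tt N12136 F210593) (tt N16415 (iv F220192)) (tt N14286 F210594) (tt N12117 F210595) (tt N14286 F210596) (tt N16405 (iv F220125)) (tt N12290 F210597) (tt N12114 (iv D47056)) (tt N16465 D49235) (tt N16411 (iv F220170)))
theorem Q14288 : ∀ i, i < 14288 → P i := stepQ 14287 Q14287 (allL N14287 (tt N12137 F210598) (tt N16416 (iv F220200)) (tt N14287 F210599) (tt N16466 D49236) (tt N14287 F210600) (tt N16406 (iv F220132)) (tt N12115 F210601) (tt N16465 (iv F220484)) (tt N12114 (iv D47057)) (tt N16467 D49237))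
theorem Q14289 : ∀ i, i < 14289 → P i := stepQ 14288 Q14288 (allL N14288 (tt N12138 F210602) (tt N16459 (iv F220448)) (tt N16468 D49238) (tt N12115 (iv D47058)) (tt N16469 D49239) (tt N13068 F210603) (tt N16466 (iv F220486)) (tt N12292 F210604) (tt N12119 F210605) (tt N16470 D49240))
theorem Q14290 : ∀ i, i < 14290 → P i := stepQ 14289 Q14289 (allL N14289 (tt N12139 F210606) (tt N16460 (iv F220454)) (tt N14289 F210607) (tt N16470 (iv F220502)) (tt N14289 F210608) (tt N13069 F210609) (tt N16467 (iv F220491)) (tt N12293 F210610) (tt N16414 (iv F220190)) (tt N12115 (iv D47059)))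
theorem Q14291 : ∀ i, i < 14291 → P i := stepQ 14290 Q14290 (allL N14290 (tt N12140 F210611) (tt N16411 (iv F220164)) (tt N12127 F210612) (tt N16405 (iv F220123)) (tt N14290 F210613) (tt N12117 F210614) (tt N16471 D49241) (tt N12116 (iv D47060)) (tt N16090 (iv F218344)) (tt N16415 (iv F220198)))
theorem Q14292 : ∀ i, i < 14292 → P i := stepQ 14291 Q14291 (allL N14291 (tt N12141 F210615) (tt N16412 (iv F220173)) (tt N12128 F210616) (tt N16472 D49242) (tt N14291 F210617) (tt N12118 F210618) (tt N13070 F210619) (tt N16090 (iv F218343)) (tt N12116 (iv D47061)) (tt N16473 D49243))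
theorem Q14293 : ∀ i, i < 14293 → P i := stepQ 14292 Q14292 (allL N14292 (tt N12142 F210620) (tt N13624 F210621) (tt N12129 F210622) (tt N16474 D49244) (tt N12121 F210623) (tt N16090 (iv F218342)) (tt N12296 F210624) (tt N12118 F210625) (tt N12117 (iv D47062)) (tt N16475 D49245))
theorem Q14294 : ∀ i, i < 14294 → P i := stepQ 14293 Q14293 (allL N14293 (tt N12143 F210626) (tt N16461 (iv F220461)) (tt N16476 D49246) (tt N12118 (iv D47063)) (tt N16477 D49247) (tt N16472 (iv F220514)) (tt N12119 F210627) (tt N16474 (iv F220526)) (tt N16466 (iv F220487)) (tt N16478 D49248))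
theorem Q14295 : ∀ i, i < 14295 → P i := stepQ 14294 Q14294 (allL N14294 (tt N12144 F210628) (tt N16462 (iv F220466)) (tt N12131 F210629) (tt N16478 (iv F220543)) (tt N12123 F210630) (tt N16473 (iv F220519)) (tt N12120 F210631) (tt N16475 (iv F220532)) (tt N16419 (iv F220220)) (tt N12118 (iv D47064)))
theorem Q14296 : ∀ i, i < 14296 → P i := stepQ 14295 Q14295 (allL N14295 (tt N12145 F210632) (tt N16479 D49249) (tt N12119 (iv D47065)) (tt N12132 F210633) (tt N16480 D49250) (tt N13074 F210634) (tt N16476 (iv F220535)) (tt N12299 F210635) (tt N16468 (iv F220496)) (tt N16481 D49251))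
theorem Q14297 : ∀ i, i < 14297 → P i := stepQ 14296 Q14296 (allL N14296 (tt N12146 F210636) (tt N16445 (iv F220368)) (tt N16480 (iv F220549)) (tt N12124 F210637) (tt N12119 (iv D47066)) (tt N16027 (iv F217925)) (tt N16477 (iv F220540)) (tt N12300 F210638) (tt N16469 (iv F220500)) (tt N16482 D49252))
theorem Q14298 : ∀ i, i < 14298 → P i := stepQ 14297 Q14297 (allL N14297 (tt N12147 F210639) (tt N16464 (iv F220476)) (tt N16481 (iv F220553)) (tt N12120 F210640) (tt N16482 (iv F220559)) (tt N13075 F210641) (tt N16478 (iv F220544)) (tt N12301 F210642) (tt N16483 D49253) (tt N12119 (iv D47067)))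
theorem Q14299 : ∀ i, i < 14299 → P i := stepQ 14298 Q14298 (allL N14298 (tt N12148 F210643) (tt N13625 F210644) (tt N12134 F210645) (tt N13608 F210646) (tt N16475 (iv F220530)) (tt N14298 F210647) (tt N12303 F210648) (tt N12123 F210649) (tt N16423 (iv F220245)) (tt N12121 (iv D47068)))
theorem Q14300 : ∀ i, i < 14300 → P i := stepQ 14299 Q14299 (allL N14299 (tt N12149 F210650) (tt N13113 F210651) (tt N14299 F210652) (tt N16477 (iv F220539)) (tt N12122 (iv D47069)) (tt N16484 D49254) (tt N12124 F210653) (tt N13213 F210654) (tt N14299 F210655) (tt N16485 D49255))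
theorem Q14301 : ∀ i, i < 14301 → P i := stepQ 14300 Q14300 (allL N14300 (tt N12150 F210656) (tt N13585 F210657) (tt N14300 F210658) (tt N12123 F210659) (tt N16485 (iv F220574)) (tt N14300 F210660) (tt N12125 F210661) (tt N13608 F210662) (tt N16486 D49256) (tt N12122 (iv D47070)))
theorem Q14302 : ∀ i, i < 14302 → P i := stepQ 14301 Q14301 (allL N14301 (tt N12152 F210663) (tt N16450 (iv F220395)) (tt N14301 F210664) (tt N16482 (iv F220558)) (tt N12125 F210665) (tt N16032 (iv F217960)) (tt N16485 (iv F220575)) (tt N12306 F210666) (tt N16487 D49257) (tt N12124 (iv D47071)))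
theorem Q14303 : ∀ i, i < 14303 → P i := stepQ 14302 Q14302 (allL N14302 (tt N12153 F210667) (tt N16452 (iv F220405)) (tt N14302 F210668) (tt N16425 (iv F220254)) (tt N16487 (iv F220586)) (tt N12126 F210669) (tt N16486 (iv F220581)) (tt N12307 F210670) (tt N12125 (iv D47072)) (tt N14302 F210671))
theorem Q14304 : ∀ i, i < 14304 → P i := stepQ 14303 Q14303 (allL N14303 (tt N12157 F210672) (tt N14303 F210673) (tt N16471 (iv F220507)) (tt N14303 F210674) (tt N14303 F210675) (tt N12308 F210676) (tt N12127 (iv D47073)) (tt N13077 F210677) (tt N16093 (iv F218364)) (tt N16426 (iv F220265)))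
theorem Q14305 : ∀ i, i < 14305 → P i := stepQ 14304 Q14304 (allL N14304 (tt N12158 F210678) (tt N14304 F210679) (tt N16473 (iv F220517)) (tt N16457 (iv F220437)) (tt N14304 F210680) (tt N12131 F210681) (tt N13080 F210682) (tt N16095 (iv F218377)) (tt N16428 (iv F220280)) (tt N12128 (iv D47074)))
theorem Q14306 : ∀ i, i < 14306 → P i := stepQ 14305 Q14305 (allL N14305 (tt N12159 F210683) (tt N14305 F210684) (tt N16475 (iv F220529)) (tt N13183 F210685) (tt N12134 F210686) (tt N16095 (iv F218376)) (tt N12313 F210687) (tt N12131 F210688) (tt N16429 (iv F220287)) (tt N12129 (iv D47075)))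
theorem Q14307 : ∀ i, i < 14307 → P i := stepQ 14306 Q14306 (allL N14306 (tt N12160 F210689) (tt N16488 D49258) (tt N12130 (iv D47076)) (tt N16476 (iv F220534)) (tt N14306 F210690) (tt N16052 (iv F218108)) (tt N12132 F210691) (tt N13178 F210692) (tt N14306 F210693) (tt N16489 D49259))
theorem Q14308 : ∀ i, i < 14308 → P i := stepQ 14307 Q14307 (allL N14307 (tt N12161 F210694) (tt N14307 F210695) (tt N16489 (iv F220597)) (tt N12131 F210696) (tt N14307 F210697) (tt N16457 (iv F220438)) (tt N12133 F210698) (tt N13183 F210699) (tt N16490 D49260) (tt N12130 (iv D47077)))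
theorem Q14309 : ∀ i, i < 14309 → P i := stepQ 14308 Q14308 (allL N14308 (tt N16484 (iv F220564)) (tt N12132 (iv D47078)) (tt N14308 F210700) (tt N16479 (iv F220545)) (tt N14308 F210701) (tt N12149 F210702) (tt N16488 (iv F220593)) (tt N12316 F210703) (tt N14308 F210704) (tt N16491 D49261))
theorem Q14310 : ∀ i, i < 14310 → P i := stepQ 14309 Q14309 (allL N14309 (tt N12163 F210705) (tt N16491 (iv F220607)) (tt N12133 F210706) (tt N16481 (iv F220554)) (tt N14309 F210707) (tt N13083 F210708) (tt N16489 (iv F220599)) (tt N12317 F210709) (tt N16492 D49262) (tt N12132 (iv D47079)))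
theorem Q14311 : ∀ i, i < 14311 → P i := stepQ 14310 Q14310 (allL N14310 (tt N12164 F210710) (tt N14310 F210711) (tt N16492 (iv F220613)) (tt N16431 (iv F220296)) (tt N14310 F210712) (tt N13084 F210713) (tt N16490 (iv F220604)) (tt N12318 F210714) (tt N12133 (iv D47080)) (tt N14310 F210715))
theorem Q14312 : ∀ i, i < 14312 → P i := stepQ 14311 Q14311 (allL N14311 (tt N16405 (iv F220120)) (tt N13615 F210716) (tt N14311 F210717) (tt N12140 F210718) (tt N13612 F210719) (tt N12136 F210720) (tt N13758 F210721) (tt N12135 (iv D47081)) (tt N16493 D49263) (tt N13611 F210722))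
theorem Q14313 : ∀ i, i < 14313 → P i := stepQ 14312 Q14312 (allL N14312 (tt N16406 (iv F220128)) (tt N13100 F210723) (tt N14312 F210724) (tt N16494 D49264) (tt N12766 F210725) (tt N12137 F210726) (tt N12764 F210727) (tt N16493 (iv F220623)) (tt N12135 (iv D47082)) (tt N16495 D49265))
theorem Q14314 : ∀ i, i < 14314 → P i := stepQ 14313 Q14313 (allL N14313 (tt N16465 (iv F220480)) (tt N16042 (iv F218034)) (tt N14313 F210728) (tt N16496 D49266) (tt N14313 F210729) (tt N16493 (iv F220621)) (tt N12322 F210730) (tt N12137 F210731) (tt N12136 (iv D47083)) (tt N16497 D49267))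
theorem Q14315 : ∀ i, i < 14315 → P i := stepQ 14314 Q14314 (allL N14314 (tt N16466 (iv F220485)) (tt N16043 (iv F218043)) (tt N16498 D49268) (tt N12137 (iv D47084)) (tt N16499 D49269) (tt N16494 (iv F220626)) (tt N12138 F210732) (tt N16496 (iv F220638)) (tt N12143 F210733) (tt N16500 D49270))
theorem Q14316 : ∀ i, i < 14316 → P i := stepQ 14315 Q14315 (allL N14315 (tt N16467 (iv F220488)) (tt N16044 (iv F218051)) (tt N14315 F210734) (tt N16500 (iv F220659)) (tt N14315 F210735) (tt N16495 (iv F220632)) (tt N12139 F210736) (tt N16497 (iv F220647)) (tt N16433 (iv F220311)) (tt N12137 (iv D47085)))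
theorem Q14317 : ∀ i, i < 14317 → P i := stepQ 14316 Q14316 (allL N14316 (tt N16468 (iv F220492)) (tt N16501 D49271) (tt N12138 (iv D47086)) (tt N14316 F210737) (tt N16502 D49272) (tt N13085 F210738) (tt N16498 (iv F220651)) (tt N12325 F210739) (tt N12145 F210740) (tt N16503 D49273))
theorem Q14318 : ∀ i, i < 14318 → P i := stepQ 14317 Q14317 (allL N14317 (tt N16469 (iv F220497)) (tt N16045 (iv F218059)) (tt N16502 (iv F220670)) (tt N14317 F210741) (tt N12138 (iv D47087)) (tt N16504 D49274) (tt N16499 (iv F220656)) (tt N12326 F210742) (tt N12146 F210743) (tt N16505 D49275))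
theorem Q14319 : ∀ i, i < 14319 → P i := stepQ 14318 Q14318 (allL N14318 (tt N16470 (iv F220501)) (tt N16046 (iv F218067)) (tt N16503 (iv F220674)) (tt N12139 F210744) (tt N16505 (iv F220684)) (tt N13086 F210745) (tt N16500 (iv F220660)) (tt N12327 F210746) (tt N16506 D49276) (tt N12138 (iv D47088)))
theorem Q14320 : ∀ i, i < 14320 → P i := stepQ 14319 Q14319 (allL N14319 (tt N16471 (iv F220505)) (tt N13767 F210747) (tt N12157 F210748) (tt N13758 F210749) (tt N14319 F210750) (tt N12328 F210751) (tt N12140 (iv D47089)) (tt N13087 F210752) (tt N16088 (iv F218332)) (tt N16097 (iv F218393)))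
theorem Q14321 : ∀ i, i < 14321 → P i := stepQ 14320 Q14320 (allL N14320 (tt N16472 (iv F220513)) (tt N16026 F217921) (tt N16443 (iv F220358)) (tt N12141 (iv D47090)) (tt N16507 D49277) (tt N12143 F210753) (tt N13089 F210754) (tt N16074 (iv F218247)) (tt N16494 (iv F220628)) (tt N16508 D49278))
theorem Q14322 : ∀ i, i < 14322 → P i := stepQ 14321 Q14321 (allL N14321 (tt N16473 (iv F220516)) (tt N16034 (iv F217971)) (tt N12158 F210755) (tt N16508 (iv F220691)) (tt N14321 F210756) (tt N12144 F210757) (tt N13090 F210758) (tt N16091 (iv F218349)) (tt N16439 (iv F220341)) (tt N12141 (iv D47091)))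
theorem Q14323 : ∀ i, i < 14323 → P i := stepQ 14322 Q14322 (allL N14322 (tt N16474 (iv F220521)) (tt N12784 F210759) (tt N13164 F210760) (tt N12142 (iv D47092)) (tt N13201 F210761) (tt N16074 (iv F218246)) (tt N12332 F210762) (tt N12143 F210763) (tt N16496 (iv F220639)) (tt N16509 D49279))
theorem Q14324 : ∀ i, i < 14324 → P i := stepQ 14323 Q14323 (allL N14323 (tt N16475 (iv F220527)) (tt N12788 F210764) (tt N12159 F210765) (tt N16509 (iv F220696)) (tt N12148 F210766) (tt N16091 (iv F218348)) (tt N12333 F210767) (tt N12144 F210768) (tt N16441 (iv F220355)) (tt N12142 (iv D47093)))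
theorem Q14325 : ∀ i, i < 14325 → P i := stepQ 14324 Q14324 (allL N14324 (tt N16476 (iv F220533)) (tt N13060 F210769) (tt N12143 (iv D47094)) (tt N12160 F210770) (tt N16510 D49280) (tt N16443 (iv F220360)) (tt N12145 F210771) (tt N13164 F210772) (tt N16498 (iv F220653)) (tt N16511 D49281))
theorem Q14326 : ∀ i, i < 14326 → P i := stepQ 14325 Q14325 (allL N14325 (tt N16477 (iv F220537)) (tt N13074 F210773) (tt N16510 (iv F220701)) (tt N12149 F210774) (tt N12143 (iv D47095)) (tt N16479 (iv F220546)) (tt N12146 F210775) (tt N13201 F210776) (tt N16499 (iv F220658)) (tt N16512 D49282))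
theorem Q14327 : ∀ i, i < 14327 → P i := stepQ 14326 Q14326 (allL N14326 (tt N16478 (iv F220542)) (tt N16047 (iv F218073)) (tt N16511 (iv F220706)) (tt N12144 F210777) (tt N16512 (iv F220712)) (tt N16508 (iv F220692)) (tt N12147 F210778) (tt N16509 (iv F220699)) (tt N16513 D49283) (tt N12143 (iv D47096)))
theorem Q14328 : ∀ i, i < 14328 → P i := stepQ 14327 Q14327 (allL N14327 (tt N16514 D49284) (tt N12145 (iv D47097)) (tt N13058 F210779) (tt N12162 F210780) (tt N16515 D49285) (tt N13094 F210781) (tt N13060 F210782) (tt N12337 F210783) (tt N16501 (iv F220666)) (tt N16516 D49286))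
theorem Q14329 : ∀ i, i < 14329 → P i := stepQ 14328 Q14328 (allL N14328 (tt N16480 (iv F220548)) (tt N16515 (iv F220724)) (tt N12146 F210784) (tt N14328 F210785) (tt N12145 (iv D47098)) (tt N16517 D49287) (tt N16510 (iv F220703)) (tt N12338 F210786) (tt N16502 (iv F220672)) (tt N16518 D49288))
theorem Q14330 : ∀ i, i < 14330 → P i := stepQ 14329 Q14329 (allL N14329 (tt N16481 (iv F220552)) (tt N16516 (iv F220730)) (tt N12147 F210787) (tt N12163 F210788) (tt N16518 (iv F220742)) (tt N13096 F210789) (tt N16511 (iv F220708)) (tt N12339 F210790) (tt N16519 D49289) (tt N12145 (iv D47099)))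
theorem Q14331 : ∀ i, i < 14331 → P i := stepQ 14330 Q14330 (allL N14330 (tt N16027 (iv F217922)) (tt N16049 (iv F218088)) (tt N16517 (iv F220736)) (tt N12151 F210791) (tt N13097 F210792) (tt N12146 (iv D47100)) (tt N16520 D49290) (tt N12340 F210793) (tt N16504 (iv F220682)) (tt N16521 D49291))
theorem Q14332 : ∀ i, i < 14332 → P i := stepQ 14331 Q14331 (allL N14331 (tt N16482 (iv F220557)) (tt N16050 (iv F218095)) (tt N16518 (iv F220740)) (tt N12152 F210794) (tt N12147 F210795) (tt N16521 (iv F220751)) (tt N16512 (iv F220713)) (tt N12341 F210796) (tt N16522 D49292) (tt N12146 (iv D47101)))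
theorem Q14333 : ∀ i, i < 14333 → P i := stepQ 14332 Q14332 (allL N14332 (tt N16483 (iv F220561)) (tt N16051 (iv F218101)) (tt N16519 (iv F220744)) (tt N16447 (iv F220376)) (tt N16522 (iv F220753)) (tt N13099 F210797) (tt N16513 (iv F220715)) (tt N12342 F210798) (tt N12147 (iv D47102)) (tt N16506 (iv F220688)))
theorem Q14334 : ∀ i, i < 14334 → P i := stepQ 14333 Q14333 (allL N14333 (tt N16485 (iv F220571)) (tt N13083 F210799) (tt N14333 F210800) (tt N16512 (iv F220711)) (tt N12150 F210801) (tt N16491 (iv F220610)) (tt N12152 F210802) (tt N13214 F210803) (tt N16523 D49293) (tt N12149 (iv D47103)))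
theorem Q14335 : ∀ i, i < 14335 → P i := stepQ 14334 Q14334 (allL N14334 (tt N16486 (iv F220577)) (tt N13572 F210804) (tt N14334 F210805) (tt N16449 (iv F220389)) (tt N16523 (iv F220757)) (tt N14334 F210806) (tt N12153 F210807) (tt N13609 F210808) (tt N12150 (iv D47104)) (tt N14334 F210809))
theorem Q14336 : ∀ i, i < 14336 → P i := stepQ 14335 Q14335 (allL N14335 (tt N16030 (iv F217941)) (tt N16052 (iv F218105)) (tt N14335 F210810) (tt N16520 (iv F220747)) (tt N12154 F210811) (tt N16488 (iv F220592)) (tt N12151 (iv D47105)) (tt N16524 D49294) (tt N14335 F210812) (tt N16525 D49295))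
theorem Q14337 : ∀ i, i < 14337 → P i := stepQ 14336 Q14336 (allL N14336 (tt N16032 (iv F217956)) (tt N16053 (iv F218112)) (tt N14336 F210813) (tt N16521 (iv F220749)) (tt N12155 F210814) (tt N12152 F210815) (tt N16525 (iv F220771)) (tt N12349 F210816) (tt N16526 D49296) (tt N12151 (iv D47106)))
theorem Q14338 : ∀ i, i < 14338 → P i := stepQ 14337 Q14337 (allL N14337 (tt N16487 (iv F220584)) (tt N16054 (iv F218118)) (tt N14337 F210817) (tt N16527 D49297) (tt N12153 F210818) (tt N16526 (iv F220776)) (tt N16523 (iv F220758)) (tt N12350 F210819) (tt N12152 (iv D47107)) (tt N14337 F210820))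
theorem Q14339 : ∀ i, i < 14339 → P i := stepQ 14338 Q14338 (allL N14338 (tt N16029 (iv F217932)) (tt N16055 (iv F218125)) (tt N14338 F210821) (tt N13102 F210822) (tt N16524 (iv F220764)) (tt N14338 F210823) (tt N12351 F210824) (tt N12154 (iv D47108)) (tt N14338 F210825) (tt N13632 (iv F210826)))
theorem Q14340 : ∀ i, i < 14340 → P i := stepQ 14339 Q14339 (allL N14339 (tt N16031 (iv F217948)) (tt N16056 (iv F218133)) (tt N14339 F210827) (tt N13103 F210828) (tt N16525 (iv F220770)) (tt N14339 F210829) (tt N12155 F210830) (tt N13632 F210831) (tt N13587 (iv F210832)) (tt N12154 (iv D47109)))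
theorem Q14341 : ∀ i, i < 14341 → P i := stepQ 14340 Q14340 (allL N14340 (tt N16033 (iv F217962)) (tt N16057 (iv F218139)) (tt N14340 F210833) (tt N13584 F210834) (tt N16526 (iv F220775)) (tt N12156 F210835) (tt N13587 F210836) (tt N12353 F210837) (tt N12155 (iv D47110)) (tt N14340 F210838))
theorem Q14342 : ∀ i, i < 14342 → P i := stepQ 14341 Q14341 (allL N14341 (tt N16489 (iv F220596)) (tt N13066 F210839) (tt N12161 F210840) (tt N16511 (iv F220707)) (tt N14341 F210841) (tt N16455 (iv F220428)) (tt N12163 F210842) (tt N13179 F210843) (tt N16528 D49298) (tt N12160 (iv D47111)))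
theorem Q14343 : ∀ i, i < 14343 → P i := stepQ 14342 Q14342 (allL N14342 (tt N16490 (iv F220601)) (tt N12165 F210844) (tt N16528 (iv F220783)) (tt N16454 (iv F220421)) (tt N14342 F210845) (tt N16458 (iv F220443)) (tt N12164 F210846) (tt N13184 F210847) (tt N12161 (iv D47112)) (tt N14342 F210848))
theorem Q14344 : ∀ i, i < 14344 → P i := stepQ 14343 Q14343 (allL N14343 (tt N12162 (iv D47113)) (tt N16484 (iv F220565)) (tt N12166 F210849) (tt N16514 (iv F220717)) (tt N14343 F210850) (tt N13113 F210851) (tt N13053 F210852) (tt N12365 F210853) (tt N14343 F210854) (tt N16529 D49299))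
theorem Q14345 : ∀ i, i < 14345 → P i := stepQ 14344 Q14344 (allL N14344 (tt N16529 (iv F220788)) (tt N12163 F210855) (tt N12167 F210856) (tt N16516 (iv F220732)) (tt N14344 F210857) (tt N13114 F210858) (tt N13066 F210859) (tt N12366 F210860) (tt N16530 D49300) (tt N12162 (iv D47114)))
theorem Q14346 : ∀ i, i < 14346 → P i := stepQ 14345 Q14345 (allL N14345 (tt N16492 (iv F220612)) (tt N16530 (iv F220794)) (tt N12164 F210861) (tt N16531 D49301) (tt N14345 F210862) (tt N13115 F210863) (tt N16528 (iv F220785)) (tt N12367 F210864) (tt N12163 (iv D47115)) (tt N14345 F210865))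
theorem Q14347 : ∀ i, i < 14347 → P i := stepQ 14346 Q14346 (allL N14346 (tt N12167 F210866) (tt N14346 F210867) (tt N16529 (iv F220789)) (tt N13052 F210868) (tt N14346 F210869) (tt N13124 F210870) (tt N13054 F210871) (tt N12380 F210872) (tt N16532 D49302) (tt N12166 (iv D47116)))
theorem Q14348 : ∀ i, i < 14348 → P i := stepQ 14347 Q14347 (allL N14347 (tt N16532 (iv F220804)) (tt N12168 F210873) (tt N16530 (iv F220795)) (tt N13112 F210874) (tt N14347 F210875) (tt N13125 F210876) (tt N13067 F210877) (tt N12381 F210878) (tt N12167 (iv D47117)) (tt N14347 F210879))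
theorem Q14349 : ∀ i, i < 14349 → P i := stepQ 14348 Q14348 (allL N14348 (tt N14348 F210880) (tt N12174 F210881) (tt N13589 F210882) (tt N12170 F210883) (tt N13588 F210884) (tt N16401 (iv F220094)) (tt N12385 F210885) (tt N13592 F210886) (tt N16533 D49303) (tt N12169 (iv D47118)))
theorem Q14350 : ∀ i, i < 14350 → P i := stepQ 14349 Q14349 (allL N14349 (tt N12181 F210887) (tt N12197 F210888) (tt N12218 F210889) (tt N12171 (iv D47119)) (tt N12258 F210890) (tt N12386 F210891) (tt N12172 F210892) (tt N12189 F210893) (tt N14349 F210894) (tt N16534 D49304))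
theorem Q14351 : ∀ i, i < 14351 → P i := stepQ 14350 Q14350 (allL N14350 (tt N12182 F210895) (tt N12198 F210896) (tt N12179 F210897) (tt N16534 (iv F220824)) (tt N12193 F210898) (tt N12387 F210899) (tt N12173 F210900) (tt N12190 F210901) (tt N14350 F210902) (tt N12171 (iv D47120)))
theorem Q14352 : ∀ i, i < 14352 → P i := stepQ 14351 Q14351 (allL N14351 (tt N12184 F210903) (tt N16401 (iv F220090)) (tt N12221 F210904) (tt N12173 F210905) (tt N16453 (iv F220415)) (tt N12174 F210906) (tt N16534 (iv F220827)) (tt N16393 (iv F220037)) (tt N16535 D49305) (tt N12172 (iv D47121)))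
theorem Q14353 : ∀ i, i < 14353 → P i := stepQ 14352 Q14352 (allL N14352 (tt N12187 F210907) (tt N16533 (iv F220813)) (tt N12222 F210908) (tt N14352 F210909) (tt N16106 (iv F218455)) (tt N16535 (iv F220834)) (tt N12390 F210910) (tt N16394 (iv F220044)) (tt N12174 (iv D47122)) (tt N14352 F210911))
theorem Q14354 : ∀ i, i < 14354 → P i := stepQ 14353 Q14353 (allL N14353 (tt N12189 F210912) (tt N14353 F210913) (tt N12244 F210914) (tt N12175 (iv D47123)) (tt N12226 F210915) (tt N12395 F210916) (tt N12176 F210917) (tt N12181 F210918) (tt N14353 F210919) (tt N16536 D49306))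
theorem Q14355 : ∀ i, i < 14355 → P i := stepQ 14354 Q14354 (allL N14354 (tt N12190 F210920) (tt N14354 F210921) (tt N12193 F210922) (tt N16536 (iv F220839)) (tt N12179 F210923) (tt N12396 F210924) (tt N12177 F210925) (tt N12182 F210926) (tt N14354 F210927) (tt N12175 (iv D47124)))
theorem Q14356 : ∀ i, i < 14356 → P i := stepQ 14355 Q14355 (allL N14355 (tt N12192 F210928) (tt N14355 F210929) (tt N16448 (iv F220381)) (tt N12177 F210930) (tt N12229 F210931) (tt N14355 F210932) (tt N16536 (iv F220842)) (tt N16395 (iv F220053)) (tt N16537 D49307) (tt N12176 (iv D47125)))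
theorem Q14357 : ∀ i, i < 14357 → P i := stepQ 14356 Q14356 (allL N14356 (tt N12193 F210933) (tt N14356 F210934) (tt N12190 F210935) (tt N12230 F210936) (tt N12182 F210937) (tt N12391 F210938) (tt N12180 F210939) (tt N12179 F210940) (tt N14356 F210941) (tt N12178 (iv D47126)))
theorem Q14358 : ∀ i, i < 14358 → P i := stepQ 14357 Q14357 (allL N14357 (tt N12258 F210942) (tt N14357 F210943) (tt N12246 F210944) (tt N12225 F210945) (tt N12181 (iv D47127)) (tt N16538 D49308) (tt N12183 F210946) (tt N12226 F210947) (tt N14357 F210948) (tt N16539 D49309))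
theorem Q14359 : ∀ i, i < 14359 → P i := stepQ 14358 Q14358 (allL N14358 (tt N16534 (iv F220821)) (tt N14358 F210949) (tt N12247 F210950) (tt N12182 F210951) (tt N16539 (iv F220863)) (tt N12398 F210952) (tt N12184 F210953) (tt N16536 (iv F220843)) (tt N16540 D49310) (tt N12181 (iv D47128)))
theorem Q14360 : ∀ i, i < 14360 → P i := stepQ 14359 Q14359 (allL N14359 (tt N13119 F210954) (tt N14359 F210955) (tt N12248 F210956) (tt N16427 (iv F220273)) (tt N12185 F210957) (tt N12183 (iv D47129)) (tt N13287 (iv F210960)) (tt N13121 F210958) (tt N14359 F210959) (tt N16541 D49311))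
theorem Q14361 : ∀ i, i < 14361 → P i := stepQ 14360 Q14360 (allL N14360 (tt N16453 (iv F220411)) (tt N14360 F210961) (tt N12249 F210962) (tt N16429 (iv F220283)) (tt N12184 F210963) (tt N16541 (iv F220876)) (tt N16539 (iv F220864)) (tt N16396 (iv F220061)) (tt N16542 D49312) (tt N12183 (iv D47130)))
theorem Q14362 : ∀ i, i < 14362 → P i := stepQ 14361 Q14361 (allL N14361 (tt N16535 (iv F220829)) (tt N14361 F210964) (tt N12250 F210965) (tt N14361 F210966) (tt N16542 (iv F220883)) (tt N12187 F210967) (tt N16540 (iv F220870)) (tt N16397 (iv F220066)) (tt N12184 (iv D47131)) (tt N14361 F210968))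
theorem Q14363 : ∀ i, i < 14363 → P i := stepQ 14362 Q14362 (allL N14362 (tt N13595 F210969) (tt N14362 F210970) (tt N12252 F210971) (tt N14362 F210972) (tt N16541 (iv F220875)) (tt N12186 F210973) (tt N13662 F210974) (tt N13597 F210975) (tt N16543 D49313) (tt N12185 (iv D47132)))
theorem Q14364 : ∀ i, i < 14364 → P i := stepQ 14363 Q14363 (allL N14363 (tt N16106 (iv F218452)) (tt N14363 F210976) (tt N12253 F210977) (tt N16544 D49314) (tt N12187 F210978) (tt N16543 (iv F220888)) (tt N12404 F210979) (tt N16398 (iv F220074)) (tt N12186 (iv D47133)) (tt N14363 F210980))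
theorem Q14365 : ∀ i, i < 14365 → P i := stepQ 14364 Q14364 (allL N14364 (tt N12395 F210981) (tt N12195 F210982) (tt N12427 F210983) (tt N12188 (iv D47134)) (tt N13784 F210984) (tt N12189 F210985) (tt N14364 F210986) (tt N12386 F210987) (tt N14364 F210988) (tt N16545 D49315))
theorem Q14366 : ∀ i, i < 14366 → P i := stepQ 14365 Q14365 (allL N14365 (tt N12396 F210989) (tt N12196 F210990) (tt N12391 F210991) (tt N16545 (iv F220903)) (tt N12405 F210992) (tt N12190 F210993) (tt N14365 F210994) (tt N12387 F210995) (tt N14365 F210996) (tt N12188 (iv D47135)))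
theorem Q14367 : ∀ i, i < 14367 → P i := stepQ 14366 Q14366 (allL N14366 (tt N12244 F210997) (tt N16116 (iv F218519)) (tt N12189 (iv D47136)) (tt N12217 F210998) (tt N12260 F210999) (tt N12427 F211000) (tt N12191 F211001) (tt N12218 F211002) (tt N14366 F211003) (tt N16546 D49316))
theorem Q14368 : ∀ i, i < 14368 → P i := stepQ 14367 Q14367 (allL N14367 (tt N16536 (iv F220836)) (tt N12200 F211004) (tt N16546 (iv F220909)) (tt N12190 F211005) (tt N12261 F211006) (tt N16545 (iv F220905)) (tt N12192 F211007) (tt N16534 (iv F220828)) (tt N16547 D49317) (tt N12189 (iv D47137)))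
theorem Q14369 : ∀ i, i < 14369 → P i := stepQ 14368 Q14368 (allL N14368 (tt N16055 (iv F218124)) (tt N12191 (iv D47138)) (tt N12201 F211008) (tt N16409 F220155) (tt N12262 F211009) (tt N14368 F211010) (tt N16116 (iv F218524)) (tt N16039 F218017) (tt N14368 F211011) (tt N16548 D49318))
theorem Q14370 : ∀ i, i < 14370 → P i := stepQ 14369 Q14369 (allL N14369 (tt N16448 (iv F220379)) (tt N16548 (iv F220921)) (tt N12192 F211012) (tt N16423 (iv F220241)) (tt N12263 F211013) (tt N14369 F211014) (tt N16546 (iv F220913)) (tt N16399 (iv F220082)) (tt N16549 D49319) (tt N12191 (iv D47139)))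
theorem Q14371 : ∀ i, i < 14371 → P i := stepQ 14370 Q14370 (allL N14370 (tt N16537 (iv F220844)) (tt N12203 F211015) (tt N16549 (iv F220929)) (tt N14370 F211016) (tt N12264 F211017) (tt N14370 F211018) (tt N16547 (iv F220918)) (tt N16400 (iv F220087)) (tt N12192 (iv D47140)) (tt N14370 F211019))
theorem Q14372 : ∀ i, i < 14372 → P i := stepQ 14371 Q14371 (allL N14371 (tt N14371 F211020) (tt N12386 F211021) (tt N12729 (iv F211027)) (tt N12194 (iv D47141)) (tt N12660 F211022) (tt N12197 F211023) (tt N12383 F211024) (tt N12195 F211025) (tt N14371 F211026) (tt N16550 D49320))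
theorem Q14373 : ∀ i, i < 14373 → P i := stepQ 14372 Q14372 (allL N14372 (tt N14372 F211028) (tt N12387 F211029) (tt N14372 F211030) (tt N16550 (iv F220937)) (tt N12407 F211031) (tt N12198 F211032) (tt N12384 F211033) (tt N12196 F211034) (tt N14372 F211035) (tt N12194 (iv D47142)))
theorem Q14374 : ∀ i, i < 14374 → P i := stepQ 14373 Q14373 (allL N14373 (tt N14373 F211036) (tt N15992 (iv F217679)) (tt N12195 (iv D47143)) (tt N14373 F211037) (tt N12726 (iv F211042)) (tt N12199 F211038) (tt N14373 F211039) (tt N12729 F211040) (tt N14373 F211041) (tt N16551 D49321))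
theorem Q14375 : ∀ i, i < 14375 → P i := stepQ 14374 Q14374 (allL N14374 (tt N14374 F211043) (tt N13784 F211044) (tt N12726 F211045) (tt N12408 F211046) (tt N12195 (iv D47144)) (tt N12269 F211047) (tt N14374 F211048) (tt N12660 F211049) (tt N14374 F211050) (tt N16552 D49322))
theorem Q14376 : ∀ i, i < 14376 → P i := stepQ 14375 Q14375 (allL N14375 (tt N14375 F211051) (tt N16545 (iv F220901)) (tt N16551 (iv F220943)) (tt N12196 F211052) (tt N16552 (iv F220953)) (tt N12200 F211053) (tt N14375 F211054) (tt N16550 (iv F220941)) (tt N16553 D49323) (tt N12195 (iv D47145)))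
theorem Q14377 : ∀ i, i < 14377 → P i := stepQ 14376 Q14376 (allL N14376 (tt N14376 F211055) (tt N15980 (iv F217585)) (tt N12197 (iv D47146)) (tt N14376 F211056) (tt N12271 F211057) (tt N12729 F211058) (tt N13116 F211059) (tt N12199 F211060) (tt N14376 F211061) (tt N16554 D49324))
theorem Q14378 : ∀ i, i < 14378 → P i := stepQ 14377 Q14377 (allL N14377 (tt N14377 F211062) (tt N16534 (iv F220822)) (tt N16554 (iv F220963)) (tt N12198 F211063) (tt N12272 F211064) (tt N16550 (iv F220939)) (tt N16401 (iv F220095)) (tt N12200 F211065) (tt N16555 D49325) (tt N12197 (iv D47147)))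
theorem Q14379 : ∀ i, i < 14379 → P i := stepQ 14378 Q14378 (allL N14378 (tt N15986 (iv F217634)) (tt N12199 (iv D47148)) (tt N16116 (iv F218520)) (tt N14378 F211066) (tt N12273 F211067) (tt N15992 (iv F217683)) (tt N12201 F211068) (tt N15980 (iv F217590)) (tt N14378 F211069) (tt N16556 D49326))
theorem Q14380 : ∀ i, i < 14380 → P i := stepQ 14379 Q14379 (allL N14379 (tt N14379 F211070) (tt N16556 (iv F220977)) (tt N12200 F211071) (tt N14379 F211072) (tt N12274 F211073) (tt N16551 (iv F220946)) (tt N12202 F211074) (tt N16554 (iv F220968)) (tt N16557 D49327) (tt N12199 (iv D47149)))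
theorem Q14381 : ∀ i, i < 14381 → P i := stepQ 14380 Q14380 (allL N14380 (tt N14380 F211075) (tt N16547 (iv F220915)) (tt N16557 (iv F220982)) (tt N14380 F211076) (tt N12275 F211077) (tt N16553 (iv F220959)) (tt N12203 F211078) (tt N16555 (iv F220975)) (tt N12200 (iv D47150)) (tt N14380 F211079))
theorem Q14382 : ∀ i, i < 14382 → P i := stepQ 14381 Q14381 (allL N14381 (tt N12201 (iv D47151)) (tt N14381 F211080) (tt N16055 (iv F218126)) (tt N14381 F211081) (tt N12276 F211082) (tt N14381 F211083) (tt N15986 (iv F217640)) (tt N15977 F217569) (tt N14381 F211084) (tt N16558 D49328))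
theorem Q14383 : ∀ i, i < 14383 → P i := stepQ 14382 Q14382 (allL N14382 (tt N16558 (iv F220988)) (tt N12202 F211085) (tt N16548 (iv F220922)) (tt N14382 F211086) (tt N12277 F211087) (tt N14382 F211088) (tt N16556 (iv F220980)) (tt N16403 (iv F220111)) (tt N16559 D49329) (tt N12201 (iv D47152)))
theorem Q14384 : ∀ i, i < 14384 → P i := stepQ 14383 Q14383 (allL N14383 (tt N14383 F211089) (tt N16559 (iv F220996)) (tt N12203 F211090) (tt N16560 D49330) (tt N12278 F211091) (tt N14383 F211092) (tt N16557 (iv F220984)) (tt N16404 (iv F220117)) (tt N12202 (iv D47153)) (tt N14383 F211093))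
theorem Q14385 : ∀ i, i < 14385 → P i := stepQ 14384 Q14384 (allL N14384 (tt N13087 F211094) (tt N12210 F211095) (tt N13077 F211096) (tt N12205 F211097) (tt N14384 F211098) (tt N13193 F211099) (tt N12204 (iv D47154)) (tt N16471 (iv F220511)) (tt N16561 D49331) (tt N12280 F211100))
theorem Q14386 : ∀ i, i < 14386 → P i := stepQ 14385 Q14385 (allL N14385 (tt N13088 F211101) (tt N12211 F211102) (tt N13078 F211103) (tt N16140 (iv F218664)) (tt N14385 F211104) (tt N13071 F211105) (tt N16561 (iv F221016)) (tt N13070 F211106) (tt N12204 (iv D47155)) (tt N16562 D49332))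
theorem Q14387 : ∀ i, i < 14387 → P i := stepQ 14386 Q14386 (allL N14386 (tt N13216 F211107) (tt N12212 F211108) (tt N14386 F211109) (tt N13193 F211110) (tt N12413 F211111) (tt N12205 (iv D47156)) (tt N13126 F211112) (tt N16563 D49333) (tt N16564 D49334) (tt N12282 F211113))
theorem Q14388 : ∀ i, i < 14388 → P i := stepQ 14387 Q14387 (allL N14387 (tt N13758 F211114) (tt N12213 F211115) (tt N14387 F211116) (tt N16471 (iv F220508)) (tt N12207 F211117) (tt N16563 (iv F221029)) (tt N16405 (iv F220126)) (tt N12205 (iv D47157)) (tt N16565 D49335) (tt N12283 F211118))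
theorem Q14389 : ∀ i, i < 14389 → P i := stepQ 14388 Q14388 (allL N14388 (tt N12834 F211119) (tt N12214 F211120) (tt N14388 F211121) (tt N16566 D49336) (tt N12208 F211122) (tt N16564 (iv F221036)) (tt N12206 F211123) (tt N16565 (iv F221042)) (tt N12205 (iv D47158)) (tt N16567 D49337))
theorem Q14390 : ∀ i, i < 14390 → P i := stepQ 14389 Q14389 (allL N14389 (tt N12829 F211124) (tt N12215 F211125) (tt N16126 (iv F218585)) (tt N12206 (iv D47159)) (tt N16110 (iv F218483)) (tt N12798 F211126) (tt N16566 (iv F221045)) (tt N16407 (iv F220138)) (tt N16140 (iv F218667)) (tt N16568 D49338))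
theorem Q14391 : ∀ i, i < 14391 → P i := stepQ 14390 Q14390 (allL N14390 (tt N12835 F211127) (tt N12216 F211128) (tt N14390 F211129) (tt N16568 (iv F221054)) (tt N12209 F211130) (tt N12803 F211131) (tt N16567 (iv F221050)) (tt N16408 (iv F220146)) (tt N12286 F211132) (tt N12206 (iv D47160)))
theorem Q14392 : ∀ i, i < 14392 → P i := stepQ 14391 Q14391 (allL N14391 (tt N12836 F211133) (tt N12217 F211134) (tt N14391 F211135) (tt N16116 (iv F218521)) (tt N16565 (iv F221041)) (tt N12418 F211136) (tt N16409 (iv F220152)) (tt N12208 F211137) (tt N12207 (iv D47161)) (tt N16569 D49339))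
theorem Q14393 : ∀ i, i < 14393 → P i := stepQ 14392 Q14392 (allL N14392 (tt N12837 F211138) (tt N12219 F211139) (tt N14392 F211140) (tt N16117 (iv F218528)) (tt N16567 (iv F221049)) (tt N12419 F211141) (tt N12209 F211142) (tt N16569 (iv F221061)) (tt N12288 F211143) (tt N12208 (iv D47162)))
theorem Q14394 : ∀ i, i < 14394 → P i := stepQ 14393 Q14393 (allL N14393 (tt N12231 F211144) (tt N13193 F211145) (tt N14393 F211146) (tt N12212 F211147) (tt N13377 (iv F211150)) (tt N12210 (iv D47163)) (tt N13127 F211148) (tt N16570 D49340) (tt N16571 D49341) (tt N12289 F211149))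
theorem Q14395 : ∀ i, i < 14395 → P i := stepQ 14394 Q14394 (allL N14394 (tt N12232 F211151) (tt N16471 (iv F220506)) (tt N14394 F211152) (tt N12213 F211153) (tt N14394 F211154) (tt N16570 (iv F221068)) (tt N16411 (iv F220169)) (tt N12210 (iv D47164)) (tt N16572 D49342) (tt N12290 F211155))
theorem Q14396 : ∀ i, i < 14396 → P i := stepQ 14395 Q14395 (allL N14395 (tt N12233 F211156) (tt N16561 (iv F221012)) (tt N14395 F211157) (tt N16573 D49343) (tt N14395 F211158) (tt N16571 (iv F221075)) (tt N12211 F211159) (tt N16572 (iv F221081)) (tt N12210 (iv D47165)) (tt N16574 D49344))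
theorem Q14397 : ∀ i, i < 14397 → P i := stepQ 14396 Q14396 (allL N14396 (tt N12234 F211160) (tt N16140 (iv F218662)) (tt N16575 D49345) (tt N12211 (iv D47166)) (tt N16576 D49346) (tt N13129 F211161) (tt N16573 (iv F221083)) (tt N16413 (iv F220182)) (tt N12215 F211162) (tt N16577 D49347))
theorem Q14398 : ∀ i, i < 14398 → P i := stepQ 14397 Q14397 (allL N14397 (tt N12235 F211163) (tt N16562 (iv F221018)) (tt N14397 F211164) (tt N16577 (iv F221103)) (tt N14397 F211165) (tt N13130 F211166) (tt N16574 (iv F221088)) (tt N16414 (iv F220189)) (tt N12293 F211167) (tt N12211 (iv D47167)))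
theorem Q14399 : ∀ i, i < 14399 → P i := stepQ 14398 Q14398 (allL N14398 (tt N12236 F211168) (tt N16563 (iv F221025)) (tt N12223 F211169) (tt N16570 (iv F221066)) (tt N12420 F211170) (tt N12213 F211171) (tt N16578 D49348) (tt N12212 (iv D47168)) (tt N16579 D49349) (tt N12294 F211172))
theorem Q14400 : ∀ i, i < 14400 → P i := stepQ 14399 Q14399 (allL N14399 (tt N12237 F211173) (tt N16564 (iv F221033)) (tt N12224 F211174) (tt N16580 D49350) (tt N12421 F211175) (tt N12214 F211176) (tt N13132 F211177) (tt N16579 (iv F221117)) (tt N12212 (iv D47169)) (tt N16581 D49351))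
theorem Q14401 : ∀ i, i < 14401 → P i := stepQ 14400 Q14400 (allL N14400 (tt N12238 F211178) (tt N16565 (iv F221039)) (tt N12225 F211179) (tt N16582 D49352) (tt N12217 F211180) (tt N16579 (iv F221116)) (tt N16417 (iv F220208)) (tt N12214 F211181) (tt N12213 (iv D47170)) (tt N16583 D49353))
theorem Q14402 : ∀ i, i < 14402 → P i := stepQ 14401 Q14401 (allL N14401 (tt N12239 F211182) (tt N16566 (iv F221044)) (tt N16584 D49354) (tt N12214 (iv D47171)) (tt N16585 D49355) (tt N16580 (iv F221119)) (tt N12215 F211183) (tt N16582 (iv F221131)) (tt N16573 (iv F221084)) (tt N16586 D49356))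
theorem Q14403 : ∀ i, i < 14403 → P i := stepQ 14402 Q14402 (allL N14402 (tt N12240 F211184) (tt N16567 (iv F221047)) (tt N12227 F211185) (tt N16586 (iv F221148)) (tt N12219 F211186) (tt N16581 (iv F221124)) (tt N12216 F211187) (tt N16583 (iv F221135)) (tt N12298 F211188) (tt N12214 (iv D47172)))
theorem Q14404 : ∀ i, i < 14404 → P i := stepQ 14403 Q14403 (allL N14403 (tt N12241 F211189) (tt N16587 D49357) (tt N12215 (iv D47173)) (tt N12228 F211190) (tt N16440 (iv F220345)) (tt N13136 F211191) (tt N16584 (iv F221139)) (tt N16420 (iv F220225)) (tt N16575 (iv F221094)) (tt N16588 D49358))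
theorem Q14405 : ∀ i, i < 14405 → P i := stepQ 14404 Q14404 (allL N14404 (tt N12242 F211192) (tt N16110 (iv F218480)) (tt N16440 (iv F220344)) (tt N12220 F211193) (tt N12215 (iv D47174)) (tt N16102 (iv F218428)) (tt N16585 (iv F221145)) (tt N16421 (iv F220233)) (tt N16576 (iv F221101)) (tt N16589 D49359))
theorem Q14406 : ∀ i, i < 14406 → P i := stepQ 14405 Q14405 (allL N14405 (tt N12243 F211194) (tt N16568 (iv F221053)) (tt N16588 (iv F221156)) (tt N12216 F211195) (tt N16589 (iv F221161)) (tt N13137 F211196) (tt N16586 (iv F221149)) (tt N16422 (iv F220237)) (tt N16590 D49360) (tt N12215 (iv D47175)))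
theorem Q14407 : ∀ i, i < 14407 → P i := stepQ 14406 Q14406 (allL N14406 (tt N12245 F211197) (tt N16569 (iv F221057)) (tt N12230 F211198) (tt N16546 (iv F220910)) (tt N16583 (iv F221134)) (tt N12428 F211199) (tt N16423 (iv F220243)) (tt N12219 F211200) (tt N12303 F211201) (tt N12217 (iv D47176)))
theorem Q14408 : ∀ i, i < 14408 → P i := stepQ 14407 Q14407 (allL N14407 (tt N12246 F211202) (tt N16113 (iv F218498)) (tt N12258 F211203) (tt N16585 (iv F221144)) (tt N12218 (iv D47177)) (tt N16591 D49361) (tt N12220 F211204) (tt N12260 F211205) (tt N14407 F211206) (tt N16592 D49362))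
theorem Q14409 : ∀ i, i < 14409 → P i := stepQ 14408 Q14408 (allL N14408 (tt N12247 F211207) (tt N16117 (iv F218527)) (tt N16534 (iv F220823)) (tt N12219 F211208) (tt N16592 (iv F221174)) (tt N12430 F211209) (tt N12221 F211210) (tt N16546 (iv F220914)) (tt N16593 D49363) (tt N12218 (iv D47178)))
theorem Q14410 : ∀ i, i < 14410 → P i := stepQ 14409 Q14409 (allL N14409 (tt N12249 F211211) (tt N16114 (iv F218505)) (tt N16453 (iv F220413)) (tt N16589 (iv F221160)) (tt N12221 F211212) (tt N16104 (iv F218441)) (tt N16592 (iv F221175)) (tt N16424 (iv F220252)) (tt N16594 D49364) (tt N12220 (iv D47179)))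
theorem Q14411 : ∀ i, i < 14411 → P i := stepQ 14410 Q14410 (allL N14410 (tt N12250 F211213) (tt N16118 (iv F218532)) (tt N16535 (iv F220831)) (tt N12307 F211214) (tt N16594 (iv F221185)) (tt N12222 F211215) (tt N16593 (iv F221180)) (tt N16425 (iv F220256)) (tt N12221 (iv D47180)) (tt N14410 F211216))
theorem Q14412 : ∀ i, i < 14412 → P i := stepQ 14411 Q14411 (allL N14411 (tt N12254 F211217) (tt N14411 F211218) (tt N16578 (iv F221107)) (tt N14411 F211219) (tt N12433 F211220) (tt N16426 (iv F220263)) (tt N12223 (iv D47181)) (tt N13139 F211221) (tt N16595 D49365) (tt N12308 F211222))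
theorem Q14413 : ∀ i, i < 14413 → P i := stepQ 14412 Q14412 (allL N14412 (tt N12255 F211223) (tt N14412 F211224) (tt N16579 (iv F221114)) (tt N16538 (iv F220854)) (tt N12434 F211225) (tt N12225 F211226) (tt N16595 (iv F221191)) (tt N12224 F211227) (tt N12223 (iv D47182)) (tt N16596 D49366))
theorem Q14414 : ∀ i, i < 14414 → P i := stepQ 14413 Q14413 (allL N14413 (tt N12256 F211228) (tt N14413 F211229) (tt N16597 D49367) (tt N12224 (iv D47183)) (tt N13515 F211230) (tt N12226 F211231) (tt N13141 F211232) (tt N16538 (iv F220857)) (tt N14413 F211233) (tt N16598 D49368))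
theorem Q14415 : ∀ i, i < 14415 → P i := stepQ 14414 Q14414 (allL N14414 (tt N12257 F211234) (tt N14414 F211235) (tt N16581 (iv F221122)) (tt N16598 (iv F221208)) (tt N12435 F211236) (tt N12227 F211237) (tt N13142 F211238) (tt N16596 (iv F221198)) (tt N12311 F211239) (tt N12224 (iv D47184)))
theorem Q14416 : ∀ i, i < 14416 → P i := stepQ 14415 Q14415 (allL N14415 (tt N12259 F211240) (tt N14415 F211241) (tt N16583 (iv F221133)) (tt N16539 (iv F220862)) (tt N12230 F211242) (tt N16596 (iv F221197)) (tt N16429 (iv F220285)) (tt N12227 F211243) (tt N12313 F211244) (tt N12225 (iv D47185)))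
theorem Q14417 : ∀ i, i < 14417 → P i := stepQ 14416 Q14416 (allL N14416 (tt N12260 F211245) (tt N16079 (iv F218266)) (tt N12226 (iv D47186)) (tt N16584 (iv F221138)) (tt N12244 F211246) (tt N16597 (iv F221202)) (tt N12228 F211247) (tt N12246 F211248) (tt N14416 F211249) (tt N16599 D49369))
theorem Q14418 : ∀ i, i < 14418 → P i := stepQ 14417 Q14417 (allL N14417 (tt N12261 F211250) (tt N14417 F211251) (tt N16599 (iv F221213)) (tt N12227 F211252) (tt N16536 (iv F220840)) (tt N16598 (iv F221210)) (tt N12229 F211253) (tt N16539 (iv F220865)) (tt N16600 D49370) (tt N12226 (iv D47187)))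
theorem Q14419 : ∀ i, i < 14419 → P i := stepQ 14418 Q14418 (allL N14418 (tt N16524 (iv F220761)) (tt N12228 (iv D47188)) (tt N14418 F211254) (tt N16587 (iv F221151)) (tt N16029 F217940) (tt N13146 F211255) (tt N16079 (iv F218268)) (tt N16030 (iv F217945)) (tt N14418 F211256) (tt N16601 D49371))
theorem Q14420 : ∀ i, i < 14420 → P i := stepQ 14419 Q14419 (allL N14419 (tt N12263 F211257) (tt N16601 (iv F221223)) (tt N12229 F211258) (tt N16588 (iv F221157)) (tt N16448 (iv F220383)) (tt N13147 F211259) (tt N16599 (iv F221215)) (tt N16430 (iv F220293)) (tt N16602 D49372) (tt N12228 (iv D47189)))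
theorem Q14421 : ∀ i, i < 14421 → P i := stepQ 14420 Q14420 (allL N14420 (tt N12264 F211260) (tt N14420 F211261) (tt N16602 (iv F221230)) (tt N12318 F211262) (tt N16537 (iv F220848)) (tt N13148 F211263) (tt N16600 (iv F221220)) (tt N16431 (iv F220298)) (tt N12229 (iv D47190)) (tt N14420 F211264))
theorem Q14422 : ∀ i, i < 14422 → P i := stepQ 14421 Q14421 (allL N14421 (tt N13377 F211265) (tt N12927 F211266) (tt N14421 F211267) (tt N12437 F211268) (tt N12231 (iv D47191)) (tt N14421 F211269) (tt N12914 F211270) (tt N16229 (iv F219192)) (tt N16603 D49373) (tt N12319 F211271))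
theorem Q14423 : ∀ i, i < 14423 → P i := stepQ 14422 Q14422 (allL N14422 (tt N16570 (iv F221063)) (tt N16058 (iv F218146)) (tt N14422 F211272) (tt N12236 F211273) (tt N16229 (iv F219190)) (tt N12232 F211274) (tt N16098 (iv F218400)) (tt N12231 (iv D47192)) (tt N16604 D49374) (tt N12320 F211275))
theorem Q14424 : ∀ i, i < 14424 → P i := stepQ 14423 Q14423 (allL N14423 (tt N16571 (iv F221071)) (tt N16059 (iv F218155)) (tt N14423 F211276) (tt N16605 D49375) (tt N16603 (iv F221237)) (tt N12233 F211277) (tt N13149 F211278) (tt N16604 (iv F221244)) (tt N12231 (iv D47193)) (tt N16606 D49376))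
theorem Q14425 : ∀ i, i < 14425 → P i := stepQ 14424 Q14424 (allL N14424 (tt N16572 (iv F221077)) (tt N13629 F211279) (tt N14424 F211280) (tt N16607 D49377) (tt N14424 F211281) (tt N16604 (iv F221242)) (tt N13626 F211282) (tt N12233 F211283) (tt N12232 (iv D47194)) (tt N16608 D49378))
theorem Q14426 : ∀ i, i < 14426 → P i := stepQ 14425 Q14425 (allL N14425 (tt N16573 (iv F221082)) (tt N16060 (iv F218162)) (tt N16609 D49379) (tt N12233 (iv D47195)) (tt N16610 D49380) (tt N16605 (iv F221245)) (tt N12234 F211284) (tt N16607 (iv F221254)) (tt N12239 F211285) (tt N16611 D49381))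
theorem Q14427 : ∀ i, i < 14427 → P i := stepQ 14426 Q14426 (allL N14426 (tt N16574 (iv F221085)) (tt N16061 (iv F218168)) (tt N14426 F211286) (tt N16611 (iv F221268)) (tt N14426 F211287) (tt N16606 (iv F221249)) (tt N12235 F211288) (tt N16608 (iv F221260)) (tt N12324 F211289) (tt N12233 (iv D47196)))
theorem Q14428 : ∀ i, i < 14428 → P i := stepQ 14427 Q14427 (allL N14427 (tt N16575 (iv F221090)) (tt N16612 D49382) (tt N12234 (iv D47197)) (tt N14427 F211290) (tt N16613 D49383) (tt N13152 F211291) (tt N16609 (iv F221263)) (tt N16434 (iv F220314)) (tt N12241 F211292) (tt N16614 D49384))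
theorem Q14429 : ∀ i, i < 14429 → P i := stepQ 14428 Q14428 (allL N14428 (tt N16576 (iv F221096)) (tt N16063 (iv F218182)) (tt N16613 (iv F221274)) (tt N14428 F211293) (tt N12234 (iv D47198)) (tt N16615 D49385) (tt N16610 (iv F221266)) (tt N16435 (iv F220317)) (tt N12242 F211294) (tt N16616 D49386))
theorem Q14430 : ∀ i, i < 14430 → P i := stepQ 14429 Q14429 (allL N14429 (tt N16577 (iv F221102)) (tt N16064 (iv F218187)) (tt N16614 (iv F221278)) (tt N12235 F211295) (tt N16616 (iv F221288)) (tt N13154 F211296) (tt N16611 (iv F221269)) (tt N16436 (iv F220321)) (tt N16617 D49387) (tt N12234 (iv D47199)))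
theorem Q14431 : ∀ i, i < 14431 → P i := stepQ 14430 Q14430 (allL N14430 (tt N16578 (iv F221105)) (tt N16065 (iv F218192)) (tt N12254 F211297) (tt N16098 (iv F218397)) (tt N12445 F211298) (tt N16097 (iv F218390)) (tt N12236 (iv D47200)) (tt N13155 F211299) (tt N16618 D49388) (tt N12328 F211300))
theorem Q14432 : ∀ i, i < 14432 → P i := stepQ 14431 Q14431 (allL N14431 (tt N16579 (iv F221113)) (tt N16066 (iv F218201)) (tt N12255 F211301) (tt N16619 D49389) (tt N12446 F211302) (tt N12238 F211303) (tt N16618 (iv F221296)) (tt N12237 F211304) (tt N12236 (iv D47201)) (tt N16620 D49390))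
theorem Q14433 : ∀ i, i < 14433 → P i := stepQ 14432 Q14432 (allL N14432 (tt N16580 (iv F221118)) (tt N16067 (iv F218208)) (tt N16621 D49391) (tt N12237 (iv D47202)) (tt N16622 D49392) (tt N12239 F211305) (tt N13157 F211306) (tt N16619 (iv F221299)) (tt N16605 (iv F221247)) (tt N16623 D49393))
theorem Q14434 : ∀ i, i < 14434 → P i := stepQ 14433 Q14433 (allL N14433 (tt N16581 (iv F221121)) (tt N16068 (iv F218212)) (tt N12257 F211307) (tt N16623 (iv F221310)) (tt N12448 F211308) (tt N12240 F211309) (tt N13158 F211310) (tt N16620 (iv F221303)) (tt N12331 F211311) (tt N12237 (iv D47203)))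
theorem Q14435 : ∀ i, i < 14435 → P i := stepQ 14434 Q14434 (allL N14434 (tt N16582 (iv F221127)) (tt N16069 (iv F218219)) (tt N16585 (iv F221143)) (tt N12238 (iv D47204)) (tt N16584 F221141) (tt N16619 (iv F221298)) (tt N16440 (iv F220347)) (tt N12239 F211312) (tt N16607 (iv F221255)) (tt N16624 D49394))
theorem Q14436 : ∀ i, i < 14436 → P i := stepQ 14435 Q14435 (allL N14435 (tt N16583 (iv F221132)) (tt N16070 (iv F218225)) (tt N12259 F211313) (tt N16624 (iv F221313)) (tt N12245 F211314) (tt N16620 (iv F221302)) (tt N16441 (iv F220353)) (tt N12240 F211315) (tt N12333 F211316) (tt N12238 (iv D47205)))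
theorem Q14437 : ∀ i, i < 14437 → P i := stepQ 14436 Q14436 (allL N14436 (tt N16584 (iv F221137)) (tt N16625 D49395) (tt N12239 (iv D47206)) (tt N12260 F211317) (tt N16582 (iv F221129)) (tt N16621 (iv F221306)) (tt N12241 F211318) (tt N16585 (iv F221146)) (tt N16609 (iv F221264)) (tt N16626 D49396))
theorem Q14438 : ∀ i, i < 14438 → P i := stepQ 14437 Q14437 (allL N14437 (tt N16585 (iv F221142)) (tt N16072 (iv F218237)) (tt N16582 (iv F221128)) (tt N12246 F211319) (tt N12239 (iv D47207)) (tt N16627 D49397) (tt N12242 F211320) (tt N16584 (iv F221140)) (tt N16610 (iv F221267)) (tt N16628 D49398))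
theorem Q14439 : ∀ i, i < 14439 → P i := stepQ 14438 Q14438 (allL N14438 (tt N16586 (iv F221147)) (tt N16073 (iv F218241)) (tt N16626 (iv F221317)) (tt N12240 F211321) (tt N16628 (iv F221322)) (tt N16623 (iv F221311)) (tt N12243 F211322) (tt N16624 (iv F221314)) (tt N16629 D49399) (tt N12239 (iv D47208)))
theorem Q14440 : ∀ i, i < 14440 → P i := stepQ 14439 Q14439 (allL N14439 (tt N16630 D49400) (tt N12241 (iv D47209)) (tt N16074 (iv F218244)) (tt N12262 F211323) (tt N16631 D49401) (tt N13164 F211324) (tt N16625 (iv F221316)) (tt N16443 (iv F220362)) (tt N16612 (iv F221272)) (tt N16632 D49402))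
theorem Q14441 : ∀ i, i < 14441 → P i := stepQ 14440 Q14440 (allL N14440 (tt N16440 (iv F220342)) (tt N16631 (iv F221328)) (tt N12242 F211325) (tt N16417 F220210) (tt N12241 (iv D47210)) (tt N16633 D49403) (tt N16582 (iv F221130)) (tt N16418 (iv F220215)) (tt N16613 (iv F221276)) (tt N16634 D49404))
theorem Q14442 : ∀ i, i < 14442 → P i := stepQ 14441 Q14441 (allL N14441 (tt N16588 (iv F221155)) (tt N16632 (iv F221329)) (tt N12243 F211326) (tt N12263 F211327) (tt N16634 (iv F221337)) (tt N13166 F211328) (tt N16626 (iv F221319)) (tt N16444 (iv F220366)) (tt N16635 D49405) (tt N12241 (iv D47211)))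
theorem Q14443 : ∀ i, i < 14443 → P i := stepQ 14442 Q14442 (allL N14442 (tt N16102 (iv F218424)) (tt N12300 F211329) (tt N16633 (iv F221333)) (tt N12248 F211330) (tt N12285 F211331) (tt N12242 (iv D47212)) (tt N16636 D49406) (tt N16445 (iv F220371)) (tt N16615 (iv F221286)) (tt N16637 D49407))
theorem Q14444 : ∀ i, i < 14444 → P i := stepQ 14443 Q14443 (allL N14443 (tt N16589 (iv F221159)) (tt N16077 (iv F218257)) (tt N16634 (iv F221336)) (tt N12249 F211332) (tt N12243 F211333) (tt N16637 (iv F221348)) (tt N16628 (iv F221323)) (tt N16446 (iv F220375)) (tt N16638 D49408) (tt N12242 (iv D47213)))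
theorem Q14445 : ∀ i, i < 14445 → P i := stepQ 14444 Q14444 (allL N14444 (tt N16590 (iv F221162)) (tt N16078 (iv F218262)) (tt N16635 (iv F221338)) (tt N12342 F211334) (tt N16638 (iv F221349)) (tt N13168 F211335) (tt N16629 (iv F221325)) (tt N16447 (iv F220378)) (tt N12243 (iv D47214)) (tt N16617 (iv F221291)))
theorem Q14446 : ∀ i, i < 14446 → P i := stepQ 14445 Q14445 (allL N14445 (tt N16546 (iv F220908)) (tt N16080 (iv F218272)) (tt N16536 (iv F220838)) (tt N12245 F211336) (tt N16599 (iv F221214)) (tt N12461 F211337) (tt N16448 (iv F220385)) (tt N12247 F211338) (tt N16639 D49409) (tt N12244 (iv D47215)))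
theorem Q14447 : ∀ i, i < 14447 → P i := stepQ 14446 Q14446 (allL N14446 (tt N16591 (iv F221165)) (tt N16081 (iv F218280)) (tt N16538 (iv F220853)) (tt N16627 (iv F221320)) (tt N12462 F211339) (tt N12246 (iv D47216)) (tt N16640 D49410) (tt N16597 (iv F221204)) (tt N14446 F211340) (tt N16641 D49411))
theorem Q14448 : ∀ i, i < 14448 → P i := stepQ 14447 Q14447 (allL N14447 (tt N16592 (iv F221172)) (tt N16082 (iv F218286)) (tt N16539 (iv F220861)) (tt N16628 (iv F221321)) (tt N12247 F211341) (tt N16641 (iv F221364)) (tt N12249 F211342) (tt N16599 (iv F221216)) (tt N16642 D49412) (tt N12246 (iv D47217)))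
theorem Q14449 : ∀ i, i < 14449 → P i := stepQ 14448 Q14448 (allL N14448 (tt N16593 (iv F221177)) (tt N16083 (iv F218291)) (tt N16540 (iv F220867)) (tt N12347 F211343) (tt N16642 (iv F221365)) (tt N12464 F211344) (tt N12250 F211345) (tt N16639 (iv F221354)) (tt N12247 (iv D47218)) (tt N14448 F211346))
theorem Q14450 : ∀ i, i < 14450 → P i := stepQ 14449 Q14449 (allL N14449 (tt N13265 F211347) (tt N12304 F211348) (tt N13287 F211349) (tt N16636 (iv F221342)) (tt N12251 F211350) (tt N16640 (iv F221360)) (tt N12248 (iv D47219)) (tt N13268 F211351) (tt N14449 F211352) (tt N16643 D49413))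
theorem Q14451 : ∀ i, i < 14451 → P i := stepQ 14450 Q14450 (allL N14450 (tt N16104 (iv F218437)) (tt N12306 F211353) (tt N16541 (iv F220874)) (tt N16637 (iv F221346)) (tt N12252 F211354) (tt N12249 F211355) (tt N16643 (iv F221372)) (tt N16450 (iv F220400)) (tt N16644 D49414) (tt N12248 (iv D47220)))
theorem Q14452 : ∀ i, i < 14452 → P i := stepQ 14451 Q14451 (allL N14451 (tt N16594 (iv F221182)) (tt N16084 (iv F218299)) (tt N16542 (iv F220881)) (tt N16645 D49415) (tt N12250 F211356) (tt N16644 (iv F221376)) (tt N16642 (iv F221366)) (tt N16451 (iv F220402)) (tt N12249 (iv D47221)) (tt N14451 F211357))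
theorem Q14453 : ∀ i, i < 14453 → P i := stepQ 14452 Q14452 (allL N14452 (tt N13646 F211358) (tt N12305 F211359) (tt N13662 F211360) (tt N12288 F211361) (tt N16643 (iv F221371)) (tt N12469 F211362) (tt N12252 F211363) (tt N13648 F211364) (tt N16646 D49416) (tt N12251 (iv D47222)))
theorem Q14454 : ∀ i, i < 14454 → P i := stepQ 14453 Q14453 (allL N14453 (tt N16105 (iv F218444)) (tt N12307 F211365) (tt N16543 (iv F220887)) (tt N16118 (iv F218534)) (tt N16644 (iv F221375)) (tt N12253 F211366) (tt N16646 (iv F221384)) (tt N16452 (iv F220409)) (tt N12252 (iv D47223)) (tt N14453 F211367))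
theorem Q14455 : ∀ i, i < 14455 → P i := stepQ 14454 Q14454 (allL N14454 (tt N16595 (iv F221187)) (tt N12265 F211368) (tt N16618 (iv F221293)) (tt N13275 (iv F211373)) (tt N12471 F211369) (tt N12856 F211370) (tt N12255 F211371) (tt N12853 F211372) (tt N12254 (iv D47224)) (tt N16647 D49417))
theorem Q14456 : ∀ i, i < 14456 → P i := stepQ 14455 Q14455 (allL N14455 (tt N16538 (iv F220851)) (tt N12266 F211374) (tt N16591 (iv F221167)) (tt N12255 (iv D47225)) (tt N16648 D49418) (tt N12258 F211375) (tt N13275 F211376) (tt N12256 F211377) (tt N14455 F211378) (tt N16649 D49419))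
theorem Q14457 : ∀ i, i < 14457 → P i := stepQ 14456 Q14456 (allL N14456 (tt N16596 (iv F221194)) (tt N12267 F211379) (tt N16620 (iv F221300)) (tt N16649 (iv F221403)) (tt N12473 F211380) (tt N12259 F211381) (tt N16647 (iv F221391)) (tt N12257 F211382) (tt N12356 F211383) (tt N12255 (iv D47226)))
theorem Q14458 : ∀ i, i < 14458 → P i := stepQ 14457 Q14457 (allL N14457 (tt N16597 (iv F221200)) (tt N16650 D49420) (tt N12256 (iv D47227)) (tt N16621 (iv F221305)) (tt N16651 D49421) (tt N12260 F211384) (tt N13173 F211385) (tt N16591 (iv F221170)) (tt N14457 F211386) (tt N16652 D49422))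
theorem Q14459 : ∀ i, i < 14459 → P i := stepQ 14458 Q14458 (allL N14458 (tt N13515 F211387) (tt N12269 F211388) (tt N16651 (iv F221413)) (tt N12475 F211389) (tt N12256 (iv D47228)) (tt N13784 F211390) (tt N13174 F211391) (tt N16648 (iv F221400)) (tt N14458 F211392) (tt N16653 D49423))
theorem Q14460 : ∀ i, i < 14460 → P i := stepQ 14459 Q14459 (allL N14459 (tt N16598 (iv F221206)) (tt N12270 F211393) (tt N16652 (iv F221418)) (tt N12257 F211394) (tt N16653 (iv F221424)) (tt N12261 F211395) (tt N13175 F211396) (tt N16649 (iv F221406)) (tt N16654 D49424) (tt N12256 (iv D47229)))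
theorem Q14461 : ∀ i, i < 14461 → P i := stepQ 14460 Q14460 (allL N14460 (tt N16539 (iv F220859)) (tt N12272 F211397) (tt N16592 (iv F221173)) (tt N12259 F211398) (tt N16534 (iv F220825)) (tt N16649 (iv F221404)) (tt N16453 (iv F220417)) (tt N12261 F211399) (tt N16655 D49425) (tt N12258 (iv D47230)))
theorem Q14462 : ∀ i, i < 14462 → P i := stepQ 14461 Q14461 (allL N14461 (tt N16149 (iv F218708)) (tt N12260 (iv D47231)) (tt N12273 F211400) (tt N16625 (iv F221315)) (tt N16116 (iv F218522)) (tt N16650 (iv F221408)) (tt N12262 F211401) (tt N16113 (iv F218502)) (tt N14461 F211402) (tt N16656 D49426))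
theorem Q14463 : ∀ i, i < 14463 → P i := stepQ 14462 Q14462 (allL N14462 (tt N16599 (iv F221212)) (tt N16656 (iv F221437)) (tt N12261 F211403) (tt N16626 (iv F221318)) (tt N16546 (iv F220911)) (tt N16652 (iv F221419)) (tt N12263 F211404) (tt N16592 (iv F221176)) (tt N16657 D49427) (tt N12260 (iv D47232)))
theorem Q14464 : ∀ i, i < 14464 → P i := stepQ 14463 Q14463 (allL N14463 (tt N16600 (iv F221217)) (tt N12275 F211405) (tt N16657 (iv F221440)) (tt N12364 F211406) (tt N16547 (iv F220917)) (tt N16654 (iv F221429)) (tt N12264 F211407) (tt N16655 (iv F221435)) (tt N12261 (iv D47233)) (tt N14463 F211408))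
theorem Q14465 : ∀ i, i < 14465 → P i := stepQ 14464 Q14464 (allL N14464 (tt N12262 (iv D47234)) (tt N16524 (iv F220762)) (tt N12276 F211409) (tt N16630 (iv F221326)) (tt N16055 (iv F218128)) (tt N13178 F211410) (tt N16149 (iv F218712)) (tt N16052 F218110) (tt N14464 F211411) (tt N16658 D49428))
theorem Q14466 : ∀ i, i < 14466 → P i := stepQ 14465 Q14465 (allL N14465 (tt N16658 (iv F221443)) (tt N12263 F211412) (tt N12277 F211413) (tt N16632 (iv F221330)) (tt N16548 (iv F220924)) (tt N13179 F211414) (tt N16656 (iv F221439)) (tt N16455 (iv F220430)) (tt N16659 D49429) (tt N12262 (iv D47235)))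
theorem Q14467 : ∀ i, i < 14467 → P i := stepQ 14466 Q14466 (allL N14466 (tt N16602 (iv F221228)) (tt N16659 (iv F221450)) (tt N12264 F211415) (tt N16660 D49430) (tt N16549 (iv F220931)) (tt N13180 F211416) (tt N16657 (iv F221441)) (tt N16456 (iv F220433)) (tt N12263 (iv D47236)) (tt N14466 F211417))
theorem Q14468 : ∀ i, i < 14468 → P i := stepQ 14467 Q14467 (allL N14467 (tt N14467 F211418) (tt N16647 (iv F221387)) (tt N12852 F211419) (tt N13277 F211420) (tt N12483 F211421) (tt N12857 F211422) (tt N12267 F211423) (tt N12854 F211424) (tt N12368 F211425) (tt N12265 (iv D47237)))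
theorem Q14469 : ∀ i, i < 14469 → P i := stepQ 14468 Q14468 (allL N14468 (tt N14468 F211426) (tt N16648 (iv F221395)) (tt N12722 F211427) (tt N12485 F211428) (tt N12266 (iv D47238)) (tt N12660 F211429) (tt N13276 F211430) (tt N12269 F211431) (tt N14468 F211432) (tt N16661 D49431))
theorem Q14470 : ∀ i, i < 14470 → P i := stepQ 14469 Q14469 (allL N14469 (tt N14469 F211433) (tt N16649 (iv F221402)) (tt N13274 F211434) (tt N12267 F211435) (tt N16661 (iv F221461)) (tt N12272 F211436) (tt N13277 F211437) (tt N12270 F211438) (tt N16662 D49432) (tt N12266 (iv D47239)))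
theorem Q14471 : ∀ i, i < 14471 → P i := stepQ 14470 Q14470 (allL N14470 (tt N16663 D49433) (tt N12268 (iv D47240)) (tt N16650 (iv F221407)) (tt N12354 F211439) (tt N16664 D49434) (tt N12273 F211440) (tt N12355 F211441) (tt N13255 F211442) (tt N14470 F211443) (tt N16665 D49435))
theorem Q14472 : ∀ i, i < 14472 → P i := stepQ 14471 Q14471 (allL N14471 (tt N14471 F211444) (tt N16664 (iv F221478)) (tt N12269 F211445) (tt N12625 F211446) (tt N12268 (iv D47241)) (tt N12726 F211447) (tt N12369 F211448) (tt N12722 F211449) (tt N14471 F211450) (tt N16666 D49436))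
theorem Q14473 : ∀ i, i < 14473 → P i := stepQ 14472 Q14472 (allL N14472 (tt N14472 F211451) (tt N16665 (iv F221484)) (tt N12270 F211452) (tt N12368 F211453) (tt N16666 (iv F221492)) (tt N12274 F211454) (tt N12370 F211455) (tt N13274 F211456) (tt N16667 D49437) (tt N12268 (iv D47242)))
theorem Q14474 : ∀ i, i < 14474 → P i := stepQ 14473 Q14473 (allL N14473 (tt N14473 F211457) (tt N16653 (iv F221422)) (tt N16666 (iv F221490)) (tt N12490 F211458) (tt N12270 F211459) (tt N16552 (iv F220954)) (tt N13181 F211460) (tt N16661 (iv F221464)) (tt N16668 D49438) (tt N12269 (iv D47243)))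
theorem Q14475 : ∀ i, i < 14475 → P i := stepQ 14474 Q14474 (allL N14474 (tt N14474 F211461) (tt N16654 (iv F221427)) (tt N16667 (iv F221497)) (tt N12375 F211462) (tt N16668 (iv F221504)) (tt N12275 F211463) (tt N13182 F211464) (tt N16662 (iv F221470)) (tt N12270 (iv D47244)) (tt N14474 F211465))
theorem Q14476 : ∀ i, i < 14476 → P i := stepQ 14475 Q14475 (allL N14475 (tt N15983 (iv F217609)) (tt N12271 (iv D47245)) (tt N16113 (iv F218499)) (tt N13104 F211466) (tt N15980 (iv F217588)) (tt N13255 F211467) (tt N13105 F211468) (tt N12273 F211469) (tt N14475 F211470) (tt N16669 D49439))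
theorem Q14477 : ∀ i, i < 14477 → P i := stepQ 14476 Q14476 (allL N14476 (tt N14476 F211471) (tt N16669 (iv F221507)) (tt N12272 F211472) (tt N12860 F211473) (tt N16554 (iv F220965)) (tt N13274 F211474) (tt N12863 F211475) (tt N12274 F211476) (tt N13292 (iv F211477)) (tt N12271 (iv D47246)))
theorem Q14478 : ∀ i, i < 14478 → P i := stepQ 14477 Q14477 (allL N14477 (tt N14477 F211478) (tt N16655 (iv F221432)) (tt N13292 F211479) (tt N12376 F211480) (tt N16555 (iv F220973)) (tt N16662 (iv F221468)) (tt N13185 F211481) (tt N12275 F211482) (tt N12272 (iv D47247)) (tt N14477 F211483))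
theorem Q14479 : ∀ i, i < 14479 → P i := stepQ 14478 Q14478 (allL N14478 (tt N12273 (iv D47248)) (tt N14478 F211484) (tt N16149 (iv F218710)) (tt N16093 (iv F218359)) (tt N15986 (iv F217638)) (tt N16663 (iv F221474)) (tt N12276 F211485) (tt N15983 (iv F217615)) (tt N14478 F211486) (tt N16670 D49440))
theorem Q14480 : ∀ i, i < 14480 → P i := stepQ 14479 Q14479 (allL N14479 (tt N16670 (iv F221513)) (tt N12274 F211487) (tt N16656 (iv F221438)) (tt N16094 (iv F218366)) (tt N16556 (iv F220979)) (tt N16665 (iv F221486)) (tt N12277 F211488) (tt N16669 (iv F221511)) (tt N16671 D49441) (tt N12273 (iv D47249)))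
theorem Q14481 : ∀ i, i < 14481 → P i := stepQ 14480 Q14480 (allL N14480 (tt N14480 F211489) (tt N16671 (iv F221516)) (tt N12275 F211490) (tt N13289 F211491) (tt N16557 (iv F220983)) (tt N16667 (iv F221499)) (tt N12278 F211492) (tt N13292 F211493) (tt N12274 (iv D47250)) (tt N14480 F211494))
theorem Q14482 : ∀ i, i < 14482 → P i := stepQ 14481 Q14481 (allL N14481 (tt N12277 F211495) (tt N14481 F211496) (tt N16658 (iv F221445)) (tt N16095 (iv F218374)) (tt N16558 (iv F220992)) (tt N13183 F211497) (tt N16670 (iv F221515)) (tt N16457 (iv F220440)) (tt N16672 D49442) (tt N12276 (iv D47251)))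
theorem Q14483 : ∀ i, i < 14483 → P i := stepQ 14482 Q14482 (allL N14482 (tt N16672 (iv F221521)) (tt N12278 F211498) (tt N16659 (iv F221451)) (tt N16673 D49443) (tt N16559 (iv F220998)) (tt N13184 F211499) (tt N16671 (iv F221518)) (tt N16458 (iv F220445)) (tt N12277 (iv D47252)) (tt N14482 F211500))
theorem Q14484 : ∀ i, i < 14484 → P i := stepQ 14483 Q14483 (allL N14483 (tt N14483 F211501) (tt N16673 (iv F221527)) (tt N12382 F211502) (tt N12278 (iv D47253)) (tt N13596 (iv F211508)) (tt N13185 F211503) (tt N13289 F211504) (tt N13123 F211505) (tt N13120 F211506) (tt N14483 F211507))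
theorem Q14485 : ∀ i, i < 14485 → P i := stepQ 14484 Q14484 (allL N14484 (tt N12739 F211509) (tt N14484 F211510) (tt N12280 F211511) (tt N14484 F211512) (tt N14484 F211513) (tt N13139 F211514) (tt N12279 (iv D47254)) (tt N16426 (iv F220264)) (tt N12858 F211515) (tt N13077 F211516))
theorem Q14486 : ∀ i, i < 14486 → P i := stepQ 14485 Q14485 (allL N14485 (tt N13155 F211517) (tt N12289 F211518) (tt N13139 F211519) (tt N12282 F211520) (tt N13296 (iv F211523)) (tt N12280 (iv D47255)) (tt N13131 F211521) (tt N16578 (iv F221111)) (tt N16674 D49444) (tt N13193 F211522))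
theorem Q14487 : ∀ i, i < 14487 → P i := stepQ 14486 Q14486 (allL N14486 (tt N16097 (iv F218385)) (tt N12290 F211524) (tt N16426 (iv F220260)) (tt N12283 F211525) (tt N14486 F211526) (tt N16578 (iv F221110)) (tt N16415 (iv F220197)) (tt N12280 (iv D47256)) (tt N16675 D49445) (tt N16471 (iv F220512)))
theorem Q14488 : ∀ i, i < 14488 → P i := stepQ 14487 Q14487 (allL N14487 (tt N12846 F211527) (tt N12291 F211528) (tt N12858 F211529) (tt N16676 D49446) (tt N14487 F211530) (tt N16674 (iv F221538)) (tt N12281 F211531) (tt N16675 (iv F221544)) (tt N12280 (iv D47257)) (tt N16677 D49447))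
theorem Q14489 : ∀ i, i < 14489 → P i := stepQ 14488 Q14488 (allL N14488 (tt N12826 F211532) (tt N12292 F211533) (tt N13241 F211534) (tt N12281 (iv D47258)) (tt N16615 (iv F221285)) (tt N13153 F211535) (tt N16676 (iv F221548)) (tt N16459 (iv F220451)) (tt N12285 F211536) (tt N16678 D49448))
theorem Q14490 : ∀ i, i < 14490 → P i := stepQ 14489 Q14489 (allL N14489 (tt N12849 F211537) (tt N12293 F211538) (tt N12861 F211539) (tt N16678 (iv F221558)) (tt N14489 F211540) (tt N13186 F211541) (tt N16677 (iv F221554)) (tt N16460 (iv F220458)) (tt N16562 (iv F221023)) (tt N12281 (iv D47259)))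
theorem Q14491 : ∀ i, i < 14491 → P i := stepQ 14490 Q14490 (allL N14490 (tt N16098 (iv F218394)) (tt N12294 F211542) (tt N14490 F211543) (tt N16578 (iv F221108)) (tt N12504 F211544) (tt N12283 F211545) (tt N16570 (iv F221069)) (tt N12282 (iv D47260)) (tt N16679 D49449) (tt N16563 (iv F221031)))
theorem Q14492 : ∀ i, i < 14492 → P i := stepQ 14491 Q14491 (allL N14491 (tt N16099 (iv F218403)) (tt N12295 F211546) (tt N14491 F211547) (tt N16680 D49450) (tt N12505 F211548) (tt N12284 F211549) (tt N13170 F211550) (tt N16679 (iv F221565)) (tt N12282 (iv D47261)) (tt N16681 D49451))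
theorem Q14493 : ∀ i, i < 14493 → P i := stepQ 14492 Q14492 (allL N14492 (tt N13617 F211551) (tt N12296 F211552) (tt N14492 F211553) (tt N16682 D49452) (tt N12287 F211554) (tt N16679 (iv F221564)) (tt N13624 F211555) (tt N12284 F211556) (tt N12283 (iv D47262)) (tt N16683 D49453))
theorem Q14494 : ∀ i, i < 14494 → P i := stepQ 14493 Q14493 (allL N14493 (tt N16100 (iv F218410)) (tt N12297 F211557) (tt N16684 D49454) (tt N12284 (iv D47263)) (tt N16636 (iv F221343)) (tt N16680 (iv F221567)) (tt N12285 F211558) (tt N16682 (iv F221578)) (tt N16676 (iv F221549)) (tt N16685 D49455))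
theorem Q14495 : ∀ i, i < 14495 → P i := stepQ 14494 Q14494 (allL N14494 (tt N16101 (iv F218417)) (tt N12298 F211559) (tt N14494 F211560) (tt N16685 (iv F221590)) (tt N12288 F211561) (tt N16681 (iv F221572)) (tt N12286 F211562) (tt N16683 (iv F221584)) (tt N16567 (iv F221051)) (tt N12284 (iv D47264)))
theorem Q14496 : ∀ i, i < 14496 → P i := stepQ 14495 Q14495 (allL N14495 (tt N13221 F211563) (tt N16686 D49456) (tt N12285 (iv D47265)) (tt N14495 F211564) (tt N16633 (iv F221334)) (tt N13165 F211565) (tt N16684 (iv F221587)) (tt N16463 (iv F220474)) (tt N13241 F211566) (tt N16687 D49457))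
theorem Q14497 : ∀ i, i < 14497 → P i := stepQ 14496 Q14496 (allL N14496 (tt N16103 (iv F218432)) (tt N12301 F211567) (tt N16687 (iv F221598)) (tt N12286 F211568) (tt N16637 (iv F221347)) (tt N13167 F211569) (tt N16685 (iv F221591)) (tt N16464 (iv F220479)) (tt N16688 D49458) (tt N12285 (iv D47266)))
theorem Q14498 : ∀ i, i < 14498 → P i := stepQ 14497 Q14497 (allL N14497 (tt N13618 F211570) (tt N12303 F211571) (tt N14497 F211572) (tt N13648 F211573) (tt N16683 (iv F221582)) (tt N12511 F211574) (tt N13625 F211575) (tt N12288 F211576) (tt N16569 (iv F221062)) (tt N12287 (iv D47267)))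
theorem Q14499 : ∀ i, i < 14499 → P i := stepQ 14498 Q14498 (allL N14498 (tt N12319 F211577) (tt N13296 F211578) (tt N14498 F211579) (tt N12512 F211580) (tt N12289 (iv D47268)) (tt N14498 F211581) (tt N13187 F211582) (tt N16689 D49459) (tt N16690 D49460) (tt N13377 F211583))
theorem Q14500 : ∀ i, i < 14500 → P i := stepQ 14499 Q14499 (allL N14499 (tt N12320 F211584) (tt N16578 (iv F221106)) (tt N14499 F211585) (tt N12294 F211586) (tt N16689 (iv F221607)) (tt N12290 F211587) (tt N16563 (iv F221030)) (tt N12289 (iv D47269)) (tt N16691 D49461) (tt N16570 (iv F221070)))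
theorem Q14501 : ∀ i, i < 14501 → P i := stepQ 14500 Q14500 (allL N14500 (tt N12321 F211588) (tt N16674 (iv F221535)) (tt N14500 F211589) (tt N16692 D49462) (tt N16690 (iv F221614)) (tt N12291 F211590) (tt N13188 F211591) (tt N16691 (iv F221620)) (tt N12289 (iv D47270)) (tt N16693 D49463))
theorem Q14502 : ∀ i, i < 14502 → P i := stepQ 14501 Q14501 (allL N14501 (tt N12322 F211592) (tt N16675 (iv F221541)) (tt N14501 F211593) (tt N16694 D49464) (tt N14501 F211594) (tt N16691 (iv F221619)) (tt N16465 (iv F220483)) (tt N12291 F211595) (tt N12290 (iv D47271)) (tt N16695 D49465))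
theorem Q14503 : ∀ i, i < 14503 → P i := stepQ 14502 Q14502 (allL N14502 (tt N12323 F211596) (tt N16676 (iv F221546)) (tt N16696 D49466) (tt N12291 (iv D47272)) (tt N16697 D49467) (tt N16692 (iv F221622)) (tt N12292 F211597) (tt N16694 (iv F221630)) (tt N12297 F211598) (tt N16698 D49468))
theorem Q14504 : ∀ i, i < 14504 → P i := stepQ 14503 Q14503 (allL N14503 (tt N12324 F211599) (tt N16677 (iv F221551)) (tt N14503 F211600) (tt N16698 (iv F221645)) (tt N14503 F211601) (tt N16693 (iv F221627)) (tt N12293 F211602) (tt N16695 (iv F221635)) (tt N16574 (iv F221089)) (tt N12291 (iv D47273)))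
theorem Q14505 : ∀ i, i < 14505 → P i := stepQ 14504 Q14504 (allL N14504 (tt N12325 F211603) (tt N16699 D49469) (tt N12292 (iv D47274)) (tt N14504 F211604) (tt N16700 D49470) (tt N13191 F211605) (tt N16696 (iv F221638)) (tt N16468 (iv F220495)) (tt N12299 F211606) (tt N16701 D49471))
theorem Q14506 : ∀ i, i < 14506 → P i := stepQ 14505 Q14505 (allL N14505 (tt N12326 F211607) (tt N16615 (iv F221282)) (tt N16700 (iv F221655)) (tt N14505 F211608) (tt N12292 (iv D47275)) (tt N16063 (iv F218184)) (tt N16697 (iv F221642)) (tt N16469 (iv F220499)) (tt N12300 F211609) (tt N16702 D49472))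
theorem Q14507 : ∀ i, i < 14507 → P i := stepQ 14506 Q14506 (allL N14506 (tt N12327 F211610) (tt N16678 (iv F221556)) (tt N16701 (iv F221659)) (tt N12293 F211611) (tt N16702 (iv F221664)) (tt N13192 F211612) (tt N16698 (iv F221646)) (tt N16470 (iv F220504)) (tt N16703 D49473) (tt N12292 (iv D47276)))
theorem Q14508 : ∀ i, i < 14508 → P i := stepQ 14507 Q14507 (allL N14507 (tt N12328 F211613) (tt N16570 (iv F221064)) (tt N12308 F211614) (tt N16563 (iv F221027)) (tt N12520 F211615) (tt N16471 (iv F220510)) (tt N12294 (iv D47277)) (tt N13193 F211616) (tt N16704 D49474) (tt N16578 (iv F221112)))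
theorem Q14509 : ∀ i, i < 14509 → P i := stepQ 14508 Q14508 (allL N14508 (tt N12329 F211617) (tt N16679 (iv F221561)) (tt N12309 F211618) (tt N16705 D49475) (tt N12521 F211619) (tt N12296 F211620) (tt N16704 (iv F221671)) (tt N12295 F211621) (tt N12294 (iv D47278)) (tt N16706 D49476))
theorem Q14510 : ∀ i, i < 14510 → P i := stepQ 14509 Q14509 (allL N14509 (tt N12330 F211622) (tt N16680 (iv F221566)) (tt N16707 D49477) (tt N12295 (iv D47279)) (tt N16708 D49478) (tt N12297 F211623) (tt N13195 F211624) (tt N16705 (iv F221675)) (tt N16692 (iv F221624)) (tt N16709 D49479))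
theorem Q14511 : ∀ i, i < 14511 → P i := stepQ 14510 Q14510 (allL N14510 (tt N12331 F211625) (tt N16681 (iv F221569)) (tt N12311 F211626) (tt N16709 (iv F221689)) (tt N12523 F211627) (tt N12298 F211628) (tt N13196 F211629) (tt N16706 (iv F221680)) (tt N16581 (iv F221126)) (tt N12295 (iv D47280)))
theorem Q14512 : ∀ i, i < 14512 → P i := stepQ 14511 Q14511 (allL N14511 (tt N12332 F211630) (tt N16682 (iv F221575)) (tt N16710 D49480) (tt N12296 (iv D47281)) (tt N16711 D49481) (tt N16705 (iv F221674)) (tt N16474 (iv F220525)) (tt N12297 F211631) (tt N16694 (iv F221631)) (tt N16712 D49482))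
theorem Q14513 : ∀ i, i < 14513 → P i := stepQ 14512 Q14512 (allL N14512 (tt N12333 F211632) (tt N16683 (iv F221580)) (tt N12313 F211633) (tt N16712 (iv F221702)) (tt N12303 F211634) (tt N16706 (iv F221679)) (tt N16475 (iv F220531)) (tt N12298 F211635) (tt N16583 (iv F221136)) (tt N12296 (iv D47282)))
theorem Q14514 : ∀ i, i < 14514 → P i := stepQ 14513 Q14513 (allL N14513 (tt N12334 F211636) (tt N16713 D49483) (tt N12297 (iv D47283)) (tt N12314 F211637) (tt N16714 D49484) (tt N16707 (iv F221683)) (tt N12299 F211638) (tt N16710 (iv F221695)) (tt N16696 (iv F221639)) (tt N16715 D49485))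
theorem Q14515 : ∀ i, i < 14515 → P i := stepQ 14514 Q14514 (allL N14514 (tt N12335 F211639) (tt N16636 (iv F221341)) (tt N16714 (iv F221707)) (tt N12304 F211640) (tt N12297 (iv D47284)) (tt N16716 D49486) (tt N12300 F211641) (tt N16711 (iv F221700)) (tt N16697 (iv F221643)) (tt N16717 D49487))
theorem Q14516 : ∀ i, i < 14516 → P i := stepQ 14515 Q14515 (allL N14515 (tt N12336 F211642) (tt N16685 (iv F221589)) (tt N16715 (iv F221711)) (tt N12298 F211643) (tt N16717 (iv F221718)) (tt N16709 (iv F221690)) (tt N12301 F211644) (tt N16712 (iv F221703)) (tt N16718 D49488) (tt N12297 (iv D47285)))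
theorem Q14517 : ∀ i, i < 14517 → P i := stepQ 14516 Q14516 (allL N14516 (tt N16719 D49489) (tt N12299 (iv D47286)) (tt N16686 (iv F221593)) (tt N12316 F211645) (tt N16720 D49490) (tt N13201 F211646) (tt N16713 (iv F221705)) (tt N16479 (iv F220547)) (tt N16699 (iv F221651)) (tt N16721 D49491))
theorem Q14518 : ∀ i, i < 14518 → P i := stepQ 14517 Q14517 (allL N14517 (tt N12338 F211647) (tt N16720 (iv F221729)) (tt N12300 F211648) (tt N14517 F211649) (tt N12299 (iv D47287)) (tt N16075 (iv F218251)) (tt N16714 (iv F221709)) (tt N16480 (iv F220551)) (tt N16700 (iv F221656)) (tt N16722 D49492))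
theorem Q14519 : ∀ i, i < 14519 → P i := stepQ 14518 Q14518 (allL N14518 (tt N12339 F211650) (tt N16721 (iv F221732)) (tt N12301 F211651) (tt N12317 F211652) (tt N16722 (iv F221738)) (tt N13202 F211653) (tt N16715 (iv F221713)) (tt N16481 (iv F220556)) (tt N16723 D49493) (tt N12299 (iv D47288)))
theorem Q14520 : ∀ i, i < 14520 → P i := stepQ 14519 Q14519 (allL N14519 (tt N12341 F211654) (tt N16637 (iv F221345)) (tt N16722 (iv F221736)) (tt N12306 F211655) (tt N12301 F211656) (tt N16077 (iv F218260)) (tt N16717 (iv F221719)) (tt N16482 (iv F220560)) (tt N16724 D49494) (tt N12300 (iv D47289)))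
theorem Q14521 : ∀ i, i < 14521 → P i := stepQ 14520 Q14520 (allL N14520 (tt N12342 F211657) (tt N16688 (iv F221601)) (tt N16723 (iv F221740)) (tt N16590 (iv F221163)) (tt N16724 (iv F221743)) (tt N13203 F211658) (tt N16718 (iv F221721)) (tt N16483 (iv F220563)) (tt N12301 (iv D47290)) (tt N16703 (iv F221667)))
theorem Q14522 : ∀ i, i < 14522 → P i := stepQ 14521 Q14521 (allL N14521 (tt N12343 F211659) (tt N13268 F211660) (tt N14521 F211661) (tt N16711 (iv F221698)) (tt N12302 (iv D47291)) (tt N16725 D49495) (tt N13213 F211662) (tt N12304 F211663) (tt N14521 F211664) (tt N16726 D49496))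
theorem Q14523 : ∀ i, i < 14523 → P i := stepQ 14522 Q14522 (allL N14522 (tt N12344 F211665) (tt N13648 F211666) (tt N14522 F211667) (tt N12303 F211668) (tt N16726 (iv F221753)) (tt N12535 F211669) (tt N13608 F211670) (tt N12305 F211671) (tt N16727 D49497) (tt N12302 (iv D47292)))
theorem Q14524 : ∀ i, i < 14524 → P i := stepQ 14523 Q14523 (allL N14523 (tt N12345 F211672) (tt N16640 (iv F221357)) (tt N14523 F211673) (tt N16716 (iv F221715)) (tt N12536 F211674) (tt N12304 (iv D47293)) (tt N16081 (iv F218283)) (tt N16725 (iv F221748)) (tt N14523 F211675) (tt N16728 D49498))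
theorem Q14525 : ∀ i, i < 14525 → P i := stepQ 14524 Q14524 (allL N14524 (tt N12346 F211676) (tt N16643 (iv F221369)) (tt N14524 F211677) (tt N16717 (iv F221717)) (tt N12305 F211678) (tt N16728 (iv F221766)) (tt N12306 F211679) (tt N16726 (iv F221755)) (tt N16729 D49499) (tt N12304 (iv D47294)))
theorem Q14526 : ∀ i, i < 14526 → P i := stepQ 14525 Q14525 (allL N14525 (tt N12347 F211680) (tt N16646 (iv F221381)) (tt N14525 F211681) (tt N16593 (iv F221178)) (tt N16729 (iv F221769)) (tt N12538 F211682) (tt N12307 F211683) (tt N16727 (iv F221761)) (tt N12305 (iv D47295)) (tt N14525 F211684))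
theorem Q14527 : ∀ i, i < 14527 → P i := stepQ 14526 Q14526 (allL N14526 (tt N12350 F211685) (tt N16644 (iv F221374)) (tt N14526 F211686) (tt N16730 D49500) (tt N12307 F211687) (tt N16084 (iv F218302)) (tt N16729 (iv F221770)) (tt N16487 (iv F220587)) (tt N12306 (iv D47296)) (tt N14526 F211688))
theorem Q14528 : ∀ i, i < 14528 → P i := stepQ 14527 Q14527 (allL N14527 (tt N12354 F211689) (tt N14527 F211690) (tt N16704 (iv F221669)) (tt N16663 (iv F221473)) (tt N12540 F211691) (tt N16093 (iv F218361)) (tt N12309 F211692) (tt N13204 F211693) (tt N12308 (iv D47297)) (tt N16731 D49501))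
theorem Q14529 : ∀ i, i < 14529 → P i := stepQ 14528 Q14528 (allL N14528 (tt N12355 F211694) (tt N14528 F211695) (tt N16732 D49502) (tt N12309 (iv D47298)) (tt N16733 D49503) (tt N12312 F211696) (tt N16663 (iv F221475)) (tt N12310 F211697) (tt N14528 F211698) (tt N16734 D49504))
theorem Q14530 : ∀ i, i < 14530 → P i := stepQ 14529 Q14529 (allL N14529 (tt N12356 F211699) (tt N14529 F211700) (tt N16706 (iv F221677)) (tt N16734 (iv F221791)) (tt N12542 F211701) (tt N12313 F211702) (tt N16731 (iv F221777)) (tt N12311 F211703) (tt N16596 (iv F221199)) (tt N12309 (iv D47299)))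
theorem Q14531 : ∀ i, i < 14531 → P i := stepQ 14530 Q14530 (allL N14530 (tt N12357 F211704) (tt N16735 D49505) (tt N12310 (iv D47300)) (tt N16707 (iv F221682)) (tt N16347 (iv F219801)) (tt N12314 F211705) (tt N13207 F211706) (tt N16732 (iv F221781)) (tt N14530 F211707) (tt N16736 D49506))
theorem Q14532 : ∀ i, i < 14532 → P i := stepQ 14531 Q14531 (allL N14531 (tt N12358 F211708) (tt N14531 F211709) (tt N16347 (iv F219800)) (tt N12544 F211710) (tt N12310 (iv D47301)) (tt N14531 F211711) (tt N13208 F211712) (tt N16733 (iv F221787)) (tt N14531 F211713) (tt N16737 D49507))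
theorem Q14533 : ∀ i, i < 14533 → P i := stepQ 14532 Q14532 (allL N14532 (tt N12359 F211714) (tt N14532 F211715) (tt N16736 (iv F221800)) (tt N12311 F211716) (tt N16737 (iv F221806)) (tt N12315 F211717) (tt N13209 F211718) (tt N16734 (iv F221793)) (tt N16738 D49508) (tt N12310 (iv D47302)))
theorem Q14534 : ∀ i, i < 14534 → P i := stepQ 14533 Q14533 (allL N14533 (tt N12360 F211719) (tt N16739 D49509) (tt N12312 (iv D47303)) (tt N16710 (iv F221693)) (tt N14533 F211720) (tt N16732 (iv F221780)) (tt N13178 F211721) (tt N12314 F211722) (tt N14533 F211723) (tt N16740 D49510))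
theorem Q14535 : ∀ i, i < 14535 → P i := stepQ 14534 Q14534 (allL N14534 (tt N12361 F211724) (tt N14534 F211725) (tt N16740 (iv F221821)) (tt N12313 F211726) (tt N14534 F211727) (tt N16734 (iv F221792)) (tt N13183 F211728) (tt N12315 F211729) (tt N16741 D49511) (tt N12312 (iv D47304)))
theorem Q14536 : ∀ i, i < 14536 → P i := stepQ 14535 Q14535 (allL N14535 (tt N16742 D49512) (tt N12314 (iv D47305)) (tt N14535 F211730) (tt N16713 (iv F221704)) (tt N14535 F211731) (tt N16735 (iv F221796)) (tt N12316 F211732) (tt N16739 (iv F221818)) (tt N14535 F211733) (tt N16743 D49513))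
theorem Q14537 : ∀ i, i < 14537 → P i := stepQ 14536 Q14536 (allL N14536 (tt N12363 F211734) (tt N16743 (iv F221837)) (tt N12315 F211735) (tt N16715 (iv F221712)) (tt N14536 F211736) (tt N16736 (iv F221801)) (tt N12317 F211737) (tt N16740 (iv F221824)) (tt N16744 D49514) (tt N12314 (iv D47306)))
theorem Q14538 : ∀ i, i < 14538 → P i := stepQ 14537 Q14537 (allL N14537 (tt N12364 F211738) (tt N14537 F211739) (tt N16744 (iv F221842)) (tt N16600 (iv F221219)) (tt N14537 F211740) (tt N16738 (iv F221811)) (tt N12318 F211741) (tt N16741 (iv F221829)) (tt N12315 (iv D47307)) (tt N14537 F211742))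
theorem Q14539 : ∀ i, i < 14539 → P i := stepQ 14538 Q14538 (allL N14538 (tt N12316 (iv D47308)) (tt N12365 F211743) (tt N14538 F211744) (tt N16719 (iv F221724)) (tt N14538 F211745) (tt N13213 F211746) (tt N16742 (iv F221834)) (tt N16484 (iv F220569)) (tt N14538 F211747) (tt N16745 D49515))
theorem Q14540 : ∀ i, i < 14540 → P i := stepQ 14539 Q14539 (allL N14539 (tt N16745 (iv F221846)) (tt N12317 F211748) (tt N14539 F211749) (tt N16721 (iv F221733)) (tt N14539 F211750) (tt N13214 F211751) (tt N16743 (iv F221840)) (tt N16491 (iv F220611)) (tt N16746 D49516) (tt N12316 (iv D47309)))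
theorem Q14541 : ∀ i, i < 14541 → P i := stepQ 14540 Q14540 (allL N14540 (tt N12367 F211752) (tt N16746 (iv F221851)) (tt N12318 F211753) (tt N16747 D49517) (tt N14540 F211754) (tt N13215 F211755) (tt N16744 (iv F221844)) (tt N16492 (iv F220616)) (tt N12317 (iv D47310)) (tt N14540 F211756))
theorem Q14542 : ∀ i, i < 14542 → P i := stepQ 14541 Q14541 (allL N14541 (tt N16689 (iv F221603)) (tt N13783 F211757) (tt N14541 F211758) (tt N12552 F211759) (tt N12320 F211760) (tt N14541 F211761) (tt N13765 F211762) (tt N12319 (iv D47311)) (tt N16748 D49518) (tt N16229 (iv F219193)))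
theorem Q14543 : ∀ i, i < 14543 → P i := stepQ 14542 Q14542 (allL N14542 (tt N16690 (iv F221611)) (tt N13481 F211763) (tt N14542 F211764) (tt N16749 D49519) (tt N12321 F211765) (tt N14542 F211766) (tt N12999 F211767) (tt N16748 (iv F221864)) (tt N12319 (iv D47312)) (tt N16750 D49520))
theorem Q14544 : ∀ i, i < 14544 → P i := stepQ 14543 Q14543 (allL N14543 (tt N16563 (iv F221024)) (tt N13768 F211768) (tt N14543 F211769) (tt N12328 F211770) (tt N13765 F211771) (tt N13758 F211772) (tt N12320 (iv D47313)) (tt N13216 F211773) (tt N16751 D49521) (tt N16098 (iv F218401)))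
theorem Q14545 : ∀ i, i < 14545 → P i := stepQ 14544 Q14544 (allL N14544 (tt N16691 (iv F221617)) (tt N16119 (iv F218539)) (tt N14544 F211774) (tt N16752 D49522) (tt N16748 (iv F221861)) (tt N12322 F211775) (tt N16751 (iv F221878)) (tt N12321 F211776) (tt N12320 (iv D47314)) (tt N16753 D49523))
theorem Q14546 : ∀ i, i < 14546 → P i := stepQ 14545 Q14545 (allL N14545 (tt N16692 (iv F221621)) (tt N16120 (iv F218546)) (tt N16754 D49524) (tt N12321 (iv D47315)) (tt N16755 D49525) (tt N12323 F211777) (tt N13217 F211778) (tt N16752 (iv F221881)) (tt N12330 F211779) (tt N16756 D49526))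
theorem Q14547 : ∀ i, i < 14547 → P i := stepQ 14546 Q14546 (allL N14546 (tt N16693 (iv F221625)) (tt N16121 (iv F218552)) (tt N14546 F211780) (tt N16756 (iv F221892)) (tt N16750 (iv F221871)) (tt N12324 F211781) (tt N13218 F211782) (tt N16753 (iv F221885)) (tt N16606 (iv F221251)) (tt N12321 (iv D47316)))
theorem Q14548 : ∀ i, i < 14548 → P i := stepQ 14547 Q14547 (allL N14547 (tt N16694 (iv F221629)) (tt N16122 (iv F218558)) (tt N16757 D49527) (tt N12322 (iv D47317)) (tt N16758 D49528) (tt N16752 (iv F221880)) (tt N16496 (iv F220637)) (tt N12323 F211783) (tt N12332 F211784) (tt N16759 D49529))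
theorem Q14549 : ∀ i, i < 14549 → P i := stepQ 14548 Q14548 (allL N14548 (tt N16695 (iv F221632)) (tt N16123 (iv F218565)) (tt N14548 F211785) (tt N16759 (iv F221905)) (tt N14548 F211786) (tt N16753 (iv F221884)) (tt N16497 (iv F220646)) (tt N12324 F211787) (tt N16608 (iv F221261)) (tt N12322 (iv D47318)))
theorem Q14550 : ∀ i, i < 14550 → P i := stepQ 14549 Q14549 (allL N14549 (tt N16696 (iv F221636)) (tt N16760 D49530) (tt N12323 (iv D47319)) (tt N14549 F211788) (tt N16761 D49531) (tt N16754 (iv F221887)) (tt N12325 F211789) (tt N16757 (iv F221898)) (tt N12334 F211790) (tt N16762 D49532))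
theorem Q14551 : ∀ i, i < 14551 → P i := stepQ 14550 Q14550 (allL N14550 (tt N16697 (iv F221640)) (tt N16124 (iv F218572)) (tt N16761 (iv F221915)) (tt N14550 F211791) (tt N12323 (iv D47320)) (tt N16763 D49533) (tt N12326 F211792) (tt N16758 (iv F221903)) (tt N12335 F211793) (tt N16764 D49534))
theorem Q14552 : ∀ i, i < 14552 → P i := stepQ 14551 Q14551 (allL N14551 (tt N16698 (iv F221644)) (tt N16125 (iv F218579)) (tt N16762 (iv F221919)) (tt N12324 F211794) (tt N16764 (iv F221925)) (tt N16756 (iv F221893)) (tt N12327 F211795) (tt N16759 (iv F221906)) (tt N16765 D49535) (tt N12323 (iv D47321)))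
theorem Q14553 : ∀ i, i < 14553 → P i := stepQ 14552 Q14552 (allL N14552 (tt N13165 (iv F211800)) (tt N12325 (iv D47322)) (tt N12792 F211796) (tt N14552 F211797) (tt N13136 F211801) (tt N13221 F211798) (tt N16760 (iv F221909)) (tt N16501 (iv F220665)) (tt N12337 F211799) (tt N16766 D49536))
theorem Q14554 : ∀ i, i < 14554 → P i := stepQ 14553 Q14553 (allL N14553 (tt N16700 (iv F221653)) (tt N13136 F211802) (tt N12326 F211803) (tt N13146 (iv F211805)) (tt N12325 (iv D47323)) (tt N16587 (iv F221153)) (tt N16761 (iv F221916)) (tt N16502 (iv F220671)) (tt N12338 F211804) (tt N16767 D49537))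
theorem Q14555 : ∀ i, i < 14555 → P i := stepQ 14554 Q14554 (allL N14554 (tt N16701 (iv F221658)) (tt N16766 (iv F221930)) (tt N12327 F211806) (tt N14554 F211807) (tt N16767 (iv F221938)) (tt N13223 F211808) (tt N16762 (iv F221921)) (tt N16503 (iv F220677)) (tt N16768 D49538) (tt N12325 (iv D47324)))
theorem Q14556 : ∀ i, i < 14556 → P i := stepQ 14555 Q14555 (allL N14555 (tt N16063 (iv F218181)) (tt N16126 (iv F218584)) (tt N16587 (iv F221150)) (tt N14555 F211809) (tt N13224 F211810) (tt N12326 (iv D47325)) (tt N16769 D49539) (tt N16504 (iv F220681)) (tt N12340 F211811) (tt N16770 D49540))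
theorem Q14557 : ∀ i, i < 14557 → P i := stepQ 14556 Q14556 (allL N14556 (tt N16702 (iv F221662)) (tt N16127 (iv F218591)) (tt N16767 (iv F221936)) (tt N14556 F211812) (tt N12327 F211813) (tt N16770 (iv F221947)) (tt N16764 (iv F221926)) (tt N16505 (iv F220685)) (tt N16771 D49541) (tt N12326 (iv D47326)))
theorem Q14558 : ∀ i, i < 14558 → P i := stepQ 14557 Q14557 (allL N14557 (tt N16703 (iv F221665)) (tt N16128 (iv F218596)) (tt N16768 (iv F221939)) (tt N16617 (iv F221289)) (tt N16771 (iv F221948)) (tt N13226 F211814) (tt N16765 (iv F221927)) (tt N16506 (iv F220687)) (tt N12327 (iv D47327)) (tt N12342 F211815))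
theorem Q14559 : ∀ i, i < 14559 → P i := stepQ 14558 Q14558 (allL N14558 (tt N16704 (iv F221668)) (tt N16086 (iv F218313)) (tt N12354 F211816) (tt N16772 D49542) (tt N12569 F211817) (tt N16088 (iv F218329)) (tt N12329 F211818) (tt N13227 F211819) (tt N12328 (iv D47328)) (tt N16773 D49543))
theorem Q14560 : ∀ i, i < 14560 → P i := stepQ 14559 Q14559 (allL N14559 (tt N16705 (iv F221673)) (tt N16129 (iv F218601)) (tt N16774 D49544) (tt N12329 (iv D47329)) (tt N16775 D49545) (tt N12332 F211820) (tt N16772 (iv F221950)) (tt N12330 F211821) (tt N16752 (iv F221882)) (tt N16776 D49546))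
theorem Q14561 : ∀ i, i < 14561 → P i := stepQ 14560 Q14560 (allL N14560 (tt N16706 (iv F221676)) (tt N16130 (iv F218606)) (tt N12356 F211822) (tt N16776 (iv F221962)) (tt N12571 F211823) (tt N12333 F211824) (tt N16773 (iv F221954)) (tt N12331 F211825) (tt N16620 (iv F221304)) (tt N12329 (iv D47330)))
theorem Q14562 : ∀ i, i < 14562 → P i := stepQ 14561 Q14561 (allL N14561 (tt N16707 (iv F221681)) (tt N16777 D49547) (tt N12330 (iv D47331)) (tt N12357 F211826) (tt N16778 D49548) (tt N12334 F211827) (tt N13230 F211828) (tt N16774 (iv F221959)) (tt N16754 (iv F221889)) (tt N16779 D49549))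
theorem Q14563 : ∀ i, i < 14563 → P i := stepQ 14562 Q14562 (allL N14562 (tt N16708 (iv F221685)) (tt N16132 (iv F218618)) (tt N16778 (iv F221970)) (tt N12573 F211829) (tt N12330 (iv D47332)) (tt N16780 D49550) (tt N13231 F211830) (tt N16775 (iv F221961)) (tt N16755 (iv F221891)) (tt N16781 D49551))
theorem Q14564 : ∀ i, i < 14564 → P i := stepQ 14563 Q14563 (allL N14563 (tt N16709 (iv F221688)) (tt N16133 (iv F218621)) (tt N16779 (iv F221972)) (tt N12331 F211831) (tt N16781 (iv F221979)) (tt N12336 F211832) (tt N13232 F211833) (tt N16776 (iv F221964)) (tt N16782 D49552) (tt N12330 (iv D47333)))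
theorem Q14565 : ∀ i, i < 14565 → P i := stepQ 14564 Q14564 (allL N14564 (tt N16710 (iv F221692)) (tt N13161 F211834) (tt N12332 (iv D47334)) (tt N12360 F211835) (tt N16783 D49553) (tt N16774 (iv F221958)) (tt N13164 F211836) (tt N12334 F211837) (tt N16757 (iv F221899)) (tt N16784 D49554))
theorem Q14566 : ∀ i, i < 14566 → P i := stepQ 14565 Q14565 (allL N14565 (tt N16711 (iv F221696)) (tt N13199 F211838) (tt N16783 (iv F221984)) (tt N12343 F211839) (tt N12332 (iv D47335)) (tt N16785 D49555) (tt N13201 F211840) (tt N12335 F211841) (tt N16758 (iv F221904)) (tt N16786 D49556))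
theorem Q14567 : ∀ i, i < 14567 → P i := stepQ 14566 Q14566 (allL N14566 (tt N16712 (iv F221701)) (tt N16134 (iv F218626)) (tt N16784 (iv F221989)) (tt N12333 F211842) (tt N16786 (iv F221998)) (tt N16776 (iv F221963)) (tt N16509 (iv F220698)) (tt N12336 F211843) (tt N16787 D49557) (tt N12332 (iv D47336)))
theorem Q14568 : ∀ i, i < 14568 → P i := stepQ 14567 Q14567 (allL N14567 (tt N16788 D49558) (tt N12334 (iv D47337)) (tt N13159 F211844) (tt N12362 F211845) (tt N16789 D49559) (tt N16777 (iv F221967)) (tt N12337 F211846) (tt N13161 F211847) (tt N16760 (iv F221911)) (tt N16790 D49560))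
theorem Q14569 : ∀ i, i < 14569 → P i := stepQ 14568 Q14568 (allL N14568 (tt N16714 (iv F221706)) (tt N16789 (iv F222009)) (tt N12335 F211848) (tt N14568 F211849) (tt N12334 (iv D47338)) (tt N16791 D49561) (tt N12338 F211850) (tt N16783 (iv F221987)) (tt N16761 (iv F221917)) (tt N16792 D49562))
theorem Q14570 : ∀ i, i < 14570 → P i := stepQ 14569 Q14569 (allL N14569 (tt N16715 (iv F221710)) (tt N16790 (iv F222015)) (tt N12336 F211851) (tt N12363 F211852) (tt N16792 (iv F222024)) (tt N16779 (iv F221974)) (tt N12339 F211853) (tt N16784 (iv F221992)) (tt N16793 D49563) (tt N12334 (iv D47339)))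
theorem Q14571 : ∀ i, i < 14571 → P i := stepQ 14570 Q14570 (allL N14570 (tt N16716 (iv F221714)) (tt N16136 (iv F218640)) (tt N16791 (iv F222020)) (tt N12345 F211854) (tt N16780 (iv F221977)) (tt N12335 (iv D47340)) (tt N16794 D49564) (tt N16785 (iv F221995)) (tt N16763 (iv F221923)) (tt N16795 D49565))
theorem Q14572 : ∀ i, i < 14572 → P i := stepQ 14571 Q14571 (allL N14571 (tt N16717 (iv F221716)) (tt N16137 (iv F218645)) (tt N16792 (iv F222022)) (tt N12346 F211855) (tt N12336 F211856) (tt N16795 (iv F222031)) (tt N12341 F211857) (tt N16786 (iv F222000)) (tt N16796 D49566) (tt N12335 (iv D47341)))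
theorem Q14573 : ∀ i, i < 14573 → P i := stepQ 14572 Q14572 (allL N14572 (tt N16718 (iv F221720)) (tt N16138 (iv F218651)) (tt N16793 (iv F222026)) (tt N16629 (iv F221324)) (tt N16796 (iv F222032)) (tt N16782 (iv F221981)) (tt N12342 F211858) (tt N16787 (iv F222001)) (tt N12336 (iv D47342)) (tt N16765 (iv F221928)))
theorem Q14574 : ∀ i, i < 14574 → P i := stepQ 14573 Q14573 (allL N14573 (tt N12337 (iv D47343)) (tt N16719 (iv F221722)) (tt N13153 F211859) (tt N12365 F211860) (tt N13152 (iv F211863)) (tt N13241 F211861) (tt N16788 (iv F222004)) (tt N16514 (iv F220720)) (tt N13165 F211862) (tt N16797 D49567))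
theorem Q14575 : ∀ i, i < 14575 → P i := stepQ 14574 Q14574 (allL N14574 (tt N13152 F211864) (tt N12338 F211865) (tt N13129 F211866) (tt N14574 F211867) (tt N12337 (iv D47344)) (tt N16575 (iv F221093)) (tt N16789 (iv F222012)) (tt N16515 (iv F220728)) (tt N13136 F211868) (tt N16798 D49568))
theorem Q14576 : ∀ i, i < 14576 → P i := stepQ 14575 Q14575 (allL N14575 (tt N16797 (iv F222034)) (tt N12339 F211869) (tt N16139 (iv F218655)) (tt N12366 F211870) (tt N16798 (iv F222043)) (tt N13243 F211871) (tt N16790 (iv F222018)) (tt N16516 (iv F220735)) (tt N16799 D49569) (tt N12337 (iv D47345)))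
theorem Q14577 : ∀ i, i < 14577 → P i := stepQ 14576 Q14576 (allL N14576 (tt N16075 (iv F218248)) (tt N16575 (iv F221091)) (tt N12340 F211872) (tt N14576 F211873) (tt N13244 F211874) (tt N12338 (iv D47346)) (tt N16800 D49570) (tt N16517 (iv F220739)) (tt N16587 (iv F221154)) (tt N16801 D49571))
theorem Q14578 : ∀ i, i < 14578 → P i := stepQ 14577 Q14577 (allL N14577 (tt N16722 (iv F221735)) (tt N16798 (iv F222040)) (tt N12341 F211875) (tt N14577 F211876) (tt N12339 F211877) (tt N16801 (iv F222052)) (tt N16792 (iv F222025)) (tt N16518 (iv F220743)) (tt N16802 D49572) (tt N12338 (iv D47347)))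
theorem Q14579 : ∀ i, i < 14579 → P i := stepQ 14578 Q14578 (allL N14578 (tt N16723 (iv F221739)) (tt N16799 (iv F222044)) (tt N12342 F211878) (tt N16803 D49573) (tt N16802 (iv F222054)) (tt N13246 F211879) (tt N16793 (iv F222027)) (tt N16519 (iv F220746)) (tt N12339 (iv D47348)) (tt N16768 (iv F221941)))
theorem Q14580 : ∀ i, i < 14580 → P i := stepQ 14579 Q14579 (allL N14579 (tt N16072 (iv F218236)) (tt N16143 (iv F218680)) (tt N16800 (iv F222046)) (tt N12348 F211880) (tt N13247 F211881) (tt N16794 (iv F222029)) (tt N12340 (iv D47349)) (tt N16804 D49574) (tt N16769 (iv F221944)) (tt N16805 D49575))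
theorem Q14581 : ∀ i, i < 14581 → P i := stepQ 14580 Q14580 (allL N14580 (tt N16077 (iv F218256)) (tt N16144 (iv F218683)) (tt N16801 (iv F222049)) (tt N12349 F211882) (tt N13248 F211883) (tt N12341 F211884) (tt N16805 (iv F222061)) (tt N16521 (iv F220752)) (tt N16806 D49576) (tt N12340 (iv D47350)))
theorem Q14582 : ∀ i, i < 14582 → P i := stepQ 14581 Q14581 (allL N14581 (tt N16724 (iv F221742)) (tt N16145 (iv F218687)) (tt N16802 (iv F222053)) (tt N16807 D49577) (tt N12342 F211885) (tt N16806 (iv F222063)) (tt N16796 (iv F222033)) (tt N16522 (iv F220754)) (tt N12341 (iv D47351)) (tt N16771 (iv F221949)))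
theorem Q14583 : ∀ i, i < 14583 → P i := stepQ 14582 Q14582 (allL N14582 (tt N16725 (iv F221744)) (tt N13207 F211886) (tt N14582 F211887) (tt N16785 (iv F221994)) (tt N12593 F211888) (tt N12343 (iv D47352)) (tt N16735 (iv F221797)) (tt N12345 F211889) (tt N14582 F211890) (tt N16808 D49578))
theorem Q14584 : ∀ i, i < 14584 → P i := stepQ 14583 Q14583 (allL N14583 (tt N16726 (iv F221750)) (tt N13211 F211891) (tt N14583 F211892) (tt N16786 (iv F221997)) (tt N12344 F211893) (tt N16808 (iv F222068)) (tt N13214 F211894) (tt N12346 F211895) (tt N16809 D49579) (tt N12343 (iv D47353)))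
theorem Q14585 : ∀ i, i < 14585 → P i := stepQ 14584 Q14584 (allL N14584 (tt N16727 (iv F221756)) (tt N13607 F211896) (tt N14584 F211897) (tt N16639 (iv F221351)) (tt N16809 (iv F222072)) (tt N12595 F211898) (tt N13609 F211899) (tt N12347 F211900) (tt N12344 (iv D47354)) (tt N14584 F211901))
theorem Q14586 : ∀ i, i < 14586 → P i := stepQ 14585 Q14585 (allL N14585 (tt N16081 (iv F218279)) (tt N16146 (iv F218690)) (tt N14585 F211902) (tt N16794 (iv F222028)) (tt N12596 F211903) (tt N12348 F211904) (tt N12345 (iv D47355)) (tt N16810 D49580) (tt N14585 F211905) (tt N16811 D49581))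
theorem Q14587 : ∀ i, i < 14587 → P i := stepQ 14586 Q14586 (allL N14586 (tt N16728 (iv F221763)) (tt N16147 (iv F218696)) (tt N14586 F211906) (tt N16795 (iv F222030)) (tt N12597 F211907) (tt N12346 F211908) (tt N16811 (iv F222083)) (tt N16808 (iv F222069)) (tt N16812 D49582) (tt N12345 (iv D47356)))
theorem Q14588 : ∀ i, i < 14588 → P i := stepQ 14587 Q14587 (allL N14587 (tt N16729 (iv F221767)) (tt N16148 (iv F218702)) (tt N14587 F211909) (tt N16813 D49583) (tt N12347 F211910) (tt N16812 (iv F222086)) (tt N12350 F211911) (tt N16809 (iv F222074)) (tt N12346 (iv D47357)) (tt N14587 F211912))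
theorem Q14589 : ∀ i, i < 14589 → P i := stepQ 14588 Q14588 (allL N14588 (tt N16079 (iv F218265)) (tt N16149 (iv F218709)) (tt N14588 F211913) (tt N16804 (iv F222057)) (tt N12351 F211914) (tt N16810 (iv F222078)) (tt N16524 (iv F220766)) (tt N12348 (iv D47358)) (tt N14588 F211915) (tt N16814 D49584))
theorem Q14590 : ∀ i, i < 14590 → P i := stepQ 14589 Q14589 (allL N14589 (tt N16082 (iv F218285)) (tt N16150 (iv F218714)) (tt N14589 F211916) (tt N16805 (iv F222059)) (tt N12352 F211917) (tt N16811 (iv F222082)) (tt N12349 F211918) (tt N16814 (iv F222093)) (tt N16815 D49585) (tt N12348 (iv D47359)))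
theorem Q14591 : ∀ i, i < 14591 → P i := stepQ 14590 Q14590 (allL N14590 (tt N16084 (iv F218298)) (tt N16151 (iv F218718)) (tt N14590 F211919) (tt N16816 D49586) (tt N12353 F211920) (tt N12350 F211921) (tt N16815 (iv F222097)) (tt N16526 (iv F220778)) (tt N12349 (iv D47360)) (tt N14590 F211922))
theorem Q14592 : ∀ i, i < 14592 → P i := stepQ 14591 Q14591 (allL N14591 (tt N16730 (iv F221772)) (tt N16152 (iv F218723)) (tt N16817 D49587) (tt N12350 (iv D47361)) (tt N16645 (iv F221378)) (tt N16816 (iv F222100)) (tt N16813 (iv F222088)) (tt N16527 (iv F220780)) (tt N16807 (iv F222064)) (tt N14591 F211923))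
theorem Q14593 : ∀ i, i < 14593 → P i := stepQ 14592 Q14592 (allL N14592 (tt N16080 (iv F218271)) (tt N16153 (iv F218725)) (tt N14592 F211924) (tt N13254 F211925) (tt N16814 (iv F222091)) (tt N12603 F211926) (tt N13632 F211927) (tt N12352 F211928) (tt N13650 (iv F211929)) (tt N12351 (iv D47362)))
theorem Q14594 : ∀ i, i < 14594 → P i := stepQ 14593 Q14593 (allL N14593 (tt N16083 (iv F218290)) (tt N16154 (iv F218731)) (tt N14593 F211930) (tt N13647 F211931) (tt N16815 (iv F222096)) (tt N12604 F211932) (tt N12353 F211933) (tt N13650 F211934) (tt N12352 (iv D47363)) (tt N14593 F211935))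
theorem Q14595 : ∀ i, i < 14595 → P i := stepQ 14594 Q14594 (allL N14594 (tt N16731 (iv F221774)) (tt N12368 F211936) (tt N16773 (iv F221952)) (tt N16665 (iv F221485)) (tt N12606 F211937) (tt N16094 (iv F218368)) (tt N12356 F211938) (tt N13256 F211939) (tt N16647 (iv F221393)) (tt N12354 (iv D47364)))
theorem Q14596 : ∀ i, i < 14596 → P i := stepQ 14595 Q14595 (allL N14595 (tt N16732 (iv F221779)) (tt N13173 F211940) (tt N12355 (iv D47365)) (tt N16774 (iv F221957)) (tt N16818 D49588) (tt N12360 F211941) (tt N16650 (iv F221409)) (tt N12357 F211942) (tt N14595 F211943) (tt N16819 D49589))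
theorem Q14597 : ∀ i, i < 14597 → P i := stepQ 14596 Q14596 (allL N14596 (tt N16733 (iv F221783)) (tt N12369 F211944) (tt N16818 (iv F222105)) (tt N12608 F211945) (tt N12355 (iv D47366)) (tt N14596 F211946) (tt N16664 (iv F221481)) (tt N12358 F211947) (tt N14596 F211948) (tt N16820 D49590))
theorem Q14598 : ∀ i, i < 14598 → P i := stepQ 14597 Q14597 (allL N14597 (tt N16734 (iv F221789)) (tt N12370 F211949) (tt N16819 (iv F222110)) (tt N12356 F211950) (tt N16820 (iv F222115)) (tt N12361 F211951) (tt N16665 (iv F221487)) (tt N12359 F211952) (tt N16821 D49591) (tt N12355 (iv D47367)))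
theorem Q14599 : ∀ i, i < 14599 → P i := stepQ 14598 Q14598 (allL N14598 (tt N16822 D49592) (tt N12357 (iv D47368)) (tt N12371 F211953) (tt N16777 (iv F221966)) (tt N16823 D49593) (tt N12362 F211954) (tt N13260 F211955) (tt N13173 F211956) (tt N14598 F211957) (tt N16824 D49594))
theorem Q14600 : ∀ i, i < 14600 → P i := stepQ 14599 Q14599 (allL N14599 (tt N16347 (iv F219798)) (tt N16823 (iv F222127)) (tt N12358 F211958) (tt N16825 D49595) (tt N12357 (iv D47369)) (tt N14599 F211959) (tt N13261 F211960) (tt N16818 (iv F222107)) (tt N14599 F211961) (tt N16826 D49596))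
theorem Q14601 : ∀ i, i < 14601 → P i := stepQ 14600 Q14600 (allL N14600 (tt N16736 (iv F221799)) (tt N16824 (iv F222133)) (tt N12359 F211962) (tt N16779 (iv F221973)) (tt N16826 (iv F222142)) (tt N12363 F211963) (tt N13262 F211964) (tt N16819 (iv F222112)) (tt N16827 D49597) (tt N12357 (iv D47370)))
theorem Q14602 : ∀ i, i < 14602 → P i := stepQ 14601 Q14601 (allL N14601 (tt N16737 (iv F221803)) (tt N12374 F211965) (tt N16826 (iv F222141)) (tt N12613 F211966) (tt N12359 F211967) (tt N14601 F211968) (tt N13263 F211969) (tt N16820 (iv F222117)) (tt N16828 D49598) (tt N12358 (iv D47371)))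
theorem Q14603 : ∀ i, i < 14603 → P i := stepQ 14602 Q14602 (allL N14602 (tt N16738 (iv F221809)) (tt N12375 F211970) (tt N16827 (iv F222145)) (tt N16654 (iv F221428)) (tt N16828 (iv F222150)) (tt N12364 F211971) (tt N13264 F211972) (tt N16821 (iv F222120)) (tt N12359 (iv D47372)) (tt N14602 F211973))
theorem Q14604 : ∀ i, i < 14604 → P i := stepQ 14603 Q14603 (allL N14603 (tt N16740 (iv F221820)) (tt N13176 F211974) (tt N12361 F211975) (tt N16784 (iv F221990)) (tt N14603 F211976) (tt N16819 (iv F222111)) (tt N13179 F211977) (tt N12363 F211978) (tt N16829 D49599) (tt N12360 (iv D47373)))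
theorem Q14605 : ∀ i, i < 14605 → P i := stepQ 14604 Q14604 (allL N14604 (tt N16741 (iv F221825)) (tt N12376 F211979) (tt N16829 (iv F222155)) (tt N16655 (iv F221433)) (tt N14604 F211980) (tt N16821 (iv F222119)) (tt N13184 F211981) (tt N12364 F211982) (tt N12361 (iv D47374)) (tt N14604 F211983))
theorem Q14606 : ∀ i, i < 14606 → P i := stepQ 14605 Q14605 (allL N14605 (tt N12362 (iv D47375)) (tt N16742 (iv F221831)) (tt N12377 F211984) (tt N16788 (iv F222003)) (tt N14605 F211985) (tt N16822 (iv F222123)) (tt N12365 F211986) (tt N13144 F211987) (tt N14605 F211988) (tt N16830 D49600))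
theorem Q14607 : ∀ i, i < 14607 → P i := stepQ 14606 Q14606 (allL N14606 (tt N16830 (iv F222160)) (tt N12363 F211989) (tt N12378 F211990) (tt N16790 (iv F222017)) (tt N14606 F211991) (tt N16824 (iv F222135)) (tt N12366 F211992) (tt N13176 F211993) (tt N16831 D49601) (tt N12362 (iv D47376)))
theorem Q14608 : ∀ i, i < 14608 → P i := stepQ 14607 Q14607 (allL N14607 (tt N16744 (iv F221841)) (tt N16831 (iv F222165)) (tt N12364 F211994) (tt N16832 D49602) (tt N14607 F211995) (tt N16827 (iv F222146)) (tt N12367 F211996) (tt N16829 (iv F222158)) (tt N12363 (iv D47377)) (tt N14607 F211997))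
theorem Q14609 : ∀ i, i < 14609 → P i := stepQ 14608 Q14608 (allL N14608 (tt N12366 F211998) (tt N16745 (iv F221847)) (tt N12380 F211999) (tt N16797 (iv F222036)) (tt N14608 F212000) (tt N13271 F212001) (tt N16830 (iv F222163)) (tt N16529 (iv F220793)) (tt N16833 D49603) (tt N12365 (iv D47378)))
theorem Q14610 : ∀ i, i < 14610 → P i := stepQ 14609 Q14609 (allL N14609 (tt N16833 (iv F222173)) (tt N12367 F212002) (tt N12381 F212003) (tt N16834 D49604) (tt N14609 F212004) (tt N13272 F212005) (tt N16831 (iv F222168)) (tt N16530 (iv F220799)) (tt N12366 (iv D47379)) (tt N14609 F212006))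
theorem Q14611 : ∀ i, i < 14611 → P i := stepQ 14610 Q14610 (allL N14610 (tt N16747 (iv F221856)) (tt N16834 (iv F222178)) (tt N16660 (iv F221455)) (tt N12367 (iv D47380)) (tt N16835 D49605) (tt N13273 F212007) (tt N16832 (iv F222171)) (tt N16531 (iv F220802)) (tt N16803 (iv F222056)) (tt N14610 F212008))
theorem Q14612 : ∀ i, i < 14612 → P i := stepQ 14611 Q14611 (allL N14611 (tt N14611 F212009) (tt N16820 (iv F222113)) (tt N13181 F212010) (tt N12630 F212011) (tt N12370 F212012) (tt N14611 F212013) (tt N16666 (iv F221494)) (tt N12374 F212014) (tt N16836 D49606) (tt N12369 (iv D47381)))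
theorem Q14613 : ∀ i, i < 14613 → P i := stepQ 14612 Q14612 (allL N14612 (tt N14612 F212015) (tt N16821 (iv F222118)) (tt N13182 F212016) (tt N16662 (iv F221467)) (tt N16836 (iv F222185)) (tt N12376 F212017) (tt N16667 (iv F221500)) (tt N12375 F212018) (tt N12370 (iv D47382)) (tt N14612 F212019))
theorem Q14614 : ∀ i, i < 14614 → P i := stepQ 14613 Q14613 (allL N14613 (tt N12371 (iv D47383)) (tt N14613 F212020) (tt N16822 (iv F222122)) (tt N13140 F212021) (tt N16837 D49607) (tt N12377 F212022) (tt N13280 F212023) (tt N13141 F212024) (tt N14613 F212025) (tt N16838 D49608))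
theorem Q14615 : ∀ i, i < 14615 → P i := stepQ 14614 Q14614 (allL N14614 (tt N16837 (iv F222189)) (tt N12372 F212026) (tt N16823 (iv F222128)) (tt N13343 F212027) (tt N12371 (iv D47384)) (tt N14614 F212028) (tt N13281 F212029) (tt N13174 F212030) (tt N14614 F212031) (tt N16839 D49609))
theorem Q14616 : ∀ i, i < 14616 → P i := stepQ 14615 Q14615 (allL N14615 (tt N16838 (iv F222196)) (tt N12373 F212032) (tt N16824 (iv F222134)) (tt N13172 F212033) (tt N16839 (iv F222204)) (tt N12378 F212034) (tt N13282 F212035) (tt N13175 F212036) (tt N16840 D49610) (tt N12371 (iv D47385)))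
theorem Q14617 : ∀ i, i < 14617 → P i := stepQ 14616 Q14616 (allL N14616 (tt N14616 F212037) (tt N16839 (iv F222202)) (tt N12374 F212038) (tt N13357 F212039) (tt N12373 F212040) (tt N14616 F212041) (tt N13284 F212042) (tt N13181 F212043) (tt N16841 D49611) (tt N12372 (iv D47386)))
theorem Q14618 : ∀ i, i < 14618 → P i := stepQ 14617 Q14617 (allL N14617 (tt N14617 F212044) (tt N16840 (iv F222208)) (tt N12375 F212045) (tt N13279 F212046) (tt N16841 (iv F222217)) (tt N12379 F212047) (tt N13285 F212048) (tt N13182 F212049) (tt N12373 (iv D47387)) (tt N14617 F212050))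
theorem Q14619 : ∀ i, i < 14619 → P i := stepQ 14618 Q14618 (allL N14618 (tt N14618 F212051) (tt N16828 (iv F222149)) (tt N16841 (iv F222215)) (tt N16842 D49612) (tt N12375 F212052) (tt N14618 F212053) (tt N13286 F212054) (tt N16836 (iv F222187)) (tt N12374 (iv D47388)) (tt N14618 F212055))
theorem Q14620 : ∀ i, i < 14620 → P i := stepQ 14619 Q14619 (allL N14619 (tt N12378 F212056) (tt N14619 F212057) (tt N16830 (iv F222161)) (tt N13143 F212058) (tt N14619 F212059) (tt N16838 (iv F222199)) (tt N12380 F212060) (tt N13145 F212061) (tt N16843 D49613) (tt N12377 (iv D47389)))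
theorem Q14621 : ∀ i, i < 14621 → P i := stepQ 14620 Q14620 (allL N14620 (tt N16843 (iv F222228)) (tt N12379 F212062) (tt N16831 (iv F222166)) (tt N13267 F212063) (tt N14620 F212064) (tt N16840 (iv F222210)) (tt N12381 F212065) (tt N13177 F212066) (tt N12378 (iv D47390)) (tt N14620 F212067))
theorem Q14622 : ∀ i, i < 14622 → P i := stepQ 14621 Q14621 (allL N14621 (tt N12381 F212068) (tt N14621 F212069) (tt N16833 (iv F222174)) (tt N15985 (iv F217628)) (tt N14621 F212070) (tt N13293 F212071) (tt N16843 (iv F222232)) (tt N16532 (iv F220810)) (tt N12380 (iv D47391)) (tt N14621 F212072))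
theorem Q14623 : ∀ i, i < 14623 → P i := stepQ 14622 Q14622 (allL N14622 (tt N15985 (iv F217625)) (tt N12382 F212073) (tt N16115 (iv F218512)) (tt N12381 (iv D47392)) (tt N13582 (iv F212079)) (tt N13294 F212074) (tt N13267 F212075) (tt N13112 F212076) (tt N13109 F212077) (tt N14622 F212078))
theorem Q14624 : ∀ i, i < 14624 → P i := stepQ 14623 Q14623 (allL N14623 (tt N14623 F212080) (tt N12389 F212081) (tt N12647 F212082) (tt N12384 F212083) (tt N12498 F212084) (tt N12385 F212085) (tt N16550 (iv F220940)) (tt N14623 F212086) (tt N16222 (iv F219145)) (tt N12383 (iv D47393)))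
theorem Q14625 : ∀ i, i < 14625 → P i := stepQ 14624 Q14624 (allL N14624 (tt N14624 F212087) (tt N12390 F212088) (tt N15991 (iv F217671)) (tt N14624 F212089) (tt N15990 (iv F217664)) (tt N16222 (iv F219143)) (tt N16533 (iv F220818)) (tt N14624 F212090) (tt N12385 (iv D47394)) (tt N14624 F212091))
theorem Q14626 : ∀ i, i < 14626 → P i := stepQ 14625 Q14625 (allL N14625 (tt N12397 F212092) (tt N12660 F212093) (tt N12429 F212094) (tt N12659 F212095) (tt N12386 (iv D47395)) (tt N16648 (iv F221398)) (tt N12388 F212096) (tt N13784 F212097) (tt N14625 F212098) (tt N16844 D49614))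
theorem Q14627 : ∀ i, i < 14627 → P i := stepQ 14626 Q14626 (allL N14626 (tt N12398 F212099) (tt N16550 (iv F220935)) (tt N12430 F212100) (tt N12387 F212101) (tt N16844 (iv F222239)) (tt N16534 (iv F220826)) (tt N12389 F212102) (tt N16545 (iv F220907)) (tt N16845 D49615) (tt N12386 (iv D47396)))
theorem Q14628 : ∀ i, i < 14628 → P i := stepQ 14627 Q14627 (allL N14627 (tt N12400 F212103) (tt N12498 F212104) (tt N12431 F212105) (tt N12497 F212106) (tt N12389 F212107) (tt N13372 F212108) (tt N16844 (iv F222240)) (tt N14627 F212109) (tt N16221 (iv F219135)) (tt N12388 (iv D47397)))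
theorem Q14629 : ∀ i, i < 14629 → P i := stepQ 14628 Q14628 (allL N14628 (tt N12401 F212110) (tt N16222 (iv F219140)) (tt N12432 F212111) (tt N14628 F212112) (tt N16221 F219138) (tt N12390 F212113) (tt N16845 (iv F222245)) (tt N14628 F212114) (tt N12389 (iv D47398)) (tt N14628 F212115))
theorem Q14630 : ∀ i, i < 14630 → P i := stepQ 14629 Q14629 (allL N14629 (tt N12497 F212116) (tt N14629 F212117) (tt N12913 F212118) (tt N12400 F212119) (tt N12394 F212120) (tt N13371 F212121) (tt N13786 F212122) (tt N14629 F212123) (tt N12496 F212124) (tt N12393 (iv D47399)))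
theorem Q14631 : ∀ i, i < 14631 → P i := stepQ 14630 Q14630 (allL N14630 (tt N16545 (iv F220900)) (tt N14630 F212125) (tt N12461 F212126) (tt N12396 F212127) (tt N13787 F212128) (tt N16536 (iv F220841)) (tt N14630 F212129) (tt N12398 F212130) (tt N16846 D49616) (tt N12395 (iv D47400)))
theorem Q14632 : ∀ i, i < 14632 → P i := stepQ 14631 Q14631 (allL N14631 (tt N16648 (iv F221394)) (tt N14631 F212131) (tt N12462 F212132) (tt N13514 F212133) (tt N16538 (iv F220855)) (tt N12397 (iv D47401)) (tt N16847 D49617) (tt N13515 F212134) (tt N14631 F212135) (tt N16848 D49618))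
theorem Q14633 : ∀ i, i < 14633 → P i := stepQ 14632 Q14632 (allL N14632 (tt N16844 (iv F222235)) (tt N14632 F212136) (tt N12463 F212137) (tt N13786 F212138) (tt N12398 F212139) (tt N16848 (iv F222265)) (tt N12400 F212140) (tt N13787 F212141) (tt N16849 D49619) (tt N12397 (iv D47402)))
theorem Q14634 : ∀ i, i < 14634 → P i := stepQ 14633 Q14633 (allL N14633 (tt N16845 (iv F222242)) (tt N14633 F212142) (tt N12464 F212143) (tt N14633 F212144) (tt N16849 (iv F222270)) (tt N16540 (iv F220869)) (tt N12401 F212145) (tt N16846 (iv F222252)) (tt N12398 (iv D47403)) (tt N14633 F212146))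
theorem Q14635 : ∀ i, i < 14635 → P i := stepQ 14634 Q14634 (allL N14634 (tt N13528 F212147) (tt N14634 F212148) (tt N12465 F212149) (tt N13527 F212150) (tt N12402 F212151) (tt N16847 (iv F222259)) (tt N12399 (iv D47404)) (tt N13656 (iv F212153)) (tt N14634 F212152) (tt N16850 D49620))
theorem Q14636 : ∀ i, i < 14636 → P i := stepQ 14635 Q14635 (allL N14635 (tt N13372 F212154) (tt N14635 F212155) (tt N12466 F212156) (tt N13371 F212157) (tt N12403 F212158) (tt N12400 F212159) (tt N16850 (iv F222279)) (tt N14635 F212160) (tt N16851 D49621) (tt N12399 (iv D47405)))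
theorem Q14637 : ∀ i, i < 14637 → P i := stepQ 14636 Q14636 (allL N14636 (tt N16221 (iv F219131)) (tt N14636 F212161) (tt N12467 F212162) (tt N16220 (iv F219125)) (tt N12401 F212163) (tt N16851 (iv F222286)) (tt N16849 (iv F222271)) (tt N14636 F212164) (tt N12400 (iv D47406)) (tt N14636 F212165))
theorem Q14638 : ∀ i, i < 14638 → P i := stepQ 14637 Q14637 (allL N14637 (tt N13654 F212166) (tt N14637 F212167) (tt N12469 F212168) (tt N14637 F212169) (tt N16850 (iv F222278)) (tt N13662 F212170) (tt N12403 F212171) (tt N13657 F212172) (tt N16852 D49622) (tt N12402 (iv D47407)))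
theorem Q14639 : ∀ i, i < 14639 → P i := stepQ 14638 Q14638 (allL N14638 (tt N16244 (iv F219279)) (tt N14638 F212173) (tt N12470 F212174) (tt N16853 D49623) (tt N16851 (iv F222285)) (tt N12404 F212175) (tt N16852 (iv F222293)) (tt N14638 F212176) (tt N12403 (iv D47408)) (tt N14638 F212177))
theorem Q14640 : ∀ i, i < 14640 → P i := stepQ 14639 Q14639 (allL N14639 (tt N16005 (iv F217764)) (tt N14639 F212178) (tt N15995 (iv F217701)) (tt N12404 (iv D47409)) (tt N14639 F212179) (tt N16853 (iv F222297)) (tt N16544 (iv F220897)) (tt N14639 F212180) (tt N14639 F212181) (tt N14639 F212182))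
theorem Q14641 : ∀ i, i < 14641 → P i := stepQ 14640 Q14640 (allL N14640 (tt N14640 F212183) (tt N13785 F212184) (tt N12493 F212185) (tt N16552 (iv F220952)) (tt N12409 F212186) (tt N12490 F212187) (tt N14640 F212188) (tt N12495 F212189) (tt N12492 F212190) (tt N12408 (iv D47410)))
theorem Q14642 : ∀ i, i < 14642 → P i := stepQ 14641 Q14641 (allL N14641 (tt N13765 F212191) (tt N12420 F212192) (tt N14641 F212193) (tt N13521 F212194) (tt N16563 (iv F221028)) (tt N12414 F212195) (tt N16689 (iv F221609)) (tt N12413 (iv D47411)) (tt N16854 D49624) (tt N12504 F212196))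
theorem Q14643 : ∀ i, i < 14643 → P i := stepQ 14642 Q14642 (allL N14642 (tt N13001 F212197) (tt N12421 F212198) (tt N14642 F212199) (tt N16855 D49625) (tt N16564 (iv F221035)) (tt N12415 F212200) (tt N12943 F212201) (tt N16854 (iv F222305)) (tt N12413 (iv D47412)) (tt N16856 D49626))
theorem Q14644 : ∀ i, i < 14644 → P i := stepQ 14643 Q14643 (allL N14643 (tt N13003 F212202) (tt N12422 F212203) (tt N14643 F212204) (tt N16857 D49627) (tt N12418 F212205) (tt N16854 (iv F222304)) (tt N14643 F212206) (tt N12415 F212207) (tt N12414 (iv D47413)) (tt N16858 D49628))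
theorem Q14645 : ∀ i, i < 14645 → P i := stepQ 14644 Q14644 (allL N14644 (tt N12996 F212208) (tt N12423 F212209) (tt N16859 D49629) (tt N12415 (iv D47414)) (tt N16270 (iv F219425)) (tt N16855 (iv F222308)) (tt N12416 F212210) (tt N16857 (iv F222320)) (tt N13326 F212211) (tt N16860 D49630))
theorem Q14646 : ∀ i, i < 14646 → P i := stepQ 14645 Q14645 (allL N14645 (tt N13004 F212212) (tt N12424 F212213) (tt N14645 F212214) (tt N16860 (iv F222337)) (tt N12419 F212215) (tt N16856 (iv F222314)) (tt N12417 F212216) (tt N16858 (iv F222327)) (tt N12508 F212217) (tt N12415 (iv D47415)))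
theorem Q14647 : ∀ i, i < 14647 → P i := stepQ 14646 Q14646 (allL N14646 (tt N12993 F212218) (tt N12718 F212219) (tt N12416 (iv D47416)) (tt N14646 F212220) (tt N12717 F212221) (tt N12937 F212222) (tt N16859 (iv F222333)) (tt N14646 F212223) (tt N12885 F212224) (tt N16861 D49631))
theorem Q14648 : ∀ i, i < 14648 → P i := stepQ 14647 Q14647 (allL N14647 (tt N12997 F212225) (tt N12426 F212226) (tt N16861 (iv F222341)) (tt N12417 F212227) (tt N16271 (iv F219431)) (tt N12939 F212228) (tt N16860 (iv F222338)) (tt N14647 F212229) (tt N16862 D49632) (tt N12416 (iv D47417)))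
theorem Q14649 : ∀ i, i < 14649 → P i := stepQ 14648 Q14648 (allL N14648 (tt N13005 F212230) (tt N12428 F212231) (tt N14648 F212232) (tt N16280 (iv F219480)) (tt N16858 (iv F222325)) (tt N16569 (iv F221059)) (tt N14648 F212233) (tt N12419 F212234) (tt N12511 F212235) (tt N12418 (iv D47418)))
theorem Q14650 : ∀ i, i < 14650 → P i := stepQ 14649 Q14649 (allL N14649 (tt N12445 F212236) (tt N16689 (iv F221604)) (tt N12433 F212237) (tt N13519 F212238) (tt N16578 (iv F221109)) (tt N14649 F212239) (tt N12420 (iv D47419)) (tt N13296 F212240) (tt N16863 D49633) (tt N12520 F212241))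
theorem Q14651 : ∀ i, i < 14651 → P i := stepQ 14650 Q14650 (allL N14650 (tt N12446 F212242) (tt N16854 (iv F222302)) (tt N12434 F212243) (tt N16864 D49634) (tt N16579 (iv F221115)) (tt N12422 F212244) (tt N16863 (iv F222355)) (tt N12421 F212245) (tt N12420 (iv D47420)) (tt N16865 D49635))
theorem Q14652 : ∀ i, i < 14652 → P i := stepQ 14651 Q14651 (allL N14651 (tt N12447 F212246) (tt N16855 (iv F222307)) (tt N13309 F212247) (tt N12421 (iv D47421)) (tt N16866 D49636) (tt N12423 F212248) (tt N13298 F212249) (tt N16864 (iv F222360)) (tt N13320 F212250) (tt N16867 D49637))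
theorem Q14653 : ∀ i, i < 14653 → P i := stepQ 14652 Q14652 (allL N14652 (tt N12448 F212251) (tt N16856 (iv F222312)) (tt N12435 F212252) (tt N16867 (iv F222373)) (tt N16581 (iv F221123)) (tt N12424 F212253) (tt N13299 F212254) (tt N16865 (iv F222365)) (tt N12523 F212255) (tt N12421 (iv D47422)))
theorem Q14654 : ∀ i, i < 14654 → P i := stepQ 14653 Q14653 (allL N14653 (tt N12449 F212256) (tt N16857 (iv F222318)) (tt N13311 F212257) (tt N12422 (iv D47423)) (tt N16868 D49638) (tt N16864 (iv F222359)) (tt N14653 F212258) (tt N12423 F212259) (tt N13323 F212260) (tt N16869 D49639))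
theorem Q14655 : ∀ i, i < 14655 → P i := stepQ 14654 Q14654 (allL N14654 (tt N12450 F212261) (tt N16858 (iv F222323)) (tt N12436 F212262) (tt N16869 (iv F222384)) (tt N12428 F212263) (tt N16865 (iv F222364)) (tt N14654 F212264) (tt N12424 F212265) (tt N12525 F212266) (tt N12422 (iv D47424)))
theorem Q14656 : ∀ i, i < 14656 → P i := stepQ 14655 Q14655 (allL N14655 (tt N12452 F212267) (tt N16270 (iv F219422)) (tt N13313 F212268) (tt N12429 F212269) (tt N12423 (iv D47425)) (tt N16870 D49640) (tt N12425 F212270) (tt N16868 (iv F222380)) (tt N13327 F212271) (tt N16871 D49641))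
theorem Q14657 : ∀ i, i < 14657 → P i := stepQ 14656 Q14656 (allL N14656 (tt N12453 F212272) (tt N16860 (iv F222336)) (tt N13314 F212273) (tt N12424 F212274) (tt N16871 (iv F222394)) (tt N16867 (iv F222374)) (tt N12426 F212275) (tt N16869 (iv F222386)) (tt N16872 D49642) (tt N12423 (iv D47426)))
theorem Q14658 : ∀ i, i < 14658 → P i := stepQ 14657 Q14657 (allL N14657 (tt N12458 F212276) (tt N16271 (iv F219428)) (tt N13315 F212277) (tt N12431 F212278) (tt N12426 F212279) (tt N16239 (iv F219251)) (tt N16871 (iv F222395)) (tt N14657 F212280) (tt N16873 D49643) (tt N12425 (iv D47427)))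
theorem Q14659 : ∀ i, i < 14659 → P i := stepQ 14658 Q14658 (allL N14658 (tt N12459 F212281) (tt N16862 (iv F222347)) (tt N13316 F212282) (tt N12533 F212283) (tt N16873 (iv F222403)) (tt N13303 F212284) (tt N16872 (iv F222399)) (tt N14658 F212285) (tt N12426 (iv D47428)) (tt N13335 F212286))
theorem Q14660 : ∀ i, i < 14660 → P i := stepQ 14659 Q14659 (allL N14659 (tt N12460 F212287) (tt N16276 (iv F219456)) (tt N13784 F212288) (tt N16868 (iv F222378)) (tt N12427 (iv D47429)) (tt N16651 (iv F221414)) (tt N14659 F212289) (tt N12429 F212290) (tt N14659 F212291) (tt N16874 D49644))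
theorem Q14661 : ∀ i, i < 14661 → P i := stepQ 14660 Q14660 (allL N14660 (tt N12461 F212292) (tt N16280 (iv F219479)) (tt N16545 (iv F220902)) (tt N12428 F212293) (tt N16874 (iv F222408)) (tt N16546 (iv F220912)) (tt N14660 F212294) (tt N12430 F212295) (tt N16875 D49645) (tt N12427 (iv D47430)))
theorem Q14662 : ∀ i, i < 14662 → P i := stepQ 14661 Q14661 (allL N14661 (tt N12462 F212296) (tt N16273 (iv F219439)) (tt N16648 (iv F221396)) (tt N16870 (iv F222389)) (tt N16591 (iv F221168)) (tt N12429 (iv D47431)) (tt N16241 (iv F219262)) (tt N16651 (iv F221416)) (tt N14661 F212297) (tt N16876 D49646))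
theorem Q14663 : ∀ i, i < 14663 → P i := stepQ 14662 Q14662 (allL N14662 (tt N12463 F212298) (tt N16277 (iv F219462)) (tt N16844 (iv F222237)) (tt N16871 (iv F222393)) (tt N12430 F212299) (tt N16876 (iv F222417)) (tt N12431 F212300) (tt N16874 (iv F222410)) (tt N16877 D49647) (tt N12429 (iv D47432)))
theorem Q14664 : ∀ i, i < 14664 → P i := stepQ 14663 Q14663 (allL N14663 (tt N12464 F212301) (tt N16281 (iv F219484)) (tt N16845 (iv F222243)) (tt N12538 F212302) (tt N16877 (iv F222419)) (tt N16593 (iv F221179)) (tt N12432 F212303) (tt N16875 (iv F222414)) (tt N12430 (iv D47433)) (tt N14663 F212304))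
theorem Q14665 : ∀ i, i < 14665 → P i := stepQ 14664 Q14664 (allL N14664 (tt N12467 F212305) (tt N16278 (iv F219467)) (tt N16221 F219137) (tt N16878 D49648) (tt N12432 F212306) (tt N16245 (iv F219291)) (tt N16877 (iv F222420)) (tt N14664 F212307) (tt N12431 (iv D47434)) (tt N14664 F212308))
theorem Q14666 : ∀ i, i < 14666 → P i := stepQ 14665 Q14665 (allL N14665 (tt N12471 F212309) (tt N14665 F212310) (tt N16863 (iv F222353)) (tt N13517 F212311) (tt N16595 (iv F221189)) (tt N14665 F212312) (tt N12434 F212313) (tt N13304 F212314) (tt N12433 (iv D47435)) (tt N16879 D49649))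
theorem Q14667 : ∀ i, i < 14667 → P i := stepQ 14666 Q14666 (allL N14666 (tt N12473 F212315) (tt N14666 F212316) (tt N16865 (iv F222363)) (tt N13518 F212317) (tt N16596 (iv F221196)) (tt N12436 F212318) (tt N16879 (iv F222430)) (tt N12435 F212319) (tt N12542 F212320) (tt N12434 (iv D47436)))
theorem Q14668 : ∀ i, i < 14668 → P i := stepQ 14667 Q14667 (allL N14667 (tt N13522 F212321) (tt N16156 (iv F218746)) (tt N12648 F212322) (tt N16229 (iv F219189)) (tt N12438 F212323) (tt N14667 F212324) (tt N16223 (iv F219153)) (tt N12437 (iv D47437)) (tt N16880 D49650) (tt N12552 F212325))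
theorem Q14669 : ∀ i, i < 14669 → P i := stepQ 14668 Q14668 (allL N14668 (tt N13346 F212326) (tt N16157 (iv F218754)) (tt N12649 F212327) (tt N16881 D49651) (tt N12439 F212328) (tt N14668 F212329) (tt N13306 F212330) (tt N16880 (iv F222437)) (tt N12437 (iv D47438)) (tt N16882 D49652))
theorem Q14670 : ∀ i, i < 14670 → P i := stepQ 14669 Q14669 (allL N14669 (tt N13519 F212331) (tt N16158 (iv F218760)) (tt N12650 F212332) (tt N12445 F212333) (tt N16223 (iv F219151)) (tt N14669 F212334) (tt N12438 (iv D47439)) (tt N13307 F212335) (tt N16883 D49653) (tt N12554 F212336))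
theorem Q14671 : ∀ i, i < 14671 → P i := stepQ 14670 Q14670 (allL N14670 (tt N13342 F212337) (tt N16159 (iv F218768)) (tt N12651 F212338) (tt N16884 D49654) (tt N16880 (iv F222435)) (tt N12440 F212339) (tt N16883 (iv F222450)) (tt N12439 F212340) (tt N12438 (iv D47440)) (tt N16885 D49655))
theorem Q14672 : ∀ i, i < 14672 → P i := stepQ 14671 Q14671 (allL N14671 (tt N13320 F212341) (tt N16160 (iv F218773)) (tt N13298 F212342) (tt N12439 (iv D47441)) (tt N16886 D49656) (tt N12441 F212343) (tt N13309 F212344) (tt N16884 (iv F222455)) (tt N12447 F212345) (tt N16887 D49657))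
theorem Q14673 : ∀ i, i < 14673 → P i := stepQ 14672 Q14672 (allL N14672 (tt N13347 F212346) (tt N16161 (iv F218778)) (tt N12652 F212347) (tt N16887 (iv F222468)) (tt N16882 (iv F222443)) (tt N12442 F212348) (tt N13310 F212349) (tt N16885 (iv F222460)) (tt N12557 F212350) (tt N12439 (iv D47442)))
theorem Q14674 : ∀ i, i < 14674 → P i := stepQ 14673 Q14673 (allL N14673 (tt N13323 F212351) (tt N16162 (iv F218784)) (tt N13300 F212352) (tt N12440 (iv D47443)) (tt N16888 D49658) (tt N16884 (iv F222454)) (tt N14673 F212353) (tt N12441 F212354) (tt N12449 F212355) (tt N16889 D49659))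
theorem Q14675 : ∀ i, i < 14675 → P i := stepQ 14674 Q14674 (allL N14674 (tt N13350 F212356) (tt N16163 (iv F218789)) (tt N12653 F212357) (tt N16889 (iv F222479)) (tt N14674 F212358) (tt N16885 (iv F222459)) (tt N14674 F212359) (tt N12442 F212360) (tt N12559 F212361) (tt N12440 (iv D47444)))
theorem Q14676 : ∀ i, i < 14676 → P i := stepQ 14675 Q14675 (allL N14675 (tt N13327 F212362) (tt N16165 (iv F218802)) (tt N12917 F212363) (tt N14675 F212364) (tt N12441 (iv D47445)) (tt N16890 D49660) (tt N12443 F212365) (tt N16888 (iv F222475)) (tt N12452 F212366) (tt N16891 D49661))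
theorem Q14677 : ∀ i, i < 14677 → P i := stepQ 14676 Q14676 (allL N14676 (tt N13328 F212367) (tt N16166 (iv F218808)) (tt N13302 F212368) (tt N12442 F212369) (tt N16891 (iv F222489)) (tt N16887 (iv F222469)) (tt N12444 F212370) (tt N16889 (iv F222481)) (tt N16892 D49662) (tt N12441 (iv D47446)))
theorem Q14678 : ∀ i, i < 14678 → P i := stepQ 14677 Q14677 (allL N14677 (tt N13334 F212371) (tt N16168 (iv F218819)) (tt N12919 F212372) (tt N14677 F212373) (tt N12444 F212374) (tt N16238 (iv F219244)) (tt N16891 (iv F222490)) (tt N14677 F212375) (tt N16893 D49663) (tt N12443 (iv D47447)))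
theorem Q14679 : ∀ i, i < 14679 → P i := stepQ 14678 Q14678 (allL N14678 (tt N13335 F212376) (tt N16169 (iv F218826)) (tt N13303 F212377) (tt N12568 F212378) (tt N16893 (iv F222498)) (tt N13316 F212379) (tt N16892 (iv F222494)) (tt N14678 F212380) (tt N12444 (iv D47448)) (tt N12459 F212381))
theorem Q14680 : ∀ i, i < 14680 → P i := stepQ 14679 Q14679 (allL N14679 (tt N16863 (iv F222352)) (tt N16170 (iv F218832)) (tt N12471 F212382) (tt N16894 D49664) (tt N16618 (iv F221294)) (tt N14679 F212383) (tt N12446 F212384) (tt N13317 F212385) (tt N12445 (iv D47449)) (tt N16895 D49665))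
theorem Q14681 : ∀ i, i < 14681 → P i := stepQ 14680 Q14680 (allL N14680 (tt N16864 (iv F222357)) (tt N16171 (iv F218839)) (tt N16896 D49666) (tt N12446 (iv D47450)) (tt N16897 D49667) (tt N12449 F212386) (tt N16894 (iv F222502)) (tt N12447 F212387) (tt N16884 (iv F222456)) (tt N16898 D49668))
theorem Q14682 : ∀ i, i < 14682 → P i := stepQ 14681 Q14681 (allL N14681 (tt N16865 (iv F222362)) (tt N16172 (iv F218843)) (tt N12473 F212388) (tt N16898 (iv F222516)) (tt N16620 (iv F221301)) (tt N12450 F212389) (tt N16895 (iv F222506)) (tt N12448 F212390) (tt N12571 F212391) (tt N12446 (iv D47451)))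
theorem Q14683 : ∀ i, i < 14683 → P i := stepQ 14682 Q14682 (allL N14682 (tt N13309 F212392) (tt N16899 D49669) (tt N12447 (iv D47452)) (tt N12474 F212393) (tt N16900 D49670) (tt N12451 F212394) (tt N13320 F212395) (tt N16896 (iv F222512)) (tt N13298 F212396) (tt N16901 D49671))
theorem Q14684 : ∀ i, i < 14684 → P i := stepQ 14683 Q14683 (allL N14683 (tt N16866 (iv F222367)) (tt N16174 (iv F218853)) (tt N16900 (iv F222526)) (tt N16622 (iv F221308)) (tt N12447 (iv D47453)) (tt N16902 D49672) (tt N13321 F212397) (tt N16897 (iv F222515)) (tt N16886 (iv F222465)) (tt N16903 D49673))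
theorem Q14685 : ∀ i, i < 14685 → P i := stepQ 14684 Q14684 (allL N14684 (tt N16867 (iv F222371)) (tt N16175 (iv F218856)) (tt N16901 (iv F222530)) (tt N12448 F212398) (tt N16903 (iv F222535)) (tt N12453 F212399) (tt N13322 F212400) (tt N16898 (iv F222518)) (tt N16904 D49674) (tt N12447 (iv D47454)))
theorem Q14686 : ∀ i, i < 14686 → P i := stepQ 14685 Q14685 (allL N14685 (tt N13311 F212401) (tt N13774 (iv F212406)) (tt N12449 (iv D47455)) (tt N12477 F212402) (tt N13771 (iv F212407)) (tt N16896 (iv F222511)) (tt N14685 F212403) (tt N12451 F212404) (tt N13300 F212405) (tt N16905 D49675))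
theorem Q14687 : ∀ i, i < 14687 → P i := stepQ 14686 Q14686 (allL N14686 (tt N16868 (iv F222376)) (tt N16177 (iv F218866)) (tt N13771 F212408) (tt N12460 F212409) (tt N12449 (iv D47456)) (tt N16906 D49676) (tt N14686 F212410) (tt N12452 F212411) (tt N16888 (iv F222476)) (tt N16907 D49677))
theorem Q14688 : ∀ i, i < 14688 → P i := stepQ 14687 Q14687 (allL N14687 (tt N16869 (iv F222382)) (tt N16178 (iv F218871)) (tt N16905 (iv F222542)) (tt N12450 F212412) (tt N16907 (iv F222552)) (tt N16898 (iv F222517)) (tt N14687 F212413) (tt N12453 F212414) (tt N16908 D49678) (tt N12449 (iv D47457)))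
theorem Q14689 : ∀ i, i < 14689 → P i := stepQ 14688 Q14688 (allL N14688 (tt N12967 F212415) (tt N12451 (iv D47458)) (tt N16179 (iv F218875)) (tt N12479 F212416) (tt N12923 (iv F212420)) (tt N16899 (iv F222521)) (tt N12454 F212417) (tt N13774 F212418) (tt N12934 F212419) (tt N16909 D49679))
theorem Q14690 : ∀ i, i < 14690 → P i := stepQ 14689 Q14689 (allL N14689 (tt N13313 F212421) (tt N12923 F212422) (tt N12452 F212423) (tt N12912 F212424) (tt N12451 (iv D47459)) (tt N16910 D49680) (tt N12455 F212425) (tt N13771 F212426) (tt N12917 F212427) (tt N16911 D49681))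
theorem Q14691 : ∀ i, i < 14691 → P i := stepQ 14690 Q14690 (allL N14690 (tt N13314 F212428) (tt N16909 (iv F222559)) (tt N12453 F212429) (tt N12480 F212430) (tt N16911 (iv F222574)) (tt N16901 (iv F222532)) (tt N12456 F212431) (tt N16905 (iv F222546)) (tt N16912 D49682) (tt N12451 (iv D47460)))
theorem Q14692 : ∀ i, i < 14692 → P i := stepQ 14691 Q14691 (allL N14691 (tt N16870 (iv F222387)) (tt N16182 (iv F218893)) (tt N16910 (iv F222566)) (tt N12462 F212432) (tt N16902 (iv F222534)) (tt N12452 (iv D47461)) (tt N16913 D49683) (tt N16906 (iv F222549)) (tt N16890 (iv F222485)) (tt N16914 D49684))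
theorem Q14693 : ∀ i, i < 14693 → P i := stepQ 14692 Q14692 (allL N14692 (tt N16871 (iv F222391)) (tt N16183 (iv F218897)) (tt N16911 (iv F222572)) (tt N12463 F212433) (tt N12453 F212434) (tt N16914 (iv F222586)) (tt N12458 F212435) (tt N16907 (iv F222554)) (tt N16915 D49685) (tt N12452 (iv D47462)))
theorem Q14694 : ∀ i, i < 14694 → P i := stepQ 14693 Q14693 (allL N14693 (tt N16872 (iv F222396)) (tt N16184 (iv F218902)) (tt N16912 (iv F222578)) (tt N12583 F212436) (tt N16915 (iv F222587)) (tt N16904 (iv F222538)) (tt N12459 F212437) (tt N16908 (iv F222557)) (tt N12453 (iv D47463)) (tt N16892 (iv F222495)))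
theorem Q14695 : ∀ i, i < 14695 → P i := stepQ 14694 Q14694 (allL N14694 (tt N12973 F212438) (tt N12456 F212439) (tt N16185 (iv F218907)) (tt N12481 F212440) (tt N12926 F212441) (tt N13333 F212442) (tt N16909 (iv F222562)) (tt N14694 F212443) (tt N16916 D49686) (tt N12454 (iv D47464)))
theorem Q14696 : ∀ i, i < 14696 → P i := stepQ 14695 Q14695 (allL N14695 (tt N13315 F212444) (tt N12926 F212445) (tt N12458 F212446) (tt N12913 F212447) (tt N12456 F212448) (tt N16228 (iv F219184)) (tt N16911 (iv F222575)) (tt N14695 F212449) (tt N16917 D49687) (tt N12455 (iv D47465)))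
theorem Q14697 : ∀ i, i < 14697 → P i := stepQ 14696 Q14696 (allL N14696 (tt N13316 F212450) (tt N16916 (iv F222590)) (tt N12459 F212451) (tt N13386 F212452) (tt N16917 (iv F222600)) (tt N13335 F212453) (tt N16912 (iv F222580)) (tt N14696 F212454) (tt N12456 (iv D47466)) (tt N13303 F212455))
theorem Q14698 : ∀ i, i < 14698 → P i := stepQ 14697 Q14697 (allL N14697 (tt N16236 (iv F219228)) (tt N12527 F212456) (tt N16226 (iv F219169)) (tt N12465 F212457) (tt N12507 F212458) (tt N16913 (iv F222584)) (tt N12457 (iv D47467)) (tt N16918 D49688) (tt N16235 (iv F219226)) (tt N16919 D49689))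
theorem Q14699 : ∀ i, i < 14699 → P i := stepQ 14698 Q14698 (allL N14698 (tt N16239 (iv F219246)) (tt N12532 F212459) (tt N16228 (iv F219181)) (tt N12466 F212460) (tt N12510 F212461) (tt N12458 F212462) (tt N16919 (iv F222611)) (tt N14698 F212463) (tt N16920 D49690) (tt N12457 (iv D47468)))
theorem Q14700 : ∀ i, i < 14700 → P i := stepQ 14699 Q14699 (allL N14699 (tt N16873 (iv F222401)) (tt N16188 (iv F218924)) (tt N16917 (iv F222598)) (tt N16921 D49691) (tt N12459 F212464) (tt N16920 (iv F222614)) (tt N16915 (iv F222588)) (tt N14699 F212465) (tt N12458 (iv D47469)) (tt N16893 (iv F222500)))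
theorem Q14701 : ∀ i, i < 14701 → P i := stepQ 14700 Q14700 (allL N14700 (tt N16651 (iv F221412)) (tt N16189 (iv F218929)) (tt N13515 F212466) (tt N16906 (iv F222548)) (tt N16597 (iv F221201)) (tt N12460 (iv D47470)) (tt N16922 D49692) (tt N12462 F212467) (tt N14700 F212468) (tt N16923 D49693))
theorem Q14702 : ∀ i, i < 14702 → P i := stepQ 14701 Q14701 (allL N14701 (tt N16874 (iv F222406)) (tt N16190 (iv F218934)) (tt N13787 F212469) (tt N16907 (iv F222551)) (tt N12461 F212470) (tt N16923 (iv F222625)) (tt N14701 F212471) (tt N12463 F212472) (tt N16924 D49694) (tt N12460 (iv D47471)))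
theorem Q14703 : ∀ i, i < 14703 → P i := stepQ 14702 Q14702 (allL N14702 (tt N16875 (iv F222411)) (tt N16191 (iv F218940)) (tt N16846 (iv F222248)) (tt N12595 F212473) (tt N16924 (iv F222628)) (tt N16639 (iv F221352)) (tt N14702 F212474) (tt N12464 F212475) (tt N12461 (iv D47472)) (tt N14702 F212476))
theorem Q14704 : ∀ i, i < 14704 → P i := stepQ 14703 Q14703 (allL N14703 (tt N16241 (iv F219258)) (tt N12536 F212477) (tt N16847 (iv F222256)) (tt N16913 (iv F222583)) (tt N16640 (iv F221359)) (tt N12465 F212478) (tt N12462 (iv D47473)) (tt N16925 D49695) (tt N14703 F212479) (tt N16926 D49696))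
theorem Q14705 : ∀ i, i < 14705 → P i := stepQ 14704 Q14704 (allL N14704 (tt N16876 (iv F222416)) (tt N16192 (iv F218948)) (tt N16848 (iv F222263)) (tt N16914 (iv F222585)) (tt N16641 (iv F221363)) (tt N12463 F212480) (tt N16926 (iv F222640)) (tt N16923 (iv F222626)) (tt N16927 D49697) (tt N12462 (iv D47474)))
theorem Q14706 : ∀ i, i < 14706 → P i := stepQ 14705 Q14705 (allL N14705 (tt N16877 (iv F222418)) (tt N16193 (iv F218953)) (tt N16849 (iv F222268)) (tt N16928 D49698) (tt N12464 F212481) (tt N16927 (iv F222641)) (tt N12467 F212482) (tt N16924 (iv F222630)) (tt N12463 (iv D47475)) (tt N14705 F212483))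
theorem Q14707 : ∀ i, i < 14707 → P i := stepQ 14706 Q14706 (allL N14706 (tt N13640 F212484) (tt N12534 F212485) (tt N13656 F212486) (tt N16918 (iv F222605)) (tt N12468 F212487) (tt N16925 (iv F222636)) (tt N14706 F212488) (tt N12465 (iv D47476)) (tt N14706 F212489) (tt N16929 D49699))
theorem Q14708 : ∀ i, i < 14708 → P i := stepQ 14707 Q14707 (allL N14707 (tt N16242 (iv F219265)) (tt N12537 F212490) (tt N16850 (iv F222276)) (tt N16919 (iv F222609)) (tt N12469 F212491) (tt N16926 (iv F222639)) (tt N12466 F212492) (tt N16929 (iv F222651)) (tt N16930 D49700) (tt N12465 (iv D47477)))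
theorem Q14709 : ∀ i, i < 14709 → P i := stepQ 14708 Q14708 (allL N14708 (tt N16245 (iv F219287)) (tt N12539 F212493) (tt N16851 (iv F222283)) (tt N16931 D49701) (tt N12470 F212494) (tt N12467 F212495) (tt N16930 (iv F222654)) (tt N14708 F212496) (tt N12466 (iv D47478)) (tt N14708 F212497))
theorem Q14710 : ∀ i, i < 14710 → P i := stepQ 14709 Q14709 (allL N14709 (tt N16878 (iv F222422)) (tt N16194 (iv F218959)) (tt N16932 D49702) (tt N12467 (iv D47479)) (tt N12602 F212498) (tt N16931 (iv F222657)) (tt N16928 (iv F222644)) (tt N14709 F212499) (tt N16921 (iv F222618)) (tt N14709 F212500))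
theorem Q14711 : ∀ i, i < 14711 → P i := stepQ 14710 Q14710 (allL N14710 (tt N13641 F212501) (tt N12535 F212502) (tt N13657 F212503) (tt N12511 F212504) (tt N16929 (iv F222649)) (tt N13648 F212505) (tt N14710 F212506) (tt N12469 F212507) (tt N16933 D49703) (tt N12468 (iv D47480)))
theorem Q14712 : ∀ i, i < 14712 → P i := stepQ 14711 Q14711 (allL N14711 (tt N16243 (iv F219271)) (tt N12538 F212508) (tt N16852 (iv F222291)) (tt N16281 (iv F219485)) (tt N16930 (iv F222653)) (tt N16646 (iv F221383)) (tt N12470 F212509) (tt N16933 (iv F222668)) (tt N12469 (iv D47481)) (tt N14711 F212510))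
theorem Q14713 : ∀ i, i < 14713 → P i := stepQ 14712 Q14712 (allL N14712 (tt N13517 F212511) (tt N12482 F212512) (tt N16934 D49704) (tt N12471 (iv D47482)) (tt N13524 (iv F212517)) (tt N14712 F212513) (tt N12472 F212514) (tt N13340 F212515) (tt N12654 F212516) (tt N16935 D49705))
theorem Q14714 : ∀ i, i < 14714 → P i := stepQ 14713 Q14713 (allL N14713 (tt N16879 (iv F222426)) (tt N12483 F212518) (tt N16895 (iv F222504)) (tt N16935 (iv F222679)) (tt N16647 (iv F221389)) (tt N14713 F212519) (tt N12473 F212520) (tt N13341 F212521) (tt N12606 F212522) (tt N12471 (iv D47483)))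
theorem Q14715 : ∀ i, i < 14715 → P i := stepQ 14714 Q14714 (allL N14714 (tt N13308 F212523) (tt N13378 F212524) (tt N12472 (iv D47484)) (tt N16896 (iv F222510)) (tt N13374 (iv F212528)) (tt N12477 F212525) (tt N16934 (iv F222674)) (tt N12474 F212526) (tt N12655 F212527) (tt N16936 D49706))
theorem Q14716 : ∀ i, i < 14716 → P i := stepQ 14715 Q14715 (allL N14715 (tt N13514 F212529) (tt N12485 F212530) (tt N13374 F212531) (tt N16648 (iv F221397)) (tt N12472 (iv D47485)) (tt N12659 F212532) (tt N13524 F212533) (tt N12475 F212534) (tt N12656 F212535) (tt N16937 D49707))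
theorem Q14717 : ∀ i, i < 14717 → P i := stepQ 14716 Q14716 (allL N14716 (tt N13518 F212536) (tt N12486 F212537) (tt N16936 (iv F222687)) (tt N12473 F212538) (tt N16937 (iv F222695)) (tt N12478 F212539) (tt N16935 (iv F222682)) (tt N12476 F212540) (tt N13531 F212541) (tt N12472 (iv D47486)))
theorem Q14718 : ∀ i, i < 14718 → P i := stepQ 14717 Q14717 (allL N14717 (tt N13416 F212542) (tt N12474 (iv D47487)) (tt N12487 F212543) (tt N16899 (iv F222520)) (tt N13380 (iv F212548)) (tt N12479 F212544) (tt N13345 F212545) (tt N13378 F212546) (tt N12657 F212547) (tt N16938 D49708))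
theorem Q14719 : ∀ i, i < 14719 → P i := stepQ 14718 Q14718 (allL N14718 (tt N13306 F212549) (tt N13380 F212550) (tt N12475 F212551) (tt N16939 D49709) (tt N12474 (iv D47488)) (tt N13375 F212552) (tt N13346 F212553) (tt N13374 F212554) (tt N12658 F212555) (tt N16940 D49710))
theorem Q14720 : ∀ i, i < 14720 → P i := stepQ 14719 Q14719 (allL N14719 (tt N13310 F212556) (tt N16938 (iv F222701)) (tt N12476 F212557) (tt N16901 (iv F222531)) (tt N16940 (iv F222717)) (tt N12480 F212558) (tt N13347 F212559) (tt N16936 (iv F222690)) (tt N13382 F212560) (tt N12474 (iv D47489)))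
theorem Q14721 : ∀ i, i < 14721 → P i := stepQ 14720 Q14720 (allL N14720 (tt N13516 F212561) (tt N12490 F212562) (tt N16940 (iv F222716)) (tt N16653 (iv F221423)) (tt N12476 F212563) (tt N13785 F212564) (tt N13348 F212565) (tt N16937 (iv F222698)) (tt N13530 F212566) (tt N12475 (iv D47490)))
theorem Q14722 : ∀ i, i < 14722 → P i := stepQ 14721 Q14721 (allL N14721 (tt N13312 F212567) (tt N13775 F212568) (tt N12478 F212569) (tt N16905 (iv F222543)) (tt N13770 F212570) (tt N16936 (iv F222689)) (tt N14721 F212571) (tt N12480 F212572) (tt N13384 F212573) (tt N12477 (iv D47491)))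
theorem Q14723 : ∀ i, i < 14723 → P i := stepQ 14722 Q14722 (allL N14722 (tt N13764 F212574) (tt N12480 F212575) (tt N12494 F212576) (tt N16909 (iv F222560)) (tt N13762 F212577) (tt N16938 (iv F222704)) (tt N12481 F212578) (tt N13775 F212579) (tt N13376 F212580) (tt N12479 (iv D47492)))
theorem Q14724 : ∀ i, i < 14724 → P i := stepQ 14723 Q14723 (allL N14723 (tt N14723 F212581) (tt N16935 (iv F222678)) (tt N13364 F212582) (tt N12483 F212583) (tt N13363 F212584) (tt N14723 F212585) (tt N12486 F212586) (tt N13354 F212587) (tt N13362 F212588) (tt N12482 (iv D47493)))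
theorem Q14725 : ∀ i, i < 14725 → P i := stepQ 14724 Q14724 (allL N14724 (tt N14724 F212589) (tt N13530 F212590) (tt N12486 F212591) (tt N16210 (iv F219061)) (tt N12491 F212592) (tt N12492 F212593) (tt N13364 F212594) (tt N12489 F212595) (tt N12490 F212596) (tt N12484 (iv D47494)))
theorem Q14726 : ∀ i, i < 14726 → P i := stepQ 14725 Q14725 (allL N14725 (tt N14725 F212597) (tt N16937 (iv F222693)) (tt N12491 F212598) (tt N16661 (iv F221460)) (tt N12486 F212599) (tt N12495 F212600) (tt N13363 F212601) (tt N12490 F212602) (tt N12489 F212603) (tt N12485 (iv D47495)))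
theorem Q14727 : ∀ i, i < 14727 → P i := stepQ 14726 Q14726 (allL N14726 (tt N14726 F212604) (tt N13531 F212605) (tt N12490 F212606) (tt N12631 F212607) (tt N12489 F212608) (tt N12493 F212609) (tt N13362 F212610) (tt N12491 F212611) (tt N12486 (iv D47496)) (tt N12488 F212612))
theorem Q14728 : ∀ i, i < 14728 → P i := stepQ 14727 Q14727 (allL N14727 (tt N13540 F212613) (tt N12489 F212614) (tt N16938 (iv F222702)) (tt N16213 (iv F219082)) (tt N13531 F212615) (tt N12494 F212616) (tt N13361 F212617) (tt N13530 F212618) (tt N16937 (iv F222699)) (tt N12487 (iv D47497)))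
theorem Q14729 : ∀ i, i < 14729 → P i := stepQ 14728 Q14728 (allL N14728 (tt N13786 F212619) (tt N12495 F212620) (tt N13376 F212621) (tt N16844 (iv F222238)) (tt N13773 F212622) (tt N16937 (iv F222696)) (tt N12497 F212623) (tt N13785 F212624) (tt N12494 (iv D47498)) (tt N12659 F212625))
theorem Q14730 : ∀ i, i < 14730 → P i := stepQ 14729 Q14729 (allL N14729 (tt N14729 F212626) (tt N16844 (iv F222236)) (tt N12644 F212627) (tt N12495 (iv D47499)) (tt N16550 (iv F220938)) (tt N16661 (iv F221462)) (tt N12498 F212628) (tt N16552 (iv F220956)) (tt N16219 (iv F219121)) (tt N12660 F212629))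
theorem Q14731 : ∀ i, i < 14731 → P i := stepQ 14730 Q14730 (allL N14730 (tt N13307 F212630) (tt N12512 F212631) (tt N12654 F212632) (tt N13296 F212633) (tt N12499 (iv D47500)) (tt N14730 F212634) (tt N12655 F212635) (tt N13519 (iv F212637)) (tt N16934 (iv F222676)) (tt N13379 F212636))
theorem Q14732 : ∀ i, i < 14732 → P i := stepQ 14731 Q14731 (allL N14731 (tt N16223 (iv F219147)) (tt N12513 F212638) (tt N13520 F212639) (tt N12504 F212640) (tt N13519 F212641) (tt N12500 F212642) (tt N13522 F212643) (tt N12499 (iv D47501)) (tt N16941 D49711) (tt N13521 F212644))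
theorem Q14733 : ∀ i, i < 14733 → P i := stepQ 14732 Q14732 (allL N14732 (tt N16224 (iv F219155)) (tt N12514 F212645) (tt N13524 F212646) (tt N16942 D49712) (tt N16934 (iv F222672)) (tt N12501 F212647) (tt N13374 F212648) (tt N16941 (iv F222727)) (tt N12499 (iv D47502)) (tt N16943 D49713))
theorem Q14734 : ∀ i, i < 14734 → P i := stepQ 14733 Q14733 (allL N14733 (tt N16225 (iv F219161)) (tt N12515 F212649) (tt N13526 F212650) (tt N16944 D49714) (tt N14733 F212651) (tt N16941 (iv F222725)) (tt N14733 F212652) (tt N12501 F212653) (tt N12500 (iv D47503)) (tt N16945 D49715))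
theorem Q14735 : ∀ i, i < 14735 → P i := stepQ 14734 Q14734 (allL N14734 (tt N16226 (iv F219167)) (tt N12516 F212654) (tt N16236 (iv F219230)) (tt N12501 (iv D47504)) (tt N16235 F219227) (tt N16942 (iv F222729)) (tt N12502 F212655) (tt N16944 (iv F222740)) (tt N12507 F212656) (tt N16946 D49716))
theorem Q14736 : ∀ i, i < 14736 → P i := stepQ 14735 Q14735 (allL N14735 (tt N16227 (iv F219173)) (tt N12517 F212657) (tt N13369 F212658) (tt N16946 (iv F222749)) (tt N14735 F212659) (tt N16943 (iv F222734)) (tt N12503 F212660) (tt N16945 (iv F222746)) (tt N13352 F212661) (tt N12501 (iv D47505)))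
theorem Q14737 : ∀ i, i < 14737 → P i := stepQ 14736 Q14736 (allL N14736 (tt N16228 (iv F219179)) (tt N12519 F212662) (tt N16239 (iv F219248)) (tt N12503 F212663) (tt N16238 (iv F219243)) (tt N13315 F212664) (tt N16946 (iv F222750)) (tt N14736 F212665) (tt N16947 D49717) (tt N12502 (iv D47506)))
theorem Q14738 : ∀ i, i < 14738 → P i := stepQ 14737 Q14737 (allL N14737 (tt N16229 (iv F219186)) (tt N12520 F212666) (tt N14737 F212667) (tt N13522 F212668) (tt N16570 (iv F221067)) (tt N14737 F212669) (tt N12504 (iv D47507)) (tt N13377 F212670) (tt N16948 D49718) (tt N16689 (iv F221610)))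
theorem Q14739 : ∀ i, i < 14739 → P i := stepQ 14738 Q14738 (allL N14738 (tt N16230 (iv F219194)) (tt N12521 F212671) (tt N14738 F212672) (tt N16949 D49719) (tt N16679 (iv F221563)) (tt N12506 F212673) (tt N16948 (iv F222759)) (tt N12505 F212674) (tt N12504 (iv D47508)) (tt N16950 D49720))
theorem Q14740 : ∀ i, i < 14740 → P i := stepQ 14739 Q14739 (allL N14739 (tt N16231 (iv F219200)) (tt N12522 F212675) (tt N16951 D49721) (tt N12505 (iv D47509)) (tt N16952 D49722) (tt N12507 F212676) (tt N13329 F212677) (tt N16949 (iv F222763)) (tt N16942 (iv F222731)) (tt N16953 D49723))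
theorem Q14741 : ∀ i, i < 14741 → P i := stepQ 14740 Q14740 (allL N14740 (tt N16232 (iv F219204)) (tt N12523 F212678) (tt N14740 F212679) (tt N16953 (iv F222774)) (tt N16681 (iv F221571)) (tt N12508 F212680) (tt N13339 F212681) (tt N16950 (iv F222767)) (tt N16856 (iv F222316)) (tt N12505 (iv D47510)))
theorem Q14742 : ∀ i, i < 14742 → P i := stepQ 14741 Q14741 (allL N14741 (tt N16233 (iv F219210)) (tt N12524 F212682) (tt N16954 D49724) (tt N12506 (iv D47511)) (tt N16918 (iv F222606)) (tt N16949 (iv F222762)) (tt N14741 F212683) (tt N12507 F212684) (tt N16944 (iv F222741)) (tt N16955 D49725))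
theorem Q14743 : ∀ i, i < 14743 → P i := stepQ 14742 Q14742 (allL N14742 (tt N16234 (iv F219215)) (tt N12525 F212685) (tt N14742 F212686) (tt N16955 (iv F222783)) (tt N12511 F212687) (tt N16950 (iv F222766)) (tt N14742 F212688) (tt N12508 F212689) (tt N16858 (iv F222328)) (tt N12506 (iv D47512)))
theorem Q14744 : ∀ i, i < 14744 → P i := stepQ 14743 Q14743 (allL N14743 (tt N16235 (iv F219222)) (tt N16253 (iv F219333)) (tt N12507 (iv D47513)) (tt N14743 F212690) (tt N16226 F219172) (tt N16951 (iv F222769)) (tt N12509 F212691) (tt N16954 (iv F222780)) (tt N16236 (iv F219234)) (tt N16956 D49726))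
theorem Q14745 : ∀ i, i < 14745 → P i := stepQ 14744 Q14744 (allL N14744 (tt N16237 (iv F219235)) (tt N12528 F212692) (tt N16956 (iv F222786)) (tt N12508 F212693) (tt N16919 (iv F222610)) (tt N16953 (iv F222775)) (tt N12510 F212694) (tt N16955 (iv F222785)) (tt N16957 D49727) (tt N12507 (iv D47514)))
theorem Q14746 : ∀ i, i < 14746 → P i := stepQ 14745 Q14745 (allL N14745 (tt N16238 (iv F219239)) (tt N16256 (iv F219350)) (tt N12510 F212695) (tt N14745 F212696) (tt N16228 (iv F219183)) (tt N13334 F212697) (tt N16956 (iv F222788)) (tt N14745 F212698) (tt N16958 D49728) (tt N12509 (iv D47515)))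
theorem Q14747 : ∀ i, i < 14747 → P i := stepQ 14746 Q14746 (allL N14746 (tt N16240 (iv F219253)) (tt N12533 F212699) (tt N16958 (iv F222791)) (tt N16862 (iv F222348)) (tt N16920 (iv F222613)) (tt N13336 F212700) (tt N16957 (iv F222790)) (tt N14746 F212701) (tt N12510 (iv D47516)) (tt N16947 (iv F222755)))
theorem Q14748 : ∀ i, i < 14748 → P i := stepQ 14747 Q14747 (allL N14747 (tt N12552 F212702) (tt N13519 F212703) (tt N12661 F212704) (tt N16689 (iv F221606)) (tt N12513 F212705) (tt N14747 F212706) (tt N13521 F212707) (tt N12512 (iv D47517)) (tt N16959 D49729) (tt N13522 F212708))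
theorem Q14749 : ∀ i, i < 14749 → P i := stepQ 14748 Q14748 (allL N14748 (tt N12553 F212709) (tt N16934 (iv F222671)) (tt N12662 F212710) (tt N16960 D49730) (tt N12514 F212711) (tt N14748 F212712) (tt N13378 F212713) (tt N16959 (iv F222800)) (tt N12512 (iv D47518)) (tt N16961 D49731))
theorem Q14750 : ∀ i, i < 14750 → P i := stepQ 14749 Q14749 (allL N14749 (tt N12554 F212714) (tt N13522 F212715) (tt N12663 F212716) (tt N12520 F212717) (tt N13521 F212718) (tt N14749 F212719) (tt N12513 (iv D47519)) (tt N13379 F212720) (tt N16962 D49732) (tt N13519 F212721))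
theorem Q14751 : ∀ i, i < 14751 → P i := stepQ 14750 Q14750 (allL N14750 (tt N12555 F212722) (tt N16941 (iv F222722)) (tt N12664 F212723) (tt N16963 D49733) (tt N16959 (iv F222797)) (tt N12515 F212724) (tt N16962 (iv F222815)) (tt N12514 F212725) (tt N12513 (iv D47520)) (tt N16964 D49734))
theorem Q14752 : ∀ i, i < 14752 → P i := stepQ 14751 Q14751 (allL N14751 (tt N12556 F212726) (tt N16942 (iv F222728)) (tt N13566 F212727) (tt N12514 (iv D47521)) (tt N16965 D49735) (tt N12516 F212728) (tt N13381 F212729) (tt N16963 (iv F222820)) (tt N12522 F212730) (tt N16966 D49736))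
theorem Q14753 : ∀ i, i < 14753 → P i := stepQ 14752 Q14752 (allL N14752 (tt N12557 F212731) (tt N16943 (iv F222732)) (tt N12665 F212732) (tt N16966 (iv F222833)) (tt N16961 (iv F222806)) (tt N12517 F212733) (tt N13382 F212734) (tt N16964 (iv F222825)) (tt N13347 F212735) (tt N12514 (iv D47522)))
theorem Q14754 : ∀ i, i < 14754 → P i := stepQ 14753 Q14753 (allL N14753 (tt N12558 F212736) (tt N16944 (iv F222737)) (tt N13567 F212737) (tt N12515 (iv D47523)) (tt N16967 D49737) (tt N16963 (iv F222819)) (tt N14753 F212738) (tt N12516 F212739) (tt N12524 F212740) (tt N16968 D49738))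
theorem Q14755 : ∀ i, i < 14755 → P i := stepQ 14754 Q14754 (allL N14754 (tt N12559 F212741) (tt N16945 (iv F222742)) (tt N12666 F212742) (tt N16968 (iv F222844)) (tt N14754 F212743) (tt N16964 (iv F222824)) (tt N14754 F212744) (tt N12517 F212745) (tt N13350 F212746) (tt N12515 (iv D47524)))
theorem Q14756 : ∀ i, i < 14756 → P i := stepQ 14755 Q14755 (allL N14755 (tt N12561 F212747) (tt N16235 (iv F219223)) (tt N13570 F212748) (tt N14755 F212749) (tt N12516 (iv D47525)) (tt N16969 D49739) (tt N12518 F212750) (tt N16967 (iv F222840)) (tt N12527 F212751) (tt N16970 D49740))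
theorem Q14757 : ∀ i, i < 14757 → P i := stepQ 14756 Q14756 (allL N14756 (tt N12562 F212752) (tt N16946 (iv F222748)) (tt N13505 F212753) (tt N12517 F212754) (tt N16970 (iv F222854)) (tt N16966 (iv F222834)) (tt N12519 F212755) (tt N16968 (iv F222846)) (tt N16971 D49741) (tt N12516 (iv D47526)))
theorem Q14758 : ∀ i, i < 14758 → P i := stepQ 14757 Q14757 (allL N14757 (tt N12567 F212756) (tt N16238 (iv F219240)) (tt N13508 F212757) (tt N14757 F212758) (tt N12519 F212759) (tt N16168 (iv F218823)) (tt N16970 (iv F222855)) (tt N14757 F212760) (tt N16972 D49742) (tt N12518 (iv D47527)))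
theorem Q14759 : ∀ i, i < 14759 → P i := stepQ 14758 Q14758 (allL N14758 (tt N12568 F212761) (tt N16947 (iv F222751)) (tt N13477 F212762) (tt N13335 F212763) (tt N16972 (iv F222863)) (tt N13386 F212764) (tt N16971 (iv F222859)) (tt N14758 F212765) (tt N12519 (iv D47528)) (tt N12533 F212766))
theorem Q14760 : ∀ i, i < 14760 → P i := stepQ 14759 Q14759 (allL N14759 (tt N12569 F212767) (tt N16948 (iv F222756)) (tt N12540 F212768) (tt N16973 D49743) (tt N16704 (iv F221670)) (tt N14759 F212769) (tt N12521 F212770) (tt N13387 F212771) (tt N12520 (iv D47529)) (tt N16974 D49744))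
theorem Q14761 : ∀ i, i < 14761 → P i := stepQ 14760 Q14760 (allL N14760 (tt N12570 F212772) (tt N16949 (iv F222761)) (tt N16975 D49745) (tt N12521 (iv D47530)) (tt N16976 D49746) (tt N12524 F212773) (tt N16973 (iv F222868)) (tt N12522 F212774) (tt N16963 (iv F222821)) (tt N16977 D49747))
theorem Q14762 : ∀ i, i < 14762 → P i := stepQ 14761 Q14761 (allL N14761 (tt N12571 F212775) (tt N16950 (iv F222764)) (tt N12542 F212776) (tt N16977 (iv F222884)) (tt N16706 (iv F221678)) (tt N12525 F212777) (tt N16974 (iv F222873)) (tt N12523 F212778) (tt N16865 (iv F222366)) (tt N12521 (iv D47531)))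
theorem Q14763 : ∀ i, i < 14763 → P i := stepQ 14762 Q14762 (allL N14762 (tt N12572 F212779) (tt N16978 D49748) (tt N12522 (iv D47532)) (tt N12543 F212780) (tt N16979 D49749) (tt N12526 F212781) (tt N13390 F212782) (tt N16975 (iv F222878)) (tt N13566 F212783) (tt N16980 D49750))
theorem Q14764 : ∀ i, i < 14764 → P i := stepQ 14763 Q14763 (allL N14763 (tt N12573 F212784) (tt N16952 (iv F222771)) (tt N16979 (iv F222893)) (tt N16708 (iv F221686)) (tt N12522 (iv D47533)) (tt N16981 D49751) (tt N13391 F212785) (tt N16976 (iv F222882)) (tt N16965 (iv F222830)) (tt N16982 D49752))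
theorem Q14765 : ∀ i, i < 14765 → P i := stepQ 14764 Q14764 (allL N14764 (tt N12574 F212786) (tt N16953 (iv F222773)) (tt N16980 (iv F222897)) (tt N12523 F212787) (tt N16982 (iv F222904)) (tt N12528 F212788) (tt N13392 F212789) (tt N16977 (iv F222886)) (tt N16983 D49753) (tt N12522 (iv D47534)))
theorem Q14766 : ∀ i, i < 14766 → P i := stepQ 14765 Q14765 (allL N14765 (tt N12575 F212790) (tt N13750 (iv F212795)) (tt N12524 (iv D47535)) (tt N12546 F212791) (tt N16984 D49754) (tt N16975 (iv F222877)) (tt N14765 F212792) (tt N12526 F212793) (tt N13567 F212794) (tt N16985 D49755))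
theorem Q14767 : ∀ i, i < 14767 → P i := stepQ 14766 Q14766 (allL N14766 (tt N12576 F212796) (tt N16918 (iv F222604)) (tt N16984 (iv F222911)) (tt N12534 F212797) (tt N12524 (iv D47536)) (tt N16986 D49756) (tt N14766 F212798) (tt N12527 F212799) (tt N16967 (iv F222841)) (tt N16987 D49757))
theorem Q14768 : ∀ i, i < 14768 → P i := stepQ 14767 Q14767 (allL N14767 (tt N12577 F212800) (tt N16955 (iv F222782)) (tt N16985 (iv F222918)) (tt N12525 F212801) (tt N16987 (iv F222927)) (tt N16977 (iv F222885)) (tt N14767 F212802) (tt N12528 F212803) (tt N16988 D49758) (tt N12524 (iv D47537)))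
theorem Q14769 : ∀ i, i < 14769 → P i := stepQ 14768 Q14768 (allL N14768 (tt N16300 (iv F219588)) (tt N12526 (iv D47538)) (tt N16253 (iv F219334)) (tt N12548 F212804) (tt N16252 F219331) (tt N16978 (iv F222888)) (tt N12529 F212805) (tt N13750 F212806) (tt N13569 F212807) (tt N16989 D49759))
theorem Q14770 : ∀ i, i < 14770 → P i := stepQ 14769 Q14769 (allL N14769 (tt N12579 F212808) (tt N16252 (iv F219326)) (tt N12527 F212809) (tt N14769 F212810) (tt N12526 (iv D47539)) (tt N16990 D49760) (tt N12530 F212811) (tt N16984 (iv F222914)) (tt N13570 F212812) (tt N16991 D49761))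
theorem Q14771 : ∀ i, i < 14771 → P i := stepQ 14770 Q14770 (allL N14770 (tt N12580 F212813) (tt N16989 (iv F222933)) (tt N12528 F212814) (tt N12549 F212815) (tt N16991 (iv F222944)) (tt N16980 (iv F222899)) (tt N12531 F212816) (tt N16985 (iv F222921)) (tt N16992 D49762) (tt N12526 (iv D47540)))
theorem Q14772 : ∀ i, i < 14772 → P i := stepQ 14771 Q14771 (allL N14771 (tt N12581 F212817) (tt N16913 (iv F222582)) (tt N16990 (iv F222938)) (tt N12536 F212818) (tt N16981 (iv F222902)) (tt N12527 (iv D47541)) (tt N16182 (iv F218895)) (tt N16986 (iv F222924)) (tt N16969 (iv F222850)) (tt N16993 D49763))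
theorem Q14773 : ∀ i, i < 14773 → P i := stepQ 14772 Q14772 (allL N14772 (tt N12582 F212819) (tt N16919 (iv F222608)) (tt N16991 (iv F222942)) (tt N12537 F212820) (tt N12528 F212821) (tt N16993 (iv F222953)) (tt N12532 F212822) (tt N16987 (iv F222929)) (tt N16994 D49764) (tt N12527 (iv D47542)))
theorem Q14774 : ∀ i, i < 14774 → P i := stepQ 14773 Q14773 (allL N14773 (tt N12583 F212823) (tt N16957 (iv F222789)) (tt N16992 (iv F222947)) (tt N16872 (iv F222398)) (tt N16994 (iv F222955)) (tt N16983 (iv F222907)) (tt N12533 F212824) (tt N16988 (iv F222932)) (tt N12528 (iv D47543)) (tt N16971 (iv F222860)))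
theorem Q14775 : ∀ i, i < 14775 → P i := stepQ 14774 Q14774 (allL N14774 (tt N16306 (iv F219615)) (tt N12531 F212825) (tt N16256 (iv F219351)) (tt N12551 F212826) (tt N16255 (iv F219346)) (tt N13399 F212827) (tt N16989 (iv F222935)) (tt N14774 F212828) (tt N16995 D49765) (tt N12529 (iv D47544)))
theorem Q14776 : ∀ i, i < 14776 → P i := stepQ 14775 Q14775 (allL N14775 (tt N12588 F212829) (tt N16255 (iv F219343)) (tt N12532 F212830) (tt N14775 F212831) (tt N12531 F212832) (tt N16186 (iv F218917)) (tt N16991 (iv F222945)) (tt N14775 F212833) (tt N16996 D49766) (tt N12530 (iv D47545)))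
theorem Q14777 : ∀ i, i < 14777 → P i := stepQ 14776 Q14776 (allL N14776 (tt N12589 F212834) (tt N16995 (iv F222957)) (tt N12533 F212835) (tt N13439 F212836) (tt N16996 (iv F222964)) (tt N13400 F212837) (tt N16992 (iv F222949)) (tt N14776 F212838) (tt N12531 (iv D47546)) (tt N13477 F212839))
theorem Q14778 : ∀ i, i < 14778 → P i := stepQ 14777 Q14777 (allL N14777 (tt N12592 F212840) (tt N16920 (iv F222612)) (tt N16996 (iv F222963)) (tt N16997 D49767) (tt N12533 F212841) (tt N16188 (iv F218926)) (tt N16994 (iv F222956)) (tt N14777 F212842) (tt N12532 (iv D47547)) (tt N16972 (iv F222865)))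
theorem Q14779 : ∀ i, i < 14779 → P i := stepQ 14778 Q14778 (allL N14778 (tt N12593 F212843) (tt N16925 (iv F222633)) (tt N14778 F212844) (tt N16986 (iv F222923)) (tt N16725 (iv F221747)) (tt N12534 (iv D47548)) (tt N16998 D49768) (tt N12536 F212845) (tt N14778 F212846) (tt N16999 D49769))
theorem Q14780 : ∀ i, i < 14780 → P i := stepQ 14779 Q14779 (allL N14779 (tt N12594 F212847) (tt N16929 (iv F222647)) (tt N14779 F212848) (tt N16987 (iv F222926)) (tt N12535 F212849) (tt N16999 (iv F222976)) (tt N14779 F212850) (tt N12537 F212851) (tt N17000 D49770) (tt N12534 (iv D47549)))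
theorem Q14781 : ∀ i, i < 14781 → P i := stepQ 14780 Q14780 (allL N14780 (tt N12595 F212852) (tt N16933 (iv F222664)) (tt N14780 F212853) (tt N16875 (iv F222412)) (tt N17000 (iv F222980)) (tt N16727 (iv F221759)) (tt N14780 F212854) (tt N12538 F212855) (tt N12535 (iv D47550)) (tt N14780 F212856))
theorem Q14782 : ∀ i, i < 14782 → P i := stepQ 14781 Q14781 (allL N14781 (tt N12597 F212857) (tt N16926 (iv F222638)) (tt N14781 F212858) (tt N16993 (iv F222952)) (tt N16728 (iv F221765)) (tt N12537 F212859) (tt N16192 (iv F218951)) (tt N16999 (iv F222977)) (tt N17001 D49771) (tt N12536 (iv D47551)))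
theorem Q14783 : ∀ i, i < 14783 → P i := stepQ 14782 Q14782 (allL N14782 (tt N12598 F212860) (tt N16930 (iv F222652)) (tt N14782 F212861) (tt N17002 D49772) (tt N12538 F212862) (tt N17001 (iv F222986)) (tt N12539 F212863) (tt N17000 (iv F222982)) (tt N12537 (iv D47552)) (tt N14782 F212864))
theorem Q14784 : ∀ i, i < 14784 → P i := stepQ 14783 Q14783 (allL N14783 (tt N12602 F212865) (tt N16931 (iv F222656)) (tt N17003 D49773) (tt N12539 (iv D47553)) (tt N16878 (iv F222423)) (tt N16194 (iv F218961)) (tt N17002 (iv F222989)) (tt N14783 F212866) (tt N16997 (iv F222969)) (tt N14783 F212867))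
theorem Q14785 : ∀ i, i < 14785 → P i := stepQ 14784 Q14784 (allL N14784 (tt N12605 F212868) (tt N14784 F212869) (tt N17004 D49774) (tt N12540 (iv D47554)) (tt N17005 D49775) (tt N14784 F212870) (tt N12541 F212871) (tt N13401 F212872) (tt N12667 F212873) (tt N17006 D49776))
theorem Q14786 : ∀ i, i < 14786 → P i := stepQ 14785 Q14785 (allL N14785 (tt N12606 F212874) (tt N14785 F212875) (tt N16974 (iv F222871)) (tt N17006 (iv F223009)) (tt N16731 (iv F221776)) (tt N14785 F212876) (tt N12542 F212877) (tt N13402 F212878) (tt N16879 (iv F222432)) (tt N12540 (iv D47555)))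
theorem Q14787 : ∀ i, i < 14787 → P i := stepQ 14786 Q14786 (allL N14786 (tt N12607 F212879) (tt N13565 (iv F212883)) (tt N12541 (iv D47556)) (tt N16975 (iv F222876)) (tt N17007 D49777) (tt N12546 F212880) (tt N17004 (iv F222997)) (tt N12543 F212881) (tt N12668 F212882) (tt N17008 D49778))
theorem Q14788 : ∀ i, i < 14788 → P i := stepQ 14787 Q14787 (allL N14787 (tt N12608 F212884) (tt N14787 F212885) (tt N17007 (iv F223016)) (tt N16733 (iv F221785)) (tt N12541 (iv D47557)) (tt N14787 F212886) (tt N17005 (iv F223003)) (tt N12544 F212887) (tt N12669 F212888) (tt N17009 D49779))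
theorem Q14789 : ∀ i, i < 14789 → P i := stepQ 14788 Q14788 (allL N14788 (tt N12609 F212889) (tt N14788 F212890) (tt N17008 (iv F223022)) (tt N12542 F212891) (tt N17009 (iv F223028)) (tt N12547 F212892) (tt N17006 (iv F223011)) (tt N12545 F212893) (tt N13548 F212894) (tt N12541 (iv D47558)))
theorem Q14790 : ∀ i, i < 14790 → P i := stepQ 14789 Q14789 (allL N14789 (tt N17010 D49780) (tt N12543 (iv D47559)) (tt N14789 F212895) (tt N16978 (iv F222887)) (tt N17011 D49781) (tt N12548 F212896) (tt N13406 F212897) (tt N13565 F212898) (tt N12670 F212899) (tt N17012 D49782))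
theorem Q14791 : ∀ i, i < 14791 → P i := stepQ 14790 Q14790 (allL N14790 (tt N12611 F212900) (tt N17011 (iv F223038)) (tt N12544 F212901) (tt N17013 D49783) (tt N12543 (iv D47560)) (tt N14790 F212902) (tt N13407 F212903) (tt N17007 (iv F223018)) (tt N12671 F212904) (tt N17014 D49784))
theorem Q14792 : ∀ i, i < 14792 → P i := stepQ 14791 Q14791 (allL N14791 (tt N12612 F212905) (tt N17012 (iv F223044)) (tt N12545 F212906) (tt N16980 (iv F222898)) (tt N17014 (iv F223055)) (tt N12549 F212907) (tt N13408 F212908) (tt N17008 (iv F223024)) (tt N13551 F212909) (tt N12543 (iv D47561)))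
theorem Q14793 : ∀ i, i < 14793 → P i := stepQ 14792 Q14792 (allL N14792 (tt N12613 F212910) (tt N14792 F212911) (tt N17014 (iv F223054)) (tt N16737 (iv F221805)) (tt N12545 F212912) (tt N14792 F212913) (tt N13409 F212914) (tt N17009 (iv F223030)) (tt N13552 F212915) (tt N12544 (iv D47562)))
theorem Q14794 : ∀ i, i < 14794 → P i := stepQ 14793 Q14793 (allL N14793 (tt N12616 F212916) (tt N13756 F212917) (tt N12547 F212918) (tt N16985 (iv F222919)) (tt N14793 F212919) (tt N17008 (iv F223023)) (tt N14793 F212920) (tt N12549 F212921) (tt N13554 F212922) (tt N12546 (iv D47563)))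
theorem Q14795 : ∀ i, i < 14795 → P i := stepQ 14794 Q14794 (allL N14794 (tt N12548 (iv D47564)) (tt N12618 F212923) (tt N14794 F212924) (tt N16300 F219594) (tt N14794 F212925) (tt N17010 (iv F223034)) (tt N12550 F212926) (tt N13753 F212927) (tt N12672 F212928) (tt N17015 D49785))
theorem Q14796 : ∀ i, i < 14796 → P i := stepQ 14795 Q14795 (allL N14795 (tt N17015 (iv F223059)) (tt N12549 F212929) (tt N14795 F212930) (tt N16989 (iv F222934)) (tt N14795 F212931) (tt N17012 (iv F223046)) (tt N12551 F212932) (tt N13756 F212933) (tt N13556 F212934) (tt N12548 (iv D47565)))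
theorem Q14797 : ∀ i, i < 14797 → P i := stepQ 14796 Q14796 (allL N14796 (tt N12551 F212935) (tt N12621 F212936) (tt N14796 F212937) (tt N16306 (iv F219618)) (tt N14796 F212938) (tt N13414 F212939) (tt N17015 (iv F223063)) (tt N14796 F212940) (tt N13557 F212941) (tt N12550 (iv D47566)))
theorem Q14798 : ∀ i, i < 14798 → P i := stepQ 14797 Q14797 (allL N14797 (tt N13521 F212942) (tt N13782 F212943) (tt N12673 F212944) (tt N13765 F212945) (tt N12554 F212946) (tt N13523 (iv F212948)) (tt N12552 (iv D47567)) (tt N13415 F212947) (tt N17016 D49786) (tt N16223 (iv F219154)))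
theorem Q14799 : ∀ i, i < 14799 → P i := stepQ 14798 Q14798 (allL N14798 (tt N16959 (iv F222794)) (tt N16287 (iv F219525)) (tt N12674 F212949) (tt N17017 D49787) (tt N12555 F212950) (tt N14798 F212951) (tt N17016 (iv F223071)) (tt N12553 F212952) (tt N12552 (iv D47568)) (tt N17018 D49788))
theorem Q14800 : ∀ i, i < 14800 → P i := stepQ 14799 Q14799 (allL N14799 (tt N16960 (iv F222801)) (tt N16288 (iv F219531)) (tt N17019 D49789) (tt N12553 (iv D47569)) (tt N17020 D49790) (tt N14799 F212953) (tt N13417 F212954) (tt N17017 (iv F223074)) (tt N16749 (iv F221868)) (tt N17021 D49791))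
theorem Q14801 : ∀ i, i < 14801 → P i := stepQ 14800 Q14800 (allL N14800 (tt N16961 (iv F222804)) (tt N16289 (iv F219535)) (tt N12676 F212955) (tt N17021 (iv F223084)) (tt N12557 F212956) (tt N14800 F212957) (tt N13418 F212958) (tt N17018 (iv F223078)) (tt N16882 (iv F222446)) (tt N12553 (iv D47570)))
theorem Q14802 : ∀ i, i < 14802 → P i := stepQ 14801 Q14801 (allL N14801 (tt N16962 (iv F222810)) (tt N16290 (iv F219540)) (tt N12677 F212959) (tt N17022 D49792) (tt N17016 (iv F223069)) (tt N14801 F212960) (tt N12555 F212961) (tt N13419 F212962) (tt N12554 (iv D47571)) (tt N17023 D49793))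
theorem Q14803 : ∀ i, i < 14803 → P i := stepQ 14802 Q14802 (allL N14802 (tt N16963 (iv F222817)) (tt N16291 (iv F219546)) (tt N17024 D49794) (tt N12555 (iv D47572)) (tt N17025 D49795) (tt N12558 F212963) (tt N17022 (iv F223088)) (tt N12556 F212964) (tt N12570 F212965) (tt N17026 D49796))
theorem Q14804 : ∀ i, i < 14804 → P i := stepQ 14803 Q14803 (allL N14803 (tt N16964 (iv F222822)) (tt N16292 (iv F219550)) (tt N12679 F212966) (tt N17026 (iv F223102)) (tt N17018 (iv F223076)) (tt N12559 F212967) (tt N17023 (iv F223093)) (tt N12557 F212968) (tt N16885 (iv F222461)) (tt N12555 (iv D47573)))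
theorem Q14805 : ∀ i, i < 14805 → P i := stepQ 14804 Q14804 (allL N14804 (tt N13566 F212969) (tt N17027 D49797) (tt N12556 (iv D47574)) (tt N12680 F212970) (tt N17028 D49798) (tt N12560 F212971) (tt N13422 F212972) (tt N17024 (iv F223098)) (tt N12572 F212973) (tt N17029 D49799))
theorem Q14806 : ∀ i, i < 14806 → P i := stepQ 14805 Q14805 (allL N14805 (tt N16965 (iv F222827)) (tt N16294 (iv F219558)) (tt N17028 (iv F223110)) (tt N17020 (iv F223082)) (tt N12556 (iv D47575)) (tt N17030 D49800) (tt N13423 F212974) (tt N17025 (iv F223100)) (tt N12573 F212975) (tt N17031 D49801))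
theorem Q14807 : ∀ i, i < 14807 → P i := stepQ 14806 Q14806 (allL N14806 (tt N16966 (iv F222831)) (tt N16295 (iv F219561)) (tt N17029 (iv F223114)) (tt N12557 F212976) (tt N17031 (iv F223120)) (tt N12562 F212977) (tt N13424 F212978) (tt N17026 (iv F223104)) (tt N17032 D49802) (tt N12556 (iv D47576)))
theorem Q14808 : ∀ i, i < 14808 → P i := stepQ 14807 Q14807 (allL N14807 (tt N13567 F212979) (tt N17033 D49803) (tt N12558 (iv D47577)) (tt N12683 F212980) (tt N17034 D49804) (tt N17024 (iv F223097)) (tt N14807 F212981) (tt N12560 F212982) (tt N12575 F212983) (tt N17035 D49805))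
theorem Q14809 : ∀ i, i < 14809 → P i := stepQ 14808 Q14808 (allL N14808 (tt N16967 (iv F222836)) (tt N16297 (iv F219572)) (tt N17034 (iv F223131)) (tt N14808 F212984) (tt N12558 (iv D47578)) (tt N17036 D49806) (tt N14808 F212985) (tt N12561 F212986) (tt N12576 F212987) (tt N17037 D49807))
theorem Q14810 : ∀ i, i < 14810 → P i := stepQ 14809 Q14809 (allL N14809 (tt N16968 (iv F222842)) (tt N16298 (iv F219578)) (tt N17035 (iv F223137)) (tt N12559 F212988) (tt N17037 (iv F223145)) (tt N17026 (iv F223103)) (tt N14809 F212989) (tt N12562 F212990) (tt N17038 D49808) (tt N12558 (iv D47579)))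
theorem Q14811 : ∀ i, i < 14811 → P i := stepQ 14810 Q14810 (allL N14810 (tt N16328 (iv F219712)) (tt N12560 (iv D47580)) (tt N16299 (iv F219583)) (tt N12685 F212991) (tt N16327 F219711) (tt N17027 (iv F223106)) (tt N12563 F212992) (tt N17033 (iv F223128)) (tt N12578 F212993) (tt N17039 D49809))
theorem Q14812 : ∀ i, i < 14812 → P i := stepQ 14811 Q14811 (allL N14811 (tt N13570 F212994) (tt N16327 (iv F219706)) (tt N12561 F212995) (tt N13755 F212996) (tt N12560 (iv D47581)) (tt N17040 D49810) (tt N12564 F212997) (tt N17034 (iv F223134)) (tt N12579 F212998) (tt N17041 D49811))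
theorem Q14813 : ∀ i, i < 14813 → P i := stepQ 14812 Q14812 (allL N14812 (tt N13505 F212999) (tt N17039 (iv F223151)) (tt N12562 F213000) (tt N12686 F213001) (tt N17041 (iv F223161)) (tt N17029 (iv F223116)) (tt N12565 F213002) (tt N17035 (iv F223140)) (tt N17042 D49812) (tt N12560 (iv D47582)))
theorem Q14814 : ∀ i, i < 14814 → P i := stepQ 14813 Q14813 (allL N14813 (tt N16969 (iv F222847)) (tt N16302 (iv F219598)) (tt N17040 (iv F223155)) (tt N14813 F213003) (tt N17030 (iv F223118)) (tt N12561 (iv D47583)) (tt N17043 D49813) (tt N17036 (iv F223142)) (tt N12581 F213004) (tt N17044 D49814))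
theorem Q14815 : ∀ i, i < 14815 → P i := stepQ 14814 Q14814 (allL N14814 (tt N16970 (iv F222851)) (tt N16303 (iv F219601)) (tt N17041 (iv F223159)) (tt N14814 F213005) (tt N12562 F213006) (tt N17044 (iv F223172)) (tt N12567 F213007) (tt N17037 (iv F223147)) (tt N17045 D49815) (tt N12561 (iv D47584)))
theorem Q14816 : ∀ i, i < 14816 → P i := stepQ 14815 Q14815 (allL N14815 (tt N16971 (iv F222856)) (tt N16304 (iv F219605)) (tt N17042 (iv F223164)) (tt N16892 (iv F222493)) (tt N17045 (iv F223173)) (tt N17032 (iv F223122)) (tt N12568 F213008) (tt N17038 (iv F223149)) (tt N12562 (iv D47585)) (tt N12583 F213009))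
theorem Q14817 : ∀ i, i < 14817 → P i := stepQ 14816 Q14816 (allL N14816 (tt N16337 (iv F219751)) (tt N12565 F213010) (tt N16305 (iv F219610)) (tt N12688 F213011) (tt N16336 (iv F219748)) (tt N13436 F213012) (tt N17039 (iv F223153)) (tt N14816 F213013) (tt N17046 D49816) (tt N12563 (iv D47586)))
theorem Q14818 : ∀ i, i < 14818 → P i := stepQ 14817 Q14817 (allL N14817 (tt N12936 F213014) (tt N12990 F213015) (tt N12566 F213016) (tt N12956 F213017) (tt N13437 F213018) (tt N12564 (iv D47587)) (tt N17047 D49817) (tt N14817 F213019) (tt N12587 F213020) (tt N17048 D49818))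
theorem Q14819 : ∀ i, i < 14819 → P i := stepQ 14818 Q14818 (allL N14818 (tt N13508 F213021) (tt N16336 (iv F219745)) (tt N12567 F213022) (tt N13700 F213023) (tt N12565 F213024) (tt N17048 (iv F223192)) (tt N17041 (iv F223162)) (tt N14818 F213025) (tt N17049 D49819) (tt N12564 (iv D47588)))
theorem Q14820 : ∀ i, i < 14820 → P i := stepQ 14819 Q14819 (allL N14819 (tt N13477 F213026) (tt N17046 (iv F223176)) (tt N12568 F213027) (tt N13400 F213028) (tt N17049 (iv F223196)) (tt N13439 F213029) (tt N17042 (iv F223166)) (tt N14819 F213030) (tt N12565 (iv D47589)) (tt N12589 F213031))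
theorem Q14821 : ∀ i, i < 14821 → P i := stepQ 14820 Q14820 (allL N14820 (tt N16165 (iv F218801)) (tt N16308 (iv F219627)) (tt N17047 (iv F223183)) (tt N14820 F213032) (tt N13440 F213033) (tt N17043 (iv F223169)) (tt N12566 (iv D47590)) (tt N17050 D49820) (tt N12590 F213034) (tt N17051 D49821))
theorem Q14822 : ∀ i, i < 14822 → P i := stepQ 14821 Q14821 (allL N14821 (tt N16168 (iv F218818)) (tt N16309 (iv F219633)) (tt N17048 (iv F223189)) (tt N14821 F213035) (tt N13441 F213036) (tt N12567 F213037) (tt N17051 (iv F223205)) (tt N14821 F213038) (tt N17052 D49822) (tt N12566 (iv D47591)))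
theorem Q14823 : ∀ i, i < 14823 → P i := stepQ 14822 Q14822 (allL N14822 (tt N16972 (iv F222861)) (tt N16310 (iv F219639)) (tt N17049 (iv F223195)) (tt N17053 D49823) (tt N12568 F213039) (tt N17052 (iv F223207)) (tt N17045 (iv F223174)) (tt N14822 F213040) (tt N12567 (iv D47592)) (tt N12592 F213041))
theorem Q14824 : ∀ i, i < 14824 → P i := stepQ 14823 Q14823 (allL N14823 (tt N16973 (iv F222866)) (tt N16311 (iv F219643)) (tt N17054 D49824) (tt N12569 (iv D47593)) (tt N17055 D49825) (tt N14823 F213042) (tt N12570 F213043) (tt N13443 F213044) (tt N17022 (iv F223090)) (tt N17056 D49826))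
theorem Q14825 : ∀ i, i < 14825 → P i := stepQ 14824 Q14824 (allL N14824 (tt N16974 (iv F222870)) (tt N16312 (iv F219647)) (tt N12606 F213045) (tt N17056 (iv F223219)) (tt N16773 (iv F221953)) (tt N14824 F213046) (tt N12571 F213047) (tt N13444 F213048) (tt N16895 (iv F222508)) (tt N12569 (iv D47594)))
theorem Q14826 : ∀ i, i < 14826 → P i := stepQ 14825 Q14825 (allL N14825 (tt N16975 (iv F222875)) (tt N17057 D49827) (tt N12570 (iv D47595)) (tt N12607 F213049) (tt N17058 D49828) (tt N12575 F213050) (tt N17054 (iv F223215)) (tt N12572 F213051) (tt N17024 (iv F223099)) (tt N17059 D49829))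
theorem Q14827 : ∀ i, i < 14827 → P i := stepQ 14826 Q14826 (allL N14826 (tt N16976 (iv F222881)) (tt N16314 (iv F219656)) (tt N17058 (iv F223226)) (tt N16775 (iv F221960)) (tt N12570 (iv D47596)) (tt N17060 D49830) (tt N17055 (iv F223217)) (tt N12573 F213052) (tt N17025 (iv F223101)) (tt N17061 D49831))
theorem Q14828 : ∀ i, i < 14828 → P i := stepQ 14827 Q14827 (allL N14827 (tt N16977 (iv F222883)) (tt N16315 (iv F219658)) (tt N17059 (iv F223228)) (tt N12571 F213053) (tt N17061 (iv F223234)) (tt N12577 F213054) (tt N17056 (iv F223221)) (tt N12574 F213055) (tt N17062 D49832) (tt N12570 (iv D47597)))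
theorem Q14829 : ∀ i, i < 14829 → P i := stepQ 14828 Q14828 (allL N14828 (tt N17063 D49833) (tt N12572 (iv D47598)) (tt N16316 (iv F219662)) (tt N12610 F213056) (tt N17064 D49834) (tt N12578 F213057) (tt N13448 F213058) (tt N17057 (iv F223225)) (tt N17027 (iv F223108)) (tt N17065 D49835))
theorem Q14830 : ∀ i, i < 14830 → P i := stepQ 14829 Q14829 (allL N14829 (tt N16979 (iv F222892)) (tt N17064 (iv F223241)) (tt N12573 F213059) (tt N17066 D49836) (tt N12572 (iv D47599)) (tt N17067 D49837) (tt N13449 F213060) (tt N17058 (iv F223227)) (tt N17028 (iv F223112)) (tt N17068 D49838))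
theorem Q14831 : ∀ i, i < 14831 → P i := stepQ 14830 Q14830 (allL N14830 (tt N16980 (iv F222896)) (tt N17065 (iv F223243)) (tt N12574 F213061) (tt N12612 F213062) (tt N17068 (iv F223252)) (tt N12580 F213063) (tt N13450 F213064) (tt N17059 (iv F223231)) (tt N17069 D49839) (tt N12572 (iv D47600)))
theorem Q14832 : ∀ i, i < 14832 → P i := stepQ 14831 Q14831 (allL N14831 (tt N16981 (iv F222901)) (tt N16319 (iv F219672)) (tt N17067 (iv F223249)) (tt N16780 (iv F221976)) (tt N12581 F213065) (tt N12573 (iv D47601)) (tt N17070 D49840) (tt N17060 (iv F223233)) (tt N17030 (iv F223119)) (tt N17071 D49841))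
theorem Q14833 : ∀ i, i < 14833 → P i := stepQ 14832 Q14832 (allL N14832 (tt N16982 (iv F222903)) (tt N16320 (iv F219674)) (tt N17068 (iv F223251)) (tt N16781 (iv F221978)) (tt N12574 F213066) (tt N17071 (iv F223260)) (tt N13452 F213067) (tt N17061 (iv F223235)) (tt N17072 D49842) (tt N12573 (iv D47602)))
theorem Q14834 : ∀ i, i < 14834 → P i := stepQ 14833 Q14833 (allL N14833 (tt N16983 (iv F222906)) (tt N16321 (iv F219677)) (tt N17069 (iv F223254)) (tt N16904 (iv F222537)) (tt N17072 (iv F223261)) (tt N12583 F213068) (tt N13453 F213069) (tt N17062 (iv F223237)) (tt N12574 (iv D47603)) (tt N17032 (iv F223124)))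
theorem Q14835 : ∀ i, i < 14835 → P i := stepQ 14834 Q14834 (allL N14834 (tt N17073 D49843) (tt N12575 (iv D47604)) (tt N16322 (iv F219680)) (tt N12615 F213070) (tt N17074 D49844) (tt N17057 (iv F223224)) (tt N14834 F213071) (tt N12578 F213072) (tt N17033 (iv F223129)) (tt N17075 D49845))
theorem Q14836 : ∀ i, i < 14836 → P i := stepQ 14835 Q14835 (allL N14835 (tt N16984 (iv F222909)) (tt N17074 (iv F223268)) (tt N12576 F213073) (tt N14835 F213074) (tt N12575 (iv D47605)) (tt N17076 D49846) (tt N14835 F213075) (tt N12579 F213076) (tt N17034 (iv F223135)) (tt N17077 D49847))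
theorem Q14837 : ∀ i, i < 14837 → P i := stepQ 14836 Q14836 (allL N14836 (tt N16985 (iv F222916)) (tt N17075 (iv F223273)) (tt N12577 F213077) (tt N12616 F213078) (tt N17077 (iv F223282)) (tt N17059 (iv F223230)) (tt N14836 F213079) (tt N12580 F213080) (tt N17078 D49848) (tt N12575 (iv D47606)))
theorem Q14838 : ∀ i, i < 14838 → P i := stepQ 14837 Q14837 (allL N14837 (tt N16986 (iv F222922)) (tt N16324 (iv F219692)) (tt N17076 (iv F223277)) (tt N12593 F213081) (tt N17060 (iv F223232)) (tt N12576 (iv D47607)) (tt N17079 D49849) (tt N12581 F213082) (tt N17036 (iv F223143)) (tt N17080 D49850))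
theorem Q14839 : ∀ i, i < 14839 → P i := stepQ 14838 Q14838 (allL N14838 (tt N16987 (iv F222925)) (tt N16325 (iv F219697)) (tt N17077 (iv F223280)) (tt N12594 F213083) (tt N12577 F213084) (tt N17080 (iv F223291)) (tt N14838 F213085) (tt N12582 F213086) (tt N17081 D49851) (tt N12576 (iv D47608)))
theorem Q14840 : ∀ i, i < 14840 → P i := stepQ 14839 Q14839 (allL N14839 (tt N16988 (iv F222930)) (tt N16326 (iv F219703)) (tt N17078 (iv F223285)) (tt N16908 (iv F222555)) (tt N17081 (iv F223293)) (tt N17062 (iv F223236)) (tt N14839 F213087) (tt N12583 F213088) (tt N12577 (iv D47609)) (tt N17038 (iv F223150)))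
theorem Q14841 : ∀ i, i < 14841 → P i := stepQ 14840 Q14840 (allL N14840 (tt N12578 (iv D47610)) (tt N16300 (iv F219589)) (tt N16327 (iv F219707)) (tt N12618 F213089) (tt N16299 F219587) (tt N17063 (iv F223239)) (tt N12584 F213090) (tt N17073 (iv F223266)) (tt N16328 (iv F219718)) (tt N17082 D49852))
theorem Q14842 : ∀ i, i < 14842 → P i := stepQ 14841 Q14841 (allL N14841 (tt N16299 (iv F219582)) (tt N12579 F213091) (tt N16328 (iv F219714)) (tt N14841 F213092) (tt N12578 (iv D47611)) (tt N17083 D49853) (tt N12585 F213093) (tt N17074 (iv F223272)) (tt N16327 (iv F219710)) (tt N17084 D49854))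
theorem Q14843 : ∀ i, i < 14843 → P i := stepQ 14842 Q14842 (allL N14842 (tt N17082 (iv F223296)) (tt N12580 F213094) (tt N16329 (iv F219720)) (tt N12619 F213095) (tt N17084 (iv F223303)) (tt N17065 (iv F223245)) (tt N12586 F213096) (tt N17075 (iv F223276)) (tt N17085 D49855) (tt N12578 (iv D47612)))
theorem Q14844 : ∀ i, i < 14844 → P i := stepQ 14843 Q14843 (allL N14843 (tt N16990 (iv F222937)) (tt N17083 (iv F223299)) (tt N12581 F213097) (tt N14843 F213098) (tt N17067 (iv F223250)) (tt N12579 (iv D47613)) (tt N17086 D49856) (tt N17076 (iv F223279)) (tt N17040 (iv F223157)) (tt N17087 D49857))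
theorem Q14845 : ∀ i, i < 14845 → P i := stepQ 14844 Q14844 (allL N14844 (tt N16991 (iv F222941)) (tt N17084 (iv F223301)) (tt N12582 F213099) (tt N14844 F213100) (tt N12580 F213101) (tt N17087 (iv F223312)) (tt N12588 F213102) (tt N17077 (iv F223284)) (tt N17088 D49858) (tt N12579 (iv D47614)))
theorem Q14846 : ∀ i, i < 14846 → P i := stepQ 14845 Q14845 (allL N14845 (tt N16992 (iv F222946)) (tt N17085 (iv F223305)) (tt N12583 F213103) (tt N17089 D49859) (tt N17088 (iv F223314)) (tt N17069 (iv F223255)) (tt N12589 F213104) (tt N17078 (iv F223287)) (tt N12580 (iv D47615)) (tt N17042 (iv F223167)))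
theorem Q14847 : ∀ i, i < 14847 → P i := stepQ 14846 Q14846 (allL N14846 (tt N16182 (iv F218892)) (tt N16333 (iv F219735)) (tt N17086 (iv F223307)) (tt N12596 F213105) (tt N17070 (iv F223257)) (tt N12590 F213106) (tt N12581 (iv D47616)) (tt N17090 D49860) (tt N17043 (iv F223170)) (tt N17091 D49861))
theorem Q14848 : ∀ i, i < 14848 → P i := stepQ 14847 Q14847 (allL N14847 (tt N16993 (iv F222951)) (tt N16334 (iv F219738)) (tt N17087 (iv F223310)) (tt N12597 F213107) (tt N17071 (iv F223259)) (tt N12582 F213108) (tt N17091 (iv F223325)) (tt N17080 (iv F223292)) (tt N17092 D49862) (tt N12581 (iv D47617)))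
theorem Q14849 : ∀ i, i < 14849 → P i := stepQ 14848 Q14848 (allL N14848 (tt N16994 (iv F222954)) (tt N16335 (iv F219741)) (tt N17088 (iv F223313)) (tt N17093 D49863) (tt N12583 F213109) (tt N17092 (iv F223326)) (tt N12592 F213110) (tt N17081 (iv F223295)) (tt N12582 (iv D47618)) (tt N17045 (iv F223175)))
theorem Q14850 : ∀ i, i < 14850 → P i := stepQ 14849 Q14849 (allL N14849 (tt N12586 F213111) (tt N16306 (iv F219616)) (tt N16336 (iv F219746)) (tt N12621 F213112) (tt N16305 (iv F219612)) (tt N13470 F213113) (tt N17082 (iv F223298)) (tt N14849 F213114) (tt N17094 D49864) (tt N12584 (iv D47619)))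
theorem Q14851 : ∀ i, i < 14851 → P i := stepQ 14850 Q14850 (allL N14850 (tt N12969 F213115) (tt N12587 F213116) (tt N13434 F213117) (tt N14850 F213118) (tt N13471 F213119) (tt N12585 (iv D47620)) (tt N17095 D49865) (tt N14850 F213120) (tt N12990 F213121) (tt N17096 D49866))
theorem Q14852 : ∀ i, i < 14852 → P i := stepQ 14851 Q14851 (allL N14851 (tt N16305 (iv F219608)) (tt N12588 F213122) (tt N16337 (iv F219753)) (tt N14851 F213123) (tt N12586 F213124) (tt N17096 (iv F223343)) (tt N17084 (iv F223304)) (tt N14851 F213125) (tt N17097 D49867) (tt N12585 (iv D47621)))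
theorem Q14853 : ∀ i, i < 14853 → P i := stepQ 14852 Q14852 (allL N14852 (tt N17094 (iv F223329)) (tt N12589 F213126) (tt N16338 (iv F219759)) (tt N17098 D49868) (tt N17097 (iv F223346)) (tt N13473 F213127) (tt N17085 (iv F223306)) (tt N14852 F213128) (tt N12586 (iv D47622)) (tt N17046 (iv F223180)))
theorem Q14854 : ∀ i, i < 14854 → P i := stepQ 14853 Q14853 (allL N14853 (tt N16180 (iv F218882)) (tt N17095 (iv F223333)) (tt N12590 F213129) (tt N14853 F213130) (tt N13474 F213131) (tt N17086 (iv F223309)) (tt N12587 (iv D47623)) (tt N17099 D49869) (tt N17047 (iv F223186)) (tt N17100 D49870))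
theorem Q14855 : ∀ i, i < 14855 → P i := stepQ 14854 Q14854 (allL N14854 (tt N16186 (iv F218912)) (tt N17096 (iv F223339)) (tt N12591 F213132) (tt N14854 F213133) (tt N13475 F213134) (tt N12588 F213135) (tt N17100 (iv F223360)) (tt N14854 F213136) (tt N17101 D49871) (tt N12587 (iv D47624)))
theorem Q14856 : ∀ i, i < 14856 → P i := stepQ 14855 Q14855 (allL N14855 (tt N16996 (iv F222962)) (tt N17097 (iv F223345)) (tt N12592 F213137) (tt N17102 D49872) (tt N12589 F213138) (tt N17101 (iv F223363)) (tt N17088 (iv F223315)) (tt N14855 F213139) (tt N12588 (iv D47625)) (tt N17049 (iv F223198)))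
theorem Q14857 : ∀ i, i < 14857 → P i := stepQ 14856 Q14856 (allL N14856 (tt N13439 F213140) (tt N17098 (iv F223348)) (tt N13386 F213141) (tt N12589 (iv D47626)) (tt N17103 D49873) (tt N13477 F213142) (tt N17089 (iv F223318)) (tt N14856 F213143) (tt N12623 F213144) (tt N13400 F213145))
theorem Q14858 : ∀ i, i < 14858 → P i := stepQ 14857 Q14857 (allL N14857 (tt N16177 (iv F218865)) (tt N16343 (iv F219783)) (tt N17099 (iv F223353)) (tt N12599 F213146) (tt N13478 F213147) (tt N17090 (iv F223322)) (tt N14857 F213148) (tt N12590 (iv D47627)) (tt N17050 (iv F223202)) (tt N17104 D49874))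
theorem Q14859 : ∀ i, i < 14859 → P i := stepQ 14858 Q14858 (allL N14858 (tt N16183 (iv F218896)) (tt N16344 (iv F219787)) (tt N17100 (iv F223357)) (tt N12600 F213149) (tt N13479 F213150) (tt N17091 (iv F223324)) (tt N12591 F213151) (tt N17104 (iv F223375)) (tt N17105 D49875) (tt N12590 (iv D47628)))
theorem Q14860 : ∀ i, i < 14860 → P i := stepQ 14859 Q14859 (allL N14859 (tt N16188 (iv F218923)) (tt N16345 (iv F219791)) (tt N17101 (iv F223361)) (tt N17106 D49876) (tt N13480 F213152) (tt N12592 F213153) (tt N17105 (iv F223377)) (tt N14859 F213154) (tt N12591 (iv D47629)) (tt N17052 (iv F223209)))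
theorem Q14861 : ∀ i, i < 14861 → P i := stepQ 14860 Q14860 (allL N14860 (tt N16997 (iv F222967)) (tt N16346 (iv F219795)) (tt N17107 D49877) (tt N12592 (iv D47630)) (tt N16921 (iv F222616)) (tt N17106 (iv F223378)) (tt N17093 (iv F223327)) (tt N14860 F213155) (tt N12602 F213156) (tt N17053 (iv F223212)))
theorem Q14862 : ∀ i, i < 14862 → P i := stepQ 14861 Q14861 (allL N14861 (tt N16998 (iv F222970)) (tt N16347 (iv F219799)) (tt N14861 F213157) (tt N17079 (iv F223288)) (tt N16735 (iv F221795)) (tt N14861 F213158) (tt N12593 (iv D47631)) (tt N17108 D49878) (tt N14861 F213159) (tt N17109 D49879))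
theorem Q14863 : ∀ i, i < 14863 → P i := stepQ 14862 Q14862 (allL N14862 (tt N16999 (iv F222974)) (tt N16348 (iv F219805)) (tt N14862 F213160) (tt N17080 (iv F223290)) (tt N16808 (iv F222067)) (tt N12594 F213161) (tt N17109 (iv F223389)) (tt N12597 F213162) (tt N17110 D49880) (tt N12593 (iv D47632)))
theorem Q14864 : ∀ i, i < 14864 → P i := stepQ 14863 Q14863 (allL N14863 (tt N17000 (iv F222978)) (tt N16349 (iv F219811)) (tt N14863 F213163) (tt N17111 D49881) (tt N12595 F213164) (tt N17110 (iv F223391)) (tt N14863 F213165) (tt N12598 F213166) (tt N12594 (iv D47633)) (tt N14863 F213167))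
theorem Q14865 : ∀ i, i < 14865 → P i := stepQ 14864 Q14864 (allL N14864 (tt N16189 (iv F218928)) (tt N16350 (iv F219817)) (tt N14864 F213168) (tt N17090 (iv F223321)) (tt N16810 (iv F222077)) (tt N12599 F213169) (tt N17108 (iv F223385)) (tt N12596 (iv D47634)) (tt N14864 F213170) (tt N17112 D49882))
theorem Q14866 : ∀ i, i < 14866 → P i := stepQ 14865 Q14865 (allL N14865 (tt N16192 (iv F218947)) (tt N16351 (iv F219820)) (tt N14865 F213171) (tt N17091 (iv F223323)) (tt N16811 (iv F222081)) (tt N12600 F213172) (tt N12597 F213173) (tt N17112 (iv F223399)) (tt N17113 D49883) (tt N12596 (iv D47635)))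
theorem Q14867 : ∀ i, i < 14867 → P i := stepQ 14866 Q14866 (allL N14866 (tt N17001 (iv F222984)) (tt N16352 (iv F219823)) (tt N14866 F213174) (tt N17114 D49884) (tt N16812 (iv F222085)) (tt N12598 F213175) (tt N17113 (iv F223402)) (tt N17110 (iv F223392)) (tt N12597 (iv D47636)) (tt N14866 F213176))
theorem Q14868 : ∀ i, i < 14868 → P i := stepQ 14867 Q14867 (allL N14867 (tt N17002 (iv F222988)) (tt N16353 (iv F219826)) (tt N17115 D49885) (tt N12598 (iv D47637)) (tt N16928 (iv F222643)) (tt N17114 (iv F223404)) (tt N12602 F213177) (tt N17111 (iv F223395)) (tt N17093 (iv F223328)) (tt N14867 F213178))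
theorem Q14869 : ∀ i, i < 14869 → P i := stepQ 14868 Q14868 (allL N14868 (tt N16190 (iv F218933)) (tt N16354 (iv F219829)) (tt N14868 F213179) (tt N17104 (iv F223372)) (tt N12603 F213180) (tt N17112 (iv F223398)) (tt N14868 F213181) (tt N12600 F213182) (tt N17116 D49886) (tt N12599 (iv D47638)))
theorem Q14870 : ∀ i, i < 14870 → P i := stepQ 14869 Q14869 (allL N14869 (tt N16193 (iv F218952)) (tt N16355 (iv F219833)) (tt N14869 F213183) (tt N17117 D49887) (tt N12604 F213184) (tt N17113 (iv F223401)) (tt N12601 F213185) (tt N17116 (iv F223412)) (tt N12600 (iv D47639)) (tt N14869 F213186))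
theorem Q14871 : ∀ i, i < 14871 → P i := stepQ 14870 Q14870 (allL N14870 (tt N16194 (iv F218958)) (tt N16356 (iv F219837)) (tt N17118 D49888) (tt N12601 (iv D47640)) (tt N16279 (iv F219475)) (tt N12602 F213187) (tt N17117 (iv F223414)) (tt N14870 F213188) (tt N17106 (iv F223380)) (tt N14870 F213189))
theorem Q14872 : ∀ i, i < 14872 → P i := stepQ 14871 Q14871 (allL N14871 (tt N17003 (iv F222991)) (tt N17119 D49889) (tt N12602 (iv D47641)) (tt N14871 F213190) (tt N16932 (iv F222660)) (tt N17118 (iv F223418)) (tt N17115 (iv F223407)) (tt N14871 F213191) (tt N17107 (iv F223382)) (tt N14871 F213192))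
theorem Q14873 : ∀ i, i < 14873 → P i := stepQ 14872 Q14872 (allL N14872 (tt N16191 (iv F218939)) (tt N16358 (iv F219845)) (tt N14872 F213193) (tt N13644 F213194) (tt N17116 (iv F223410)) (tt N13650 F213195) (tt N14872 F213196) (tt N12604 F213197) (tt N12603 (iv D47642)) (tt N14872 F213198))
theorem Q14874 : ∀ i, i < 14874 → P i := stepQ 14873 Q14873 (allL N14873 (tt N17004 (iv F222995)) (tt N17120 D49890) (tt N12605 (iv D47643)) (tt N17054 (iv F223213)) (tt N17121 D49891) (tt N14873 F213199) (tt N12607 F213200) (tt N13486 F213201) (tt N12695 F213202) (tt N17122 D49892))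
theorem Q14875 : ∀ i, i < 14875 → P i := stepQ 14874 Q14874 (allL N14874 (tt N17005 (iv F223001)) (tt N12625 F213203) (tt N17121 (iv F223434)) (tt N16664 (iv F221479)) (tt N12605 (iv D47644)) (tt N12725 (iv F213207)) (tt N12608 F213204) (tt N12721 F213205) (tt N12696 F213206) (tt N17123 D49893))
theorem Q14876 : ∀ i, i < 14876 → P i := stepQ 14875 Q14875 (allL N14875 (tt N17006 (iv F223007)) (tt N12626 F213208) (tt N17122 (iv F223439)) (tt N12606 F213209) (tt N17123 (iv F223444)) (tt N14875 F213210) (tt N12609 F213211) (tt N13487 F213212) (tt N17124 D49894) (tt N12605 (iv D47645)))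
theorem Q14877 : ∀ i, i < 14877 → P i := stepQ 14876 Q14876 (allL N14876 (tt N17125 D49895) (tt N12607 (iv D47646)) (tt N12627 F213213) (tt N17057 (iv F223223)) (tt N17126 D49896) (tt N12615 F213214) (tt N17120 (iv F223428)) (tt N12610 F213215) (tt N12698 F213216) (tt N17127 D49897))
theorem Q14878 : ∀ i, i < 14878 → P i := stepQ 14877 Q14877 (allL N14877 (tt N17007 (iv F223014)) (tt N17126 (iv F223465)) (tt N12608 F213217) (tt N17128 D49898) (tt N12607 (iv D47647)) (tt N14877 F213218) (tt N17121 (iv F223435)) (tt N12611 F213219) (tt N12699 F213220) (tt N17129 D49899))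
theorem Q14879 : ∀ i, i < 14879 → P i := stepQ 14878 Q14878 (allL N14878 (tt N17008 (iv F223020)) (tt N17127 (iv F223471)) (tt N12609 F213221) (tt N17059 (iv F223229)) (tt N17129 (iv F223478)) (tt N12616 F213222) (tt N17122 (iv F223441)) (tt N12612 F213223) (tt N17130 D49900) (tt N12607 (iv D47648)))
theorem Q14880 : ∀ i, i < 14880 → P i := stepQ 14879 Q14879 (allL N14879 (tt N17009 (iv F223026)) (tt N12630 F213224) (tt N17129 (iv F223477)) (tt N16820 (iv F222114)) (tt N12609 F213225) (tt N14879 F213226) (tt N17123 (iv F223446)) (tt N12613 F213227) (tt N17131 D49901) (tt N12608 (iv D47649)))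
theorem Q14881 : ∀ i, i < 14881 → P i := stepQ 14880 Q14880 (allL N14880 (tt N13548 F213228) (tt N12631 F213229) (tt N17130 (iv F223482)) (tt N13531 F213230) (tt N17131 (iv F223488)) (tt N12617 F213231) (tt N17124 (iv F223454)) (tt N12614 F213232) (tt N12609 (iv D47650)) (tt N12702 F213233))
theorem Q14882 : ∀ i, i < 14882 → P i := stepQ 14881 Q14881 (allL N14881 (tt N12610 (iv D47651)) (tt N17010 (iv F223032)) (tt N12632 F213234) (tt N17063 (iv F223238)) (tt N17132 D49902) (tt N12618 F213235) (tt N13493 F213236) (tt N17125 (iv F223461)) (tt N12703 F213237) (tt N17133 D49903))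
theorem Q14883 : ∀ i, i < 14883 → P i := stepQ 14882 Q14882 (allL N14882 (tt N17132 (iv F223493)) (tt N12611 F213238) (tt N12633 F213239) (tt N17134 D49904) (tt N12610 (iv D47652)) (tt N14882 F213240) (tt N13494 F213241) (tt N17126 (iv F223469)) (tt N12704 F213242) (tt N17135 D49905))
theorem Q14884 : ∀ i, i < 14884 → P i := stepQ 14883 Q14883 (allL N14883 (tt N17133 (iv F223499)) (tt N12612 F213243) (tt N12634 F213244) (tt N17065 (iv F223244)) (tt N17135 (iv F223508)) (tt N12619 F213245) (tt N13495 F213246) (tt N17127 (iv F223474)) (tt N17136 D49906) (tt N12610 (iv D47653)))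
theorem Q14885 : ∀ i, i < 14885 → P i := stepQ 14884 Q14884 (allL N14884 (tt N17013 (iv F223050)) (tt N17134 (iv F223503)) (tt N16825 (iv F222138)) (tt N12611 (iv D47654)) (tt N17066 (iv F223247)) (tt N14884 F213247) (tt N13496 F213248) (tt N17128 (iv F223476)) (tt N17137 D49907) (tt N17138 D49908))
theorem Q14886 : ∀ i, i < 14886 → P i := stepQ 14885 Q14885 (allL N14885 (tt N17014 (iv F223053)) (tt N17135 (iv F223506)) (tt N12613 F213249) (tt N17138 (iv F223521)) (tt N12612 F213250) (tt N14885 F213251) (tt N13497 F213252) (tt N17129 (iv F223480)) (tt N17139 D49909) (tt N12611 (iv D47655)))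
theorem Q14887 : ∀ i, i < 14887 → P i := stepQ 14886 Q14886 (allL N14886 (tt N13551 F213253) (tt N17136 (iv F223512)) (tt N12614 F213254) (tt N17140 D49910) (tt N17139 (iv F223527)) (tt N12620 F213255) (tt N13498 F213256) (tt N17130 (iv F223484)) (tt N12612 (iv D47656)) (tt N12708 F213257))
theorem Q14888 : ∀ i, i < 14888 → P i := stepQ 14887 Q14887 (allL N14887 (tt N13552 F213258) (tt N12638 F213259) (tt N17139 (iv F223526)) (tt N17141 D49911) (tt N12614 F213260) (tt N14887 F213261) (tt N13499 F213262) (tt N17131 (iv F223491)) (tt N12613 (iv D47657)) (tt N12709 F213263))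
theorem Q14889 : ∀ i, i < 14889 → P i := stepQ 14888 Q14888 (allL N14888 (tt N12615 (iv D47658)) (tt N13753 F213264) (tt N12639 F213265) (tt N17073 (iv F223264)) (tt N14888 F213266) (tt N17125 (iv F223459)) (tt N14888 F213267) (tt N12618 F213268) (tt N12710 F213269) (tt N17142 D49912))
theorem Q14890 : ∀ i, i < 14890 → P i := stepQ 14889 Q14889 (allL N14889 (tt N17142 (iv F223542)) (tt N12616 F213270) (tt N12640 F213271) (tt N17075 (iv F223274)) (tt N14889 F213272) (tt N17127 (iv F223473)) (tt N14889 F213273) (tt N12619 F213274) (tt N17143 D49913) (tt N12615 (iv D47659)))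
theorem Q14891 : ∀ i, i < 14891 → P i := stepQ 14890 Q14890 (allL N14890 (tt N13554 F213275) (tt N17143 (iv F223548)) (tt N12617 F213276) (tt N17144 D49914) (tt N14890 F213277) (tt N17130 (iv F223483)) (tt N14890 F213278) (tt N12620 F213279) (tt N12616 (iv D47660)) (tt N12712 F213280))
theorem Q14892 : ∀ i, i < 14892 → P i := stepQ 14891 Q14891 (allL N14891 (tt N12619 F213281) (tt N17015 (iv F223060)) (tt N12642 F213282) (tt N17082 (iv F223297)) (tt N14891 F213283) (tt N17133 (iv F223501)) (tt N12621 F213284) (tt N17142 (iv F223547)) (tt N17145 D49915) (tt N12618 (iv D47661)))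
theorem Q14893 : ∀ i, i < 14893 → P i := stepQ 14892 Q14892 (allL N14892 (tt N17145 (iv F223559)) (tt N12620 F213285) (tt N12643 F213286) (tt N17146 D49916) (tt N14892 F213287) (tt N17136 (iv F223515)) (tt N12622 F213288) (tt N17143 (iv F223552)) (tt N12619 (iv D47662)) (tt N12714 F213289))
theorem Q14894 : ∀ i, i < 14894 → P i := stepQ 14893 Q14893 (allL N14893 (tt N13430 F213290) (tt N17146 (iv F223565)) (tt N13385 F213291) (tt N12620 (iv D47663)) (tt N17147 D49917) (tt N17140 (iv F223533)) (tt N12623 F213292) (tt N17144 (iv F223557)) (tt N17089 (iv F223319)) (tt N12715 F213293))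
theorem Q14895 : ∀ i, i < 14895 → P i := stepQ 14894 Q14894 (allL N14894 (tt N12622 F213294) (tt N13557 F213295) (tt N12645 F213296) (tt N16340 (iv F219771)) (tt N14894 F213297) (tt N13506 F213298) (tt N17145 (iv F223563)) (tt N14894 F213299) (tt N12621 (iv D47664)) (tt N12716 F213300))
theorem Q14896 : ∀ i, i < 14896 → P i := stepQ 14895 Q14895 (allL N14895 (tt N16340 (iv F219768)) (tt N12623 F213301) (tt N16271 (iv F219429)) (tt N12622 (iv D47665)) (tt N16861 (iv F222343)) (tt N13507 F213302) (tt N17146 (iv F223566)) (tt N14895 F213303) (tt N17098 (iv F223351)) (tt N12717 F213304))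
theorem Q14897 : ∀ i, i < 14897 → P i := stepQ 14896 Q14896 (allL N14896 (tt N13438 F213305) (tt N16861 (iv F222340)) (tt N12876 F213306) (tt N14896 F213307) (tt N12623 (iv D47666)) (tt N16167 (iv F218816)) (tt N17147 (iv F223571)) (tt N14896 F213308) (tt N17103 (iv F223370)) (tt N12718 F213309))
theorem Q14898 : ∀ i, i < 14898 → P i := stepQ 14897 Q14897 (allL N14897 (tt N13547 F213315) (tt N12624 (iv D47667)) (tt N17120 (iv F223426)) (tt N16212 (iv F219075)) (tt N12702 F213310) (tt N14897 F213311) (tt N12627 F213312) (tt N12709 F213313) (tt N12701 F213314) (tt N17131 (iv F223492)))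
theorem Q14899 : ∀ i, i < 14899 → P i := stepQ 14898 Q14898 (allL N14898 (tt N14898 F213316) (tt N17131 (iv F223487)) (tt N12626 F213317) (tt N16214 (iv F219088)) (tt N12631 F213318) (tt N14898 F213319) (tt N12629 F213320) (tt N12638 F213321) (tt N12630 F213322) (tt N12624 (iv D47668)))
theorem Q14900 : ∀ i, i < 14900 → P i := stepQ 14899 Q14899 (allL N14899 (tt N14899 F213323) (tt N17123 (iv F223443)) (tt N12631 F213324) (tt N16666 (iv F221491)) (tt N12626 F213325) (tt N12641 F213326) (tt N12630 F213327) (tt N12637 F213328) (tt N12629 F213329) (tt N12625 (iv D47669)))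
theorem Q14901 : ∀ i, i < 14901 → P i := stepQ 14900 Q14900 (allL N14900 (tt N14900 F213330) (tt N17124 (iv F223450)) (tt N12630 F213331) (tt N13362 F213332) (tt N12629 F213333) (tt N14900 F213334) (tt N12631 F213335) (tt N12636 F213336) (tt N12626 (iv D47670)) (tt N12628 F213337))
theorem Q14902 : ∀ i, i < 14902 → P i := stepQ 14901 Q14901 (allL N14901 (tt N12627 (iv D47671)) (tt N14901 F213338) (tt N17125 (iv F223458)) (tt N16378 (iv F219949)) (tt N13544 (iv F213343)) (tt N12639 F213339) (tt N13547 F213340) (tt N12632 F213341) (tt N12719 F213342) (tt N17148 D49918))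
theorem Q14903 : ∀ i, i < 14903 → P i := stepQ 14902 Q14902 (allL N14902 (tt N13544 F213344) (tt N12628 F213345) (tt N17126 (iv F223466)) (tt N13360 F213346) (tt N12627 (iv D47672)) (tt N14902 F213347) (tt N12702 F213348) (tt N12633 F213349) (tt N12697 F213350) (tt N17124 (iv F223456)))
theorem Q14904 : ∀ i, i < 14904 → P i := stepQ 14903 Q14903 (allL N14903 (tt N17148 (iv F223573)) (tt N12629 F213351) (tt N17127 (iv F223472)) (tt N16379 (iv F219956)) (tt N17124 (iv F223452)) (tt N12640 F213352) (tt N17131 (iv F223490)) (tt N12634 F213353) (tt N17123 (iv F223448)) (tt N12627 (iv D47673)))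
theorem Q14905 : ∀ i, i < 14905 → P i := stepQ 14904 Q14904 (allL N14904 (tt N12633 F213354) (tt N14904 F213355) (tt N17132 (iv F223494)) (tt N12677 (iv F213360)) (tt N12632 (iv D47674)) (tt N14904 F213356) (tt N12678 F213357) (tt N13544 F213358) (tt N12689 F213359) (tt N17149 D49919))
theorem Q14906 : ∀ i, i < 14906 → P i := stepQ 14905 Q14905 (allL N14905 (tt N12634 F213361) (tt N14905 F213362) (tt N17133 (iv F223500)) (tt N16382 (iv F219975)) (tt N17149 (iv F223582)) (tt N12642 F213363) (tt N13509 F213364) (tt N17148 (iv F223578)) (tt N17150 D49920) (tt N12632 (iv D47675)))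
theorem Q14907 : ∀ i, i < 14907 → P i := stepQ 14906 Q14906 (allL N14906 (tt N12677 F213365) (tt N12635 F213366) (tt N16962 (iv F222812)) (tt N12633 (iv D47676)) (tt N13355 F213367) (tt N14906 F213368) (tt N12664 F213369) (tt N13360 F213370) (tt N12663 F213371) (tt N17151 D49921))
theorem Q14908 : ∀ i, i < 14908 → P i := stepQ 14907 Q14907 (allL N14907 (tt N17149 (iv F223579)) (tt N12636 F213372) (tt N17135 (iv F223507)) (tt N17151 (iv F223595)) (tt N12634 F213373) (tt N14907 F213374) (tt N13492 F213375) (tt N17124 (iv F223455)) (tt N13487 F213376) (tt N12633 (iv D47677)))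
theorem Q14909 : ∀ i, i < 14909 → P i := stepQ 14908 Q14908 (allL N14908 (tt N17150 (iv F223587)) (tt N12637 F213377) (tt N17136 (iv F223513)) (tt N17152 D49922) (tt N13487 F213378) (tt N12643 F213379) (tt N13491 F213380) (tt N17123 (iv F223447)) (tt N12634 (iv D47678)) (tt N12721 F213381))
theorem Q14910 : ∀ i, i < 14910 → P i := stepQ 14909 Q14909 (allL N14909 (tt N14909 F213382) (tt N17151 (iv F223594)) (tt N13357 F213383) (tt N12636 F213384) (tt N13356 F213385) (tt N14909 F213386) (tt N13358 F213387) (tt N13362 F213388) (tt N13354 F213389) (tt N12635 (iv D47679)))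
theorem Q14911 : ∀ i, i < 14911 → P i := stepQ 14910 Q14910 (allL N14910 (tt N14910 F213390) (tt N17152 (iv F223601)) (tt N16661 (iv F221459)) (tt N12637 (iv D47680)) (tt N13274 F213391) (tt N12644 F213392) (tt N13278 F213393) (tt N16666 (iv F221495)) (tt N16386 (iv F220000)) (tt N12722 F213394))
theorem Q14912 : ∀ i, i < 14912 → P i := stepQ 14911 Q14911 (allL N14911 (tt N14911 F213395) (tt N17141 (iv F223537)) (tt N13025 F213396) (tt N12638 (iv D47681)) (tt N16210 (iv F219062)) (tt N14911 F213397) (tt N13028 F213398) (tt N16214 (iv F219092)) (tt N16842 (iv F222226)) (tt N12723 F213399))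
theorem Q14913 : ∀ i, i < 14913 → P i := stepQ 14912 Q14912 (allL N14912 (tt N12640 F213400) (tt N14912 F213401) (tt N17142 (iv F223544)) (tt N16387 (iv F220004)) (tt N14912 F213402) (tt N17148 (iv F223576)) (tt N14912 F213403) (tt N12642 F213404) (tt N17153 D49923) (tt N12639 (iv D47682)))
theorem Q14914 : ∀ i, i < 14914 → P i := stepQ 14913 Q14913 (allL N14913 (tt N17153 (iv F223606)) (tt N12641 F213405) (tt N17143 (iv F223549)) (tt N17154 D49924) (tt N14913 F213406) (tt N17123 (iv F223445)) (tt N14913 F213407) (tt N12643 F213408) (tt N12640 (iv D47683)) (tt N12725 F213409))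
theorem Q14915 : ∀ i, i < 14915 → P i := stepQ 14914 Q14914 (allL N14914 (tt N14914 F213410) (tt N17154 (iv F223612)) (tt N16552 (iv F220951)) (tt N12641 (iv D47684)) (tt N16551 (iv F220945)) (tt N16666 (iv F221493)) (tt N14914 F213411) (tt N12644 F213412) (tt N16389 (iv F220014)) (tt N12726 F213413))
theorem Q14916 : ∀ i, i < 14916 → P i := stepQ 14915 Q14915 (allL N14915 (tt N12643 F213414) (tt N14915 F213415) (tt N17145 (iv F223561)) (tt N16000 (iv F217739)) (tt N14915 F213416) (tt N17150 (iv F223590)) (tt N12645 F213417) (tt N17153 (iv F223610)) (tt N12642 (iv D47685)) (tt N12727 F213418))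
theorem Q14917 : ∀ i, i < 14917 → P i := stepQ 14916 Q14916 (allL N14916 (tt N16000 (iv F217736)) (tt N12644 F213419) (tt N16277 (iv F219463)) (tt N12643 (iv D47686)) (tt N15993 (iv F217690)) (tt N17152 (iv F223603)) (tt N12646 F213420) (tt N17154 (iv F223614)) (tt N16391 (iv F220022)) (tt N12728 F213421))
theorem Q14918 : ∀ i, i < 14918 → P i := stepQ 14917 Q14917 (allL N14917 (tt N14917 F213422) (tt N15993 (iv F217687)) (tt N16550 (iv F220936)) (tt N14917 F213423) (tt N12644 (iv D47687)) (tt N16554 (iv F220966)) (tt N12647 F213424) (tt N16551 (iv F220948)) (tt N16392 (iv F220028)) (tt N12729 F213425))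
theorem Q14919 : ∀ i, i < 14919 → P i := stepQ 14918 Q14918 (allL N14918 (tt N13520 F213426) (tt N14918 F213427) (tt N16223 (iv F219149)) (tt N14918 F213428) (tt N12650 F213429) (tt N13525 (iv F213432)) (tt N12648 (iv D47688)) (tt N13513 F213430) (tt N17155 D49925) (tt N12673 F213431))
theorem Q14920 : ∀ i, i < 14920 → P i := stepQ 14919 Q14919 (allL N14919 (tt N13343 F213433) (tt N14919 F213434) (tt N16880 (iv F222434)) (tt N16837 (iv F222191)) (tt N12651 F213435) (tt N14919 F213436) (tt N17155 (iv F223620)) (tt N12649 F213437) (tt N12648 (iv D47689)) (tt N17156 D49926))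
theorem Q14921 : ∀ i, i < 14921 → P i := stepQ 14920 Q14920 (allL N14920 (tt N13174 F213438) (tt N14920 F213439) (tt N16922 (iv F222620)) (tt N12649 (iv D47690)) (tt N13141 F213440) (tt N14920 F213441) (tt N13515 F213442) (tt N16837 (iv F222194)) (tt N14920 F213443) (tt N17157 D49927))
theorem Q14922 : ∀ i, i < 14922 → P i := stepQ 14921 Q14921 (allL N14921 (tt N13348 F213444) (tt N14921 F213445) (tt N16882 (iv F222442)) (tt N17157 (iv F223631)) (tt N12652 F213446) (tt N14921 F213447) (tt N13516 F213448) (tt N17156 (iv F223627)) (tt N12676 F213449) (tt N12649 (iv D47691)))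
theorem Q14923 : ∀ i, i < 14923 → P i := stepQ 14922 Q14922 (allL N14922 (tt N13340 F213450) (tt N14922 F213451) (tt N16883 (iv F222448)) (tt N13304 F213452) (tt N17155 (iv F223618)) (tt N14922 F213453) (tt N12651 F213454) (tt N13517 F213455) (tt N12650 (iv D47692)) (tt N17158 D49928))
theorem Q14924 : ∀ i, i < 14924 → P i := stepQ 14923 Q14923 (allL N14923 (tt N13344 F213456) (tt N14923 F213457) (tt N16885 (iv F222458)) (tt N13305 F213458) (tt N17156 (iv F223625)) (tt N12653 F213459) (tt N17158 (iv F223639)) (tt N12652 F213460) (tt N12679 F213461) (tt N12651 (iv D47693)))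
theorem Q14925 : ∀ i, i < 14925 → P i := stepQ 14924 Q14924 (allL N14924 (tt N12674 F213462) (tt N13034 F213463) (tt N16959 (iv F222796)) (tt N13032 (iv F213468)) (tt N12664 F213464) (tt N14924 F213465) (tt N13355 F213466) (tt N12662 F213467) (tt N12661 (iv D47694)) (tt N17159 D49929))
theorem Q14926 : ∀ i, i < 14926 → P i := stepQ 14925 Q14925 (allL N14925 (tt N12675 F213469) (tt N13027 F213470) (tt N17160 D49930) (tt N12662 (iv D47695)) (tt N13026 F213471) (tt N14925 F213472) (tt N13529 F213473) (tt N13032 F213474) (tt N14925 F213475) (tt N17161 D49931))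
theorem Q14927 : ∀ i, i < 14927 → P i := stepQ 14926 Q14926 (allL N14926 (tt N12676 F213476) (tt N13364 F213477) (tt N16961 (iv F222805)) (tt N17161 (iv F223659)) (tt N12665 F213478) (tt N14926 F213479) (tt N13530 F213480) (tt N17159 (iv F223648)) (tt N13348 F213481) (tt N12662 (iv D47696)))
theorem Q14928 : ∀ i, i < 14928 → P i := stepQ 14927 Q14927 (allL N14927 (tt N12679 F213482) (tt N13358 F213483) (tt N16964 (iv F222823)) (tt N13492 F213484) (tt N17159 (iv F223645)) (tt N12666 F213485) (tt N17151 (iv F223598)) (tt N12665 F213486) (tt N13344 F213487) (tt N12664 (iv D47697)))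
theorem Q14929 : ∀ i, i < 14929 → P i := stepQ 14928 Q14928 (allL N14928 (tt N12695 F213488) (tt N12706 (iv F213494)) (tt N12667 (iv D47698)) (tt N12704 F213489) (tt N17162 D49932) (tt N14928 F213490) (tt N12668 F213491) (tt N13532 F213492) (tt N17004 (iv F222999)) (tt N13558 F213493))
theorem Q14930 : ∀ i, i < 14930 → P i := stepQ 14929 Q14929 (allL N14929 (tt N12696 F213495) (tt N14929 F213496) (tt N17162 (iv F223666)) (tt N14929 F213497) (tt N12667 (iv D47699)) (tt N12724 (iv F213501)) (tt N12669 F213498) (tt N12720 F213499) (tt N17005 (iv F223005)) (tt N12719 F213500))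
theorem Q14931 : ∀ i, i < 14931 → P i := stepQ 14930 Q14930 (allL N14930 (tt N12699 F213502) (tt N13563 F213503) (tt N12669 F213504) (tt N13562 F213505) (tt N12668 (iv D47700)) (tt N14930 F213506) (tt N17162 (iv F223668)) (tt N12671 F213507) (tt N17007 (iv F223019)) (tt N13560 F213508))
theorem Q14932 : ∀ i, i < 14932 → P i := stepQ 14931 Q14931 (allL N14931 (tt N12670 (iv D47701)) (tt N12703 F213509) (tt N14931 F213510) (tt N13534 F213511) (tt N17163 D49933) (tt N12672 F213512) (tt N13535 F213513) (tt N13537 F213514) (tt N17010 (iv F223037)) (tt N13561 F213515))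
theorem Q14933 : ∀ i, i < 14933 → P i := stepQ 14932 Q14932 (allL N14932 (tt N17163 (iv F223672)) (tt N12671 F213516) (tt N14932 F213517) (tt N13560 F213518) (tt N12670 (iv D47702)) (tt N14932 F213519) (tt N13536 F213520) (tt N13563 F213521) (tt N17011 (iv F223043)) (tt N13562 F213522))
theorem Q14934 : ∀ i, i < 14934 → P i := stepQ 14933 Q14933 (allL N14933 (tt N12706 F213523) (tt N13560 F213524) (tt N14933 F213525) (tt N12671 (iv D47703)) (tt N13559 F213526) (tt N14933 F213527) (tt N13537 F213528) (tt N13562 F213529) (tt N17164 D49934) (tt N13563 F213530))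
theorem Q14935 : ∀ i, i < 14935 → P i := stepQ 14934 Q14934 (allL N14934 (tt N13355 F213531) (tt N14934 F213532) (tt N17016 (iv F223068)) (tt N16381 (iv F219968)) (tt N12677 F213533) (tt N13365 F213534) (tt N12674 F213535) (tt N13359 F213536) (tt N12673 (iv D47704)) (tt N17165 D49935))
theorem Q14936 : ∀ i, i < 14936 → P i := stepQ 14935 Q14935 (allL N14935 (tt N13032 F213537) (tt N14935 F213538) (tt N17166 D49936) (tt N12674 (iv D47705)) (tt N13031 F213539) (tt N14935 F213540) (tt N16381 (iv F219970)) (tt N12675 F213541) (tt N14935 F213542) (tt N17167 D49937))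
theorem Q14937 : ∀ i, i < 14937 → P i := stepQ 14936 Q14936 (allL N14936 (tt N17159 (iv F223642)) (tt N14936 F213543) (tt N17018 (iv F223075)) (tt N17167 (iv F223700)) (tt N12679 F213544) (tt N14936 F213545) (tt N17165 (iv F223691)) (tt N12676 F213546) (tt N17156 (iv F223628)) (tt N12674 (iv D47706)))
theorem Q14938 : ∀ i, i < 14938 → P i := stepQ 14937 Q14937 (allL N14937 (tt N17160 (iv F223650)) (tt N17168 D49938) (tt N12675 (iv D47707)) (tt N17019 (iv F223079)) (tt N17169 D49939) (tt N14937 F213547) (tt N13541 F213548) (tt N17166 (iv F223696)) (tt N14937 F213549) (tt N17170 D49940))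
theorem Q14939 : ∀ i, i < 14939 → P i := stepQ 14938 Q14938 (allL N14938 (tt N13026 F213550) (tt N14938 F213551) (tt N17169 (iv F223709)) (tt N12681 F213552) (tt N12675 (iv D47708)) (tt N13038 (iv F213556)) (tt N13542 F213553) (tt N13031 F213554) (tt N14938 F213555) (tt N17171 D49941))
theorem Q14940 : ∀ i, i < 14940 → P i := stepQ 14939 Q14939 (allL N14939 (tt N17161 (iv F223657)) (tt N14939 F213557) (tt N17170 (iv F223714)) (tt N12676 F213558) (tt N17171 (iv F223720)) (tt N14939 F213559) (tt N13543 F213560) (tt N17167 (iv F223703)) (tt N17172 D49942) (tt N12675 (iv D47709)))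
theorem Q14941 : ∀ i, i < 14941 → P i := stepQ 14940 Q14940 (allL N14940 (tt N17151 (iv F223593)) (tt N14940 F213561) (tt N17023 (iv F223091)) (tt N17149 (iv F223581)) (tt N17165 (iv F223689)) (tt N14940 F213562) (tt N12679 F213563) (tt N13545 F213564) (tt N17158 (iv F223641)) (tt N12677 (iv D47710)))
theorem Q14942 : ∀ i, i < 14942 → P i := stepQ 14941 Q14941 (allL N14941 (tt N13494 F213565) (tt N17173 D49943) (tt N12678 (iv D47711)) (tt N17024 (iv F223096)) (tt N13493 F213566) (tt N12683 F213567) (tt N17132 (iv F223496)) (tt N12680 F213568) (tt N12690 F213569) (tt N17174 D49944))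
theorem Q14943 : ∀ i, i < 14943 → P i := stepQ 14942 Q14942 (allL N14942 (tt N13492 F213570) (tt N14942 F213571) (tt N17174 (iv F223735)) (tt N12679 F213572) (tt N13509 F213573) (tt N12684 F213574) (tt N17149 (iv F223584)) (tt N12682 F213575) (tt N13405 F213576) (tt N12678 (iv D47712)))
theorem Q14944 : ∀ i, i < 14944 → P i := stepQ 14943 Q14943 (allL N14943 (tt N17175 D49945) (tt N12680 (iv D47713)) (tt N14943 F213577) (tt N17027 (iv F223105)) (tt N17176 D49946) (tt N12685 F213578) (tt N13549 F213579) (tt N17173 (iv F223732)) (tt N12691 F213580) (tt N17177 D49947))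
theorem Q14945 : ∀ i, i < 14945 → P i := stepQ 14944 Q14944 (allL N14944 (tt N13488 F213581) (tt N17176 (iv F223748)) (tt N12681 F213582) (tt N17178 D49948) (tt N12680 (iv D47714)) (tt N13500 F213583) (tt N13550 F213584) (tt N13493 F213585) (tt N12692 F213586) (tt N17179 D49949))
theorem Q14946 : ∀ i, i < 14946 → P i := stepQ 14945 Q14945 (allL N14945 (tt N13498 F213587) (tt N17177 (iv F223754)) (tt N12682 F213588) (tt N17029 (iv F223115)) (tt N17179 (iv F223765)) (tt N12686 F213589) (tt N13551 F213590) (tt N17174 (iv F223738)) (tt N13408 F213591) (tt N12680 (iv D47715)))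
theorem Q14947 : ∀ i, i < 14947 → P i := stepQ 14946 Q14946 (allL N14946 (tt N13499 F213592) (tt N14946 F213593) (tt N17179 (iv F223764)) (tt N17171 (iv F223719)) (tt N12682 F213594) (tt N13510 F213595) (tt N13552 F213596) (tt N13509 F213597) (tt N13409 F213598) (tt N12681 (iv D47716)))
theorem Q14948 : ∀ i, i < 14948 → P i := stepQ 14947 Q14947 (allL N14947 (tt N13687 F213599) (tt N12683 (iv D47717)) (tt N14947 F213600) (tt N17033 (iv F223126)) (tt N13686 F213601) (tt N17173 (iv F223731)) (tt N14947 F213602) (tt N12685 F213603) (tt N12693 F213604) (tt N17180 D49950))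
theorem Q14949 : ∀ i, i < 14949 → P i := stepQ 14948 Q14948 (allL N14948 (tt N13502 F213605) (tt N17180 (iv F223771)) (tt N12684 F213606) (tt N17035 (iv F223138)) (tt N13694 F213607) (tt N17174 (iv F223737)) (tt N14948 F213608) (tt N12686 F213609) (tt N13411 F213610) (tt N12683 (iv D47718)))
theorem Q14950 : ∀ i, i < 14950 → P i := stepQ 14949 Q14949 (allL N14949 (tt N12685 (iv D47719)) (tt N13568 F213611) (tt N14949 F213612) (tt N16328 (iv F219715)) (tt N13684 F213613) (tt N17175 (iv F223742)) (tt N12687 F213614) (tt N13687 F213615) (tt N12694 F213616) (tt N17181 D49951))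
theorem Q14951 : ∀ i, i < 14951 → P i := stepQ 14950 Q14950 (allL N14950 (tt N17181 (iv F223777)) (tt N12686 F213617) (tt N14950 F213618) (tt N17039 (iv F223152)) (tt N13696 F213619) (tt N17177 (iv F223756)) (tt N12688 F213620) (tt N17180 (iv F223775)) (tt N13413 F213621) (tt N12685 (iv D47720)))
theorem Q14952 : ∀ i, i < 14952 → P i := stepQ 14951 Q14951 (allL N14951 (tt N12688 F213622) (tt N13506 F213623) (tt N14951 F213624) (tt N16337 (iv F219754)) (tt N13698 F213625) (tt N13557 F213626) (tt N17181 (iv F223781)) (tt N14951 F213627) (tt N13414 F213628) (tt N12687 (iv D47721)))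
theorem Q14953 : ∀ i, i < 14953 → P i := stepQ 14952 Q14952 (allL N14952 (tt N12704 F213629) (tt N17163 (iv F223673)) (tt N12689 (iv D47722)) (tt N12695 F213630) (tt N12703 F213631) (tt N14952 F213632) (tt N12690 F213633) (tt N13558 F213634) (tt N17132 (iv F223498)) (tt N13532 F213635))
theorem Q14954 : ∀ i, i < 14954 → P i := stepQ 14953 Q14953 (allL N14953 (tt N13536 F213636) (tt N12690 (iv D47723)) (tt N14953 F213637) (tt N12698 F213638) (tt N13535 F213639) (tt N12693 F213640) (tt N17163 (iv F223677)) (tt N12691 F213641) (tt N17173 (iv F223733)) (tt N13533 F213642))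
theorem Q14955 : ∀ i, i < 14955 → P i := stepQ 14954 Q14954 (allL N14954 (tt N12691 (iv D47724)) (tt N13534 F213643) (tt N14954 F213644) (tt N12703 F213645) (tt N13533 (iv F213650)) (tt N12694 F213646) (tt N13561 F213647) (tt N13536 F213648) (tt N17175 (iv F223745)) (tt N13535 F213649))
theorem Q14956 : ∀ i, i < 14956 → P i := stepQ 14955 Q14955 (allL N14955 (tt N13533 F213651) (tt N12692 F213652) (tt N14955 F213653) (tt N17162 (iv F223667)) (tt N12691 (iv D47725)) (tt N13538 F213654) (tt N13562 F213655) (tt N13535 F213656) (tt N17176 (iv F223753)) (tt N13536 F213657))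
theorem Q14957 : ∀ i, i < 14957 → P i := stepQ 14956 Q14956 (allL N14956 (tt N13559 F213658) (tt N17162 (iv F223665)) (tt N14956 F213659) (tt N12692 (iv D47726)) (tt N12706 F213660) (tt N13564 F213661) (tt N13563 F213662) (tt N13561 F213663) (tt N17182 D49952) (tt N13537 F213664))
theorem Q14958 : ∀ i, i < 14958 → P i := stepQ 14957 Q14957 (allL N14957 (tt N13560 F213665) (tt N12695 (iv D47727)) (tt N12701 F213666) (tt N17163 (iv F223675)) (tt N12700 (iv F213670)) (tt N14957 F213667) (tt N12698 F213668) (tt N12707 F213669) (tt N17120 (iv F223430)) (tt N12699 (iv F213671)))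
theorem Q14959 : ∀ i, i < 14959 → P i := stepQ 14958 Q14958 (allL N14958 (tt N17162 (iv F223664)) (tt N12700 F213672) (tt N12696 F213673) (tt N13533 F213674) (tt N12695 (iv D47728)) (tt N12711 (iv F213677)) (tt N12699 F213675) (tt N12705 F213676) (tt N17121 (iv F223437)) (tt N12698 (iv F213678)))
theorem Q14960 : ∀ i, i < 14960 → P i := stepQ 14959 Q14959 (allL N14959 (tt N13558 F213679) (tt N12699 F213680) (tt N12697 F213681) (tt N13532 F213682) (tt N12698 F213683) (tt N14959 F213684) (tt N12700 F213685) (tt N12704 F213686) (tt N17126 (iv F223470)) (tt N12695 (iv D47729)))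
theorem Q14961 : ∀ i, i < 14961 → P i := stepQ 14960 Q14960 (allL N14960 (tt N12698 (iv D47730)) (tt N13537 F213687) (tt N12719 F213688) (tt N13536 F213689) (tt N13558 F213690) (tt N12710 F213691) (tt N13560 F213692) (tt N12703 F213693) (tt N17125 (iv F223462)) (tt N17162 (iv F223670)))
theorem Q14962 : ∀ i, i < 14962 → P i := stepQ 14961 Q14961 (allL N14961 (tt N13562 F213694) (tt N13532 F213695) (tt N14961 F213696) (tt N12699 (iv D47731)) (tt N13561 F213697) (tt N14961 F213698) (tt N13533 F213699) (tt N12706 F213700) (tt N17183 D49953) (tt N17163 (iv F223679)))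
theorem Q14963 : ∀ i, i < 14963 → P i := stepQ 14962 Q14962 (allL N14962 (tt N13546 F213701) (tt N17121 (iv F223433)) (tt N12702 F213702) (tt N17184 D49954) (tt N17120 F223432) (tt N12712 F213703) (tt N17126 (iv F223468)) (tt N12708 F213704) (tt N12700 (iv D47732)) (tt N17130 (iv F223485)))
theorem Q14964 : ∀ i, i < 14964 → P i := stepQ 14963 Q14963 (allL N14963 (tt N12705 F213705) (tt N13561 F213706) (tt N12720 F213707) (tt N13535 F213708) (tt N13532 F213709) (tt N12713 F213710) (tt N13534 F213711) (tt N17162 (iv F223669)) (tt N17185 D49955) (tt N12703 (iv D47733)))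
theorem Q14965 : ∀ i, i < 14965 → P i := stepQ 14964 Q14964 (allL N14964 (tt N17185 (iv F223802)) (tt N12708 F213712) (tt N12721 F213713) (tt N17186 D49956) (tt N13486 F213714) (tt N12714 F213715) (tt N13489 F213716) (tt N17121 (iv F223436)) (tt N12705 (iv D47734)) (tt N17136 (iv F223517)))
theorem Q14966 : ∀ i, i < 14966 → P i := stepQ 14965 Q14965 (allL N14965 (tt N17164 (iv F223680)) (tt N17004 F223000) (tt N14965 F213717) (tt N17137 (iv F223518)) (tt N17182 (iv F223786)) (tt N14965 F213718) (tt N13565 F213719) (tt N17183 (iv F223796)) (tt N12706 (iv D47735)) (tt N17187 D49957))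
theorem Q14967 : ∀ i, i < 14967 → P i := stepQ 14966 Q14966 (allL N14966 (tt N13563 F213720) (tt N13558 F213721) (tt N14966 F213722) (tt N12707 F213723) (tt N13537 F213724) (tt N14966 F213725) (tt N13559 F213726) (tt N17163 (iv F223678)) (tt N17188 D49958) (tt N12706 (iv D47736)))
theorem Q14968 : ∀ i, i < 14968 → P i := stepQ 14967 Q14967 (allL N14967 (tt N13550 F213727) (tt N13486 F213728) (tt N12709 F213729) (tt N17189 D49959) (tt N12708 F213730) (tt N14967 F213731) (tt N13488 F213732) (tt N17120 (iv F223429)) (tt N12707 (iv D47737)) (tt N17139 (iv F223530)))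
theorem Q14969 : ∀ i, i < 14969 → P i := stepQ 14968 Q14968 (allL N14968 (tt N13422 F213733) (tt N17186 (iv F223808)) (tt N13381 F213734) (tt N12708 (iv D47738)) (tt N17190 D49960) (tt N12715 F213735) (tt N13566 F213736) (tt N17184 (iv F223800)) (tt N13390 F213737) (tt N17140 (iv F223535)))
theorem Q14970 : ∀ i, i < 14970 → P i := stepQ 14969 Q14969 (allL N14969 (tt N13542 F213738) (tt N12723 F213739) (tt N17191 D49961) (tt N12709 (iv D47739)) (tt N13529 F213740) (tt N14969 F213741) (tt N13026 F213742) (tt N16212 (iv F219078)) (tt N14969 F213743) (tt N17141 (iv F223541)))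
theorem Q14971 : ∀ i, i < 14971 → P i := stepQ 14970 Q14970 (allL N14970 (tt N12711 F213744) (tt N13564 F213745) (tt N12724 F213746) (tt N13538 F213747) (tt N14970 F213748) (tt N17162 F223671) (tt N14970 F213749) (tt N12713 F213750) (tt N17192 D49962) (tt N12710 (iv D47740)))
theorem Q14972 : ∀ i, i < 14972 → P i := stepQ 14971 Q14971 (allL N14971 (tt N17192 (iv F223835)) (tt N12712 F213751) (tt N12725 F213752) (tt N17193 D49963) (tt N14971 F213753) (tt N17121 F223438) (tt N14971 F213754) (tt N12714 F213755) (tt N12711 (iv D47741)) (tt N17143 (iv F223553)))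
theorem Q14973 : ∀ i, i < 14973 → P i := stepQ 14972 Q14972 (allL N14972 (tt N13425 F213756) (tt N17193 (iv F223841)) (tt N13383 F213757) (tt N12712 (iv D47742)) (tt N17194 D49964) (tt N17184 (iv F223799)) (tt N14972 F213758) (tt N12715 F213759) (tt N13393 F213760) (tt N17144 (iv F223558)))
theorem Q14974 : ∀ i, i < 14974 → P i := stepQ 14973 Q14973 (allL N14973 (tt N12714 F213761) (tt N13555 F213762) (tt N12727 F213763) (tt N16339 (iv F219765)) (tt N14973 F213764) (tt N17185 (iv F223806)) (tt N12716 F213765) (tt N17192 (iv F223840)) (tt N12713 (iv D47743)) (tt N17145 (iv F223564)))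
theorem Q14975 : ∀ i, i < 14975 → P i := stepQ 14974 Q14974 (allL N14974 (tt N16339 (iv F219762)) (tt N12715 F213766) (tt N16270 (iv F219423)) (tt N12714 (iv D47744)) (tt N16859 (iv F222332)) (tt N17186 (iv F223809)) (tt N12717 F213767) (tt N17193 (iv F223843)) (tt N13395 F213768) (tt N17146 (iv F223567)))
theorem Q14976 : ∀ i, i < 14976 → P i := stepQ 14975 Q14975 (allL N14975 (tt N13429 F213769) (tt N16859 (iv F222330)) (tt N12874 F213770) (tt N14975 F213771) (tt N12715 (iv D47745)) (tt N17195 D49965) (tt N12718 F213772) (tt N17194 (iv F223849)) (tt N12883 F213773) (tt N17147 (iv F223572)))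
theorem Q14977 : ∀ i, i < 14977 → P i := stepQ 14976 Q14976 (allL N14976 (tt N12721 F213774) (tt N14976 F213775) (tt N17185 (iv F223804)) (tt N15996 (iv F217710)) (tt N13401 F213776) (tt N12727 F213777) (tt N13404 F213778) (tt N17005 (iv F223004)) (tt N12720 (iv D47746)) (tt N17150 (iv F223592)))
theorem Q14978 : ∀ i, i < 14978 → P i := stepQ 14977 Q14977 (allL N14977 (tt N15996 (iv F217707)) (tt N12722 F213779) (tt N16273 (iv F219440)) (tt N12721 (iv D47747)) (tt N13255 F213780) (tt N12728 F213781) (tt N13258 F213782) (tt N16664 (iv F221482)) (tt N14977 F213783) (tt N17152 (iv F223605)))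
theorem Q14979 : ∀ i, i < 14979 → P i := stepQ 14978 Q14978 (allL N14978 (tt N12725 F213784) (tt N14978 F213785) (tt N17192 (iv F223837)) (tt N15999 (iv F217732)) (tt N14978 F213786) (tt N17005 F223006) (tt N14978 F213787) (tt N12727 F213788) (tt N12724 (iv D47748)) (tt N17153 (iv F223611)))
theorem Q14980 : ∀ i, i < 14980 → P i := stepQ 14979 Q14979 (allL N14979 (tt N15999 (iv F217729)) (tt N12726 F213789) (tt N16276 (iv F219457)) (tt N12725 (iv D47749)) (tt N15992 (iv F217682)) (tt N16664 (iv F221480)) (tt N14979 F213790) (tt N12728 F213791) (tt N14979 F213792) (tt N17154 (iv F223615)))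
theorem Q14981 : ∀ i, i < 14981 → P i := stepQ 14980 Q14980 (allL N14980 (tt N12769 F213793) (tt N14980 F213794) (tt N16042 (iv F218035)) (tt N12730 (iv D47750)) (tt N14980 F213795) (tt N13579 F213796) (tt N12808 F213797) (tt N12752 F213798) (tt N12732 F213799) (tt N13635 F213800))
theorem Q14982 : ∀ i, i < 14982 → P i := stepQ 14981 Q14981 (allL N14981 (tt N12759 F213801) (tt N13056 F213802) (tt N16043 (iv F218044)) (tt N12740 (iv D47751)) (tt N13068 F213803) (tt N16021 (iv F217879)) (tt N12746 F213804) (tt N12778 F213805) (tt N12741 F213806) (tt N17196 D49966))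
theorem Q14983 : ∀ i, i < 14983 → P i := stepQ 14982 Q14982 (allL N14982 (tt N12760 F213807) (tt N13057 F213808) (tt N12753 F213809) (tt N17196 (iv F223857)) (tt N12748 F213810) (tt N16022 (iv F217887)) (tt N12747 F213811) (tt N12779 F213812) (tt N12757 F213813) (tt N12740 (iv D47752)))
theorem Q14984 : ∀ i, i < 14984 → P i := stepQ 14983 Q14983 (allL N14983 (tt N13098 F213814) (tt N13062 F213815) (tt N16047 (iv F218074)) (tt N12742 F213816) (tt N13075 F213817) (tt N16028 (iv F217930)) (tt N16048 (iv F218085)) (tt N12785 F213818) (tt N17197 D49967) (tt N12741 (iv D47753)))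
theorem Q14985 : ∀ i, i < 14985 → P i := stepQ 14984 Q14984 (allL N14984 (tt N13061 F213819) (tt N12746 F213820) (tt N16501 (iv F220661)) (tt N12744 (iv D47754)) (tt N13049 F213821) (tt N16035 (iv F217981)) (tt N13056 F213822) (tt N12792 F213823) (tt N13058 F213824) (tt N17198 D49968))
theorem Q14986 : ∀ i, i < 14986 → P i := stepQ 14985 Q14985 (allL N14985 (tt N13065 F213825) (tt N12747 F213826) (tt N14985 F213827) (tt N17198 (iv F223868)) (tt N12745 F213828) (tt N16036 (iv F217990)) (tt N13057 F213829) (tt N12793 F213830) (tt N12765 F213831) (tt N12744 (iv D47755)))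
theorem Q14987 : ∀ i, i < 14987 → P i := stepQ 14986 Q14986 (allL N14986 (tt N12762 F213832) (tt N13049 F213833) (tt N16045 (iv F218060)) (tt N12749 F213834) (tt N12746 (iv D47756)) (tt N16407 (iv F220137)) (tt N13068 F213835) (tt N12798 F213836) (tt N13072 F213837) (tt N17199 D49969))
theorem Q14988 : ∀ i, i < 14988 → P i := stepQ 14987 Q14987 (allL N14987 (tt N12763 F213838) (tt N17198 (iv F223867)) (tt N16046 (iv F218068)) (tt N12747 F213839) (tt N17199 (iv F223875)) (tt N16038 (iv F218007)) (tt N17196 (iv F223859)) (tt N12799 F213840) (tt N17200 D49970) (tt N12746 (iv D47757)))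
theorem Q14989 : ∀ i, i < 14989 → P i := stepQ 14988 Q14988 (allL N14988 (tt N12765 F213841) (tt N13050 F213842) (tt N14988 F213843) (tt N17199 (iv F223874)) (tt N12750 F213844) (tt N16408 (iv F220145)) (tt N13069 F213845) (tt N12803 F213846) (tt N13065 F213847) (tt N12749 (iv D47758)))
theorem Q14990 : ∀ i, i < 14990 → P i := stepQ 14989 Q14989 (allL N14989 (tt N12768 F213848) (tt N14989 F213849) (tt N16022 (iv F217885)) (tt N13578 F213850) (tt N14989 F213851) (tt N12753 F213852) (tt N13577 F213853) (tt N12811 F213854) (tt N12754 F213855) (tt N12751 (iv D47759)))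
theorem Q14991 : ∀ i, i < 14991 → P i := stepQ 14990 Q14990 (allL N14990 (tt N12771 F213856) (tt N14990 F213857) (tt N16044 (iv F218052)) (tt N12753 F213858) (tt N14990 F213859) (tt N13578 F213860) (tt N12754 F213861) (tt N13635 F213862) (tt N13577 F213863) (tt N12752 (iv D47760)))
theorem Q14992 : ∀ i, i < 14992 → P i := stepQ 14991 Q14991 (allL N14991 (tt N16048 (iv F218079)) (tt N13086 F213864) (tt N16038 (iv F218004)) (tt N12757 F213865) (tt N13093 F213866) (tt N16046 (iv F218070)) (tt N13098 F213867) (tt N12816 F213868) (tt N17201 D49971) (tt N12756 (iv D47761)))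
theorem Q14993 : ∀ i, i < 14993 → P i := stepQ 14992 Q14992 (allL N14992 (tt N16021 (iv F217876)) (tt N13089 F213869) (tt N16024 (iv F217902)) (tt N12758 (iv D47762)) (tt N16504 (iv F220680)) (tt N12759 F213870) (tt N16026 (iv F217918)) (tt N13224 F213871) (tt N13097 F213872) (tt N17202 D49972))
theorem Q14994 : ∀ i, i < 14994 → P i := stepQ 14993 Q14993 (allL N14993 (tt N16022 (iv F217883)) (tt N13090 F213873) (tt N12768 F213874) (tt N17202 (iv F223887)) (tt N14993 F213875) (tt N12760 F213876) (tt N16034 (iv F217975)) (tt N12850 F213877) (tt N12773 F213878) (tt N12758 (iv D47763)))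
theorem Q14995 : ∀ i, i < 14995 → P i := stepQ 14994 Q14994 (allL N14994 (tt N16043 (iv F218042)) (tt N16438 (iv F220329)) (tt N12759 (iv D47764)) (tt N12770 F213879) (tt N13085 F213880) (tt N16024 (iv F217903)) (tt N12761 F213881) (tt N13222 F213882) (tt N13095 F213883) (tt N17203 D49973))
theorem Q14996 : ∀ i, i < 14996 → P i := stepQ 14995 Q14995 (allL N14995 (tt N17196 (iv F223855)) (tt N13093 F213884) (tt N17203 (iv F223890)) (tt N12760 F213885) (tt N13086 F213886) (tt N17202 (iv F223888)) (tt N12763 F213887) (tt N13225 F213888) (tt N17204 D49974) (tt N12759 (iv D47765)))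
theorem Q14997 : ∀ i, i < 14997 → P i := stepQ 14996 Q14996 (allL N14996 (tt N16459 (iv F220447)) (tt N12761 (iv D47766)) (tt N13094 F213889) (tt N12772 F213890) (tt N17205 D49975) (tt N13058 F213891) (tt N16438 (iv F220332)) (tt N12826 F213892) (tt N16035 (iv F217984)) (tt N17206 D49976))
theorem Q14998 : ∀ i, i < 14998 → P i := stepQ 14997 Q14997 (allL N14997 (tt N16045 (iv F218058)) (tt N17205 (iv F223900)) (tt N12762 F213893) (tt N14997 F213894) (tt N12761 (iv D47767)) (tt N17207 D49977) (tt N13085 F213895) (tt N12827 F213896) (tt N13092 F213897) (tt N17208 D49978))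
theorem Q14999 : ∀ i, i < 14999 → P i := stepQ 14998 Q14998 (allL N14998 (tt N16046 (iv F218066)) (tt N17206 (iv F223906)) (tt N12763 F213898) (tt N12773 F213899) (tt N17208 (iv F223919)) (tt N16048 (iv F218084)) (tt N17203 (iv F223893)) (tt N12828 F213900) (tt N17209 D49979) (tt N12761 (iv D47768)))
theorem Q15000 : ∀ i, i < 15000 → P i := stepQ 14999 Q14999 (allL N14999 (tt N16407 (iv F220134)) (tt N13097 F213901) (tt N17207 (iv F223912)) (tt N12764 F213902) (tt N16049 (iv F218091)) (tt N12762 (iv D47769)) (tt N16494 (iv F220627)) (tt N12829 F213903) (tt N13089 F213904) (tt N17210 D49980))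
theorem Q15001 : ∀ i, i < 15001 → P i := stepQ 15000 Q15000 (allL N15000 (tt N17199 (iv F223872)) (tt N13098 F213905) (tt N17208 (iv F223917)) (tt N12765 F213906) (tt N12763 F213907) (tt N17210 (iv F223926)) (tt N13086 F213908) (tt N12830 F213909) (tt N17211 D49981) (tt N12762 (iv D47770)))
theorem Q15002 : ∀ i, i < 15002 → P i := stepQ 15001 Q15001 (allL N15001 (tt N17200 (iv F223878)) (tt N13099 F213910) (tt N17209 (iv F223922)) (tt N17197 (iv F223863)) (tt N17211 (iv F223929)) (tt N16051 (iv F218102)) (tt N17204 (iv F223897)) (tt N12831 F213911) (tt N12763 (iv D47771)) (tt N17201 (iv F223885)))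
theorem Q15003 : ∀ i, i < 15003 → P i := stepQ 15002 Q15002 (allL N15002 (tt N16408 (iv F220141)) (tt N13101 F213912) (tt N15002 F213913) (tt N17210 (iv F223925)) (tt N12767 F213914) (tt N12765 F213915) (tt N16495 (iv F220633)) (tt N12835 F213916) (tt N16036 (iv F217993)) (tt N12764 (iv D47772)))
theorem Q15004 : ∀ i, i < 15004 → P i := stepQ 15003 Q15003 (allL N15003 (tt N16409 (iv F220148)) (tt N13102 F213917) (tt N15003 F213918) (tt N16055 (iv F218127)) (tt N16493 (iv F220620)) (tt N15003 F213919) (tt N12836 F213920) (tt N12766 (iv D47773)) (tt N13612 F213921) (tt N13628 (iv F213922)))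
theorem Q15005 : ∀ i, i < 15005 → P i := stepQ 15004 Q15004 (allL N15004 (tt N16410 (iv F220156)) (tt N13103 F213923) (tt N15004 F213924) (tt N16056 (iv F218134)) (tt N16495 (iv F220631)) (tt N15004 F213925) (tt N12767 F213926) (tt N13628 F213927) (tt N13574 F213928) (tt N12766 (iv D47774)))
theorem Q15006 : ∀ i, i < 15006 → P i := stepQ 15005 Q15005 (allL N15005 (tt N16042 (iv F218033)) (tt N16437 (iv F220322)) (tt N12769 (iv D47775)) (tt N13222 F213929) (tt N15005 F213930) (tt N16023 (iv F217896)) (tt N12844 F213931) (tt N12770 F213932) (tt N13613 F213933) (tt N16092 (iv F218356)))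
theorem Q15007 : ∀ i, i < 15007 → P i := stepQ 15006 Q15006 (allL N15006 (tt N16044 (iv F218050)) (tt N16439 (iv F220336)) (tt N12771 F213934) (tt N17203 (iv F223891)) (tt N15006 F213935) (tt N16025 (iv F217911)) (tt N12773 F213936) (tt N16092 (iv F218355)) (tt N16034 (iv F217977)) (tt N12770 (iv D47776)))
theorem Q15008 : ∀ i, i < 15008 → P i := stepQ 15007 Q15007 (allL N15007 (tt N16460 (iv F220453)) (tt N12773 F213937) (tt N12775 F213938) (tt N17206 (iv F223908)) (tt N15007 F213939) (tt N13059 F213940) (tt N16439 (iv F220340)) (tt N12849 F213941) (tt N13090 F213942) (tt N12772 (iv D47777)))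
theorem Q15009 : ∀ i, i < 15009 → P i := stepQ 15008 Q15008 (allL N15008 (tt N12775 F213943) (tt N15008 F213944) (tt N16460 (iv F220455)) (tt N13124 F213945) (tt N15008 F213946) (tt N13052 F213947) (tt N16428 (iv F220279)) (tt N12861 F213948) (tt N13080 F213949) (tt N12774 (iv D47778)))
theorem Q15010 : ∀ i, i < 15010 → P i := stepQ 15009 Q15009 (allL N15009 (tt N12818 F213950) (tt N13149 F213951) (tt N12805 F213952) (tt N17212 D49982) (tt N12928 F213953) (tt N12777 F213954) (tt N16059 (iv F218159)) (tt N12795 F213955) (tt N12776 (iv D47779)) (tt N17213 D49983))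
theorem Q15011 : ∀ i, i < 15011 → P i := stepQ 15010 Q15010 (allL N15010 (tt N12821 F213956) (tt N13150 F213957) (tt N16122 (iv F218559)) (tt N12777 (iv D47780)) (tt N13189 F213958) (tt N17212 (iv F223935)) (tt N12778 F213959) (tt N12796 F213960) (tt N12782 F213961) (tt N17214 D49984))
theorem Q15012 : ∀ i, i < 15012 → P i := stepQ 15011 Q15011 (allL N15011 (tt N12822 F213962) (tt N13151 F213963) (tt N12809 F213964) (tt N17214 (iv F223947)) (tt N12800 F213965) (tt N17213 (iv F223942)) (tt N12779 F213966) (tt N12797 F213967) (tt N12814 F213968) (tt N12777 (iv D47781)))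
theorem Q15013 : ∀ i, i < 15013 → P i := stepQ 15012 Q15012 (allL N15012 (tt N13222 F213969) (tt N16496 (iv F220636)) (tt N12778 (iv D47782)) (tt N16042 (iv F218036)) (tt N13191 F213970) (tt N16062 (iv F218176)) (tt N16122 (iv F218560)) (tt N16043 (iv F218047)) (tt N12784 F213971) (tt N17215 D49985))
theorem Q15014 : ∀ i, i < 15014 → P i := stepQ 15013 Q15013 (allL N15013 (tt N13225 F213972) (tt N13154 F213973) (tt N17215 (iv F223952)) (tt N12779 F213974) (tt N13192 F213975) (tt N16064 (iv F218190)) (tt N17214 (iv F223949)) (tt N17196 (iv F223860)) (tt N17216 D49986) (tt N12778 (iv D47783)))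
theorem Q15015 : ∀ i, i < 15015 → P i := stepQ 15014 Q15014 (allL N15014 (tt N13238 F213976) (tt N13157 F213977) (tt N16129 (iv F218602)) (tt N12781 (iv D47784)) (tt N17217 D49987) (tt N12782 F213978) (tt N16067 (iv F218210)) (tt N16131 (iv F218615)) (tt N17212 (iv F223937)) (tt N17218 D49988))
theorem Q15016 : ∀ i, i < 15016 → P i := stepQ 15015 Q15015 (allL N15015 (tt N13251 F213979) (tt N13158 F213980) (tt N12787 F213981) (tt N17218 (iv F223967)) (tt N12880 F213982) (tt N12783 F213983) (tt N16068 (iv F218216)) (tt N16155 (iv F218743)) (tt N12820 F213984) (tt N12781 (iv D47785)))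
theorem Q15017 : ∀ i, i < 15017 → P i := stepQ 15016 Q15016 (allL N15016 (tt N13239 F213985) (tt N13163 F213986) (tt N16134 (iv F218627)) (tt N12783 F213987) (tt N13200 F213988) (tt N17218 (iv F223968)) (tt N12785 F213989) (tt N16135 (iv F218638)) (tt N17219 D49989) (tt N12782 (iv D47786)))
theorem Q15018 : ∀ i, i < 15018 → P i := stepQ 15017 Q15017 (allL N15017 (tt N13245 F213990) (tt N16509 (iv F220694)) (tt N12785 F213991) (tt N12788 F213992) (tt N13202 F213993) (tt N16076 (iv F218255)) (tt N16134 (iv F218630)) (tt N16047 (iv F218078)) (tt N17220 D49990) (tt N12784 (iv D47787)))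
theorem Q15019 : ∀ i, i < 15019 → P i := stepQ 15018 Q15018 (allL N15018 (tt N13249 F213994) (tt N13168 F213995) (tt N17220 (iv F223975)) (tt N12831 F213996) (tt N13203 F213997) (tt N16078 (iv F218264)) (tt N17219 (iv F223973)) (tt N17197 (iv F223865)) (tt N12785 (iv D47788)) (tt N17216 (iv F223960)))
theorem Q15020 : ∀ i, i < 15020 → P i := stepQ 15019 Q15019 (allL N15019 (tt N13631 F213998) (tt N16441 (iv F220350)) (tt N12789 F213999) (tt N17221 D49991) (tt N13603 F214000) (tt N16092 (iv F218353)) (tt N16070 (iv F218228)) (tt N16025 (iv F217913)) (tt N12788 (iv D47789)) (tt N16023 (iv F217899)))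
theorem Q15021 : ∀ i, i < 15021 → P i := stepQ 15020 Q15020 (allL N15020 (tt N13170 F214001) (tt N12795 F214002) (tt N15020 F214003) (tt N17222 D49992) (tt N12915 F214004) (tt N12791 F214005) (tt N16099 (iv F218408)) (tt N13149 F214006) (tt N12790 (iv D47790)) (tt N17223 D49993))
theorem Q15022 : ∀ i, i < 15022 → P i := stepQ 15021 Q15021 (allL N15021 (tt N13162 F214007) (tt N12796 F214008) (tt N16760 (iv F221907)) (tt N12791 (iv D47791)) (tt N13134 F214009) (tt N17222 (iv F223983)) (tt N12792 F214010) (tt N13150 F214011) (tt N13159 F214012) (tt N17224 D49994))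
theorem Q15023 : ∀ i, i < 15023 → P i := stepQ 15022 Q15022 (allL N15022 (tt N13171 F214013) (tt N12797 F214014) (tt N15022 F214015) (tt N17224 (iv F223995)) (tt N12794 F214016) (tt N17223 (iv F223990)) (tt N12793 F214017) (tt N13151 F214018) (tt N12833 F214019) (tt N12791 (iv D47792)))
theorem Q15024 : ∀ i, i < 15024 → P i := stepQ 15023 Q15023 (allL N15023 (tt N13167 F214020) (tt N12799 F214021) (tt N16766 (iv F221931)) (tt N12793 F214022) (tt N13137 F214023) (tt N16103 (iv F218436)) (tt N17224 (iv F223997)) (tt N17198 (iv F223871)) (tt N17225 D49995) (tt N12792 (iv D47793)))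
theorem Q15025 : ∀ i, i < 15025 → P i := stepQ 15024 Q15024 (allL N15024 (tt N12819 F214024) (tt N17222 (iv F223982)) (tt N16120 (iv F218547)) (tt N12795 (iv D47794)) (tt N17226 D49996) (tt N12796 F214025) (tt N16107 (iv F218463)) (tt N17212 (iv F223936)) (tt N16131 (iv F218616)) (tt N17227 D49997))
theorem Q15026 : ∀ i, i < 15026 → P i := stepQ 15025 Q15025 (allL N15025 (tt N12820 F214026) (tt N17223 (iv F223987)) (tt N12807 F214027) (tt N17227 (iv F224006)) (tt N12930 F214028) (tt N12797 F214029) (tt N16108 (iv F218470)) (tt N17213 (iv F223943)) (tt N13251 F214030) (tt N12795 (iv D47795)))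
theorem Q15027 : ∀ i, i < 15027 → P i := stepQ 15026 Q15026 (allL N15026 (tt N12824 F214031) (tt N13134 F214032) (tt N16124 (iv F218573)) (tt N12801 F214033) (tt N12796 (iv D47796)) (tt N17228 D49998) (tt N12798 F214034) (tt N13189 F214035) (tt N13197 F214036) (tt N17229 D49999))
theorem Q15028 : ∀ i, i < 15028 → P i := stepQ 15027 Q15027 (allL N15027 (tt N12825 F214037) (tt N17224 (iv F223994)) (tt N16125 (iv F218580)) (tt N12797 F214038) (tt N17229 (iv F224016)) (tt N17227 (iv F224007)) (tt N12799 F214039) (tt N17214 (iv F223950)) (tt N17230 D50000) (tt N12796 (iv D47797)))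
theorem Q15029 : ∀ i, i < 15029 → P i := stepQ 15028 Q15028 (allL N15028 (tt N12830 F214040) (tt N13137 F214041) (tt N16127 (iv F218592)) (tt N12803 F214042) (tt N12799 F214043) (tt N16568 (iv F221055)) (tt N17229 (iv F224017)) (tt N17199 (iv F223877)) (tt N17231 D50001) (tt N12798 (iv D47798)))
theorem Q15030 : ∀ i, i < 15030 → P i := stepQ 15029 Q15029 (allL N15029 (tt N12831 F214044) (tt N17225 (iv F224000)) (tt N16128 (iv F218597)) (tt N13249 F214045) (tt N17231 (iv F224025)) (tt N16112 (iv F218495)) (tt N17230 (iv F224021)) (tt N17200 (iv F223880)) (tt N12799 (iv D47799)) (tt N16142 (iv F218679)))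
theorem Q15031 : ∀ i, i < 15031 → P i := stepQ 15030 Q15030 (allL N15030 (tt N12832 F214046) (tt N13132 F214047) (tt N15030 F214048) (tt N17228 (iv F224010)) (tt N12943 F214049) (tt N12801 (iv D47800)) (tt N16564 (iv F221037)) (tt N13188 F214050) (tt N13126 F214051) (tt N17232 D50002))
theorem Q15032 : ∀ i, i < 15032 → P i := stepQ 15031 Q15031 (allL N15031 (tt N12833 F214052) (tt N13135 F214053) (tt N15031 F214054) (tt N17229 (iv F224015)) (tt N12802 F214055) (tt N17232 (iv F224030)) (tt N12803 F214056) (tt N13190 F214057) (tt N13171 F214058) (tt N12801 (iv D47801)))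
theorem Q15033 : ∀ i, i < 15033 → P i := stepQ 15032 Q15032 (allL N15032 (tt N12838 F214059) (tt N15032 F214060) (tt N16059 (iv F218156)) (tt N13637 F214061) (tt N12945 F214062) (tt N13633 F214063) (tt N12805 F214064) (tt N13621 F214065) (tt N12804 (iv D47802)) (tt N17233 D50003))
theorem Q15034 : ∀ i, i < 15034 → P i := stepQ 15033 Q15033 (allL N15033 (tt N12839 F214066) (tt N15033 F214067) (tt N16119 (iv F218540)) (tt N12805 (iv D47803)) (tt N13747 (iv F214072)) (tt N12808 F214068) (tt N13637 F214069) (tt N12806 F214070) (tt N13797 F214071) (tt N17234 D50004))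
theorem Q15035 : ∀ i, i < 15035 → P i := stepQ 15034 Q15034 (allL N15034 (tt N12840 F214073) (tt N15034 F214074) (tt N17213 (iv F223940)) (tt N17234 (iv F224043)) (tt N12947 F214075) (tt N12809 F214076) (tt N17233 (iv F224038)) (tt N12807 F214077) (tt N13636 F214078) (tt N12805 (iv D47804)))
theorem Q15036 : ∀ i, i < 15036 → P i := stepQ 15035 Q15035 (allL N15035 (tt N12843 F214079) (tt N15035 F214080) (tt N16121 (iv F218553)) (tt N12807 F214081) (tt N13748 F214082) (tt N12810 F214083) (tt N13636 F214084) (tt N17234 (iv F224047)) (tt N17233 (iv F224040)) (tt N12806 (iv D47805)))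
theorem Q15037 : ∀ i, i < 15037 → P i := stepQ 15036 Q15036 (allL N15036 (tt N12845 F214085) (tt N15036 F214086) (tt N16123 (iv F218566)) (tt N12809 F214087) (tt N15036 F214088) (tt N17234 (iv F224045)) (tt N13635 F214089) (tt N12810 F214090) (tt N13634 F214091) (tt N12808 (iv D47806)))
theorem Q15038 : ∀ i, i < 15038 → P i := stepQ 15037 Q15037 (allL N15037 (tt N12848 F214092) (tt N15037 F214093) (tt N16061 (iv F218169)) (tt N13623 F214094) (tt N15037 F214095) (tt N17233 (iv F224037)) (tt N12811 F214096) (tt N13634 F214097) (tt N12810 (iv D47807)) (tt N13633 F214098))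
theorem Q15039 : ∀ i, i < 15039 → P i := stepQ 15038 Q15038 (allL N15038 (tt N16131 (iv F218611)) (tt N13217 F214099) (tt N16107 (iv F218461)) (tt N12812 (iv D47808)) (tt N17235 D50005) (tt N12813 F214100) (tt N16120 (iv F218549)) (tt N13238 F214101) (tt N12819 F214102) (tt N17236 D50006))
theorem Q15040 : ∀ i, i < 15040 → P i := stepQ 15039 Q15039 (allL N15039 (tt N16155 (iv F218737)) (tt N13218 F214103) (tt N13636 F214104) (tt N17236 (iv F224055)) (tt N13482 F214105) (tt N12814 F214106) (tt N16121 (iv F218556)) (tt N13251 F214107) (tt N17213 (iv F223944)) (tt N12812 (iv D47809)))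
theorem Q15041 : ∀ i, i < 15041 → P i := stepQ 15040 Q15040 (allL N15040 (tt N16135 (iv F218632)) (tt N13220 F214108) (tt N16109 (iv F218474)) (tt N12814 F214109) (tt N13234 F214110) (tt N17236 (iv F224056)) (tt N12816 F214111) (tt N13239 F214112) (tt N17237 D50007) (tt N12813 (iv D47810)))
theorem Q15042 : ∀ i, i < 15042 → P i := stepQ 15041 Q15041 (allL N15041 (tt N16140 (iv F218661)) (tt N13224 F214113) (tt N16110 (iv F218481)) (tt N13088 F214114) (tt N16126 (iv F218587)) (tt N12815 (iv D47811)) (tt N17238 D50008) (tt N13089 F214115) (tt N12829 F214116) (tt N17239 D50009))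
theorem Q15043 : ∀ i, i < 15043 → P i := stepQ 15042 Q15042 (allL N15042 (tt N16141 (iv F218668)) (tt N13225 F214117) (tt N16111 (iv F218487)) (tt N13091 F214118) (tt N12816 F214119) (tt N17239 (iv F224069)) (tt N13234 F214120) (tt N13093 F214121) (tt N17240 D50010) (tt N12815 (iv D47812)))
theorem Q15044 : ∀ i, i < 15044 → P i := stepQ 15043 Q15043 (allL N15043 (tt N16142 (iv F218675)) (tt N13226 F214122) (tt N16112 (iv F218493)) (tt N17216 (iv F223958)) (tt N17240 (iv F224072)) (tt N16128 (iv F218598)) (tt N17237 (iv F224060)) (tt N17201 (iv F223884)) (tt N12816 (iv D47813)) (tt N12831 F214123))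
theorem Q15045 : ∀ i, i < 15045 → P i := stepQ 15044 Q15044 (allL N15044 (tt N16059 (iv F218154)) (tt N13227 F214124) (tt N12838 F214125) (tt N17241 D50011) (tt N12975 F214126) (tt N13766 F214127) (tt N12818 F214128) (tt N16086 (iv F218317)) (tt N12817 (iv D47814)) (tt N17242 D50012))
theorem Q15046 : ∀ i, i < 15046 → P i := stepQ 15045 Q15045 (allL N15045 (tt N17212 (iv F223933)) (tt N13228 F214129) (tt N17243 D50013) (tt N12818 (iv D47815)) (tt N17244 D50014) (tt N12821 F214130) (tt N17241 (iv F224078)) (tt N12819 F214131) (tt N13238 F214132) (tt N17245 D50015))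
theorem Q15047 : ∀ i, i < 15047 → P i := stepQ 15046 Q15046 (allL N15046 (tt N17213 (iv F223938)) (tt N13229 F214133) (tt N12840 F214134) (tt N17245 (iv F224096)) (tt N12977 F214135) (tt N12822 F214136) (tt N17242 (iv F224084)) (tt N12820 F214137) (tt N16155 (iv F218744)) (tt N12818 (iv D47816)))
theorem Q15048 : ∀ i, i < 15048 → P i := stepQ 15047 Q15047 (allL N15047 (tt N16120 (iv F218545)) (tt N17246 D50016) (tt N12819 (iv D47817)) (tt N12841 F214138) (tt N17247 D50017) (tt N12823 F214139) (tt N16131 (iv F218614)) (tt N17243 (iv F224088)) (tt N16107 (iv F218465)) (tt N17248 D50018))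
theorem Q15049 : ∀ i, i < 15049 → P i := stepQ 15048 Q15048 (allL N15048 (tt N17226 (iv F224003)) (tt N13231 F214140) (tt N17247 (iv F224103)) (tt N12979 F214141) (tt N12819 (iv D47818)) (tt N17249 D50019) (tt N16132 (iv F218620)) (tt N17244 (iv F224093)) (tt N17235 (iv F224053)) (tt N17250 D50020))
theorem Q15050 : ∀ i, i < 15050 → P i := stepQ 15049 Q15049 (allL N15049 (tt N17227 (iv F224005)) (tt N13232 F214142) (tt N17248 (iv F224104)) (tt N12820 F214143) (tt N17250 (iv F224114)) (tt N12825 F214144) (tt N16133 (iv F218624)) (tt N17245 (iv F224098)) (tt N17251 D50021) (tt N12819 (iv D47819)))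
theorem Q15051 : ∀ i, i < 15051 → P i := stepQ 15050 Q15050 (allL N15050 (tt N16122 (iv F218557)) (tt N17252 D50022) (tt N12821 (iv D47820)) (tt N12844 F214145) (tt N13219 F214146) (tt N17243 (iv F224087)) (tt N13222 F214147) (tt N12823 F214148) (tt N13236 F214149) (tt N17253 D50023))
theorem Q15052 : ∀ i, i < 15052 → P i := stepQ 15051 Q15051 (allL N15051 (tt N17214 (iv F223945)) (tt N13234 F214150) (tt N17253 (iv F224123)) (tt N12822 F214151) (tt N13220 F214152) (tt N17245 (iv F224097)) (tt N13225 F214153) (tt N12825 F214154) (tt N17254 D50024) (tt N12821 (iv D47821)))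
theorem Q15053 : ∀ i, i < 15053 → P i := stepQ 15052 Q15052 (allL N15052 (tt N16676 (iv F221545)) (tt N12823 (iv D47822)) (tt N13235 F214155) (tt N12846 F214156) (tt N17255 D50025) (tt N17246 (iv F224101)) (tt N12826 F214157) (tt N17252 (iv F224121)) (tt N16100 (iv F218415)) (tt N17256 D50026))
theorem Q15054 : ∀ i, i < 15054 → P i := stepQ 15053 Q15053 (allL N15053 (tt N16124 (iv F218571)) (tt N17255 (iv F224133)) (tt N12824 F214158) (tt N15053 F214159) (tt N12823 (iv D47823)) (tt N17257 D50027) (tt N12827 F214160) (tt N13219 F214161) (tt N13233 F214162) (tt N17258 D50028))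
theorem Q15055 : ∀ i, i < 15055 → P i := stepQ 15054 Q15054 (allL N15054 (tt N16125 (iv F218578)) (tt N17256 (iv F224139)) (tt N12825 F214163) (tt N12847 F214164) (tt N17258 (iv F224149)) (tt N17248 (iv F224106)) (tt N12828 F214165) (tt N17253 (iv F224127)) (tt N17259 D50029) (tt N12823 (iv D47824)))
theorem Q15056 : ∀ i, i < 15056 → P i := stepQ 15055 Q15055 (allL N15055 (tt N17228 (iv F224008)) (tt N13238 F214166) (tt N17257 (iv F224143)) (tt N12832 F214167) (tt N17249 (iv F224109)) (tt N12824 (iv D47825)) (tt N17260 D50030) (tt N13217 F214168) (tt N13228 F214169) (tt N17261 D50031))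
theorem Q15057 : ∀ i, i < 15057 → P i := stepQ 15056 Q15056 (allL N15056 (tt N17229 (iv F224013)) (tt N13239 F214170) (tt N17258 (iv F224147)) (tt N12833 F214171) (tt N12825 F214172) (tt N17261 (iv F224160)) (tt N12830 F214173) (tt N13220 F214174) (tt N17262 D50032) (tt N12824 (iv D47826)))
theorem Q15058 : ∀ i, i < 15058 → P i := stepQ 15057 Q15057 (allL N15057 (tt N17230 (iv F224019)) (tt N13240 F214175) (tt N17259 (iv F224152)) (tt N17219 (iv F223971)) (tt N17262 (iv F224163)) (tt N17251 (iv F224116)) (tt N12831 F214176) (tt N17254 (iv F224131)) (tt N12825 (iv D47827)) (tt N17237 (iv F224062)))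
theorem Q15059 : ∀ i, i < 15059 → P i := stepQ 15058 Q15058 (allL N15058 (tt N16615 (iv F221281)) (tt N12827 F214177) (tt N13242 F214178) (tt N15058 F214179) (tt N12826 (iv D47828)) (tt N16576 (iv F221100)) (tt N17255 (iv F224136)) (tt N17205 (iv F223904)) (tt N16102 (iv F218431)) (tt N17263 D50033))
theorem Q15060 : ∀ i, i < 15060 → P i := stepQ 15059 Q15059 (allL N15059 (tt N16678 (iv F221555)) (tt N12828 F214180) (tt N13243 F214181) (tt N12849 F214182) (tt N17263 (iv F224170)) (tt N16139 (iv F218658)) (tt N17256 (iv F224142)) (tt N17206 (iv F223910)) (tt N17264 D50034) (tt N12826 (iv D47829)))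
theorem Q15061 : ∀ i, i < 15061 → P i := stepQ 15060 Q15060 (allL N15060 (tt N16126 (iv F218583)) (tt N16576 (iv F221097)) (tt N12829 F214183) (tt N15060 F214184) (tt N16140 (iv F218665)) (tt N12827 (iv D47830)) (tt N17265 D50035) (tt N17207 (iv F223915)) (tt N16110 (iv F218485)) (tt N17266 D50036))
theorem Q15062 : ∀ i, i < 15062 → P i := stepQ 15061 Q15061 (allL N15061 (tt N16127 (iv F218590)) (tt N17263 (iv F224167)) (tt N12830 F214185) (tt N15061 F214186) (tt N12828 F214187) (tt N17266 (iv F224177)) (tt N17258 (iv F224150)) (tt N17208 (iv F223921)) (tt N17267 D50037) (tt N12827 (iv D47831)))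
theorem Q15063 : ∀ i, i < 15063 → P i := stepQ 15062 Q15062 (allL N15062 (tt N16128 (iv F218595)) (tt N17264 (iv F224171)) (tt N12831 F214188) (tt N17268 D50038) (tt N17267 (iv F224179)) (tt N16142 (iv F218678)) (tt N17259 (iv F224153)) (tt N17209 (iv F223923)) (tt N12828 (iv D47832)) (tt N16112 (iv F218496)))
theorem Q15064 : ∀ i, i < 15064 → P i := stepQ 15063 Q15063 (allL N15063 (tt N16566 (iv F221043)) (tt N13247 F214189) (tt N17265 (iv F224173)) (tt N12834 F214190) (tt N16143 (iv F218682)) (tt N17260 (iv F224156)) (tt N12829 (iv D47833)) (tt N17269 D50039) (tt N17238 (iv F224066)) (tt N17270 D50040))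
theorem Q15065 : ∀ i, i < 15065 → P i := stepQ 15064 Q15064 (allL N15064 (tt N16568 (iv F221052)) (tt N13248 F214191) (tt N17266 (iv F224175)) (tt N12835 F214192) (tt N16144 (iv F218685)) (tt N12830 F214193) (tt N17270 (iv F224187)) (tt N17210 (iv F223927)) (tt N17271 D50041) (tt N12829 (iv D47834)))
theorem Q15066 : ∀ i, i < 15066 → P i := stepQ 15065 Q15065 (allL N15065 (tt N17231 (iv F224022)) (tt N13249 F214194) (tt N17267 (iv F224178)) (tt N17225 (iv F224001)) (tt N12831 F214195) (tt N17271 (iv F224189)) (tt N17262 (iv F224164)) (tt N17211 (iv F223931)) (tt N12830 (iv D47835)) (tt N17240 (iv F224075)))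
theorem Q15067 : ∀ i, i < 15067 → P i := stepQ 15066 Q15066 (allL N15066 (tt N16564 (iv F221032)) (tt N13250 F214196) (tt N15066 F214197) (tt N17260 (iv F224155)) (tt N13001 F214198) (tt N12834 F214199) (tt N12832 (iv D47836)) (tt N16751 (iv F221879)) (tt N13216 F214200) (tt N17272 D50042))
theorem Q15068 : ∀ i, i < 15068 → P i := stepQ 15067 Q15067 (allL N15067 (tt N17232 (iv F224026)) (tt N13251 F214201) (tt N15067 F214202) (tt N17261 (iv F224159)) (tt N13002 F214203) (tt N12833 F214204) (tt N17272 (iv F224194)) (tt N13218 F214205) (tt N17223 (iv F223992)) (tt N12832 (iv D47837)))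
theorem Q15069 : ∀ i, i < 15069 → P i := stepQ 15068 Q15068 (allL N15068 (tt N16565 (iv F221038)) (tt N13252 F214206) (tt N15068 F214207) (tt N17269 (iv F224184)) (tt N12836 F214208) (tt N16751 (iv F221877)) (tt N16493 (iv F220622)) (tt N12834 (iv D47838)) (tt N13758 F214209) (tt N17273 D50043))
theorem Q15070 : ∀ i, i < 15070 → P i := stepQ 15069 Q15069 (allL N15069 (tt N16567 (iv F221046)) (tt N13253 F214210) (tt N15069 F214211) (tt N17270 (iv F224186)) (tt N12837 F214212) (tt N17272 (iv F224193)) (tt N12835 F214213) (tt N17273 (iv F224199)) (tt N16101 (iv F218423)) (tt N12834 (iv D47839)))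
theorem Q15071 : ∀ i, i < 15071 → P i := stepQ 15070 Q15070 (allL N15070 (tt N16569 (iv F221056)) (tt N13254 F214214) (tt N15070 F214215) (tt N16153 (iv F218726)) (tt N17273 (iv F224197)) (tt N13005 F214216) (tt N13628 F214217) (tt N12837 F214218) (tt N13618 F214219) (tt N12836 (iv D47840)))
theorem Q15072 : ∀ i, i < 15072 → P i := stepQ 15071 Q15071 (allL N15071 (tt N17233 (iv F224033)) (tt N12851 F214220) (tt N17242 (iv F224081)) (tt N16085 (iv F218306)) (tt N13007 F214221) (tt N12848 F214222) (tt N12840 F214223) (tt N16087 (iv F218325)) (tt N12843 F214224) (tt N12838 (iv D47841)))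
theorem Q15073 : ∀ i, i < 15073 → P i := stepQ 15072 Q15072 (allL N15072 (tt N16119 (iv F218538)) (tt N16618 (iv F221292)) (tt N12839 (iv D47842)) (tt N17243 (iv F224086)) (tt N16170 (iv F218834)) (tt N12844 F214225) (tt N16066 (iv F218205)) (tt N12841 F214226) (tt N16065 F218199) (tt N17274 D50044))
theorem Q15074 : ∀ i, i < 15074 → P i := stepQ 15073 Q15073 (allL N15073 (tt N17234 (iv F224041)) (tt N12852 F214227) (tt N17274 (iv F224201)) (tt N12840 F214228) (tt N16195 (iv F218967)) (tt N12845 F214229) (tt N16085 (iv F218309)) (tt N12843 F214230) (tt N16087 (iv F218326)) (tt N12839 (iv D47843)))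
theorem Q15075 : ∀ i, i < 15075 → P i := stepQ 15074 Q15074 (allL N15074 (tt N16674 (iv F221534)) (tt N12841 (iv D47844)) (tt N12853 F214231) (tt N17246 (iv F224100)) (tt N13317 (iv F214235)) (tt N12846 F214232) (tt N13156 F214233) (tt N16618 (iv F221297)) (tt N13155 F214234) (tt N17275 D50045))
theorem Q15076 : ∀ i, i < 15076 → P i := stepQ 15075 Q15075 (allL N15075 (tt N13481 F214236) (tt N13317 F214237) (tt N12842 F214238) (tt N17276 D50046) (tt N12841 (iv D47845)) (tt N15075 F214239) (tt N12878 F214240) (tt N16170 (iv F218837)) (tt N12877 F214241) (tt N17277 D50047))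
theorem Q15077 : ∀ i, i < 15077 → P i := stepQ 15076 Q15076 (allL N15076 (tt N16121 (iv F218551)) (tt N17275 (iv F224204)) (tt N12843 F214242) (tt N17248 (iv F224105)) (tt N17277 (iv F224218)) (tt N12847 F214243) (tt N16155 (iv F218742)) (tt N17274 (iv F224203)) (tt N17242 (iv F224085)) (tt N12841 (iv D47846)))
theorem Q15078 : ∀ i, i < 15078 → P i := stepQ 15077 Q15077 (allL N15077 (tt N13748 F214244) (tt N12855 F214245) (tt N17277 (iv F224217)) (tt N13014 F214246) (tt N12843 F214247) (tt N15077 F214248) (tt N12888 F214249) (tt N16195 (iv F218970)) (tt N13007 F214250) (tt N12842 (iv D47847)))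
theorem Q15079 : ∀ i, i < 15079 → P i := stepQ 15078 Q15078 (allL N15078 (tt N16675 (iv F221540)) (tt N12844 (iv D47848)) (tt N12856 F214251) (tt N17252 (iv F224118)) (tt N15078 F214252) (tt N16618 (iv F221295)) (tt N16437 (iv F220327)) (tt N12846 F214253) (tt N16097 (iv F218392)) (tt N17278 D50048))
theorem Q15080 : ∀ i, i < 15080 → P i := stepQ 15079 Q15079 (allL N15079 (tt N16123 (iv F218564)) (tt N17278 (iv F224222)) (tt N12845 F214254) (tt N17253 (iv F224124)) (tt N15079 F214255) (tt N17274 (iv F224202)) (tt N16092 (iv F218354)) (tt N12847 F214256) (tt N16089 (iv F218338)) (tt N12844 (iv D47849)))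
theorem Q15081 : ∀ i, i < 15081 → P i := stepQ 15080 Q15080 (allL N15080 (tt N16677 (iv F221550)) (tt N12847 F214257) (tt N12859 F214258) (tt N17256 (iv F224141)) (tt N15080 F214259) (tt N17275 (iv F224207)) (tt N12849 F214260) (tt N17278 (iv F224225)) (tt N17279 D50049) (tt N12846 (iv D47850)))
theorem Q15082 : ∀ i, i < 15082 → P i := stepQ 15081 Q15081 (allL N15081 (tt N16061 (iv F218167)) (tt N17279 (iv F224226)) (tt N12848 F214261) (tt N17280 D50050) (tt N15081 F214262) (tt N17242 (iv F224083)) (tt N12850 F214263) (tt N16089 (iv F218337)) (tt N12847 (iv D47851)) (tt N13766 F214264))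
theorem Q15083 : ∀ i, i < 15083 → P i := stepQ 15082 Q15082 (allL N15082 (tt N16562 (iv F221017)) (tt N12850 F214265) (tt N12862 F214266) (tt N17239 (iv F224068)) (tt N15082 F214267) (tt N13091 F214268) (tt N17279 (iv F224230)) (tt N13090 F214269) (tt N12849 (iv D47852)) (tt N13088 F214270))
theorem Q15084 : ∀ i, i < 15084 → P i := stepQ 15083 Q15083 (allL N15083 (tt N16064 (iv F218186)) (tt N17239 (iv F224067)) (tt N17221 (iv F223978)) (tt N12850 (iv D47853)) (tt N16770 (iv F221946)) (tt N13225 F214271) (tt N17280 (iv F224232)) (tt N17202 (iv F223889)) (tt N17268 (iv F224181)) (tt N13224 F214272))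
theorem Q15085 : ∀ i, i < 15085 → P i := stepQ 15084 Q15084 (allL N15084 (tt N12853 (iv D47854)) (tt N15084 F214273) (tt N16674 (iv F221536)) (tt N13280 F214274) (tt N13304 F214275) (tt N12858 F214276) (tt N13140 F214277) (tt N16595 (iv F221192)) (tt N13139 F214278) (tt N17281 D50051))
theorem Q15086 : ∀ i, i < 15086 → P i := stepQ 15085 Q15085 (allL N15085 (tt N17281 (iv F224234)) (tt N12854 F214279) (tt N17275 (iv F224205)) (tt N13282 F214280) (tt N13341 F214281) (tt N12859 F214282) (tt N13172 F214283) (tt N16647 (iv F221392)) (tt N13256 F214284) (tt N12853 (iv D47855)))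
theorem Q15087 : ∀ i, i < 15087 → P i := stepQ 15086 Q15086 (allL N15086 (tt N12856 (iv D47856)) (tt N15086 F214285) (tt N16675 (iv F221542)) (tt N13287 F214286) (tt N15086 F214287) (tt N16595 (iv F221190)) (tt N16427 (iv F220271)) (tt N12858 F214288) (tt N16426 F220266) (tt N17282 D50052))
theorem Q15088 : ∀ i, i < 15088 → P i := stepQ 15087 Q15087 (allL N15087 (tt N17282 (iv F224241)) (tt N12857 F214289) (tt N17278 (iv F224223)) (tt N13288 F214290) (tt N15087 F214291) (tt N16647 (iv F221390)) (tt N16096 (iv F218381)) (tt N12859 F214292) (tt N16094 (iv F218371)) (tt N12856 (iv D47857)))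
theorem Q15089 : ∀ i, i < 15089 → P i := stepQ 15088 Q15088 (allL N15088 (tt N12859 F214293) (tt N15088 F214294) (tt N16677 (iv F221552)) (tt N13290 F214295) (tt N15088 F214296) (tt N17281 (iv F224238)) (tt N12861 F214297) (tt N17282 (iv F224245)) (tt N17283 D50053) (tt N12858 (iv D47858)))
theorem Q15090 : ∀ i, i < 15090 → P i := stepQ 15089 Q15089 (allL N15089 (tt N17283 (iv F224246)) (tt N12860 F214298) (tt N17279 (iv F224227)) (tt N16669 (iv F221508)) (tt N15089 F214299) (tt N13256 F214300) (tt N12862 F214301) (tt N16094 (iv F218370)) (tt N12859 (iv D47859)) (tt N13104 F214302))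
theorem Q15091 : ∀ i, i < 15091 → P i := stepQ 15090 Q15090 (allL N15090 (tt N12862 F214303) (tt N15090 F214304) (tt N16562 (iv F221019)) (tt N15984 (iv F217620)) (tt N15090 F214305) (tt N13081 F214306) (tt N17283 (iv F224250)) (tt N13080 F214307) (tt N12861 (iv D47860)) (tt N13078 F214308))
theorem Q15092 : ∀ i, i < 15092 → P i := stepQ 15091 Q15091 (allL N15091 (tt N15984 (iv F217617)) (tt N12863 F214309) (tt N16114 (iv F218506)) (tt N12862 (iv D47861)) (tt N15981 (iv F217596)) (tt N13109 F214310) (tt N16669 (iv F221510)) (tt N13108 F214311) (tt N13294 F214312) (tt N13105 F214313))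
theorem Q15093 : ∀ i, i < 15093 → P i := stepQ 15092 Q15092 (allL N15092 (tt N15092 F214314) (tt N15981 (iv F217593)) (tt N16401 (iv F220091)) (tt N15092 F214315) (tt N12863 (iv D47862)) (tt N13589 F214316) (tt N16554 (iv F220967)) (tt N13117 F214317) (tt N13295 F214318) (tt N13116 F214319))
theorem Q15094 : ∀ i, i < 15094 → P i := stepQ 15093 Q15093 (allL N15093 (tt N12864 (iv D47863)) (tt N15093 F214320) (tt N13678 F214321) (tt N15093 F214322) (tt N12905 F214323) (tt N16012 (iv F217821)) (tt N12867 F214324) (tt N16009 (iv F217800)) (tt N15093 F214325) (tt N17284 D50054))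
theorem Q15095 : ∀ i, i < 15095 → P i := stepQ 15094 Q15094 (allL N15094 (tt N17284 (iv F224252)) (tt N12865 F214326) (tt N13679 F214327) (tt N15094 F214328) (tt N12906 F214329) (tt N16013 (iv F217829)) (tt N12868 F214330) (tt N16010 (iv F217808)) (tt N17285 D50055) (tt N12864 (iv D47864)))
theorem Q15096 : ∀ i, i < 15096 → P i := stepQ 15095 Q15095 (allL N15095 (tt N15095 F214331) (tt N17285 (iv F224258)) (tt N12866 F214332) (tt N17286 D50056) (tt N12907 F214333) (tt N16014 (iv F217835)) (tt N12869 F214334) (tt N16011 (iv F217814)) (tt N12865 (iv D47865)) (tt N15095 F214335))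
theorem Q15097 : ∀ i, i < 15097 → P i := stepQ 15096 Q15096 (allL N15096 (tt N12868 F214336) (tt N15096 F214337) (tt N13681 F214338) (tt N15096 F214339) (tt N12908 F214340) (tt N15096 F214341) (tt N17284 (iv F224257)) (tt N15096 F214342) (tt N17287 D50057) (tt N12867 (iv D47866)))
theorem Q15098 : ∀ i, i < 15098 → P i := stepQ 15097 Q15097 (allL N15097 (tt N17287 (iv F224270)) (tt N12869 F214343) (tt N13682 F214344) (tt N17288 D50058) (tt N12909 F214345) (tt N15097 F214346) (tt N17285 (iv F224261)) (tt N15097 F214347) (tt N12868 (iv D47867)) (tt N15097 F214348))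
theorem Q15099 : ∀ i, i < 15099 → P i := stepQ 15098 Q15098 (allL N15098 (tt N15098 F214349) (tt N17288 (iv F224277)) (tt N15098 F214350) (tt N12869 (iv D47868)) (tt N17289 D50059) (tt N15098 F214351) (tt N17286 (iv F224266)) (tt N15098 F214352) (tt N15098 F214353) (tt N15098 F214354))
theorem Q15100 : ∀ i, i < 15100 → P i := stepQ 15099 Q15099 (allL N15099 (tt N12961 F214355) (tt N13306 F214356) (tt N15099 F214357) (tt N17290 D50060) (tt N12872 F214358) (tt N12922 F214359) (tt N16157 (iv F218758)) (tt N12921 F214360) (tt N12870 (iv D47869)) (tt N17291 D50061))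
theorem Q15101 : ∀ i, i < 15101 → P i := stepQ 15100 Q15100 (allL N15100 (tt N12959 F214361) (tt N13308 F214362) (tt N15100 F214363) (tt N17292 D50062) (tt N12921 F214364) (tt N12873 F214365) (tt N16246 (iv F219299)) (tt N12872 F214366) (tt N12871 (iv D47870)) (tt N17293 D50063))
theorem Q15102 : ∀ i, i < 15102 → P i := stepQ 15101 Q15101 (allL N15101 (tt N13431 F214367) (tt N13309 F214368) (tt N17195 (iv F223852)) (tt N12872 (iv D47871)) (tt N17294 D50064) (tt N12874 F214369) (tt N16160 (iv F218775)) (tt N17292 (iv F224304)) (tt N12879 F214370) (tt N17295 D50065))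
theorem Q15103 : ∀ i, i < 15103 → P i := stepQ 15102 Q15102 (allL N15102 (tt N13779 F214371) (tt N13310 F214372) (tt N15102 F214373) (tt N17295 (iv F224319)) (tt N17291 (iv F224297)) (tt N12875 F214374) (tt N16161 (iv F218781)) (tt N17293 (iv F224311)) (tt N12963 F214375) (tt N12872 (iv D47872)))
theorem Q15104 : ∀ i, i < 15104 → P i := stepQ 15103 Q15103 (allL N15103 (tt N13426 F214376) (tt N13311 F214377) (tt N17194 (iv F223846)) (tt N12873 (iv D47873)) (tt N13383 F214378) (tt N17292 (iv F224303)) (tt N15103 F214379) (tt N12874 F214380) (tt N12881 F214381) (tt N17296 D50066))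
theorem Q15105 : ∀ i, i < 15105 → P i := stepQ 15104 Q15104 (allL N15104 (tt N13763 F214382) (tt N13312 F214383) (tt N15104 F214384) (tt N17296 (iv F224323)) (tt N13760 F214385) (tt N17293 (iv F224310)) (tt N15104 F214386) (tt N12875 F214387) (tt N12965 F214388) (tt N12873 (iv D47874)))
theorem Q15106 : ∀ i, i < 15106 → P i := stepQ 15105 Q15105 (allL N15105 (tt N13432 F214389) (tt N13314 F214390) (tt N17147 (iv F223569)) (tt N12875 F214391) (tt N13385 F214392) (tt N17295 (iv F224320)) (tt N12876 F214393) (tt N17296 (iv F224326)) (tt N17297 D50067) (tt N12874 (iv D47875)))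
theorem Q15107 : ∀ i, i < 15107 → P i := stepQ 15106 Q15106 (allL N15106 (tt N13442 F214394) (tt N13316 F214395) (tt N17103 (iv F223368)) (tt N12974 F214396) (tt N13386 F214397) (tt N16169 (iv F218828)) (tt N17297 (iv F224331)) (tt N15106 F214398) (tt N12876 (iv D47876)) (tt N12887 F214399))
theorem Q15108 : ∀ i, i < 15108 → P i := stepQ 15107 Q15107 (allL N15107 (tt N13457 F214400) (tt N13318 F214401) (tt N16365 (iv F219883)) (tt N12878 (iv D47877)) (tt N17298 D50068) (tt N12881 F214402) (tt N17276 (iv F224214)) (tt N12879 F214403) (tt N17292 (iv F224305)) (tt N17299 D50069))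
theorem Q15109 : ∀ i, i < 15109 → P i := stepQ 15108 Q15108 (allL N15108 (tt N13482 F214404) (tt N13319 F214405) (tt N12888 F214406) (tt N17299 (iv F224339)) (tt N16155 (iv F218740)) (tt N12882 F214407) (tt N17277 (iv F224220)) (tt N12880 F214408) (tt N12977 F214409) (tt N12878 (iv D47878)))
theorem Q15110 : ∀ i, i < 15110 → P i := stepQ 15109 Q15109 (allL N15109 (tt N13463 F214410) (tt N17300 D50070) (tt N12879 (iv D47879)) (tt N12889 F214411) (tt N17301 D50071) (tt N12883 F214412) (tt N16173 (iv F218851)) (tt N16365 (iv F219886)) (tt N17195 (iv F223854)) (tt N17302 D50072))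
theorem Q15111 : ∀ i, i < 15111 → P i := stepQ 15110 Q15110 (allL N15110 (tt N13451 F214413) (tt N13321 F214414) (tt N17301 (iv F224346)) (tt N17217 (iv F223963)) (tt N12879 (iv D47880)) (tt N13391 F214415) (tt N16174 (iv F218854)) (tt N17298 (iv F224336)) (tt N17294 (iv F224316)) (tt N17303 D50073))
theorem Q15112 : ∀ i, i < 15112 → P i := stepQ 15111 Q15111 (allL N15111 (tt N13467 F214416) (tt N13322 F214417) (tt N17302 (iv F224349)) (tt N12880 F214418) (tt N17303 (iv F224354)) (tt N12884 F214419) (tt N16175 (iv F218859)) (tt N17299 (iv F224341)) (tt N17304 D50074) (tt N12879 (iv D47881)))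
theorem Q15113 : ∀ i, i < 15113 → P i := stepQ 15112 Q15112 (allL N15112 (tt N13455 F214420) (tt N17305 D50075) (tt N12881 (iv D47882)) (tt N12891 F214421) (tt N13393 F214422) (tt N16365 (iv F219884)) (tt N15112 F214423) (tt N12883 F214424) (tt N17194 (iv F223850)) (tt N17306 D50076))
theorem Q15114 : ∀ i, i < 15114 → P i := stepQ 15113 Q15113 (allL N15113 (tt N13458 F214425) (tt N13325 F214426) (tt N17306 (iv F224366)) (tt N12882 F214427) (tt N13394 F214428) (tt N17299 (iv F224340)) (tt N15113 F214429) (tt N12884 F214430) (tt N17307 D50077) (tt N12881 (iv D47883)))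
theorem Q15115 : ∀ i, i < 15115 → P i := stepQ 15114 Q15114 (allL N15114 (tt N17308 D50078) (tt N12883 (iv D47884)) (tt N13326 F214431) (tt N12893 F214432) (tt N13395 F214433) (tt N17300 (iv F224344)) (tt N12885 F214434) (tt N17305 (iv F224364)) (tt N16859 (iv F222334)) (tt N17309 D50079))
theorem Q15116 : ∀ i, i < 15116 → P i := stepQ 15115 Q15115 (allL N15115 (tt N13464 F214435) (tt N17309 (iv F224383)) (tt N12884 F214436) (tt N12894 F214437) (tt N13396 F214438) (tt N17302 (iv F224351)) (tt N12886 F214439) (tt N17306 (iv F224370)) (tt N17310 D50080) (tt N12883 (iv D47885)))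
theorem Q15117 : ∀ i, i < 15117 → P i := stepQ 15116 Q15116 (allL N15116 (tt N13468 F214440) (tt N13331 F214441) (tt N17310 (iv F224389)) (tt N12989 F214442) (tt N13397 F214443) (tt N17304 (iv F224359)) (tt N12887 F214444) (tt N17307 (iv F224376)) (tt N12884 (iv D47886)) (tt N17297 (iv F224332)))
theorem Q15118 : ∀ i, i < 15118 → P i := stepQ 15117 Q15117 (allL N15117 (tt N12885 (iv D47887)) (tt N13469 F214445) (tt N12972 F214446) (tt N12896 F214447) (tt N13398 F214448) (tt N12970 F214449) (tt N17308 (iv F224381)) (tt N15117 F214450) (tt N12993 F214451) (tt N17311 D50081))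
theorem Q15119 : ∀ i, i < 15119 → P i := stepQ 15118 Q15118 (allL N15118 (tt N17311 (iv F224392)) (tt N12886 F214452) (tt N13333 F214453) (tt N12897 F214454) (tt N13399 F214455) (tt N16185 (iv F218910)) (tt N17309 (iv F224387)) (tt N15118 F214456) (tt N17312 D50082) (tt N12885 (iv D47888)))
theorem Q15120 : ∀ i, i < 15120 → P i := stepQ 15119 Q15119 (allL N15119 (tt N13476 F214457) (tt N17312 (iv F224399)) (tt N12887 F214458) (tt N17313 D50083) (tt N13400 F214459) (tt N16187 (iv F218921)) (tt N17310 (iv F224391)) (tt N15119 F214460) (tt N12886 (iv D47889)) (tt N17103 (iv F223371)))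
theorem Q15121 : ∀ i, i < 15121 → P i := stepQ 15120 Q15120 (allL N15120 (tt N17314 D50084) (tt N12889 (iv D47890)) (tt N12899 F214461) (tt N17300 (iv F224343)) (tt N16359 (iv F219852)) (tt N12893 F214462) (tt N16198 (iv F218988)) (tt N16363 (iv F219876)) (tt N15120 F214463) (tt N17315 D50085))
theorem Q15122 : ∀ i, i < 15122 → P i := stepQ 15121 Q15121 (allL N15121 (tt N13727 F214464) (tt N17315 (iv F224412)) (tt N12890 F214465) (tt N17302 (iv F224350)) (tt N16360 (iv F219858)) (tt N12894 F214466) (tt N16200 (iv F219001)) (tt N16366 (iv F219892)) (tt N17316 D50086) (tt N12889 (iv D47891)))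
theorem Q15123 : ∀ i, i < 15123 → P i := stepQ 15122 Q15122 (allL N15122 (tt N13732 F214467) (tt N12901 F214468) (tt N17316 (iv F224416)) (tt N13015 F214469) (tt N16361 (iv F219863)) (tt N12895 F214470) (tt N16202 (iv F219013)) (tt N16368 (iv F219903)) (tt N12890 (iv D47892)) (tt N15122 F214471))
theorem Q15124 : ∀ i, i < 15124 → P i := stepQ 15123 Q15123 (allL N15123 (tt N17317 D50087) (tt N12891 (iv D47893)) (tt N12902 F214472) (tt N17305 (iv F224361)) (tt N13675 F214473) (tt N16363 (iv F219874)) (tt N15123 F214474) (tt N12893 F214475) (tt N15123 F214476) (tt N17318 D50088))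
theorem Q15125 : ∀ i, i < 15125 → P i := stepQ 15124 Q15124 (allL N15124 (tt N13717 F214477) (tt N17318 (iv F224425)) (tt N12892 F214478) (tt N17306 (iv F224367)) (tt N13676 F214479) (tt N16366 (iv F219890)) (tt N15124 F214480) (tt N12894 F214481) (tt N17319 D50089) (tt N12891 (iv D47894)))
theorem Q15126 : ∀ i, i < 15126 → P i := stepQ 15125 Q15125 (allL N15125 (tt N13720 F214482) (tt N12904 F214483) (tt N17319 (iv F224431)) (tt N13018 F214484) (tt N13677 F214485) (tt N16368 (iv F219901)) (tt N15125 F214486) (tt N12895 F214487) (tt N12892 (iv D47895)) (tt N15125 F214488))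
theorem Q15127 : ∀ i, i < 15127 → P i := stepQ 15126 Q15126 (allL N15126 (tt N12893 (iv D47896)) (tt N13721 F214489) (tt N12905 F214490) (tt N17308 (iv F224379)) (tt N13678 F214491) (tt N17314 (iv F224409)) (tt N12896 F214492) (tt N17317 (iv F224423)) (tt N15126 F214493) (tt N17320 D50090))
theorem Q15128 : ∀ i, i < 15128 → P i := stepQ 15127 Q15127 (allL N15127 (tt N17320 (iv F224436)) (tt N12894 F214494) (tt N12906 F214495) (tt N17309 (iv F224385)) (tt N13679 F214496) (tt N17315 (iv F224414)) (tt N12897 F214497) (tt N17318 (iv F224429)) (tt N17321 D50091) (tt N12893 (iv D47897)))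
theorem Q15129 : ∀ i, i < 15129 → P i := stepQ 15128 Q15128 (allL N15128 (tt N13728 F214498) (tt N17321 (iv F224441)) (tt N12895 F214499) (tt N17322 D50092) (tt N13680 F214500) (tt N17316 (iv F224417)) (tt N12898 F214501) (tt N17319 (iv F224434)) (tt N12894 (iv D47898)) (tt N15128 F214502))
theorem Q15130 : ∀ i, i < 15130 → P i := stepQ 15129 Q15129 (allL N15129 (tt N12897 F214503) (tt N13734 F214504) (tt N12908 F214505) (tt N17311 (iv F224395)) (tt N13681 F214506) (tt N16207 (iv F219044)) (tt N17320 (iv F224440)) (tt N15129 F214507) (tt N17323 D50093) (tt N12896 (iv D47899)))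
theorem Q15131 : ∀ i, i < 15131 → P i := stepQ 15130 Q15130 (allL N15130 (tt N17323 (iv F224450)) (tt N12898 F214508) (tt N12909 F214509) (tt N17324 D50094) (tt N13682 F214510) (tt N16208 (iv F219050)) (tt N17321 (iv F224444)) (tt N15130 F214511) (tt N12897 (iv D47900)) (tt N15130 F214512))
theorem Q15132 : ∀ i, i < 15132 → P i := stepQ 15131 Q15131 (allL N15131 (tt N13743 F214513) (tt N17324 (iv F224456)) (tt N13024 F214514) (tt N12898 (iv D47901)) (tt N17325 D50095) (tt N16209 (iv F219055)) (tt N17322 (iv F224448)) (tt N15131 F214515) (tt N17313 (iv F224406)) (tt N15131 F214516))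
theorem Q15133 : ∀ i, i < 15133 → P i := stepQ 15132 Q15132 (allL N15132 (tt N12899 (iv D47902)) (tt N15132 F214517) (tt N17314 (iv F224408)) (tt N13359 F214518) (tt N16378 (iv F219950)) (tt N12905 F214519) (tt N13539 F214520) (tt N16381 (iv F219971)) (tt N15132 F214521) (tt N17326 D50096))
theorem Q15134 : ∀ i, i < 15134 → P i := stepQ 15133 Q15133 (allL N15133 (tt N17326 (iv F224464)) (tt N12900 F214522) (tt N17315 (iv F224413)) (tt N13361 F214523) (tt N16379 (iv F219957)) (tt N12906 F214524) (tt N16213 (iv F219084)) (tt N16383 (iv F219983)) (tt N17327 D50097) (tt N12899 (iv D47903)))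
theorem Q15135 : ∀ i, i < 15135 → P i := stepQ 15134 Q15134 (allL N15134 (tt N15134 F214525) (tt N17327 (iv F224469)) (tt N12901 F214526) (tt N17328 D50098) (tt N16380 (iv F219962)) (tt N12907 F214527) (tt N16215 (iv F219096)) (tt N16385 (iv F219994)) (tt N12900 (iv D47904)) (tt N15134 F214528))
theorem Q15136 : ∀ i, i < 15136 → P i := stepQ 15135 Q15135 (allL N15135 (tt N12902 (iv D47905)) (tt N15135 F214529) (tt N17317 (iv F224420)) (tt N13365 F214530) (tt N16009 (iv F217797)) (tt N16381 (iv F219969)) (tt N15135 F214531) (tt N12905 F214532) (tt N15135 F214533) (tt N17329 D50099))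
theorem Q15137 : ∀ i, i < 15137 → P i := stepQ 15136 Q15136 (allL N15136 (tt N17329 (iv F224479)) (tt N12903 F214534) (tt N17318 (iv F224426)) (tt N13366 F214535) (tt N16010 (iv F217805)) (tt N16383 (iv F219981)) (tt N15136 F214536) (tt N12906 F214537) (tt N17330 D50100) (tt N12902 (iv D47906)))
theorem Q15138 : ∀ i, i < 15138 → P i := stepQ 15137 Q15137 (allL N15137 (tt N15137 F214538) (tt N17330 (iv F224484)) (tt N12904 F214539) (tt N13660 F214540) (tt N16011 (iv F217811)) (tt N16385 (iv F219992)) (tt N15137 F214541) (tt N12907 F214542) (tt N12903 (iv D47907)) (tt N15137 F214543))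
theorem Q15139 : ∀ i, i < 15139 → P i := stepQ 15138 Q15138 (allL N15138 (tt N12906 F214544) (tt N15138 F214545) (tt N17320 (iv F224438)) (tt N13368 F214546) (tt N17284 (iv F224256)) (tt N17326 (iv F224467)) (tt N12908 F214547) (tt N17329 (iv F224483)) (tt N17331 D50101) (tt N12905 (iv D47908)))
theorem Q15140 : ∀ i, i < 15140 → P i := stepQ 15139 Q15139 (allL N15139 (tt N17331 (iv F224489)) (tt N12907 F214548) (tt N17321 (iv F224442)) (tt N17332 D50102) (tt N17285 (iv F224260)) (tt N17327 (iv F224470)) (tt N12909 F214549) (tt N17330 (iv F224487)) (tt N12906 (iv D47909)) (tt N15139 F214550))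
theorem Q15141 : ∀ i, i < 15141 → P i := stepQ 15140 Q15140 (allL N15140 (tt N15140 F214551) (tt N17332 (iv F224493)) (tt N13043 F214552) (tt N12907 (iv D47910)) (tt N13655 (iv F214557)) (tt N17328 (iv F224474)) (tt N12910 F214553) (tt N13660 F214554) (tt N13370 F214555) (tt N15140 F214556))
theorem Q15142 : ∀ i, i < 15142 → P i := stepQ 15141 Q15141 (allL N15141 (tt N12909 F214558) (tt N15141 F214559) (tt N17323 (iv F224452)) (tt N16851 (iv F222284)) (tt N17287 (iv F224273)) (tt N16220 (iv F219127)) (tt N17331 (iv F224491)) (tt N15141 F214560) (tt N12908 (iv D47911)) (tt N15141 F214561))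
theorem Q15143 : ∀ i, i < 15143 → P i := stepQ 15142 Q15142 (allL N15142 (tt N16851 (iv F222281)) (tt N12910 F214562) (tt N16245 (iv F219289)) (tt N12909 (iv D47912)) (tt N16244 (iv F219282)) (tt N16221 (iv F219133)) (tt N17332 (iv F224494)) (tt N15142 F214563) (tt N13372 F214564) (tt N15142 F214565))
theorem Q15144 : ∀ i, i < 15144 → P i := stepQ 15143 Q15143 (allL N15143 (tt N15143 F214566) (tt N16244 (iv F219280)) (tt N13046 F214567) (tt N17289 (iv F224284)) (tt N12910 (iv D47913)) (tt N15990 (iv F217665)) (tt N13655 F214568) (tt N15143 F214569) (tt N13373 F214570) (tt N15143 F214571))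
theorem Q15145 : ∀ i, i < 15145 → P i := stepQ 15144 Q15144 (allL N15144 (tt N13374 F214572) (tt N12921 F214573) (tt N13514 F214574) (tt N16910 (iv F222567)) (tt N13308 F214575) (tt N12912 F214576) (tt N16224 (iv F219160)) (tt N13306 F214577) (tt N12911 (iv D47914)) (tt N17333 D50103))
theorem Q15146 : ∀ i, i < 15146 → P i := stepQ 15145 Q15145 (allL N15145 (tt N13376 F214578) (tt N12924 F214579) (tt N13786 F214580) (tt N16911 (iv F222573)) (tt N13761 F214581) (tt N17333 (iv F224503)) (tt N12913 F214582) (tt N13772 F214583) (tt N13764 F214584) (tt N12912 (iv D47915)))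
theorem Q15147 : ∀ i, i < 15147 → P i := stepQ 15146 Q15146 (allL N15146 (tt N13337 F214585) (tt N12928 F214586) (tt N15146 F214587) (tt N17334 D50104) (tt N13149 F214588) (tt N12916 F214589) (tt N16603 (iv F221239)) (tt N12915 F214590) (tt N12914 (iv D47916)) (tt N17335 D50105))
theorem Q15148 : ∀ i, i < 15148 → P i := stepQ 15147 Q15147 (allL N15147 (tt N13329 F214591) (tt N12929 F214592) (tt N16890 (iv F222483)) (tt N12915 (iv D47917)) (tt N17336 D50106) (tt N12917 F214593) (tt N16231 (iv F219203)) (tt N17334 (iv F224509)) (tt N16910 (iv F222569)) (tt N17337 D50107))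
theorem Q15149 : ∀ i, i < 15149 → P i := stepQ 15148 Q15148 (allL N15148 (tt N13339 F214594) (tt N12930 F214595) (tt N15148 F214596) (tt N17337 (iv F224523)) (tt N17223 (iv F223989)) (tt N12918 F214597) (tt N16232 (iv F219208)) (tt N17335 (iv F224516)) (tt N13002 F214598) (tt N12915 (iv D47918)))
theorem Q15150 : ∀ i, i < 15150 → P i := stepQ 15149 Q15149 (allL N15149 (tt N13324 F214599) (tt N12931 F214600) (tt N16888 (iv F222472)) (tt N12916 (iv D47919)) (tt N13300 F214601) (tt N17334 (iv F224508)) (tt N15149 F214602) (tt N12917 F214603) (tt N13771 F214604) (tt N17338 D50108))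
theorem Q15151 : ∀ i, i < 15151 → P i := stepQ 15150 Q15150 (allL N15150 (tt N13338 F214605) (tt N12932 F214606) (tt N15150 F214607) (tt N17338 (iv F224527)) (tt N12920 F214608) (tt N17335 (iv F224515)) (tt N15150 F214609) (tt N12918 F214610) (tt N13000 F214611) (tt N12916 (iv D47920)))
theorem Q15152 : ∀ i, i < 15152 → P i := stepQ 15151 Q15151 (allL N15151 (tt N13330 F214612) (tt N12935 F214613) (tt N16891 (iv F222487)) (tt N12918 F214614) (tt N13302 F214615) (tt N17337 (iv F224524)) (tt N12919 F214616) (tt N17338 (iv F224530)) (tt N17339 D50109) (tt N12917 (iv D47921)))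
theorem Q15153 : ∀ i, i < 15153 → P i := stepQ 15152 Q15152 (allL N15152 (tt N13336 F214617) (tt N12940 F214618) (tt N16893 (iv F222497)) (tt N12998 F214619) (tt N13303 F214620) (tt N16240 (iv F219256)) (tt N17339 (iv F224535)) (tt N15152 F214621) (tt N12919 (iv D47922)) (tt N16917 (iv F222602)))
theorem Q15154 : ∀ i, i < 15154 → P i := stepQ 15153 Q15153 (allL N15153 (tt N12962 F214622) (tt N16910 (iv F222565)) (tt N17340 D50110) (tt N12921 (iv D47923)) (tt N17341 D50111) (tt N12923 F214623) (tt N16248 (iv F219306)) (tt N17290 (iv F224292)) (tt N12929 F214624) (tt N17342 D50112))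
theorem Q15155 : ∀ i, i < 15155 → P i := stepQ 15154 Q15154 (allL N15154 (tt N12963 F214625) (tt N17333 (iv F224500)) (tt N15154 F214626) (tt N17342 (iv F224543)) (tt N17293 (iv F224309)) (tt N12924 F214627) (tt N16249 (iv F219311)) (tt N17291 (iv F224299)) (tt N13779 F214628) (tt N12921 (iv D47924)))
theorem Q15156 : ∀ i, i < 15156 → P i := stepQ 15155 Q15155 (allL N15155 (tt N12964 F214629) (tt N13771 F214630) (tt N17343 D50113) (tt N12922 (iv D47925)) (tt N13774 F214631) (tt N17290 (iv F224291)) (tt N15155 F214632) (tt N12923 F214633) (tt N12931 F214634) (tt N17344 D50114))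
theorem Q15157 : ∀ i, i < 15157 → P i := stepQ 15156 Q15156 (allL N15156 (tt N12965 F214635) (tt N13772 F214636) (tt N15156 F214637) (tt N17344 (iv F224553)) (tt N13759 F214638) (tt N17291 (iv F224298)) (tt N15156 F214639) (tt N12924 F214640) (tt N13763 F214641) (tt N12922 (iv D47926)))
theorem Q15158 : ∀ i, i < 15158 → P i := stepQ 15157 Q15157 (allL N15157 (tt N12966 F214642) (tt N16180 (iv F218883)) (tt N12923 (iv D47927)) (tt N15157 F214643) (tt N16179 F218881) (tt N17340 (iv F224538)) (tt N12925 F214644) (tt N17343 (iv F224549)) (tt N12933 F214645) (tt N17345 D50115))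
theorem Q15159 : ∀ i, i < 15159 → P i := stepQ 15158 Q15158 (allL N15158 (tt N12968 F214646) (tt N16911 (iv F222571)) (tt N17345 (iv F224558)) (tt N12924 F214647) (tt N16909 (iv F222561)) (tt N17342 (iv F224544)) (tt N12926 F214648) (tt N17344 (iv F224556)) (tt N17346 D50116) (tt N12923 (iv D47928)))
theorem Q15160 : ∀ i, i < 15160 → P i := stepQ 15159 Q15159 (allL N15159 (tt N12971 F214649) (tt N16186 (iv F218913)) (tt N12926 F214650) (tt N15159 F214651) (tt N16185 (iv F218909)) (tt N16255 (iv F219347)) (tt N17345 (iv F224560)) (tt N15159 F214652) (tt N17347 D50117) (tt N12925 (iv D47929)))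
theorem Q15161 : ∀ i, i < 15161 → P i := stepQ 15160 Q15160 (allL N15160 (tt N12974 F214653) (tt N16917 (iv F222597)) (tt N17347 (iv F224566)) (tt N13442 F214654) (tt N16916 (iv F222592)) (tt N16257 (iv F219358)) (tt N17346 (iv F224563)) (tt N15160 F214655) (tt N12926 (iv D47930)) (tt N12940 F214656))
theorem Q15162 : ∀ i, i < 15162 → P i := stepQ 15161 Q15161 (allL N15161 (tt N12975 F214657) (tt N16603 (iv F221235)) (tt N12945 F214658) (tt N17348 D50118) (tt N16059 (iv F218157)) (tt N15161 F214659) (tt N12928 F214660) (tt N16258 (iv F219366)) (tt N12927 (iv D47931)) (tt N17349 D50119))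
theorem Q15163 : ∀ i, i < 15163 → P i := stepQ 15162 Q15162 (allL N15162 (tt N12976 F214661) (tt N17334 (iv F224507)) (tt N17350 D50120) (tt N12928 (iv D47932)) (tt N17351 D50121) (tt N12931 F214662) (tt N17348 (iv F224571)) (tt N12929 F214663) (tt N17290 (iv F224293)) (tt N17352 D50122))
theorem Q15164 : ∀ i, i < 15164 → P i := stepQ 15163 Q15163 (allL N15163 (tt N12977 F214664) (tt N17335 (iv F224512)) (tt N12947 F214665) (tt N17352 (iv F224584)) (tt N17213 (iv F223941)) (tt N12932 F214666) (tt N17349 (iv F224575)) (tt N12930 F214667) (tt N13482 F214668) (tt N12928 (iv D47933)))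
theorem Q15165 : ∀ i, i < 15165 → P i := stepQ 15164 Q15164 (allL N15164 (tt N12978 F214669) (tt N17353 D50123) (tt N12929 (iv D47934)) (tt N12948 F214670) (tt N17354 D50124) (tt N12933 F214671) (tt N16261 (iv F219380)) (tt N17350 (iv F224580)) (tt N17340 (iv F224539)) (tt N17355 D50125))
theorem Q15166 : ∀ i, i < 15166 → P i := stepQ 15165 Q15165 (allL N15165 (tt N12979 F214672) (tt N17336 (iv F224519)) (tt N17354 (iv F224591)) (tt N17226 (iv F224004)) (tt N12929 (iv D47935)) (tt N17356 D50126) (tt N16262 (iv F219384)) (tt N17351 (iv F224582)) (tt N17341 (iv F224541)) (tt N17357 D50127))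
theorem Q15167 : ∀ i, i < 15167 → P i := stepQ 15166 Q15166 (allL N15166 (tt N12980 F214673) (tt N17337 (iv F224522)) (tt N17355 (iv F224593)) (tt N12930 F214674) (tt N17357 (iv F224600)) (tt N12935 F214675) (tt N16263 (iv F219388)) (tt N17352 (iv F224586)) (tt N17358 D50128) (tt N12929 (iv D47936)))
theorem Q15168 : ∀ i, i < 15168 → P i := stepQ 15167 Q15167 (allL N15167 (tt N12981 F214676) (tt N17359 D50129) (tt N12931 (iv D47937)) (tt N12951 F214677) (tt N17360 D50130) (tt N17350 (iv F224579)) (tt N15167 F214678) (tt N12933 F214679) (tt N17343 (iv F224550)) (tt N17361 D50131))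
theorem Q15169 : ∀ i, i < 15169 → P i := stepQ 15168 Q15168 (allL N15168 (tt N12982 F214680) (tt N13300 F214681) (tt N17360 (iv F224608)) (tt N12941 F214682) (tt N12931 (iv D47938)) (tt N17362 D50132) (tt N15168 F214683) (tt N12934 F214684) (tt N13774 F214685) (tt N17363 D50133))
theorem Q15170 : ∀ i, i < 15170 → P i := stepQ 15169 Q15169 (allL N15169 (tt N12983 F214686) (tt N17338 (iv F224526)) (tt N17361 (iv F224614)) (tt N12932 F214687) (tt N17363 (iv F224626)) (tt N17352 (iv F224585)) (tt N15169 F214688) (tt N12935 F214689) (tt N17364 D50134) (tt N12931 (iv D47939)))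
theorem Q15171 : ∀ i, i < 15171 → P i := stepQ 15170 Q15170 (allL N15170 (tt N17047 (iv F223181)) (tt N12933 (iv D47940)) (tt N16165 (iv F218803)) (tt N12953 F214690) (tt N16164 F218800) (tt N17353 (iv F224588)) (tt N12936 F214691) (tt N17359 (iv F224606)) (tt N16180 (iv F218887)) (tt N17365 D50135))
theorem Q15172 : ∀ i, i < 15172 → P i := stepQ 15171 Q15171 (allL N15171 (tt N12985 F214692) (tt N16164 (iv F218796)) (tt N12934 F214693) (tt N15171 F214694) (tt N12933 (iv D47941)) (tt N17366 D50136) (tt N12937 F214695) (tt N17360 (iv F224611)) (tt N16179 (iv F218879)) (tt N17367 D50137))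
theorem Q15173 : ∀ i, i < 15173 → P i := stepQ 15172 Q15172 (allL N15172 (tt N12986 F214696) (tt N17365 (iv F224633)) (tt N12935 F214697) (tt N12954 F214698) (tt N17367 (iv F224642)) (tt N17355 (iv F224595)) (tt N12938 F214699) (tt N17361 (iv F224617)) (tt N17368 D50138) (tt N12933 (iv D47942)))
theorem Q15174 : ∀ i, i < 15174 → P i := stepQ 15173 Q15173 (allL N15173 (tt N12987 F214700) (tt N13298 F214701) (tt N17366 (iv F224637)) (tt N12943 F214702) (tt N17356 (iv F224598)) (tt N12934 (iv D47943)) (tt N16855 (iv F222309)) (tt N17362 (iv F224621)) (tt N16899 (iv F222524)) (tt N17369 D50139))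
theorem Q15175 : ∀ i, i < 15175 → P i := stepQ 15174 Q15174 (allL N15174 (tt N12988 F214703) (tt N13302 F214704) (tt N17367 (iv F224640)) (tt N12944 F214705) (tt N12935 F214706) (tt N17369 (iv F224650)) (tt N12939 F214707) (tt N17363 (iv F224628)) (tt N17370 D50140) (tt N12934 (iv D47944)))
theorem Q15176 : ∀ i, i < 15176 → P i := stepQ 15175 Q15175 (allL N15175 (tt N12989 F214708) (tt N17339 (iv F224532)) (tt N17368 (iv F224645)) (tt N13468 F214709) (tt N17370 (iv F224654)) (tt N17358 (iv F224603)) (tt N12940 F214710) (tt N17364 (iv F224632)) (tt N12935 (iv D47945)) (tt N17346 (iv F224564)))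
theorem Q15177 : ∀ i, i < 15177 → P i := stepQ 15176 Q15176 (allL N15176 (tt N17048 (iv F223187)) (tt N12938 F214711) (tt N16168 (iv F218820)) (tt N12957 F214712) (tt N16167 (iv F218815)) (tt N13508 F214713) (tt N17365 (iv F224635)) (tt N15176 F214714) (tt N17371 D50141) (tt N12936 (iv D47946)))
theorem Q15178 : ∀ i, i < 15178 → P i := stepQ 15177 Q15177 (allL N15177 (tt N12994 F214715) (tt N16167 (iv F218812)) (tt N12939 F214716) (tt N15177 F214717) (tt N12938 F214718) (tt N16861 (iv F222344)) (tt N17367 (iv F224643)) (tt N15177 F214719) (tt N17372 D50142) (tt N12937 (iv D47947)))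
theorem Q15179 : ∀ i, i < 15179 → P i := stepQ 15178 Q15178 (allL N15178 (tt N12995 F214720) (tt N17371 (iv F224656)) (tt N12940 F214721) (tt N17373 D50143) (tt N17372 (iv F224661)) (tt N16269 (iv F219419)) (tt N17368 (iv F224646)) (tt N15178 F214722) (tt N12938 (iv D47948)) (tt N17347 (iv F224568)))
theorem Q15180 : ∀ i, i < 15180 → P i := stepQ 15179 Q15179 (allL N15179 (tt N12998 F214723) (tt N13303 F214724) (tt N17372 (iv F224660)) (tt N13336 F214725) (tt N12940 F214726) (tt N16862 (iv F222349)) (tt N17370 (iv F224655)) (tt N15179 F214727) (tt N12939 (iv D47949)) (tt N16916 (iv F222595)))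
theorem Q15181 : ∀ i, i < 15181 → P i := stepQ 15180 Q15180 (allL N15180 (tt N12999 F214728) (tt N13297 F214729) (tt N15180 F214730) (tt N17362 (iv F224620)) (tt N13188 F214731) (tt N12941 (iv D47950)) (tt N16690 (iv F221616)) (tt N12943 F214732) (tt N13187 F214733) (tt N17374 D50144))
theorem Q15182 : ∀ i, i < 15182 → P i := stepQ 15181 Q15181 (allL N15181 (tt N13000 F214734) (tt N13301 F214735) (tt N15181 F214736) (tt N17363 (iv F224625)) (tt N12942 F214737) (tt N17374 (iv F224671)) (tt N15181 F214738) (tt N12944 F214739) (tt N13338 F214740) (tt N12941 (iv D47951)))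
theorem Q15183 : ∀ i, i < 15183 → P i := stepQ 15182 Q15182 (allL N15182 (tt N13002 F214741) (tt N13299 F214742) (tt N15182 F214743) (tt N17369 (iv F224649)) (tt N17232 (iv F224029)) (tt N12944 F214744) (tt N16856 (iv F222315)) (tt N17374 (iv F224672)) (tt N13339 F214745) (tt N12943 (iv D47952)))
theorem Q15184 : ∀ i, i < 15184 → P i := stepQ 15183 Q15183 (allL N15183 (tt N13006 F214746) (tt N15183 F214747) (tt N17375 D50145) (tt N12945 (iv D47953)) (tt N13730 F214748) (tt N15183 F214749) (tt N12946 F214750) (tt N13710 F214751) (tt N15183 F214752) (tt N17376 D50146))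
theorem Q15185 : ∀ i, i < 15185 → P i := stepQ 15184 Q15184 (allL N15184 (tt N13007 F214753) (tt N15184 F214754) (tt N17349 (iv F224573)) (tt N17376 (iv F224682)) (tt N17233 (iv F224036)) (tt N15184 F214755) (tt N12947 F214756) (tt N16282 (iv F219494)) (tt N13748 F214757) (tt N12945 (iv D47954)))
theorem Q15186 : ∀ i, i < 15186 → P i := stepQ 15185 Q15185 (allL N15185 (tt N13008 F214758) (tt N17377 D50147) (tt N12946 (iv D47955)) (tt N17350 (iv F224578)) (tt N17378 D50148) (tt N12951 F214759) (tt N17375 (iv F224677)) (tt N12948 F214760) (tt N15185 F214761) (tt N17379 D50149))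
theorem Q15187 : ∀ i, i < 15187 → P i := stepQ 15186 Q15186 (allL N15186 (tt N13009 F214762) (tt N15186 F214763) (tt N17378 (iv F224692)) (tt N13747 F214764) (tt N12946 (iv D47956)) (tt N15186 F214765) (tt N13730 F214766) (tt N12949 F214767) (tt N15186 F214768) (tt N17380 D50150))
theorem Q15188 : ∀ i, i < 15188 → P i := stepQ 15187 Q15187 (allL N15187 (tt N13010 F214769) (tt N15187 F214770) (tt N17379 (iv F224698)) (tt N12947 F214771) (tt N17380 (iv F224704)) (tt N12952 F214772) (tt N17376 (iv F224685)) (tt N12950 F214773) (tt N17381 D50151) (tt N12946 (iv D47957)))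
theorem Q15189 : ∀ i, i < 15189 → P i := stepQ 15188 Q15188 (allL N15188 (tt N17382 D50152) (tt N12948 (iv D47958)) (tt N15188 F214774) (tt N17353 (iv F224587)) (tt N17383 D50153) (tt N12953 F214775) (tt N13757 F214776) (tt N17377 (iv F224689)) (tt N15188 F214777) (tt N17384 D50154))
theorem Q15190 : ∀ i, i < 15190 → P i := stepQ 15189 Q15189 (allL N15189 (tt N13012 F214778) (tt N17383 (iv F224719)) (tt N12949 F214779) (tt N17385 D50155) (tt N12948 (iv D47959)) (tt N15189 F214780) (tt N13716 F214781) (tt N17378 (iv F224695)) (tt N15189 F214782) (tt N17386 D50156))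
theorem Q15191 : ∀ i, i < 15191 → P i := stepQ 15190 Q15190 (allL N15190 (tt N13013 F214783) (tt N17384 (iv F224724)) (tt N12950 F214784) (tt N17355 (iv F224594)) (tt N17386 (iv F224734)) (tt N12954 F214785) (tt N16283 (iv F219501)) (tt N17379 (iv F224700)) (tt N17387 D50157) (tt N12948 (iv D47960)))
theorem Q15192 : ∀ i, i < 15192 → P i := stepQ 15191 Q15191 (allL N15191 (tt N13014 F214786) (tt N15191 F214787) (tt N17386 (iv F224733)) (tt N13748 F214788) (tt N12950 F214789) (tt N15191 F214790) (tt N13719 F214791) (tt N17380 (iv F224707)) (tt N17388 D50158) (tt N12949 (iv D47961)))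
theorem Q15193 : ∀ i, i < 15193 → P i := stepQ 15192 Q15192 (allL N15192 (tt N13015 F214792) (tt N15192 F214793) (tt N17387 (iv F224738)) (tt N13732 F214794) (tt N17388 (iv F224743)) (tt N12955 F214795) (tt N16284 (iv F219508)) (tt N17381 (iv F224712)) (tt N12950 (iv D47962)) (tt N15192 F214796))
theorem Q15194 : ∀ i, i < 15194 → P i := stepQ 15193 Q15193 (allL N15193 (tt N17389 D50159) (tt N12951 (iv D47963)) (tt N15193 F214797) (tt N17359 (iv F224604)) (tt N15193 F214798) (tt N17377 (iv F224688)) (tt N15193 F214799) (tt N12953 F214800) (tt N15193 F214801) (tt N17390 D50160))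
theorem Q15195 : ∀ i, i < 15195 → P i := stepQ 15194 Q15194 (allL N15194 (tt N13017 F214802) (tt N17390 (iv F224753)) (tt N12952 F214803) (tt N17361 (iv F224615)) (tt N15194 F214804) (tt N17379 (iv F224699)) (tt N15194 F214805) (tt N12954 F214806) (tt N17391 D50161) (tt N12951 (iv D47964)))
theorem Q15196 : ∀ i, i < 15196 → P i := stepQ 15195 Q15195 (allL N15195 (tt N13018 F214807) (tt N15195 F214808) (tt N17391 (iv F224759)) (tt N13720 F214809) (tt N15195 F214810) (tt N17381 (iv F224711)) (tt N15195 F214811) (tt N12955 F214812) (tt N12952 (iv D47965)) (tt N15195 F214813))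
theorem Q15197 : ∀ i, i < 15197 → P i := stepQ 15196 Q15196 (allL N15196 (tt N12953 (iv D47966)) (tt N13019 F214814) (tt N15196 F214815) (tt N17047 (iv F223184)) (tt N15196 F214816) (tt N17382 (iv F224716)) (tt N12956 F214817) (tt N17389 (iv F224751)) (tt N15196 F214818) (tt N17392 D50162))
theorem Q15198 : ∀ i, i < 15198 → P i := stepQ 15197 Q15197 (allL N15197 (tt N17392 (iv F224764)) (tt N12954 F214819) (tt N15197 F214820) (tt N17365 (iv F224634)) (tt N15197 F214821) (tt N17384 (iv F224726)) (tt N12957 F214822) (tt N17390 (iv F224757)) (tt N17393 D50163) (tt N12953 (iv D47967)))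
theorem Q15199 : ∀ i, i < 15199 → P i := stepQ 15198 Q15198 (allL N15198 (tt N13021 F214823) (tt N17393 (iv F224769)) (tt N12955 F214824) (tt N17394 D50164) (tt N15198 F214825) (tt N17387 (iv F224739)) (tt N12958 F214826) (tt N17391 (iv F224762)) (tt N12954 (iv D47968)) (tt N15198 F214827))
theorem Q15200 : ∀ i, i < 15200 → P i := stepQ 15199 Q15199 (allL N15199 (tt N12957 F214828) (tt N13022 F214829) (tt N15199 F214830) (tt N17048 (iv F223190)) (tt N15199 F214831) (tt N13700 F214832) (tt N17392 (iv F224768)) (tt N15199 F214833) (tt N17395 D50165) (tt N12956 (iv D47969)))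
theorem Q15201 : ∀ i, i < 15201 → P i := stepQ 15200 Q15200 (allL N15200 (tt N17395 (iv F224778)) (tt N12958 F214834) (tt N15200 F214835) (tt N17396 D50166) (tt N15200 F214836) (tt N13744 F214837) (tt N17393 (iv F224772)) (tt N15200 F214838) (tt N12957 (iv D47970)) (tt N15200 F214839))
theorem Q15202 : ∀ i, i < 15202 → P i := stepQ 15201 Q15201 (allL N15201 (tt N13024 F214840) (tt N17396 (iv F224785)) (tt N13743 F214841) (tt N12958 (iv D47971)) (tt N17397 D50167) (tt N16286 (iv F219522)) (tt N17394 (iv F224776)) (tt N15201 F214842) (tt N17373 (iv F224666)) (tt N15201 F214843))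
theorem Q15203 : ∀ i, i < 15203 → P i := stepQ 15202 Q15202 (allL N15202 (tt N17292 (iv F224301)) (tt N13417 F214844) (tt N17398 D50168) (tt N12959 (iv D47972)) (tt N17399 D50169) (tt N13426 F214845) (tt N16288 (iv F219533)) (tt N13431 F214846) (tt N13457 F214847) (tt N17400 D50170))
theorem Q15204 : ∀ i, i < 15204 → P i := stepQ 15203 Q15203 (allL N15203 (tt N17293 (iv F224306)) (tt N13418 F214848) (tt N15203 F214849) (tt N17400 (iv F224804)) (tt N12963 F214850) (tt N13763 F214851) (tt N16289 (iv F219539)) (tt N13779 F214852) (tt N17291 (iv F224300)) (tt N12959 (iv D47973)))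
theorem Q15205 : ∀ i, i < 15205 → P i := stepQ 15204 Q15204 (allL N15204 (tt N16157 (iv F218753)) (tt N13419 F214853) (tt N15204 F214854) (tt N17401 D50171) (tt N13778 F214855) (tt N15204 F214856) (tt N12961 F214857) (tt N16290 (iv F219545)) (tt N12960 (iv D47974)) (tt N17402 D50172))
theorem Q15206 : ∀ i, i < 15206 → P i := stepQ 15205 Q15205 (allL N15205 (tt N17290 (iv F224289)) (tt N13420 F214858) (tt N17403 D50173) (tt N12961 (iv D47975)) (tt N17404 D50174) (tt N12964 F214859) (tt N17401 (iv F224809)) (tt N12962 F214860) (tt N12976 F214861) (tt N17405 D50175))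
theorem Q15207 : ∀ i, i < 15207 → P i := stepQ 15206 Q15206 (allL N15206 (tt N17291 (iv F224294)) (tt N13421 F214862) (tt N15206 F214863) (tt N17405 (iv F224826)) (tt N13779 F214864) (tt N12965 F214865) (tt N17402 (iv F224815)) (tt N12963 F214866) (tt N17293 (iv F224312)) (tt N12961 (iv D47976)))
theorem Q15208 : ∀ i, i < 15208 → P i := stepQ 15207 Q15207 (allL N15207 (tt N17340 (iv F224536)) (tt N17406 D50176) (tt N12962 (iv D47977)) (tt N15207 F214867) (tt N17407 D50177) (tt N12966 F214868) (tt N16293 (iv F219556)) (tt N17403 (iv F224818)) (tt N12978 F214869) (tt N17408 D50178))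
theorem Q15209 : ∀ i, i < 15209 → P i := stepQ 15208 Q15208 (allL N15208 (tt N17341 (iv F224540)) (tt N13423 F214870) (tt N17407 (iv F224833)) (tt N17399 (iv F224799)) (tt N12962 (iv D47978)) (tt N17409 D50179) (tt N16294 (iv F219559)) (tt N17404 (iv F224823)) (tt N12979 F214871) (tt N17410 D50180))
theorem Q15210 : ∀ i, i < 15210 → P i := stepQ 15209 Q15209 (allL N15209 (tt N17342 (iv F224542)) (tt N13424 F214872) (tt N17408 (iv F224835)) (tt N12963 F214873) (tt N17410 (iv F224844)) (tt N12968 F214874) (tt N16295 (iv F219564)) (tt N17405 (iv F224828)) (tt N17411 D50181) (tt N12962 (iv D47979)))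
theorem Q15211 : ∀ i, i < 15211 → P i := stepQ 15210 Q15210 (allL N15210 (tt N17343 (iv F224545)) (tt N17412 D50182) (tt N12964 (iv D47980)) (tt N15210 F214875) (tt N13776 F214876) (tt N17403 (iv F224817)) (tt N15210 F214877) (tt N12966 F214878) (tt N12981 F214879) (tt N17413 D50183))
theorem Q15212 : ∀ i, i < 15212 → P i := stepQ 15211 Q15211 (allL N15211 (tt N17344 (iv F224551)) (tt N13427 F214880) (tt N17413 (iv F224854)) (tt N12965 F214881) (tt N13777 F214882) (tt N17405 (iv F224827)) (tt N15211 F214883) (tt N12968 F214884) (tt N17414 D50184) (tt N12964 (iv D47981)))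
theorem Q15213 : ∀ i, i < 15213 → P i := stepQ 15212 Q15212 (allL N15212 (tt N17095 (iv F223332)) (tt N12966 (iv D47982)) (tt N13428 F214885) (tt N15212 F214886) (tt N17415 D50185) (tt N17406 (iv F224831)) (tt N12969 F214887) (tt N17412 (iv F224852)) (tt N12984 F214888) (tt N17416 D50186))
theorem Q15214 : ∀ i, i < 15214 → P i := stepQ 15213 Q15213 (allL N15213 (tt N16179 F218880) (tt N17415 (iv F224865)) (tt N12967 F214889) (tt N13790 (iv F214893)) (tt N12966 (iv D47983)) (tt N17417 D50187) (tt N12970 F214890) (tt N13776 F214891) (tt N12985 F214892) (tt N17418 D50188))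
theorem Q15215 : ∀ i, i < 15215 → P i := stepQ 15214 Q15214 (allL N15214 (tt N17345 (iv F224557)) (tt N17416 (iv F224871)) (tt N12968 F214894) (tt N15214 F214895) (tt N17418 (iv F224881)) (tt N17408 (iv F224837)) (tt N12971 F214896) (tt N17413 (iv F224858)) (tt N17419 D50189) (tt N12966 (iv D47984)))
theorem Q15216 : ∀ i, i < 15216 → P i := stepQ 15215 Q15215 (allL N15215 (tt N16899 (iv F222519)) (tt N13431 F214897) (tt N17417 (iv F224875)) (tt N13416 F214898) (tt N17409 (iv F224840)) (tt N12967 (iv D47985)) (tt N17420 D50190) (tt N13417 F214899) (tt N12987 F214900) (tt N17421 D50191))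
theorem Q15217 : ∀ i, i < 15217 → P i := stepQ 15216 Q15216 (allL N15216 (tt N16909 (iv F222558)) (tt N13432 F214901) (tt N17418 (iv F224879)) (tt N13764 F214902) (tt N12968 F214903) (tt N17421 (iv F224894)) (tt N12973 F214904) (tt N13777 F214905) (tt N17422 D50192) (tt N12967 (iv D47986)))
theorem Q15218 : ∀ i, i < 15218 → P i := stepQ 15217 Q15217 (allL N15217 (tt N17346 (iv F224561)) (tt N13433 F214906) (tt N17419 (iv F224884)) (tt N17297 (iv F224329)) (tt N17422 (iv F224897)) (tt N17411 (iv F224846)) (tt N12974 F214907) (tt N17414 (iv F224862)) (tt N12968 (iv D47987)) (tt N12989 F214908))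
theorem Q15219 : ∀ i, i < 15219 → P i := stepQ 15218 Q15218 (allL N15218 (tt N13471 F214909) (tt N12970 F214910) (tt N13435 F214911) (tt N13733 F214915) (tt N12969 (iv D47988)) (tt N13469 F214912) (tt N17415 (iv F224867)) (tt N15218 F214913) (tt N12991 F214914) (tt N17423 D50193))
theorem Q15220 : ∀ i, i < 15220 → P i := stepQ 15219 Q15219 (allL N15219 (tt N17096 (iv F223338)) (tt N12971 F214916) (tt N13436 F214917) (tt N15219 F214918) (tt N17423 (iv F224905)) (tt N16305 (iv F219613)) (tt N17416 (iv F224874)) (tt N15219 F214919) (tt N17424 D50194) (tt N12969 (iv D47989)))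
theorem Q15221 : ∀ i, i < 15221 → P i := stepQ 15220 Q15220 (allL N15220 (tt N16185 (iv F218905)) (tt N17423 (iv F224902)) (tt N12973 F214920) (tt N16207 (iv F219042)) (tt N12971 F214921) (tt N17311 (iv F224397)) (tt N17418 (iv F224882)) (tt N15220 F214922) (tt N17425 D50195) (tt N12970 (iv D47990)))
theorem Q15222 : ∀ i, i < 15222 → P i := stepQ 15221 Q15221 (allL N15221 (tt N17347 (iv F224565)) (tt N17424 (iv F224908)) (tt N12974 F214923) (tt N17426 D50196) (tt N17425 (iv F224913)) (tt N16307 (iv F219623)) (tt N17419 (iv F224885)) (tt N15221 F214924) (tt N12971 (iv D47991)) (tt N12995 F214925))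
theorem Q15223 : ∀ i, i < 15223 → P i := stepQ 15222 Q15222 (allL N15222 (tt N13326 F214926) (tt N13440 F214927) (tt N17308 (iv F224378)) (tt N13351 F214928) (tt N16308 (iv F219630)) (tt N17420 (iv F224890)) (tt N12972 (iv D47992)) (tt N17427 D50197) (tt N12996 F214929) (tt N17428 D50198))
theorem Q15224 : ∀ i, i < 15224 → P i := stepQ 15223 Q15223 (allL N15223 (tt N13333 F214930) (tt N13441 F214931) (tt N17311 (iv F224394)) (tt N13353 F214932) (tt N16309 (iv F219636)) (tt N12973 F214933) (tt N17428 (iv F224927)) (tt N15223 F214934) (tt N17429 D50199) (tt N12972 (iv D47993)))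
theorem Q15225 : ∀ i, i < 15225 → P i := stepQ 15224 Q15224 (allL N15224 (tt N16916 (iv F222589)) (tt N13442 F214935) (tt N17425 (iv F224912)) (tt N16917 (iv F222599)) (tt N12974 F214936) (tt N17429 (iv F224930)) (tt N17422 (iv F224898)) (tt N15224 F214937) (tt N12973 (iv D47994)) (tt N12998 F214938))
theorem Q15226 : ∀ i, i < 15226 → P i := stepQ 15225 Q15225 (allL N15225 (tt N17348 (iv F224569)) (tt N13443 F214939) (tt N17430 D50200) (tt N12975 (iv D47995)) (tt N17431 D50201) (tt N15225 F214940) (tt N12976 F214941) (tt N16311 (iv F219646)) (tt N17401 (iv F224810)) (tt N17432 D50202))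
theorem Q15227 : ∀ i, i < 15227 → P i := stepQ 15226 Q15226 (allL N15226 (tt N17349 (iv F224572)) (tt N13444 F214942) (tt N13007 F214943) (tt N17432 (iv F224939)) (tt N17242 (iv F224082)) (tt N15226 F214944) (tt N12977 F214945) (tt N16312 (iv F219651)) (tt N17277 (iv F224221)) (tt N12975 (iv D47996)))
theorem Q15228 : ∀ i, i < 15228 → P i := stepQ 15227 Q15227 (allL N15227 (tt N17350 (iv F224577)) (tt N17433 D50203) (tt N12976 (iv D47997)) (tt N13008 F214946) (tt N17434 D50204) (tt N12981 F214947) (tt N17430 (iv F224935)) (tt N12978 F214948) (tt N17403 (iv F224819)) (tt N17435 D50205))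
theorem Q15229 : ∀ i, i < 15229 → P i := stepQ 15228 Q15228 (allL N15228 (tt N17351 (iv F224581)) (tt N13446 F214949) (tt N17434 (iv F224946)) (tt N17244 (iv F224091)) (tt N12976 (iv D47998)) (tt N17436 D50206) (tt N17431 (iv F224937)) (tt N12979 F214950) (tt N17404 (iv F224824)) (tt N17437 D50207))
theorem Q15230 : ∀ i, i < 15230 → P i := stepQ 15229 Q15229 (allL N15229 (tt N17352 (iv F224583)) (tt N13447 F214951) (tt N17435 (iv F224948)) (tt N12977 F214952) (tt N17437 (iv F224958)) (tt N12983 F214953) (tt N17432 (iv F224941)) (tt N12980 F214954) (tt N17438 D50208) (tt N12976 (iv D47999)))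
theorem Q15231 : ∀ i, i < 15231 → P i := stepQ 15230 Q15230 (allL N15230 (tt N17439 D50209) (tt N12978 (iv D48000)) (tt N13448 F214955) (tt N13011 F214956) (tt N17440 D50210) (tt N12984 F214957) (tt N16316 (iv F219665)) (tt N17433 (iv F224945)) (tt N17406 (iv F224832)) (tt N17441 D50211))
theorem Q15232 : ∀ i, i < 15232 → P i := stepQ 15231 Q15231 (allL N15231 (tt N17354 (iv F224590)) (tt N17440 (iv F224966)) (tt N12979 F214958) (tt N17442 D50212) (tt N12978 (iv D48001)) (tt N17443 D50213) (tt N16317 (iv F219667)) (tt N17434 (iv F224947)) (tt N17407 (iv F224834)) (tt N17444 D50214))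
theorem Q15233 : ∀ i, i < 15233 → P i := stepQ 15232 Q15232 (allL N15232 (tt N17355 (iv F224592)) (tt N17441 (iv F224968)) (tt N12980 F214959) (tt N13013 F214960) (tt N17444 (iv F224976)) (tt N12986 F214961) (tt N16318 (iv F219671)) (tt N17435 (iv F224951)) (tt N17445 D50215) (tt N12978 (iv D48002)))
theorem Q15234 : ∀ i, i < 15234 → P i := stepQ 15233 Q15233 (allL N15233 (tt N17356 (iv F224596)) (tt N13451 F214962) (tt N17443 (iv F224973)) (tt N17249 (iv F224108)) (tt N12987 F214963) (tt N12979 (iv D48003)) (tt N17446 D50216) (tt N17436 (iv F224955)) (tt N17409 (iv F224842)) (tt N17447 D50217))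
theorem Q15235 : ∀ i, i < 15235 → P i := stepQ 15234 Q15234 (allL N15234 (tt N17357 (iv F224599)) (tt N13452 F214964) (tt N17444 (iv F224975)) (tt N17250 (iv F224113)) (tt N12980 F214965) (tt N17447 (iv F224983)) (tt N16320 (iv F219676)) (tt N17437 (iv F224959)) (tt N17448 D50218) (tt N12979 (iv D48004)))
theorem Q15236 : ∀ i, i < 15236 → P i := stepQ 15235 Q15235 (allL N15235 (tt N17358 (iv F224601)) (tt N13453 F214966) (tt N17445 (iv F224977)) (tt N17304 (iv F224358)) (tt N17448 (iv F224985)) (tt N12989 F214967) (tt N16321 (iv F219679)) (tt N17438 (iv F224962)) (tt N12980 (iv D48005)) (tt N17411 (iv F224847)))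
theorem Q15237 : ∀ i, i < 15237 → P i := stepQ 15236 Q15236 (allL N15236 (tt N17449 D50219) (tt N12981 (iv D48006)) (tt N13454 F214968) (tt N13016 F214969) (tt N17450 D50220) (tt N17433 (iv F224944)) (tt N15236 F214970) (tt N12984 F214971) (tt N17412 (iv F224853)) (tt N17451 D50221))
theorem Q15238 : ∀ i, i < 15238 → P i := stepQ 15237 Q15237 (allL N15237 (tt N17360 (iv F224607)) (tt N17450 (iv F224990)) (tt N12982 F214972) (tt N15237 F214973) (tt N12981 (iv D48007)) (tt N17452 D50222) (tt N15237 F214974) (tt N12985 F214975) (tt N13776 F214976) (tt N17453 D50223))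
theorem Q15239 : ∀ i, i < 15239 → P i := stepQ 15238 Q15238 (allL N15238 (tt N17361 (iv F224613)) (tt N17451 (iv F224996)) (tt N12983 F214977) (tt N13017 F214978) (tt N17453 (iv F225007)) (tt N17435 (iv F224950)) (tt N15238 F214979) (tt N12986 F214980) (tt N17454 D50224) (tt N12981 (iv D48008)))
theorem Q15240 : ∀ i, i < 15240 → P i := stepQ 15239 Q15239 (allL N15239 (tt N17362 (iv F224618)) (tt N13457 F214981) (tt N17452 (iv F225001)) (tt N12999 F214982) (tt N17436 (iv F224954)) (tt N12982 (iv D48009)) (tt N16749 (iv F221867)) (tt N12987 F214983) (tt N13417 F214984) (tt N17455 D50225))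
theorem Q15241 : ∀ i, i < 15241 → P i := stepQ 15240 Q15240 (allL N15240 (tt N17363 (iv F224623)) (tt N13458 F214985) (tt N17453 (iv F225005)) (tt N13000 F214986) (tt N12983 F214987) (tt N17455 (iv F225015)) (tt N15240 F214988) (tt N12988 F214989) (tt N17456 D50226) (tt N12982 (iv D48010)))
theorem Q15242 : ∀ i, i < 15242 → P i := stepQ 15241 Q15241 (allL N15241 (tt N17364 (iv F224629)) (tt N13459 F214990) (tt N17454 (iv F225010)) (tt N17307 (iv F224373)) (tt N17456 (iv F225018)) (tt N17438 (iv F224961)) (tt N15241 F214991) (tt N12989 F214992) (tt N12983 (iv D48011)) (tt N17414 (iv F224863)))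
theorem Q15243 : ∀ i, i < 15243 → P i := stepQ 15242 Q15242 (allL N15242 (tt N12984 (iv D48012)) (tt N17047 (iv F223182)) (tt N13460 F214993) (tt N13019 F214994) (tt N17457 D50227) (tt N17439 (iv F224965)) (tt N12990 F214995) (tt N17449 (iv F224989)) (tt N17095 (iv F223337)) (tt N17458 D50228))
theorem Q15244 : ∀ i, i < 15244 → P i := stepQ 15243 Q15243 (allL N15243 (tt N17457 (iv F225022)) (tt N12985 F214996) (tt N13461 F214997) (tt N15243 F214998) (tt N12984 (iv D48013)) (tt N17459 D50229) (tt N12991 F214999) (tt N17450 (iv F224994)) (tt N17415 (iv F224869)) (tt N17460 D50230))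
theorem Q15245 : ∀ i, i < 15245 → P i := stepQ 15244 Q15244 (allL N15244 (tt N17458 (iv F225028)) (tt N12986 F215000) (tt N13462 F215001) (tt N13020 F215002) (tt N17460 (iv F225038)) (tt N17441 (iv F224971)) (tt N12992 F215003) (tt N17451 (iv F225000)) (tt N17461 D50231) (tt N12984 (iv D48014)))
theorem Q15246 : ∀ i, i < 15246 → P i := stepQ 15245 Q15245 (allL N15245 (tt N17366 (iv F224636)) (tt N17459 (iv F225032)) (tt N12987 F215004) (tt N15245 F215005) (tt N17443 (iv F224974)) (tt N12985 (iv D48015)) (tt N17462 D50232) (tt N17452 (iv F225003)) (tt N17417 (iv F224878)) (tt N17463 D50233))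
theorem Q15247 : ∀ i, i < 15247 → P i := stepQ 15246 Q15246 (allL N15246 (tt N17367 (iv F224639)) (tt N17460 (iv F225035)) (tt N12988 F215006) (tt N15246 F215007) (tt N12986 F215008) (tt N17463 (iv F225048)) (tt N12994 F215009) (tt N17453 (iv F225009)) (tt N17464 D50234) (tt N12985 (iv D48016)))
theorem Q15248 : ∀ i, i < 15248 → P i := stepQ 15247 Q15247 (allL N15247 (tt N17368 (iv F224644)) (tt N17461 (iv F225040)) (tt N12989 F215010) (tt N17465 D50235) (tt N17464 (iv F225050)) (tt N17445 (iv F224978)) (tt N12995 F215011) (tt N17454 (iv F225012)) (tt N12986 (iv D48017)) (tt N17419 (iv F224886)))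
theorem Q15249 : ∀ i, i < 15249 → P i := stepQ 15248 Q15248 (allL N15248 (tt N16855 (iv F222306)) (tt N13466 F215012) (tt N17462 (iv F225043)) (tt N13001 F215013) (tt N17446 (iv F224980)) (tt N12996 F215014) (tt N12987 (iv D48018)) (tt N17466 D50236) (tt N17420 (iv F224891)) (tt N17467 D50237))
theorem Q15250 : ∀ i, i < 15250 → P i := stepQ 15249 Q15249 (allL N15249 (tt N17369 (iv F224647)) (tt N13467 F215015) (tt N17463 (iv F225046)) (tt N13002 F215016) (tt N17447 (iv F224982)) (tt N12988 F215017) (tt N17467 (iv F225060)) (tt N17455 (iv F225016)) (tt N17468 D50238) (tt N12987 (iv D48019)))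
theorem Q15251 : ∀ i, i < 15251 → P i := stepQ 15250 Q15250 (allL N15250 (tt N17370 (iv F224651)) (tt N13468 F215018) (tt N17464 (iv F225049)) (tt N17339 (iv F224533)) (tt N12989 F215019) (tt N17468 (iv F225062)) (tt N12998 F215020) (tt N17456 (iv F225020)) (tt N12988 (iv D48020)) (tt N17422 (iv F224900)))
theorem Q15252 : ∀ i, i < 15252 → P i := stepQ 15251 Q15251 (allL N15251 (tt N12991 F215021) (tt N13437 F215022) (tt N13469 F215023) (tt N15251 F215024) (tt N12990 (iv D48021)) (tt N13435 F215025) (tt N17457 (iv F225026)) (tt N15251 F215026) (tt N13471 F215027) (tt N17469 D50239))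
theorem Q15253 : ∀ i, i < 15253 → P i := stepQ 15252 Q15252 (allL N15252 (tt N12992 F215028) (tt N17048 (iv F223188)) (tt N13470 F215029) (tt N13022 F215030) (tt N17469 (iv F225067)) (tt N16336 (iv F219749)) (tt N17458 (iv F225031)) (tt N15252 F215031) (tt N17470 D50240) (tt N12990 (iv D48022)))
theorem Q15254 : ∀ i, i < 15254 → P i := stepQ 15253 Q15253 (allL N15253 (tt N13435 F215032) (tt N12993 F215033) (tt N13471 F215034) (tt N15253 F215035) (tt N13434 F215036) (tt N12991 (iv D48023)) (tt N17471 D50241) (tt N15253 F215037) (tt N13469 F215038) (tt N17472 D50242))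
theorem Q15255 : ∀ i, i < 15255 → P i := stepQ 15254 Q15254 (allL N15254 (tt N17469 (iv F225063)) (tt N12994 F215039) (tt N13472 F215040) (tt N15254 F215041) (tt N12992 F215042) (tt N17472 (iv F225084)) (tt N17460 (iv F225039)) (tt N15254 F215043) (tt N17473 D50243) (tt N12991 (iv D48024)))
theorem Q15256 : ∀ i, i < 15256 → P i := stepQ 15255 Q15255 (allL N15255 (tt N17470 (iv F225070)) (tt N12995 F215044) (tt N13473 F215045) (tt N17474 D50244) (tt N17473 (iv F225088)) (tt N16338 (iv F219760)) (tt N17461 (iv F225042)) (tt N15255 F215046) (tt N12992 (iv D48025)) (tt N17424 (iv F224911)))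
theorem Q15257 : ∀ i, i < 15257 → P i := stepQ 15256 Q15256 (allL N15256 (tt N16859 (iv F222329)) (tt N17471 (iv F225074)) (tt N12996 F215047) (tt N15256 F215048) (tt N16339 (iv F219766)) (tt N17462 (iv F225045)) (tt N12993 (iv D48026)) (tt N17475 D50245) (tt N17308 (iv F224382)) (tt N17476 D50246))
theorem Q15258 : ∀ i, i < 15258 → P i := stepQ 15257 Q15257 (allL N15257 (tt N16861 (iv F222339)) (tt N17472 (iv F225080)) (tt N12997 F215049) (tt N15257 F215050) (tt N16340 (iv F219772)) (tt N12994 F215051) (tt N17476 (iv F225098)) (tt N15257 F215052) (tt N17477 D50247) (tt N12993 (iv D48027)))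
theorem Q15259 : ∀ i, i < 15259 → P i := stepQ 15258 Q15258 (allL N15258 (tt N17372 (iv F224659)) (tt N17473 (iv F225086)) (tt N12998 F215053) (tt N17478 D50248) (tt N12995 F215054) (tt N17477 (iv F225100)) (tt N17464 (iv F225051)) (tt N15258 F215055) (tt N12994 (iv D48028)) (tt N17425 (iv F224915)))
theorem Q15260 : ∀ i, i < 15260 → P i := stepQ 15259 Q15259 (allL N15259 (tt N17373 (iv F224663)) (tt N17474 (iv F225090)) (tt N17313 (iv F224404)) (tt N12995 (iv D48029)) (tt N17479 D50249) (tt N16342 (iv F219780)) (tt N17465 (iv F225052)) (tt N15259 F215056) (tt N13024 F215057) (tt N17426 (iv F224918)))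
theorem Q15261 : ∀ i, i < 15261 → P i := stepQ 15260 Q15260 (allL N15260 (tt N16857 (iv F222317)) (tt N13478 F215058) (tt N17475 (iv F225093)) (tt N13003 F215059) (tt N16343 (iv F219785)) (tt N17466 (iv F225056)) (tt N15260 F215060) (tt N12996 (iv D48030)) (tt N17427 (iv F224923)) (tt N17480 D50250))
theorem Q15262 : ∀ i, i < 15262 → P i := stepQ 15261 Q15261 (allL N15261 (tt N16860 (iv F222335)) (tt N13479 F215061) (tt N17476 (iv F225096)) (tt N13004 F215062) (tt N16344 (iv F219789)) (tt N17467 (iv F225059)) (tt N12997 F215063) (tt N17480 (iv F225109)) (tt N17481 D50251) (tt N12996 (iv D48031)))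
theorem Q15263 : ∀ i, i < 15263 → P i := stepQ 15262 Q15262 (allL N15262 (tt N16862 (iv F222346)) (tt N13480 F215064) (tt N17477 (iv F225099)) (tt N16240 (iv F219255)) (tt N16345 (iv F219792)) (tt N12998 F215065) (tt N17481 (iv F225111)) (tt N15262 F215066) (tt N12997 (iv D48032)) (tt N17429 (iv F224932)))
theorem Q15264 : ∀ i, i < 15264 → P i := stepQ 15263 Q15263 (allL N15263 (tt N17374 (iv F224667)) (tt N13482 F215067) (tt N15263 F215068) (tt N17455 (iv F225014)) (tt N13218 F215069) (tt N13000 F215070) (tt N16750 (iv F221873)) (tt N13002 F215071) (tt N17335 (iv F224517)) (tt N12999 (iv D48033)))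
theorem Q15265 : ∀ i, i < 15265 → P i := stepQ 15264 Q15264 (allL N15264 (tt N16854 (iv F222301)) (tt N13483 F215072) (tt N15264 F215073) (tt N17466 (iv F225055)) (tt N16751 (iv F221876)) (tt N13003 F215074) (tt N16748 (iv F221863)) (tt N13001 (iv D48034)) (tt N13765 F215075) (tt N17482 D50252))
theorem Q15266 : ∀ i, i < 15266 → P i := stepQ 15265 Q15265 (allL N15265 (tt N16856 (iv F222311)) (tt N13484 F215076) (tt N15265 F215077) (tt N17467 (iv F225058)) (tt N17272 (iv F224192)) (tt N13004 F215078) (tt N13002 F215079) (tt N17482 (iv F225115)) (tt N16232 (iv F219209)) (tt N13001 (iv D48035)))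
theorem Q15267 : ∀ i, i < 15267 → P i := stepQ 15266 Q15266 (allL N15266 (tt N16858 (iv F222322)) (tt N13485 F215080) (tt N15266 F215081) (tt N17480 (iv F225107)) (tt N13005 F215082) (tt N17482 (iv F225114)) (tt N15266 F215083) (tt N13004 F215084) (tt N16234 (iv F219221)) (tt N13003 (iv D48036)))
theorem Q15268 : ∀ i, i < 15268 → P i := stepQ 15267 Q15267 (allL N15267 (tt N17375 (iv F224674)) (tt N17191 (iv F223830)) (tt N13006 (iv D48037)) (tt N17430 (iv F224933)) (tt N16196 (iv F218974)) (tt N15267 F215085) (tt N13008 F215086) (tt N16199 (iv F218996)) (tt N15267 F215087) (tt N17483 D50253))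
theorem Q15269 : ∀ i, i < 15269 → P i := stepQ 15268 Q15268 (allL N15268 (tt N17376 (iv F224680)) (tt N13025 F215088) (tt N17483 (iv F225116)) (tt N13007 F215089) (tt N16197 (iv F218982)) (tt N15268 F215090) (tt N13010 F215091) (tt N16201 (iv F219008)) (tt N17484 D50254) (tt N13006 (iv D48038)))
theorem Q15270 : ∀ i, i < 15270 → P i := stepQ 15269 Q15269 (allL N15269 (tt N17169 (iv F223708)) (tt N13008 (iv D48039)) (tt N13026 F215092) (tt N17433 (iv F224943)) (tt N17160 (iv F223652)) (tt N13016 F215093) (tt N17191 (iv F223833)) (tt N13011 F215094) (tt N15269 F215095) (tt N17485 D50255))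
theorem Q15271 : ∀ i, i < 15271 → P i := stepQ 15270 Q15270 (allL N15270 (tt N17378 (iv F224691)) (tt N17160 (iv F223651)) (tt N13009 F215096) (tt N17486 D50256) (tt N13008 (iv D48040)) (tt N15270 F215097) (tt N16196 (iv F218976)) (tt N13012 F215098) (tt N15270 F215099) (tt N17487 D50257))
theorem Q15272 : ∀ i, i < 15272 → P i := stepQ 15271 Q15271 (allL N15271 (tt N17379 (iv F224697)) (tt N17485 (iv F225124)) (tt N13010 F215100) (tt N17435 (iv F224949)) (tt N17487 (iv F225131)) (tt N13017 F215101) (tt N17483 (iv F225118)) (tt N13013 F215102) (tt N17488 D50258) (tt N13008 (iv D48041)))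
theorem Q15273 : ∀ i, i < 15273 → P i := stepQ 15272 Q15272 (allL N15272 (tt N17380 (iv F224701)) (tt N13029 F215103) (tt N17487 (iv F225130)) (tt N16195 (iv F218966)) (tt N13010 F215104) (tt N15272 F215105) (tt N16197 (iv F218984)) (tt N13014 F215106) (tt N17489 D50259) (tt N13009 (iv D48042)))
theorem Q15274 : ∀ i, i < 15274 → P i := stepQ 15273 Q15273 (allL N15273 (tt N17381 (iv F224708)) (tt N13030 F215107) (tt N17488 (iv F225134)) (tt N16368 (iv F219899)) (tt N17489 (iv F225139)) (tt N13018 F215108) (tt N17484 (iv F225122)) (tt N13015 F215109) (tt N13010 (iv D48043)) (tt N15273 F215110))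
theorem Q15275 : ∀ i, i < 15275 → P i := stepQ 15274 Q15274 (allL N15274 (tt N13011 (iv D48044)) (tt N17382 (iv F224714)) (tt N13031 F215111) (tt N17439 (iv F224964)) (tt N17166 (iv F223694)) (tt N13019 F215112) (tt N16362 (iv F219870)) (tt N17169 (iv F223711)) (tt N15274 F215113) (tt N17490 D50260))
theorem Q15276 : ∀ i, i < 15276 → P i := stepQ 15275 Q15275 (allL N15275 (tt N17166 (iv F223693)) (tt N13012 F215114) (tt N13032 F215115) (tt N17491 D50261) (tt N13011 (iv D48045)) (tt N15275 F215116) (tt N16363 (iv F219875)) (tt N17160 (iv F223655)) (tt N15275 F215117) (tt N17492 D50262))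
theorem Q15277 : ∀ i, i < 15277 → P i := stepQ 15276 Q15276 (allL N15276 (tt N17490 (iv F225143)) (tt N13013 F215118) (tt N13033 F215119) (tt N17441 (iv F224970)) (tt N17492 (iv F225150)) (tt N13020 F215120) (tt N16364 (iv F219881)) (tt N17485 (iv F225127)) (tt N17493 D50263) (tt N13011 (iv D48046)))
theorem Q15278 : ∀ i, i < 15278 → P i := stepQ 15277 Q15277 (allL N15277 (tt N17385 (iv F224728)) (tt N17491 (iv F225146)) (tt N17276 (iv F224212)) (tt N13012 (iv D48047)) (tt N17442 (iv F224972)) (tt N15277 F215121) (tt N16365 (iv F219885)) (tt N17486 (iv F225129)) (tt N17494 D50264) (tt N17495 D50265))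
theorem Q15279 : ∀ i, i < 15279 → P i := stepQ 15278 Q15278 (allL N15278 (tt N17386 (iv F224732)) (tt N17492 (iv F225148)) (tt N13014 F215122) (tt N17495 (iv F225158)) (tt N13013 F215123) (tt N15278 F215124) (tt N16366 (iv F219891)) (tt N17487 (iv F225133)) (tt N17496 D50266) (tt N13012 (iv D48048)))
theorem Q15280 : ∀ i, i < 15280 → P i := stepQ 15279 Q15279 (allL N15279 (tt N17387 (iv F224737)) (tt N17493 (iv F225152)) (tt N13015 F215125) (tt N17497 D50267) (tt N17496 (iv F225161)) (tt N13021 F215126) (tt N16367 (iv F219895)) (tt N17488 (iv F225136)) (tt N13013 (iv D48049)) (tt N15279 F215127))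
theorem Q15281 : ∀ i, i < 15281 → P i := stepQ 15280 Q15280 (allL N15280 (tt N17388 (iv F224741)) (tt N13037 F215128) (tt N17496 (iv F225160)) (tt N17484 (iv F225120)) (tt N13015 F215129) (tt N15280 F215130) (tt N16368 (iv F219902)) (tt N17489 (iv F225141)) (tt N13014 (iv D48050)) (tt N15280 F215131))
theorem Q15282 : ∀ i, i < 15282 → P i := stepQ 15281 Q15281 (allL N15281 (tt N13016 (iv D48051)) (tt N17389 (iv F224747)) (tt N13038 F215132) (tt N17449 (iv F224987)) (tt N15281 F215133) (tt N17169 F223713) (tt N15281 F215134) (tt N13019 F215135) (tt N15281 F215136) (tt N17498 D50268))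
theorem Q15283 : ∀ i, i < 15283 → P i := stepQ 15282 Q15282 (allL N15282 (tt N17498 (iv F225166)) (tt N13017 F215137) (tt N13039 F215138) (tt N17451 (iv F224998)) (tt N15282 F215139) (tt N17485 (iv F225126)) (tt N15282 F215140) (tt N13020 F215141) (tt N17499 D50269) (tt N13016 (iv D48052)))
theorem Q15284 : ∀ i, i < 15284 → P i := stepQ 15283 Q15283 (allL N15283 (tt N17391 (iv F224758)) (tt N17499 (iv F225171)) (tt N13018 F215142) (tt N17500 D50270) (tt N15283 F215143) (tt N17488 (iv F225135)) (tt N15283 F215144) (tt N13021 F215145) (tt N13017 (iv D48053)) (tt N15283 F215146))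
theorem Q15285 : ∀ i, i < 15285 → P i := stepQ 15284 Q15284 (allL N15284 (tt N13020 F215147) (tt N17392 (iv F224765)) (tt N13041 F215148) (tt N17458 (iv F225030)) (tt N15284 F215149) (tt N17490 (iv F225145)) (tt N13022 F215150) (tt N17498 (iv F225170)) (tt N17501 D50271) (tt N13019 (iv D48054)))
theorem Q15286 : ∀ i, i < 15286 → P i := stepQ 15285 Q15285 (allL N15285 (tt N17501 (iv F225180)) (tt N13021 F215151) (tt N13042 F215152) (tt N17502 D50272) (tt N15285 F215153) (tt N17493 (iv F225154)) (tt N13023 F215154) (tt N17499 (iv F225175)) (tt N13020 (iv D48055)) (tt N15285 F215155))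
theorem Q15287 : ∀ i, i < 15287 → P i := stepQ 15286 Q15286 (allL N15286 (tt N17394 (iv F224774)) (tt N17502 (iv F225185)) (tt N17322 (iv F224447)) (tt N13021 (iv D48056)) (tt N17503 D50273) (tt N17497 (iv F225164)) (tt N13024 F215156) (tt N17500 (iv F225178)) (tt N17465 (iv F225053)) (tt N15286 F215157))
theorem Q15288 : ∀ i, i < 15288 → P i := stepQ 15287 Q15287 (allL N15287 (tt N13023 F215158) (tt N17395 (iv F224779)) (tt N13044 F215159) (tt N16357 (iv F219842)) (tt N15287 F215160) (tt N16375 (iv F219937)) (tt N17501 (iv F225183)) (tt N15287 F215161) (tt N13022 (iv D48057)) (tt N15287 F215162))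
theorem Q15289 : ∀ i, i < 15289 → P i := stepQ 15288 Q15288 (allL N15288 (tt N16357 (iv F219841)) (tt N13024 F215163) (tt N16279 (iv F219474)) (tt N13023 (iv D48058)) (tt N17118 (iv F223417)) (tt N16376 (iv F219941)) (tt N17502 (iv F225186)) (tt N15288 F215164) (tt N17474 (iv F225092)) (tt N15288 F215165))
theorem Q15290 : ∀ i, i < 15290 → P i := stepQ 15289 Q15289 (allL N15289 (tt N17397 (iv F224789)) (tt N17118 F223421) (tt N17325 (iv F224460)) (tt N15289 F215166) (tt N13024 (iv D48059)) (tt N17119 (iv F223423)) (tt N17503 (iv F225189)) (tt N15289 F215167) (tt N17479 (iv F225105)) (tt N15289 F215168))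
theorem Q15291 : ∀ i, i < 15291 → P i := stepQ 15290 Q15290 (allL N15290 (tt N15290 F215169) (tt N17484 (iv F225119)) (tt N16842 (iv F222223)) (tt N13037 F215170) (tt N16211 (iv F219068)) (tt N15290 F215171) (tt N13030 F215172) (tt N16216 (iv F219103)) (tt N13025 (iv D48060)) (tt N15290 F215173))
theorem Q15292 : ∀ i, i < 15292 → P i := stepQ 15291 Q15291 (allL N15291 (tt N17171 (iv F223717)) (tt N13028 F215174) (tt N17485 (iv F225125)) (tt N13499 F215175) (tt N17161 (iv F223660)) (tt N13039 F215176) (tt N17141 (iv F223540)) (tt N13033 F215177) (tt N17504 D50274) (tt N13026 (iv D48061)))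
theorem Q15293 : ∀ i, i < 15293 → P i := stepQ 15292 Q15292 (allL N15292 (tt N15292 F215178) (tt N17161 (iv F223658)) (tt N13029 F215179) (tt N13364 F215180) (tt N13028 F215181) (tt N15292 F215182) (tt N16210 (iv F219064)) (tt N13035 F215183) (tt N17505 D50275) (tt N13027 (iv D48062)))
theorem Q15294 : ∀ i, i < 15294 → P i := stepQ 15293 Q15293 (allL N15293 (tt N15293 F215184) (tt N17504 (iv F225191)) (tt N13030 F215185) (tt N13286 F215186) (tt N17505 (iv F225199)) (tt N13040 F215187) (tt N16842 (iv F222225)) (tt N13036 F215188) (tt N13028 (iv D48063)) (tt N15293 F215189))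
theorem Q15295 : ∀ i, i < 15295 → P i := stepQ 15294 Q15294 (allL N15294 (tt N15294 F215190) (tt N17489 (iv F225138)) (tt N17505 (iv F225197)) (tt N16216 (iv F219099)) (tt N13030 F215191) (tt N15294 F215192) (tt N16211 (iv F219070)) (tt N13037 F215193) (tt N13029 (iv D48064)) (tt N15294 F215194))
theorem Q15296 : ∀ i, i < 15296 → P i := stepQ 15295 Q15295 (allL N15295 (tt N13033 F215195) (tt N15295 F215196) (tt N17490 (iv F225144)) (tt N13509 F215197) (tt N17167 (iv F223701)) (tt N13041 F215198) (tt N16382 (iv F219977)) (tt N17171 (iv F223723)) (tt N17506 D50276) (tt N13031 (iv D48065)))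
theorem Q15297 : ∀ i, i < 15297 → P i := stepQ 15296 Q15296 (allL N15296 (tt N17167 (iv F223698)) (tt N13035 F215199) (tt N17492 (iv F225149)) (tt N17159 (iv F223644)) (tt N13033 F215200) (tt N15296 F215201) (tt N16383 (iv F219982)) (tt N17161 (iv F223663)) (tt N17507 D50277) (tt N13032 (iv D48066)))
theorem Q15298 : ∀ i, i < 15298 → P i := stepQ 15297 Q15297 (allL N15297 (tt N17506 (iv F225203)) (tt N13036 F215202) (tt N17493 (iv F225153)) (tt N17508 D50278) (tt N17507 (iv F225208)) (tt N13042 F215203) (tt N16384 (iv F219986)) (tt N17504 (iv F225194)) (tt N13033 (iv D48067)) (tt N15297 F215204))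
theorem Q15299 : ∀ i, i < 15299 → P i := stepQ 15298 Q15298 (allL N15298 (tt N15298 F215205) (tt N17159 (iv F223643)) (tt N13354 F215206) (tt N13035 F215207) (tt N13358 F215208) (tt N15298 F215209) (tt N13356 F215210) (tt N13364 F215211) (tt N13357 F215212) (tt N13034 (iv D48068)))
theorem Q15300 : ∀ i, i < 15300 → P i := stepQ 15299 Q15299 (allL N15299 (tt N15299 F215213) (tt N17507 (iv F225207)) (tt N13037 F215214) (tt N16841 (iv F222216)) (tt N13036 F215215) (tt N15299 F215216) (tt N16385 (iv F219993)) (tt N17505 (iv F225201)) (tt N13035 (iv D48069)) (tt N15299 F215217))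
theorem Q15301 : ∀ i, i < 15301 → P i := stepQ 15300 Q15300 (allL N15300 (tt N15300 F215218) (tt N17508 (iv F225211)) (tt N17328 (iv F224473)) (tt N13036 (iv D48070)) (tt N13279 (iv F215223)) (tt N13043 F215219) (tt N16386 (iv F219999)) (tt N13286 F215220) (tt N13278 F215221) (tt N15300 F215222))
theorem Q15302 : ∀ i, i < 15302 → P i := stepQ 15301 Q15301 (allL N15301 (tt N13039 F215224) (tt N15301 F215225) (tt N17498 (iv F225167)) (tt N13510 F215226) (tt N15301 F215227) (tt N17171 (iv F223721)) (tt N15301 F215228) (tt N13041 F215229) (tt N17509 D50279) (tt N13038 (iv D48071)))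
theorem Q15303 : ∀ i, i < 15303 → P i := stepQ 15302 Q15302 (allL N15302 (tt N17509 (iv F225217)) (tt N13040 F215230) (tt N17499 (iv F225172)) (tt N13645 F215231) (tt N15302 F215232) (tt N17504 (iv F225193)) (tt N15302 F215233) (tt N13042 F215234) (tt N13039 (iv D48072)) (tt N15302 F215235))
theorem Q15304 : ∀ i, i < 15304 → P i := stepQ 15303 Q15303 (allL N15303 (tt N13042 F215236) (tt N15303 F215237) (tt N17501 (iv F225181)) (tt N15998 (iv F217724)) (tt N15303 F215238) (tt N17506 (iv F225205)) (tt N13044 F215239) (tt N17509 (iv F225222)) (tt N13041 (iv D48073)) (tt N15303 F215240))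
theorem Q15305 : ∀ i, i < 15305 → P i := stepQ 15304 Q15304 (allL N15304 (tt N15998 (iv F217721)) (tt N13043 F215241) (tt N16275 (iv F219450)) (tt N13042 (iv D48074)) (tt N13639 (iv F215246)) (tt N17508 (iv F225212)) (tt N13045 F215242) (tt N13645 F215243) (tt N13512 F215244) (tt N15304 F215245))
theorem Q15306 : ∀ i, i < 15306 → P i := stepQ 15305 Q15305 (allL N15305 (tt N13056 F215247) (tt N13072 F215248) (tt N16515 (iv F220725)) (tt N13047 (iv D48075)) (tt N13058 F215249) (tt N16413 (iv F220181)) (tt N13061 F215250) (tt N13129 F215251) (tt N13049 F215252) (tt N17510 D50280))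
theorem Q15307 : ∀ i, i < 15307 → P i := stepQ 15306 Q15306 (allL N15306 (tt N13057 F215253) (tt N13073 F215254) (tt N15306 F215255) (tt N17510 (iv F225226)) (tt N13064 F215256) (tt N16414 (iv F220188)) (tt N13065 F215257) (tt N13130 F215258) (tt N13069 F215259) (tt N13047 (iv D48076)))
theorem Q15308 : ∀ i, i < 15308 → P i := stepQ 15307 Q15307 (allL N15307 (tt N13058 F215260) (tt N13068 F215261) (tt N16514 (iv F220716)) (tt N13048 (iv D48077)) (tt N13056 F215262) (tt N16459 (iv F220450)) (tt N13049 F215263) (tt N13153 F215264) (tt N13061 F215265) (tt N17511 D50281))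
theorem Q15309 : ∀ i, i < 15309 → P i := stepQ 15308 Q15308 (allL N15308 (tt N13059 F215266) (tt N13069 F215267) (tt N13052 F215268) (tt N17511 (iv F225232)) (tt N13051 F215269) (tt N16460 (iv F220457)) (tt N13050 F215270) (tt N13186 F215271) (tt N13073 F215272) (tt N13048 (iv D48078)))
theorem Q15310 : ∀ i, i < 15310 → P i := stepQ 15309 Q15309 (allL N15309 (tt N13060 F215273) (tt N16502 (iv F220669)) (tt N13049 (iv D48079)) (tt N13053 F215274) (tt N16501 F220668) (tt N16420 (iv F220223)) (tt N16514 (iv F220719)) (tt N13136 F215275) (tt N16515 (iv F220729)) (tt N17512 D50282))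
theorem Q15311 : ∀ i, i < 15311 → P i := stepQ 15310 Q15310 (allL N15310 (tt N13062 F215276) (tt N17199 (iv F223873)) (tt N17512 (iv F225237)) (tt N13050 F215277) (tt N17198 (iv F223869)) (tt N16422 (iv F220236)) (tt N17511 (iv F225234)) (tt N13137 F215278) (tt N17513 D50283) (tt N13049 (iv D48080)))
theorem Q15312 : ∀ i, i < 15312 → P i := stepQ 15311 Q15311 (allL N15311 (tt N16488 (iv F220589)) (tt N13053 (iv D48081)) (tt N15311 F215279) (tt N16502 F220673) (tt N15311 F215280) (tt N16030 F217947) (tt N16484 (iv F220568)) (tt N13146 F215281) (tt N15311 F215282) (tt N17514 D50284))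
theorem Q15313 : ∀ i, i < 15313 → P i := stepQ 15312 Q15312 (allL N15312 (tt N13066 F215283) (tt N17514 (iv F225243)) (tt N13054 F215284) (tt N17512 (iv F225238)) (tt N15312 F215285) (tt N16430 (iv F220291)) (tt N16529 (iv F220792)) (tt N13147 F215286) (tt N17515 D50285) (tt N13053 (iv D48082)))
theorem Q15314 : ∀ i, i < 15314 → P i := stepQ 15313 Q15313 (allL N15313 (tt N13067 F215287) (tt N15313 F215288) (tt N17515 (iv F225248)) (tt N13084 F215289) (tt N15313 F215290) (tt N16431 (iv F220297)) (tt N16532 (iv F220809)) (tt N13148 F215291) (tt N13054 (iv D48083)) (tt N15313 F215292))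
theorem Q15315 : ∀ i, i < 15315 → P i := stepQ 15314 Q15314 (allL N15314 (tt N16515 (iv F220723)) (tt N16498 (iv F220649)) (tt N13056 (iv D48084)) (tt N15314 F215293) (tt N16514 F220722) (tt N16434 (iv F220313)) (tt N16501 (iv F220664)) (tt N13152 F215294) (tt N13060 F215295) (tt N17516 D50286))
theorem Q15316 : ∀ i, i < 15316 → P i := stepQ 15315 Q15315 (allL N15315 (tt N17510 (iv F225224)) (tt N17196 (iv F223856)) (tt N17516 (iv F225252)) (tt N13057 F215296) (tt N17511 (iv F225233)) (tt N16436 (iv F220320)) (tt N17198 (iv F223870)) (tt N13154 F215297) (tt N17517 D50287) (tt N13056 (iv D48085)))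
theorem Q15317 : ∀ i, i < 15317 → P i := stepQ 15316 Q15316 (allL N15316 (tt N17511 (iv F225230)) (tt N16048 (iv F218080)) (tt N16516 (iv F220731)) (tt N13059 F215298) (tt N17510 (iv F225227)) (tt N17206 (iv F223909)) (tt N13062 F215299) (tt N16139 (iv F218660)) (tt N17518 D50288) (tt N13058 (iv D48086)))
theorem Q15318 : ∀ i, i < 15318 → P i := stepQ 15317 Q15317 (allL N15317 (tt N16501 F220667) (tt N16510 (iv F220700)) (tt N13061 F215300) (tt N15317 F215301) (tt N13060 (iv D48087)) (tt N16463 (iv F220473)) (tt N16515 (iv F220727)) (tt N13165 F215302) (tt N16514 (iv F220721)) (tt N17519 D50289))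
theorem Q15319 : ∀ i, i < 15319 → P i := stepQ 15318 Q15318 (allL N15318 (tt N17512 (iv F225236)) (tt N16511 (iv F220705)) (tt N13062 F215303) (tt N13066 F215304) (tt N17519 (iv F225262)) (tt N16444 (iv F220365)) (tt N16516 (iv F220734)) (tt N13166 F215305) (tt N17520 D50290) (tt N13060 (iv D48088)))
theorem Q15320 : ∀ i, i < 15320 → P i := stepQ 15319 Q15319 (allL N15319 (tt N17198 (iv F223866)) (tt N13075 F215306) (tt N17519 (iv F225260)) (tt N13065 F215307) (tt N13062 F215308) (tt N16464 (iv F220478)) (tt N17510 (iv F225228)) (tt N13167 F215309) (tt N17521 D50291) (tt N13061 (iv D48089)))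
theorem Q15321 : ∀ i, i < 15321 → P i := stepQ 15320 Q15320 (allL N15320 (tt N17513 (iv F225240)) (tt N17197 (iv F223862)) (tt N17520 (iv F225264)) (tt N13099 F215310) (tt N17521 (iv F225267)) (tt N16447 (iv F220377)) (tt N17518 (iv F225259)) (tt N13168 F215311) (tt N13062 (iv D48090)) (tt N17517 (iv F225257)))
theorem Q15322 : ∀ i, i < 15322 → P i := stepQ 15321 Q15321 (allL N15321 (tt N17515 (iv F225247)) (tt N16528 (iv F220782)) (tt N13067 F215312) (tt N17522 D50292) (tt N15321 F215313) (tt N16456 (iv F220432)) (tt N16530 (iv F220798)) (tt N13180 F215314) (tt N13066 (iv D48091)) (tt N15321 F215315))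
theorem Q15323 : ∀ i, i < 15323 → P i := stepQ 15322 Q15322 (allL N15322 (tt N13085 F215316) (tt N16499 (iv F220654)) (tt N13068 (iv D48092)) (tt N15322 F215317) (tt N16043 F218049) (tt N16468 (iv F220494)) (tt N16045 (iv F218063)) (tt N13191 F215318) (tt N13074 F215319) (tt N17523 D50293))
theorem Q15324 : ∀ i, i < 15324 → P i := stepQ 15323 Q15323 (allL N15323 (tt N13086 F215320) (tt N17511 (iv F225231)) (tt N17523 (iv F225273)) (tt N13069 F215321) (tt N17196 (iv F223858)) (tt N16470 (iv F220503)) (tt N17199 (iv F223876)) (tt N13192 F215322) (tt N17524 D50294) (tt N13068 (iv D48093)))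
theorem Q15325 : ∀ i, i < 15325 → P i := stepQ 15324 Q15324 (allL N15324 (tt N13089 F215323) (tt N16413 (iv F220180)) (tt N16049 (iv F218089)) (tt N13070 (iv D48094)) (tt N17207 (iv F223914)) (tt N13072 F215324) (tt N16472 (iv F220515)) (tt N16140 (iv F218666)) (tt N16407 (iv F220139)) (tt N17525 D50295))
theorem Q15326 : ∀ i, i < 15326 → P i := stepQ 15325 Q15325 (allL N15325 (tt N13090 F215325) (tt N16414 (iv F220185)) (tt N13080 F215326) (tt N17525 (iv F225280)) (tt N15325 F215327) (tt N13073 F215328) (tt N16473 (iv F220520)) (tt N16562 (iv F221022)) (tt N16460 (iv F220459)) (tt N13070 (iv D48095)))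
theorem Q15327 : ∀ i, i < 15327 → P i := stepQ 15326 Q15326 (allL N15326 (tt N13091 F215329) (tt N13130 F215330) (tt N13081 F215331) (tt N16141 (iv F218671)) (tt N13076 F215332) (tt N16562 (iv F221021)) (tt N13198 F215333) (tt N13073 F215334) (tt N13186 F215335) (tt N13071 (iv D48096)))
theorem Q15328 : ∀ i, i < 15328 → P i := stepQ 15327 Q15327 (allL N15327 (tt N13093 F215336) (tt N17510 (iv F225225)) (tt N16050 (iv F218096)) (tt N13073 F215337) (tt N16048 (iv F218083)) (tt N17525 (iv F225281)) (tt N13075 F215338) (tt N16141 (iv F218674)) (tt N17526 D50296) (tt N13072 (iv D48097)))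
theorem Q15329 : ∀ i, i < 15329 → P i := stepQ 15328 Q15328 (allL N15328 (tt N13096 F215339) (tt N16512 (iv F220710)) (tt N13075 F215340) (tt N13083 F215341) (tt N16047 (iv F218076)) (tt N16481 (iv F220555)) (tt N16050 (iv F218099)) (tt N13202 F215342) (tt N17527 D50297) (tt N13074 (iv D48098)))
theorem Q15330 : ∀ i, i < 15330 → P i := stepQ 15329 Q15329 (allL N15329 (tt N13099 F215343) (tt N17521 (iv F225266)) (tt N17527 (iv F225285)) (tt N17513 (iv F225241)) (tt N17197 (iv F223864)) (tt N16483 (iv F220562)) (tt N17526 (iv F225283)) (tt N13203 F215344) (tt N13075 (iv D48099)) (tt N17524 (iv F225278)))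
theorem Q15331 : ∀ i, i < 15331 → P i := stepQ 15330 Q15330 (allL N15330 (tt N13104 F215345) (tt N15330 F215346) (tt N16561 (iv F221013)) (tt N15983 (iv F217612)) (tt N15330 F215347) (tt N13204 F215348) (tt N13078 F215349) (tt N16093 (iv F218363)) (tt N13077 (iv D48100)) (tt N17283 (iv F224251)))
theorem Q15332 : ∀ i, i < 15332 → P i := stepQ 15331 Q15331 (allL N15331 (tt N13108 F215350) (tt N15331 F215351) (tt N16053 (iv F218113)) (tt N13080 F215352) (tt N15978 (iv F217574)) (tt N13082 F215353) (tt N16457 (iv F220439)) (tt N15984 (iv F217623)) (tt N17528 D50298) (tt N13079 (iv D48101)))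
theorem Q15333 : ∀ i, i < 15333 → P i := stepQ 15332 Q15332 (allL N15332 (tt N13112 F215354) (tt N15332 F215355) (tt N16054 (iv F218119)) (tt N16532 (iv F220806)) (tt N13571 F215356) (tt N17528 (iv F225290)) (tt N13084 F215357) (tt N15985 (iv F217632)) (tt N13082 (iv D48102)) (tt N15332 F215358))
theorem Q15334 : ∀ i, i < 15334 → P i := stepQ 15333 Q15333 (allL N15333 (tt N13115 F215359) (tt N16523 (iv F220755)) (tt N13084 F215360) (tt N17529 D50299) (tt N13572 F215361) (tt N16492 (iv F220615)) (tt N16054 (iv F218121)) (tt N13215 F215362) (tt N13083 (iv D48103)) (tt N15333 F215363))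
theorem Q15335 : ∀ i, i < 15335 → P i := stepQ 15334 Q15334 (allL N15334 (tt N16463 (iv F220471)) (tt N13085 (iv D48104)) (tt N16035 F217985) (tt N15334 F215364) (tt N16438 F220335) (tt N16501 (iv F220663)) (tt N17205 (iv F223903)) (tt N13221 F215365) (tt N13094 F215366) (tt N17530 D50300))
theorem Q15336 : ∀ i, i < 15336 → P i := stepQ 15335 Q15335 (allL N15335 (tt N17523 (iv F225272)) (tt N17530 (iv F225296)) (tt N13086 F215367) (tt N15335 F215368) (tt N17203 (iv F223892)) (tt N16503 (iv F220676)) (tt N17208 (iv F223920)) (tt N13223 F215369) (tt N17531 D50301) (tt N13085 (iv D48105)))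
theorem Q15337 : ∀ i, i < 15337 → P i := stepQ 15336 Q15336 (allL N15336 (tt N17524 (iv F225276)) (tt N17201 (iv F223881)) (tt N17531 (iv F225299)) (tt N17517 (iv F225255)) (tt N17204 (iv F223896)) (tt N16506 (iv F220686)) (tt N17211 (iv F223930)) (tt N13226 F215370) (tt N13086 (iv D48106)) (tt N13099 F215371))
theorem Q15338 : ∀ i, i < 15338 → P i := stepQ 15337 Q15337 (allL N15337 (tt N16561 (iv F221011)) (tt N13766 F215372) (tt N13104 F215373) (tt N17238 (iv F224064)) (tt N15337 F215374) (tt N13227 F215375) (tt N13088 F215376) (tt N16088 (iv F218331)) (tt N13087 (iv D48107)) (tt N17279 (iv F224231)))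
theorem Q15339 : ∀ i, i < 15339 → P i := stepQ 15338 Q15338 (allL N15338 (tt N16049 (iv F218087)) (tt N16421 (iv F220228)) (tt N13089 (iv D48108)) (tt N13106 F215377) (tt N16407 (iv F220136)) (tt N13092 F215378) (tt N16443 (iv F220361)) (tt N16110 (iv F218484)) (tt N17207 (iv F223916)) (tt N17532 D50302))
theorem Q15340 : ∀ i, i < 15340 → P i := stepQ 15339 Q15339 (allL N15339 (tt N17207 (iv F223911)) (tt N16504 (iv F220678)) (tt N16407 F220140) (tt N15339 F215379) (tt N13089 (iv D48109)) (tt N16045 (iv F218062)) (tt N16507 (iv F220690)) (tt N16126 (iv F218588)) (tt N16049 (iv F218093)) (tt N17533 D50303))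
theorem Q15341 : ∀ i, i < 15341 → P i := stepQ 15340 Q15340 (allL N15340 (tt N17525 (iv F225279)) (tt N17202 (iv F223886)) (tt N17532 (iv F225302)) (tt N13090 F215380) (tt N17533 (iv F225306)) (tt N13093 F215381) (tt N16508 (iv F220693)) (tt N17239 (iv F224070)) (tt N17534 D50304) (tt N13089 (iv D48110)))
theorem Q15342 : ∀ i, i < 15342 → P i := stepQ 15341 Q15341 (allL N15341 (tt N16445 (iv F220367)) (tt N13092 (iv D48111)) (tt N16438 (iv F220330)) (tt N13110 F215382) (tt N16035 (iv F217980)) (tt N16421 (iv F220231)) (tt N13094 F215383) (tt N16102 (iv F218430)) (tt N17205 (iv F223905)) (tt N17535 D50305))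
theorem Q15343 : ∀ i, i < 15343 → P i := stepQ 15342 Q15342 (allL N15342 (tt N16050 (iv F218094)) (tt N17535 (iv F225308)) (tt N13093 F215384) (tt N13111 F215385) (tt N16038 (iv F218006)) (tt N17532 (iv F225304)) (tt N13096 F215386) (tt N16111 (iv F218491)) (tt N17536 D50306) (tt N13092 (iv D48112)))
theorem Q15344 : ∀ i, i < 15344 → P i := stepQ 15343 Q15343 (allL N15343 (tt N17526 (iv F225282)) (tt N17204 (iv F223895)) (tt N17536 (iv F225311)) (tt N17518 (iv F225258)) (tt N17201 (iv F223882)) (tt N17534 (iv F225307)) (tt N13099 F215387) (tt N17240 (iv F224074)) (tt N13093 (iv D48113)) (tt N17211 (iv F223932)))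
theorem Q15345 : ∀ i, i < 15345 → P i := stepQ 15344 Q15344 (allL N15344 (tt N13094 (iv D48114)) (tt N16477 (iv F220538)) (tt N16459 (iv F220449)) (tt N13113 F215388) (tt N16461 (iv F220462)) (tt N16514 (iv F220718)) (tt N16445 F220372) (tt N13241 F215389) (tt N16463 (iv F220475)) (tt N17537 D50307))
theorem Q15346 : ∀ i, i < 15346 → P i := stepQ 15345 Q15345 (allL N15345 (tt N16461 (iv F220460)) (tt N13095 F215390) (tt N17205 (iv F223901)) (tt N13573 F215391) (tt N13094 (iv D48115)) (tt N16432 (iv F220301)) (tt N16035 (iv F217982)) (tt N13242 F215392) (tt N16438 (iv F220334)) (tt N17538 D50308))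
theorem Q15347 : ∀ i, i < 15347 → P i := stepQ 15346 Q15346 (allL N15346 (tt N17537 (iv F225313)) (tt N13096 F215393) (tt N17206 (iv F223907)) (tt N13114 F215394) (tt N17538 (iv F225318)) (tt N16516 (iv F220733)) (tt N17535 (iv F225310)) (tt N13243 F215395) (tt N17539 D50309) (tt N13094 (iv D48116)))
theorem Q15348 : ∀ i, i < 15348 → P i := stepQ 15347 Q15347 (allL N15347 (tt N16026 (iv F217915)) (tt N16432 (iv F220300)) (tt N13097 F215396) (tt N13575 F215397) (tt N16517 (iv F220738)) (tt N13095 (iv D48117)) (tt N16021 (iv F217880)) (tt N13244 F215398) (tt N16024 (iv F217906)) (tt N17540 D50310))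
theorem Q15349 : ∀ i, i < 15349 → P i := stepQ 15348 Q15348 (allL N15348 (tt N16047 (iv F218072)) (tt N17538 (iv F225316)) (tt N13098 F215399) (tt N13576 F215400) (tt N13096 F215401) (tt N17540 (iv F225324)) (tt N16038 (iv F218008)) (tt N13245 F215402) (tt N17541 D50311) (tt N13095 (iv D48118)))
theorem Q15350 : ∀ i, i < 15350 → P i := stepQ 15349 Q15349 (allL N15349 (tt N17527 (iv F225284)) (tt N17539 (iv F225320)) (tt N13099 F215403) (tt N17542 D50312) (tt N17541 (iv F225327)) (tt N16519 (iv F220745)) (tt N17536 (iv F225312)) (tt N13246 F215404) (tt N13096 (iv D48119)) (tt N17531 (iv F225301)))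
theorem Q15351 : ∀ i, i < 15351 → P i := stepQ 15350 Q15350 (allL N15350 (tt N16024 (iv F217900)) (tt N16494 (iv F220625)) (tt N16021 (iv F217878)) (tt N13100 F215405) (tt N16520 (iv F220748)) (tt N16043 (iv F218045)) (tt N13097 (iv D48120)) (tt N16062 (iv F218178)) (tt N16026 (iv F217920)) (tt N17543 D50313))
theorem Q15352 : ∀ i, i < 15352 → P i := stepQ 15351 Q15351 (allL N15351 (tt N16028 (iv F217927)) (tt N17210 (iv F223924)) (tt N17540 (iv F225322)) (tt N13101 F215406) (tt N16521 (iv F220750)) (tt N13098 F215407) (tt N17543 (iv F225332)) (tt N13248 F215408) (tt N17544 D50314) (tt N13097 (iv D48121)))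
theorem Q15353 : ∀ i, i < 15353 → P i := stepQ 15352 Q15352 (allL N15352 (tt N17197 (iv F223861)) (tt N17211 (iv F223928)) (tt N17541 (iv F225326)) (tt N17200 (iv F223879)) (tt N13099 F215409) (tt N17544 (iv F225334)) (tt N17201 (iv F223883)) (tt N13249 F215410) (tt N13098 (iv D48122)) (tt N17204 (iv F223899)))
theorem Q15354 : ∀ i, i < 15354 → P i := stepQ 15353 Q15353 (allL N15353 (tt N16023 (iv F217891)) (tt N16493 (iv F220618)) (tt N13579 F215411) (tt N16062 (iv F218175)) (tt N13102 F215412) (tt N16042 (iv F218038)) (tt N13252 F215413) (tt N13100 (iv D48123)) (tt N13615 F215414) (tt N13631 (iv F215415)))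
theorem Q15355 : ∀ i, i < 15355 → P i := stepQ 15354 Q15354 (allL N15354 (tt N16025 (iv F217907)) (tt N16495 (iv F220629)) (tt N13578 F215416) (tt N17543 (iv F225331)) (tt N13103 F215417) (tt N16044 (iv F218054)) (tt N13101 F215418) (tt N13631 F215419) (tt N13576 F215420) (tt N13100 (iv D48124)))
theorem Q15356 : ∀ i, i < 15356 → P i := stepQ 15355 Q15355 (allL N15355 (tt N16053 (iv F218111)) (tt N16424 (iv F220247)) (tt N13108 F215421) (tt N17532 (iv F225303)) (tt N16040 (iv F218022)) (tt N13111 F215422) (tt N16455 (iv F220429)) (tt N16114 (iv F218509)) (tt N17545 D50315) (tt N13106 (iv D48125)))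
theorem Q15357 : ∀ i, i < 15357 → P i := stepQ 15356 Q15356 (allL N15356 (tt N15978 (iv F217570)) (tt N13117 F215423) (tt N16040 (iv F218020)) (tt N15356 F215424) (tt N13108 F215425) (tt N13580 F215426) (tt N16403 (iv F220110)) (tt N15981 (iv F217598)) (tt N17546 D50316) (tt N13107 (iv D48126)))
theorem Q15358 : ∀ i, i < 15358 → P i := stepQ 15357 Q15357 (allL N15357 (tt N17528 (iv F225287)) (tt N13118 F215427) (tt N17545 (iv F225336)) (tt N13125 F215428) (tt N17546 (iv F225341)) (tt N13112 F215429) (tt N16458 (iv F220444)) (tt N13294 F215430) (tt N13108 (iv D48127)) (tt N15357 F215431))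
theorem Q15359 : ∀ i, i < 15359 → P i := stepQ 15358 Q15358 (allL N15358 (tt N16450 (iv F220394)) (tt N13111 F215432) (tt N13122 F215433) (tt N17535 (iv F225309)) (tt N13583 F215434) (tt N16424 (iv F220250)) (tt N13114 F215435) (tt N16104 (iv F218443)) (tt N17547 D50317) (tt N13110 (iv D48128)))
theorem Q15360 : ∀ i, i < 15360 → P i := stepQ 15359 Q15359 (allL N15359 (tt N16054 (iv F218117)) (tt N17547 (iv F225346)) (tt N13112 F215436) (tt N17548 D50318) (tt N13584 F215437) (tt N17545 (iv F225337)) (tt N13115 F215438) (tt N16115 (iv F218516)) (tt N13111 (iv D48129)) (tt N15359 F215439))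
theorem Q15361 : ∀ i, i < 15361 → P i := stepQ 15360 Q15360 (allL N15360 (tt N13114 F215440) (tt N16485 (iv F220572)) (tt N13124 F215441) (tt N17537 (iv F225314)) (tt N13585 F215442) (tt N16529 (iv F220791)) (tt N16450 (iv F220399)) (tt N13271 F215443) (tt N17549 D50319) (tt N13113 (iv D48130)))
theorem Q15362 : ∀ i, i < 15362 → P i := stepQ 15361 Q15361 (allL N15361 (tt N17549 (iv F225353)) (tt N13115 F215444) (tt N13125 F215445) (tt N17550 D50320) (tt N13586 F215446) (tt N16530 (iv F220797)) (tt N17547 (iv F225349)) (tt N13272 F215447) (tt N13114 (iv D48131)) (tt N15361 F215448))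
theorem Q15363 : ∀ i, i < 15363 → P i := stepQ 15362 Q15362 (allL N15362 (tt N17529 (iv F225293)) (tt N17550 (iv F225358)) (tt N17522 (iv F225269)) (tt N13115 (iv D48132)) (tt N17551 D50321) (tt N16531 (iv F220801)) (tt N17548 (iv F225351)) (tt N13273 F215449) (tt N17542 (iv F225330)) (tt N15362 F215450))
theorem Q15364 : ∀ i, i < 15364 → P i := stepQ 15363 Q15363 (allL N15363 (tt N15363 F215451) (tt N17546 (iv F225340)) (tt N16402 (iv F220099)) (tt N13602 (iv F215456)) (tt N13118 F215452) (tt N13594 F215453) (tt N16404 (iv F220116)) (tt N13295 F215454) (tt N13117 (iv D48133)) (tt N15363 F215455))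
theorem Q15365 : ∀ i, i < 15365 → P i := stepQ 15364 Q15364 (allL N15364 (tt N16541 (iv F220872)) (tt N13120 F215457) (tt N16104 (iv F218439)) (tt N16096 F218384) (tt N13595 F215458) (tt N16453 (iv F220416)) (tt N13288 F215459) (tt N13122 F215460) (tt N16673 (iv F221531)) (tt N13119 (iv D48134)))
theorem Q15366 : ∀ i, i < 15366 → P i := stepQ 15365 Q15365 (allL N15365 (tt N13122 F215461) (tt N15365 F215462) (tt N16450 (iv F220396)) (tt N16428 (iv F220276)) (tt N13597 F215463) (tt N16396 (iv F220059)) (tt N13124 F215464) (tt N16541 (iv F220878)) (tt N17552 D50322) (tt N13121 (iv D48135)))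
theorem Q15367 : ∀ i, i < 15367 → P i := stepQ 15366 Q15366 (allL N15366 (tt N17552 (iv F225364)) (tt N13123 F215465) (tt N17547 (iv F225347)) (tt N16458 (iv F220442)) (tt N13598 F215466) (tt N16454 (iv F220422)) (tt N13125 F215467) (tt N16673 (iv F221530)) (tt N13122 (iv D48136)) (tt N15366 F215468))
theorem Q15368 : ∀ i, i < 15368 → P i := stepQ 15367 Q15367 (allL N15367 (tt N13125 F215469) (tt N15367 F215470) (tt N17549 (iv F225354)) (tt N17528 (iv F225289)) (tt N13600 F215471) (tt N16532 (iv F220808)) (tt N17552 (iv F225367)) (tt N13293 F215472) (tt N13124 (iv D48137)) (tt N15367 F215473))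
theorem Q15369 : ∀ i, i < 15369 → P i := stepQ 15368 Q15368 (allL N15368 (tt N13149 F215474) (tt N13194 F215475) (tt N15368 F215476) (tt N17553 D50323) (tt N13337 F215477) (tt N13128 F215478) (tt N16571 (iv F221076)) (tt N13170 F215479) (tt N13127 (iv D48138)) (tt N17554 D50324))
theorem Q15370 : ∀ i, i < 15370 → P i := stepQ 15369 Q15369 (allL N15369 (tt N13150 F215480) (tt N13197 F215481) (tt N16789 (iv F222010)) (tt N13128 (iv D48139)) (tt N13159 F215482) (tt N17553 (iv F225371)) (tt N13129 F215483) (tt N13162 F215484) (tt N13134 F215485) (tt N17555 D50325))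
theorem Q15371 : ∀ i, i < 15371 → P i := stepQ 15370 Q15370 (allL N15370 (tt N13151 F215486) (tt N13198 F215487) (tt N15370 F215488) (tt N17555 (iv F225383)) (tt N13169 F215489) (tt N17554 (iv F225378)) (tt N13130 F215490) (tt N13171 F215491) (tt N13190 F215492) (tt N13128 (iv D48140)))
theorem Q15372 : ∀ i, i < 15372 → P i := stepQ 15371 Q15371 (allL N15371 (tt N13154 F215493) (tt N16141 (iv F218669)) (tt N16798 (iv F222041)) (tt N13130 F215494) (tt N16139 (iv F218657)) (tt N16577 (iv F221104)) (tt N17555 (iv F225385)) (tt N17510 (iv F225229)) (tt N17556 D50326) (tt N13129 (iv D48141)))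
theorem Q15373 : ∀ i, i < 15373 → P i := stepQ 15372 Q15372 (allL N15372 (tt N13156 F215495) (tt N13188 F215496) (tt N13140 F215497) (tt N17557 D50327) (tt N13297 F215498) (tt N13133 F215499) (tt N16674 (iv F221539)) (tt N13132 F215500) (tt N13131 (iv D48142)) (tt N17558 D50328))
theorem Q15374 : ∀ i, i < 15374 → P i := stepQ 15373 Q15373 (allL N15373 (tt N13157 F215501) (tt N17228 (iv F224009)) (tt N17559 D50329) (tt N13132 (iv D48143)) (tt N17560 D50330) (tt N13134 F215502) (tt N16580 (iv F221120)) (tt N17557 (iv F225393)) (tt N17553 (iv F225373)) (tt N17561 D50331))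
theorem Q15375 : ∀ i, i < 15375 → P i := stepQ 15374 Q15374 (allL N15374 (tt N13158 F215503) (tt N17232 (iv F224027)) (tt N13142 F215504) (tt N17561 (iv F225408)) (tt N13299 F215505) (tt N13135 F215506) (tt N16581 (iv F221125)) (tt N17558 (iv F225400)) (tt N13196 F215507) (tt N13132 (iv D48144)))
theorem Q15376 : ∀ i, i < 15376 → P i := stepQ 15375 Q15375 (allL N15375 (tt N13159 F215508) (tt N13189 F215509) (tt N16788 (iv F222002)) (tt N13133 (iv D48145)) (tt N13150 F215510) (tt N17557 (iv F225392)) (tt N13153 F215511) (tt N13134 F215512) (tt N13162 F215513) (tt N17562 D50332))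
theorem Q15377 : ∀ i, i < 15377 → P i := stepQ 15376 Q15376 (allL N15376 (tt N13160 F215514) (tt N13190 F215515) (tt N13143 F215516) (tt N17562 (iv F225412)) (tt N13138 F215517) (tt N17558 (iv F225399)) (tt N13186 F215518) (tt N13135 F215519) (tt N13198 F215520) (tt N13133 (iv D48146)))
theorem Q15378 : ∀ i, i < 15378 → P i := stepQ 15377 Q15377 (allL N15377 (tt N13161 F215521) (tt N16761 (iv F221914)) (tt N13134 (iv D48147)) (tt N13144 F215522) (tt N16760 F221913) (tt N17559 (iv F225404)) (tt N13136 F215523) (tt N16788 (iv F222005)) (tt N16789 (iv F222014)) (tt N17563 D50333))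
theorem Q15379 : ∀ i, i < 15379 → P i := stepQ 15378 Q15378 (allL N15378 (tt N13163 F215524) (tt N17229 (iv F224014)) (tt N17563 (iv F225417)) (tt N13135 F215525) (tt N17224 (iv F223996)) (tt N17561 (iv F225409)) (tt N13137 F215526) (tt N17562 (iv F225415)) (tt N17564 D50334) (tt N13134 (iv D48148)))
theorem Q15380 : ∀ i, i < 15380 → P i := stepQ 15379 Q15379 (allL N15379 (tt N13166 F215527) (tt N16767 (iv F221935)) (tt N13137 F215528) (tt N13147 F215529) (tt N16766 (iv F221933)) (tt N16588 (iv F221158)) (tt N17563 (iv F225419)) (tt N17512 (iv F225239)) (tt N17565 D50335) (tt N13136 (iv D48149)))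
theorem Q15381 : ∀ i, i < 15381 → P i := stepQ 15380 Q15380 (allL N15380 (tt N13168 F215530) (tt N17231 (iv F224023)) (tt N17565 (iv F225424)) (tt N13203 F215531) (tt N17225 (iv F224002)) (tt N16590 (iv F221164)) (tt N17564 (iv F225422)) (tt N17513 (iv F225242)) (tt N13137 (iv D48150)) (tt N17556 (iv F225389)))
theorem Q15382 : ∀ i, i < 15382 → P i := stepQ 15381 Q15381 (allL N15381 (tt N13172 F215532) (tt N15381 F215533) (tt N17558 (iv F225397)) (tt N16838 (iv F222198)) (tt N13305 F215534) (tt N13143 F215535) (tt N17281 (iv F224239)) (tt N13142 F215536) (tt N13206 F215537) (tt N13140 (iv D48151)))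
theorem Q15383 : ∀ i, i < 15383 → P i := stepQ 15382 Q15382 (allL N15382 (tt N13173 F215538) (tt N17566 D50336) (tt N13141 (iv D48152)) (tt N17559 (iv F225403)) (tt N16922 (iv F222621)) (tt N13144 F215539) (tt N16597 (iv F221203)) (tt N16822 (iv F222125)) (tt N15382 F215540) (tt N17567 D50337))
theorem Q15384 : ∀ i, i < 15384 → P i := stepQ 15383 Q15383 (allL N15383 (tt N13175 F215541) (tt N15383 F215542) (tt N17567 (iv F225429)) (tt N13142 F215543) (tt N17157 (iv F223632)) (tt N13145 F215544) (tt N16598 (iv F221211)) (tt N16838 (iv F222201)) (tt N17568 D50338) (tt N13141 (iv D48153)))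
theorem Q15385 : ∀ i, i < 15385 → P i := stepQ 15384 Q15384 (allL N15384 (tt N16739 (iv F221814)) (tt N13144 (iv D48154)) (tt N15384 F215545) (tt N16761 F221918) (tt N15384 F215546) (tt N17566 (iv F225426)) (tt N13146 F215547) (tt N16742 (iv F221835)) (tt N15384 F215548) (tt N17569 D50339))
theorem Q15386 : ∀ i, i < 15386 → P i := stepQ 15385 Q15385 (allL N15385 (tt N13176 F215549) (tt N17569 (iv F225436)) (tt N13145 F215550) (tt N17563 (iv F225418)) (tt N15385 F215551) (tt N17567 (iv F225430)) (tt N13147 F215552) (tt N16830 (iv F222164)) (tt N17570 D50340) (tt N13144 (iv D48155)))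
theorem Q15387 : ∀ i, i < 15387 → P i := stepQ 15386 Q15386 (allL N15386 (tt N13177 F215553) (tt N15386 F215554) (tt N17570 (iv F225441)) (tt N13212 F215555) (tt N15386 F215556) (tt N17568 (iv F225434)) (tt N13148 F215557) (tt N16843 (iv F222233)) (tt N13145 (iv D48156)) (tt N15386 F215558))
theorem Q15388 : ∀ i, i < 15388 → P i := stepQ 15387 Q15387 (allL N15387 (tt N13146 (iv D48157)) (tt N13178 F215559) (tt N15387 F215560) (tt N16700 (iv F221657)) (tt N15387 F215561) (tt N16524 (iv F220765)) (tt N16739 (iv F221817)) (tt N16488 (iv F220594)) (tt N15387 F215562) (tt N17571 D50341))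
theorem Q15389 : ∀ i, i < 15389 → P i := stepQ 15388 Q15388 (allL N15388 (tt N17571 (iv F225445)) (tt N13147 F215563) (tt N15388 F215564) (tt N16767 (iv F221937)) (tt N15388 F215565) (tt N16601 (iv F221226)) (tt N17569 (iv F225439)) (tt N17514 (iv F225246)) (tt N17572 D50342) (tt N13146 (iv D48158)))
theorem Q15390 : ∀ i, i < 15390 → P i := stepQ 15389 Q15389 (allL N15389 (tt N13180 F215566) (tt N17572 (iv F225452)) (tt N13148 F215567) (tt N17573 D50343) (tt N15389 F215568) (tt N16602 (iv F221232)) (tt N17570 (iv F225443)) (tt N17515 (iv F225250)) (tt N13147 (iv D48159)) (tt N15389 F215569))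
theorem Q15391 : ∀ i, i < 15391 → P i := stepQ 15390 Q15390 (allL N15390 (tt N17553 (iv F225369)) (tt N17212 (iv F223934)) (tt N17574 D50344) (tt N13149 (iv D48160)) (tt N17575 D50345) (tt N13150 F215570) (tt N16605 (iv F221246)) (tt N17222 (iv F223984)) (tt N13157 F215571) (tt N17576 D50346))
theorem Q15392 : ∀ i, i < 15392 → P i := stepQ 15391 Q15391 (allL N15391 (tt N17554 (iv F225374)) (tt N17213 (iv F223939)) (tt N15391 F215572) (tt N17576 (iv F225464)) (tt N17335 (iv F224514)) (tt N13151 F215573) (tt N16606 (iv F221250)) (tt N17223 (iv F223991)) (tt N13218 F215574) (tt N13149 (iv D48161)))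
theorem Q15393 : ∀ i, i < 15393 → P i := stepQ 15392 Q15392 (allL N15392 (tt N16789 (iv F222008)) (tt N16757 (iv F221895)) (tt N13150 (iv D48162)) (tt N15392 F215575) (tt N16788 F222007) (tt N17574 (iv F225461)) (tt N13152 F215576) (tt N16760 (iv F221910)) (tt N13161 F215577) (tt N17577 D50347))
theorem Q15394 : ∀ i, i < 15394 → P i := stepQ 15393 Q15393 (allL N15393 (tt N17555 (iv F225381)) (tt N17214 (iv F223946)) (tt N17577 (iv F225466)) (tt N13151 F215578) (tt N17562 (iv F225413)) (tt N17576 (iv F225465)) (tt N13154 F215579) (tt N17224 (iv F223998)) (tt N17578 D50348) (tt N13150 (iv D48163)))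
theorem Q15395 : ∀ i, i < 15395 → P i := stepQ 15394 Q15394 (allL N15394 (tt N16720 (iv F221728)) (tt N13152 (iv D48164)) (tt N16496 (iv F220640)) (tt N15394 F215580) (tt N16719 F221727) (tt N16612 (iv F221271)) (tt N16757 (iv F221897)) (tt N16498 (iv F220652)) (tt N13164 F215581) (tt N17579 D50349))
theorem Q15396 : ∀ i, i < 15396 → P i := stepQ 15395 Q15395 (allL N15395 (tt N16798 (iv F222039)) (tt N17579 (iv F225472)) (tt N13154 F215582) (tt N15395 F215583) (tt N16797 (iv F222037)) (tt N16614 (iv F221280)) (tt N17577 (iv F225468)) (tt N17516 (iv F225254)) (tt N17580 D50350) (tt N13152 (iv D48165)))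
theorem Q15397 : ∀ i, i < 15397 → P i := stepQ 15396 Q15396 (allL N15396 (tt N16139 (iv F218653)) (tt N13192 F215584) (tt N16797 (iv F222035)) (tt N13186 F215585) (tt N13154 F215586) (tt N16678 (iv F221559)) (tt N17562 (iv F225414)) (tt N17511 (iv F225235)) (tt N17581 D50351) (tt N13153 (iv D48166)))
theorem Q15398 : ∀ i, i < 15398 → P i := stepQ 15397 Q15397 (allL N15397 (tt N17556 (iv F225387)) (tt N17216 (iv F223957)) (tt N17580 (iv F225474)) (tt N13226 F215587) (tt N17581 (iv F225477)) (tt N16617 (iv F221290)) (tt N17578 (iv F225470)) (tt N17517 (iv F225256)) (tt N13154 (iv D48167)) (tt N13168 F215588))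
theorem Q15399 : ∀ i, i < 15399 → P i := stepQ 15398 Q15398 (allL N15398 (tt N17557 (iv F225390)) (tt N16131 F218617) (tt N16777 (iv F221965)) (tt N13156 (iv D48168)) (tt N17582 D50352) (tt N13159 F215589) (tt N17246 (iv F224102)) (tt N13157 F215590) (tt N17222 (iv F223985)) (tt N17583 D50353))
theorem Q15400 : ∀ i, i < 15400 → P i := stepQ 15399 Q15399 (allL N15399 (tt N17558 (iv F225395)) (tt N16155 (iv F218738)) (tt N13172 F215591) (tt N17583 (iv F225481)) (tt N13319 F215592) (tt N13160 F215593) (tt N17275 (iv F224208)) (tt N13158 F215594) (tt N13229 F215595) (tt N13156 (iv D48169)))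
theorem Q15401 : ∀ i, i < 15401 → P i := stepQ 15400 Q15400 (allL N15400 (tt N17559 (iv F225402)) (tt N16774 (iv F221956)) (tt N13157 (iv D48170)) (tt N13173 F215596) (tt N17584 D50354) (tt N13161 F215597) (tt N16621 (iv F221307)) (tt N16777 (iv F221969)) (tt N17574 (iv F225462)) (tt N17585 D50355))
theorem Q15402 : ∀ i, i < 15402 → P i := stepQ 15401 Q15401 (allL N15401 (tt N17560 (iv F225405)) (tt N17217 (iv F223962)) (tt N17584 (iv F225484)) (tt N13321 F215598) (tt N13157 (iv D48171)) (tt N17586 D50356) (tt N16622 (iv F221309)) (tt N17582 (iv F225480)) (tt N17575 (iv F225463)) (tt N17587 D50357))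
theorem Q15403 : ∀ i, i < 15403 → P i := stepQ 15402 Q15402 (allL N15402 (tt N17561 (iv F225407)) (tt N17218 (iv F223966)) (tt N17585 (iv F225485)) (tt N13158 F215599) (tt N17587 (iv F225492)) (tt N13163 F215600) (tt N16623 (iv F221312)) (tt N17583 (iv F225483)) (tt N17588 D50358) (tt N13157 (iv D48172)))
theorem Q15404 : ∀ i, i < 15404 → P i := stepQ 15403 Q15403 (allL N15403 (tt N17562 (iv F225410)) (tt N16135 (iv F218633)) (tt N16790 (iv F222016)) (tt N13160 F215601) (tt N17555 (iv F225384)) (tt N17583 (iv F225482)) (tt N16139 (iv F218659)) (tt N13163 F215602) (tt N17589 D50359) (tt N13159 (iv D48173)))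
theorem Q15405 : ∀ i, i < 15405 → P i := stepQ 15404 Q15404 (allL N15404 (tt N16760 F221912) (tt N16783 (iv F221983)) (tt N13162 F215603) (tt N15404 F215604) (tt N13161 (iv D48174)) (tt N17590 D50360) (tt N13165 F215605) (tt N16789 (iv F222013)) (tt N16788 (iv F222006)) (tt N17591 D50361))
theorem Q15406 : ∀ i, i < 15406 → P i := stepQ 15405 Q15405 (allL N15405 (tt N17563 (iv F225416)) (tt N16784 (iv F221988)) (tt N13163 F215606) (tt N13176 F215607) (tt N17591 (iv F225501)) (tt N17585 (iv F225487)) (tt N13166 F215608) (tt N16790 (iv F222019)) (tt N17592 D50362) (tt N13161 (iv D48175)))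
theorem Q15407 : ∀ i, i < 15407 → P i := stepQ 15406 Q15406 (allL N15406 (tt N17222 (iv F223981)) (tt N13195 F215609) (tt N17590 (iv F225497)) (tt N13170 F215610) (tt N17586 (iv F225490)) (tt N13162 (iv D48176)) (tt N16680 (iv F221568)) (tt N17553 (iv F225372)) (tt N17557 (iv F225394)) (tt N17593 D50363))
theorem Q15408 : ∀ i, i < 15408 → P i := stepQ 15407 Q15407 (allL N15407 (tt N17224 (iv F223993)) (tt N13200 F215611) (tt N17591 (iv F225499)) (tt N13171 F215612) (tt N13163 F215613) (tt N17593 (iv F225507)) (tt N13167 F215614) (tt N17555 (iv F225386)) (tt N17594 D50364) (tt N13162 (iv D48177)))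
theorem Q15409 : ∀ i, i < 15409 → P i := stepQ 15408 Q15408 (allL N15408 (tt N17564 (iv F225420)) (tt N17219 (iv F223970)) (tt N17592 (iv F225503)) (tt N13240 F215615) (tt N17594 (iv F225509)) (tt N17588 (iv F225494)) (tt N13168 F215616) (tt N17589 (iv F225496)) (tt N13163 (iv D48178)) (tt N17578 (iv F225471)))
theorem Q15410 : ∀ i, i < 15410 → P i := stepQ 15409 Q15409 (allL N15409 (tt N13164 (iv D48179)) (tt N16700 (iv F221654)) (tt N16474 (iv F220523)) (tt N13178 F215617) (tt N16699 (iv F221652)) (tt N16630 (iv F221327)) (tt N16710 (iv F221694)) (tt N16476 (iv F220536)) (tt N16720 (iv F221731)) (tt N17595 D50365))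
theorem Q15411 : ∀ i, i < 15411 → P i := stepQ 15410 Q15410 (allL N15410 (tt N16699 (iv F221647)) (tt N13165 F215618) (tt N13201 F215619) (tt N15410 F215620) (tt N13164 (iv D48180)) (tt N16686 (iv F221595)) (tt N16783 (iv F221986)) (tt N16510 (iv F220704)) (tt N16719 (iv F221726)) (tt N17596 D50366))
theorem Q15412 : ∀ i, i < 15412 → P i := stepQ 15411 Q15411 (allL N15411 (tt N17595 (iv F225511)) (tt N13166 F215621) (tt N16509 (iv F220695)) (tt N13179 F215622) (tt N17596 (iv F225516)) (tt N16632 (iv F221331)) (tt N16784 (iv F221991)) (tt N16511 (iv F220709)) (tt N17597 D50367) (tt N13164 (iv D48181)))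
theorem Q15413 : ∀ i, i < 15413 → P i := stepQ 15412 Q15412 (allL N15412 (tt N16766 (iv F221929)) (tt N17596 (iv F225513)) (tt N13167 F215623) (tt N15412 F215624) (tt N13166 F215625) (tt N16687 (iv F221600)) (tt N17591 (iv F225502)) (tt N17519 (iv F225263)) (tt N17598 D50368) (tt N13165 (iv D48182)))
theorem Q15414 : ∀ i, i < 15414 → P i := stepQ 15413 Q15413 (allL N15413 (tt N17565 (iv F225423)) (tt N17597 (iv F225517)) (tt N13168 F215626) (tt N17599 D50369) (tt N17598 (iv F225519)) (tt N16635 (iv F221339)) (tt N17592 (iv F225504)) (tt N17520 (iv F225265)) (tt N13166 (iv D48183)) (tt N17580 (iv F225475)))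
theorem Q15415 : ∀ i, i < 15415 → P i := stepQ 15414 Q15414 (allL N15414 (tt N17225 (iv F223999)) (tt N13203 F215627) (tt N17598 (iv F225518)) (tt N17231 (iv F224024)) (tt N13168 F215628) (tt N16688 (iv F221602)) (tt N17594 (iv F225510)) (tt N17521 (iv F225268)) (tt N13167 (iv D48184)) (tt N17581 (iv F225478)))
theorem Q15416 : ∀ i, i < 15416 → P i := stepQ 15415 Q15415 (allL N15415 (tt N17223 (iv F223986)) (tt N13196 F215629) (tt N15415 F215630) (tt N17593 (iv F225506)) (tt N13339 F215631) (tt N13171 F215632) (tt N16681 (iv F221573)) (tt N17554 (iv F225379)) (tt N17232 (iv F224032)) (tt N13170 (iv D48185)))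
theorem Q15417 : ∀ i, i < 15417 → P i := stepQ 15416 Q15416 (allL N15416 (tt N16922 (iv F222619)) (tt N16818 (iv F222104)) (tt N13174 F215633) (tt N17600 D50370) (tt N13173 (iv D48186)) (tt N15416 F215634) (tt N16651 (iv F221415)) (tt N16823 (iv F222131)) (tt N15416 F215635) (tt N17601 D50371))
theorem Q15418 : ∀ i, i < 15418 → P i := stepQ 15417 Q15417 (allL N15417 (tt N17567 (iv F225428)) (tt N16819 (iv F222109)) (tt N13175 F215636) (tt N17585 (iv F225486)) (tt N17601 (iv F225525)) (tt N13176 F215637) (tt N16652 (iv F221420)) (tt N16824 (iv F222137)) (tt N17602 D50372) (tt N13173 (iv D48187)))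
theorem Q15419 : ∀ i, i < 15419 → P i := stepQ 15418 Q15418 (allL N15418 (tt N17157 (iv F223629)) (tt N13181 F215638) (tt N17601 (iv F225524)) (tt N13348 F215639) (tt N13175 F215640) (tt N15418 F215641) (tt N16653 (iv F221426)) (tt N16839 (iv F222207)) (tt N17603 D50373) (tt N13174 (iv D48188)))
theorem Q15420 : ∀ i, i < 15420 → P i := stepQ 15419 Q15419 (allL N15419 (tt N17568 (iv F225431)) (tt N13182 F215642) (tt N17602 (iv F225527)) (tt N13264 F215643) (tt N17603 (iv F225531)) (tt N13177 F215644) (tt N16654 (iv F221430)) (tt N16840 (iv F222212)) (tt N13175 (iv D48189)) (tt N15419 F215645))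
theorem Q15421 : ∀ i, i < 15421 → P i := stepQ 15420 Q15420 (allL N15420 (tt N17570 (iv F225440)) (tt N16829 (iv F222154)) (tt N13177 F215646) (tt N17604 D50374) (tt N15420 F215647) (tt N17602 (iv F225528)) (tt N13180 F215648) (tt N16831 (iv F222169)) (tt N13176 (iv D48190)) (tt N15420 F215649))
theorem Q15422 : ∀ i, i < 15422 → P i := stepQ 15421 Q15421 (allL N15421 (tt N13179 F215650) (tt N17571 (iv F225446)) (tt N13183 F215651) (tt N17595 (iv F225512)) (tt N15421 F215652) (tt N16658 (iv F221447)) (tt N16740 (iv F221823)) (tt N16489 (iv F220600)) (tt N17605 D50375) (tt N13178 (iv D48191)))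
theorem Q15423 : ∀ i, i < 15423 → P i := stepQ 15422 Q15422 (allL N15422 (tt N17605 (iv F225537)) (tt N13180 F215653) (tt N13184 F215654) (tt N17606 D50376) (tt N15422 F215655) (tt N16659 (iv F221453)) (tt N16829 (iv F222157)) (tt N16528 (iv F220786)) (tt N13179 (iv D48192)) (tt N15422 F215656))
theorem Q15424 : ∀ i, i < 15424 → P i := stepQ 15423 Q15423 (allL N15423 (tt N17573 (iv F225457)) (tt N17606 (iv F225543)) (tt N13273 F215657) (tt N13180 (iv D48193)) (tt N17607 D50377) (tt N16660 (iv F221456)) (tt N17604 (iv F225535)) (tt N17522 (iv F225270)) (tt N17599 (iv F225521)) (tt N15423 F215658))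
theorem Q15425 : ∀ i, i < 15425 → P i := stepQ 15424 Q15424 (allL N15424 (tt N15424 F215659) (tt N17603 (iv F225530)) (tt N16836 (iv F222184)) (tt N17505 (iv F225198)) (tt N13182 F215660) (tt N15424 F215661) (tt N16668 (iv F221505)) (tt N16841 (iv F222220)) (tt N13181 (iv D48194)) (tt N15424 F215662))
theorem Q15426 : ∀ i, i < 15426 → P i := stepQ 15425 Q15425 (allL N15425 (tt N13184 F215663) (tt N15425 F215664) (tt N17605 (iv F225539)) (tt N16542 (iv F220882)) (tt N15425 F215665) (tt N16672 (iv F221525)) (tt N16741 (iv F221828)) (tt N16490 (iv F220605)) (tt N13183 (iv D48195)) (tt N15425 F215666))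
theorem Q15427 : ∀ i, i < 15427 → P i := stepQ 15426 Q15426 (allL N15426 (tt N16542 (iv F220879)) (tt N13185 F215667) (tt N16594 (iv F221184)) (tt N13184 (iv D48196)) (tt N16535 (iv F220833)) (tt N16673 (iv F221528)) (tt N16655 (iv F221434)) (tt N16454 (iv F220424)) (tt N16453 F220419) (tt N15426 F215668))
theorem Q15428 : ∀ i, i < 15428 → P i := stepQ 15427 Q15427 (allL N15427 (tt N15427 F215669) (tt N16535 (iv F220830)) (tt N13295 F215670) (tt N15427 F215671) (tt N13185 (iv D48197)) (tt N16533 (iv F220817)) (tt N16555 (iv F220974)) (tt N16402 (iv F220104)) (tt N16401 F220097) (tt N15427 F215672))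
theorem Q15429 : ∀ i, i < 15429 → P i := stepQ 15428 Q15428 (allL N15428 (tt N13217 F215673) (tt N17557 (iv F225391)) (tt N17608 D50378) (tt N13188 (iv D48198)) (tt N17609 D50379) (tt N13189 F215674) (tt N16692 (iv F221623)) (tt N17228 (iv F224011)) (tt N13195 F215675) (tt N17610 D50380))
theorem Q15430 : ∀ i, i < 15430 → P i := stepQ 15429 Q15429 (allL N15429 (tt N13218 F215676) (tt N17558 (iv F225396)) (tt N15429 F215677) (tt N17610 (iv F225555)) (tt N17374 (iv F224670)) (tt N13190 F215678) (tt N16693 (iv F221628)) (tt N17232 (iv F224031)) (tt N17554 (iv F225380)) (tt N13188 (iv D48199)))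
theorem Q15431 : ∀ i, i < 15431 → P i := stepQ 15430 Q15430 (allL N15430 (tt N13219 F215679) (tt N16758 (iv F221900)) (tt N13189 (iv D48200)) (tt N15430 F215680) (tt N16122 F218563) (tt N17608 (iv F225550)) (tt N13191 F215681) (tt N16124 (iv F218576)) (tt N13199 F215682) (tt N17611 D50381))
theorem Q15432 : ∀ i, i < 15432 → P i := stepQ 15431 Q15431 (allL N15431 (tt N13220 F215683) (tt N17562 (iv F225411)) (tt N17611 (iv F225558)) (tt N13190 F215684) (tt N17214 (iv F223948)) (tt N17610 (iv F225556)) (tt N13192 F215685) (tt N17229 (iv F224018)) (tt N17612 D50382) (tt N13189 (iv D48201)))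
theorem Q15433 : ∀ i, i < 15433 → P i := stepQ 15432 Q15432 (allL N15432 (tt N16686 (iv F221592)) (tt N13191 (iv D48202)) (tt N16719 (iv F221723)) (tt N15432 F215686) (tt N16496 F220641) (tt N16699 (iv F221650)) (tt N16758 (iv F221902)) (tt N16499 (iv F220657)) (tt N13201 F215687) (tt N17613 D50383))
theorem Q15434 : ∀ i, i < 15434 → P i := stepQ 15433 Q15433 (allL N15433 (tt N13223 F215688) (tt N17613 (iv F225564)) (tt N13192 F215689) (tt N15433 F215690) (tt N17215 (iv F223954)) (tt N16701 (iv F221661)) (tt N17611 (iv F225560)) (tt N17523 (iv F225275)) (tt N17614 D50384) (tt N13191 (iv D48203)))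
theorem Q15435 : ∀ i, i < 15435 → P i := stepQ 15434 Q15434 (allL N15434 (tt N13226 F215691) (tt N17581 (iv F225476)) (tt N17614 (iv F225567)) (tt N17556 (iv F225388)) (tt N17216 (iv F223959)) (tt N16703 (iv F221666)) (tt N17612 (iv F225562)) (tt N17524 (iv F225277)) (tt N13192 (iv D48204)) (tt N13203 F215692))
theorem Q15436 : ∀ i, i < 15436 → P i := stepQ 15435 Q15435 (allL N15435 (tt N13227 F215693) (tt N16571 (iv F221072)) (tt N13204 F215694) (tt N17615 D50385) (tt N13387 F215695) (tt N16561 (iv F221015)) (tt N13194 F215696) (tt N16704 (iv F221672)) (tt N13193 (iv D48205)) (tt N17616 D50386))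
theorem Q15437 : ∀ i, i < 15437 → P i := stepQ 15436 Q15436 (allL N15436 (tt N13228 F215697) (tt N17553 (iv F225370)) (tt N16136 (iv F218641)) (tt N13194 (iv D48206)) (tt N17617 D50387) (tt N13197 F215698) (tt N17615 (iv F225570)) (tt N13195 F215699) (tt N17228 (iv F224012)) (tt N17618 D50388))
theorem Q15438 : ∀ i, i < 15438 → P i := stepQ 15437 Q15437 (allL N15437 (tt N13229 F215700) (tt N17554 (iv F225375)) (tt N13206 F215701) (tt N17618 (iv F225579)) (tt N13389 F215702) (tt N13198 F215703) (tt N17616 (iv F225574)) (tt N13196 F215704) (tt N17558 (iv F225401)) (tt N13194 (iv D48207)))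
theorem Q15439 : ∀ i, i < 15439 → P i := stepQ 15438 Q15438 (allL N15438 (tt N13230 F215705) (tt N16785 (iv F221993)) (tt N13195 (iv D48208)) (tt N13207 F215706) (tt N17619 D50389) (tt N13199 F215707) (tt N16707 (iv F221684)) (tt N16136 (iv F218643)) (tt N17608 (iv F225551)) (tt N17620 D50390))
theorem Q15440 : ∀ i, i < 15440 → P i := stepQ 15439 Q15439 (allL N15439 (tt N13231 F215708) (tt N17586 (iv F225488)) (tt N17619 (iv F225583)) (tt N13391 F215709) (tt N13195 (iv D48209)) (tt N17217 (iv F223964)) (tt N16708 (iv F221687)) (tt N17617 (iv F225577)) (tt N17609 (iv F225553)) (tt N17621 D50391))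
theorem Q15441 : ∀ i, i < 15441 → P i := stepQ 15440 Q15440 (allL N15440 (tt N13232 F215710) (tt N17593 (iv F225505)) (tt N17620 (iv F225585)) (tt N13196 F215711) (tt N17621 (iv F225590)) (tt N13200 F215712) (tt N16709 (iv F221691)) (tt N17618 (iv F225581)) (tt N17622 D50392) (tt N13195 (iv D48210)))
theorem Q15442 : ∀ i, i < 15442 → P i := stepQ 15441 Q15441 (allL N15441 (tt N13234 F215713) (tt N17555 (iv F225382)) (tt N16137 (iv F218646)) (tt N13198 F215714) (tt N16135 (iv F218636)) (tt N17618 (iv F225580)) (tt N16141 (iv F218673)) (tt N13200 F215715) (tt N17623 D50393) (tt N13197 (iv D48211)))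
theorem Q15443 : ∀ i, i < 15443 → P i := stepQ 15442 Q15442 (allL N15442 (tt N13237 F215716) (tt N16786 (iv F221996)) (tt N13200 F215717) (tt N13211 F215718) (tt N16134 (iv F218629)) (tt N17620 (iv F225587)) (tt N13202 F215719) (tt N16137 (iv F218650)) (tt N17624 D50394) (tt N13199 (iv D48212)))
theorem Q15444 : ∀ i, i < 15444 → P i := stepQ 15443 Q15443 (allL N15443 (tt N13240 F215720) (tt N17594 (iv F225508)) (tt N17624 (iv F225596)) (tt N17564 (iv F225421)) (tt N17219 (iv F223972)) (tt N17622 (iv F225592)) (tt N13203 F215721) (tt N17623 (iv F225594)) (tt N13200 (iv D48213)) (tt N17612 (iv F225563)))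
theorem Q15445 : ∀ i, i < 15445 → P i := stepQ 15444 Q15444 (allL N15444 (tt N13201 (iv D48214)) (tt N13241 F215722) (tt N16699 (iv F221648)) (tt N13213 F215723) (tt N16474 (iv F220524)) (tt N16719 (iv F221725)) (tt N16711 (iv F221699)) (tt N16477 (iv F220541)) (tt N16686 (iv F221596)) (tt N17625 D50395))
theorem Q15446 : ∀ i, i < 15446 → P i := stepQ 15445 Q15445 (allL N15445 (tt N17625 (iv F225598)) (tt N13202 F215724) (tt N17596 (iv F225514)) (tt N13214 F215725) (tt N16509 (iv F220697)) (tt N16721 (iv F221734)) (tt N16786 (iv F221999)) (tt N16512 (iv F220714)) (tt N17626 D50396) (tt N13201 (iv D48215)))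
theorem Q15447 : ∀ i, i < 15447 → P i := stepQ 15446 Q15446 (allL N15446 (tt N13246 F215726) (tt N17626 (iv F225601)) (tt N13203 F215727) (tt N17627 D50397) (tt N17220 (iv F223976)) (tt N16723 (iv F221741)) (tt N17624 (iv F225597)) (tt N17527 (iv F225286)) (tt N13202 (iv D48216)) (tt N17614 (iv F225568)))
theorem Q15448 : ∀ i, i < 15448 → P i := stepQ 15447 Q15447 (allL N15447 (tt N13255 F215728) (tt N15447 F215729) (tt N16146 (iv F218691)) (tt N13204 (iv D48217)) (tt N15996 (iv F217711)) (tt N15983 (iv F217614)) (tt N13205 F215730) (tt N16663 (iv F221476)) (tt N15447 F215731) (tt N17628 D50398))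
theorem Q15449 : ∀ i, i < 15449 → P i := stepQ 15448 Q15448 (allL N15448 (tt N13256 F215732) (tt N15448 F215733) (tt N17616 (iv F225572)) (tt N17628 (iv F225606)) (tt N13402 F215734) (tt N17283 (iv F224249)) (tt N13206 F215735) (tt N16731 (iv F221778)) (tt N17281 (iv F224240)) (tt N13204 (iv D48218)))
theorem Q15450 : ∀ i, i < 15450 → P i := stepQ 15449 Q15449 (allL N15449 (tt N13259 F215736) (tt N15449 F215737) (tt N16147 (iv F218697)) (tt N13206 F215738) (tt N15997 (iv F217718)) (tt N13210 F215739) (tt N17628 (iv F225607)) (tt N13209 F215740) (tt N17629 D50399) (tt N13205 (iv D48219)))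
theorem Q15451 : ∀ i, i < 15451 → P i := stepQ 15450 Q15450 (allL N15450 (tt N13262 F215741) (tt N16808 (iv F222065)) (tt N13209 F215742) (tt N17620 (iv F225586)) (tt N16348 (iv F219807)) (tt N13211 F215743) (tt N16736 (iv F221802)) (tt N16147 (iv F218700)) (tt N17630 D50400) (tt N13207 (iv D48220)))
theorem Q15452 : ∀ i, i < 15452 → P i := stepQ 15451 Q15451 (allL N15451 (tt N13263 F215744) (tt N15451 F215745) (tt N16348 (iv F219806)) (tt N13409 F215746) (tt N13209 F215747) (tt N13604 F215748) (tt N16737 (iv F221808)) (tt N15997 (iv F217720)) (tt N17631 D50401) (tt N13208 (iv D48221)))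
theorem Q15453 : ∀ i, i < 15453 → P i := stepQ 15452 Q15452 (allL N15452 (tt N13264 F215749) (tt N15452 F215750) (tt N17630 (iv F225614)) (tt N17568 (iv F225433)) (tt N17631 (iv F225619)) (tt N13212 F215751) (tt N16738 (iv F221812)) (tt N17629 (iv F225611)) (tt N13209 (iv D48222)) (tt N15452 F215752))
theorem Q15454 : ∀ i, i < 15454 → P i := stepQ 15453 Q15453 (allL N15453 (tt N13267 F215753) (tt N15453 F215754) (tt N16148 (iv F218703)) (tt N16843 (iv F222230)) (tt N13606 F215755) (tt N17629 (iv F225610)) (tt N15985 (iv F217631)) (tt N13212 F215756) (tt N13210 (iv D48223)) (tt N15453 F215757))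
theorem Q15455 : ∀ i, i < 15455 → P i := stepQ 15454 Q15454 (allL N15454 (tt N13270 F215758) (tt N16809 (iv F222070)) (tt N13212 F215759) (tt N17632 D50402) (tt N13607 F215760) (tt N17630 (iv F225615)) (tt N13215 F215761) (tt N16148 (iv F218706)) (tt N13211 (iv D48224)) (tt N15454 F215762))
theorem Q15456 : ∀ i, i < 15456 → P i := stepQ 15455 Q15455 (allL N15455 (tt N13214 F215763) (tt N13271 F215764) (tt N15455 F215765) (tt N17625 (iv F225600)) (tt N13608 F215766) (tt N16745 (iv F221850)) (tt N16726 (iv F221754)) (tt N16485 (iv F220576)) (tt N17633 D50403) (tt N13213 (iv D48225)))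
theorem Q15457 : ∀ i, i < 15457 → P i := stepQ 15456 Q15456 (allL N15456 (tt N17633 (iv F225625)) (tt N13215 F215767) (tt N15456 F215768) (tt N17634 D50404) (tt N13609 F215769) (tt N16746 (iv F221854)) (tt N16809 (iv F222073)) (tt N16523 (iv F220759)) (tt N13214 (iv D48226)) (tt N15456 F215770))
theorem Q15458 : ∀ i, i < 15458 → P i := stepQ 15457 Q15457 (allL N15457 (tt N13273 F215771) (tt N17634 (iv F225630)) (tt N17573 (iv F225458)) (tt N13215 (iv D48227)) (tt N17635 D50405) (tt N16747 (iv F221857)) (tt N17632 (iv F225623)) (tt N17529 (iv F225294)) (tt N17627 (iv F225603)) (tt N15457 F215772))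
theorem Q15459 : ∀ i, i < 15459 → P i := stepQ 15458 Q15458 (allL N15458 (tt N17608 (iv F225548)) (tt N17636 D50406) (tt N13217 (iv D48228)) (tt N15458 F215773) (tt N17637 D50407) (tt N13219 F215774) (tt N16754 (iv F221888)) (tt N17257 (iv F224145)) (tt N13230 F215775) (tt N17638 D50408))
theorem Q15460 : ∀ i, i < 15460 → P i := stepQ 15459 Q15459 (allL N15459 (tt N17609 (iv F225552)) (tt N17235 (iv F224049)) (tt N17637 (iv F225638)) (tt N17436 (iv F224953)) (tt N13217 (iv D48229)) (tt N17244 (iv F224092)) (tt N16755 (iv F221890)) (tt N17249 (iv F224110)) (tt N13231 F215776) (tt N17639 D50409))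
theorem Q15461 : ∀ i, i < 15461 → P i := stepQ 15460 Q15460 (allL N15460 (tt N17610 (iv F225554)) (tt N17236 (iv F224054)) (tt N17638 (iv F225640)) (tt N13218 F215777) (tt N17639 (iv F225643)) (tt N13220 F215778) (tt N16756 (iv F221894)) (tt N17261 (iv F224161)) (tt N17640 D50410) (tt N13217 (iv D48230)))
theorem Q15462 : ∀ i, i < 15462 → P i := stepQ 15461 Q15461 (allL N15461 (tt N16684 (iv F221585)) (tt N13219 (iv D48231)) (tt N16100 F218416) (tt N15461 F215779) (tt N17252 (iv F224119)) (tt N17636 (iv F225636)) (tt N13221 F215780) (tt N17255 (iv F224137)) (tt N13235 F215781) (tt N17641 D50411))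
theorem Q15463 : ∀ i, i < 15463 → P i := stepQ 15462 Q15462 (allL N15462 (tt N17611 (iv F225557)) (tt N17641 (iv F225646)) (tt N13220 F215782) (tt N15462 F215783) (tt N17253 (iv F224125)) (tt N17638 (iv F225642)) (tt N13223 F215784) (tt N17258 (iv F224151)) (tt N17642 D50412) (tt N13219 (iv D48232)))
theorem Q15464 : ∀ i, i < 15464 → P i := stepQ 15463 Q15463 (allL N15463 (tt N17612 (iv F225561)) (tt N17237 (iv F224058)) (tt N17642 (iv F225649)) (tt N17578 (iv F225469)) (tt N17254 (iv F224129)) (tt N17640 (iv F225644)) (tt N13226 F215785) (tt N17262 (iv F224165)) (tt N13220 (iv D48233)) (tt N13240 F215786))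
theorem Q15465 : ∀ i, i < 15465 → P i := stepQ 15464 Q15464 (allL N15464 (tt N16633 (iv F221332)) (tt N13222 F215787) (tt N16102 (iv F218426)) (tt N16437 (iv F220324)) (tt N13221 (iv D48234)) (tt N16440 (iv F220346)) (tt N17252 (iv F224120)) (tt N16438 (iv F220333)) (tt N13242 F215788) (tt N17643 D50413))
theorem Q15466 : ∀ i, i < 15466 → P i := stepQ 15465 Q15465 (allL N15465 (tt N16687 (iv F221597)) (tt N13223 F215789) (tt N16103 (iv F218434)) (tt N15465 F215790) (tt N17643 (iv F225653)) (tt N16766 (iv F221934)) (tt N17641 (iv F225648)) (tt N17530 (iv F225298)) (tt N17644 D50414) (tt N13221 (iv D48235)))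
theorem Q15467 : ∀ i, i < 15467 → P i := stepQ 15466 Q15466 (allL N15466 (tt N16062 (iv F218174)) (tt N16440 (iv F220343)) (tt N13224 F215791) (tt N16023 (iv F217894)) (tt N16587 (iv F221152)) (tt N13222 (iv D48236)) (tt N16069 (iv F218221)) (tt N16024 (iv F217905)) (tt N13244 F215792) (tt N17221 (iv F223980)))
theorem Q15468 : ∀ i, i < 15468 → P i := stepQ 15467 Q15467 (allL N15467 (tt N17215 (iv F223951)) (tt N17643 (iv F225652)) (tt N13225 F215793) (tt N16092 F218357) (tt N13223 F215794) (tt N17221 (iv F223979)) (tt N17253 (iv F224126)) (tt N17203 (iv F223894)) (tt N17645 D50415) (tt N13222 (iv D48237)))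
theorem Q15469 : ∀ i, i < 15469 → P i := stepQ 15468 Q15468 (allL N15468 (tt N17614 (iv F225566)) (tt N17644 (iv F225654)) (tt N13226 F215795) (tt N17646 D50416) (tt N17645 (iv F225657)) (tt N16768 (iv F221940)) (tt N17642 (iv F225650)) (tt N17531 (iv F225300)) (tt N13223 (iv D48238)) (tt N13246 F215796))
theorem Q15470 : ∀ i, i < 15470 → P i := stepQ 15469 Q15469 (allL N15469 (tt N16060 (iv F218161)) (tt N17238 (iv F224063)) (tt N16069 (iv F218220)) (tt N13766 F215797) (tt N16769 (iv F221943)) (tt N17241 (iv F224077)) (tt N13224 (iv D48239)) (tt N16071 (iv F218234)) (tt N13247 F215798) (tt N17280 (iv F224233)))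
theorem Q15471 : ∀ i, i < 15471 → P i := stepQ 15470 Q15470 (allL N15470 (tt N17216 (iv F223956)) (tt N17240 (iv F224071)) (tt N17645 (iv F225656)) (tt N16142 (iv F218677)) (tt N13226 F215799) (tt N17268 (iv F224180)) (tt N17254 (iv F224130)) (tt N17204 (iv F223898)) (tt N13225 (iv D48240)) (tt N13249 F215800))
theorem Q15472 : ∀ i, i < 15472 → P i := stepQ 15471 Q15471 (allL N15471 (tt N17615 (iv F225569)) (tt N17241 (iv F224076)) (tt N17647 D50417) (tt N13227 (iv D48241)) (tt N17648 D50418) (tt N17238 (iv F224065)) (tt N13228 F215801) (tt N16772 (iv F221951)) (tt N17260 (iv F224157)) (tt N17649 D50419))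
theorem Q15473 : ∀ i, i < 15473 → P i := stepQ 15472 Q15472 (allL N15472 (tt N17616 (iv F225571)) (tt N17242 (iv F224080)) (tt N13256 F215802) (tt N17649 (iv F225665)) (tt N13444 F215803) (tt N17279 (iv F224229)) (tt N13229 F215804) (tt N16773 (iv F221955)) (tt N17275 (iv F224209)) (tt N13227 (iv D48242)))
theorem Q15474 : ∀ i, i < 15474 → P i := stepQ 15473 Q15473 (allL N15473 (tt N16136 (iv F218639)) (tt N17650 D50420) (tt N13228 (iv D48243)) (tt N13257 F215805) (tt N17651 D50421) (tt N13233 F215806) (tt N17647 (iv F225662)) (tt N13230 F215807) (tt N17257 (iv F224146)) (tt N17652 D50422))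
theorem Q15475 : ∀ i, i < 15475 → P i := stepQ 15474 Q15474 (allL N15474 (tt N17617 (iv F225575)) (tt N17244 (iv F224090)) (tt N17651 (iv F225670)) (tt N13446 F215808) (tt N13228 (iv D48244)) (tt N17235 (iv F224051)) (tt N17648 (iv F225664)) (tt N13231 F215809) (tt N17249 (iv F224111)) (tt N17653 D50423))
theorem Q15476 : ∀ i, i < 15476 → P i := stepQ 15475 Q15475 (allL N15475 (tt N17618 (iv F225578)) (tt N17245 (iv F224095)) (tt N17652 (iv F225672)) (tt N13229 F215810) (tt N17653 (iv F225677)) (tt N13234 F215811) (tt N17649 (iv F225666)) (tt N13232 F215812) (tt N17654 D50424) (tt N13228 (iv D48245)))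
theorem Q15477 : ∀ i, i < 15477 → P i := stepQ 15476 Q15476 (allL N15476 (tt N17655 D50425) (tt N13230 (iv D48246)) (tt N17246 (iv F224099)) (tt N13260 F215813) (tt N17656 D50426) (tt N13235 F215814) (tt N16777 (iv F221968)) (tt N17650 (iv F225669)) (tt N17636 (iv F225637)) (tt N17657 D50427))
theorem Q15478 : ∀ i, i < 15478 → P i := stepQ 15477 Q15477 (allL N15477 (tt N17619 (iv F225582)) (tt N17656 (iv F225683)) (tt N13231 F215815) (tt N17658 D50428) (tt N13230 (iv D48247)) (tt N17659 D50429) (tt N16778 (iv F221971)) (tt N17651 (iv F225671)) (tt N17637 (iv F225639)) (tt N17660 D50430))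
theorem Q15479 : ∀ i, i < 15479 → P i := stepQ 15478 Q15478 (allL N15478 (tt N17620 (iv F225584)) (tt N17657 (iv F225684)) (tt N13232 F215816) (tt N13262 F215817) (tt N17660 (iv F225692)) (tt N13237 F215818) (tt N16779 (iv F221975)) (tt N17652 (iv F225675)) (tt N17661 D50431) (tt N13230 (iv D48248)))
theorem Q15480 : ∀ i, i < 15480 → P i := stepQ 15479 Q15479 (allL N15479 (tt N17217 (iv F223961)) (tt N17249 (iv F224107)) (tt N17659 (iv F225689)) (tt N13451 F215819) (tt N13238 F215820) (tt N13231 (iv D48249)) (tt N17662 D50432) (tt N17235 (iv F224052)) (tt N17244 (iv F224094)) (tt N17663 D50433))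
theorem Q15481 : ∀ i, i < 15481 → P i := stepQ 15480 Q15480 (allL N15480 (tt N17621 (iv F225588)) (tt N17250 (iv F224112)) (tt N17660 (iv F225691)) (tt N13452 F215821) (tt N13232 F215822) (tt N17663 (iv F225699)) (tt N16781 (iv F221980)) (tt N17653 (iv F225678)) (tt N17664 D50434) (tt N13231 (iv D48250)))
theorem Q15482 : ∀ i, i < 15482 → P i := stepQ 15481 Q15481 (allL N15481 (tt N17622 (iv F225591)) (tt N17251 (iv F224115)) (tt N17661 (iv F225693)) (tt N17588 (iv F225493)) (tt N17664 (iv F225700)) (tt N13240 F215823) (tt N16782 (iv F221982)) (tt N17654 (iv F225680)) (tt N13232 (iv D48251)) (tt N17640 (iv F225645)))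
theorem Q15483 : ∀ i, i < 15483 → P i := stepQ 15482 Q15482 (allL N15482 (tt N16636 (iv F221340)) (tt N13233 (iv D48252)) (tt N17252 (iv F224117)) (tt N13265 F215824) (tt N16100 (iv F218412)) (tt N17650 (iv F225668)) (tt N16102 (iv F218429)) (tt N13235 F215825) (tt N17255 (iv F224138)) (tt N17665 D50435))
theorem Q15484 : ∀ i, i < 15484 → P i := stepQ 15483 Q15483 (allL N15483 (tt N16137 (iv F218644)) (tt N17665 (iv F225701)) (tt N13234 F215826) (tt N13266 F215827) (tt N16109 (iv F218476)) (tt N17652 (iv F225674)) (tt N16111 (iv F218490)) (tt N13237 F215828) (tt N17666 D50436) (tt N13233 (iv D48253)))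
theorem Q15485 : ∀ i, i < 15485 → P i := stepQ 15484 Q15484 (allL N15484 (tt N17623 (iv F225593)) (tt N17254 (iv F224128)) (tt N17666 (iv F225704)) (tt N17589 (iv F225495)) (tt N17237 (iv F224059)) (tt N17654 (iv F225679)) (tt N17240 (iv F224073)) (tt N13240 F215829) (tt N13234 (iv D48254)) (tt N17262 (iv F224166)))
theorem Q15486 : ∀ i, i < 15486 → P i := stepQ 15485 Q15485 (allL N15485 (tt N13235 (iv D48255)) (tt N16711 (iv F221697)) (tt N16676 (iv F221547)) (tt N13268 F215830) (tt N16682 (iv F221576)) (tt N17655 (iv F225682)) (tt N13241 F215831) (tt N16636 (iv F221344)) (tt N16684 (iv F221588)) (tt N17667 D50437))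
theorem Q15487 : ∀ i, i < 15487 → P i := stepQ 15486 Q15486 (allL N15486 (tt N16682 (iv F221574)) (tt N13236 F215832) (tt N17255 (iv F224134)) (tt N13617 F215833) (tt N13235 (iv D48256)) (tt N17668 D50438) (tt N13242 F215834) (tt N16100 (iv F218414)) (tt N17252 (iv F224122)) (tt N17669 D50439))
theorem Q15488 : ∀ i, i < 15488 → P i := stepQ 15487 Q15487 (allL N15487 (tt N17667 (iv F225706)) (tt N13237 F215835) (tt N17256 (iv F224140)) (tt N13269 F215836) (tt N17669 (iv F225713)) (tt N17657 (iv F225686)) (tt N13243 F215837) (tt N17665 (iv F225703)) (tt N17670 D50440) (tt N13235 (iv D48257)))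
theorem Q15489 : ∀ i, i < 15489 → P i := stepQ 15488 Q15488 (allL N15488 (tt N16129 (iv F218600)) (tt N17668 (iv F225709)) (tt N13238 F215838) (tt N13619 F215839) (tt N17659 (iv F225690)) (tt N13236 (iv D48258)) (tt N17671 D50441) (tt N16107 (iv F218464)) (tt N17243 (iv F224089)) (tt N17672 D50442))
theorem Q15490 : ∀ i, i < 15490 → P i := stepQ 15489 Q15489 (allL N15489 (tt N16134 (iv F218625)) (tt N17669 (iv F225711)) (tt N13239 F215840) (tt N13620 F215841) (tt N13237 F215842) (tt N17672 (iv F225722)) (tt N13245 F215843) (tt N16109 (iv F218478)) (tt N17673 D50443) (tt N13236 (iv D48259)))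
theorem Q15491 : ∀ i, i < 15491 → P i := stepQ 15490 Q15490 (allL N15490 (tt N17624 (iv F225595)) (tt N17670 (iv F225715)) (tt N13240 F215844) (tt N17674 D50444) (tt N17673 (iv F225724)) (tt N17661 (iv F225694)) (tt N13246 F215845) (tt N17666 (iv F225705)) (tt N13237 (iv D48260)) (tt N17642 (iv F225651)))
theorem Q15492 : ∀ i, i < 15492 → P i := stepQ 15491 Q15491 (allL N15491 (tt N16067 (iv F218207)) (tt N17260 (iv F224154)) (tt N17671 (iv F225717)) (tt N13250 F215846) (tt N17662 (iv F225696)) (tt N13247 F215847) (tt N13238 (iv D48261)) (tt N17675 D50445) (tt N17241 (iv F224079)) (tt N17676 D50446))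
theorem Q15493 : ∀ i, i < 15493 → P i := stepQ 15492 Q15492 (allL N15492 (tt N17218 (iv F223965)) (tt N17261 (iv F224158)) (tt N17672 (iv F225720)) (tt N13251 F215848) (tt N17663 (iv F225698)) (tt N13239 F215849) (tt N17676 (iv F225732)) (tt N17236 (iv F224057)) (tt N17677 D50447) (tt N13238 (iv D48262)))
theorem Q15494 : ∀ i, i < 15494 → P i := stepQ 15493 Q15493 (allL N15493 (tt N17219 (iv F223969)) (tt N17262 (iv F224162)) (tt N17673 (iv F225723)) (tt N17230 (iv F224020)) (tt N13240 F215850) (tt N17677 (iv F225733)) (tt N13249 F215851) (tt N17237 (iv F224061)) (tt N13239 (iv D48263)) (tt N17254 (iv F224132)))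
theorem Q15495 : ∀ i, i < 15495 → P i := stepQ 15494 Q15494 (allL N15494 (tt N13242 F215852) (tt N16474 (iv F220522)) (tt N16615 (iv F221283)) (tt N13624 F215853) (tt N13241 (iv D48264)) (tt N16613 (iv F221275)) (tt N16682 (iv F221577)) (tt N16461 (iv F220464)) (tt N16633 (iv F221335)) (tt N17678 D50448))
theorem Q15496 : ∀ i, i < 15496 → P i := stepQ 15495 Q15495 (allL N15495 (tt N13243 F215854) (tt N17625 (iv F225599)) (tt N16678 (iv F221557)) (tt N13271 F215855) (tt N17678 (iv F225736)) (tt N16797 (iv F222038)) (tt N17667 (iv F225708)) (tt N17537 (iv F225315)) (tt N17679 D50449) (tt N13241 (iv D48265)))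
theorem Q15497 : ∀ i, i < 15497 → P i := stepQ 15496 Q15496 (allL N15496 (tt N16613 (iv F221273)) (tt N13244 F215856) (tt N16576 (iv F221098)) (tt N13626 F215857) (tt N16575 F221095) (tt N13242 (iv D48266)) (tt N16607 (iv F221253)) (tt N16432 (iv F220303)) (tt N16440 (iv F220349)) (tt N17680 D50450))
theorem Q15498 : ∀ i, i < 15498 → P i := stepQ 15497 Q15497 (allL N15497 (tt N17678 (iv F225734)) (tt N13245 F215858) (tt N17263 (iv F224168)) (tt N13627 F215859) (tt N13243 F215860) (tt N17680 (iv F225740)) (tt N17669 (iv F225714)) (tt N17538 (iv F225319)) (tt N17681 D50451) (tt N13242 (iv D48267)))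
theorem Q15499 : ∀ i, i < 15499 → P i := stepQ 15498 Q15498 (allL N15498 (tt N17679 (iv F225737)) (tt N13246 F215861) (tt N17264 (iv F224172)) (tt N17682 D50452) (tt N17681 (iv F225742)) (tt N16799 (iv F222045)) (tt N17670 (iv F225716)) (tt N17539 (iv F225321)) (tt N13243 (iv D48268)) (tt N17644 (iv F225655)))
theorem Q15500 : ∀ i, i < 15500 → P i := stepQ 15499 Q15499 (allL N15499 (tt N16071 (iv F218231)) (tt N16607 (iv F221252)) (tt N13247 F215862) (tt N13629 F215863) (tt N16800 (iv F222048)) (tt N17671 (iv F225719)) (tt N13244 (iv D48269)) (tt N16060 (iv F218165)) (tt N16069 (iv F218223)) (tt N17683 D50453))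
theorem Q15501 : ∀ i, i < 15501 → P i := stepQ 15500 Q15500 (allL N15500 (tt N16076 (iv F218252)) (tt N17680 (iv F225738)) (tt N13248 F215864) (tt N13630 F215865) (tt N16801 (iv F222051)) (tt N13245 F215866) (tt N17683 (iv F225747)) (tt N17540 (iv F225325)) (tt N17684 D50454) (tt N13244 (iv D48270)))
theorem Q15502 : ∀ i, i < 15502 → P i := stepQ 15501 Q15501 (allL N15501 (tt N17220 (iv F223974)) (tt N17681 (iv F225741)) (tt N13249 F215867) (tt N17685 D50455) (tt N13246 F215868) (tt N17684 (iv F225749)) (tt N17673 (iv F225725)) (tt N17541 (iv F225328)) (tt N13245 (iv D48271)) (tt N17645 (iv F225658)))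
theorem Q15503 : ∀ i, i < 15503 → P i := stepQ 15502 Q15502 (allL N15502 (tt N17627 (iv F225602)) (tt N17682 (iv F225743)) (tt N17599 (iv F225520)) (tt N13246 (iv D48272)) (tt N17686 D50456) (tt N16803 (iv F222055)) (tt N17674 (iv F225726)) (tt N17542 (iv F225329)) (tt N13273 F215869) (tt N17646 (iv F225660)))
theorem Q15504 : ∀ i, i < 15504 → P i := stepQ 15503 Q15503 (allL N15503 (tt N16069 (iv F218218)) (tt N17269 (iv F224183)) (tt N16060 (iv F218163)) (tt N13252 F215870) (tt N16804 (iv F222058)) (tt N17675 (iv F225729)) (tt N16062 (iv F218177)) (tt N13247 (iv D48273)) (tt N16071 (iv F218235)) (tt N17687 D50457))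
theorem Q15505 : ∀ i, i < 15505 → P i := stepQ 15504 Q15504 (allL N15504 (tt N16073 (iv F218240)) (tt N17270 (iv F224185)) (tt N17683 (iv F225745)) (tt N13253 F215871) (tt N16805 (iv F222060)) (tt N17676 (iv F225731)) (tt N13248 F215872) (tt N17687 (iv F225754)) (tt N17688 D50458) (tt N13247 (iv D48274)))
theorem Q15506 : ∀ i, i < 15506 → P i := stepQ 15505 Q15505 (allL N15505 (tt N16078 (iv F218261)) (tt N17271 (iv F224188)) (tt N17684 (iv F225748)) (tt N16112 (iv F218494)) (tt N16806 (iv F222062)) (tt N13249 F215873) (tt N17688 (iv F225755)) (tt N17544 (iv F225335)) (tt N13248 (iv D48275)) (tt N17268 (iv F224182)))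
theorem Q15507 : ∀ i, i < 15507 → P i := stepQ 15506 Q15506 (allL N15506 (tt N16066 (iv F218200)) (tt N16751 (iv F221874)) (tt N13637 F215874) (tt N17675 (iv F225728)) (tt N13483 F215875) (tt N13252 F215876) (tt N16119 (iv F218543)) (tt N13250 (iv D48276)) (tt N13768 F215877) (tt N17689 D50459))
theorem Q15508 : ∀ i, i < 15508 → P i := stepQ 15507 Q15507 (allL N15507 (tt N16068 (iv F218211)) (tt N17272 (iv F224190)) (tt N13638 F215878) (tt N17676 (iv F225730)) (tt N13484 F215879) (tt N13253 F215880) (tt N13251 F215881) (tt N17689 (iv F225759)) (tt N16108 (iv F218472)) (tt N13250 (iv D48277)))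
theorem Q15509 : ∀ i, i < 15509 → P i := stepQ 15508 Q15508 (allL N15508 (tt N16070 (iv F218224)) (tt N17273 (iv F224195)) (tt N13623 F215882) (tt N17687 (iv F225752)) (tt N13254 F215883) (tt N17689 (iv F225758)) (tt N13631 F215884) (tt N13253 F215885) (tt N13620 F215886) (tt N13252 (iv D48278)))
theorem Q15510 : ∀ i, i < 15510 → P i := stepQ 15509 Q15509 (allL N15509 (tt N16146 (iv F218689)) (tt N16591 (iv F221166)) (tt N13255 (iv D48279)) (tt N17647 (iv F225661)) (tt N16273 (iv F219441)) (tt N16113 (iv F218501)) (tt N13257 F215887) (tt N16650 (iv F221410)) (tt N15509 F215888) (tt N17690 D50460))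
theorem Q15511 : ∀ i, i < 15511 → P i := stepQ 15510 Q15510 (allL N15510 (tt N17628 (iv F225604)) (tt N13274 F215889) (tt N17690 (iv F225761)) (tt N13256 F215890) (tt N17152 (iv F223602)) (tt N16669 (iv F221509)) (tt N13259 F215891) (tt N16665 (iv F221488)) (tt N17691 D50461) (tt N13255 (iv D48280)))
theorem Q15512 : ∀ i, i < 15512 → P i := stepQ 15511 Q15511 (allL N15511 (tt N16640 (iv F221356)) (tt N13257 (iv D48281)) (tt N13275 F215892) (tt N17650 (iv F225667)) (tt N16241 (iv F219261)) (tt N13265 F215893) (tt N16591 (iv F221169)) (tt N13260 F215894) (tt N15511 F215895) (tt N17692 D50462))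
theorem Q15513 : ∀ i, i < 15513 → P i := stepQ 15512 Q15512 (allL N15512 (tt N16147 (iv F218695)) (tt N17692 (iv F225768)) (tt N13259 F215896) (tt N17652 (iv F225673)) (tt N16274 (iv F219446)) (tt N13266 F215897) (tt N17690 (iv F225762)) (tt N13262 F215898) (tt N17693 D50463) (tt N13257 (iv D48282)))
theorem Q15514 : ∀ i, i < 15514 → P i := stepQ 15513 Q15513 (allL N15513 (tt N15997 (iv F217714)) (tt N13278 F215899) (tt N16274 (iv F219445)) (tt N13491 F215900) (tt N13259 F215901) (tt N13512 F215902) (tt N17152 (iv F223604)) (tt N13263 F215903) (tt N17508 (iv F225214)) (tt N13258 (iv D48283)))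
theorem Q15515 : ∀ i, i < 15515 → P i := stepQ 15514 Q15514 (allL N15514 (tt N17629 (iv F225608)) (tt N13279 F215904) (tt N17693 (iv F225772)) (tt N16840 (iv F222209)) (tt N17508 F225216) (tt N13267 F215905) (tt N17691 (iv F225766)) (tt N13264 F215906) (tt N13259 (iv D48284)) (tt N15514 F215907))
theorem Q15516 : ∀ i, i < 15516 → P i := stepQ 15515 Q15515 (allL N15515 (tt N13260 (iv D48285)) (tt N16725 (iv F221745)) (tt N13280 F215908) (tt N17655 (iv F225681)) (tt N16925 (iv F222635)) (tt N13268 F215909) (tt N16822 (iv F222124)) (tt N16640 F221362) (tt N15515 F215910) (tt N17694 D50464))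
theorem Q15517 : ∀ i, i < 15517 → P i := stepQ 15516 Q15516 (allL N15516 (tt N16925 (iv F222632)) (tt N13261 F215911) (tt N13281 F215912) (tt N17695 D50465) (tt N13260 (iv D48286)) (tt N13640 F215913) (tt N16823 (iv F222130)) (tt N16241 (iv F219263)) (tt N15516 F215914) (tt N17696 D50466))
theorem Q15518 : ∀ i, i < 15518 → P i := stepQ 15517 Q15517 (allL N15517 (tt N17694 (iv F225776)) (tt N13262 F215915) (tt N13282 F215916) (tt N17657 (iv F225685)) (tt N17696 (iv F225783)) (tt N13269 F215917) (tt N16824 (iv F222136)) (tt N17692 (iv F225771)) (tt N17697 D50467) (tt N13260 (iv D48287)))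
theorem Q15519 : ∀ i, i < 15519 → P i := stepQ 15518 Q15518 (allL N15518 (tt N16324 (iv F219691)) (tt N17695 (iv F225779)) (tt N13496 F215918) (tt N13261 (iv D48288)) (tt N17658 (iv F225688)) (tt N13642 F215919) (tt N16825 (iv F222140)) (tt N16266 (iv F219405)) (tt N17698 D50468) (tt N17699 D50469))
theorem Q15520 : ∀ i, i < 15520 → P i := stepQ 15519 Q15519 (allL N15519 (tt N16348 (iv F219804)) (tt N17696 (iv F225781)) (tt N13263 F215920) (tt N17699 (iv F225793)) (tt N13262 F215921) (tt N13643 F215922) (tt N16826 (iv F222144)) (tt N16274 (iv F219448)) (tt N17700 D50470) (tt N13261 (iv D48289)))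
theorem Q15521 : ∀ i, i < 15521 → P i := stepQ 15520 Q15520 (allL N15520 (tt N17630 (iv F225613)) (tt N17697 (iv F225785)) (tt N13264 F215923) (tt N17701 D50471) (tt N17700 (iv F225796)) (tt N13270 F215924) (tt N16827 (iv F222147)) (tt N17693 (iv F225774)) (tt N13262 (iv D48290)) (tt N15520 F215925))
theorem Q15522 : ∀ i, i < 15522 → P i := stepQ 15521 Q15521 (allL N15521 (tt N17631 (iv F225617)) (tt N13286 F215926) (tt N17700 (iv F225795)) (tt N17504 (iv F225192)) (tt N13264 F215927) (tt N13645 F215928) (tt N16828 (iv F222152)) (tt N17508 (iv F225213)) (tt N13263 (iv D48291)) (tt N15521 F215929))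
theorem Q15523 : ∀ i, i < 15523 → P i := stepQ 15522 Q15522 (allL N15522 (tt N16643 (iv F221368)) (tt N13266 F215930) (tt N13288 F215931) (tt N17665 (iv F225702)) (tt N13646 F215932) (tt N17692 (iv F225770)) (tt N16104 (iv F218442)) (tt N13269 F215933) (tt N17702 D50472) (tt N13265 (iv D48292)))
theorem Q15524 : ∀ i, i < 15524 → P i := stepQ 15523 Q15523 (allL N15523 (tt N16148 (iv F218701)) (tt N17702 (iv F225801)) (tt N13267 F215934) (tt N17703 D50473) (tt N13647 F215935) (tt N17693 (iv F225773)) (tt N16115 (iv F218515)) (tt N13270 F215936) (tt N13266 (iv D48293)) (tt N15523 F215937))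
theorem Q15525 : ∀ i, i < 15525 → P i := stepQ 15524 Q15524 (allL N15524 (tt N13269 F215938) (tt N16726 (iv F221751)) (tt N13290 F215939) (tt N17667 (iv F225707)) (tt N13648 F215940) (tt N17694 (iv F225778)) (tt N13271 F215941) (tt N16643 (iv F221373)) (tt N17704 D50474) (tt N13268 (iv D48294)))
theorem Q15526 : ∀ i, i < 15526 → P i := stepQ 15525 Q15525 (allL N15525 (tt N17704 (iv F225808)) (tt N13270 F215942) (tt N13291 F215943) (tt N17705 D50475) (tt N13649 F215944) (tt N17697 (iv F225787)) (tt N13272 F215945) (tt N17702 (iv F225804)) (tt N13269 (iv D48295)) (tt N15525 F215946))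
theorem Q15527 : ∀ i, i < 15527 → P i := stepQ 15526 Q15526 (allL N15526 (tt N17632 (iv F225622)) (tt N17705 (iv F225813)) (tt N17604 (iv F225534)) (tt N13270 (iv D48296)) (tt N17706 D50476) (tt N17701 (iv F225799)) (tt N13273 F215947) (tt N17703 (iv F225806)) (tt N17674 (iv F225727)) (tt N15526 F215948))
theorem Q15528 : ∀ i, i < 15528 → P i := stepQ 15527 Q15527 (allL N15527 (tt N13272 F215949) (tt N17633 (iv F225626)) (tt N13293 F215950) (tt N17707 D50477) (tt N13651 F215951) (tt N16833 (iv F222176)) (tt N17704 (iv F225811)) (tt N17549 (iv F225356)) (tt N13271 (iv D48297)) (tt N15527 F215952))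
theorem Q15529 : ∀ i, i < 15529 → P i := stepQ 15528 Q15528 (allL N15528 (tt N17707 (iv F225819)) (tt N13273 F215953) (tt N17708 D50478) (tt N13272 (iv D48298)) (tt N17709 D50479) (tt N16834 (iv F222179)) (tt N17705 (iv F225814)) (tt N17550 (iv F225359)) (tt N17682 (iv F225744)) (tt N15528 F215954))
theorem Q15530 : ∀ i, i < 15530 → P i := stepQ 15529 Q15529 (allL N15529 (tt N17635 (iv F225632)) (tt N17709 (iv F225823)) (tt N17607 (iv F225545)) (tt N13653 F215955) (tt N13273 (iv D48299)) (tt N17710 D50480) (tt N17706 (iv F225817)) (tt N17551 (iv F225362)) (tt N17686 (iv F225751)) (tt N15529 F215956))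
theorem Q15531 : ∀ i, i < 15531 → P i := stepQ 15530 Q15530 (allL N15530 (tt N15530 F215957) (tt N17691 (iv F225763)) (tt N16662 (iv F221466)) (tt N13285 F215958) (tt N16386 (iv F219997)) (tt N13292 F215959) (tt N13279 F215960) (tt N16667 (iv F221501)) (tt N13274 (iv D48300)) (tt N15530 F215961))
theorem Q15532 : ∀ i, i < 15532 → P i := stepQ 15531 Q15531 (allL N15531 (tt N13275 (iv D48301)) (tt N15531 F215962) (tt N16640 (iv F221358)) (tt N16595 F221193) (tt N16847 (iv F222258)) (tt N13287 F215963) (tt N16538 (iv F220856)) (tt N13280 F215964) (tt N15531 F215965) (tt N17711 D50481))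
theorem Q15533 : ∀ i, i < 15533 → P i := stepQ 15532 Q15532 (allL N15532 (tt N16847 (iv F222254)) (tt N13276 F215966) (tt N16241 (iv F219260)) (tt N13524 F215967) (tt N13275 (iv D48302)) (tt N13528 F215968) (tt N16648 (iv F221399)) (tt N13281 F215969) (tt N15532 F215970) (tt N17712 D50482))
theorem Q15534 : ∀ i, i < 15534 → P i := stepQ 15533 Q15533 (allL N15533 (tt N17711 (iv F225828)) (tt N13277 F215971) (tt N17692 (iv F225769)) (tt N16647 (iv F221388)) (tt N17712 (iv F225834)) (tt N13288 F215972) (tt N16649 (iv F221405)) (tt N13282 F215973) (tt N17713 D50483) (tt N13275 (iv D48303)))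
theorem Q15535 : ∀ i, i < 15535 → P i := stepQ 15534 Q15534 (allL N15534 (tt N15534 F215974) (tt N17712 (iv F225832)) (tt N13278 F215975) (tt N13363 F215976) (tt N13277 F215977) (tt N13370 F215978) (tt N16661 (iv F221463)) (tt N13284 F215979) (tt N17328 (iv F224476)) (tt N13276 (iv D48304)))
theorem Q15536 : ∀ i, i < 15536 → P i := stepQ 15535 Q15535 (allL N15535 (tt N15535 F215980) (tt N17713 (iv F225837)) (tt N13279 F215981) (tt N16667 (iv F221498)) (tt N17328 F224478) (tt N13289 F215982) (tt N16662 (iv F221469)) (tt N13285 F215983) (tt N13277 (iv D48305)) (tt N15535 F215984))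
theorem Q15537 : ∀ i, i < 15537 → P i := stepQ 15536 Q15536 (allL N15536 (tt N13281 F215985) (tt N15536 F215986) (tt N16925 (iv F222634)) (tt N17155 F223622) (tt N13280 (iv D48306)) (tt N13656 F215987) (tt N16837 (iv F222193)) (tt N16847 (iv F222260)) (tt N15536 F215988) (tt N17714 D50484))
theorem Q15538 : ∀ i, i < 15538 → P i := stepQ 15537 Q15537 (allL N15537 (tt N13282 F215989) (tt N15537 F215990) (tt N17694 (iv F225777)) (tt N17281 (iv F224236)) (tt N17714 (iv F225843)) (tt N13290 F215991) (tt N16838 (iv F222200)) (tt N17711 (iv F225831)) (tt N17715 D50485) (tt N13280 (iv D48307)))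
theorem Q15539 : ∀ i, i < 15539 → P i := stepQ 15538 Q15538 (allL N15538 (tt N17155 (iv F223616)) (tt N13283 F215992) (tt N16941 (iv F222723)) (tt N13281 (iv D48308)) (tt N13340 F215993) (tt N13526 F215994) (tt N13343 F215995) (tt N13524 F215996) (tt N13520 (iv F215997)) (tt N17716 D50486))
theorem Q15540 : ∀ i, i < 15540 → P i := stepQ 15539 Q15539 (allL N15539 (tt N17714 (iv F225841)) (tt N13284 F215998) (tt N17696 (iv F225782)) (tt N17716 (iv F225850)) (tt N13282 F215999) (tt N13658 F216000) (tt N16839 (iv F222206)) (tt N17712 (iv F225836)) (tt N17717 D50487) (tt N13281 (iv D48309)))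
theorem Q15541 : ∀ i, i < 15541 → P i := stepQ 15540 Q15540 (allL N15540 (tt N17715 (iv F225845)) (tt N13285 F216001) (tt N17697 (iv F225786)) (tt N17691 (iv F225764)) (tt N17717 (iv F225857)) (tt N13291 F216002) (tt N16840 (iv F222211)) (tt N17713 (iv F225839)) (tt N13282 (iv D48310)) (tt N15540 F216003))
theorem Q15542 : ∀ i, i < 15542 → P i := stepQ 15541 Q15541 (allL N15541 (tt N15541 F216004) (tt N17716 (iv F225849)) (tt N13358 F216005) (tt N13284 F216006) (tt N13354 F216007) (tt N13367 F216008) (tt N13357 F216009) (tt N13363 F216010) (tt N13356 F216011) (tt N13283 (iv D48311)))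
theorem Q15543 : ∀ i, i < 15543 → P i := stepQ 15542 Q15542 (allL N15542 (tt N15542 F216012) (tt N17717 (iv F225856)) (tt N13286 F216013) (tt N16385 (iv F219990)) (tt N13285 F216014) (tt N13660 F216015) (tt N16841 (iv F222219)) (tt N17328 (iv F224475)) (tt N13284 (iv D48312)) (tt N15542 F216016))
theorem Q15544 : ∀ i, i < 15544 → P i := stepQ 15543 Q15543 (allL N15543 (tt N13288 F216017) (tt N15543 F216018) (tt N16643 (iv F221370)) (tt N17282 (iv F224243)) (tt N13662 F216019) (tt N17711 (iv F225830)) (tt N16541 (iv F220877)) (tt N13290 F216020) (tt N17718 D50488) (tt N13287 (iv D48313)))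
theorem Q15545 : ∀ i, i < 15545 → P i := stepQ 15544 Q15544 (allL N15544 (tt N17718 (iv F225860)) (tt N13289 F216021) (tt N17702 (iv F225802)) (tt N16671 (iv F221517)) (tt N13663 F216022) (tt N17713 (iv F225838)) (tt N16673 (iv F221529)) (tt N13291 F216023) (tt N13288 (iv D48314)) (tt N15544 F216024))
theorem Q15546 : ∀ i, i < 15546 → P i := stepQ 15545 Q15545 (allL N15545 (tt N13291 F216025) (tt N15545 F216026) (tt N17704 (iv F225809)) (tt N17719 D50489) (tt N13665 F216027) (tt N17715 (iv F225847)) (tt N13293 F216028) (tt N17718 (iv F225863)) (tt N13290 (iv D48315)) (tt N15545 F216029))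
theorem Q15547 : ∀ i, i < 15547 → P i := stepQ 15546 Q15546 (allL N15546 (tt N17719 (iv F225865)) (tt N13292 F216030) (tt N17720 D50490) (tt N13291 (iv D48316)) (tt N17721 D50491) (tt N17691 (iv F225765)) (tt N13294 F216031) (tt N16671 (iv F221519)) (tt N16669 F221512) (tt N15546 F216032))
theorem Q15548 : ∀ i, i < 15548 → P i := stepQ 15547 Q15547 (allL N15547 (tt N15547 F216033) (tt N17721 (iv F225871)) (tt N16555 (iv F220971)) (tt N13667 F216034) (tt N13292 (iv D48317)) (tt N16392 (iv F220026)) (tt N13295 F216035) (tt N16557 (iv F220985)) (tt N16554 F220969) (tt N15547 F216036))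
theorem Q15549 : ∀ i, i < 15549 → P i := stepQ 15548 Q15548 (allL N15548 (tt N13294 F216037) (tt N15548 F216038) (tt N16151 (iv F218719)) (tt N13293 (iv D48318)) (tt N15988 (iv F217650)) (tt N15985 (iv F217630)) (tt N17719 (iv F225867)) (tt N17528 (iv F225291)) (tt N15984 F217624) (tt N15548 F216039))
theorem Q15550 : ∀ i, i < 15550 → P i := stepQ 15549 Q15549 (allL N15549 (tt N16151 (iv F218717)) (tt N16594 (iv F221183)) (tt N13294 (iv D48319)) (tt N17708 (iv F225821)) (tt N16118 (iv F218535)) (tt N16115 (iv F218514)) (tt N17720 (iv F225869)) (tt N17545 (iv F225338)) (tt N16114 F218510) (tt N15549 F216040))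
theorem Q15551 : ∀ i, i < 15551 → P i := stepQ 15550 Q15550 (allL N15550 (tt N15988 (iv F217647)) (tt N13295 F216041) (tt N16118 (iv F218533)) (tt N13670 F216042) (tt N13294 (iv D48320)) (tt N15982 (iv F217604)) (tt N17721 (iv F225873)) (tt N17546 (iv F225343)) (tt N15981 F217599) (tt N15550 F216043))
theorem Q15552 : ∀ i, i < 15552 → P i := stepQ 15551 Q15551 (allL N15551 (tt N15551 F216044) (tt N15982 (iv F217601)) (tt N16533 (iv F220814)) (tt N13671 F216045) (tt N13590 F216046) (tt N13295 (iv D48321)) (tt N15991 (iv F217674)) (tt N13594 F216047) (tt N13589 F216048) (tt N15551 F216049))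
theorem Q15553 : ∀ i, i < 15553 → P i := stepQ 15552 Q15552 (allL N15552 (tt N13317 F216050) (tt N16690 (iv F221612)) (tt N13304 F216051) (tt N17722 D50492) (tt N16674 (iv F221537)) (tt N15552 F216052) (tt N13297 F216053) (tt N16863 (iv F222356)) (tt N13296 (iv D48322)) (tt N17723 D50493))
theorem Q15554 : ∀ i, i < 15554 → P i := stepQ 15553 Q15553 (allL N15553 (tt N13318 F216054) (tt N17362 (iv F224619)) (tt N16884 (iv F222453)) (tt N13297 (iv D48323)) (tt N17724 D50494) (tt N13300 F216055) (tt N17722 (iv F225877)) (tt N13298 F216056) (tt N16896 (iv F222513)) (tt N17725 D50495))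
theorem Q15555 : ∀ i, i < 15555 → P i := stepQ 15554 Q15554 (allL N15554 (tt N13319 F216057) (tt N17374 (iv F224668)) (tt N13305 F216058) (tt N17725 (iv F225886)) (tt N17558 (iv F225398)) (tt N13301 F216059) (tt N17723 (iv F225881)) (tt N13299 F216060) (tt N13389 F216061) (tt N13297 (iv D48324)))
theorem Q15556 : ∀ i, i < 15556 → P i := stepQ 15555 Q15555 (allL N15555 (tt N13321 F216062) (tt N17356 (iv F224597)) (tt N16886 (iv F222463)) (tt N17560 (iv F225406)) (tt N13298 (iv D48325)) (tt N17336 (iv F224520)) (tt N16866 (iv F222369)) (tt N17724 (iv F225884)) (tt N16900 (iv F222528)) (tt N17726 D50496))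
theorem Q15557 : ∀ i, i < 15557 → P i := stepQ 15556 Q15556 (allL N15556 (tt N13322 F216063) (tt N17369 (iv F224648)) (tt N16887 (iv F222467)) (tt N13299 F216064) (tt N17726 (iv F225890)) (tt N13302 F216065) (tt N16867 (iv F222375)) (tt N17725 (iv F225888)) (tt N17727 D50497) (tt N13298 (iv D48326)))
theorem Q15558 : ∀ i, i < 15558 → P i := stepQ 15557 Q15557 (allL N15557 (tt N13325 F216066) (tt N17363 (iv F224624)) (tt N16889 (iv F222478)) (tt N13301 F216067) (tt N17338 (iv F224528)) (tt N17725 (iv F225887)) (tt N15557 F216068) (tt N13302 F216069) (tt N17728 D50498) (tt N13300 (iv D48327)))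
theorem Q15559 : ∀ i, i < 15559 → P i := stepQ 15558 Q15558 (allL N15558 (tt N13331 F216070) (tt N17370 (iv F224652)) (tt N16892 (iv F222492)) (tt N13397 F216071) (tt N17339 (iv F224534)) (tt N17727 (iv F225893)) (tt N13303 F216072) (tt N17728 (iv F225897)) (tt N13302 (iv D48328)) (tt N16912 (iv F222581)))
theorem Q15560 : ∀ i, i < 15560 → P i := stepQ 15559 Q15559 (allL N15559 (tt N13341 F216073) (tt N15559 F216074) (tt N17723 (iv F225879)) (tt N17158 (iv F223637)) (tt N17281 (iv F224237)) (tt N15559 F216075) (tt N13305 F216076) (tt N16879 (iv F222431)) (tt N13402 F216077) (tt N13304 (iv D48329)))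
theorem Q15561 : ∀ i, i < 15561 → P i := stepQ 15560 Q15560 (allL N15560 (tt N16939 (iv F222708)) (tt N17290 (iv F224290)) (tt N16906 (iv F222547)) (tt N13306 (iv D48330)) (tt N17729 D50499) (tt N13771 F216078) (tt N16881 (iv F222440)) (tt N16910 (iv F222568)) (tt N17334 (iv F224510)) (tt N17730 D50500))
theorem Q15562 : ∀ i, i < 15562 → P i := stepQ 15561 Q15561 (allL N15561 (tt N16940 (iv F222714)) (tt N17291 (iv F224295)) (tt N13516 F216079) (tt N17730 (iv F225899)) (tt N13310 F216080) (tt N13772 F216081) (tt N16882 (iv F222445)) (tt N17333 (iv F224504)) (tt N13418 F216082) (tt N13306 (iv D48331)))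
theorem Q15563 : ∀ i, i < 15563 → P i := stepQ 15562 Q15562 (allL N15562 (tt N16934 (iv F222670)) (tt N16246 (iv F219295)) (tt N13517 F216083) (tt N17731 D50501) (tt N16224 (iv F219158)) (tt N15562 F216084) (tt N13308 F216085) (tt N16883 (iv F222451)) (tt N13307 (iv D48332)) (tt N17732 D50502))
theorem Q15564 : ∀ i, i < 15564 → P i := stepQ 15563 Q15563 (allL N15563 (tt N16896 (iv F222509)) (tt N17292 (iv F224302)) (tt N16864 (iv F222358)) (tt N13308 (iv D48333)) (tt N17733 D50503) (tt N13311 F216086) (tt N17731 (iv F225902)) (tt N13309 F216087) (tt N13318 F216088) (tt N17734 D50504))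
theorem Q15565 : ∀ i, i < 15565 → P i := stepQ 15564 Q15564 (allL N15564 (tt N16936 (iv F222685)) (tt N17293 (iv F224307)) (tt N13518 F216089) (tt N17734 (iv F225910)) (tt N17333 (iv F224502)) (tt N13312 F216090) (tt N17732 (iv F225906)) (tt N13310 F216091) (tt N13421 F216092) (tt N13308 (iv D48334)))
theorem Q15566 : ∀ i, i < 15566 → P i := stepQ 15565 Q15565 (allL N15565 (tt N16900 (iv F222525)) (tt N17294 (iv F224314)) (tt N16866 (iv F222368)) (tt N17729 (iv F225898)) (tt N13309 (iv D48335)) (tt N17735 D50505) (tt N16886 (iv F222464)) (tt N17733 (iv F225908)) (tt N13321 F216093) (tt N17736 D50506))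
theorem Q15567 : ∀ i, i < 15567 → P i := stepQ 15566 Q15566 (allL N15566 (tt N16901 (iv F222529)) (tt N17295 (iv F224318)) (tt N16867 (iv F222372)) (tt N13310 F216094) (tt N17736 (iv F225916)) (tt N13314 F216095) (tt N16887 (iv F222470)) (tt N17734 (iv F225912)) (tt N17737 D50507) (tt N13309 (iv D48336)))
theorem Q15568 : ∀ i, i < 15568 → P i := stepQ 15567 Q15567 (allL N15567 (tt N13771 F216096) (tt N13383 F216097) (tt N16868 (iv F222377)) (tt N13375 F216098) (tt N13311 (iv D48337)) (tt N16939 (iv F222710)) (tt N15567 F216099) (tt N13313 F216100) (tt N13324 F216101) (tt N17738 D50508))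
theorem Q15569 : ∀ i, i < 15569 → P i := stepQ 15568 Q15568 (allL N15568 (tt N16905 (iv F222540)) (tt N17296 (iv F224322)) (tt N16869 (iv F222383)) (tt N13312 F216102) (tt N17738 (iv F225923)) (tt N17734 (iv F225911)) (tt N15568 F216103) (tt N13314 F216104) (tt N17739 D50509) (tt N13311 (iv D48338)))
theorem Q15570 : ∀ i, i < 15570 → P i := stepQ 15569 Q15569 (allL N15569 (tt N16910 (iv F222564)) (tt N13381 F216105) (tt N16870 (iv F222388)) (tt N13374 F216106) (tt N17735 (iv F225914)) (tt N13313 (iv D48339)) (tt N16942 (iv F222730)) (tt N16939 (iv F222712)) (tt N13329 F216107) (tt N17740 D50510))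
theorem Q15571 : ∀ i, i < 15571 → P i := stepQ 15570 Q15570 (allL N15570 (tt N16911 (iv F222570)) (tt N13385 F216108) (tt N16871 (iv F222392)) (tt N13376 F216109) (tt N13314 F216110) (tt N17740 (iv F225932)) (tt N13315 F216111) (tt N17738 (iv F225925)) (tt N17741 D50511) (tt N13313 (iv D48340)))
theorem Q15572 : ∀ i, i < 15572 → P i := stepQ 15571 Q15571 (allL N15571 (tt N16912 (iv F222577)) (tt N17297 (iv F224328)) (tt N16872 (iv F222397)) (tt N13433 F216112) (tt N17741 (iv F225934)) (tt N17737 (iv F225918)) (tt N13316 F216113) (tt N17739 (iv F225928)) (tt N13314 (iv D48341)) (tt N13331 F216114))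
theorem Q15573 : ∀ i, i < 15573 → P i := stepQ 15572 Q15572 (allL N15572 (tt N16917 (iv F222596)) (tt N13386 F216115) (tt N16873 (iv F222402)) (tt N16916 (iv F222591)) (tt N13316 F216116) (tt N16947 (iv F222753)) (tt N17741 (iv F225935)) (tt N15572 F216117) (tt N13315 (iv D48342)) (tt N13336 F216118))
theorem Q15574 : ∀ i, i < 15574 → P i := stepQ 15573 Q15573 (allL N15573 (tt N17722 (iv F225875)) (tt N17276 (iv F224211)) (tt N17742 D50512) (tt N13317 (iv D48343)) (tt N17743 D50513) (tt N15573 F216119) (tt N13318 F216120) (tt N16894 (iv F222503)) (tt N17731 (iv F225903)) (tt N17744 D50514))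
theorem Q15575 : ∀ i, i < 15575 → P i := stepQ 15574 Q15574 (allL N15574 (tt N17723 (iv F225878)) (tt N17277 (iv F224216)) (tt N13341 F216121) (tt N17744 (iv F225941)) (tt N17275 (iv F224206)) (tt N15574 F216122) (tt N13319 F216123) (tt N16895 (iv F222507)) (tt N13444 F216124) (tt N13317 (iv D48344)))
theorem Q15576 : ∀ i, i < 15576 → P i := stepQ 15575 Q15575 (allL N15575 (tt N16884 (iv F222452)) (tt N17745 D50515) (tt N13318 (iv D48345)) (tt N13342 F216125) (tt N17746 D50516) (tt N13323 F216126) (tt N17742 (iv F225939)) (tt N13320 F216127) (tt N16864 (iv F222361)) (tt N17747 D50517))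
theorem Q15577 : ∀ i, i < 15577 → P i := stepQ 15576 Q15576 (allL N15576 (tt N17724 (iv F225883)) (tt N17298 (iv F224334)) (tt N17746 (iv F225947)) (tt N17582 (iv F225479)) (tt N13318 (iv D48346)) (tt N17748 D50518) (tt N17743 (iv F225940)) (tt N13321 F216128) (tt N17733 (iv F225909)) (tt N17749 D50519))
theorem Q15578 : ∀ i, i < 15578 → P i := stepQ 15577 Q15577 (allL N15577 (tt N17725 (iv F225885)) (tt N17299 (iv F224338)) (tt N17747 (iv F225949)) (tt N13319 F216129) (tt N17749 (iv F225956)) (tt N13325 F216130) (tt N17744 (iv F225943)) (tt N13322 F216131) (tt N17750 D50520) (tt N13318 (iv D48347)))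
theorem Q15579 : ∀ i, i < 15579 → P i := stepQ 15578 Q15578 (allL N15578 (tt N17420 (iv F224887)) (tt N13320 (iv D48348)) (tt N17300 (iv F224342)) (tt N13345 F216132) (tt N17751 D50521) (tt N13326 F216133) (tt N16899 (iv F222522)) (tt N17745 (iv F225946)) (tt N16855 (iv F222310)) (tt N17752 D50522))
theorem Q15580 : ∀ i, i < 15580 → P i := stepQ 15579 Q15579 (allL N15579 (tt N16886 (iv F222462)) (tt N17751 (iv F225961)) (tt N13321 F216134) (tt N17753 D50523) (tt N13320 (iv D48349)) (tt N17754 D50524) (tt N16900 (iv F222527)) (tt N17746 (iv F225948)) (tt N16866 (iv F222370)) (tt N17755 D50525))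
theorem Q15581 : ∀ i, i < 15581 → P i := stepQ 15580 Q15580 (allL N15580 (tt N16887 (iv F222466)) (tt N17752 (iv F225962)) (tt N13322 F216135) (tt N13347 F216136) (tt N17755 (iv F225969)) (tt N13328 F216137) (tt N16901 (iv F222533)) (tt N17747 (iv F225952)) (tt N17756 D50526) (tt N13320 (iv D48350)))
theorem Q15582 : ∀ i, i < 15582 → P i := stepQ 15581 Q15581 (allL N15581 (tt N17336 (iv F224518)) (tt N13391 F216138) (tt N17754 (iv F225966)) (tt N17586 (iv F225489)) (tt N13329 F216139) (tt N13321 (iv D48351)) (tt N16952 (iv F222772)) (tt N17748 (iv F225955)) (tt N17735 (iv F225915)) (tt N17757 D50527))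
theorem Q15583 : ∀ i, i < 15583 → P i := stepQ 15582 Q15582 (allL N15582 (tt N17726 (iv F225889)) (tt N17303 (iv F224353)) (tt N17755 (iv F225968)) (tt N17587 (iv F225491)) (tt N13322 F216140) (tt N17757 (iv F225974)) (tt N16903 (iv F222536)) (tt N17749 (iv F225957)) (tt N17758 D50528) (tt N13321 (iv D48352)))
theorem Q15584 : ∀ i, i < 15584 → P i := stepQ 15583 Q15583 (allL N15583 (tt N17727 (iv F225891)) (tt N17304 (iv F224357)) (tt N17756 (iv F225970)) (tt N13453 F216141) (tt N17758 (iv F225975)) (tt N13331 F216142) (tt N16904 (iv F222539)) (tt N17750 (iv F225960)) (tt N13322 (iv D48353)) (tt N17737 (iv F225919)))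
theorem Q15585 : ∀ i, i < 15585 → P i := stepQ 15584 Q15584 (allL N15584 (tt N17427 (iv F224919)) (tt N13323 (iv D48354)) (tt N17305 (iv F224360)) (tt N13349 F216143) (tt N17759 D50529) (tt N17745 (iv F225945)) (tt N15584 F216144) (tt N13326 F216145) (tt N16857 (iv F222321)) (tt N17760 D50530))
theorem Q15586 : ∀ i, i < 15586 → P i := stepQ 15585 Q15585 (allL N15585 (tt N16888 (iv F222471)) (tt N17759 (iv F225976)) (tt N13324 F216146) (tt N15585 F216147) (tt N13323 (iv D48355)) (tt N17761 D50531) (tt N15585 F216148) (tt N13327 F216149) (tt N16868 (iv F222381)) (tt N17762 D50532))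
theorem Q15587 : ∀ i, i < 15587 → P i := stepQ 15586 Q15586 (allL N15586 (tt N16889 (iv F222477)) (tt N17760 (iv F225981)) (tt N13325 F216150) (tt N13350 F216151) (tt N17762 (iv F225990)) (tt N17747 (iv F225951)) (tt N15586 F216152) (tt N13328 F216153) (tt N17763 D50533) (tt N13323 (iv D48356)))
theorem Q15588 : ∀ i, i < 15588 → P i := stepQ 15587 Q15587 (allL N15587 (tt N17334 (iv F224506)) (tt N13388 F216154) (tt N17761 (iv F225985)) (tt N13337 F216155) (tt N17748 (iv F225954)) (tt N13324 (iv D48357)) (tt N17764 D50534) (tt N13329 F216156) (tt N16939 (iv F222713)) (tt N17765 D50535))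
theorem Q15589 : ∀ i, i < 15589 → P i := stepQ 15588 Q15588 (allL N15588 (tt N17338 (iv F224525)) (tt N13394 F216157) (tt N17762 (iv F225988)) (tt N13338 F216158) (tt N13325 F216159) (tt N17765 (iv F226002)) (tt N15588 F216160) (tt N13330 F216161) (tt N17766 D50536) (tt N13324 (iv D48358)))
theorem Q15590 : ∀ i, i < 15590 → P i := stepQ 15589 Q15589 (allL N15589 (tt N17728 (iv F225894)) (tt N17307 (iv F224372)) (tt N17763 (iv F225993)) (tt N13459 F216162) (tt N17766 (iv F226005)) (tt N17750 (iv F225959)) (tt N15589 F216163) (tt N13331 F216164) (tt N13325 (iv D48359)) (tt N17739 (iv F225929)))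
theorem Q15591 : ∀ i, i < 15591 → P i := stepQ 15590 Q15590 (allL N15590 (tt N16308 (iv F219626)) (tt N13327 F216165) (tt N13395 F216166) (tt N15590 F216167) (tt N13326 (iv D48360)) (tt N17767 D50537) (tt N13332 F216168) (tt N17759 (iv F225980)) (tt N16270 (iv F219426)) (tt N17768 D50538))
theorem Q15592 : ∀ i, i < 15592 → P i := stepQ 15591 Q15591 (allL N15591 (tt N17428 (iv F224924)) (tt N13328 F216169) (tt N17309 (iv F224384)) (tt N13352 F216170) (tt N17768 (iv F226014)) (tt N17752 (iv F225964)) (tt N13333 F216171) (tt N17760 (iv F225984)) (tt N17769 D50539) (tt N13326 (iv D48361)))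
theorem Q15593 : ∀ i, i < 15593 → P i := stepQ 15592 Q15592 (allL N15592 (tt N16890 (iv F222482)) (tt N17767 (iv F226008)) (tt N13329 F216172) (tt N15592 F216173) (tt N17754 (iv F225967)) (tt N13327 (iv D48362)) (tt N16951 (iv F222770)) (tt N17761 (iv F225987)) (tt N16870 (iv F222390)) (tt N17770 D50540))
theorem Q15594 : ∀ i, i < 15594 → P i := stepQ 15593 Q15593 (allL N15593 (tt N16891 (iv F222486)) (tt N17768 (iv F226011)) (tt N13330 F216174) (tt N15593 F216175) (tt N13328 F216176) (tt N17770 (iv F226020)) (tt N13334 F216177) (tt N17762 (iv F225992)) (tt N17771 D50541) (tt N13327 (iv D48363)))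
theorem Q15595 : ∀ i, i < 15595 → P i := stepQ 15594 Q15594 (allL N15594 (tt N16892 (iv F222491)) (tt N17769 (iv F226016)) (tt N13331 F216178) (tt N16971 (iv F222858)) (tt N17771 (iv F226022)) (tt N17756 (iv F225971)) (tt N13335 F216179) (tt N17763 (iv F225995)) (tt N13328 (iv D48364)) (tt N16872 (iv F222400)))
theorem Q15596 : ∀ i, i < 15596 → P i := stepQ 15595 Q15595 (allL N15595 (tt N17337 (iv F224521)) (tt N13392 F216180) (tt N17770 (iv F226018)) (tt N13339 F216181) (tt N17757 (iv F225973)) (tt N13330 F216182) (tt N16953 (iv F222776)) (tt N17765 (iv F226003)) (tt N17772 D50542) (tt N13329 (iv D48365)))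
theorem Q15597 : ∀ i, i < 15597 → P i := stepQ 15596 Q15596 (allL N15596 (tt N17339 (iv F224531)) (tt N13397 F216183) (tt N17771 (iv F226021)) (tt N17370 (iv F224653)) (tt N13331 F216184) (tt N17772 (iv F226025)) (tt N13336 F216185) (tt N17766 (iv F226007)) (tt N13330 (iv D48366)) (tt N17741 (iv F225936)))
theorem Q15598 : ∀ i, i < 15598 → P i := stepQ 15597 Q15597 (allL N15597 (tt N16309 (iv F219632)) (tt N13334 F216186) (tt N13399 F216187) (tt N15597 F216188) (tt N13333 F216189) (tt N16256 (iv F219354)) (tt N17768 (iv F226015)) (tt N15597 F216190) (tt N17773 D50543) (tt N13332 (iv D48367)))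
theorem Q15599 : ∀ i, i < 15599 → P i := stepQ 15598 Q15598 (allL N15598 (tt N17429 (iv F224928)) (tt N13335 F216191) (tt N17312 (iv F224400)) (tt N16947 (iv F222752)) (tt N17773 (iv F226028)) (tt N16916 (iv F222593)) (tt N17769 (iv F226017)) (tt N15598 F216192) (tt N13333 (iv D48368)) (tt N16862 (iv F222351)))
theorem Q15600 : ∀ i, i < 15600 → P i := stepQ 15599 Q15599 (allL N15599 (tt N16893 (iv F222496)) (tt N17773 (iv F226026)) (tt N13336 F216193) (tt N17774 D50544) (tt N13335 F216194) (tt N16958 (iv F222792)) (tt N17771 (iv F226023)) (tt N15599 F216195) (tt N13334 (iv D48369)) (tt N16873 (iv F222405)))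
theorem Q15601 : ∀ i, i < 15601 → P i := stepQ 15600 Q15600 (allL N15600 (tt N16603 (iv F221234)) (tt N13387 F216196) (tt N15600 F216197) (tt N17764 (iv F225997)) (tt N16571 (iv F221074)) (tt N15600 F216198) (tt N13337 (iv D48370)) (tt N16948 (iv F222760)) (tt N13377 F216199) (tt N17775 D50545))
theorem Q15602 : ∀ i, i < 15602 → P i := stepQ 15601 Q15601 (allL N15601 (tt N17335 (iv F224511)) (tt N13389 F216200) (tt N15601 F216201) (tt N17765 (iv F226001)) (tt N17554 (iv F225377)) (tt N13338 F216202) (tt N17775 (iv F226035)) (tt N13339 F216203) (tt N17374 (iv F224673)) (tt N13337 (iv D48371)))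
theorem Q15603 : ∀ i, i < 15603 → P i := stepQ 15602 Q15602 (allL N15602 (tt N16883 (iv F222447)) (tt N16959 (iv F222795)) (tt N13340 (iv D48372)) (tt N17742 (iv F225937)) (tt N16941 (iv F222724)) (tt N15602 F216204) (tt N13342 F216205) (tt N16934 (iv F222675)) (tt N13519 F216206) (tt N17776 D50546))
theorem Q15604 : ∀ i, i < 15604 → P i := stepQ 15603 Q15603 (allL N15603 (tt N17158 (iv F223635)) (tt N13354 F216207) (tt N17776 (iv F226036)) (tt N13341 F216208) (tt N17716 (iv F225851)) (tt N15603 F216209) (tt N13344 F216210) (tt N16935 (iv F222683)) (tt N17151 (iv F223600)) (tt N13340 (iv D48373)))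
theorem Q15605 : ∀ i, i < 15605 → P i := stepQ 15604 Q15604 (allL N15604 (tt N17016 (iv F223066)) (tt N13342 (iv D48374)) (tt N13355 F216211) (tt N17745 (iv F225944)) (tt N16962 (iv F222813)) (tt N13349 F216212) (tt N16959 (iv F222799)) (tt N13345 F216213) (tt N13521 F216214) (tt N17777 D50547))
theorem Q15606 : ∀ i, i < 15606 → P i := stepQ 15605 Q15605 (allL N15605 (tt N16880 (iv F222433)) (tt N16962 (iv F222811)) (tt N13343 F216215) (tt N17778 D50548) (tt N13342 (iv D48375)) (tt N15605 F216216) (tt N16941 (iv F222726)) (tt N13346 F216217) (tt N13522 F216218) (tt N17779 D50549))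
theorem Q15607 : ∀ i, i < 15607 → P i := stepQ 15606 Q15606 (allL N15606 (tt N16885 (iv F222457)) (tt N17777 (iv F226039)) (tt N13344 F216219) (tt N17747 (iv F225950)) (tt N17779 (iv F226046)) (tt N13350 F216220) (tt N17776 (iv F226038)) (tt N13347 F216221) (tt N16964 (iv F222826)) (tt N13342 (iv D48376)))
theorem Q15608 : ∀ i, i < 15608 → P i := stepQ 15607 Q15607 (allL N15607 (tt N17156 (iv F223623)) (tt N13357 F216222) (tt N17779 (iv F226045)) (tt N16839 (iv F222203)) (tt N13344 F216223) (tt N15607 F216224) (tt N17716 (iv F225853)) (tt N13348 F216225) (tt N17159 (iv F223649)) (tt N13343 (iv D48377)))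
theorem Q15609 : ∀ i, i < 15609 → P i := stepQ 15608 Q15608 (allL N15608 (tt N13345 (iv D48378)) (tt N13778 F216226) (tt N13359 F216227) (tt N17420 (iv F224889)) (tt N13419 (iv F216231)) (tt N13351 F216228) (tt N13416 F216229) (tt N17016 (iv F223072)) (tt N13415 F216230) (tt N17780 D50550))
theorem Q15610 : ∀ i, i < 15610 → P i := stepQ 15609 Q15609 (allL N15609 (tt N13419 F216232) (tt N13346 F216233) (tt N13360 F216234) (tt N17781 D50551) (tt N13345 (iv D48379)) (tt N15609 F216235) (tt N13380 F216236) (tt N16962 (iv F222816)) (tt N13379 F216237) (tt N17782 D50552))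
theorem Q15611 : ∀ i, i < 15611 → P i := stepQ 15610 Q15610 (allL N15610 (tt N17780 (iv F226049)) (tt N13347 F216238) (tt N13361 F216239) (tt N17752 (iv F225963)) (tt N17782 (iv F226063)) (tt N13352 F216240) (tt N16938 (iv F222705)) (tt N17777 (iv F226042)) (tt N16943 (iv F222736)) (tt N13345 (iv D48380)))
theorem Q15612 : ∀ i, i < 15612 → P i := stepQ 15611 Q15611 (allL N15611 (tt N16881 (iv F222438)) (tt N17781 (iv F226056)) (tt N17600 (iv F225522)) (tt N13346 (iv D48381)) (tt N17753 (iv F225965)) (tt N15611 F216241) (tt N16939 (iv F222711)) (tt N17778 (iv F226044)) (tt N17764 (iv F225999)) (tt N17783 D50553))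
theorem Q15613 : ∀ i, i < 15613 → P i := stepQ 15612 Q15612 (allL N15612 (tt N16882 (iv F222441)) (tt N17782 (iv F226061)) (tt N13348 F216242) (tt N17783 (iv F226066)) (tt N13347 F216243) (tt N15612 F216244) (tt N16940 (iv F222719)) (tt N17779 (iv F226048)) (tt N16961 (iv F222809)) (tt N13346 (iv D48382)))
theorem Q15614 : ∀ i, i < 15614 → P i := stepQ 15613 Q15613 (allL N15613 (tt N13349 (iv D48383)) (tt N13780 F216245) (tt N13365 F216246) (tt N17427 (iv F224921)) (tt N15613 F216247) (tt N17016 (iv F223070)) (tt N15613 F216248) (tt N13351 F216249) (tt N13523 F216250) (tt N17784 D50554))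
theorem Q15615 : ∀ i, i < 15615 → P i := stepQ 15614 Q15614 (allL N15614 (tt N17784 (iv F226068)) (tt N13350 F216251) (tt N13366 F216252) (tt N17760 (iv F225982)) (tt N15614 F216253) (tt N17777 (iv F226041)) (tt N15614 F216254) (tt N13352 F216255) (tt N16945 (iv F222747)) (tt N13349 (iv D48384)))
theorem Q15616 : ∀ i, i < 15616 → P i := stepQ 15615 Q15615 (allL N15615 (tt N13352 F216256) (tt N13781 F216257) (tt N13368 F216258) (tt N17428 (iv F224926)) (tt N15615 F216259) (tt N17780 (iv F226053)) (tt N13353 F216260) (tt N17784 (iv F226073)) (tt N16227 (iv F219178)) (tt N13351 (iv D48385)))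
theorem Q15617 : ∀ i, i < 15617 → P i := stepQ 15616 Q15616 (allL N15616 (tt N17165 (iv F223687)) (tt N13356 F216261) (tt N17777 (iv F226040)) (tt N16383 (iv F219979)) (tt N17151 (iv F223596)) (tt N13366 F216262) (tt N17159 (iv F223647)) (tt N13361 F216263) (tt N17716 (iv F225855)) (tt N13355 (iv D48386)))
theorem Q15618 : ∀ i, i < 15618 → P i := stepQ 15617 Q15617 (allL N15617 (tt N13361 F216264) (tt N15617 F216265) (tt N17780 (iv F226051)) (tt N17326 (iv F224466)) (tt N13545 F216266) (tt N13368 F216267) (tt N13540 F216268) (tt N17165 (iv F223692)) (tt N17785 D50555) (tt N13359 (iv D48387)))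
theorem Q15619 : ∀ i, i < 15619 → P i := stepQ 15618 Q15618 (allL N15618 (tt N13545 F216269) (tt N13362 F216270) (tt N17782 (iv F226062)) (tt N17124 (iv F223451)) (tt N13361 F216271) (tt N15618 F216272) (tt N13531 F216273) (tt N17151 (iv F223599)) (tt N16935 (iv F222684)) (tt N13360 (iv D48388)))
theorem Q15620 : ∀ i, i < 15620 → P i := stepQ 15619 Q15619 (allL N15619 (tt N17785 (iv F226074)) (tt N13363 F216274) (tt N16943 (iv F222733)) (tt N17712 (iv F225833)) (tt N16935 (iv F222680)) (tt N13369 F216275) (tt N16937 (iv F222697)) (tt N17716 (iv F225854)) (tt N13361 (iv D48389)) (tt N13524 F216276))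
theorem Q15621 : ∀ i, i < 15621 → P i := stepQ 15620 Q15620 (allL N15620 (tt N13366 F216277) (tt N15620 F216278) (tt N17784 (iv F226070)) (tt N17329 (iv F224481)) (tt N15620 F216279) (tt N17165 (iv F223690)) (tt N15620 F216280) (tt N13368 F216281) (tt N17786 D50556) (tt N13365 (iv D48390)))
theorem Q15622 : ∀ i, i < 15622 → P i := stepQ 15621 Q15621 (allL N15621 (tt N17786 (iv F226080)) (tt N13367 F216282) (tt N16945 (iv F222743)) (tt N13658 (iv F216287)) (tt N15621 F216283) (tt N17716 (iv F225852)) (tt N15621 F216284) (tt N13369 F216285) (tt N13366 (iv D48391)) (tt N13526 F216286))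
theorem Q15623 : ∀ i, i < 15623 → P i := stepQ 15622 Q15622 (allL N15622 (tt N13369 F216288) (tt N15622 F216289) (tt N16227 (iv F219175)) (tt N16850 (iv F222277)) (tt N15622 F216290) (tt N17785 (iv F226077)) (tt N13371 F216291) (tt N17786 (iv F226084)) (tt N13368 (iv D48392)) (tt N13527 F216292))
theorem Q15624 : ∀ i, i < 15624 → P i := stepQ 15623 Q15623 (allL N15623 (tt N16850 (iv F222274)) (tt N13370 F216293) (tt N16242 (iv F219267)) (tt N13369 (iv D48393)) (tt N13654 (iv F216297)) (tt N17712 (iv F225835)) (tt N13372 F216294) (tt N13658 F216295) (tt N17332 (iv F224496)) (tt N13528 F216296))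
theorem Q15625 : ∀ i, i < 15625 → P i := stepQ 15624 Q15624 (allL N15624 (tt N17333 (iv F224499)) (tt N13382 F216298) (tt N16937 (iv F222694)) (tt N17740 (iv F225931)) (tt N16936 (iv F222688)) (tt N13376 F216299) (tt N16943 (iv F222735)) (tt N16940 (iv F222720)) (tt N16938 (iv F222707)) (tt N13374 (iv D48394)))
theorem Q15626 : ∀ i, i < 15626 → P i := stepQ 15625 Q15625 (allL N15625 (tt N13772 F216300) (tt N13384 F216301) (tt N13785 F216302) (tt N17738 (iv F225922)) (tt N13769 F216303) (tt N16940 (iv F222718)) (tt N15625 F216304) (tt N13376 F216305) (tt N13775 F216306) (tt N13375 (iv D48395)))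
theorem Q15627 : ∀ i, i < 15627 → P i := stepQ 15626 Q15626 (allL N15626 (tt N13417 F216307) (tt N16896 (iv F222514)) (tt N17787 D50557) (tt N13378 (iv D48396)) (tt N17788 D50558) (tt N13774 F216308) (tt N16960 (iv F222803)) (tt N16899 (iv F222523)) (tt N17362 (iv F224622)) (tt N17789 D50559))
theorem Q15628 : ∀ i, i < 15628 → P i := stepQ 15627 Q15627 (allL N15627 (tt N13418 F216309) (tt N16936 (iv F222686)) (tt N13530 F216310) (tt N17789 (iv F226093)) (tt N13382 F216311) (tt N13775 F216312) (tt N16961 (iv F222808)) (tt N16938 (iv F222706)) (tt N16940 (iv F222721)) (tt N13378 (iv D48397)))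
theorem Q15629 : ∀ i, i < 15629 → P i := stepQ 15628 Q15628 (allL N15628 (tt N13420 F216313) (tt N16939 (iv F222709)) (tt N17184 (iv F223798)) (tt N13380 (iv D48398)) (tt N17790 D50560) (tt N13383 F216314) (tt N17781 (iv F226058)) (tt N13381 F216315) (tt N13388 F216316) (tt N17791 D50561))
theorem Q15630 : ∀ i, i < 15630 → P i := stepQ 15629 Q15629 (allL N15629 (tt N13421 F216317) (tt N16940 (iv F222715)) (tt N13531 F216318) (tt N17791 (iv F226099)) (tt N16938 (iv F222703)) (tt N13384 F216319) (tt N17782 (iv F226065)) (tt N13382 F216320) (tt N16936 (iv F222691)) (tt N13380 (iv D48399)))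
theorem Q15631 : ∀ i, i < 15631 → P i := stepQ 15630 Q15630 (allL N15630 (tt N13423 F216321) (tt N17735 (iv F225913)) (tt N17190 (iv F223826)) (tt N17788 (iv F226091)) (tt N13381 (iv D48400)) (tt N17294 (iv F224315)) (tt N16965 (iv F222829)) (tt N17790 (iv F226096)) (tt N13391 F216322) (tt N17792 D50562))
theorem Q15632 : ∀ i, i < 15632 → P i := stepQ 15631 Q15631 (allL N15631 (tt N13424 F216323) (tt N17740 (iv F225930)) (tt N17140 (iv F223532)) (tt N13382 F216324) (tt N17792 (iv F226103)) (tt N13385 F216325) (tt N16966 (iv F222835)) (tt N17791 (iv F226101)) (tt N17793 D50563) (tt N13381 (iv D48401)))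
theorem Q15633 : ∀ i, i < 15633 → P i := stepQ 15632 Q15632 (allL N15632 (tt N13427 F216326) (tt N17738 (iv F225921)) (tt N17144 (iv F223555)) (tt N13384 F216327) (tt N17296 (iv F224324)) (tt N17791 (iv F226100)) (tt N15632 F216328) (tt N13385 F216329) (tt N17794 D50564) (tt N13383 (iv D48402)))
theorem Q15634 : ∀ i, i < 15634 → P i := stepQ 15633 Q15633 (allL N15633 (tt N13433 F216330) (tt N17741 (iv F225933)) (tt N17089 (iv F223317)) (tt N16912 (iv F222579)) (tt N17297 (iv F224330)) (tt N17793 (iv F226105)) (tt N13386 F216331) (tt N17794 (iv F226109)) (tt N13385 (iv D48403)) (tt N13397 F216332))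
theorem Q15635 : ∀ i, i < 15635 → P i := stepQ 15634 Q15634 (allL N15634 (tt N13443 F216333) (tt N17764 (iv F225996)) (tt N17795 D50565) (tt N13387 (iv D48404)) (tt N17796 D50566) (tt N15634 F216334) (tt N13388 F216335) (tt N16973 (iv F222869)) (tt N17781 (iv F226059)) (tt N17797 D50567))
theorem Q15636 : ∀ i, i < 15636 → P i := stepQ 15635 Q15635 (allL N15635 (tt N13444 F216336) (tt N17775 (iv F226032)) (tt N13402 F216337) (tt N17797 (iv F226118)) (tt N17616 (iv F225573)) (tt N15635 F216338) (tt N13389 F216339) (tt N16974 (iv F222874)) (tt N17723 (iv F225882)) (tt N13387 (iv D48405)))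
theorem Q15637 : ∀ i, i < 15637 → P i := stepQ 15636 Q15636 (allL N15636 (tt N13445 F216340) (tt N17798 D50568) (tt N13388 (iv D48406)) (tt N13403 F216341) (tt N17799 D50569) (tt N13393 F216342) (tt N17795 (iv F226114)) (tt N13390 F216343) (tt N17184 (iv F223801)) (tt N17800 D50570))
theorem Q15638 : ∀ i, i < 15638 → P i := stepQ 15637 Q15637 (allL N15637 (tt N13446 F216344) (tt N17748 (iv F225953)) (tt N17799 (iv F226125)) (tt N17617 (iv F225576)) (tt N13388 (iv D48407)) (tt N17298 (iv F224335)) (tt N17796 (iv F226116)) (tt N13391 F216345) (tt N17790 (iv F226097)) (tt N17801 D50571))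
theorem Q15639 : ∀ i, i < 15639 → P i := stepQ 15638 Q15638 (allL N15638 (tt N13447 F216346) (tt N17765 (iv F226000)) (tt N17800 (iv F226128)) (tt N13389 F216347) (tt N17801 (iv F226133)) (tt N13394 F216348) (tt N17797 (iv F226120)) (tt N13392 F216349) (tt N17802 D50572) (tt N13388 (iv D48408)))
theorem Q15640 : ∀ i, i < 15640 → P i := stepQ 15639 Q15639 (allL N15639 (tt N17803 D50573) (tt N13390 (iv D48409)) (tt N17767 (iv F226009)) (tt N13406 F216350) (tt N17804 D50574) (tt N13395 F216351) (tt N16978 (iv F222889)) (tt N17798 (iv F226123)) (tt N17186 (iv F223811)) (tt N17805 D50575))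
theorem Q15641 : ∀ i, i < 15641 → P i := stepQ 15640 Q15640 (allL N15640 (tt N13449 F216352) (tt N17804 (iv F226141)) (tt N13391 F216353) (tt N17806 D50576) (tt N13390 (iv D48410)) (tt N17301 (iv F224347)) (tt N16979 (iv F222894)) (tt N17799 (iv F226126)) (tt N17190 (iv F223828)) (tt N17807 D50577))
theorem Q15642 : ∀ i, i < 15642 → P i := stepQ 15641 Q15641 (allL N15641 (tt N13450 F216354) (tt N17805 (iv F226142)) (tt N13392 F216355) (tt N13408 F216356) (tt N17807 (iv F226149)) (tt N13396 F216357) (tt N16980 (iv F222900)) (tt N17800 (iv F226131)) (tt N17808 D50578) (tt N13390 (iv D48411)))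
theorem Q15643 : ∀ i, i < 15643 → P i := stepQ 15642 Q15642 (allL N15642 (tt N13452 F216358) (tt N17757 (iv F225972)) (tt N17807 (iv F226148)) (tt N17621 (iv F225589)) (tt N13392 F216359) (tt N17303 (iv F224355)) (tt N16982 (iv F222905)) (tt N17801 (iv F226134)) (tt N17809 D50579) (tt N13391 (iv D48412)))
theorem Q15644 : ∀ i, i < 15644 → P i := stepQ 15643 Q15643 (allL N15643 (tt N13453 F216360) (tt N17772 (iv F226024)) (tt N17808 (iv F226151)) (tt N17727 (iv F225892)) (tt N17809 (iv F226154)) (tt N13397 F216361) (tt N16983 (iv F222908)) (tt N17802 (iv F226137)) (tt N13392 (iv D48413)) (tt N17793 (iv F226106)))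
theorem Q15645 : ∀ i, i < 15645 → P i := stepQ 15644 Q15644 (allL N15644 (tt N17810 D50580) (tt N13393 (iv D48414)) (tt N17759 (iv F225977)) (tt N13410 F216362) (tt N17305 (iv F224362)) (tt N17798 (iv F226122)) (tt N15644 F216363) (tt N13395 F216364) (tt N17193 (iv F223844)) (tt N17811 D50581))
theorem Q15646 : ∀ i, i < 15646 → P i := stepQ 15645 Q15645 (allL N15645 (tt N13456 F216365) (tt N17811 (iv F226159)) (tt N13394 F216366) (tt N13411 F216367) (tt N17306 (iv F224368)) (tt N17800 (iv F226130)) (tt N15645 F216368) (tt N13396 F216369) (tt N17812 D50582) (tt N13393 (iv D48415)))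
theorem Q15647 : ∀ i, i < 15647 → P i := stepQ 15646 Q15646 (allL N15646 (tt N13459 F216370) (tt N17766 (iv F226004)) (tt N17812 (iv F226164)) (tt N17728 (iv F225895)) (tt N17307 (iv F224374)) (tt N17802 (iv F226136)) (tt N15646 F216371) (tt N13397 F216372) (tt N13394 (iv D48416)) (tt N17794 (iv F226110)))
theorem Q15648 : ∀ i, i < 15648 → P i := stepQ 15647 Q15647 (allL N15647 (tt N13395 (iv D48417)) (tt N13460 F216373) (tt N16308 (iv F219628)) (tt N13412 F216374) (tt N17308 (iv F224380)) (tt N17803 (iv F226140)) (tt N13398 F216375) (tt N17810 (iv F226158)) (tt N16339 (iv F219767)) (tt N17813 D50583))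
theorem Q15649 : ∀ i, i < 15649 → P i := stepQ 15648 Q15648 (allL N15648 (tt N17813 (iv F226167)) (tt N13396 F216376) (tt N17768 (iv F226012)) (tt N13413 F216377) (tt N17309 (iv F224386)) (tt N17805 (iv F226144)) (tt N13399 F216378) (tt N17811 (iv F226162)) (tt N17814 D50584) (tt N13395 (iv D48418)))
theorem Q15650 : ∀ i, i < 15650 → P i := stepQ 15649 Q15649 (allL N15649 (tt N13465 F216379) (tt N17814 (iv F226171)) (tt N13397 F216380) (tt N17042 (iv F223165)) (tt N17310 (iv F224390)) (tt N17808 (iv F226152)) (tt N13400 F216381) (tt N17812 (iv F226166)) (tt N13396 (iv D48419)) (tt N17089 (iv F223320)))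
theorem Q15651 : ∀ i, i < 15651 → P i := stepQ 15650 Q15650 (allL N15650 (tt N13399 F216382) (tt N13470 F216383) (tt N16309 (iv F219634)) (tt N13414 F216384) (tt N17311 (iv F224396)) (tt N16306 (iv F219620)) (tt N17813 (iv F226170)) (tt N15650 F216385) (tt N17815 D50585) (tt N13398 (iv D48420)))
theorem Q15652 : ∀ i, i < 15652 → P i := stepQ 15651 Q15651 (allL N15651 (tt N17815 (iv F226173)) (tt N13400 F216386) (tt N17773 (iv F226027)) (tt N17046 (iv F223177)) (tt N17312 (iv F224401)) (tt N16995 (iv F222959)) (tt N17814 (iv F226172)) (tt N15651 F216387) (tt N13399 (iv D48421)) (tt N17098 (iv F223352)))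
theorem Q15653 : ∀ i, i < 15653 → P i := stepQ 15652 Q15652 (allL N15652 (tt N13486 F216388) (tt N17183 (iv F223791)) (tt N13401 (iv D48422)) (tt N17795 (iv F226112)) (tt N17185 (iv F223805)) (tt N15652 F216389) (tt N13403 F216390) (tt N17004 (iv F222998)) (tt N13532 F216391) (tt N17816 D50586))
theorem Q15654 : ∀ i, i < 15654 → P i := stepQ 15653 Q15653 (allL N15653 (tt N13487 F216392) (tt N15653 F216393) (tt N17816 (iv F226177)) (tt N13402 F216394) (tt N17150 (iv F223589)) (tt N15653 F216395) (tt N13405 F216396) (tt N17006 (iv F223012)) (tt N17149 (iv F223586)) (tt N13401 (iv D48423)))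
theorem Q15655 : ∀ i, i < 15655 → P i := stepQ 15654 Q15654 (allL N15654 (tt N17176 (iv F223747)) (tt N13403 (iv D48424)) (tt N15654 F216397) (tt N17798 (iv F226121)) (tt N17175 F223746) (tt N13410 F216398) (tt N17183 (iv F223795)) (tt N13406 F216399) (tt N13533 F216400) (tt N17817 D50587))
theorem Q15656 : ∀ i, i < 15656 → P i := stepQ 15655 Q15655 (allL N15655 (tt N13489 F216401) (tt N17175 (iv F223740)) (tt N13404 F216402) (tt N16330 (iv F219725)) (tt N13403 (iv D48425)) (tt N13568 F216403) (tt N17185 (iv F223807)) (tt N13407 F216404) (tt N13534 F216405) (tt N17818 D50588))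
theorem Q15657 : ∀ i, i < 15657 → P i := stepQ 15656 Q15656 (allL N15656 (tt N13490 F216406) (tt N17817 (iv F226180)) (tt N13405 F216407) (tt N17800 (iv F226129)) (tt N17818 (iv F226186)) (tt N13411 F216408) (tt N17816 (iv F226179)) (tt N13408 F216409) (tt N17174 (iv F223739)) (tt N13403 (iv D48426)))
theorem Q15658 : ∀ i, i < 15658 → P i := stepQ 15657 Q15657 (allL N15657 (tt N13491 F216410) (tt N15657 F216411) (tt N17818 (iv F226185)) (tt N15997 (iv F217717)) (tt N13405 F216412) (tt N13511 F216413) (tt N17150 (iv F223591)) (tt N13409 F216414) (tt N13509 F216415) (tt N13404 (iv D48427)))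
theorem Q15659 : ∀ i, i < 15659 → P i := stepQ 15658 Q15658 (allL N15658 (tt N13406 (iv D48428)) (tt N13493 F216416) (tt N15658 F216417) (tt N17803 (iv F226139)) (tt N17173 (iv F223730)) (tt N13412 F216418) (tt N17010 (iv F223035)) (tt N17176 (iv F223752)) (tt N13535 F216419) (tt N17819 D50589))
theorem Q15660 : ∀ i, i < 15660 → P i := stepQ 15659 Q15659 (allL N15659 (tt N17173 (iv F223728)) (tt N13407 F216420) (tt N15659 F216421) (tt N17820 D50590) (tt N13406 (iv D48429)) (tt N13687 F216422) (tt N17011 (iv F223041)) (tt N17175 (iv F223744)) (tt N13536 F216423) (tt N17821 D50591))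
theorem Q15661 : ∀ i, i < 15661 → P i := stepQ 15660 Q15660 (allL N15660 (tt N17819 (iv F226190)) (tt N13408 F216424) (tt N15660 F216425) (tt N17805 (iv F226143)) (tt N17821 (iv F226198)) (tt N13413 F216426) (tt N17012 (iv F223047)) (tt N17817 (iv F226183)) (tt N17177 (iv F223758)) (tt N13406 (iv D48430)))
theorem Q15662 : ∀ i, i < 15662 → P i := stepQ 15661 Q15661 (allL N15661 (tt N13496 F216427) (tt N17820 (iv F226194)) (tt N16324 (iv F219693)) (tt N13407 (iv D48431)) (tt N17806 (iv F226146)) (tt N13689 F216428) (tt N17013 (iv F223052)) (tt N16330 (iv F219726)) (tt N17822 D50592) (tt N17823 D50593))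
theorem Q15663 : ∀ i, i < 15663 → P i := stepQ 15662 Q15662 (allL N15662 (tt N13497 F216429) (tt N17821 (iv F226196)) (tt N13409 F216430) (tt N17823 (iv F226204)) (tt N13408 F216431) (tt N13690 F216432) (tt N17014 (iv F223057)) (tt N17818 (iv F226188)) (tt N17179 (iv F223769)) (tt N13407 (iv D48432)))
theorem Q15664 : ∀ i, i < 15664 → P i := stepQ 15663 Q15663 (allL N15663 (tt N13410 (iv D48433)) (tt N13500 F216433) (tt N15663 F216434) (tt N17810 (iv F226156)) (tt N13692 F216435) (tt N17176 (iv F223750)) (tt N15663 F216436) (tt N13412 F216437) (tt N13538 F216438) (tt N17824 D50594))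
theorem Q15665 : ∀ i, i < 15665 → P i := stepQ 15664 Q15664 (allL N15664 (tt N17824 (iv F226206)) (tt N13411 F216439) (tt N15664 F216440) (tt N17811 (iv F226160)) (tt N13693 F216441) (tt N17817 (iv F226182)) (tt N15664 F216442) (tt N13413 F216443) (tt N17180 (iv F223776)) (tt N13410 (iv D48434)))
theorem Q15666 : ∀ i, i < 15666 → P i := stepQ 15665 Q15665 (allL N15665 (tt N13413 F216444) (tt N13503 F216445) (tt N15665 F216446) (tt N17813 (iv F226169)) (tt N13695 F216447) (tt N17819 (iv F226193)) (tt N13414 F216448) (tt N17824 (iv F226211)) (tt N17181 (iv F223783)) (tt N13412 (iv D48435)))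
theorem Q15667 : ∀ i, i < 15667 → P i := stepQ 15666 Q15666 (allL N15666 (tt N16938 (iv F222700)) (tt N13779 F216449) (tt N13540 F216450) (tt N17421 (iv F224893)) (tt N13421 F216451) (tt N13764 F216452) (tt N17780 (iv F226054)) (tt N13418 F216453) (tt N17333 (iv F224505)) (tt N13416 (iv D48436)))
theorem Q15668 : ∀ i, i < 15668 → P i := stepQ 15667 Q15667 (allL N15667 (tt N17787 (iv F226087)) (tt N17825 D50595) (tt N13417 (iv D48437)) (tt N13541 F216454) (tt N17826 D50596) (tt N13776 F216455) (tt N17019 (iv F223081)) (tt N17417 (iv F224877)) (tt N17452 (iv F225004)) (tt N17827 D50597))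
theorem Q15669 : ∀ i, i < 15669 → P i := stepQ 15668 Q15668 (allL N15668 (tt N17788 (iv F226090)) (tt N17399 (iv F224798)) (tt N17826 (iv F226215)) (tt N13423 F216456) (tt N13417 (iv D48438)) (tt N17404 (iv F224822)) (tt N17020 (iv F223083)) (tt N17409 (iv F224841)) (tt N17436 (iv F224956)) (tt N17828 D50598))
theorem Q15670 : ∀ i, i < 15670 → P i := stepQ 15669 Q15669 (allL N15669 (tt N17789 (iv F226092)) (tt N17400 (iv F224803)) (tt N17827 (iv F226216)) (tt N13418 F216457) (tt N17828 (iv F226220)) (tt N13777 F216458) (tt N17021 (iv F223086)) (tt N17421 (iv F224895)) (tt N17829 D50599) (tt N13417 (iv D48439)))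
theorem Q15671 : ∀ i, i < 15671 → P i := stepQ 15670 Q15670 (allL N15670 (tt N17781 (iv F226055)) (tt N17401 (iv F224807)) (tt N17830 D50600) (tt N13419 (iv D48440)) (tt N17831 D50601) (tt N15670 F216459) (tt N13420 F216460) (tt N17022 (iv F223089)) (tt N13443 F216461) (tt N17832 D50602))
theorem Q15672 : ∀ i, i < 15672 → P i := stepQ 15671 Q15671 (allL N15671 (tt N17782 (iv F226060)) (tt N17402 (iv F224811)) (tt N13545 F216462) (tt N17832 (iv F226228)) (tt N17780 (iv F226052)) (tt N15671 F216463) (tt N13421 F216464) (tt N17023 (iv F223094)) (tt N17732 (iv F225907)) (tt N13419 (iv D48441)))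
theorem Q15673 : ∀ i, i < 15673 → P i := stepQ 15672 Q15672 (allL N15672 (tt N17184 (iv F223797)) (tt N17833 D50603) (tt N13420 (iv D48442)) (tt N13546 F216465) (tt N17834 D50604) (tt N13425 F216466) (tt N17830 (iv F226224)) (tt N13422 F216467) (tt N13445 F216468) (tt N17835 D50605))
theorem Q15674 : ∀ i, i < 15674 → P i := stepQ 15673 Q15673 (allL N15673 (tt N17790 (iv F226095)) (tt N17404 (iv F224820)) (tt N17834 (iv F226235)) (tt N17409 (iv F224839)) (tt N13420 (iv D48443)) (tt N17399 (iv F224800)) (tt N17831 (iv F226226)) (tt N13423 F216469) (tt N13446 F216470) (tt N17836 D50606))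
theorem Q15675 : ∀ i, i < 15675 → P i := stepQ 15674 Q15674 (allL N15674 (tt N17791 (iv F226098)) (tt N17405 (iv F224825)) (tt N17835 (iv F226238)) (tt N13421 F216471) (tt N17836 (iv F226242)) (tt N13427 F216472) (tt N17832 (iv F226230)) (tt N13424 F216473) (tt N17837 D50607) (tt N13420 (iv D48444)))
theorem Q15676 : ∀ i, i < 15676 → P i := stepQ 15675 Q15675 (allL N15675 (tt N17838 D50608) (tt N13422 (iv D48445)) (tt N17406 (iv F224829)) (tt N13549 F216474) (tt N17839 D50609) (tt N13428 F216475) (tt N17027 (iv F223107)) (tt N17833 (iv F226233)) (tt N13448 F216476) (tt N17840 D50610))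
theorem Q15677 : ∀ i, i < 15677 → P i := stepQ 15676 Q15676 (allL N15676 (tt N17190 (iv F223825)) (tt N17839 (iv F226250)) (tt N13423 F216477) (tt N17841 D50611) (tt N13422 (iv D48446)) (tt N17842 D50612) (tt N17028 (iv F223111)) (tt N17834 (iv F226236)) (tt N13449 F216478) (tt N17843 D50613))
theorem Q15678 : ∀ i, i < 15678 → P i := stepQ 15677 Q15677 (allL N15677 (tt N17140 (iv F223531)) (tt N17840 (iv F226252)) (tt N13424 F216479) (tt N13551 F216480) (tt N17843 (iv F226260)) (tt N13430 F216481) (tt N17029 (iv F223117)) (tt N17835 (iv F226241)) (tt N17844 D50614) (tt N13422 (iv D48447)))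
theorem Q15679 : ∀ i, i < 15679 → P i := stepQ 15678 Q15678 (allL N15678 (tt N17294 (iv F224313)) (tt N17409 (iv F224838)) (tt N17842 (iv F226256)) (tt N17404 (iv F224821)) (tt N13431 F216482) (tt N13423 (iv D48448)) (tt N17845 D50615) (tt N17399 (iv F224801)) (tt N13451 F216483) (tt N17846 D50616))
theorem Q15680 : ∀ i, i < 15680 → P i := stepQ 15679 Q15679 (allL N15679 (tt N17792 (iv F226102)) (tt N17410 (iv F224843)) (tt N17843 (iv F226259)) (tt N17828 (iv F226219)) (tt N13424 F216484) (tt N17846 (iv F226267)) (tt N17031 (iv F223121)) (tt N17836 (iv F226243)) (tt N17847 D50617) (tt N13423 (iv D48449)))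
theorem Q15681 : ∀ i, i < 15681 → P i := stepQ 15680 Q15680 (allL N15680 (tt N17793 (iv F226104)) (tt N17411 (iv F224845)) (tt N17844 (iv F226261)) (tt N17737 (iv F225917)) (tt N17847 (iv F226268)) (tt N13433 F216485) (tt N17032 (iv F223123)) (tt N17837 (iv F226245)) (tt N13424 (iv D48450)) (tt N13453 F216486))
theorem Q15682 : ∀ i, i < 15682 → P i := stepQ 15681 Q15681 (allL N15681 (tt N17848 D50618) (tt N13425 (iv D48451)) (tt N17412 (iv F224848)) (tt N13553 F216487) (tt N17849 D50619) (tt N17833 (iv F226232)) (tt N15681 F216488) (tt N13428 F216489) (tt N13454 F216490) (tt N17850 D50620))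
theorem Q15683 : ∀ i, i < 15683 → P i := stepQ 15682 Q15682 (allL N15682 (tt N17194 (iv F223845)) (tt N17849 (iv F226274)) (tt N13426 F216491) (tt N15682 F216492) (tt N13425 (iv D48452)) (tt N17398 (iv F224795)) (tt N15682 F216493) (tt N13429 F216494) (tt N13455 F216495) (tt N17851 D50621))
theorem Q15684 : ∀ i, i < 15684 → P i := stepQ 15683 Q15683 (allL N15683 (tt N17144 (iv F223554)) (tt N17850 (iv F226280)) (tt N13427 F216496) (tt N13554 F216497) (tt N17851 (iv F226286)) (tt N17835 (iv F226240)) (tt N15683 F216498) (tt N13430 F216499) (tt N17852 D50622) (tt N13425 (iv D48453)))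
theorem Q15685 : ∀ i, i < 15685 → P i := stepQ 15684 Q15684 (allL N15684 (tt N17296 (iv F224321)) (tt N13777 F216500) (tt N17851 (iv F226284)) (tt N13763 F216501) (tt N13427 F216502) (tt N17400 (iv F224805)) (tt N15684 F216503) (tt N13432 F216504) (tt N17853 D50623) (tt N13426 (iv D48454)))
theorem Q15686 : ∀ i, i < 15686 → P i := stepQ 15685 Q15685 (allL N15685 (tt N17794 (iv F226107)) (tt N17414 (iv F224859)) (tt N17852 (iv F226289)) (tt N17739 (iv F225926)) (tt N17853 (iv F226294)) (tt N17837 (iv F226244)) (tt N15685 F216505) (tt N13433 F216506) (tt N13427 (iv D48455)) (tt N13459 F216507))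
theorem Q15687 : ∀ i, i < 15687 → P i := stepQ 15686 Q15686 (allL N15686 (tt N13428 (iv D48456)) (tt N16339 (iv F219763)) (tt N17095 (iv F223334)) (tt N13555 F216508) (tt N17471 (iv F225077)) (tt N17838 (iv F226248)) (tt N13434 F216509) (tt N17848 (iv F226272)) (tt N13460 F216510) (tt N17854 D50624))
theorem Q15688 : ∀ i, i < 15688 → P i := stepQ 15687 Q15687 (allL N15687 (tt N17471 (iv F225073)) (tt N13429 F216511) (tt N17415 (iv F224866)) (tt N15687 F216512) (tt N13428 (iv D48457)) (tt N17855 D50625) (tt N13435 F216513) (tt N17849 (iv F226278)) (tt N13461 F216514) (tt N17856 D50626))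
theorem Q15689 : ∀ i, i < 15689 → P i := stepQ 15688 Q15688 (allL N15688 (tt N17854 (iv F226298)) (tt N13430 F216515) (tt N17416 (iv F224872)) (tt N13556 F216516) (tt N17856 (iv F226306)) (tt N17840 (iv F226254)) (tt N13436 F216517) (tt N17850 (iv F226283)) (tt N17857 D50627) (tt N13428 (iv D48458)))
theorem Q15690 : ∀ i, i < 15690 → P i := stepQ 15689 Q15689 (allL N15689 (tt N17195 (iv F223851)) (tt N17855 (iv F226301)) (tt N13431 F216518) (tt N15689 F216519) (tt N17842 (iv F226257)) (tt N13429 (iv D48459)) (tt N17858 D50628) (tt N17398 (iv F224796)) (tt N13463 F216520) (tt N17859 D50629))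
theorem Q15691 : ∀ i, i < 15691 → P i := stepQ 15690 Q15690 (allL N15690 (tt N17147 (iv F223568)) (tt N17856 (iv F226304)) (tt N13432 F216521) (tt N15690 F216522) (tt N13430 F216523) (tt N17859 (iv F226317)) (tt N13438 F216524) (tt N17851 (iv F226288)) (tt N17860 D50630) (tt N13429 (iv D48460)))
theorem Q15692 : ∀ i, i < 15692 → P i := stepQ 15691 Q15691 (allL N15691 (tt N17089 (iv F223316)) (tt N17857 (iv F226308)) (tt N13433 F216525) (tt N16992 (iv F222948)) (tt N17860 (iv F226319)) (tt N17844 (iv F226262)) (tt N13439 F216526) (tt N17852 (iv F226291)) (tt N13430 (iv D48461)) (tt N13465 F216527))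
theorem Q15693 : ∀ i, i < 15693 → P i := stepQ 15692 Q15692 (allL N15692 (tt N16160 (iv F218772)) (tt N17420 (iv F224888)) (tt N17858 (iv F226311)) (tt N13778 F216528) (tt N17845 (iv F226264)) (tt N13440 F216529) (tt N13431 (iv D48462)) (tt N17861 D50631) (tt N13466 F216530) (tt N17862 D50632))
theorem Q15694 : ∀ i, i < 15694 → P i := stepQ 15693 Q15693 (allL N15693 (tt N17295 (iv F224317)) (tt N17421 (iv F224892)) (tt N17859 (iv F226315)) (tt N13779 F216531) (tt N17846 (iv F226266)) (tt N13432 F216532) (tt N17862 (iv F226327)) (tt N17400 (iv F224806)) (tt N17863 D50633) (tt N13431 (iv D48463)))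
theorem Q15695 : ∀ i, i < 15695 → P i := stepQ 15694 Q15694 (allL N15694 (tt N17297 (iv F224327)) (tt N17422 (iv F224896)) (tt N17860 (iv F226318)) (tt N17346 (iv F224562)) (tt N13433 F216533) (tt N17863 (iv F226328)) (tt N13442 F216534) (tt N17853 (iv F226296)) (tt N13432 (iv D48464)) (tt N13468 F216535))
theorem Q15696 : ∀ i, i < 15696 → P i := stepQ 15695 Q15695 (allL N15695 (tt N13436 F216536) (tt N16340 (iv F219769)) (tt N17096 (iv F223340)) (tt N13557 F216537) (tt N17472 (iv F225083)) (tt N16337 (iv F219756)) (tt N17854 (iv F226300)) (tt N15695 F216538) (tt N17864 D50634) (tt N13434 (iv D48465)))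
theorem Q15697 : ∀ i, i < 15697 → P i := stepQ 15696 Q15696 (allL N15696 (tt N17472 (iv F225079)) (tt N13438 F216539) (tt N17423 (iv F224903)) (tt N15696 F216540) (tt N13436 F216541) (tt N17469 (iv F225068)) (tt N17856 (iv F226307)) (tt N15696 F216542) (tt N17865 D50635) (tt N13435 (iv D48466)))
theorem Q15698 : ∀ i, i < 15698 → P i := stepQ 15697 Q15697 (allL N15697 (tt N17864 (iv F226330)) (tt N13439 F216543) (tt N17424 (iv F224909)) (tt N16995 (iv F222958)) (tt N17865 (iv F226334)) (tt N17046 (iv F223178)) (tt N17857 (iv F226309)) (tt N15697 F216544) (tt N13436 (iv D48467)) (tt N13473 F216545))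
theorem Q15699 : ∀ i, i < 15699 → P i := stepQ 15698 Q15698 (allL N15698 (tt N16164 (iv F218795)) (tt N17457 (iv F225023)) (tt N13440 F216546) (tt N15698 F216547) (tt N17047 (iv F223185)) (tt N17858 (iv F226313)) (tt N13437 (iv D48468)) (tt N17866 D50636) (tt N13474 F216548) (tt N17867 D50637))
theorem Q15700 : ∀ i, i < 15700 → P i := stepQ 15699 Q15699 (allL N15699 (tt N16167 (iv F218811)) (tt N17469 (iv F225064)) (tt N13441 F216549) (tt N15699 F216550) (tt N17048 (iv F223191)) (tt N13438 F216551) (tt N17867 (iv F226343)) (tt N15699 F216552) (tt N17868 D50638) (tt N13437 (iv D48469)))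
theorem Q15701 : ∀ i, i < 15701 → P i := stepQ 15700 Q15700 (allL N15700 (tt N17103 (iv F223367)) (tt N17865 (iv F226333)) (tt N13442 F216553) (tt N17869 D50639) (tt N13439 F216554) (tt N17868 (iv F226345)) (tt N17860 (iv F226320)) (tt N15700 F216555) (tt N13438 (iv D48470)) (tt N13476 F216556))
theorem Q15702 : ∀ i, i < 15702 → P i := stepQ 15701 Q15701 (allL N15701 (tt N16162 (iv F218783)) (tt N17427 (iv F224920)) (tt N17866 (iv F226337)) (tt N13780 F216557) (tt N17050 (iv F223200)) (tt N17861 (iv F226323)) (tt N15701 F216558) (tt N13440 (iv D48471)) (tt N13478 F216559) (tt N17870 D50640))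
theorem Q15703 : ∀ i, i < 15703 → P i := stepQ 15702 Q15702 (allL N15702 (tt N16166 (iv F218807)) (tt N17428 (iv F224925)) (tt N17867 (iv F226341)) (tt N13781 F216560) (tt N17051 (iv F223204)) (tt N17862 (iv F226326)) (tt N13441 F216561) (tt N17870 (iv F226353)) (tt N17871 D50641) (tt N13440 (iv D48472)))
theorem Q15704 : ∀ i, i < 15704 → P i := stepQ 15703 Q15703 (allL N15703 (tt N16169 (iv F218825)) (tt N17429 (iv F224929)) (tt N17868 (iv F226344)) (tt N16257 (iv F219357)) (tt N17052 (iv F223206)) (tt N13442 F216562) (tt N17871 (iv F226354)) (tt N15703 F216563) (tt N13441 (iv D48473)) (tt N13480 F216564))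
theorem Q15705 : ∀ i, i < 15705 → P i := stepQ 15704 Q15704 (allL N15704 (tt N17795 (iv F226111)) (tt N17189 (iv F223822)) (tt N13443 (iv D48474)) (tt N13486 F216565) (tt N17872 D50642) (tt N15704 F216566) (tt N13445 F216567) (tt N17054 (iv F223216)) (tt N17830 (iv F226225)) (tt N17873 D50643))
theorem Q15706 : ∀ i, i < 15706 → P i := stepQ 15705 Q15705 (allL N15705 (tt N17796 (iv F226115)) (tt N17431 (iv F224936)) (tt N17872 (iv F226356)) (tt N17648 (iv F225663)) (tt N13443 (iv D48475)) (tt N17874 D50644) (tt N13446 F216568) (tt N17055 (iv F223218)) (tt N17831 (iv F226227)) (tt N17875 D50645))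
theorem Q15707 : ∀ i, i < 15707 → P i := stepQ 15706 Q15706 (allL N15706 (tt N17797 (iv F226117)) (tt N17432 (iv F224938)) (tt N17873 (iv F226358)) (tt N13444 F216569) (tt N17875 (iv F226363)) (tt N15706 F216570) (tt N13447 F216571) (tt N17056 (iv F223222)) (tt N17876 D50646) (tt N13443 (iv D48476)))
theorem Q15708 : ∀ i, i < 15708 → P i := stepQ 15707 Q15707 (allL N15707 (tt N17178 (iv F223759)) (tt N13445 (iv D48477)) (tt N17433 (iv F224942)) (tt N13488 F216572) (tt N17877 D50647) (tt N13454 F216573) (tt N17189 (iv F223824)) (tt N13448 F216574) (tt N17833 (iv F226234)) (tt N17878 D50648))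
theorem Q15709 : ∀ i, i < 15709 → P i := stepQ 15708 Q15708 (allL N15708 (tt N17799 (iv F226124)) (tt N17877 (iv F226367)) (tt N13446 F216575) (tt N17879 D50649) (tt N13445 (iv D48478)) (tt N17880 D50650) (tt N17872 (iv F226357)) (tt N13449 F216576) (tt N17834 (iv F226237)) (tt N17881 D50651))
theorem Q15710 : ∀ i, i < 15710 → P i := stepQ 15709 Q15709 (allL N15709 (tt N17800 (iv F226127)) (tt N17878 (iv F226370)) (tt N13447 F216577) (tt N13490 F216578) (tt N17881 (iv F226381)) (tt N13456 F216579) (tt N17873 (iv F226361)) (tt N13450 F216580) (tt N17882 D50652) (tt N13445 (iv D48479)))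
theorem Q15711 : ∀ i, i < 15711 → P i := stepQ 15710 Q15710 (allL N15710 (tt N17298 (iv F224333)) (tt N17436 (iv F224952)) (tt N17880 (iv F226377)) (tt N17235 (iv F224050)) (tt N13457 F216581) (tt N13446 (iv D48480)) (tt N17883 D50653) (tt N13451 F216582) (tt N17399 (iv F224802)) (tt N17884 D50654))
theorem Q15712 : ∀ i, i < 15712 → P i := stepQ 15711 Q15711 (allL N15711 (tt N17801 (iv F226132)) (tt N17437 (iv F224957)) (tt N17881 (iv F226380)) (tt N17653 (iv F225676)) (tt N13447 F216583) (tt N17884 (iv F226388)) (tt N17875 (iv F226364)) (tt N13452 F216584) (tt N17885 D50655) (tt N13446 (iv D48481)))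
theorem Q15713 : ∀ i, i < 15713 → P i := stepQ 15712 Q15712 (allL N15712 (tt N17802 (iv F226135)) (tt N17438 (iv F224960)) (tt N17882 (iv F226383)) (tt N17750 (iv F225958)) (tt N17885 (iv F226390)) (tt N13459 F216585) (tt N17876 (iv F226366)) (tt N13453 F216586) (tt N13447 (iv D48482)) (tt N17837 (iv F226246)))
theorem Q15714 : ∀ i, i < 15714 → P i := stepQ 15713 Q15713 (allL N15713 (tt N13448 (iv D48483)) (tt N17803 (iv F226138)) (tt N17439 (iv F224963)) (tt N13493 F216587) (tt N17886 D50656) (tt N13460 F216588) (tt N17063 (iv F223240)) (tt N17178 (iv F223762)) (tt N17838 (iv F226249)) (tt N17887 D50657))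
theorem Q15715 : ∀ i, i < 15715 → P i := stepQ 15714 Q15714 (allL N15714 (tt N17886 (iv F226392)) (tt N13449 F216589) (tt N17440 (iv F224967)) (tt N17888 D50658) (tt N13448 (iv D48484)) (tt N17889 D50659) (tt N17064 (iv F223242)) (tt N17877 (iv F226369)) (tt N17839 (iv F226251)) (tt N17890 D50660))
theorem Q15716 : ∀ i, i < 15716 → P i := stepQ 15715 Q15715 (allL N15715 (tt N17887 (iv F226393)) (tt N13450 F216590) (tt N17441 (iv F224969)) (tt N13495 F216591) (tt N17890 (iv F226402)) (tt N13462 F216592) (tt N17065 (iv F223246)) (tt N17878 (iv F226373)) (tt N17891 D50661) (tt N13448 (iv D48485)))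
theorem Q15717 : ∀ i, i < 15717 → P i := stepQ 15716 Q15716 (allL N15716 (tt N17806 (iv F226145)) (tt N17888 (iv F226396)) (tt N17658 (iv F225687)) (tt N13449 (iv D48486)) (tt N13496 F216593) (tt N17892 D50662) (tt N17066 (iv F223248)) (tt N17879 (iv F226376)) (tt N17893 D50663) (tt N17894 D50664))
theorem Q15718 : ∀ i, i < 15718 → P i := stepQ 15717 Q15717 (allL N15717 (tt N17301 (iv F224345)) (tt N17889 (iv F226399)) (tt N13451 F216594) (tt N17892 (iv F226405)) (tt N13463 F216595) (tt N13449 (iv D48487)) (tt N17895 D50665) (tt N17880 (iv F226379)) (tt N17842 (iv F226258)) (tt N17896 D50666))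
theorem Q15719 : ∀ i, i < 15719 → P i := stepQ 15718 Q15718 (allL N15718 (tt N17807 (iv F226147)) (tt N17890 (iv F226401)) (tt N13452 F216596) (tt N17894 (iv F226408)) (tt N13450 F216597) (tt N17896 (iv F226414)) (tt N17068 (iv F223253)) (tt N17881 (iv F226382)) (tt N17897 D50667) (tt N13449 (iv D48488)))
theorem Q15720 : ∀ i, i < 15720 → P i := stepQ 15719 Q15719 (allL N15719 (tt N17808 (iv F226150)) (tt N17891 (iv F226403)) (tt N13453 F216598) (tt N17898 D50668) (tt N17897 (iv F226416)) (tt N13465 F216599) (tt N17069 (iv F223256)) (tt N17882 (iv F226385)) (tt N13450 (iv D48489)) (tt N17844 (iv F226263)))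
theorem Q15721 : ∀ i, i < 15721 → P i := stepQ 15720 Q15720 (allL N15720 (tt N16174 (iv F218852)) (tt N17446 (iv F224979)) (tt N17895 (iv F226410)) (tt N17662 (iv F225695)) (tt N13466 F216600) (tt N17070 (iv F223258)) (tt N13451 (iv D48490)) (tt N17899 D50669) (tt N17845 (iv F226265)) (tt N17900 D50670))
theorem Q15722 : ∀ i, i < 15722 → P i := stepQ 15721 Q15721 (allL N15721 (tt N17303 (iv F224352)) (tt N17447 (iv F224981)) (tt N17896 (iv F226412)) (tt N17663 (iv F225697)) (tt N13467 F216601) (tt N13452 F216602) (tt N17900 (iv F226421)) (tt N17884 (iv F226389)) (tt N17901 D50671) (tt N13451 (iv D48491)))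
theorem Q15723 : ∀ i, i < 15723 → P i := stepQ 15722 Q15722 (allL N15722 (tt N17809 (iv F226153)) (tt N17448 (iv F224984)) (tt N17897 (iv F226415)) (tt N17902 D50672) (tt N13453 F216603) (tt N17901 (iv F226423)) (tt N17072 (iv F223262)) (tt N17885 (iv F226391)) (tt N13452 (iv D48492)) (tt N17847 (iv F226269)))
theorem Q15724 : ∀ i, i < 15724 → P i := stepQ 15723 Q15723 (allL N15723 (tt N13454 (iv D48493)) (tt N17810 (iv F226155)) (tt N17449 (iv F224986)) (tt N13500 F216604) (tt N17903 D50673) (tt N17178 (iv F223760)) (tt N15723 F216605) (tt N13460 F216606) (tt N17848 (iv F226273)) (tt N17904 D50674))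
theorem Q15725 : ∀ i, i < 15725 → P i := stepQ 15724 Q15724 (allL N15724 (tt N17903 (iv F226424)) (tt N13455 F216607) (tt N17450 (iv F224991)) (tt N13714 F216608) (tt N13454 (iv D48494)) (tt N17905 D50675) (tt N15724 F216609) (tt N13461 F216610) (tt N17849 (iv F226279)) (tt N17906 D50676))
theorem Q15726 : ∀ i, i < 15726 → P i := stepQ 15725 Q15725 (allL N15725 (tt N17904 (iv F226428)) (tt N13456 F216611) (tt N17451 (iv F224997)) (tt N13501 F216612) (tt N17906 (iv F226437)) (tt N17878 (iv F226372)) (tt N15725 F216613) (tt N13462 F216614) (tt N17907 D50677) (tt N13454 (iv D48495)))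
theorem Q15727 : ∀ i, i < 15727 → P i := stepQ 15726 Q15726 (allL N15726 (tt N16365 (iv F219882)) (tt N17905 (iv F226432)) (tt N13457 F216615) (tt N13716 F216616) (tt N17880 (iv F226378)) (tt N13455 (iv D48496)) (tt N17385 (iv F224731)) (tt N13463 F216617) (tt N17398 (iv F224797)) (tt N17908 D50678))
theorem Q15728 : ∀ i, i < 15728 → P i := stepQ 15727 Q15727 (allL N15727 (tt N17306 (iv F224365)) (tt N17906 (iv F226435)) (tt N13458 F216618) (tt N13717 F216619) (tt N13456 F216620) (tt N17908 (iv F226446)) (tt N15727 F216621) (tt N13464 F216622) (tt N17909 D50679) (tt N13455 (iv D48497)))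
theorem Q15729 : ∀ i, i < 15729 → P i := stepQ 15728 Q15728 (allL N15728 (tt N17812 (iv F226163)) (tt N17907 (iv F226440)) (tt N13459 F216623) (tt N17910 D50680) (tt N17909 (iv F226449)) (tt N17882 (iv F226384)) (tt N15728 F216624) (tt N13465 F216625) (tt N13456 (iv D48498)) (tt N17852 (iv F226292)))
theorem Q15730 : ∀ i, i < 15730 → P i := stepQ 15729 Q15729 (allL N15729 (tt N17276 (iv F224210)) (tt N16749 (iv F221865)) (tt N17385 (iv F224729)) (tt N13481 F216626) (tt N17883 (iv F226386)) (tt N15729 F216627) (tt N13457 (iv D48499)) (tt N17911 D50681) (tt N16288 (iv F219534)) (tt N17912 D50682))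
theorem Q15731 : ∀ i, i < 15731 → P i := stepQ 15730 Q15730 (allL N15730 (tt N17299 (iv F224337)) (tt N17455 (iv F225013)) (tt N17908 (iv F226444)) (tt N13482 F216628) (tt N17884 (iv F226387)) (tt N13458 F216629) (tt N17912 (iv F226461)) (tt N13467 F216630) (tt N17913 D50683) (tt N13457 (iv D48500)))
theorem Q15732 : ∀ i, i < 15732 → P i := stepQ 15731 Q15731 (allL N15731 (tt N17307 (iv F224371)) (tt N17456 (iv F225017)) (tt N17909 (iv F226448)) (tt N17364 (iv F224630)) (tt N13459 F216631) (tt N17913 (iv F226462)) (tt N15731 F216632) (tt N13468 F216633) (tt N13458 (iv D48501)) (tt N17853 (iv F226297)))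
theorem Q15733 : ∀ i, i < 15733 → P i := stepQ 15732 Q15732 (allL N15732 (tt N13461 F216634) (tt N17308 (iv F224377)) (tt N17457 (iv F225024)) (tt N13721 F216635) (tt N13460 (iv D48502)) (tt N17914 D50684) (tt N13469 F216636) (tt N17903 (iv F226427)) (tt N17471 (iv F225078)) (tt N17915 D50685))
theorem Q15734 : ∀ i, i < 15734 → P i := stepQ 15733 Q15733 (allL N15733 (tt N13462 F216637) (tt N17813 (iv F226168)) (tt N17458 (iv F225029)) (tt N13503 F216638) (tt N17915 (iv F226468)) (tt N17887 (iv F226395)) (tt N13470 F216639) (tt N17904 (iv F226431)) (tt N17916 D50686) (tt N13460 (iv D48503)))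
theorem Q15735 : ∀ i, i < 15735 → P i := stepQ 15734 Q15734 (allL N15734 (tt N17914 (iv F226464)) (tt N13463 F216640) (tt N17459 (iv F225033)) (tt N13723 F216641) (tt N17889 (iv F226400)) (tt N13461 (iv D48504)) (tt N17917 D50687) (tt N17905 (iv F226434)) (tt N17855 (iv F226303)) (tt N17918 D50688))
theorem Q15736 : ∀ i, i < 15736 → P i := stepQ 15735 Q15735 (allL N15735 (tt N17915 (iv F226466)) (tt N13464 F216642) (tt N17460 (iv F225036)) (tt N13724 F216643) (tt N13462 F216644) (tt N17918 (iv F226477)) (tt N13472 F216645) (tt N17906 (iv F226439)) (tt N17919 D50689) (tt N13461 (iv D48505)))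
theorem Q15737 : ∀ i, i < 15737 → P i := stepQ 15736 Q15736 (allL N15736 (tt N17916 (iv F226470)) (tt N13465 F216646) (tt N17461 (iv F225041)) (tt N17920 D50690) (tt N17919 (iv F226479)) (tt N17891 (iv F226404)) (tt N13473 F216647) (tt N17907 (iv F226443)) (tt N13462 (iv D48506)) (tt N17857 (iv F226310)))
theorem Q15738 : ∀ i, i < 15738 → P i := stepQ 15737 Q15737 (allL N15737 (tt N16173 (iv F218848)) (tt N17917 (iv F226472)) (tt N13466 F216648) (tt N13726 F216649) (tt N17895 (iv F226411)) (tt N13474 F216650) (tt N13463 (iv D48507)) (tt N17921 D50691) (tt N17858 (iv F226314)) (tt N17922 D50692))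
theorem Q15739 : ∀ i, i < 15739 → P i := stepQ 15738 Q15738 (allL N15738 (tt N17302 (iv F224348)) (tt N17918 (iv F226475)) (tt N13467 F216651) (tt N13727 F216652) (tt N17896 (iv F226413)) (tt N13464 F216653) (tt N17922 (iv F226491)) (tt N17908 (iv F226447)) (tt N17923 D50693) (tt N13463 (iv D48508)))
theorem Q15740 : ∀ i, i < 15740 → P i := stepQ 15739 Q15739 (allL N15739 (tt N17310 (iv F224388)) (tt N17919 (iv F226478)) (tt N13468 F216654) (tt N17924 D50694) (tt N13465 F216655) (tt N17923 (iv F226493)) (tt N13476 F216656) (tt N17909 (iv F226451)) (tt N13464 (iv D48509)) (tt N17860 (iv F226321)))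
theorem Q15741 : ∀ i, i < 15741 → P i := stepQ 15740 Q15740 (allL N15740 (tt N17042 (iv F223163)) (tt N17920 (iv F226481)) (tt N16971 (iv F222857)) (tt N13465 (iv D48510)) (tt N17925 D50695) (tt N17898 (iv F226417)) (tt N13477 F216657) (tt N17910 (iv F226454)) (tt N13505 F216658) (tt N16992 (iv F222950)))
theorem Q15742 : ∀ i, i < 15742 → P i := stepQ 15741 Q15741 (allL N15741 (tt N16171 (iv F218838)) (tt N17466 (iv F225054)) (tt N17921 (iv F226485)) (tt N13483 F216659) (tt N17899 (iv F226419)) (tt N13478 F216660) (tt N17911 (iv F226458)) (tt N13466 (iv D48511)) (tt N17861 (iv F226324)) (tt N17926 D50696))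
theorem Q15743 : ∀ i, i < 15743 → P i := stepQ 15742 Q15742 (allL N15742 (tt N16175 (iv F218855)) (tt N17467 (iv F225057)) (tt N17922 (iv F226488)) (tt N13484 F216661) (tt N17900 (iv F226420)) (tt N13479 F216662) (tt N13467 F216663) (tt N17926 (iv F226500)) (tt N17927 D50697) (tt N13466 (iv D48512)))
theorem Q15744 : ∀ i, i < 15744 → P i := stepQ 15743 Q15743 (allL N15743 (tt N17304 (iv F224356)) (tt N17468 (iv F225061)) (tt N17923 (iv F226492)) (tt N17358 (iv F224602)) (tt N17901 (iv F226422)) (tt N13468 F216664) (tt N17927 (iv F226502)) (tt N17913 (iv F226463)) (tt N13467 (iv D48513)) (tt N17863 (iv F226329)))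
theorem Q15745 : ∀ i, i < 15745 → P i := stepQ 15744 Q15744 (allL N15744 (tt N13472 F216665) (tt N17311 (iv F224393)) (tt N17469 (iv F225065)) (tt N13734 F216666) (tt N13470 F216667) (tt N17423 (iv F224906)) (tt N17915 (iv F226469)) (tt N15744 F216668) (tt N17928 D50698) (tt N13469 (iv D48514)))
theorem Q15746 : ∀ i, i < 15746 → P i := stepQ 15745 Q15745 (allL N15745 (tt N13473 F216669) (tt N17815 (iv F226174)) (tt N17470 (iv F225071)) (tt N16341 (iv F219777)) (tt N17928 (iv F226504)) (tt N17094 (iv F223330)) (tt N17916 (iv F226471)) (tt N15745 F216670) (tt N13470 (iv D48515)) (tt N17864 (iv F226332)))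
theorem Q15747 : ∀ i, i < 15747 → P i := stepQ 15746 Q15746 (allL N15746 (tt N17415 (iv F224864)) (tt N13474 F216671) (tt N17471 (iv F225075)) (tt N13736 F216672) (tt N17095 (iv F223336)) (tt N17917 (iv F226474)) (tt N13471 (iv D48516)) (tt N17929 D50699) (tt N17457 (iv F225027)) (tt N17930 D50700))
theorem Q15748 : ∀ i, i < 15748 → P i := stepQ 15747 Q15747 (allL N15747 (tt N17423 (iv F224901)) (tt N13475 F216673) (tt N17472 (iv F225081)) (tt N13737 F216674) (tt N17096 (iv F223342)) (tt N13472 F216675) (tt N17930 (iv F226512)) (tt N15747 F216676) (tt N17931 D50701) (tt N13471 (iv D48517)))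
theorem Q15749 : ∀ i, i < 15749 → P i := stepQ 15748 Q15748 (allL N15748 (tt N17928 (iv F226503)) (tt N13476 F216677) (tt N17473 (iv F225087)) (tt N17932 D50702) (tt N13473 F216678) (tt N17931 (iv F226514)) (tt N17919 (iv F226480)) (tt N15748 F216679) (tt N13472 (iv D48518)) (tt N17865 (iv F226336)))
theorem Q15750 : ∀ i, i < 15750 → P i := stepQ 15749 Q15749 (allL N15749 (tt N16341 (iv F219775)) (tt N13477 F216680) (tt N16272 (iv F219435)) (tt N13473 (iv D48519)) (tt N16269 (iv F219418)) (tt N17098 (iv F223349)) (tt N17920 (iv F226482)) (tt N15749 F216681) (tt N13507 F216682) (tt N16995 (iv F222961)))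
theorem Q15751 : ∀ i, i < 15751 → P i := stepQ 15750 Q15750 (allL N15750 (tt N16176 (iv F218860)) (tt N17929 (iv F226507)) (tt N13478 F216683) (tt N13740 F216684) (tt N17099 (iv F223355)) (tt N17921 (iv F226487)) (tt N15750 F216685) (tt N13474 (iv D48520)) (tt N17866 (iv F226340)) (tt N17933 D50703))
theorem Q15752 : ∀ i, i < 15752 → P i := stepQ 15751 Q15751 (allL N15751 (tt N16181 (iv F218888)) (tt N17930 (iv F226510)) (tt N13479 F216686) (tt N13741 F216687) (tt N17100 (iv F223359)) (tt N17922 (iv F226490)) (tt N13475 F216688) (tt N17933 (iv F226522)) (tt N17934 D50704) (tt N13474 (iv D48521)))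
theorem Q15753 : ∀ i, i < 15753 → P i := stepQ 15752 Q15752 (allL N15752 (tt N16187 (iv F218919)) (tt N17931 (iv F226513)) (tt N13480 F216689) (tt N17935 D50705) (tt N17101 (iv F223362)) (tt N13476 F216690) (tt N17934 (iv F226524)) (tt N15752 F216691) (tt N13475 (iv D48522)) (tt N17868 (iv F226347)))
theorem Q15754 : ∀ i, i < 15754 → P i := stepQ 15753 Q15753 (allL N15753 (tt N17313 (iv F224403)) (tt N17932 (iv F226516)) (tt N17373 (iv F224664)) (tt N13476 (iv D48523)) (tt N17936 D50706) (tt N17935 (iv F226525)) (tt N17924 (iv F226494)) (tt N15753 F216692) (tt N13743 F216693) (tt N17869 (iv F226350)))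
theorem Q15755 : ∀ i, i < 15755 → P i := stepQ 15754 Q15754 (allL N15754 (tt N17049 (iv F223194)) (tt N16269 (iv F219416)) (tt N16972 (iv F222862)) (tt N17936 (iv F226528)) (tt N13477 (iv D48524)) (tt N17371 (iv F224657)) (tt N17925 (iv F226496)) (tt N15754 F216694) (tt N13508 F216695) (tt N16996 (iv F222966)))
theorem Q15756 : ∀ i, i < 15756 → P i := stepQ 15755 Q15755 (allL N15755 (tt N16178 (iv F218870)) (tt N17480 (iv F225106)) (tt N17933 (iv F226519)) (tt N13485 F216696) (tt N17104 (iv F223373)) (tt N17926 (iv F226499)) (tt N15755 F216697) (tt N13479 F216698) (tt N17937 D50707) (tt N13478 (iv D48525)))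
theorem Q15757 : ∀ i, i < 15757 → P i := stepQ 15756 Q15756 (allL N15756 (tt N16184 (iv F218901)) (tt N17481 (iv F225110)) (tt N17934 (iv F226523)) (tt N16268 (iv F219413)) (tt N17105 (iv F223376)) (tt N17927 (iv F226501)) (tt N13480 F216699) (tt N17937 (iv F226532)) (tt N13479 (iv D48526)) (tt N17871 (iv F226355)))
theorem Q15758 : ∀ i, i < 15758 → P i := stepQ 15757 Q15757 (allL N15757 (tt N16170 (iv F218831)) (tt N16748 (iv F221859)) (tt N13747 F216700) (tt N17911 (iv F226456)) (tt N16119 (iv F218541)) (tt N15757 F216701) (tt N13483 F216702) (tt N13481 (iv D48527)) (tt N13783 F216703) (tt N17938 D50708))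
theorem Q15759 : ∀ i, i < 15759 → P i := stepQ 15758 Q15758 (allL N15758 (tt N17277 (iv F224215)) (tt N16750 (iv F221869)) (tt N13748 F216704) (tt N17912 (iv F226459)) (tt N16121 (iv F218554)) (tt N15758 F216705) (tt N13482 F216706) (tt N17938 (iv F226536)) (tt N17349 (iv F224576)) (tt N13481 (iv D48528)))
theorem Q15760 : ∀ i, i < 15760 → P i := stepQ 15759 Q15759 (allL N15759 (tt N16172 (iv F218842)) (tt N17482 (iv F225112)) (tt N13749 F216707) (tt N17926 (iv F226498)) (tt N17689 (iv F225757)) (tt N13485 F216708) (tt N17938 (iv F226535)) (tt N13484 F216709) (tt N16260 (iv F219376)) (tt N13483 (iv D48529)))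
theorem Q15761 : ∀ i, i < 15761 → P i := stepQ 15760 Q15760 (allL N15760 (tt N17816 (iv F226176)) (tt N17139 (iv F223525)) (tt N13487 F216710) (tt N17873 (iv F226359)) (tt N17136 (iv F223514)) (tt N15760 F216711) (tt N13490 F216712) (tt N17122 (iv F223442)) (tt N17135 (iv F223511)) (tt N13486 (iv D48530)))
theorem Q15762 : ∀ i, i < 15762 → P i := stepQ 15761 Q15761 (allL N15761 (tt N17179 (iv F223763)) (tt N13490 F216713) (tt N13499 F216714) (tt N17878 (iv F226371)) (tt N13498 F216715) (tt N13501 F216716) (tt N17139 (iv F223529)) (tt N13495 F216717) (tt N13497 F216718) (tt N13488 (iv D48531)))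
theorem Q15763 : ∀ i, i < 15763 → P i := stepQ 15762 Q15762 (allL N15762 (tt N16330 (iv F219723)) (tt N13566 F216719) (tt N16266 (iv F219403)) (tt N13489 (iv D48532)) (tt N17879 (iv F226375)) (tt N13569 F216720) (tt N17186 (iv F223810)) (tt N13496 F216721) (tt N16978 (iv F222891)) (tt N17939 D50709))
theorem Q15764 : ∀ i, i < 15764 → P i := stepQ 15763 Q15763 (allL N15763 (tt N17818 (iv F226184)) (tt N13498 F216722) (tt N13491 F216723) (tt N17939 (iv F226538)) (tt N13490 F216724) (tt N13504 F216725) (tt N17136 (iv F223516)) (tt N13497 F216726) (tt N13495 F216727) (tt N13489 (iv D48533)))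
theorem Q15765 : ∀ i, i < 15765 → P i := stepQ 15764 Q15764 (allL N15764 (tt N17174 (iv F223734)) (tt N13497 F216728) (tt N13492 F216729) (tt N17940 D50710) (tt N13495 F216730) (tt N13502 F216731) (tt N17135 (iv F223510)) (tt N13498 F216732) (tt N13490 (iv D48534)) (tt N13494 F216733))
theorem Q15766 : ∀ i, i < 15766 → P i := stepQ 15765 Q15765 (allL N15765 (tt N13495 F216734) (tt N17819 (iv F226191)) (tt N13509 F216735) (tt N17887 (iv F226394)) (tt N17174 (iv F223736)) (tt N13503 F216736) (tt N17133 (iv F223502)) (tt N17179 (iv F223768)) (tt N17818 (iv F226189)) (tt N13493 (iv D48535)))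
theorem Q15767 : ∀ i, i < 15767 → P i := stepQ 15766 Q15766 (allL N15766 (tt N17024 (iv F223095)) (tt N13496 F216737) (tt N16963 (iv F222818)) (tt N13494 (iv D48536)) (tt N17888 (iv F226397)) (tt N13567 F216738) (tt N17134 (iv F223505)) (tt N13566 F216739) (tt N16975 (iv F222879)) (tt N17940 (iv F226544)))
theorem Q15768 : ∀ i, i < 15768 → P i := stepQ 15767 Q15767 (allL N15767 (tt N17822 (iv F226200)) (tt N16975 F222880) (tt N17698 (iv F225789)) (tt N13565 F216740) (tt N17893 (iv F226407)) (tt N13750 F216741) (tt N17137 (iv F223520)) (tt N16978 (iv F222890)) (tt N13496 (iv D48537)) (tt N17941 D50711))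
theorem Q15769 : ∀ i, i < 15769 → P i := stepQ 15768 Q15768 (allL N15768 (tt N17823 (iv F226203)) (tt N17940 (iv F226541)) (tt N17699 (iv F225792)) (tt N13497 F216742) (tt N17894 (iv F226409)) (tt N13751 F216743) (tt N17138 (iv F223523)) (tt N17939 (iv F226540)) (tt N17942 D50712) (tt N13496 (iv D48538)))
theorem Q15770 : ∀ i, i < 15770 → P i := stepQ 15769 Q15769 (allL N15769 (tt N17029 (iv F223113)) (tt N17939 (iv F226537)) (tt N16966 (iv F222832)) (tt N13498 (iv D48539)) (tt N17943 D50713) (tt N13505 F216744) (tt N17140 (iv F223534)) (tt N17940 (iv F226543)) (tt N17898 (iv F226418)) (tt N13566 F216745))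
theorem Q15771 : ∀ i, i < 15771 → P i := stepQ 15770 Q15770 (allL N15770 (tt N13501 F216746) (tt N17824 (iv F226207)) (tt N13510 F216747) (tt N17904 (iv F226429)) (tt N13691 F216748) (tt N17179 (iv F223766)) (tt N15770 F216749) (tt N13503 F216750) (tt N13690 F216751) (tt N13500 (iv D48540)))
theorem Q15772 : ∀ i, i < 15772 → P i := stepQ 15771 Q15771 (allL N15771 (tt N17035 (iv F223136)) (tt N13751 F216752) (tt N16968 (iv F222843)) (tt N13502 (iv D48541)) (tt N17944 D50714) (tt N17940 (iv F226542)) (tt N15771 F216753) (tt N13505 F216754) (tt N17910 (iv F226455)) (tt N13567 F216755))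
theorem Q15773 : ∀ i, i < 15773 → P i := stepQ 15772 Q15772 (allL N15772 (tt N13504 F216756) (tt N17181 (iv F223778)) (tt N13511 F216757) (tt N16331 (iv F219729)) (tt N13685 F216758) (tt N17818 (iv F226187)) (tt N13506 F216759) (tt N13690 F216760) (tt N13503 (iv D48542)) (tt N13568 F216761))
theorem Q15774 : ∀ i, i < 15774 → P i := stepQ 15773 Q15773 (allL N15773 (tt N16331 (iv F219727)) (tt N13505 F216762) (tt N16267 (iv F219407)) (tt N13504 (iv D48543)) (tt N16265 (iv F219399)) (tt N17939 (iv F226539)) (tt N13507 F216763) (tt N13751 F216764) (tt N17920 (iv F226484)) (tt N13569 F216765))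
theorem Q15775 : ∀ i, i < 15775 → P i := stepQ 15774 Q15774 (allL N15774 (tt N17041 (iv F223158)) (tt N16265 (iv F219396)) (tt N16970 (iv F222852)) (tt N13752 F216766) (tt N13505 (iv D48544)) (tt N17945 D50715) (tt N13508 F216767) (tt N17944 (iv F226552)) (tt N17925 (iv F226497)) (tt N13570 F216768))
theorem Q15776 : ∀ i, i < 15776 → P i := stepQ 15775 Q15775 (allL N15775 (tt N13524 F216769) (tt N15775 F216770) (tt N16224 (iv F219157)) (tt N16847 (iv F222257)) (tt N13517 F216771) (tt N13527 F216772) (tt N13514 F216773) (tt N17155 (iv F223621)) (tt N13513 (iv D48545)) (tt N17785 (iv F226079)))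
theorem Q15777 : ∀ i, i < 15777 → P i := stepQ 15776 Q15776 (allL N15776 (tt N16937 (iv F222692)) (tt N15776 F216774) (tt N17333 (iv F224501)) (tt N16848 (iv F222264)) (tt N13518 F216775) (tt N13786 F216776) (tt N17785 (iv F226078)) (tt N13516 F216777) (tt N13540 F216778) (tt N13514 (iv D48546)))
theorem Q15778 : ∀ i, i < 15778 → P i := stepQ 15777 Q15777 (allL N15777 (tt N16653 (iv F221421)) (tt N15777 F216779) (tt N16923 (iv F222624)) (tt N13516 F216780) (tt N16598 (iv F221209)) (tt N13787 F216781) (tt N17157 (iv F223634)) (tt N16848 (iv F222266)) (tt N17946 D50716) (tt N13515 (iv D48547)))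
theorem Q15779 : ∀ i, i < 15779 → P i := stepQ 15778 Q15778 (allL N15778 (tt N16935 (iv F222677)) (tt N15778 F216782) (tt N17732 (iv F225904)) (tt N16879 (iv F222428)) (tt N17785 (iv F226076)) (tt N15778 F216783) (tt N13518 F216784) (tt N17158 (iv F223640)) (tt N13545 F216785) (tt N13517 (iv D48548)))
theorem Q15780 : ∀ i, i < 15780 → P i := stepQ 15779 Q15779 (allL N15779 (tt N13526 F216786) (tt N15779 F216787) (tt N16225 (iv F219163)) (tt N13656 (iv F216791)) (tt N15779 F216788) (tt N17155 (iv F223619)) (tt N15779 F216789) (tt N13527 F216790) (tt N13525 (iv D48549)) (tt N17786 (iv F226085)))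
theorem Q15781 : ∀ i, i < 15781 → P i := stepQ 15780 Q15780 (allL N15780 (tt N13541 F216792) (tt N16196 (iv F218973)) (tt N13529 (iv D48550)) (tt N17787 (iv F226088)) (tt N17191 (iv F223831)) (tt N13788 F216793) (tt N17160 (iv F223654)) (tt N16198 (iv F218989)) (tt N15780 F216794) (tt N17947 D50717))
theorem Q15782 : ∀ i, i < 15782 → P i := stepQ 15781 Q15781 (allL N15781 (tt N13543 F216795) (tt N16210 (iv F219059)) (tt N17947 (iv F226561)) (tt N13530 F216796) (tt N17141 (iv F223538)) (tt N13789 F216797) (tt N17161 (iv F223662)) (tt N16213 (iv F219085)) (tt N17948 D50718) (tt N13529 (iv D48551)))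
theorem Q15783 : ∀ i, i < 15783 → P i := stepQ 15782 Q15782 (allL N15782 (tt N13565 F216798) (tt N17125 (iv F223457)) (tt N15782 F216799) (tt N17822 (iv F226201)) (tt N17188 (iv F223818)) (tt N13753 F216800) (tt N17164 (iv F223685)) (tt N17010 (iv F223036)) (tt N13537 (iv D48552)) (tt N17949 D50719))
theorem Q15784 : ∀ i, i < 15784 → P i := stepQ 15783 Q15783 (allL N15783 (tt N16198 F218991) (tt N17950 D50720) (tt N13539 (iv D48553)) (tt N17417 (iv F224876)) (tt N17951 D50721) (tt N13790 F216801) (tt N17314 (iv F224410)) (tt N13541 F216802) (tt N15783 F216803) (tt N17952 D50722))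
theorem Q15785 : ∀ i, i < 15785 → P i := stepQ 15784 Q15784 (allL N15784 (tt N16212 (iv F219073)) (tt N15784 F216804) (tt N17951 (iv F226575)) (tt N13547 F216805) (tt N13539 (iv D48554)) (tt N15784 F216806) (tt N16378 (iv F219952)) (tt N13542 F216807) (tt N15784 F216808) (tt N17953 D50723))
theorem Q15786 : ∀ i, i < 15786 → P i := stepQ 15785 Q15785 (allL N15785 (tt N16213 (iv F219080)) (tt N15785 F216809) (tt N17952 (iv F226579)) (tt N13540 F216810) (tt N17953 (iv F226584)) (tt N13791 F216811) (tt N17326 (iv F224468)) (tt N13543 F216812) (tt N17954 D50724) (tt N13539 (iv D48555)))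
theorem Q15787 : ∀ i, i < 15787 → P i := stepQ 15786 Q15786 (allL N15786 (tt N17955 D50725) (tt N13541 (iv D48556)) (tt N15786 F216813) (tt N17825 (iv F226213)) (tt N17956 D50726) (tt N13792 F216814) (tt N17168 (iv F223706)) (tt N17950 (iv F226573)) (tt N15786 F216815) (tt N17957 D50727))
theorem Q15788 : ∀ i, i < 15788 → P i := stepQ 15787 Q15787 (allL N15787 (tt N17191 (iv F223829)) (tt N17956 (iv F226596)) (tt N13542 F216816) (tt N17958 D50728) (tt N13541 (iv D48557)) (tt N15787 F216817) (tt N17169 (iv F223710)) (tt N17951 (iv F226577)) (tt N15787 F216818) (tt N17959 D50729))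
theorem Q15789 : ∀ i, i < 15789 → P i := stepQ 15788 Q15788 (allL N15788 (tt N17947 (iv F226560)) (tt N17957 (iv F226600)) (tt N13543 F216819) (tt N17827 (iv F226217)) (tt N17959 (iv F226606)) (tt N13793 F216820) (tt N17170 (iv F223716)) (tt N17952 (iv F226581)) (tt N17960 D50730) (tt N13541 (iv D48558)))
theorem Q15790 : ∀ i, i < 15790 → P i := stepQ 15789 Q15789 (allL N15789 (tt N17141 (iv F223536)) (tt N15789 F216821) (tt N17959 (iv F226605)) (tt N13552 F216822) (tt N13543 F216823) (tt N15789 F216824) (tt N17171 (iv F223722)) (tt N17953 (iv F226586)) (tt N17961 D50731) (tt N13542 (iv D48559)))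
theorem Q15791 : ∀ i, i < 15791 → P i := stepQ 15790 Q15790 (allL N15790 (tt N17948 (iv F226563)) (tt N15790 F216825) (tt N17960 (iv F226608)) (tt N17946 (iv F226557)) (tt N17961 (iv F226612)) (tt N13794 F216826) (tt N17172 (iv F223726)) (tt N17954 (iv F226589)) (tt N13543 (iv D48560)) (tt N15790 F216827))
theorem Q15792 : ∀ i, i < 15792 → P i := stepQ 15791 Q15791 (allL N15791 (tt N17126 (iv F223464)) (tt N17188 (iv F223816)) (tt N13544 (iv D48561)) (tt N17830 (iv F226222)) (tt N17125 F223463) (tt N15791 F216828) (tt N13546 F216829) (tt N17132 (iv F223497)) (tt N13558 F216830) (tt N17962 D50732))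
theorem Q15793 : ∀ i, i < 15793 → P i := stepQ 15792 Q15792 (allL N15792 (tt N17124 (iv F223449)) (tt N15792 F216831) (tt N17962 (iv F226615)) (tt N13545 F216832) (tt N17148 (iv F223575)) (tt N15792 F216833) (tt N13548 F216834) (tt N17149 (iv F223585)) (tt N17006 (iv F223013)) (tt N13544 (iv D48562)))
theorem Q15794 : ∀ i, i < 15794 → P i := stepQ 15793 Q15793 (allL N15793 (tt N17182 (iv F223784)) (tt N13546 (iv D48563)) (tt N15793 F216835) (tt N17833 (iv F226231)) (tt N17164 (iv F223683)) (tt N13553 F216836) (tt N17188 (iv F223820)) (tt N13549 F216837) (tt N13559 F216838) (tt N17963 D50733))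
theorem Q15795 : ∀ i, i < 15795 → P i := stepQ 15794 Q15794 (allL N15794 (tt N17120 (iv F223431)) (tt N17164 (iv F223681)) (tt N13547 F216839) (tt N17964 D50734) (tt N13546 (iv D48564)) (tt N15794 F216840) (tt N17125 (iv F223460)) (tt N13550 F216841) (tt N13560 F216842) (tt N17965 D50735))
theorem Q15796 : ∀ i, i < 15796 → P i := stepQ 15795 Q15795 (allL N15795 (tt N17130 (iv F223481)) (tt N17963 (iv F226618)) (tt N13548 F216843) (tt N17835 (iv F226239)) (tt N17965 (iv F226626)) (tt N13554 F216844) (tt N17962 (iv F226617)) (tt N13551 F216845) (tt N17008 (iv F223025)) (tt N13546 (iv D48565)))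
theorem Q15797 : ∀ i, i < 15797 → P i := stepQ 15796 Q15796 (allL N15796 (tt N17131 (iv F223486)) (tt N15796 F216846) (tt N17965 (iv F226625)) (tt N17953 (iv F226583)) (tt N13548 F216847) (tt N15796 F216848) (tt N17148 (iv F223577)) (tt N13552 F216849) (tt N17009 (iv F223031)) (tt N13547 (iv D48566)))
theorem Q15798 : ∀ i, i < 15798 → P i := stepQ 15797 Q15797 (allL N15797 (tt N13549 (iv D48567)) (tt N17185 (iv F223803)) (tt N15797 F216850) (tt N17838 (iv F226247)) (tt N17183 (iv F223793)) (tt N13555 F216851) (tt N17175 (iv F223743)) (tt N17182 (iv F223789)) (tt N13561 F216852) (tt N17966 D50736))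
theorem Q15799 : ∀ i, i < 15799 → P i := stepQ 15798 Q15798 (allL N15798 (tt N17183 (iv F223790)) (tt N13550 F216853) (tt N15798 F216854) (tt N17967 D50737) (tt N13549 (iv D48568)) (tt N15798 F216855) (tt N17176 (iv F223751)) (tt N17164 (iv F223686)) (tt N13562 F216856) (tt N17968 D50738))
theorem Q15800 : ∀ i, i < 15800 → P i := stepQ 15799 Q15799 (allL N15799 (tt N17966 (iv F226629)) (tt N13551 F216857) (tt N15799 F216858) (tt N17840 (iv F226253)) (tt N17968 (iv F226636)) (tt N13556 F216859) (tt N17177 (iv F223757)) (tt N17963 (iv F226621)) (tt N17012 (iv F223049)) (tt N13549 (iv D48569)))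
theorem Q15801 : ∀ i, i < 15801 → P i := stepQ 15800 Q15800 (allL N15800 (tt N17189 (iv F223821)) (tt N17967 (iv F226632)) (tt N17958 (iv F226603)) (tt N13550 (iv D48570)) (tt N17841 (iv F226255)) (tt N15800 F216860) (tt N17178 (iv F223761)) (tt N17964 (iv F226624)) (tt N17969 D50739) (tt N17970 D50740))
theorem Q15802 : ∀ i, i < 15802 → P i := stepQ 15801 Q15801 (allL N15801 (tt N17139 (iv F223524)) (tt N17968 (iv F226634)) (tt N13552 F216861) (tt N17970 (iv F226640)) (tt N13551 F216862) (tt N15801 F216863) (tt N17179 (iv F223767)) (tt N17965 (iv F226628)) (tt N17014 (iv F223058)) (tt N13550 (iv D48571)))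
theorem Q15803 : ∀ i, i < 15803 → P i := stepQ 15802 Q15802 (allL N15802 (tt N13553 (iv D48572)) (tt N17192 (iv F223836)) (tt N15802 F216864) (tt N17848 (iv F226270)) (tt N15802 F216865) (tt N17182 (iv F223787)) (tt N15802 F216866) (tt N13555 F216867) (tt N13564 F216868) (tt N17971 D50741))
theorem Q15804 : ∀ i, i < 15804 → P i := stepQ 15803 Q15803 (allL N15803 (tt N17971 (iv F226642)) (tt N13554 F216869) (tt N15803 F216870) (tt N17850 (iv F226281)) (tt N15803 F216871) (tt N17963 (iv F226620)) (tt N15803 F216872) (tt N13556 F216873) (tt N13756 F216874) (tt N13553 (iv D48573)))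
theorem Q15805 : ∀ i, i < 15805 → P i := stepQ 15804 Q15804 (allL N15804 (tt N13556 F216875) (tt N17145 (iv F223560)) (tt N15804 F216876) (tt N17854 (iv F226299)) (tt N15804 F216877) (tt N17966 (iv F226631)) (tt N13557 F216878) (tt N17971 (iv F226646)) (tt N17015 (iv F223065)) (tt N13555 (iv D48574)))
theorem Q15806 : ∀ i, i < 15806 → P i := stepQ 15805 Q15805 (allL N15805 (tt N17188 (iv F223815)) (tt N17007 (iv F223015)) (tt N15805 F216879) (tt N17969 (iv F226638)) (tt N13565 F216880) (tt N15805 F216881) (tt N17182 (iv F223788)) (tt N17011 (iv F223042)) (tt N13563 (iv D48575)) (tt N17972 D50742))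
theorem Q15807 : ∀ i, i < 15807 → P i := stepQ 15806 Q15806 (allL N15806 (tt N17949 (iv F226566)) (tt N17008 (iv F223021)) (tt N15806 F216882) (tt N17941 (iv F226545)) (tt N17972 (iv F226649)) (tt N13756 F216883) (tt N17187 (iv F223814)) (tt N17012 (iv F223048)) (tt N17963 (iv F226622)) (tt N13565 (iv D48576)))
theorem Q15808 : ∀ i, i < 15808 → P i := stepQ 15807 Q15807 (allL N15807 (tt N17028 (iv F223109)) (tt N17879 (iv F226374)) (tt N16965 (iv F222828)) (tt N17877 (iv F226368)) (tt N13566 (iv D48577)) (tt N17973 D50743) (tt N17190 (iv F223827)) (tt N17888 (iv F226398)) (tt N16979 (iv F222895)) (tt N17943 (iv F226548)))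
theorem Q15809 : ∀ i, i < 15809 → P i := stepQ 15808 Q15808 (allL N15808 (tt N17034 (iv F223130)) (tt N13706 F216884) (tt N16967 (iv F222837)) (tt N13704 F216885) (tt N13567 (iv D48578)) (tt N17974 D50744) (tt N15808 F216886) (tt N13570 F216887) (tt N16984 (iv F222915)) (tt N17944 (iv F226553)))
theorem Q15810 : ∀ i, i < 15810 → P i := stepQ 15809 Q15809 (allL N15809 (tt N17040 (iv F223154)) (tt N16261 F219382) (tt N16969 (iv F222848)) (tt N13757 F216888) (tt N17973 (iv F226651)) (tt N13570 (iv D48579)) (tt N17353 (iv F224589)) (tt N17974 (iv F226654)) (tt N16990 (iv F222940)) (tt N17945 (iv F226555)))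
theorem Q15811 : ∀ i, i < 15811 → P i := stepQ 15810 Q15810 (allL N15810 (tt N13587 F216889) (tt N16449 (iv F220388)) (tt N15810 F216890) (tt N13572 (iv D48580)) (tt N17975 D50745) (tt N15810 F216891) (tt N16033 (iv F217967)) (tt N13610 F216892) (tt N16031 F217955) (tt N15810 F216893))
theorem Q15812 : ∀ i, i < 15812 → P i := stepQ 15811 Q15811 (allL N15811 (tt N16462 (iv F220465)) (tt N13576 F216894) (tt N15811 F216895) (tt N17538 (iv F225317)) (tt N13574 F216896) (tt N16433 (iv F220308)) (tt N16036 (iv F217991)) (tt N13627 F216897) (tt N16495 (iv F220635)) (tt N13573 (iv D48581)))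
theorem Q15813 : ∀ i, i < 15813 → P i := stepQ 15812 Q15812 (allL N15812 (tt N16034 (iv F217970)) (tt N16433 (iv F220305)) (tt N13577 F216898) (tt N17540 (iv F225323)) (tt N15812 F216899) (tt N13576 F216900) (tt N16022 (iv F217888)) (tt N13630 F216901) (tt N16044 (iv F218057)) (tt N13575 (iv D48582)))
theorem Q15814 : ∀ i, i < 15814 → P i := stepQ 15813 Q15813 (allL N15813 (tt N15979 (iv F217577)) (tt N13594 F216902) (tt N16041 (iv F218027)) (tt N17976 D50746) (tt N13581 F216903) (tt N17546 (iv F225342)) (tt N15813 F216904) (tt N15982 (iv F217606)) (tt N13580 (iv D48583)) (tt N15813 F216905))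
theorem Q15815 : ∀ i, i < 15815 → P i := stepQ 15814 Q15814 (allL N15814 (tt N16452 (iv F220404)) (tt N13584 F216906) (tt N13598 F216907) (tt N16057 (iv F218140)) (tt N17547 (iv F225348)) (tt N16037 (iv F217999)) (tt N13586 F216908) (tt N16105 (iv F218450)) (tt N13583 (iv D48584)) (tt N15814 F216909))
theorem Q15816 : ∀ i, i < 15816 → P i := stepQ 15815 Q15815 (allL N15815 (tt N13586 F216910) (tt N16486 (iv F220578)) (tt N13600 F216911) (tt N17977 D50747) (tt N17549 (iv F225355)) (tt N15815 F216912) (tt N16452 (iv F220408)) (tt N13651 F216913) (tt N13585 (iv D48585)) (tt N15815 F216914))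
theorem Q15817 : ∀ i, i < 15817 → P i := stepQ 15816 Q15816 (allL N15816 (tt N17977 (iv F226666)) (tt N13587 F216915) (tt N17978 D50748) (tt N13586 (iv D48586)) (tt N17979 D50749) (tt N15816 F216916) (tt N16057 (iv F218142)) (tt N13652 F216917) (tt N16056 F218138) (tt N15816 F216918))
theorem Q15818 : ∀ i, i < 15818 → P i := stepQ 15817 Q15817 (allL N15817 (tt N17975 (iv F226655)) (tt N17979 (iv F226675)) (tt N15817 F216919) (tt N17551 (iv F225361)) (tt N13587 (iv D48587)) (tt N17980 D50750) (tt N16526 (iv F220777)) (tt N13653 F216920) (tt N16525 F220773) (tt N15817 F216921))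
theorem Q15819 : ∀ i, i < 15819 → P i := stepQ 15818 Q15818 (allL N15818 (tt N15818 F216922) (tt N16106 (iv F218453)) (tt N13590 F216923) (tt N17981 D50751) (tt N16533 (iv F220816)) (tt N13596 F216924) (tt N15990 (iv F217666)) (tt N13593 F216925) (tt N13588 (iv D48588)) (tt N15818 F216926))
theorem Q15820 : ∀ i, i < 15820 → P i := stepQ 15819 Q15819 (allL N15819 (tt N16398 (iv F220068)) (tt N13593 F216927) (tt N16037 (iv F217996)) (tt N17982 D50752) (tt N16394 (iv F220042)) (tt N13598 F216928) (tt N15819 F216929) (tt N16106 (iv F218458)) (tt N13591 (iv D48589)) (tt N15819 F216930))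
theorem Q15821 : ∀ i, i < 15821 → P i := stepQ 15820 Q15820 (allL N15820 (tt N15820 F216931) (tt N16394 (iv F220039)) (tt N13594 F216932) (tt N15820 F216933) (tt N13593 F216934) (tt N16402 (iv F220102)) (tt N15820 F216935) (tt N16533 (iv F220819)) (tt N13592 (iv D48590)) (tt N15820 F216936))
theorem Q15822 : ∀ i, i < 15822 → P i := stepQ 15821 Q15821 (allL N15821 (tt N15821 F216937) (tt N17982 (iv F226689)) (tt N15821 F216938) (tt N13593 (iv D48591)) (tt N15821 F216939) (tt N13599 F216940) (tt N15821 F216941) (tt N17981 (iv F226686)) (tt N15821 F216942) (tt N15821 F216943))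
theorem Q15823 : ∀ i, i < 15823 → P i := stepQ 15822 Q15822 (allL N15822 (tt N15822 F216944) (tt N17976 (iv F226659)) (tt N15822 F216945) (tt N13594 (iv D48592)) (tt N15822 F216946) (tt N13602 F216947) (tt N15822 F216948) (tt N13671 F216949) (tt N15822 F216950) (tt N15822 F216951))
theorem Q15824 : ∀ i, i < 15824 → P i := stepQ 15823 Q15823 (allL N15823 (tt N16543 (iv F220885)) (tt N13596 F216952) (tt N16105 (iv F218446)) (tt N17983 D50753) (tt N16673 F221533) (tt N16106 (iv F218456)) (tt N13663 F216953) (tt N13598 F216954) (tt N13595 (iv D48593)) (tt N15823 F216955))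
theorem Q15825 : ∀ i, i < 15825 → P i := stepQ 15824 Q15824 (allL N15824 (tt N15824 F216956) (tt N17983 (iv F226696)) (tt N15824 F216957) (tt N13596 (iv D48594)) (tt N16560 (iv F221005)) (tt N17981 (iv F226685)) (tt N13664 F216958) (tt N13599 F216959) (tt N15824 F216960) (tt N15824 F216961))
theorem Q15826 : ∀ i, i < 15826 → P i := stepQ 15825 Q15825 (allL N15825 (tt N13598 F216962) (tt N15825 F216963) (tt N16452 (iv F220406)) (tt N17984 D50754) (tt N17552 (iv F225366)) (tt N16398 (iv F220072)) (tt N13600 F216964) (tt N16543 (iv F220890)) (tt N13597 (iv D48595)) (tt N15825 F216965))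
theorem Q15827 : ∀ i, i < 15827 → P i := stepQ 15826 Q15826 (allL N15826 (tt N17984 (iv F226703)) (tt N13599 F216966) (tt N17985 D50755) (tt N13598 (iv D48596)) (tt N17986 D50756) (tt N17982 (iv F226691)) (tt N13601 F216967) (tt N17983 (iv F226700)) (tt N15826 F216968) (tt N15826 F216969))
theorem Q15828 : ∀ i, i < 15828 → P i := stepQ 15827 Q15827 (allL N15827 (tt N15827 F216970) (tt N17986 (iv F226719)) (tt N15827 F216971) (tt N16404 F220119) (tt N13599 (iv D48597)) (tt N15827 F216972) (tt N13602 F216973) (tt N16560 (iv F221008)) (tt N15827 F216974) (tt N15827 F216975))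
theorem Q15829 : ∀ i, i < 15829 → P i := stepQ 15828 Q15828 (allL N15828 (tt N13601 F216976) (tt N15828 F216977) (tt N17986 (iv F226720)) (tt N13600 (iv D48598)) (tt N17985 F226717) (tt N15828 F216978) (tt N17984 (iv F226705)) (tt N13668 F216979) (tt N15828 F216980) (tt N15828 F216981))
theorem Q15830 : ∀ i, i < 15830 → P i := stepQ 15829 Q15829 (allL N15829 (tt N17986 (iv F226718)) (tt N15829 F216982) (tt N13601 (iv D48599)) (tt N17978 (iv F226671)) (tt N17984 F226710) (tt N15829 F216983) (tt N17985 (iv F226713)) (tt N13669 F216984) (tt N15829 F216985) (tt N15829 F216986))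
theorem Q15831 : ∀ i, i < 15831 → P i := stepQ 15830 Q15830 (allL N15830 (tt N17985 (iv F226711)) (tt N13602 F216987) (tt N17984 F226709) (tt N17546 F225345) (tt N13601 (iv D48600)) (tt N17976 (iv F226661)) (tt N17986 (iv F226722)) (tt N13670 F216988) (tt N15830 F216989) (tt N15830 F216990))
theorem Q15832 : ∀ i, i < 15832 → P i := stepQ 15831 Q15831 (allL N15831 (tt N13632 F216991) (tt N16448 (iv F220380)) (tt N15831 F216992) (tt N13603 (iv D48601)) (tt N16601 (iv F221225)) (tt N15831 F216993) (tt N16080 (iv F218276)) (tt N16031 (iv F217954)) (tt N13610 F216994) (tt N16029 (iv F217939)))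
theorem Q15833 : ∀ i, i < 15833 → P i := stepQ 15832 Q15832 (allL N15832 (tt N13645 F216995) (tt N15832 F216996) (tt N16349 (iv F219812)) (tt N17509 (iv F225219)) (tt N13605 F216997) (tt N17631 (iv F225620)) (tt N15832 F216998) (tt N15998 (iv F217727)) (tt N13604 (iv D48602)) (tt N15832 F216999))
theorem Q15834 : ∀ i, i < 15834 → P i := stepQ 15833 Q15833 (allL N15833 (tt N13650 F217000) (tt N16639 (iv F221350)) (tt N15833 F217001) (tt N13607 (iv D48603)) (tt N17987 D50757) (tt N16191 (iv F218943)) (tt N13610 F217002) (tt N16083 (iv F218296)) (tt N16080 F218278) (tt N15833 F217003))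
theorem Q15835 : ∀ i, i < 15835 → P i := stepQ 15834 Q15834 (allL N15834 (tt N13609 F217004) (tt N13651 F217005) (tt N15834 F217006) (tt N16549 (iv F220930)) (tt N17633 (iv F225628)) (tt N15834 F217007) (tt N16727 (iv F221760)) (tt N16486 (iv F220582)) (tt N13608 (iv D48604)) (tt N15834 F217008))
theorem Q15836 : ∀ i, i < 15836 → P i := stepQ 15835 Q15835 (allL N15835 (tt N16549 (iv F220927)) (tt N13610 F217009) (tt N16537 (iv F220846)) (tt N13609 (iv D48605)) (tt N16602 (iv F221231)) (tt N15835 F217010) (tt N16639 (iv F221353)) (tt N16449 (iv F220392)) (tt N16448 F220387) (tt N15835 F217011))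
theorem Q15837 : ∀ i, i < 15837 → P i := stepQ 15836 Q15836 (allL N15836 (tt N13653 F217012) (tt N16602 (iv F221229)) (tt N15836 F217013) (tt N17635 (iv F225633)) (tt N13610 (iv D48606)) (tt N17572 (iv F225455)) (tt N17987 (iv F226728)) (tt N17975 (iv F226657)) (tt N16601 F221227) (tt N15836 F217014))
theorem Q15838 : ∀ i, i < 15838 → P i := stepQ 15837 Q15837 (allL N15837 (tt N16679 (iv F221560)) (tt N13619 F217015) (tt N15837 F217016) (tt N17668 (iv F225710)) (tt N16230 (iv F219197)) (tt N13617 (iv D48607)) (tt N16604 (iv F221243)) (tt N16099 (iv F218409)) (tt N16098 F218402) (tt N17988 D50758))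
theorem Q15839 : ∀ i, i < 15839 → P i := stepQ 15838 Q15838 (allL N15838 (tt N16683 (iv F221579)) (tt N13620 F217017) (tt N15838 F217018) (tt N17669 (iv F225712)) (tt N13618 F217019) (tt N17988 (iv F226732)) (tt N13627 F217020) (tt N16101 (iv F218422)) (tt N17273 (iv F224200)) (tt N13617 (iv D48608)))
theorem Q15840 : ∀ i, i < 15840 → P i := stepQ 15839 Q15839 (allL N15839 (tt N16086 (iv F218312)) (tt N16604 (iv F221240)) (tt N13621 F217021) (tt N17671 (iv F225718)) (tt N16258 (iv F219363)) (tt N13629 F217022) (tt N13619 (iv D48609)) (tt N16059 (iv F218160)) (tt N16058 F218153) (tt N17989 D50759))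
theorem Q15841 : ∀ i, i < 15841 → P i := stepQ 15840 Q15840 (allL N15840 (tt N16130 (iv F218605)) (tt N17988 (iv F226730)) (tt N13622 F217023) (tt N17672 (iv F225721)) (tt N16260 (iv F219373)) (tt N13620 F217024) (tt N17989 (iv F226735)) (tt N16108 (iv F218471)) (tt N17689 (iv F225760)) (tt N13619 (iv D48610)))
theorem Q15842 : ∀ i, i < 15842 → P i := stepQ 15841 Q15841 (allL N15841 (tt N16087 (iv F218319)) (tt N15841 F217025) (tt N17989 (iv F226733)) (tt N13638 F217026) (tt N16282 (iv F219491)) (tt N13634 F217027) (tt N13622 F217028) (tt N17233 (iv F224039)) (tt N17234 (iv F224048)) (tt N13621 (iv D48611)))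
theorem Q15843 : ∀ i, i < 15843 → P i := stepQ 15842 Q15842 (allL N15842 (tt N16085 (iv F218304)) (tt N15842 F217029) (tt N17689 (iv F225756)) (tt N17233 (iv F224035)) (tt N13749 F217030) (tt N13623 F217031) (tt N17234 (iv F224046)) (tt N13638 F217032) (tt N13622 (iv D48612)) (tt N13637 F217033))
theorem Q15844 : ∀ i, i < 15844 → P i := stepQ 15843 Q15843 (allL N15843 (tt N13626 F217034) (tt N16090 (iv F218339)) (tt N15843 F217035) (tt N16613 (iv F221277)) (tt N15843 F217036) (tt N13624 (iv D48613)) (tt N16572 (iv F221080)) (tt N16412 (iv F220178)) (tt N16411 F220171) (tt N17990 D50760))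
theorem Q15845 : ∀ i, i < 15845 → P i := stepQ 15844 Q15844 (allL N15844 (tt N13627 F217037) (tt N16475 (iv F220528)) (tt N15844 F217038) (tt N17678 (iv F225735)) (tt N13625 F217039) (tt N17990 (iv F226739)) (tt N16683 (iv F221583)) (tt N16462 (iv F220470)) (tt N17991 D50761) (tt N13624 (iv D48614)))
theorem Q15846 : ∀ i, i < 15846 → P i := stepQ 15845 Q15845 (allL N15845 (tt N13628 F217040) (tt N16423 (iv F220239)) (tt N15845 F217041) (tt N16548 (iv F220923)) (tt N17991 (iv F226742)) (tt N15845 F217042) (tt N16569 (iv F221060)) (tt N16410 (iv F220161)) (tt N13625 (iv D48615)) (tt N16409 (iv F220154)))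
theorem Q15847 : ∀ i, i < 15847 → P i := stepQ 15846 Q15846 (allL N15846 (tt N17990 (iv F226736)) (tt N13630 F217043) (tt N15846 F217044) (tt N17680 (iv F225739)) (tt N15846 F217045) (tt N13627 F217046) (tt N16608 (iv F221259)) (tt N16433 (iv F220310)) (tt N16497 (iv F220648)) (tt N13626 (iv D48616)))
theorem Q15848 : ∀ i, i < 15848 → P i := stepQ 15847 Q15847 (allL N15847 (tt N17991 (iv F226740)) (tt N13631 F217047) (tt N15847 F217048) (tt N17992 D50762) (tt N13628 F217049) (tt N16497 (iv F220645)) (tt N17273 (iv F224198)) (tt N16495 (iv F220634)) (tt N13627 (iv D48617)) (tt N16493 (iv F220624)))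
theorem Q15849 : ∀ i, i < 15849 → P i := stepQ 15848 Q15848 (allL N15848 (tt N16548 (iv F220920)) (tt N13632 F217050) (tt N16558 (iv F220990)) (tt N13628 (iv D48618)) (tt N16658 (iv F221446)) (tt N15848 F217051) (tt N16153 (iv F218728)) (tt N16056 (iv F218137)) (tt N13652 F217052) (tt N16055 F218132))
theorem Q15850 : ∀ i, i < 15850 → P i := stepQ 15849 Q15849 (allL N15849 (tt N16089 (iv F218333)) (tt N16608 (iv F221256)) (tt N13634 F217053) (tt N17683 (iv F225746)) (tt N15849 F217054) (tt N17989 (iv F226734)) (tt N13630 F217055) (tt N16061 (iv F218172)) (tt N16123 (iv F218570)) (tt N13629 (iv D48619)))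
theorem Q15851 : ∀ i, i < 15851 → P i := stepQ 15850 Q15850 (allL N15850 (tt N16092 (iv F218350)) (tt N16497 (iv F220642)) (tt N13635 F217056) (tt N17215 (iv F223953)) (tt N15850 F217057) (tt N13631 F217058) (tt N16123 (iv F218568)) (tt N16044 (iv F218056)) (tt N13630 (iv D48620)) (tt N16042 (iv F218041)))
theorem Q15852 : ∀ i, i < 15852 → P i := stepQ 15851 Q15851 (allL N15851 (tt N17221 (iv F223977)) (tt N17992 (iv F226743)) (tt N16064 (iv F218188)) (tt N13631 (iv D48621)) (tt N17993 D50763) (tt N17215 (iv F223955)) (tt N17687 (iv F225753)) (tt N17543 (iv F225333)) (tt N17685 (iv F225750)) (tt N16062 F218180))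
theorem Q15853 : ∀ i, i < 15853 → P i := stepQ 15852 Q15852 (allL N15852 (tt N16601 (iv F221222)) (tt N16658 (iv F221444)) (tt N15852 F217059) (tt N17993 (iv F226744)) (tt N13632 (iv D48622)) (tt N17571 (iv F225449)) (tt N16814 (iv F222092)) (tt N16525 (iv F220772)) (tt N13653 F217060) (tt N16524 F220768))
theorem Q15854 : ∀ i, i < 15854 → P i := stepQ 15853 Q15853 (allL N15853 (tt N16918 (iv F222603)) (tt N13642 F217061) (tt N16944 (iv F222738)) (tt N13640 (iv D48623)) (tt N16233 (iv F219212)) (tt N17695 (iv F225780)) (tt N15853 F217062) (tt N16236 (iv F219233)) (tt N16954 (iv F222781)) (tt N17994 D50764))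
theorem Q15855 : ∀ i, i < 15855 → P i := stepQ 15854 Q15854 (allL N15854 (tt N16929 (iv F222646)) (tt N13643 F217063) (tt N13658 F217064) (tt N17994 (iv F226746)) (tt N13641 F217065) (tt N17696 (iv F225784)) (tt N15854 F217066) (tt N16242 (iv F219270)) (tt N17995 D50765) (tt N13640 (iv D48624)))
theorem Q15856 : ∀ i, i < 15856 → P i := stepQ 15855 Q15855 (allL N15855 (tt N16933 (iv F222663)) (tt N13644 F217067) (tt N13659 F217068) (tt N16358 (iv F219846)) (tt N17995 (iv F226750)) (tt N13649 F217069) (tt N15855 F217070) (tt N16243 (iv F219277)) (tt N13641 (iv D48625)) (tt N15855 F217071))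
theorem Q15857 : ∀ i, i < 15857 → P i := stepQ 15856 Q15856 (allL N15856 (tt N16297 (iv F219571)) (tt N16954 (iv F222777)) (tt N13750 F217072) (tt N15856 F217073) (tt N16250 F219318) (tt N17698 (iv F225791)) (tt N15856 F217074) (tt N16253 (iv F219337)) (tt N13642 (iv D48626)) (tt N17996 D50766))
theorem Q15858 : ∀ i, i < 15858 → P i := stepQ 15857 Q15857 (allL N15857 (tt N16325 (iv F219696)) (tt N17994 (iv F226745)) (tt N13751 F217075) (tt N13643 F217076) (tt N16264 (iv F219392)) (tt N17699 (iv F225794)) (tt N15857 F217077) (tt N16267 (iv F219411)) (tt N17997 D50767) (tt N13642 (iv D48627)))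
theorem Q15859 : ∀ i, i < 15859 → P i := stepQ 15858 Q15858 (allL N15858 (tt N16349 (iv F219810)) (tt N17995 (iv F226748)) (tt N13645 F217078) (tt N17998 D50768) (tt N13644 F217079) (tt N17700 (iv F225797)) (tt N15858 F217080) (tt N16275 (iv F219453)) (tt N13643 (iv D48628)) (tt N15858 F217081))
theorem Q15860 : ∀ i, i < 15860 → P i := stepQ 15859 Q15859 (allL N15859 (tt N16646 (iv F221380)) (tt N13647 F217082) (tt N13663 F217083) (tt N16154 (iv F218732)) (tt N17702 (iv F225803)) (tt N16243 (iv F219275)) (tt N16105 (iv F218449)) (tt N13649 F217084) (tt N13646 (iv D48629)) (tt N15859 F217085))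
theorem Q15861 : ∀ i, i < 15861 → P i := stepQ 15860 Q15860 (allL N15860 (tt N13649 F217086) (tt N16727 (iv F221757)) (tt N13665 F217087) (tt N17999 D50769) (tt N17704 (iv F225810)) (tt N16933 (iv F222666)) (tt N13651 F217088) (tt N16646 (iv F221385)) (tt N13648 (iv D48630)) (tt N15860 F217089))
theorem Q15862 : ∀ i, i < 15862 → P i := stepQ 15861 Q15861 (allL N15861 (tt N17999 (iv F226760)) (tt N13650 F217090) (tt N18000 D50770) (tt N13649 (iv D48631)) (tt N18001 D50771) (tt N16358 (iv F219847)) (tt N13652 F217091) (tt N16154 (iv F218735)) (tt N16153 F218730) (tt N15861 F217092))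
theorem Q15863 : ∀ i, i < 15863 → P i := stepQ 15862 Q15862 (allL N15862 (tt N17987 (iv F226726)) (tt N18001 (iv F226767)) (tt N15862 F217093) (tt N17706 (iv F225816)) (tt N13650 (iv D48632)) (tt N18002 D50772) (tt N13653 F217094) (tt N16815 (iv F222098)) (tt N16814 F222094) (tt N15862 F217095))
theorem Q15864 : ∀ i, i < 15864 → P i := stepQ 15863 Q15863 (allL N15863 (tt N13652 F217096) (tt N16549 (iv F220928)) (tt N16559 (iv F220997)) (tt N13651 (iv D48633)) (tt N16659 (iv F221452)) (tt N15863 F217097) (tt N17999 (iv F226761)) (tt N17977 (iv F226668)) (tt N16548 F220926) (tt N15863 F217098))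
theorem Q15865 : ∀ i, i < 15865 → P i := stepQ 15864 Q15864 (allL N15864 (tt N16559 (iv F220995)) (tt N15864 F217099) (tt N13652 (iv D48634)) (tt N13669 F217100) (tt N16672 (iv F221524)) (tt N15864 F217101) (tt N18000 (iv F226765)) (tt N17978 (iv F226673)) (tt N16558 (iv F220994)) (tt N15864 F217102))
theorem Q15866 : ∀ i, i < 15866 → P i := stepQ 15865 Q15865 (allL N15865 (tt N16659 (iv F221449)) (tt N13653 F217103) (tt N16672 (iv F221523)) (tt N17709 (iv F225824)) (tt N13652 (iv D48635)) (tt N17605 (iv F225541)) (tt N18001 (iv F226768)) (tt N17979 (iv F226676)) (tt N16658 F221448) (tt N15865 F217104))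
theorem Q15867 : ∀ i, i < 15867 → P i := stepQ 15866 Q15866 (allL N15866 (tt N17572 (iv F225451)) (tt N17605 (iv F225538)) (tt N15866 F217105) (tt N17710 (iv F225826)) (tt N15866 F217106) (tt N13653 (iv D48636)) (tt N18003 D50773) (tt N17980 (iv F226680)) (tt N17571 F225450) (tt N15866 F217107))
theorem Q15868 : ∀ i, i < 15868 → P i := stepQ 15867 Q15867 (allL N15867 (tt N16852 (iv F222289)) (tt N13655 F217108) (tt N16243 (iv F219273)) (tt N18004 D50774) (tt N17332 F224498) (tt N13663 F217109) (tt N16244 (iv F219284)) (tt N13659 F217110) (tt N13654 (iv D48637)) (tt N15867 F217111))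
theorem Q15869 : ∀ i, i < 15869 → P i := stepQ 15868 Q15868 (allL N15868 (tt N15868 F217112) (tt N18004 (iv F226775)) (tt N15868 F217113) (tt N13655 (iv D48638)) (tt N17286 (iv F224265)) (tt N13664 F217114) (tt N17289 (iv F224285)) (tt N13661 F217115) (tt N15868 F217116) (tt N15868 F217117))
theorem Q15870 : ∀ i, i < 15870 → P i := stepQ 15869 Q15869 (allL N15869 (tt N13658 F217118) (tt N15869 F217119) (tt N16929 (iv F222648)) (tt N17786 F226086) (tt N13657 F217120) (tt N17714 (iv F225844)) (tt N15869 F217121) (tt N16850 (iv F222280)) (tt N18005 D50775) (tt N13656 (iv D48639)))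
theorem Q15871 : ∀ i, i < 15871 → P i := stepQ 15870 Q15870 (allL N15870 (tt N13659 F217122) (tt N15870 F217123) (tt N16933 (iv F222665)) (tt N18006 D50776) (tt N18005 (iv F226782)) (tt N13665 F217124) (tt N15870 F217125) (tt N16852 (iv F222294)) (tt N13657 (iv D48640)) (tt N15870 F217126))
theorem Q15872 : ∀ i, i < 15872 → P i := stepQ 15871 Q15871 (allL N15871 (tt N18005 (iv F226780)) (tt N13660 F217127) (tt N17995 (iv F226749)) (tt N17330 (iv F224485)) (tt N13659 F217128) (tt N17717 (iv F225858)) (tt N15871 F217129) (tt N17332 (iv F224495)) (tt N13658 (iv D48641)) (tt N15871 F217130))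
theorem Q15873 : ∀ i, i < 15873 → P i := stepQ 15872 Q15872 (allL N15872 (tt N18006 (iv F226785)) (tt N13661 F217131) (tt N18007 D50777) (tt N13659 (iv D48642)) (tt N18008 D50778) (tt N13666 F217132) (tt N15872 F217133) (tt N18004 (iv F226777)) (tt N15872 F217134) (tt N15872 F217135))
theorem Q15874 : ∀ i, i < 15874 → P i := stepQ 15873 Q15873 (allL N15873 (tt N15873 F217136) (tt N18008 (iv F226796)) (tt N15873 F217137) (tt N16011 F217816) (tt N13661 (iv D48643)) (tt N16017 (iv F217851)) (tt N15873 F217138) (tt N17286 (iv F224267)) (tt N15873 F217139) (tt N15873 F217140))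
theorem Q15875 : ∀ i, i < 15875 → P i := stepQ 15874 Q15874 (allL N15874 (tt N13663 F217141) (tt N15874 F217142) (tt N16646 (iv F221382)) (tt N18009 D50779) (tt N17718 (iv F225862)) (tt N16852 (iv F222292)) (tt N16543 (iv F220889)) (tt N13665 F217143) (tt N13662 (iv D48644)) (tt N15874 F217144))
theorem Q15876 : ∀ i, i < 15876 → P i := stepQ 15875 Q15875 (allL N15875 (tt N18009 (iv F226800)) (tt N13664 F217145) (tt N18010 D50780) (tt N13663 (iv D48645)) (tt N18011 D50781) (tt N18004 (iv F226776)) (tt N17983 (iv F226699)) (tt N13666 F217146) (tt N15875 F217147) (tt N15875 F217148))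
theorem Q15877 : ∀ i, i < 15877 → P i := stepQ 15876 Q15876 (allL N15876 (tt N15876 F217149) (tt N18011 (iv F226816)) (tt N15876 F217150) (tt N16557 F220987) (tt N13664 (iv D48646)) (tt N18012 D50782) (tt N16560 (iv F221007)) (tt N13667 F217151) (tt N15876 F217152) (tt N15876 F217153))
theorem Q15878 : ∀ i, i < 15878 → P i := stepQ 15877 Q15877 (allL N15877 (tt N13666 F217154) (tt N15877 F217155) (tt N18011 (iv F226817)) (tt N13665 (iv D48647)) (tt N18010 F226814) (tt N18006 (iv F226787)) (tt N13668 F217156) (tt N18009 (iv F226803)) (tt N15877 F217157) (tt N15877 F217158))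
theorem Q15879 : ∀ i, i < 15879 → P i := stepQ 15878 Q15878 (allL N15878 (tt N18011 (iv F226815)) (tt N15878 F217159) (tt N13666 (iv D48648)) (tt N18000 (iv F226764)) (tt N18009 F226807) (tt N18007 (iv F226792)) (tt N13669 F217160) (tt N18010 (iv F226811)) (tt N15878 F217161) (tt N15878 F217162))
theorem Q15880 : ∀ i, i < 15880 → P i := stepQ 15879 Q15879 (allL N15879 (tt N18010 (iv F226808)) (tt N13667 F217163) (tt N18009 F226806) (tt N17721 (iv F225872)) (tt N13666 (iv D48649)) (tt N18013 D50783) (tt N13670 F217164) (tt N18011 (iv F226819)) (tt N15879 F217165) (tt N15879 F217166))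
theorem Q15881 : ∀ i, i < 15881 → P i := stepQ 15880 Q15880 (allL N15880 (tt N15880 F217167) (tt N18013 (iv F226828)) (tt N15880 F217168) (tt N16392 (iv F220025)) (tt N16017 F217855) (tt N13667 (iv D48650)) (tt N16020 (iv F217871)) (tt N18012 (iv F226825)) (tt N15880 F217169) (tt N15880 F217170))
theorem Q15882 : ∀ i, i < 15882 → P i := stepQ 15881 Q15881 (allL N15881 (tt N13669 F217171) (tt N16560 (iv F221003)) (tt N13668 (iv D48651)) (tt N16559 F221001) (tt N17983 (iv F226698)) (tt N15881 F217172) (tt N18011 (iv F226818)) (tt N17986 (iv F226723)) (tt N15881 F217173) (tt N15881 F217174))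
theorem Q15883 : ∀ i, i < 15883 → P i := stepQ 15882 Q15882 (allL N15882 (tt N13670 F217175) (tt N15882 F217176) (tt N17983 (iv F226697)) (tt N15988 F217653) (tt N13668 (iv D48652)) (tt N15989 (iv F217657)) (tt N18010 (iv F226810)) (tt N17985 (iv F226714)) (tt N15882 F217177) (tt N15882 F217178))
theorem Q15884 : ∀ i, i < 15884 → P i := stepQ 15883 Q15883 (allL N15883 (tt N17983 (iv F226695)) (tt N15883 F217179) (tt N13670 F217180) (tt N16543 F220892) (tt N13669 (iv D48653)) (tt N16544 (iv F220896)) (tt N18009 (iv F226802)) (tt N17984 (iv F226706)) (tt N15883 F217181) (tt N15883 F217182))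
theorem Q15885 : ∀ i, i < 15885 → P i := stepQ 15884 Q15884 (allL N15884 (tt N15989 (iv F217654)) (tt N13671 F217183) (tt N16544 (iv F220894)) (tt N15982 F217608) (tt N15884 F217184) (tt N13670 (iv D48654)) (tt N15995 (iv F217703)) (tt N17976 (iv F226663)) (tt N15884 F217185) (tt N15884 F217186))
theorem Q15886 : ∀ i, i < 15886 → P i := stepQ 15885 Q15885 (allL N15885 (tt N15885 F217187) (tt N15995 (iv F217700)) (tt N15885 F217188) (tt N15991 F217677) (tt N15885 F217189) (tt N16020 F217875) (tt N13671 (iv D48655)) (tt N15885 F217190) (tt N15885 F217191) (tt N15885 F217192))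
theorem Q15887 : ∀ i, i < 15887 → P i := stepQ 15886 Q15886 (allL N15886 (tt N13672 (iv D48656)) (tt N13703 F217193) (tt N16012 (iv F217818)) (tt N13686 F217194) (tt N16369 (iv F219907)) (tt N13678 F217195) (tt N15886 F217196) (tt N13754 F217197) (tt N15886 F217198) (tt N18014 D50784))
theorem Q15888 : ∀ i, i < 15888 → P i := stepQ 15887 Q15887 (allL N15887 (tt N18014 (iv F226831)) (tt N13673 F217199) (tt N16013 (iv F217826)) (tt N13688 F217200) (tt N16370 (iv F219913)) (tt N13679 F217201) (tt N15887 F217202) (tt N16006 (iv F217777)) (tt N18015 D50785) (tt N13672 (iv D48657)))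
theorem Q15889 : ∀ i, i < 15889 → P i := stepQ 15888 Q15888 (allL N15888 (tt N13709 F217203) (tt N18015 (iv F226837)) (tt N13674 F217204) (tt N18016 D50786) (tt N16371 (iv F219918)) (tt N13680 F217205) (tt N15888 F217206) (tt N16007 (iv F217784)) (tt N13673 (iv D48658)) (tt N15888 F217207))
theorem Q15890 : ∀ i, i < 15890 → P i := stepQ 15889 Q15889 (allL N15889 (tt N13675 (iv D48659)) (tt N13713 F217208) (tt N16009 (iv F217795)) (tt N13692 F217209) (tt N17317 (iv F224421)) (tt N13754 F217210) (tt N15889 F217211) (tt N13678 F217212) (tt N15889 F217213) (tt N18017 D50787))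
theorem Q15891 : ∀ i, i < 15891 → P i := stepQ 15890 Q15890 (allL N15890 (tt N18017 (iv F226848)) (tt N13676 F217214) (tt N16010 (iv F217803)) (tt N13693 F217215) (tt N17318 (iv F224427)) (tt N16006 (iv F217775)) (tt N15890 F217216) (tt N13679 F217217) (tt N18018 D50788) (tt N13675 (iv D48660)))
theorem Q15892 : ∀ i, i < 15892 → P i := stepQ 15891 Q15891 (allL N15891 (tt N13718 F217218) (tt N18018 (iv F226854)) (tt N13677 F217219) (tt N18019 D50789) (tt N17319 (iv F224432)) (tt N16007 (iv F217782)) (tt N15891 F217220) (tt N13680 F217221) (tt N13676 (iv D48661)) (tt N15891 F217222))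
theorem Q15893 : ∀ i, i < 15893 → P i := stepQ 15892 Q15892 (allL N15892 (tt N13679 F217223) (tt N13722 F217224) (tt N17284 (iv F224254)) (tt N13695 F217225) (tt N17320 (iv F224439)) (tt N18014 (iv F226834)) (tt N13681 F217226) (tt N18017 (iv F226853)) (tt N18020 D50790) (tt N13678 (iv D48662)))
theorem Q15894 : ∀ i, i < 15894 → P i := stepQ 15893 Q15893 (allL N15893 (tt N18020 (iv F226865)) (tt N13680 F217227) (tt N17285 (iv F224259)) (tt N18021 D50791) (tt N17321 (iv F224443)) (tt N18015 (iv F226838)) (tt N13682 F217228) (tt N18018 (iv F226856)) (tt N13679 (iv D48663)) (tt N15893 F217229))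
theorem Q15895 : ∀ i, i < 15895 → P i := stepQ 15894 Q15894 (allL N15894 (tt N13729 F217230) (tt N18021 (iv F226869)) (tt N15894 F217231) (tt N13680 (iv D48664)) (tt N18022 D50792) (tt N18016 (iv F226843)) (tt N13683 F217232) (tt N18019 (iv F226862)) (tt N13697 F217233) (tt N15894 F217234))
theorem Q15896 : ∀ i, i < 15896 → P i := stepQ 15895 Q15895 (allL N15895 (tt N13682 F217235) (tt N13735 F217236) (tt N17287 (iv F224272)) (tt N16008 (iv F217789)) (tt N17323 (iv F224453)) (tt N15895 F217237) (tt N18020 (iv F226867)) (tt N15895 F217238) (tt N13681 (iv D48665)) (tt N15895 F217239))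
theorem Q15897 : ∀ i, i < 15897 → P i := stepQ 15896 Q15896 (allL N15896 (tt N16008 (iv F217786)) (tt N13683 F217240) (tt N16018 (iv F217858)) (tt N13682 (iv D48666)) (tt N16375 (iv F219936)) (tt N15896 F217241) (tt N18021 (iv F226870)) (tt N15896 F217242) (tt N13699 F217243) (tt N15896 F217244))
theorem Q15898 : ∀ i, i < 15898 → P i := stepQ 15897 Q15897 (allL N15897 (tt N13744 F217245) (tt N16375 (iv F219934)) (tt N15897 F217246) (tt N17325 (iv F224461)) (tt N13683 (iv D48667)) (tt N17395 (iv F224782)) (tt N18022 (iv F226875)) (tt N15897 F217247) (tt N13700 F217248) (tt N15897 F217249))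
theorem Q15899 : ∀ i, i < 15899 → P i := stepQ 15898 Q15898 (allL N15898 (tt N13696 F217250) (tt N13685 F217251) (tt N15898 F217252) (tt N16006 (iv F217773)) (tt N17181 (iv F223780)) (tt N13693 F217253) (tt N13698 F217254) (tt N13688 F217255) (tt N13695 F217256) (tt N13684 (iv D48668)))
theorem Q15900 : ∀ i, i < 15900 → P i := stepQ 15899 Q15899 (allL N15899 (tt N13688 F217257) (tt N13694 F217258) (tt N15899 F217259) (tt N18014 (iv F226833)) (tt N17180 (iv F223773)) (tt N13695 F217260) (tt N15899 F217261) (tt N13696 F217262) (tt N13693 F217263) (tt N13686 (iv D48669)))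
theorem Q15901 : ∀ i, i < 15901 → P i := stepQ 15900 Q15900 (allL N15900 (tt N17033 (iv F223125)) (tt N13689 F217264) (tt N17074 (iv F223269)) (tt N13687 (iv D48670)) (tt N16322 (iv F219682)) (tt N17820 (iv F226195)) (tt N15900 F217265) (tt N16328 (iv F219717)) (tt N17073 (iv F223267)) (tt N18023 D50793))
theorem Q15902 : ∀ i, i < 15902 → P i := stepQ 15901 Q15901 (allL N15901 (tt N17180 (iv F223770)) (tt N13690 F217266) (tt N15901 F217267) (tt N18023 (iv F226879)) (tt N13688 F217268) (tt N17821 (iv F226199)) (tt N15901 F217269) (tt N17181 (iv F223782)) (tt N17824 (iv F226212)) (tt N13687 (iv D48671)))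
theorem Q15903 : ∀ i, i < 15903 → P i := stepQ 15902 Q15902 (allL N15902 (tt N13693 F217270) (tt N13691 F217271) (tt N15902 F217272) (tt N18017 (iv F226850)) (tt N17824 (iv F226209)) (tt N13696 F217273) (tt N15902 F217274) (tt N13695 F217275) (tt N13688 (iv D48672)) (tt N13692 F217276))
theorem Q15904 : ∀ i, i < 15904 → P i := stepQ 15903 Q15903 (allL N15903 (tt N13750 F217277) (tt N17073 (iv F223263)) (tt N16297 (iv F219573)) (tt N13753 F217278) (tt N16296 F219570) (tt N17822 (iv F226202)) (tt N15903 F217279) (tt N16300 (iv F219592)) (tt N13689 (iv D48673)) (tt N18024 D50794))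
theorem Q15905 : ∀ i, i < 15905 → P i := stepQ 15904 Q15904 (allL N15904 (tt N13751 F217280) (tt N18023 (iv F226878)) (tt N16325 (iv F219698)) (tt N13690 F217281) (tt N16323 (iv F219688)) (tt N17823 (iv F226205)) (tt N15904 F217282) (tt N16331 (iv F219732)) (tt N18025 D50795) (tt N13689 (iv D48674)))
theorem Q15906 : ∀ i, i < 15906 → P i := stepQ 15905 Q15905 (allL N15905 (tt N13715 F217283) (tt N18017 (iv F226849)) (tt N15905 F217284) (tt N13691 (iv D48675)) (tt N18026 D50796) (tt N13697 F217285) (tt N15905 F217286) (tt N13722 F217287) (tt N18016 (iv F226846)) (tt N13713 F217288))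
theorem Q15907 : ∀ i, i < 15907 → P i := stepQ 15906 Q15906 (allL N15906 (tt N13705 F217289) (tt N18014 (iv F226832)) (tt N15906 F217290) (tt N13694 (iv D48676)) (tt N18027 D50797) (tt N13722 F217291) (tt N15906 F217292) (tt N13697 F217293) (tt N18019 (iv F226863)) (tt N13703 F217294))
theorem Q15908 : ∀ i, i < 15908 → P i := stepQ 15907 Q15907 (allL N15907 (tt N16006 (iv F217770)) (tt N13697 F217295) (tt N16015 (iv F217841)) (tt N13696 (iv D48677)) (tt N16372 (iv F219925)) (tt N18017 (iv F226851)) (tt N13699 F217296) (tt N18014 (iv F226836)) (tt N18021 (iv F226871)) (tt N13754 F217297))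
theorem Q15909 : ∀ i, i < 15909 → P i := stepQ 15908 Q15908 (allL N15908 (tt N13752 F217298) (tt N16372 (iv F219923)) (tt N15908 F217299) (tt N17041 (iv F223160)) (tt N13697 (iv D48678)) (tt N18028 D50798) (tt N13700 F217300) (tt N18027 (iv F226894)) (tt N18022 (iv F226876)) (tt N13755 F217301))
theorem Q15910 : ∀ i, i < 15910 → P i := stepQ 15909 Q15909 (allL N15909 (tt N16007 (iv F217778)) (tt N13729 F217302) (tt N13702 F217303) (tt N13725 F217304) (tt N16285 (iv F219514)) (tt N13718 F217305) (tt N13739 F217306) (tt N13709 F217307) (tt N13701 (iv D48679)) (tt N15909 F217308))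
theorem Q15911 : ∀ i, i < 15911 → P i := stepQ 15910 Q15910 (allL N15910 (tt N13704 F217309) (tt N16369 (iv F219905)) (tt N15910 F217310) (tt N17034 (iv F223132)) (tt N13703 (iv D48680)) (tt N18029 D50799) (tt N15910 F217311) (tt N13755 F217312) (tt N15910 F217313) (tt N18027 (iv F226895)))
theorem Q15912 : ∀ i, i < 15912 → P i := stepQ 15911 Q15911 (allL N15911 (tt N18029 (iv F226899)) (tt N13707 F217314) (tt N15911 F217315) (tt N17974 (iv F226653)) (tt N13723 F217316) (tt N13704 (iv D48681)) (tt N18030 D50800) (tt N13757 F217317) (tt N15911 F217318) (tt N18031 D50801))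
theorem Q15913 : ∀ i, i < 15913 → P i := stepQ 15912 Q15912 (allL N15912 (tt N18027 (iv F226891)) (tt N13708 F217319) (tt N15912 F217320) (tt N17944 (iv F226550)) (tt N13705 F217321) (tt N18031 (iv F226912)) (tt N15912 F217322) (tt N13752 F217323) (tt N18032 D50802) (tt N13704 (iv D48682)))
theorem Q15914 : ∀ i, i < 15914 → P i := stepQ 15913 Q15913 (allL N15913 (tt N18019 (iv F226858)) (tt N13709 F217324) (tt N15913 F217325) (tt N13718 F217326) (tt N18032 (iv F226916)) (tt N13725 F217327) (tt N15913 F217328) (tt N13729 F217329) (tt N13705 (iv D48683)) (tt N15913 F217330))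
theorem Q15915 : ∀ i, i < 15915 → P i := stepQ 15914 Q15914 (allL N15914 (tt N16313 (iv F219652)) (tt N17974 (iv F226652)) (tt N16259 (iv F219368)) (tt N13707 F217331) (tt N17892 (iv F226406)) (tt N13706 (iv D48684)) (tt N18033 D50803) (tt N16261 (iv F219381)) (tt N18034 D50804) (tt N18035 D50805))
theorem Q15916 : ∀ i, i < 15916 → P i := stepQ 15915 Q15915 (allL N15915 (tt N16296 (iv F219565)) (tt N16984 (iv F222910)) (tt N16250 F219317) (tt N15915 F217332) (tt N13750 F217333) (tt N18034 (iv F226923)) (tt N15915 F217334) (tt N16252 (iv F219329)) (tt N13706 (iv D48685)) (tt N18036 D50806))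
theorem Q15917 : ∀ i, i < 15917 → P i := stepQ 15916 Q15916 (allL N15916 (tt N16323 (iv F219685)) (tt N17944 (iv F226549)) (tt N16264 (iv F219390)) (tt N13708 F217335) (tt N13751 F217336) (tt N18035 (iv F226925)) (tt N15916 F217337) (tt N16265 (iv F219401)) (tt N18037 D50807) (tt N13706 (iv D48686)))
theorem Q15918 : ∀ i, i < 15918 → P i := stepQ 15917 Q15917 (allL N15917 (tt N16199 (iv F218992)) (tt N18030 (iv F226904)) (tt N13710 F217338) (tt N18033 (iv F226920)) (tt N13726 F217339) (tt N15917 F217340) (tt N13707 (iv D48687)) (tt N17375 (iv F224678)) (tt N15917 F217341) (tt N18038 D50808))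
theorem Q15919 : ∀ i, i < 15919 → P i := stepQ 15918 Q15918 (allL N15918 (tt N16360 (iv F219856)) (tt N18031 (iv F226909)) (tt N13711 F217342) (tt N18035 (iv F226924)) (tt N13727 F217343) (tt N13708 F217344) (tt N18038 (iv F226934)) (tt N16283 (iv F219502)) (tt N18039 D50809) (tt N13707 (iv D48688)))
theorem Q15920 : ∀ i, i < 15920 → P i := stepQ 15919 Q15919 (allL N15919 (tt N16371 (iv F219916)) (tt N18032 (iv F226914)) (tt N13712 F217345) (tt N18040 D50810) (tt N13709 F217346) (tt N18039 (iv F226937)) (tt N15919 F217347) (tt N16285 (iv F219516)) (tt N13708 (iv D48689)) (tt N15919 F217348))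
theorem Q15921 : ∀ i, i < 15921 → P i := stepQ 15920 Q15920 (allL N15920 (tt N18016 (iv F226841)) (tt N13718 F217349) (tt N15920 F217350) (tt N13709 (iv D48690)) (tt N18041 D50811) (tt N13729 F217351) (tt N15920 F217352) (tt N13725 F217353) (tt N13715 F217354) (tt N15920 F217355))
theorem Q15922 : ∀ i, i < 15922 → P i := stepQ 15921 Q15921 (allL N15921 (tt N16201 (iv F219002)) (tt N15921 F217356) (tt N18038 (iv F226931)) (tt N16282 (iv F219490)) (tt N13731 F217357) (tt N15921 F217358) (tt N13711 F217359) (tt N17376 (iv F224686)) (tt N18042 D50812) (tt N13710 (iv D48691)))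
theorem Q15923 : ∀ i, i < 15923 → P i := stepQ 15922 Q15922 (allL N15922 (tt N16361 (iv F219861)) (tt N15922 F217360) (tt N18039 (iv F226935)) (tt N18043 D50813) (tt N13732 F217361) (tt N13712 F217362) (tt N18042 (iv F226950)) (tt N16284 (iv F219509)) (tt N13711 (iv D48692)) (tt N15922 F217363))
theorem Q15924 : ∀ i, i < 15924 → P i := stepQ 15923 Q15923 (allL N15923 (tt N16204 (iv F219021)) (tt N15923 F217364) (tt N18044 D50814) (tt N13712 (iv D48693)) (tt N15923 F217365) (tt N18043 (iv F226953)) (tt N15923 F217366) (tt N13746 F217367) (tt N13745 F217368) (tt N15923 F217369))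
theorem Q15925 : ∀ i, i < 15925 → P i := stepQ 15924 Q15924 (allL N15924 (tt N13714 F217370) (tt N17317 (iv F224419)) (tt N15924 F217371) (tt N17903 (iv F226425)) (tt N13713 (iv D48694)) (tt N18045 D50815) (tt N15924 F217372) (tt N13721 F217373) (tt N15924 F217374) (tt N18026 (iv F226890)))
theorem Q15926 : ∀ i, i < 15926 → P i := stepQ 15925 Q15925 (allL N15925 (tt N18045 (iv F226962)) (tt N13716 F217375) (tt N15925 F217376) (tt N17905 (iv F226433)) (tt N13757 F217377) (tt N13714 (iv D48695)) (tt N17383 (iv F224722)) (tt N13723 F217378) (tt N15925 F217379) (tt N18046 D50816))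
theorem Q15927 : ∀ i, i < 15927 → P i := stepQ 15926 Q15926 (allL N15926 (tt N18026 (iv F226886)) (tt N13717 F217380) (tt N15926 F217381) (tt N17906 (iv F226436)) (tt N13715 F217382) (tt N18046 (iv F226970)) (tt N15926 F217383) (tt N13724 F217384) (tt N18041 (iv F226945)) (tt N13714 (iv D48696)))
theorem Q15928 : ∀ i, i < 15928 → P i := stepQ 15927 Q15927 (allL N15927 (tt N16366 (iv F219887)) (tt N18046 (iv F226967)) (tt N13719 F217385) (tt N17908 (iv F226445)) (tt N16283 (iv F219499)) (tt N13717 F217386) (tt N17386 (iv F224736)) (tt N13727 F217387) (tt N18047 D50817) (tt N13716 (iv D48697)))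
theorem Q15929 : ∀ i, i < 15929 → P i := stepQ 15928 Q15928 (allL N15928 (tt N17319 (iv F224430)) (tt N18041 (iv F226941)) (tt N13720 F217388) (tt N18048 D50818) (tt N13718 F217389) (tt N18047 (iv F226973)) (tt N15928 F217390) (tt N13728 F217391) (tt N13717 (iv D48698)) (tt N15928 F217392))
theorem Q15930 : ∀ i, i < 15930 → P i := stepQ 15929 Q15929 (allL N15929 (tt N16368 (iv F219897)) (tt N15929 F217393) (tt N18047 (iv F226972)) (tt N17381 (iv F224710)) (tt N16284 (iv F219506)) (tt N13720 F217394) (tt N17388 (iv F224745)) (tt N13732 F217395) (tt N13719 (iv D48699)) (tt N15929 F217396))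
theorem Q15931 : ∀ i, i < 15931 → P i := stepQ 15930 Q15930 (allL N15930 (tt N13723 F217397) (tt N17314 (iv F224407)) (tt N15930 F217398) (tt N17914 (iv F226465)) (tt N18029 (iv F226901)) (tt N13721 (iv D48700)) (tt N17950 (iv F226572)) (tt N18045 (iv F226965)) (tt N15930 F217399) (tt N18049 D50819))
theorem Q15932 : ∀ i, i < 15932 → P i := stepQ 15931 Q15931 (allL N15931 (tt N13724 F217400) (tt N17320 (iv F224437)) (tt N15931 F217401) (tt N17915 (iv F226467)) (tt N13722 F217402) (tt N18049 (iv F226981)) (tt N13734 F217403) (tt N18026 (iv F226889)) (tt N18050 D50820) (tt N13721 (iv D48701)))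
theorem Q15933 : ∀ i, i < 15933 → P i := stepQ 15932 Q15932 (allL N15932 (tt N13725 F217404) (tt N18020 (iv F226866)) (tt N15932 F217405) (tt N16007 (iv F217780)) (tt N18050 (iv F226984)) (tt N18019 (iv F226860)) (tt N13735 F217406) (tt N18016 (iv F226845)) (tt N13722 (iv D48702)) (tt N15932 F217407))
theorem Q15934 : ∀ i, i < 15934 → P i := stepQ 15933 Q15933 (allL N15933 (tt N17950 (iv F226569)) (tt N13726 F217408) (tt N15933 F217409) (tt N17917 (iv F226473)) (tt N18030 (iv F226906)) (tt N13736 F217410) (tt N13723 (iv D48703)) (tt N17955 (iv F226594)) (tt N15933 F217411) (tt N18051 D50821))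
theorem Q15935 : ∀ i, i < 15935 → P i := stepQ 15934 Q15934 (allL N15934 (tt N18049 (iv F226979)) (tt N13727 F217412) (tt N15934 F217413) (tt N17918 (iv F226476)) (tt N18031 (iv F226911)) (tt N13724 F217414) (tt N18051 (iv F226990)) (tt N18046 (iv F226971)) (tt N18052 D50822) (tt N13723 (iv D48704)))
theorem Q15936 : ∀ i, i < 15936 → P i := stepQ 15935 Q15935 (allL N15935 (tt N18050 (iv F226982)) (tt N13728 F217415) (tt N15935 F217416) (tt N18053 D50823) (tt N13725 F217417) (tt N18052 (iv F226993)) (tt N13738 F217418) (tt N18041 (iv F226944)) (tt N13724 (iv D48705)) (tt N15935 F217419))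
theorem Q15937 : ∀ i, i < 15937 → P i := stepQ 15936 Q15936 (allL N15936 (tt N16196 (iv F218972)) (tt N17955 (iv F226591)) (tt N13730 F217420) (tt N17921 (iv F226486)) (tt N17375 (iv F224675)) (tt N13740 F217421) (tt N17378 (iv F224694)) (tt N13726 (iv D48706)) (tt N15936 F217422) (tt N18054 D50824))
theorem Q15938 : ∀ i, i < 15938 → P i := stepQ 15937 Q15937 (allL N15937 (tt N16200 (iv F218998)) (tt N18051 (iv F226987)) (tt N13731 F217423) (tt N17922 (iv F226489)) (tt N18038 (iv F226932)) (tt N13741 F217424) (tt N13727 F217425) (tt N18054 (iv F227000)) (tt N18055 D50825) (tt N13726 (iv D48707)))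
theorem Q15939 : ∀ i, i < 15939 → P i := stepQ 15938 Q15938 (allL N15938 (tt N17316 (iv F224415)) (tt N18052 (iv F226991)) (tt N13732 F217426) (tt N18056 D50826) (tt N18039 (iv F226936)) (tt N13728 F217427) (tt N18055 (iv F227003)) (tt N18047 (iv F226974)) (tt N13727 (iv D48708)) (tt N15938 F217428))
theorem Q15940 : ∀ i, i < 15940 → P i := stepQ 15939 Q15939 (allL N15939 (tt N17322 (iv F224446)) (tt N18053 (iv F226995)) (tt N17394 (iv F224775)) (tt N13728 (iv D48709)) (tt N18057 D50827) (tt N18056 (iv F227005)) (tt N13743 F217429) (tt N18048 (iv F226977)) (tt N17924 (iv F226495)) (tt N15939 F217430))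
theorem Q15941 : ∀ i, i < 15941 → P i := stepQ 15940 Q15940 (allL N15940 (tt N18022 (iv F226873)) (tt N16285 (iv F219512)) (tt N15940 F217431) (tt N18057 (iv F227007)) (tt N13729 (iv D48710)) (tt N18058 D50828) (tt N13744 F217432) (tt N18032 (iv F226918)) (tt N13752 F217433) (tt N15940 F217434))
theorem Q15942 : ∀ i, i < 15942 → P i := stepQ 15941 Q15941 (allL N15941 (tt N16197 (iv F218979)) (tt N15941 F217435) (tt N18054 (iv F226998)) (tt N13749 F217436) (tt N17376 (iv F224683)) (tt N13745 F217437) (tt N17380 (iv F224706)) (tt N13731 F217438) (tt N18043 (iv F226955)) (tt N13730 (iv D48711)))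
theorem Q15943 : ∀ i, i < 15943 → P i := stepQ 15942 Q15942 (allL N15942 (tt N16202 (iv F219009)) (tt N15942 F217439) (tt N18055 (iv F227001)) (tt N16284 (iv F219505)) (tt N18042 (iv F226948)) (tt N13746 F217440) (tt N13732 F217441) (tt N18043 (iv F226954)) (tt N13731 (iv D48712)) (tt N15942 F217442))
theorem Q15944 : ∀ i, i < 15944 → P i := stepQ 15943 Q15943 (allL N15943 (tt N13736 F217443) (tt N13790 F217444) (tt N15943 F217445) (tt N17415 F224870) (tt N15943 F217446) (tt N17950 (iv F226571)) (tt N13733 (iv D48713)) (tt N13792 (iv F217448)) (tt N15943 F217447) (tt N18059 D50829))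
theorem Q15945 : ∀ i, i < 15945 → P i := stepQ 15944 Q15944 (allL N15944 (tt N13737 F217449) (tt N16207 (iv F219040)) (tt N15944 F217450) (tt N17423 (iv F224904)) (tt N15944 F217451) (tt N13734 F217452) (tt N18059 (iv F227017)) (tt N15944 F217453) (tt N18060 D50830) (tt N13733 (iv D48714)))
theorem Q15946 : ∀ i, i < 15946 → P i := stepQ 15945 Q15945 (allL N15945 (tt N13738 F217454) (tt N17323 (iv F224451)) (tt N15945 F217455) (tt N16377 (iv F219945)) (tt N13735 F217456) (tt N18060 (iv F227022)) (tt N18050 (iv F226985)) (tt N15945 F217457) (tt N13734 (iv D48715)) (tt N15945 F217458))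
theorem Q15947 : ∀ i, i < 15947 → P i := stepQ 15946 Q15946 (allL N15946 (tt N13792 F217459) (tt N13740 F217460) (tt N15946 F217461) (tt N17929 (iv F226508)) (tt N15946 F217462) (tt N17955 (iv F226593)) (tt N15946 F217463) (tt N13736 (iv D48716)) (tt N15946 F217464) (tt N18061 D50831))
theorem Q15948 : ∀ i, i < 15948 → P i := stepQ 15947 Q15947 (allL N15947 (tt N18059 (iv F227013)) (tt N13741 F217465) (tt N15947 F217466) (tt N17930 (iv F226511)) (tt N15947 F217467) (tt N18051 (iv F226989)) (tt N13737 F217468) (tt N18061 (iv F227030)) (tt N18062 D50832) (tt N13736 (iv D48717)))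
theorem Q15949 : ∀ i, i < 15949 → P i := stepQ 15948 Q15948 (allL N15948 (tt N18060 (iv F227019)) (tt N13742 F217469) (tt N15948 F217470) (tt N18063 D50833) (tt N15948 F217471) (tt N13738 F217472) (tt N18062 (iv F227034)) (tt N15948 F217473) (tt N13737 (iv D48718)) (tt N15948 F217474))
theorem Q15950 : ∀ i, i < 15950 → P i := stepQ 15949 Q15949 (allL N15949 (tt N16377 (iv F219944)) (tt N13743 F217475) (tt N18064 D50834) (tt N13738 (iv D48719)) (tt N16286 (iv F219521)) (tt N18063 (iv F227037)) (tt N18053 (iv F226996)) (tt N15949 F217476) (tt N17932 (iv F226518)) (tt N15949 F217477))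
theorem Q15951 : ∀ i, i < 15951 → P i := stepQ 15950 Q15950 (allL N15950 (tt N16203 (iv F219015)) (tt N18061 (iv F227026)) (tt N13745 F217478) (tt N17933 (iv F226520)) (tt N15950 F217479) (tt N18054 (iv F226999)) (tt N15950 F217480) (tt N13741 F217481) (tt N18044 (iv F226960)) (tt N13740 (iv D48720)))
theorem Q15952 : ∀ i, i < 15952 → P i := stepQ 15951 Q15951 (allL N15951 (tt N16206 (iv F219034)) (tt N18062 (iv F227031)) (tt N13746 F217482) (tt N18065 D50835) (tt N15951 F217483) (tt N18055 (iv F227002)) (tt N13742 F217484) (tt N18044 (iv F226959)) (tt N13741 (iv D48721)) (tt N15951 F217485))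
theorem Q15953 : ∀ i, i < 15953 → P i := stepQ 15952 Q15952 (allL N15952 (tt N16209 (iv F219053)) (tt N18063 (iv F227036)) (tt N16286 (iv F219520)) (tt N13742 (iv D48722)) (tt N18064 (iv F227041)) (tt N13743 F217486) (tt N18065 (iv F227044)) (tt N15952 F217487) (tt N17935 (iv F226527)) (tt N15952 F217488))
theorem Q15954 : ∀ i, i < 15954 → P i := stepQ 15953 Q15953 (allL N15953 (tt N17325 (iv F224459)) (tt N16286 (iv F219519)) (tt N17397 (iv F224790)) (tt N13744 F217489) (tt N13743 (iv D48723)) (tt N17396 (iv F224786)) (tt N18057 (iv F227008)) (tt N15953 F217490) (tt N17936 (iv F226530)) (tt N15953 F217491))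
theorem Q15955 : ∀ i, i < 15955 → P i := stepQ 15954 Q15954 (allL N15954 (tt N16195 (iv F218964)) (tt N15954 F217492) (tt N17938 (iv F226533)) (tt N17380 (iv F224703)) (tt N17234 (iv F224044)) (tt N15954 F217493) (tt N13749 F217494) (tt N13748 F217495) (tt N16282 (iv F219495)) (tt N13747 (iv D48724)))
theorem Q15956 : ∀ i, i < 15956 → P i := stepQ 15955 Q15955 (allL N15955 (tt N18024 (iv F226881)) (tt N16985 (iv F222917)) (tt N17996 (iv F226753)) (tt N13756 F217496) (tt N18036 (iv F226927)) (tt N17941 (iv F226546)) (tt N15955 F217497) (tt N16989 (iv F222936)) (tt N18066 D50836) (tt N13750 (iv D48725)))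
theorem Q15957 : ∀ i, i < 15957 → P i := stepQ 15956 Q15956 (allL N15956 (tt N18025 (iv F226884)) (tt N17910 (iv F226452)) (tt N17997 (iv F226756)) (tt N17907 (iv F226441)) (tt N18037 (iv F226929)) (tt N17942 (iv F226547)) (tt N15956 F217498) (tt N17920 (iv F226483)) (tt N13751 (iv D48726)) (tt N18066 (iv F227047)))
theorem Q15958 : ∀ i, i < 15958 → P i := stepQ 15957 Q15957 (allL N15957 (tt N18028 (iv F226896)) (tt N16283 (iv F219497)) (tt N15957 F217499) (tt N17945 (iv F226554)) (tt N18046 (iv F226969)) (tt N13752 (iv D48727)) (tt N17384 (iv F224727)) (tt N18031 (iv F226913)) (tt N18058 (iv F227011)) (tt N13757 F217500))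
theorem Q15959 : ∀ i, i < 15959 → P i := stepQ 15958 Q15958 (allL N15958 (tt N13756 F217501) (tt N17142 (iv F223543)) (tt N15958 F217502) (tt N18024 (iv F226882)) (tt N15958 F217503) (tt N17949 (iv F226568)) (tt N15958 F217504) (tt N17015 (iv F223064)) (tt N17971 (iv F226647)) (tt N13753 (iv D48728)))
theorem Q15960 : ∀ i, i < 15960 → P i := stepQ 15959 Q15959 (allL N15959 (tt N13757 F217505) (tt N16362 (iv F219867)) (tt N15959 F217506) (tt N17040 (iv F223156)) (tt N18045 (iv F226964)) (tt N13755 (iv D48729)) (tt N17382 (iv F224717)) (tt N18029 (iv F226902)) (tt N15959 F217507) (tt N18028 (iv F226898)))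
theorem Q15961 : ∀ i, i < 15961 → P i := stepQ 15960 Q15960 (allL N15960 (tt N17738 (iv F225920)) (tt N17344 (iv F224552)) (tt N16907 (iv F222550)) (tt N13772 F217508) (tt N16905 (iv F222544)) (tt N17730 (iv F225900)) (tt N15960 F217509) (tt N16911 (iv F222576)) (tt N18067 D50837) (tt N13771 (iv D48730)))
theorem Q15962 : ∀ i, i < 15962 → P i := stepQ 15961 Q15961 (allL N15961 (tt N13776 F217510) (tt N16176 (iv F218861)) (tt N13774 (iv D48731)) (tt N13788 F217511) (tt N17343 (iv F224547)) (tt N17787 (iv F226089)) (tt N15961 F217512) (tt N16179 (iv F218878)) (tt N17360 (iv F224612)) (tt N18068 D50838))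
theorem Q15963 : ∀ i, i < 15963 → P i := stepQ 15962 Q15962 (allL N15962 (tt N13777 F217513) (tt N16905 (iv F222541)) (tt N18068 (iv F227051)) (tt N13775 F217514) (tt N17344 (iv F224554)) (tt N17789 (iv F226094)) (tt N15962 F217515) (tt N16909 (iv F222563)) (tt N18069 D50839) (tt N13774 (iv D48732)))
theorem Q15964 : ∀ i, i < 15964 → P i := stepQ 15963 Q15963 (allL N15963 (tt N17929 (iv F226506)) (tt N13776 (iv D48733)) (tt N17849 (iv F226275)) (tt N13792 F217516) (tt N17412 (iv F224850)) (tt N17825 (iv F226214)) (tt N15963 F217517) (tt N17415 (iv F224868)) (tt N17450 (iv F224995)) (tt N18070 D50840))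
theorem Q15965 : ∀ i, i < 15965 → P i := stepQ 15964 Q15964 (allL N15964 (tt N18068 (iv F227050)) (tt N18070 (iv F227056)) (tt N13777 F217518) (tt N13793 F217519) (tt N17413 (iv F224856)) (tt N17827 (iv F226218)) (tt N15964 F217520) (tt N17418 (iv F224883)) (tt N18071 D50841) (tt N13776 (iv D48734)))
theorem Q15966 : ∀ i, i < 15966 → P i := stepQ 15965 Q15965 (allL N15965 (tt N18069 (iv F227054)) (tt N17853 (iv F226293)) (tt N18071 (iv F227059)) (tt N18067 (iv F227048)) (tt N17414 (iv F224860)) (tt N17829 (iv F226221)) (tt N15965 F217521) (tt N17422 (iv F224899)) (tt N13777 (iv D48735)) (tt N17456 (iv F225021)))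
theorem Q15967 : ∀ i, i < 15967 → P i := stepQ 15966 Q15966 (allL N15966 (tt N16159 (iv F218767)) (tt N17016 (iv F223067)) (tt N15966 F217522) (tt N17861 (iv F226322)) (tt N16290 (iv F219542)) (tt N13780 F217523) (tt N16287 (iv F219529)) (tt N13778 (iv D48736)) (tt N13782 F217524) (tt N18072 D50842))
theorem Q15968 : ∀ i, i < 15968 → P i := stepQ 15967 Q15967 (allL N15967 (tt N16161 (iv F218777)) (tt N17780 (iv F226050)) (tt N15967 F217525) (tt N17862 (iv F226325)) (tt N17402 (iv F224813)) (tt N13781 F217526) (tt N13779 F217527) (tt N18072 (iv F227063)) (tt N16249 (iv F219312)) (tt N13778 (iv D48737)))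
theorem Q15969 : ∀ i, i < 15969 → P i := stepQ 15968 Q15968 (allL N15968 (tt N16163 (iv F218788)) (tt N17784 (iv F226069)) (tt N15968 F217528) (tt N17870 (iv F226351)) (tt N15968 F217529) (tt N18072 (iv F227062)) (tt N15968 F217530) (tt N13781 F217531) (tt N16251 (iv F219324)) (tt N13780 (iv D48738)))
theorem Q15970 : ∀ i, i < 15970 → P i := stepQ 15969 Q15969 (allL N15969 (tt N13787 F217532) (tt N16552 (iv F220950)) (tt N16874 (iv F222407)) (tt N13785 F217533) (tt N16545 (iv F220904)) (tt N16653 (iv F221425)) (tt N15969 F217534) (tt N16844 (iv F222241)) (tt N18073 D50843) (tt N13784 (iv D48739)))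
theorem Q15971 : ∀ i, i < 15971 → P i := stepQ 15970 Q15970 (allL N15970 (tt N18073 (iv F227064)) (tt N15970 F217535) (tt N16924 (iv F222627)) (tt N13794 F217536) (tt N16846 (iv F222250)) (tt N17946 (iv F226558)) (tt N15970 F217537) (tt N16849 (iv F222272)) (tt N13787 (iv D48740)) (tt N15970 F217538))
theorem Q15972 : ∀ i, i < 15972 → P i := stepQ 15971 Q15971 (allL N15971 (tt N13793 F217539) (tt N16203 (iv F219016)) (tt N13789 F217540) (tt N18068 (iv F227052)) (tt N15971 F217541) (tt N17947 (iv F226562)) (tt N15971 F217542) (tt N16205 (iv F219033)) (tt N18074 D50844) (tt N13788 (iv D48741)))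
theorem Q15973 : ∀ i, i < 15973 → P i := stepQ 15972 Q15972 (allL N15972 (tt N13794 F217543) (tt N16217 (iv F219106)) (tt N18074 (iv F227069)) (tt N18073 (iv F227065)) (tt N15972 F217544) (tt N17948 (iv F226564)) (tt N15972 F217545) (tt N16218 (iv F219116)) (tt N13789 (iv D48742)) (tt N15972 F217546))
theorem Q15974 : ∀ i, i < 15974 → P i := stepQ 15973 Q15973 (allL N15973 (tt N16205 (iv F219028)) (tt N18059 (iv F227014)) (tt N13791 F217547) (tt N17418 (iv F224880)) (tt N15973 F217548) (tt N17952 (iv F226580)) (tt N16207 (iv F219045)) (tt N13793 F217549) (tt N18075 D50845) (tt N13790 (iv D48743)))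
theorem Q15975 : ∀ i, i < 15975 → P i := stepQ 15974 Q15974 (allL N15974 (tt N16218 (iv F219112)) (tt N15974 F217550) (tt N18075 (iv F227073)) (tt N16849 (iv F222269)) (tt N15974 F217551) (tt N17954 (iv F226588)) (tt N16220 (iv F219128)) (tt N13794 F217552) (tt N13791 (iv D48744)) (tt N15974 F217553))
theorem Q15976 : ∀ i, i < 15976 → P i := stepQ 15975 Q15975 (allL N15975 (tt N18061 (iv F227025)) (tt N13793 F217554) (tt N15975 F217555) (tt N18070 (iv F227057)) (tt N15975 F217556) (tt N17957 (iv F226602)) (tt N15975 F217557) (tt N18059 (iv F227018)) (tt N18076 D50846) (tt N13792 (iv D48745)))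
theorem Q15977 : ∀ i, i < 15977 → P i := stepQ 15976 Q15976 (allL N15976 (tt N18074 (iv F227068)) (tt N18076 (iv F227077)) (tt N13794 F217558) (tt N18077 D50847) (tt N15976 F217559) (tt N17960 (iv F226609)) (tt N15976 F217560) (tt N18075 (iv F227075)) (tt N13793 (iv D48746)) (tt N15976 F217561))
theorem Q15978 : ∀ i, i < 15978 → P i := stepQ 15977 Q15977 (allL N15977 (tt N14219 F217562) (tt N15977 F217563) (tt N13892 F217564) (tt N15977 F217565) (tt N14277 F217566) (tt N15977 F217567) (tt N13798 (iv D48747)) (tt N14381 (iv F217569)) (tt N15977 F217568) (tt N18078 D50848))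
theorem Q15979 : ∀ i, i < 15979 → P i := stepQ 15978 Q15978 (allL N15978 (tt N15356 F217570) (tt N15978 F217571) (tt N13893 F217572) (tt N15978 F217573) (tt N15331 F217574) (tt N13799 F217575) (tt N18078 (iv F227090)) (tt N13808 F217576) (tt N18079 D50849) (tt N13798 (iv D48748)))
theorem Q15980 : ∀ i, i < 15980 → P i := stepQ 15979 Q15979 (allL N15979 (tt N15813 F217577) (tt N15979 F217578) (tt N13894 F217579) (tt N18080 D50850) (tt N13800 F217580) (tt N18079 (iv F227097)) (tt N15979 F217581) (tt N13809 F217582) (tt N13799 (iv D48749)) (tt N15979 F217583))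
theorem Q15981 : ∀ i, i < 15981 → P i := stepQ 15980 Q15980 (allL N15980 (tt N13807 F217584) (tt N14376 F217585) (tt N13955 F217586) (tt N15980 F217587) (tt N14475 F217588) (tt N13814 F217589) (tt N13801 (iv D48750)) (tt N14378 F217590) (tt N15980 F217591) (tt N18081 D50851))
theorem Q15982 : ∀ i, i < 15982 → P i := stepQ 15981 Q15981 (allL N15981 (tt N13808 F217592) (tt N15092 F217593) (tt N13956 F217594) (tt N15981 F217595) (tt N15091 F217596) (tt N13802 F217597) (tt N18081 (iv F227117)) (tt N15356 F217598) (tt N15550 (iv F217599)) (tt N13801 (iv D48751)))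
theorem Q15983 : ∀ i, i < 15983 → P i := stepQ 15982 Q15982 (allL N15982 (tt N13809 F217600) (tt N15551 F217601) (tt N13957 F217602) (tt N15884 (iv F217608)) (tt N13803 F217603) (tt N15550 F217604) (tt N13816 F217605) (tt N15813 F217606) (tt N13802 (iv D48752)) (tt N15982 F217607))
theorem Q15984 : ∀ i, i < 15984 → P i := stepQ 15983 Q15983 (allL N15983 (tt N14475 F217609) (tt N15983 F217610) (tt N13986 F217611) (tt N15330 F217612) (tt N13807 F217613) (tt N15447 F217614) (tt N13804 (iv D48753)) (tt N14478 F217615) (tt N15983 F217616) (tt N18082 D50852))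
theorem Q15985 : ∀ i, i < 15985 → P i := stepQ 15984 Q15984 (allL N15984 (tt N15091 F217617) (tt N15984 F217618) (tt N13987 F217619) (tt N15090 F217620) (tt N13808 F217621) (tt N13805 F217622) (tt N18082 (iv F227126)) (tt N15331 F217623) (tt N15548 (iv F217624)) (tt N13804 (iv D48754)))
theorem Q15986 : ∀ i, i < 15986 → P i := stepQ 15985 Q15985 (allL N15985 (tt N14622 F217625) (tt N15985 F217626) (tt N13988 F217627) (tt N14621 F217628) (tt N13806 F217629) (tt N15548 F217630) (tt N15453 F217631) (tt N15332 F217632) (tt N13805 (iv D48755)) (tt N15985 F217633))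
theorem Q15987 : ∀ i, i < 15987 → P i := stepQ 15986 Q15986 (allL N15986 (tt N14378 F217634) (tt N15986 F217635) (tt N13989 F217636) (tt N15986 F217637) (tt N14478 F217638) (tt N13824 F217639) (tt N14381 F217640) (tt N13807 (iv D48756)) (tt N15986 F217641) (tt N18083 D50853))
theorem Q15988 : ∀ i, i < 15988 → P i := stepQ 15987 Q15987 (allL N15987 (tt N18081 (iv F227111)) (tt N15987 F217642) (tt N13990 F217643) (tt N15987 F217644) (tt N18082 (iv F227124)) (tt N13825 F217645) (tt N13808 F217646) (tt N18083 (iv F227136)) (tt N18084 D50854) (tt N13807 (iv D48757)))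
theorem Q15989 : ∀ i, i < 15989 → P i := stepQ 15988 Q15988 (allL N15988 (tt N15550 F217647) (tt N15988 F217648) (tt N13991 F217649) (tt N15882 (iv F217653)) (tt N15548 F217650) (tt N13809 F217651) (tt N18084 (iv F227143)) (tt N18079 (iv F227099)) (tt N13808 (iv D48758)) (tt N15988 F217652))
theorem Q15990 : ∀ i, i < 15990 → P i := stepQ 15989 Q15989 (allL N15989 (tt N15884 F217654) (tt N15989 F217655) (tt N18085 D50855) (tt N13809 (iv D48759)) (tt N15989 F217656) (tt N15882 F217657) (tt N13827 F217658) (tt N18080 (iv F227108)) (tt N15989 F217659) (tt N15989 F217660))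
theorem Q15991 : ∀ i, i < 15991 → P i := stepQ 15990 Q15990 (allL N15990 (tt N15990 F217661) (tt N14075 F217662) (tt N13812 F217663) (tt N18086 D50856) (tt N14624 F217664) (tt N15143 F217665) (tt N15818 F217666) (tt N15990 F217667) (tt N13810 (iv D48760)) (tt N15990 F217668))
theorem Q15992 : ∀ i, i < 15992 → P i := stepQ 15991 Q15991 (allL N15991 (tt N15991 F217669) (tt N13816 F217670) (tt N14624 F217671) (tt N15885 (iv F217677)) (tt N13812 F217672) (tt N14201 F217673) (tt N15551 F217674) (tt N15991 F217675) (tt N13811 (iv D48761)) (tt N15991 F217676))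
theorem Q15993 : ∀ i, i < 15993 → P i := stepQ 15992 Q15992 (allL N15992 (tt N13824 F217678) (tt N14373 F217679) (tt N14104 F217680) (tt N15992 F217681) (tt N14979 F217682) (tt N14378 F217683) (tt N15992 F217684) (tt N13814 (iv D48762)) (tt N15992 F217685) (tt N18087 D50857))
theorem Q15994 : ∀ i, i < 15994 → P i := stepQ 15993 Q15993 (allL N15993 (tt N13825 F217686) (tt N14917 F217687) (tt N14105 F217688) (tt N15993 F217689) (tt N14916 F217690) (tt N18081 (iv F227116)) (tt N13815 F217691) (tt N18087 (iv F227172)) (tt N18088 D50858) (tt N13814 (iv D48763)))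
theorem Q15995 : ∀ i, i < 15995 → P i := stepQ 15994 Q15994 (allL N15994 (tt N13826 F217692) (tt N14201 F217693) (tt N14106 F217694) (tt N18089 D50859) (tt N14200 F217695) (tt N13816 F217696) (tt N18088 (iv F227178)) (tt N15994 F217697) (tt N13815 (iv D48764)) (tt N15994 F217698))
theorem Q15996 : ∀ i, i < 15996 → P i := stepQ 15995 Q15995 (allL N15995 (tt N13827 F217699) (tt N15885 F217700) (tt N14639 F217701) (tt N13816 (iv D48765)) (tt N15995 F217702) (tt N18089 (iv F227185)) (tt N15884 F217703) (tt N15995 F217704) (tt N15995 F217705) (tt N15995 F217706))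
theorem Q15997 : ∀ i, i < 15997 → P i := stepQ 15996 Q15996 (allL N15996 (tt N14977 F217707) (tt N15996 F217708) (tt N14158 F217709) (tt N14976 F217710) (tt N15447 F217711) (tt N13821 F217712) (tt N13818 (iv D48766)) (tt N18090 D50860) (tt N15996 F217713) (tt N18091 D50861))
theorem Q15998 : ∀ i, i < 15998 → P i := stepQ 15997 Q15997 (allL N15997 (tt N15513 F217714) (tt N15997 F217715) (tt N14159 F217716) (tt N15657 F217717) (tt N15449 F217718) (tt N13819 F217719) (tt N18091 (iv F227204)) (tt N15451 F217720) (tt N18092 D50862) (tt N13818 (iv D48767)))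
theorem Q15999 : ∀ i, i < 15999 → P i := stepQ 15998 Q15998 (allL N15998 (tt N15304 F217721) (tt N15998 F217722) (tt N14160 F217723) (tt N15303 F217724) (tt N13820 F217725) (tt N18092 (iv F227210)) (tt N13823 F217726) (tt N15832 F217727) (tt N13819 (iv D48768)) (tt N15998 F217728))
theorem Q16000 : ∀ i, i < 16000 → P i := stepQ 15999 Q15999 (allL N15999 (tt N14979 F217729) (tt N15999 F217730) (tt N14161 F217731) (tt N14978 F217732) (tt N13824 F217733) (tt N18090 (iv F227195)) (tt N15999 F217734) (tt N13821 (iv D48769)) (tt N15999 F217735) (tt N18093 D50863))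
theorem Q16001 : ∀ i, i < 16001 → P i := stepQ 16000 Q16000 (allL N16000 (tt N14916 F217736) (tt N16000 F217737) (tt N14162 F217738) (tt N14915 F217739) (tt N13825 F217740) (tt N18091 (iv F227203)) (tt N13822 F217741) (tt N18093 (iv F227219)) (tt N18094 D50864) (tt N13821 (iv D48770)))
theorem Q16002 : ∀ i, i < 16002 → P i := stepQ 16001 Q16001 (allL N16001 (tt N14200 F217742) (tt N16001 F217743) (tt N14163 F217744) (tt N14199 F217745) (tt N13826 F217746) (tt N13823 F217747) (tt N18094 (iv F227225)) (tt N16001 F217748) (tt N13822 (iv D48771)) (tt N16001 F217749))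
theorem Q16003 : ∀ i, i < 16003 → P i := stepQ 16002 Q16002 (allL N16002 (tt N18087 (iv F227165)) (tt N16002 F217750) (tt N14165 F217751) (tt N16002 F217752) (tt N18093 (iv F227217)) (tt N18083 (iv F227134)) (tt N16002 F217753) (tt N13825 F217754) (tt N18095 D50865) (tt N13824 (iv D48772)))
theorem Q16004 : ∀ i, i < 16004 → P i := stepQ 16003 Q16003 (allL N16003 (tt N18088 (iv F227173)) (tt N16003 F217755) (tt N14166 F217756) (tt N18096 D50866) (tt N18094 (iv F227224)) (tt N18084 (iv F227142)) (tt N13826 F217757) (tt N18095 (iv F227231)) (tt N13825 (iv D48773)) (tt N16003 F217758))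
theorem Q16005 : ∀ i, i < 16005 → P i := stepQ 16004 Q16004 (allL N16004 (tt N18089 (iv F227181)) (tt N16004 F217759) (tt N18097 D50867) (tt N13826 (iv D48774)) (tt N18098 D50868) (tt N13827 F217760) (tt N18096 (iv F227238)) (tt N16004 F217761) (tt N16004 F217762) (tt N16004 F217763))
theorem Q16006 : ∀ i, i < 16006 → P i := stepQ 16005 Q16005 (allL N16005 (tt N14639 F217764) (tt N18086 (iv F227157)) (tt N13827 (iv D48775)) (tt N14075 F217765) (tt N16005 F217766) (tt N18097 (iv F227244)) (tt N18085 (iv F227151)) (tt N16005 F217767) (tt N16005 F217768) (tt N16005 F217769))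
theorem Q16007 : ∀ i, i < 16007 → P i := stepQ 16006 Q16006 (allL N16006 (tt N15907 F217770) (tt N13829 F217771) (tt N13840 F217772) (tt N15898 F217773) (tt N14179 F217774) (tt N15890 F217775) (tt N13831 F217776) (tt N15887 F217777) (tt N18099 D50869) (tt N13828 (iv D48776)))
theorem Q16008 : ∀ i, i < 16008 → P i := stepQ 16007 Q16007 (allL N16007 (tt N15909 F217778) (tt N18099 (iv F227260)) (tt N13830 F217779) (tt N15932 F217780) (tt N14180 F217781) (tt N15891 F217782) (tt N13832 F217783) (tt N15888 F217784) (tt N13829 (iv D48777)) (tt N16007 F217785))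
theorem Q16009 : ∀ i, i < 16009 → P i := stepQ 16008 Q16008 (allL N16008 (tt N15896 F217786) (tt N13832 F217787) (tt N13843 F217788) (tt N15895 F217789) (tt N14182 F217790) (tt N16008 F217791) (tt N18099 (iv F227265)) (tt N16008 F217792) (tt N13831 (iv D48778)) (tt N16008 F217793))
theorem Q16010 : ∀ i, i < 16010 → P i := stepQ 16009 Q16009 (allL N16009 (tt N13833 (iv D48779)) (tt N16009 F217794) (tt N15889 F217795) (tt N16009 F217796) (tt N15135 F217797) (tt N13839 F217798) (tt N16009 F217799) (tt N15093 F217800) (tt N16009 F217801) (tt N18100 D50870))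
theorem Q16011 : ∀ i, i < 16011 → P i := stepQ 16010 Q16010 (allL N16010 (tt N18100 (iv F227268)) (tt N13834 F217802) (tt N15890 F217803) (tt N16010 F217804) (tt N15136 F217805) (tt N13840 F217806) (tt N16010 F217807) (tt N15094 F217808) (tt N18101 D50871) (tt N13833 (iv D48780)))
theorem Q16012 : ∀ i, i < 16012 → P i := stepQ 16011 Q16011 (allL N16011 (tt N16011 F217809) (tt N18101 (iv F227276)) (tt N13835 F217810) (tt N15873 (iv F217816)) (tt N15137 F217811) (tt N13841 F217812) (tt N16011 F217813) (tt N15095 F217814) (tt N13834 (iv D48781)) (tt N16011 F217815))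
theorem Q16013 : ∀ i, i < 16013 → P i := stepQ 16012 Q16012 (allL N16012 (tt N13836 (iv D48782)) (tt N16012 F217817) (tt N15886 F217818) (tt N16012 F217819) (tt N14193 F217820) (tt N15093 F217821) (tt N16012 F217822) (tt N13839 F217823) (tt N16012 F217824) (tt N18102 D50872))
theorem Q16014 : ∀ i, i < 16014 → P i := stepQ 16013 Q16013 (allL N16013 (tt N18102 (iv F227284)) (tt N13837 F217825) (tt N15887 F217826) (tt N16013 F217827) (tt N14194 F217828) (tt N15094 F217829) (tt N16013 F217830) (tt N13840 F217831) (tt N18103 D50873) (tt N13836 (iv D48783)))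
theorem Q16015 : ∀ i, i < 16015 → P i := stepQ 16014 Q16014 (allL N16014 (tt N16014 F217832) (tt N18103 (iv F227292)) (tt N13838 F217833) (tt N18104 D50874) (tt N14195 F217834) (tt N15095 F217835) (tt N16014 F217836) (tt N13841 F217837) (tt N13837 (iv D48784)) (tt N16014 F217838))
theorem Q16016 : ∀ i, i < 16016 → P i := stepQ 16015 Q16015 (allL N16015 (tt N13840 F217839) (tt N16015 F217840) (tt N15907 F217841) (tt N16015 F217842) (tt N14196 F217843) (tt N18100 (iv F227273)) (tt N13842 F217844) (tt N18102 (iv F227291)) (tt N18105 D50875) (tt N13839 (iv D48785)))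
theorem Q16017 : ∀ i, i < 16017 → P i := stepQ 16016 Q16016 (allL N16016 (tt N18105 (iv F227307)) (tt N13841 F217845) (tt N18099 (iv F227261)) (tt N18106 D50876) (tt N14197 F217846) (tt N18101 (iv F227279)) (tt N13843 F217847) (tt N18103 (iv F227297)) (tt N13840 (iv D48786)) (tt N16016 F217848))
theorem Q16018 : ∀ i, i < 16018 → P i := stepQ 16017 Q16017 (allL N16017 (tt N16017 F217849) (tt N18106 (iv F227313)) (tt N16017 F217850) (tt N13841 (iv D48787)) (tt N15880 (iv F217855)) (tt N15873 F217851) (tt N13844 F217852) (tt N18104 (iv F227303)) (tt N16017 F217853) (tt N16017 F217854))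
theorem Q16019 : ∀ i, i < 16019 → P i := stepQ 16018 Q16018 (allL N16018 (tt N13843 F217856) (tt N16018 F217857) (tt N15896 F217858) (tt N18098 (iv F227254)) (tt N14199 F217859) (tt N16018 F217860) (tt N18105 (iv F227311)) (tt N16018 F217861) (tt N13842 (iv D48788)) (tt N16018 F217862))
theorem Q16020 : ∀ i, i < 16020 → P i := stepQ 16019 Q16019 (allL N16019 (tt N18098 (iv F227251)) (tt N13844 F217863) (tt N18107 D50877) (tt N13843 (iv D48789)) (tt N18089 (iv F227184)) (tt N16019 F217864) (tt N18106 (iv F227316)) (tt N16019 F217865) (tt N16019 F217866) (tt N16019 F217867))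
theorem Q16021 : ∀ i, i < 16021 → P i := stepQ 16020 Q16020 (allL N16020 (tt N16020 F217868) (tt N18089 (iv F227182)) (tt N16020 F217869) (tt N14201 F217870) (tt N13844 (iv D48790)) (tt N15885 (iv F217875)) (tt N15880 F217871) (tt N16020 F217872) (tt N16020 F217873) (tt N16020 F217874))
theorem Q16022 : ∀ i, i < 16022 → P i := stepQ 16021 Q16021 (allL N16021 (tt N14992 F217876) (tt N14248 F217877) (tt N15350 F217878) (tt N13855 (iv D48791)) (tt N18108 D50878) (tt N14981 F217879) (tt N15347 F217880) (tt N13899 F217881) (tt N13859 F217882) (tt N18109 D50879))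
theorem Q16023 : ∀ i, i < 16023 → P i := stepQ 16022 Q16022 (allL N16022 (tt N14993 F217883) (tt N14249 F217884) (tt N14989 F217885) (tt N18109 (iv F227338)) (tt N16022 F217886) (tt N14982 F217887) (tt N15812 F217888) (tt N13900 F217889) (tt N13883 F217890) (tt N13855 (iv D48792)))
theorem Q16024 : ∀ i, i < 16024 → P i := stepQ 16023 Q16023 (allL N16023 (tt N15353 F217891) (tt N14252 F217892) (tt N13867 F217893) (tt N15466 F217894) (tt N13861 F217895) (tt N15005 F217896) (tt N13903 F217897) (tt N13858 F217898) (tt N13857 (iv D48793)) (tt N15019 F217899))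
theorem Q16025 : ∀ i, i < 16025 → P i := stepQ 16024 Q16024 (allL N16024 (tt N15350 F217900) (tt N14253 F217901) (tt N14992 F217902) (tt N13858 (iv D48794)) (tt N18110 D50880) (tt N14994 F217903) (tt N13859 F217904) (tt N15466 F217905) (tt N15347 F217906) (tt N18111 D50881))
theorem Q16026 : ∀ i, i < 16026 → P i := stepQ 16025 Q16025 (allL N16025 (tt N15354 F217907) (tt N14254 F217908) (tt N13868 F217909) (tt N18111 (iv F227353)) (tt N13863 F217910) (tt N15006 F217911) (tt N13860 F217912) (tt N15019 F217913) (tt N13885 F217914) (tt N13858 (iv D48795)))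
theorem Q16027 : ∀ i, i < 16027 → P i := stepQ 16026 Q16026 (allL N16026 (tt N15347 F217915) (tt N14320 (iv F217921)) (tt N13859 (iv D48796)) (tt N13869 F217916) (tt N18112 D50882) (tt N13884 F217917) (tt N14992 F217918) (tt N13906 F217919) (tt N15350 F217920) (tt N18113 D50883))
theorem Q16028 : ∀ i, i < 16028 → P i := stepQ 16027 Q16027 (allL N16027 (tt N14330 F217922) (tt N14256 F217923) (tt N18112 (iv F227359)) (tt N13864 F217924) (tt N13859 (iv D48797)) (tt N14296 F217925) (tt N18110 (iv F227347)) (tt N13907 F217926) (tt N18108 (iv F227334)) (tt N18114 D50884))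
theorem Q16029 : ∀ i, i < 16029 → P i := stepQ 16028 Q16028 (allL N16028 (tt N15351 F217927) (tt N14257 F217928) (tt N18113 (iv F227367)) (tt N13860 F217929) (tt N18114 (iv F227375)) (tt N14983 F217930) (tt N18111 (iv F227355)) (tt N13908 F217931) (tt N18115 D50885) (tt N13859 (iv D48798)))
theorem Q16030 : ∀ i, i < 16030 → P i := stepQ 16029 Q16029 (allL N16029 (tt N14338 F217932) (tt N14258 F217933) (tt N16029 F217934) (tt N13861 (iv D48799)) (tt N14418 (iv F217940)) (tt N16029 F217935) (tt N13909 F217936) (tt N13862 F217937) (tt N16029 F217938) (tt N15831 F217939))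
theorem Q16031 : ∀ i, i < 16031 → P i := stepQ 16030 Q16030 (allL N16030 (tt N14335 F217941) (tt N14243 F217942) (tt N16030 F217943) (tt N18110 (iv F227345)) (tt N13862 (iv D48800)) (tt N15311 (iv F217947)) (tt N13864 F217944) (tt N14418 F217945) (tt N16030 F217946) (tt N18116 D50886))
theorem Q16032 : ∀ i, i < 16032 → P i := stepQ 16031 Q16031 (allL N16031 (tt N14339 F217948) (tt N14260 F217949) (tt N16031 F217950) (tt N13863 F217951) (tt N18116 (iv F227386)) (tt N16031 F217952) (tt N13865 F217953) (tt N15831 F217954) (tt N15810 (iv F217955)) (tt N13862 (iv D48801)))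
theorem Q16033 : ∀ i, i < 16033 → P i := stepQ 16032 Q16032 (allL N16032 (tt N14336 F217956) (tt N14262 F217957) (tt N16032 F217958) (tt N18114 (iv F227374)) (tt N13865 F217959) (tt N14301 F217960) (tt N18116 (iv F227388)) (tt N13913 F217961) (tt N18117 D50887) (tt N13864 (iv D48802)))
theorem Q16034 : ∀ i, i < 16034 → P i := stepQ 16033 Q16033 (allL N16033 (tt N14340 F217962) (tt N14263 F217963) (tt N16033 F217964) (tt N13891 F217965) (tt N18117 (iv F227394)) (tt N13866 F217966) (tt N15810 F217967) (tt N13914 F217968) (tt N13865 (iv D48803)) (tt N16033 F217969))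
theorem Q16035 : ∀ i, i < 16035 → P i := stepQ 16034 Q16034 (allL N16034 (tt N15812 F217970) (tt N14321 F217971) (tt N13870 F217972) (tt N18113 (iv F227368)) (tt N16034 F217973) (tt N13885 F217974) (tt N14993 F217975) (tt N13924 F217976) (tt N15006 F217977) (tt N13869 (iv D48804)))
theorem Q16036 : ∀ i, i < 16036 → P i := stepQ 16035 Q16035 (allL N16035 (tt N14283 F217978) (tt N13875 F217979) (tt N15334 (iv F217985)) (tt N13872 (iv D48805)) (tt N15341 F217980) (tt N14984 F217981) (tt N15345 F217982) (tt N13937 F217983) (tt N14996 F217984) (tt N18118 D50888))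
theorem Q16037 : ∀ i, i < 16037 → P i := stepQ 16036 Q16036 (allL N16036 (tt N14284 F217986) (tt N13876 F217987) (tt N16036 F217988) (tt N18118 (iv F227402)) (tt N13873 F217989) (tt N14985 F217990) (tt N15811 F217991) (tt N13938 F217992) (tt N15002 F217993) (tt N13872 (iv D48806)))
theorem Q16038 : ∀ i, i < 16038 → P i := stepQ 16037 Q16037 (allL N16037 (tt N14265 F217994) (tt N13879 F217995) (tt N15819 F217996) (tt N13894 F217997) (tt N14238 F217998) (tt N15814 F217999) (tt N16037 F218000) (tt N13943 F218001) (tt N13874 (iv D48807)) (tt N16037 F218002))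
theorem Q16039 : ∀ i, i < 16039 → P i := stepQ 16038 Q16038 (allL N16038 (tt N13888 F218003) (tt N18118 (iv F227400)) (tt N14991 F218004) (tt N13876 F218005) (tt N15342 F218006) (tt N14987 F218007) (tt N15348 F218008) (tt N13951 F218009) (tt N18119 D50889) (tt N13875 (iv D48808)))
theorem Q16040 : ∀ i, i < 16040 → P i := stepQ 16039 Q16039 (allL N16039 (tt N13892 F218010) (tt N14213 F218011) (tt N14219 F218012) (tt N14225 F218013) (tt N14272 F218014) (tt N16039 F218015) (tt N13877 (iv D48809)) (tt N14368 (iv F218017)) (tt N16039 F218016) (tt N18120 D50890))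
theorem Q16041 : ∀ i, i < 16041 → P i := stepQ 16040 Q16040 (allL N16040 (tt N13893 F218018) (tt N14237 F218019) (tt N15356 F218020) (tt N14226 F218021) (tt N15355 F218022) (tt N13878 F218023) (tt N18120 (iv F227421)) (tt N13956 F218024) (tt N18121 D50891) (tt N13877 (iv D48810)))
theorem Q16042 : ∀ i, i < 16042 → P i := stepQ 16041 Q16041 (allL N16041 (tt N13894 F218025) (tt N14238 F218026) (tt N15813 F218027) (tt N14265 F218028) (tt N13879 F218029) (tt N18121 (iv F227429)) (tt N16041 F218030) (tt N13957 F218031) (tt N13878 (iv D48811)) (tt N16041 F218032))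
theorem Q16043 : ∀ i, i < 16043 → P i := stepQ 16042 Q16042 (allL N16042 (tt N15005 F218033) (tt N14313 F218034) (tt N14980 F218035) (tt N15012 F218036) (tt N16042 F218037) (tt N15353 F218038) (tt N13963 F218039) (tt N13881 F218040) (tt N13880 (iv D48812)) (tt N15850 F218041))
theorem Q16044 : ∀ i, i < 16044 → P i := stepQ 16043 Q16043 (allL N16043 (tt N14994 F218042) (tt N14314 F218043) (tt N14981 F218044) (tt N13881 (iv D48813)) (tt N15322 (iv F218049)) (tt N15350 F218045) (tt N13882 F218046) (tt N15012 F218047) (tt N13884 F218048) (tt N18122 D50892))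
theorem Q16045 : ∀ i, i < 16045 → P i := stepQ 16044 Q16044 (allL N16044 (tt N15006 F218050) (tt N14315 F218051) (tt N14990 F218052) (tt N18122 (iv F227436)) (tt N16044 F218053) (tt N15354 F218054) (tt N13883 F218055) (tt N15850 F218056) (tt N15812 F218057) (tt N13881 (iv D48814)))
theorem Q16046 : ∀ i, i < 16046 → P i := stepQ 16045 Q16045 (allL N16045 (tt N14997 F218058) (tt N14317 F218059) (tt N14986 F218060) (tt N16045 F218061) (tt N13882 (iv D48815)) (tt N15339 F218062) (tt N15322 F218063) (tt N13966 F218064) (tt N13887 F218065) (tt N18123 D50893))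
theorem Q16047 : ∀ i, i < 16047 → P i := stepQ 16046 Q16046 (allL N16046 (tt N14998 F218066) (tt N14318 F218067) (tt N14987 F218068) (tt N13883 F218069) (tt N18123 (iv F227445)) (tt N14991 F218070) (tt N18122 (iv F227439)) (tt N13967 F218071) (tt N18124 D50894) (tt N13882 (iv D48816)))
theorem Q16048 : ∀ i, i < 16048 → P i := stepQ 16047 Q16047 (allL N16047 (tt N15348 F218072) (tt N14326 F218073) (tt N14983 F218074) (tt N13885 F218075) (tt N15328 F218076) (tt N18113 (iv F227369)) (tt N13888 F218077) (tt N15017 F218078) (tt N18125 D50895) (tt N13884 (iv D48817)))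
theorem Q16049 : ∀ i, i < 16049 → P i := stepQ 16048 Q16048 (allL N16048 (tt N14991 F218079) (tt N15316 F218080) (tt N13888 F218081) (tt N13895 F218082) (tt N15327 F218083) (tt N14998 F218084) (tt N14983 F218085) (tt N13979 F218086) (tt N18126 D50896) (tt N13886 (iv D48818)))
theorem Q16050 : ∀ i, i < 16050 → P i := stepQ 16049 Q16049 (allL N16049 (tt N15338 F218087) (tt N14330 F218088) (tt N15324 F218089) (tt N13889 F218090) (tt N14999 F218091) (tt N13887 (iv D48819)) (tt N18127 D50897) (tt N13980 F218092) (tt N15339 F218093) (tt N18128 D50898))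
theorem Q16051 : ∀ i, i < 16051 → P i := stepQ 16050 Q16050 (allL N16050 (tt N15342 F218094) (tt N14331 F218095) (tt N15327 F218096) (tt N13890 F218097) (tt N13888 F218098) (tt N18128 (iv F227483)) (tt N15328 F218099) (tt N13981 F218100) (tt N18129 D50899) (tt N13887 (iv D48820)))
theorem Q16052 : ∀ i, i < 16052 → P i := stepQ 16051 Q16051 (allL N16051 (tt N18119 (iv F227407)) (tt N14332 F218101) (tt N18126 (iv F227463)) (tt N18115 (iv F227380)) (tt N18129 (iv F227488)) (tt N15001 F218102) (tt N18125 (iv F227459)) (tt N13982 F218103) (tt N13888 (iv D48821)) (tt N18124 (iv F227454)))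
theorem Q16053 : ∀ i, i < 16053 → P i := stepQ 16052 Q16052 (allL N16052 (tt N14272 F218104) (tt N14335 F218105) (tt N14277 F218106) (tt N18127 (iv F227473)) (tt N13892 F218107) (tt N14306 F218108) (tt N13889 (iv D48822)) (tt N14464 (iv F218110)) (tt N16052 F218109) (tt N18130 D50900))
theorem Q16054 : ∀ i, i < 16054 → P i := stepQ 16053 Q16053 (allL N16053 (tt N15355 F218111) (tt N14336 F218112) (tt N15331 F218113) (tt N18128 (iv F227481)) (tt N13893 F218114) (tt N13890 F218115) (tt N18130 (iv F227496)) (tt N13987 F218116) (tt N18131 D50901) (tt N13889 (iv D48823)))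
theorem Q16055 : ∀ i, i < 16055 → P i := stepQ 16054 Q16054 (allL N16054 (tt N15359 F218117) (tt N14337 F218118) (tt N15332 F218119) (tt N18132 D50902) (tt N13891 F218120) (tt N18131 (iv F227503)) (tt N15333 F218121) (tt N13988 F218122) (tt N13890 (iv D48824)) (tt N16054 F218123))
theorem Q16056 : ∀ i, i < 16056 → P i := stepQ 16055 Q16055 (allL N16055 (tt N14368 F218124) (tt N14338 F218125) (tt N14381 F218126) (tt N15003 F218127) (tt N14464 F218128) (tt N16055 F218129) (tt N13989 F218130) (tt N13892 (iv D48825)) (tt N16055 F218131) (tt N15848 (iv F218132)))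
theorem Q16057 : ∀ i, i < 16057 → P i := stepQ 16056 Q16056 (allL N16056 (tt N18120 (iv F227415)) (tt N14339 F218133) (tt N18078 (iv F227086)) (tt N15004 F218134) (tt N18130 (iv F227494)) (tt N16056 F218135) (tt N13893 F218136) (tt N15848 F218137) (tt N15816 (iv F218138)) (tt N13892 (iv D48826)))
theorem Q16058 : ∀ i, i < 16058 → P i := stepQ 16057 Q16057 (allL N16057 (tt N18121 (iv F227424)) (tt N14340 F218139) (tt N18079 (iv F227095)) (tt N15814 F218140) (tt N18131 (iv F227502)) (tt N13894 F218141) (tt N15816 F218142) (tt N13991 F218143) (tt N13893 (iv D48827)) (tt N16057 F218144))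
theorem Q16059 : ∀ i, i < 16059 → P i := stepQ 16058 Q16058 (allL N16058 (tt N13968 F218145) (tt N14422 F218146) (tt N13958 F218147) (tt N13901 F218148) (tt N14085 F218149) (tt N13897 F218150) (tt N13946 F218151) (tt N13896 (iv D48828)) (tt N15839 (iv F218153)) (tt N13961 F218152))
theorem Q16060 : ∀ i, i < 16060 → P i := stepQ 16059 Q16059 (allL N16059 (tt N15044 F218154) (tt N14423 F218155) (tt N15032 F218156) (tt N18133 D50903) (tt N15161 F218157) (tt N13898 F218158) (tt N15009 F218159) (tt N15839 F218160) (tt N13896 (iv D48829)) (tt N18134 D50904))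
theorem Q16061 : ∀ i, i < 16061 → P i := stepQ 16060 Q16060 (allL N16060 (tt N15469 F218161) (tt N14425 F218162) (tt N15503 F218163) (tt N13898 (iv D48830)) (tt N18135 D50905) (tt N18133 (iv F227515)) (tt N13899 F218164) (tt N15499 F218165) (tt N13904 F218166) (tt N18136 D50906))
theorem Q16062 : ∀ i, i < 16062 → P i := stepQ 16061 Q16061 (allL N16061 (tt N15081 F218167) (tt N14426 F218168) (tt N15037 F218169) (tt N18136 (iv F227537)) (tt N16061 F218170) (tt N18134 (iv F227523)) (tt N13900 F218171) (tt N15849 F218172) (tt N13965 F218173) (tt N13898 (iv D48831)))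
theorem Q16063 : ∀ i, i < 16063 → P i := stepQ 16062 Q16062 (allL N16062 (tt N15466 F218174) (tt N18137 D50907) (tt N13899 (iv D48832)) (tt N15353 F218175) (tt N18138 D50908) (tt N15012 F218176) (tt N15503 F218177) (tt N15350 F218178) (tt N13906 F218179) (tt N15851 (iv F218180)))
theorem Q16064 : ∀ i, i < 16064 → P i := stepQ 16063 Q16063 (allL N16063 (tt N14555 F218181) (tt N14428 F218182) (tt N18138 (iv F227551)) (tt N16063 F218183) (tt N13899 (iv D48833)) (tt N14505 F218184) (tt N18135 (iv F227531)) (tt N18108 (iv F227333)) (tt N13907 F218185) (tt N18139 D50909))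
theorem Q16065 : ∀ i, i < 16065 → P i := stepQ 16064 Q16064 (allL N16064 (tt N15083 F218186) (tt N14429 F218187) (tt N15851 F218188) (tt N13900 F218189) (tt N18139 (iv F227562)) (tt N15013 F218190) (tt N18136 (iv F227538)) (tt N18109 (iv F227341)) (tt N18140 D50910) (tt N13899 (iv D48834)))
theorem Q16066 : ∀ i, i < 16066 → P i := stepQ 16065 Q16065 (allL N16065 (tt N13961 F218191) (tt N14430 F218192) (tt N13915 F218193) (tt N13946 F218194) (tt N14007 F218195) (tt N13945 F218196) (tt N13901 (iv D48835)) (tt N13944 F218197) (tt N15072 (iv F218199)) (tt N13968 F218198))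
theorem Q16067 : ∀ i, i < 16067 → P i := stepQ 16066 Q16066 (allL N16066 (tt N15506 F218200) (tt N14431 F218201) (tt N13916 F218202) (tt N18141 D50911) (tt N14008 F218203) (tt N13903 F218204) (tt N15072 F218205) (tt N13902 F218206) (tt N13901 (iv D48836)) (tt N18142 D50912))
theorem Q16068 : ∀ i, i < 16068 → P i := stepQ 16067 Q16067 (allL N16067 (tt N15491 F218207) (tt N14432 F218208) (tt N18143 D50913) (tt N13902 (iv D48837)) (tt N18144 D50914) (tt N13904 F218209) (tt N15014 F218210) (tt N18141 (iv F227575)) (tt N18133 (iv F227518)) (tt N18145 D50915))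
theorem Q16069 : ∀ i, i < 16069 → P i := stepQ 16068 Q16068 (allL N16068 (tt N15507 F218211) (tt N14433 F218212) (tt N13918 F218213) (tt N18145 (iv F227598)) (tt N14010 F218214) (tt N13905 F218215) (tt N15015 F218216) (tt N18142 (iv F227583)) (tt N13971 F218217) (tt N13902 (iv D48838)))
theorem Q16070 : ∀ i, i < 16070 → P i := stepQ 16069 Q16069 (allL N16069 (tt N15503 F218218) (tt N14434 F218219) (tt N15469 F218220) (tt N13903 (iv D48839)) (tt N18146 D50916) (tt N18141 (iv F227573)) (tt N15466 F218221) (tt N13904 F218222) (tt N15499 F218223) (tt N18147 D50917))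
theorem Q16071 : ∀ i, i < 16071 → P i := stepQ 16070 Q16070 (allL N16070 (tt N15508 F218224) (tt N14435 F218225) (tt N13920 F218226) (tt N18147 (iv F227611)) (tt N13910 F218227) (tt N18142 (iv F227581)) (tt N15019 F218228) (tt N13905 F218229) (tt N13973 F218230) (tt N13903 (iv D48840)))
theorem Q16072 : ∀ i, i < 16072 → P i := stepQ 16071 Q16071 (allL N16071 (tt N15499 F218231) (tt N18148 D50918) (tt N13904 (iv D48841)) (tt N13921 F218232) (tt N18149 D50919) (tt N18143 (iv F227587)) (tt N13906 F218233) (tt N15469 F218234) (tt N15503 F218235) (tt N18150 D50920))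
theorem Q16073 : ∀ i, i < 16073 → P i := stepQ 16072 Q16072 (allL N16072 (tt N14579 F218236) (tt N14437 F218237) (tt N18149 (iv F227621)) (tt N13911 F218238) (tt N13904 (iv D48842)) (tt N18151 D50921) (tt N13907 F218239) (tt N18146 (iv F227606)) (tt N18135 (iv F227533)) (tt N18152 D50922))
theorem Q16074 : ∀ i, i < 16074 → P i := stepQ 16073 Q16073 (allL N16073 (tt N15504 F218240) (tt N14438 F218241) (tt N18150 (iv F227627)) (tt N13905 F218242) (tt N18152 (iv F227638)) (tt N18145 (iv F227599)) (tt N13908 F218243) (tt N18147 (iv F227613)) (tt N18153 D50923) (tt N13904 (iv D48843)))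
theorem Q16075 : ∀ i, i < 16075 → P i := stepQ 16074 Q16074 (allL N16074 (tt N18154 D50924) (tt N13906 (iv D48844)) (tt N14439 F218244) (tt N13923 F218245) (tt N18155 D50925) (tt N14322 F218246) (tt N18148 (iv F227617)) (tt N14320 F218247) (tt N18137 (iv F227546)) (tt N18156 D50926))
theorem Q16076 : ∀ i, i < 16076 → P i := stepQ 16075 Q16075 (allL N16075 (tt N14576 F218248) (tt N18155 (iv F227652)) (tt N13907 F218249) (tt N16075 F218250) (tt N13906 (iv D48845)) (tt N14517 F218251) (tt N18149 (iv F227623)) (tt N18112 (iv F227363)) (tt N18138 (iv F227556)) (tt N18157 D50927))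
theorem Q16077 : ∀ i, i < 16077 → P i := stepQ 16076 Q16076 (allL N16076 (tt N15500 F218252) (tt N18156 (iv F227658)) (tt N13908 F218253) (tt N13924 F218254) (tt N18157 (iv F227666)) (tt N15017 F218255) (tt N18150 (iv F227629)) (tt N18113 (iv F227371)) (tt N18158 D50928) (tt N13906 (iv D48846)))
theorem Q16078 : ∀ i, i < 16078 → P i := stepQ 16077 Q16077 (allL N16077 (tt N14580 F218256) (tt N14443 F218257) (tt N18157 (iv F227664)) (tt N13913 F218258) (tt N13908 F218259) (tt N14519 F218260) (tt N18152 (iv F227639)) (tt N18114 (iv F227377)) (tt N18159 D50929) (tt N13907 (iv D48847)))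
theorem Q16079 : ∀ i, i < 16079 → P i := stepQ 16078 Q16078 (allL N16078 (tt N15505 F218261) (tt N14444 F218262) (tt N18158 (iv F227669)) (tt N13982 F218263) (tt N18159 (iv F227675)) (tt N15018 F218264) (tt N18153 (iv F227643)) (tt N18115 (iv F227382)) (tt N13908 (iv D48848)) (tt N18140 (iv F227569)))
theorem Q16080 : ∀ i, i < 16080 → P i := stepQ 16079 Q16079 (allL N16079 (tt N14588 F218265) (tt N14416 F218266) (tt N16079 F218267) (tt N18146 (iv F227604)) (tt N13909 (iv D48849)) (tt N18160 D50930) (tt N14418 F218268) (tt N13911 F218269) (tt N16079 F218270) (tt N18161 D50931))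
theorem Q16081 : ∀ i, i < 16081 → P i := stepQ 16080 Q16080 (allL N16080 (tt N14592 F218271) (tt N14445 F218272) (tt N16080 F218273) (tt N13910 F218274) (tt N18161 (iv F227687)) (tt N14022 F218275) (tt N15831 F218276) (tt N13912 F218277) (tt N15833 (iv F218278)) (tt N13909 (iv D48850)))
theorem Q16082 : ∀ i, i < 16082 → P i := stepQ 16081 Q16081 (allL N16081 (tt N14585 F218279) (tt N14446 F218280) (tt N16081 F218281) (tt N18151 (iv F227633)) (tt N14023 F218282) (tt N13911 (iv D48851)) (tt N14523 F218283) (tt N18160 (iv F227682)) (tt N16081 F218284) (tt N18162 D50932))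
theorem Q16083 : ∀ i, i < 16083 → P i := stepQ 16082 Q16082 (allL N16082 (tt N14589 F218285) (tt N14447 F218286) (tt N16082 F218287) (tt N18152 (iv F227637)) (tt N13912 F218288) (tt N18162 (iv F227695)) (tt N13913 F218289) (tt N18161 (iv F227689)) (tt N18163 D50933) (tt N13911 (iv D48852)))
theorem Q16084 : ∀ i, i < 16084 → P i := stepQ 16083 Q16083 (allL N16083 (tt N14593 F218290) (tt N14448 F218291) (tt N16083 F218292) (tt N13985 F218293) (tt N18163 (iv F227700)) (tt N14025 F218294) (tt N13914 F218295) (tt N15833 F218296) (tt N13912 (iv D48853)) (tt N16083 F218297))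
theorem Q16085 : ∀ i, i < 16085 → P i := stepQ 16084 Q16084 (allL N16084 (tt N14590 F218298) (tt N14451 F218299) (tt N16084 F218300) (tt N18164 D50934) (tt N13914 F218301) (tt N14526 F218302) (tt N18163 (iv F227701)) (tt N18117 (iv F227397)) (tt N13913 (iv D48854)) (tt N16084 F218303))
theorem Q16086 : ∀ i, i < 16086 → P i := stepQ 16085 Q16085 (allL N16085 (tt N15842 F218304) (tt N13926 F218305) (tt N18142 (iv F227579)) (tt N15071 F218306) (tt N14029 F218307) (tt N13920 F218308) (tt N15073 F218309) (tt N13918 F218310) (tt N13992 F218311) (tt N13916 (iv D48855)))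
theorem Q16087 : ∀ i, i < 16087 → P i := stepQ 16086 Q16086 (allL N16086 (tt N15839 F218312) (tt N14558 F218313) (tt N13917 (iv D48856)) (tt N18143 (iv F227586)) (tt N14131 F218314) (tt N13921 F218315) (tt N13969 F218316) (tt N15044 F218317) (tt N13968 F218318) (tt N18165 D50935))
theorem Q16088 : ∀ i, i < 16088 → P i := stepQ 16087 Q16087 (allL N16087 (tt N15841 F218319) (tt N13927 F218320) (tt N18165 (iv F227711)) (tt N13918 F218321) (tt N14167 F218322) (tt N13922 F218323) (tt N13992 F218324) (tt N15071 F218325) (tt N15073 F218326) (tt N13917 (iv D48857)))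
theorem Q16089 : ∀ i, i < 16089 → P i := stepQ 16088 Q16088 (allL N16088 (tt N18166 D50936) (tt N13921 (iv D48858)) (tt N13928 F218327) (tt N18148 (iv F227615)) (tt N16088 F218328) (tt N14558 F218329) (tt N13923 F218330) (tt N15337 F218331) (tt N14319 F218332) (tt N18167 D50937))
theorem Q16090 : ∀ i, i < 16090 → P i := stepQ 16089 Q16089 (allL N16089 (tt N15849 F218333) (tt N18167 (iv F227724)) (tt N13922 F218334) (tt N18150 (iv F227628)) (tt N16089 F218335) (tt N18165 (iv F227713)) (tt N13924 F218336) (tt N15081 F218337) (tt N15079 F218338) (tt N13921 (iv D48859)))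
theorem Q16091 : ∀ i, i < 16091 → P i := stepQ 16090 Q16090 (allL N16090 (tt N13923 (iv D48860)) (tt N15843 F218339) (tt N13930 F218340) (tt N18154 (iv F227646)) (tt N16090 F218341) (tt N14292 F218342) (tt N18166 (iv F227721)) (tt N14291 F218343) (tt N14290 F218344) (tt N18168 D50938))
theorem Q16092 : ∀ i, i < 16092 → P i := stepQ 16091 Q16091 (allL N16091 (tt N18168 (iv F227731)) (tt N13924 F218345) (tt N13931 F218346) (tt N18156 (iv F227660)) (tt N16091 F218347) (tt N14323 F218348) (tt N18167 (iv F227728)) (tt N14321 F218349) (tt N18169 D50939) (tt N13923 (iv D48861)))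
theorem Q16093 : ∀ i, i < 16093 → P i := stepQ 16092 Q16092 (allL N16092 (tt N15850 F218350) (tt N18169 (iv F227737)) (tt N13925 F218351) (tt N15467 (iv F218357)) (tt N16092 F218352) (tt N15019 F218353) (tt N15079 F218354) (tt N15006 F218355) (tt N13924 (iv D48862)) (tt N15005 F218356))
theorem Q16094 : ∀ i, i < 16094 → P i := stepQ 16093 Q16093 (allL N16093 (tt N13928 (iv D48863)) (tt N16093 F218358) (tt N18166 (iv F227718)) (tt N14478 F218359) (tt N16093 F218360) (tt N14527 F218361) (tt N13930 F218362) (tt N15330 F218363) (tt N14303 F218364) (tt N18170 D50940))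
theorem Q16095 : ∀ i, i < 16095 → P i := stepQ 16094 Q16094 (allL N16094 (tt N18170 (iv F227745)) (tt N13929 F218365) (tt N18167 (iv F227725)) (tt N14479 F218366) (tt N16094 F218367) (tt N14594 F218368) (tt N13931 F218369) (tt N15089 F218370) (tt N15087 F218371) (tt N13928 (iv D48864)))
theorem Q16096 : ∀ i, i < 16096 → P i := stepQ 16095 Q16095 (allL N16095 (tt N13931 F218372) (tt N16095 F218373) (tt N18168 (iv F227733)) (tt N14481 F218374) (tt N16095 F218375) (tt N14305 F218376) (tt N18170 (iv F227750)) (tt N14304 F218377) (tt N18171 D50941) (tt N13930 (iv D48865)))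
theorem Q16097 : ∀ i, i < 16097 → P i := stepQ 16096 Q16096 (allL N16096 (tt N18171 (iv F227753)) (tt N13932 F218378) (tt N18169 (iv F227738)) (tt N15364 (iv F218384)) (tt N16096 F218379) (tt N14270 F218380) (tt N15087 F218381) (tt N14268 F218382) (tt N13931 (iv D48866)) (tt N14267 F218383))
theorem Q16098 : ∀ i, i < 16098 → P i := stepQ 16097 Q16097 (allL N16097 (tt N14486 F218385) (tt N13945 F218386) (tt N14266 F218387) (tt N13935 F218388) (tt N16097 F218389) (tt N14430 F218390) (tt N14250 F218391) (tt N13933 (iv D48867)) (tt N15078 F218392) (tt N14319 F218393))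
theorem Q16099 : ∀ i, i < 16099 → P i := stepQ 16098 Q16098 (allL N16098 (tt N14490 F218394) (tt N13946 F218395) (tt N16098 F218396) (tt N14430 F218397) (tt N14061 F218398) (tt N13935 F218399) (tt N14422 F218400) (tt N13934 (iv D48868)) (tt N15837 (iv F218402)) (tt N14543 F218401))
theorem Q16100 : ∀ i, i < 16100 → P i := stepQ 16099 Q16099 (allL N16099 (tt N14491 F218403) (tt N13947 F218404) (tt N16099 F218405) (tt N18172 D50942) (tt N14062 F218406) (tt N13936 F218407) (tt N15020 F218408) (tt N15837 F218409) (tt N13934 (iv D48869)) (tt N18173 D50943))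
theorem Q16101 : ∀ i, i < 16101 → P i := stepQ 16100 Q16100 (allL N16100 (tt N14493 F218410) (tt N13948 F218411) (tt N15461 (iv F218416)) (tt N13936 (iv D48870)) (tt N15482 F218412) (tt N18172 (iv F227763)) (tt N13937 F218413) (tt N15486 F218414) (tt N15052 F218415) (tt N18174 D50944))
theorem Q16102 : ∀ i, i < 16102 → P i := stepQ 16101 Q16101 (allL N16101 (tt N14494 F218417) (tt N13949 F218418) (tt N16101 F218419) (tt N18174 (iv F227779)) (tt N13939 F218420) (tt N18173 (iv F227772)) (tt N13938 F218421) (tt N15838 F218422) (tt N15069 F218423) (tt N13936 (iv D48871)))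
theorem Q16103 : ∀ i, i < 16103 → P i := stepQ 16102 Q16102 (allL N16102 (tt N14442 F218424) (tt N13950 F218425) (tt N15464 F218426) (tt N13940 F218427) (tt N13937 (iv D48872)) (tt N14404 F218428) (tt N15482 F218429) (tt N15341 F218430) (tt N15058 F218431) (tt N18175 D50945))
theorem Q16104 : ∀ i, i < 16104 → P i := stepQ 16103 Q16103 (allL N16103 (tt N14496 F218432) (tt N13951 F218433) (tt N15465 F218434) (tt N13938 F218435) (tt N18175 (iv F227787)) (tt N15023 F218436) (tt N18174 (iv F227781)) (tt N18118 (iv F227406)) (tt N18176 D50946) (tt N13937 (iv D48873)))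
theorem Q16105 : ∀ i, i < 16105 → P i := stepQ 16104 Q16104 (allL N16104 (tt N14450 F218437) (tt N13953 F218438) (tt N15364 F218439) (tt N18175 (iv F227786)) (tt N13941 F218440) (tt N14409 F218441) (tt N15522 F218442) (tt N15358 F218443) (tt N18177 D50947) (tt N13940 (iv D48874)))
theorem Q16106 : ∀ i, i < 16106 → P i := stepQ 16105 Q16105 (allL N16105 (tt N14453 F218444) (tt N13954 F218445) (tt N15823 F218446) (tt N13991 F218447) (tt N18177 (iv F227800)) (tt N13943 F218448) (tt N15859 F218449) (tt N15814 F218450) (tt N13941 (iv D48875)) (tt N16105 F218451))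
theorem Q16107 : ∀ i, i < 16107 → P i := stepQ 16106 Q16106 (allL N16106 (tt N14363 F218452) (tt N15818 F218453) (tt N13943 F218454) (tt N18085 (iv F227148)) (tt N14352 F218455) (tt N15823 F218456) (tt N14075 F218457) (tt N15819 F218458) (tt N13942 (iv D48876)) (tt N16106 F218459))
theorem Q16108 : ∀ i, i < 16108 → P i := stepQ 16107 Q16107 (allL N16107 (tt N13970 F218460) (tt N18172 (iv F227762)) (tt N15038 F218461) (tt N13947 (iv D48877)) (tt N18178 D50948) (tt N13948 F218462) (tt N15024 F218463) (tt N15488 F218464) (tt N15047 F218465) (tt N18179 D50949))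
theorem Q16109 : ∀ i, i < 16109 → P i := stepQ 16108 Q16108 (allL N16108 (tt N13971 F218466) (tt N18173 (iv F227769)) (tt N13959 F218467) (tt N18179 (iv F227814)) (tt N14088 F218468) (tt N13949 F218469) (tt N15025 F218470) (tt N15840 F218471) (tt N15507 F218472) (tt N13947 (iv D48878)))
theorem Q16110 : ∀ i, i < 16110 → P i := stepQ 16109 Q16109 (allL N16109 (tt N13976 F218473) (tt N18174 (iv F227777)) (tt N15040 F218474) (tt N13949 F218475) (tt N15483 F218476) (tt N18179 (iv F227815)) (tt N13951 F218477) (tt N15489 F218478) (tt N18180 D50950) (tt N13948 (iv D48879)))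
theorem Q16111 : ∀ i, i < 16111 → P i := stepQ 16110 Q16110 (allL N16110 (tt N13980 F218479) (tt N14404 F218480) (tt N15041 F218481) (tt N13952 F218482) (tt N14389 F218483) (tt N13950 (iv D48880)) (tt N18181 D50951) (tt N15338 F218484) (tt N15060 F218485) (tt N18182 D50952))
theorem Q16112 : ∀ i, i < 16112 → P i := stepQ 16111 Q16111 (allL N16111 (tt N13981 F218486) (tt N18175 (iv F227784)) (tt N15042 F218487) (tt N13953 F218488) (tt N13951 F218489) (tt N18182 (iv F227838)) (tt N15483 F218490) (tt N15342 F218491) (tt N18183 D50953) (tt N13950 (iv D48881)))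
theorem Q16113 : ∀ i, i < 16113 → P i := stepQ 16112 Q16112 (allL N16112 (tt N13982 F218492) (tt N18176 (iv F227792)) (tt N15043 F218493) (tt N15505 F218494) (tt N18183 (iv F227842)) (tt N15029 F218495) (tt N18180 (iv F227822)) (tt N18119 (iv F227413)) (tt N13951 (iv D48882)) (tt N15062 F218496))
theorem Q16114 : ∀ i, i < 16114 → P i := stepQ 16113 Q16113 (allL N16113 (tt N13986 F218497) (tt N14407 F218498) (tt N14475 F218499) (tt N18181 (iv F227828)) (tt N13955 F218500) (tt N15509 F218501) (tt N13952 (iv D48883)) (tt N14461 F218502) (tt N16113 F218503) (tt N18184 D50954))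
theorem Q16115 : ∀ i, i < 16115 → P i := stepQ 16114 Q16114 (allL N16114 (tt N13987 F218504) (tt N14409 F218505) (tt N15091 F218506) (tt N18182 (iv F227836)) (tt N13956 F218507) (tt N13953 F218508) (tt N18184 (iv F227851)) (tt N15355 F218509) (tt N15549 (iv F218510)) (tt N13952 (iv D48884)))
theorem Q16116 : ∀ i, i < 16116 → P i := stepQ 16115 Q16115 (allL N16115 (tt N13988 F218511) (tt N18177 (iv F227798)) (tt N14622 F218512) (tt N18185 D50955) (tt N13954 F218513) (tt N15549 F218514) (tt N15523 F218515) (tt N15359 F218516) (tt N13953 (iv D48885)) (tt N16115 F218517))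
theorem Q16117 : ∀ i, i < 16117 → P i := stepQ 16116 Q16116 (allL N16116 (tt N13989 F218518) (tt N14366 F218519) (tt N14378 F218520) (tt N14391 F218521) (tt N14461 F218522) (tt N14104 F218523) (tt N14368 F218524) (tt N13955 (iv D48886)) (tt N16116 F218525) (tt N18186 D50956))
theorem Q16118 : ∀ i, i < 16118 → P i := stepQ 16117 Q16117 (allL N16117 (tt N13990 F218526) (tt N14408 F218527) (tt N18081 (iv F227113)) (tt N14392 F218528) (tt N18184 (iv F227849)) (tt N14105 F218529) (tt N13956 F218530) (tt N18186 (iv F227868)) (tt N18187 D50957) (tt N13955 (iv D48887)))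
theorem Q16119 : ∀ i, i < 16119 → P i := stepQ 16118 Q16118 (allL N16118 (tt N13991 F218531) (tt N14410 F218532) (tt N15550 F218533) (tt N14453 F218534) (tt N15549 F218535) (tt N13957 F218536) (tt N18187 (iv F227876)) (tt N18121 (iv F227431)) (tt N13956 (iv D48888)) (tt N16118 F218537))
theorem Q16120 : ∀ i, i < 16120 → P i := stepQ 16119 Q16119 (allL N16119 (tt N15072 F218538) (tt N14544 F218539) (tt N15033 F218540) (tt N18188 D50958) (tt N15757 F218541) (tt N13963 F218542) (tt N15506 F218543) (tt N13962 F218544) (tt N13961 (iv D48889)) (tt N18189 D50959))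
theorem Q16121 : ∀ i, i < 16121 → P i := stepQ 16120 Q16120 (allL N16120 (tt N15047 F218545) (tt N14545 F218546) (tt N15024 F218547) (tt N13962 (iv D48890)) (tt N18190 D50960) (tt N13964 F218548) (tt N15038 F218549) (tt N18188 (iv F227884)) (tt N13970 F218550) (tt N18191 D50961))
theorem Q16122 : ∀ i, i < 16122 → P i := stepQ 16121 Q16121 (allL N16121 (tt N15076 F218551) (tt N14546 F218552) (tt N15035 F218553) (tt N18191 (iv F227903)) (tt N15758 F218554) (tt N13965 F218555) (tt N15039 F218556) (tt N18189 (iv F227892)) (tt N18134 (iv F227526)) (tt N13962 (iv D48891)))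
theorem Q16123 : ∀ i, i < 16123 → P i := stepQ 16122 Q16122 (allL N16122 (tt N15050 F218557) (tt N14547 F218558) (tt N15010 F218559) (tt N13963 (iv D48892)) (tt N15430 (iv F218563)) (tt N18188 (iv F227882)) (tt N15012 F218560) (tt N13964 F218561) (tt N13972 F218562) (tt N18192 D50962))
theorem Q16124 : ∀ i, i < 16124 → P i := stepQ 16123 Q16123 (allL N16123 (tt N15079 F218564) (tt N14548 F218565) (tt N15036 F218566) (tt N18192 (iv F227909)) (tt N16123 F218567) (tt N18189 (iv F227890)) (tt N15850 F218568) (tt N13965 F218569) (tt N15849 F218570) (tt N13963 (iv D48893)))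
theorem Q16125 : ∀ i, i < 16125 → P i := stepQ 16124 Q16124 (allL N16124 (tt N15053 F218571) (tt N14550 F218572) (tt N15026 F218573) (tt N16124 F218574) (tt N13964 (iv D48894)) (tt N18193 D50963) (tt N13966 F218575) (tt N15430 F218576) (tt N13975 F218577) (tt N18194 D50964))
theorem Q16126 : ∀ i, i < 16126 → P i := stepQ 16125 Q16125 (allL N16125 (tt N15054 F218578) (tt N14551 F218579) (tt N15027 F218580) (tt N13965 F218581) (tt N18194 (iv F227923)) (tt N18191 (iv F227904)) (tt N13967 F218582) (tt N18192 (iv F227912)) (tt N18195 D50965) (tt N13964 (iv D48895)))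
theorem Q16127 : ∀ i, i < 16127 → P i := stepQ 16126 Q16126 (allL N16126 (tt N15060 F218583) (tt N14555 F218584) (tt N14389 F218585) (tt N16126 F218586) (tt N15041 F218587) (tt N13966 (iv D48896)) (tt N18196 D50966) (tt N15339 F218588) (tt N13980 F218589) (tt N18197 D50967))
theorem Q16128 : ∀ i, i < 16128 → P i := stepQ 16127 Q16127 (allL N16127 (tt N15061 F218590) (tt N14556 F218591) (tt N15028 F218592) (tt N16127 F218593) (tt N13967 F218594) (tt N18197 (iv F227942)) (tt N18194 (iv F227924)) (tt N18123 (iv F227448)) (tt N18198 D50968) (tt N13966 (iv D48897)))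
theorem Q16129 : ∀ i, i < 16129 → P i := stepQ 16128 Q16128 (allL N16128 (tt N15062 F218595) (tt N14557 F218596) (tt N15029 F218597) (tt N18140 (iv F227567)) (tt N18198 (iv F227947)) (tt N15043 F218598) (tt N18195 (iv F227929)) (tt N18124 (iv F227453)) (tt N13967 (iv D48898)) (tt N13982 F218599))
theorem Q16130 : ∀ i, i < 16130 → P i := stepQ 16129 Q16129 (allL N16129 (tt N15488 F218600) (tt N14559 F218601) (tt N15014 F218602) (tt N13969 (iv D48899)) (tt N18199 D50969) (tt N13972 F218603) (tt N18143 (iv F227588)) (tt N13970 F218604) (tt N18188 (iv F227885)) (tt N18200 D50970))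
theorem Q16131 : ∀ i, i < 16131 → P i := stepQ 16130 Q16130 (allL N16130 (tt N15840 F218605) (tt N14560 F218606) (tt N13992 F218607) (tt N18200 (iv F227958)) (tt N14133 F218608) (tt N13973 F218609) (tt N18165 (iv F227714)) (tt N13971 F218610) (tt N18142 (iv F227584)) (tt N13969 (iv D48900)))
theorem Q16132 : ∀ i, i < 16132 → P i := stepQ 16131 Q16131 (allL N16131 (tt N15038 F218611) (tt N15398 (iv F218617)) (tt N13970 (iv D48901)) (tt N13993 F218612) (tt N18201 D50971) (tt N13974 F218613) (tt N15047 F218614) (tt N15014 F218615) (tt N15024 F218616) (tt N18202 D50972))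
theorem Q16133 : ∀ i, i < 16133 → P i := stepQ 16132 Q16132 (allL N16132 (tt N18178 (iv F227805)) (tt N14562 F218618) (tt N18201 (iv F227963)) (tt N14135 F218619) (tt N13970 (iv D48902)) (tt N18203 D50973) (tt N15048 F218620) (tt N18199 (iv F227954)) (tt N18190 (iv F227899)) (tt N18204 D50974))
theorem Q16134 : ∀ i, i < 16134 → P i := stepQ 16133 Q16133 (allL N16133 (tt N18179 (iv F227812)) (tt N14563 F218621) (tt N18202 (iv F227971)) (tt N13971 F218622) (tt N18204 (iv F227984)) (tt N13976 F218623) (tt N15049 F218624) (tt N18200 (iv F227960)) (tt N18205 D50975) (tt N13970 (iv D48903)))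
theorem Q16135 : ∀ i, i < 16135 → P i := stepQ 16134 Q16134 (allL N16134 (tt N15489 F218625) (tt N14566 F218626) (tt N15016 F218627) (tt N13973 F218628) (tt N15442 F218629) (tt N18200 (iv F227959)) (tt N15017 F218630) (tt N13976 F218631) (tt N18206 D50976) (tt N13972 (iv D48904)))
theorem Q16136 : ∀ i, i < 16136 → P i := stepQ 16135 Q16135 (allL N16135 (tt N15040 F218632) (tt N15403 F218633) (tt N13976 F218634) (tt N13995 F218635) (tt N15441 F218636) (tt N18202 (iv F227973)) (tt N13979 F218637) (tt N15016 F218638) (tt N18207 D50977) (tt N13974 (iv D48905)))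
theorem Q16137 : ∀ i, i < 16137 → P i := stepQ 16136 Q16136 (allL N16136 (tt N15473 F218639) (tt N14570 F218640) (tt N15436 F218641) (tt N13983 F218642) (tt N18203 (iv F227980)) (tt N13975 (iv D48906)) (tt N18208 D50978) (tt N15438 F218643) (tt N18193 (iv F227918)) (tt N18209 D50979))
theorem Q16138 : ∀ i, i < 16138 → P i := stepQ 16137 Q16137 (allL N16137 (tt N15483 F218644) (tt N14571 F218645) (tt N15441 F218646) (tt N13984 F218647) (tt N13976 F218648) (tt N18209 (iv F228012)) (tt N13981 F218649) (tt N15442 F218650) (tt N18210 D50980) (tt N13975 (iv D48907)))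
theorem Q16139 : ∀ i, i < 16139 → P i := stepQ 16138 Q16138 (allL N16138 (tt N18180 (iv F227818)) (tt N14572 F218651) (tt N18207 (iv F227997)) (tt N18153 (iv F227642)) (tt N18210 (iv F228017)) (tt N18205 (iv F227987)) (tt N13982 F218652) (tt N18206 (iv F227994)) (tt N13976 (iv D48908)) (tt N18195 (iv F227930)))
theorem Q16140 : ∀ i, i < 16140 → P i := stepQ 16139 Q16139 (allL N16139 (tt N15396 F218653) (tt N13979 F218654) (tt N14575 F218655) (tt N13996 F218656) (tt N15371 F218657) (tt N15059 F218658) (tt N15403 F218659) (tt N15316 F218660) (tt N18211 D50981) (tt N13977 (iv D48909)))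
theorem Q16141 : ∀ i, i < 16141 → P i := stepQ 16140 Q16140 (allL N16140 (tt N15041 F218661) (tt N14396 F218662) (tt N13980 F218663) (tt N14385 F218664) (tt N15060 F218665) (tt N13978 (iv D48910)) (tt N18212 D50982) (tt N15324 F218666) (tt N14389 F218667) (tt N18213 D50983))
theorem Q16142 : ∀ i, i < 16142 → P i := stepQ 16141 Q16141 (allL N16141 (tt N15042 F218668) (tt N15371 F218669) (tt N13981 F218670) (tt N15326 F218671) (tt N13979 F218672) (tt N18213 (iv F228041)) (tt N15441 F218673) (tt N15327 F218674) (tt N18214 D50984) (tt N13978 (iv D48911)))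
theorem Q16143 : ∀ i, i < 16143 → P i := stepQ 16142 Q16142 (allL N16142 (tt N15043 F218675) (tt N18211 (iv F228021)) (tt N13982 F218676) (tt N15470 F218677) (tt N18214 (iv F228047)) (tt N15062 F218678) (tt N18207 (iv F228000)) (tt N18126 (iv F227468)) (tt N13979 (iv D48912)) (tt N15029 F218679))
theorem Q16144 : ∀ i, i < 16144 → P i := stepQ 16143 Q16143 (allL N16143 (tt N18181 (iv F227825)) (tt N14579 F218680) (tt N18212 (iv F228031)) (tt N13986 F218681) (tt N15063 F218682) (tt N18208 (iv F228007)) (tt N13980 (iv D48913)) (tt N18215 D50985) (tt N18196 (iv F227936)) (tt N18216 D50986))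
theorem Q16145 : ∀ i, i < 16145 → P i := stepQ 16144 Q16144 (allL N16144 (tt N18182 (iv F227833)) (tt N14580 F218683) (tt N18213 (iv F228038)) (tt N13987 F218684) (tt N15064 F218685) (tt N13981 F218686) (tt N18216 (iv F228059)) (tt N18128 (iv F227484)) (tt N18217 D50987) (tt N13980 (iv D48914)))
theorem Q16146 : ∀ i, i < 16146 → P i := stepQ 16145 Q16145 (allL N16145 (tt N18183 (iv F227840)) (tt N14581 F218687) (tt N18214 (iv F228045)) (tt N18218 D50988) (tt N13982 F218688) (tt N18217 (iv F228062)) (tt N18210 (iv F228018)) (tt N18129 (iv F227490)) (tt N13981 (iv D48915)) (tt N18198 (iv F227948)))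
theorem Q16147 : ∀ i, i < 16147 → P i := stepQ 16146 Q16146 (allL N16146 (tt N15509 F218689) (tt N14585 F218690) (tt N15447 F218691) (tt N18208 (iv F228006)) (tt N14158 F218692) (tt N13986 F218693) (tt N13983 (iv D48916)) (tt N18219 D50989) (tt N16146 F218694) (tt N18220 D50990))
theorem Q16148 : ∀ i, i < 16148 → P i := stepQ 16147 Q16147 (allL N16147 (tt N15512 F218695) (tt N14586 F218696) (tt N15449 F218697) (tt N18209 (iv F228011)) (tt N14159 F218698) (tt N13984 F218699) (tt N18220 (iv F228077)) (tt N15450 F218700) (tt N18221 D50991) (tt N13983 (iv D48917)))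
theorem Q16149 : ∀ i, i < 16149 → P i := stepQ 16148 Q16148 (allL N16148 (tt N15523 F218701) (tt N14587 F218702) (tt N15453 F218703) (tt N18222 D50992) (tt N13985 F218704) (tt N18221 (iv F228082)) (tt N13988 F218705) (tt N15454 F218706) (tt N13984 (iv D48918)) (tt N16148 F218707))
theorem Q16150 : ∀ i, i < 16150 → P i := stepQ 16149 Q16149 (allL N16149 (tt N14461 F218708) (tt N14588 F218709) (tt N14478 F218710) (tt N18215 (iv F228053)) (tt N13989 F218711) (tt N18219 (iv F228069)) (tt N14464 F218712) (tt N13986 (iv D48919)) (tt N16149 F218713) (tt N18223 D50993))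
theorem Q16151 : ∀ i, i < 16151 → P i := stepQ 16150 Q16150 (allL N16150 (tt N18184 (iv F227846)) (tt N14589 F218714) (tt N18082 (iv F227122)) (tt N18216 (iv F228057)) (tt N13990 F218715) (tt N18220 (iv F228076)) (tt N13987 F218716) (tt N18223 (iv F228095)) (tt N18224 D50994) (tt N13986 (iv D48920)))
theorem Q16152 : ∀ i, i < 16152 → P i := stepQ 16151 Q16151 (allL N16151 (tt N15549 F218717) (tt N14590 F218718) (tt N15548 F218719) (tt N18225 D50995) (tt N13991 F218720) (tt N13988 F218721) (tt N18224 (iv F228101)) (tt N18131 (iv F227505)) (tt N13987 (iv D48921)) (tt N16151 F218722))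
theorem Q16153 : ∀ i, i < 16153 → P i := stepQ 16152 Q16152 (allL N16152 (tt N18185 (iv F227854)) (tt N14591 F218723) (tt N18226 D50996) (tt N13988 (iv D48922)) (tt N18164 (iv F227706)) (tt N18225 (iv F228107)) (tt N18222 (iv F228087)) (tt N18132 (iv F227510)) (tt N18218 (iv F228064)) (tt N16152 F218724))
theorem Q16154 : ∀ i, i < 16154 → P i := stepQ 16153 Q16153 (allL N16153 (tt N18186 (iv F227861)) (tt N14592 F218725) (tt N18083 (iv F227131)) (tt N15070 F218726) (tt N18223 (iv F228093)) (tt N14165 F218727) (tt N15848 F218728) (tt N13990 F218729) (tt N15861 (iv F218730)) (tt N13989 (iv D48923)))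
theorem Q16155 : ∀ i, i < 16155 → P i := stepQ 16154 Q16154 (allL N16154 (tt N18187 (iv F227870)) (tt N14593 F218731) (tt N18084 (iv F227140)) (tt N15859 F218732) (tt N18224 (iv F228100)) (tt N14166 F218733) (tt N13991 F218734) (tt N15861 F218735) (tt N13990 (iv D48924)) (tt N16154 F218736))
theorem Q16156 : ∀ i, i < 16156 → P i := stepQ 16155 Q16155 (allL N16155 (tt N15039 F218737) (tt N15399 F218738) (tt N13994 F218739) (tt N18202 (iv F227972)) (tt N15108 F218740) (tt N13995 F218741) (tt N15076 F218742) (tt N15015 F218743) (tt N15046 F218744) (tt N13993 (iv D48925)))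
theorem Q16157 : ∀ i, i < 16157 → P i := stepQ 16156 Q16156 (allL N16156 (tt N14116 F218745) (tt N14667 F218746) (tt N16156 F218747) (tt N14085 F218748) (tt N13999 F218749) (tt N16156 F218750) (tt N14077 F218751) (tt N13998 (iv D48926)) (tt N18227 D50997) (tt N14114 F218752))
theorem Q16158 : ∀ i, i < 16158 → P i := stepQ 16157 Q16157 (allL N16157 (tt N15204 F218753) (tt N14668 F218754) (tt N16157 F218755) (tt N18228 D50998) (tt N14000 F218756) (tt N16157 F218757) (tt N15099 F218758) (tt N18227 (iv F228119)) (tt N13998 (iv D48927)) (tt N18229 D50999))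
theorem Q16159 : ∀ i, i < 16159 → P i := stepQ 16158 Q16158 (allL N16158 (tt N14114 F218759) (tt N14669 F218760) (tt N16158 F218761) (tt N14007 F218762) (tt N14077 F218763) (tt N16158 F218764) (tt N13999 (iv D48928)) (tt N14076 F218765) (tt N18230 D51000) (tt N14116 F218766))
theorem Q16160 : ∀ i, i < 16160 → P i := stepQ 16159 Q16159 (allL N16159 (tt N15966 F218767) (tt N14670 F218768) (tt N16159 F218769) (tt N18231 D51001) (tt N18227 (iv F228116)) (tt N14001 F218770) (tt N18230 (iv F228137)) (tt N14000 F218771) (tt N13999 (iv D48929)) (tt N18232 D51002))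
theorem Q16161 : ∀ i, i < 16161 → P i := stepQ 16160 Q16160 (allL N16160 (tt N15692 F218772) (tt N14671 F218773) (tt N18233 D51003) (tt N14000 (iv D48930)) (tt N18234 D51004) (tt N14002 F218774) (tt N15101 F218775) (tt N18231 (iv F228142)) (tt N14009 F218776) (tt N18235 D51005))
theorem Q16162 : ∀ i, i < 16162 → P i := stepQ 16161 Q16161 (allL N16161 (tt N15967 F218777) (tt N14672 F218778) (tt N16161 F218779) (tt N18235 (iv F228162)) (tt N18229 (iv F228128)) (tt N14003 F218780) (tt N15102 F218781) (tt N18232 (iv F228148)) (tt N14119 F218782) (tt N14000 (iv D48931)))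
theorem Q16163 : ∀ i, i < 16163 → P i := stepQ 16162 Q16162 (allL N16162 (tt N15701 F218783) (tt N14673 F218784) (tt N18236 D51006) (tt N14001 (iv D48932)) (tt N18237 D51007) (tt N18231 (iv F228141)) (tt N16162 F218785) (tt N14002 F218786) (tt N14011 F218787) (tt N18238 D51008))
theorem Q16164 : ∀ i, i < 16164 → P i := stepQ 16163 Q16163 (allL N16163 (tt N15968 F218788) (tt N14674 F218789) (tt N16163 F218790) (tt N18238 (iv F228181)) (tt N16163 F218791) (tt N18232 (iv F228147)) (tt N16163 F218792) (tt N14003 F218793) (tt N14121 F218794) (tt N14001 (iv D48933)))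
theorem Q16165 : ∀ i, i < 16165 → P i := stepQ 16164 Q16164 (allL N16164 (tt N15698 F218795) (tt N15171 F218796) (tt N14002 (iv D48934)) (tt N16164 F218797) (tt N15170 (iv F218800)) (tt N18233 (iv F228153)) (tt N14004 F218798) (tt N18236 (iv F228169)) (tt N14013 F218799) (tt N18239 D51009))
theorem Q16166 : ∀ i, i < 16166 → P i := stepQ 16165 Q16165 (allL N16165 (tt N14820 F218801) (tt N14675 F218802) (tt N15170 F218803) (tt N16165 F218804) (tt N14002 (iv D48935)) (tt N18240 D51010) (tt N14005 F218805) (tt N18237 (iv F228177)) (tt N14014 F218806) (tt N18241 D51011))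
theorem Q16167 : ∀ i, i < 16167 → P i := stepQ 16166 Q16166 (allL N16166 (tt N15702 F218807) (tt N14676 F218808) (tt N18239 (iv F228186)) (tt N14003 F218809) (tt N18241 (iv F228200)) (tt N18235 (iv F228163)) (tt N14006 F218810) (tt N18238 (iv F228183)) (tt N18242 D51012) (tt N14002 (iv D48936)))
theorem Q16168 : ∀ i, i < 16168 → P i := stepQ 16167 Q16167 (allL N16167 (tt N15699 F218811) (tt N15177 F218812) (tt N14006 F218813) (tt N16167 F218814) (tt N15176 F218815) (tt N14896 F218816) (tt N18239 (iv F228189)) (tt N16167 F218817) (tt N18243 D51013) (tt N14004 (iv D48937)))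
theorem Q16169 : ∀ i, i < 16169 → P i := stepQ 16168 Q16168 (allL N16168 (tt N14821 F218818) (tt N14677 F218819) (tt N15176 F218820) (tt N16168 F218821) (tt N14006 F218822) (tt N14757 F218823) (tt N18241 (iv F228201)) (tt N16168 F218824) (tt N18244 D51014) (tt N14005 (iv D48938)))
theorem Q16170 : ∀ i, i < 16170 → P i := stepQ 16169 Q16169 (allL N16169 (tt N15703 F218825) (tt N14678 F218826) (tt N18243 (iv F228209)) (tt N14130 F218827) (tt N18244 (iv F228217)) (tt N15106 F218828) (tt N18242 (iv F228205)) (tt N16169 F218829) (tt N14006 (iv D48939)) (tt N14020 F218830))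
theorem Q16171 : ∀ i, i < 16171 → P i := stepQ 16170 Q16170 (allL N16170 (tt N15757 F218831) (tt N14679 F218832) (tt N14027 F218833) (tt N18245 D51015) (tt N15072 F218834) (tt N16170 F218835) (tt N14008 F218836) (tt N15075 F218837) (tt N14007 (iv D48940)) (tt N18246 D51016))
theorem Q16172 : ∀ i, i < 16172 → P i := stepQ 16171 Q16171 (allL N16171 (tt N15741 F218838) (tt N14680 F218839) (tt N18247 D51017) (tt N14008 (iv D48941)) (tt N18248 D51018) (tt N14011 F218840) (tt N18245 (iv F228225)) (tt N14009 F218841) (tt N18231 (iv F228143)) (tt N18249 D51019))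
theorem Q16173 : ∀ i, i < 16173 → P i := stepQ 16172 Q16172 (allL N16172 (tt N15759 F218842) (tt N14681 F218843) (tt N14029 F218844) (tt N18249 (iv F228246)) (tt N18142 (iv F227580)) (tt N14012 F218845) (tt N18246 (iv F228232)) (tt N14010 F218846) (tt N14133 F218847) (tt N14008 (iv D48942)))
theorem Q16174 : ∀ i, i < 16174 → P i := stepQ 16173 Q16173 (allL N16173 (tt N15737 F218848) (tt N18250 D51020) (tt N14009 (iv D48943)) (tt N14030 F218849) (tt N18251 D51021) (tt N14013 F218850) (tt N15109 F218851) (tt N18247 (iv F228240)) (tt N18233 (iv F228155)) (tt N18252 D51022))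
theorem Q16175 : ∀ i, i < 16175 → P i := stepQ 16174 Q16174 (allL N16174 (tt N15720 F218852) (tt N14683 F218853) (tt N18251 (iv F228257)) (tt N18144 (iv F227594)) (tt N14009 (iv D48944)) (tt N18253 D51023) (tt N15110 F218854) (tt N18248 (iv F228243)) (tt N18234 (iv F228159)) (tt N18254 D51024))
theorem Q16176 : ∀ i, i < 16176 → P i := stepQ 16175 Q16175 (allL N16175 (tt N15742 F218855) (tt N14684 F218856) (tt N18252 (iv F228260)) (tt N14010 F218857) (tt N18254 (iv F228270)) (tt N14015 F218858) (tt N15111 F218859) (tt N18249 (iv F228248)) (tt N18255 D51025) (tt N14009 (iv D48945)))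
theorem Q16177 : ∀ i, i < 16177 → P i := stepQ 16176 Q16176 (allL N16176 (tt N15750 F218860) (tt N15961 F218861) (tt N14011 (iv D48946)) (tt N14033 F218862) (tt N18256 D51026) (tt N18247 (iv F228238)) (tt N16176 F218863) (tt N14013 F218864) (tt N18236 (iv F228170)) (tt N18257 D51027))
theorem Q16178 : ∀ i, i < 16178 → P i := stepQ 16177 Q16177 (allL N16177 (tt N14857 F218865) (tt N14686 F218866) (tt N18256 (iv F228279)) (tt N14021 F218867) (tt N14011 (iv D48947)) (tt N18258 D51028) (tt N16177 F218868) (tt N14014 F218869) (tt N18237 (iv F228178)) (tt N18259 D51029))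
theorem Q16179 : ∀ i, i < 16179 → P i := stepQ 16178 Q16178 (allL N16178 (tt N15755 F218870) (tt N14687 F218871) (tt N18257 (iv F228286)) (tt N14012 F218872) (tt N18259 (iv F228297)) (tt N18249 (iv F228247)) (tt N16178 F218873) (tt N14015 F218874) (tt N18260 D51030) (tt N14011 (iv D48948)))
theorem Q16180 : ∀ i, i < 16180 → P i := stepQ 16179 Q16179 (allL N16179 (tt N15213 (iv F218880)) (tt N14013 (iv D48949)) (tt N14688 F218875) (tt N14035 F218876) (tt N15157 (iv F218881)) (tt N18250 (iv F228251)) (tt N14016 F218877) (tt N15961 F218878) (tt N15171 F218879) (tt N18261 D51031))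
theorem Q16181 : ∀ i, i < 16181 → P i := stepQ 16180 Q16180 (allL N16180 (tt N14853 F218882) (tt N15157 F218883) (tt N14014 F218884) (tt N16180 F218885) (tt N14013 (iv D48950)) (tt N18262 D51032) (tt N14017 F218886) (tt N18256 (iv F228282)) (tt N15170 F218887) (tt N18263 D51033))
theorem Q16182 : ∀ i, i < 16182 → P i := stepQ 16181 Q16181 (allL N16181 (tt N15751 F218888) (tt N18261 (iv F228306)) (tt N14015 F218889) (tt N14036 F218890) (tt N18263 (iv F228322)) (tt N18252 (iv F228262)) (tt N14018 F218891) (tt N18257 (iv F228289)) (tt N18264 D51034) (tt N14013 (iv D48951)))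
theorem Q16183 : ∀ i, i < 16183 → P i := stepQ 16182 Q16182 (allL N16182 (tt N14846 F218892) (tt N14691 F218893) (tt N18262 (iv F228314)) (tt N14023 F218894) (tt N18253 (iv F228266)) (tt N14014 (iv D48952)) (tt N14771 F218895) (tt N18258 (iv F228293)) (tt N18240 (iv F228195)) (tt N18265 D51035))
theorem Q16184 : ∀ i, i < 16184 → P i := stepQ 16183 Q16183 (allL N16183 (tt N14858 F218896) (tt N14692 F218897) (tt N18263 (iv F228320)) (tt N14024 F218898) (tt N14015 F218899) (tt N18265 (iv F228330)) (tt N14019 F218900) (tt N18259 (iv F228299)) (tt N18266 D51036) (tt N14014 (iv D48953)))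
theorem Q16185 : ∀ i, i < 16185 → P i := stepQ 16184 Q16184 (allL N16184 (tt N15756 F218901) (tt N14693 F218902) (tt N18264 (iv F228325)) (tt N14145 F218903) (tt N18266 (iv F228334)) (tt N18255 (iv F228275)) (tt N14020 F218904) (tt N18260 (iv F228304)) (tt N14015 (iv D48954)) (tt N18242 (iv F228206)))
theorem Q16186 : ∀ i, i < 16186 → P i := stepQ 16185 Q16185 (allL N16185 (tt N15220 F218905) (tt N14018 F218906) (tt N14694 F218907) (tt N14039 F218908) (tt N15159 F218909) (tt N15118 F218910) (tt N18261 (iv F228310)) (tt N16185 F218911) (tt N18267 D51037) (tt N14016 (iv D48955)))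
theorem Q16187 : ∀ i, i < 16187 → P i := stepQ 16186 Q16186 (allL N16186 (tt N14854 F218912) (tt N15159 F218913) (tt N14019 F218914) (tt N16186 F218915) (tt N14018 F218916) (tt N14775 F218917) (tt N18263 (iv F228323)) (tt N16186 F218918) (tt N18268 D51038) (tt N14017 (iv D48956)))
theorem Q16188 : ∀ i, i < 16188 → P i := stepQ 16187 Q16187 (allL N16187 (tt N15752 F218919) (tt N18267 (iv F228337)) (tt N14020 F218920) (tt N18269 D51039) (tt N18268 (iv F228346)) (tt N15119 F218921) (tt N18264 (iv F228326)) (tt N16187 F218922) (tt N14018 (iv D48957)) (tt N18243 (iv F228213)))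
theorem Q16189 : ∀ i, i < 16189 → P i := stepQ 16188 Q16188 (allL N16188 (tt N14859 F218923) (tt N14699 F218924) (tt N18268 (iv F228345)) (tt N18270 D51040) (tt N14020 F218925) (tt N14777 F218926) (tt N18266 (iv F228335)) (tt N16188 F218927) (tt N14019 (iv D48958)) (tt N18244 (iv F228220)))
theorem Q16190 : ∀ i, i < 16190 → P i := stepQ 16189 Q16189 (allL N16189 (tt N14864 F218928) (tt N14700 F218929) (tt N16189 F218930) (tt N18258 (iv F228292)) (tt N18160 (iv F227680)) (tt N14021 (iv D48959)) (tt N18271 D51041) (tt N14023 F218931) (tt N16189 F218932) (tt N18272 D51042))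
theorem Q16191 : ∀ i, i < 16191 → P i := stepQ 16190 Q16190 (allL N16190 (tt N14868 F218933) (tt N14701 F218934) (tt N16190 F218935) (tt N18259 (iv F228296)) (tt N14022 F218936) (tt N18272 (iv F228371)) (tt N16190 F218937) (tt N14024 F218938) (tt N18273 D51043) (tt N14021 (iv D48960)))
theorem Q16192 : ∀ i, i < 16192 → P i := stepQ 16191 Q16191 (allL N16191 (tt N14872 F218939) (tt N14702 F218940) (tt N16191 F218941) (tt N14157 F218942) (tt N18273 (iv F228376)) (tt N15833 F218943) (tt N16191 F218944) (tt N14025 F218945) (tt N14022 (iv D48961)) (tt N16191 F218946))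
theorem Q16193 : ∀ i, i < 16193 → P i := stepQ 16192 Q16192 (allL N16192 (tt N14865 F218947) (tt N14704 F218948) (tt N16192 F218949) (tt N18265 (iv F228329)) (tt N18162 (iv F227694)) (tt N14024 F218950) (tt N14781 F218951) (tt N18272 (iv F228372)) (tt N18274 D51044) (tt N14023 (iv D48962)))
theorem Q16194 : ∀ i, i < 16194 → P i := stepQ 16193 Q16193 (allL N16193 (tt N14869 F218952) (tt N14705 F218953) (tt N16193 F218954) (tt N18275 D51045) (tt N14025 F218955) (tt N18274 (iv F228383)) (tt N14026 F218956) (tt N18273 (iv F228378)) (tt N14024 (iv D48963)) (tt N16193 F218957))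
theorem Q16195 : ∀ i, i < 16195 → P i := stepQ 16194 Q16194 (allL N16194 (tt N14870 F218958) (tt N14709 F218959) (tt N18276 D51046) (tt N14026 (iv D48964)) (tt N14164 F218960) (tt N14783 F218961) (tt N18275 (iv F228389)) (tt N16194 F218962) (tt N18270 (iv F228360)) (tt N16194 F218963))
theorem Q16196 : ∀ i, i < 16196 → P i := stepQ 16195 Q16195 (allL N16195 (tt N15954 F218964) (tt N14041 F218965) (tt N18246 (iv F228229)) (tt N15272 F218966) (tt N15073 F218967) (tt N16195 F218968) (tt N14029 F218969) (tt N15077 F218970) (tt N14167 F218971) (tt N14027 (iv D48965)))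
theorem Q16197 : ∀ i, i < 16197 → P i := stepQ 16196 Q16196 (allL N16196 (tt N15936 F218972) (tt N15780 F218973) (tt N14028 (iv D48966)) (tt N18247 (iv F228237)) (tt N15267 F218974) (tt N14033 F218975) (tt N15270 F218976) (tt N14030 F218977) (tt N16196 F218978) (tt N18277 D51047))
theorem Q16198 : ∀ i, i < 16198 → P i := stepQ 16197 Q16197 (allL N16197 (tt N15941 F218979) (tt N14043 F218980) (tt N18277 (iv F228399)) (tt N14029 F218981) (tt N15268 F218982) (tt N14034 F218983) (tt N15272 F218984) (tt N14032 F218985) (tt N18278 D51048) (tt N14028 (iv D48967)))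
theorem Q16199 : ∀ i, i < 16199 → P i := stepQ 16198 Q16198 (allL N16198 (tt N15783 (iv F218991)) (tt N14030 (iv D48968)) (tt N14044 F218986) (tt N18250 (iv F228250)) (tt N18279 D51049) (tt N14035 F218987) (tt N15120 F218988) (tt N15780 F218989) (tt N16198 F218990) (tt N18280 D51050))
theorem Q16200 : ∀ i, i < 16200 → P i := stepQ 16199 Q16199 (allL N16199 (tt N15917 F218992) (tt N18279 (iv F228413)) (tt N14031 F218993) (tt N18281 D51051) (tt N14030 (iv D48969)) (tt N16199 F218994) (tt N14168 F218995) (tt N15267 F218996) (tt N16199 F218997) (tt N18282 D51052))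
theorem Q16201 : ∀ i, i < 16201 → P i := stepQ 16200 Q16200 (allL N16200 (tt N15937 F218998) (tt N18280 (iv F228420)) (tt N14032 F218999) (tt N18252 (iv F228261)) (tt N18282 (iv F228432)) (tt N14036 F219000) (tt N15121 F219001) (tt N18277 (iv F228403)) (tt N18283 D51053) (tt N14030 (iv D48970)))
theorem Q16202 : ∀ i, i < 16202 → P i := stepQ 16201 Q16201 (allL N16201 (tt N15921 F219002) (tt N14047 F219003) (tt N18282 (iv F228431)) (tt N14167 F219004) (tt N14032 F219005) (tt N16201 F219006) (tt N14169 F219007) (tt N15268 F219008) (tt N18284 D51054) (tt N14031 (iv D48971)))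
theorem Q16203 : ∀ i, i < 16203 → P i := stepQ 16202 Q16202 (allL N16202 (tt N15942 F219009) (tt N14048 F219010) (tt N18283 (iv F228437)) (tt N14174 F219011) (tt N18284 (iv F228444)) (tt N14037 F219012) (tt N15122 F219013) (tt N18278 (iv F228410)) (tt N14032 (iv D48972)) (tt N16202 F219014))
theorem Q16204 : ∀ i, i < 16204 → P i := stepQ 16203 Q16203 (allL N16203 (tt N15950 F219015) (tt N15971 F219016) (tt N14034 F219017) (tt N18257 (iv F228287)) (tt N16203 F219018) (tt N18277 (iv F228401)) (tt N16203 F219019) (tt N14036 F219020) (tt N18285 D51055) (tt N14033 (iv D48973)))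
theorem Q16205 : ∀ i, i < 16205 → P i := stepQ 16204 Q16204 (allL N16204 (tt N15923 F219021) (tt N14050 F219022) (tt N18285 (iv F228451)) (tt N14177 F219023) (tt N16204 F219024) (tt N18278 (iv F228408)) (tt N16204 F219025) (tt N14037 F219026) (tt N14034 (iv D48974)) (tt N16204 F219027))
theorem Q16206 : ∀ i, i < 16206 → P i := stepQ 16205 Q16205 (allL N16205 (tt N15973 F219028) (tt N14036 F219029) (tt N14051 F219030) (tt N18261 (iv F228308)) (tt N16205 F219031) (tt N18280 (iv F228422)) (tt N14039 F219032) (tt N15971 F219033) (tt N18286 D51056) (tt N14035 (iv D48975)))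
theorem Q16207 : ∀ i, i < 16207 → P i := stepQ 16206 Q16206 (allL N16206 (tt N15951 F219034) (tt N18286 (iv F228457)) (tt N14037 F219035) (tt N18287 D51057) (tt N16206 F219036) (tt N18283 (iv F228438)) (tt N14040 F219037) (tt N18285 (iv F228454)) (tt N14036 (iv D48976)) (tt N16206 F219038))
theorem Q16208 : ∀ i, i < 16208 → P i := stepQ 16207 Q16207 (allL N16207 (tt N14039 F219039) (tt N15944 F219040) (tt N14053 F219041) (tt N15220 F219042) (tt N16207 F219043) (tt N15129 F219044) (tt N15973 F219045) (tt N16207 F219046) (tt N18288 D51058) (tt N14038 (iv D48977)))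
theorem Q16209 : ∀ i, i < 16209 → P i := stepQ 16208 Q16208 (allL N16208 (tt N18288 (iv F228467)) (tt N14040 F219047) (tt N14054 F219048) (tt N18289 D51059) (tt N16208 F219049) (tt N15130 F219050) (tt N18286 (iv F228460)) (tt N16208 F219051) (tt N14039 (iv D48978)) (tt N16208 F219052))
theorem Q16210 : ∀ i, i < 16210 → P i := stepQ 16209 Q16209 (allL N16209 (tt N15952 F219053) (tt N18289 (iv F228477)) (tt N14183 F219054) (tt N14040 (iv D48979)) (tt N18290 D51060) (tt N15131 F219055) (tt N18287 (iv F228465)) (tt N16209 F219056) (tt N18269 (iv F228354)) (tt N16209 F219057))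
theorem Q16211 : ∀ i, i < 16211 → P i := stepQ 16210 Q16210 (allL N16210 (tt N16210 F219058) (tt N15781 F219059) (tt N14043 F219060) (tt N14724 F219061) (tt N14911 F219062) (tt N14049 F219063) (tt N15292 F219064) (tt N14046 F219065) (tt N18291 D51061) (tt N14042 (iv D48980)))
theorem Q16212 : ∀ i, i < 16212 → P i := stepQ 16211 Q16211 (allL N16211 (tt N16211 F219066) (tt N18278 (iv F228405)) (tt N18291 (iv F228491)) (tt N14186 F219067) (tt N15290 F219068) (tt N14050 F219069) (tt N15294 F219070) (tt N14048 F219071) (tt N14043 (iv D48981)) (tt N16211 F219072))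
theorem Q16213 : ∀ i, i < 16213 → P i := stepQ 16212 Q16212 (allL N16212 (tt N15784 F219073) (tt N14045 F219074) (tt N18279 (iv F228414)) (tt N14897 F219075) (tt N14044 (iv D48982)) (tt N16212 F219076) (tt N14184 F219077) (tt N14969 F219078) (tt N16212 F219079) (tt N18292 D51062))
theorem Q16214 : ∀ i, i < 16214 → P i := stepQ 16213 Q16213 (allL N16213 (tt N15785 F219080) (tt N14046 F219081) (tt N18280 (iv F228421)) (tt N14727 F219082) (tt N18292 (iv F228501)) (tt N14051 F219083) (tt N15133 F219084) (tt N15781 F219085) (tt N18293 D51063) (tt N14044 (iv D48983)))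
theorem Q16215 : ∀ i, i < 16215 → P i := stepQ 16214 Q16214 (allL N16214 (tt N16214 F219086) (tt N18292 (iv F228499)) (tt N14047 F219087) (tt N14898 F219088) (tt N14046 F219089) (tt N16214 F219090) (tt N14185 F219091) (tt N14911 F219092) (tt N18294 D51064) (tt N14045 (iv D48984)))
theorem Q16216 : ∀ i, i < 16216 → P i := stepQ 16215 Q16215 (allL N16215 (tt N16215 F219093) (tt N18293 (iv F228506)) (tt N14048 F219094) (tt N18295 D51065) (tt N18294 (iv F228514)) (tt N14052 F219095) (tt N15134 F219096) (tt N18291 (iv F228496)) (tt N14046 (iv D48985)) (tt N16215 F219097))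
theorem Q16217 : ∀ i, i < 16217 → P i := stepQ 16216 Q16216 (allL N16216 (tt N16216 F219098) (tt N18284 (iv F228442)) (tt N18294 (iv F228512)) (tt N15294 F219099) (tt N14048 F219100) (tt N16216 F219101) (tt N14186 F219102) (tt N15290 F219103) (tt N14047 (iv D48986)) (tt N16216 F219104))
theorem Q16218 : ∀ i, i < 16218 → P i := stepQ 16217 Q16217 (allL N16217 (tt N16217 F219105) (tt N15972 F219106) (tt N14050 F219107) (tt N18296 D51066) (tt N16217 F219108) (tt N18291 (iv F228494)) (tt N16217 F219109) (tt N14052 F219110) (tt N14049 (iv D48987)) (tt N16217 F219111))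
theorem Q16219 : ∀ i, i < 16219 → P i := stepQ 16218 Q16218 (allL N16218 (tt N15974 F219112) (tt N14052 F219113) (tt N18286 (iv F228458)) (tt N18297 D51067) (tt N16218 F219114) (tt N18293 (iv F228507)) (tt N14054 F219115) (tt N15972 F219116) (tt N14051 (iv D48988)) (tt N16218 F219117))
theorem Q16220 : ∀ i, i < 16220 → P i := stepQ 16219 Q16219 (allL N16219 (tt N16219 F219118) (tt N18297 (iv F228537)) (tt N14198 F219119) (tt N14052 (iv D48989)) (tt N18298 D51068) (tt N18295 (iv F228522)) (tt N14055 F219120) (tt N18296 (iv F228532)) (tt N14729 F219121) (tt N16219 F219122))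
theorem Q16221 : ∀ i, i < 16221 → P i := stepQ 16220 Q16220 (allL N16220 (tt N14054 F219123) (tt N16220 F219124) (tt N18288 (iv F228469)) (tt N14636 F219125) (tt N16220 F219126) (tt N15141 F219127) (tt N15974 F219128) (tt N16220 F219129) (tt N14053 (iv D48990)) (tt N16220 F219130))
theorem Q16222 : ∀ i, i < 16222 → P i := stepQ 16221 Q16221 (allL N16221 (tt N14636 F219131) (tt N14055 F219132) (tt N14664 (iv F219137)) (tt N14054 (iv D48991)) (tt N14628 (iv F219138)) (tt N15142 F219133) (tt N18297 (iv F228538)) (tt N16221 F219134) (tt N14627 F219135) (tt N16221 F219136))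
theorem Q16223 : ∀ i, i < 16223 → P i := stepQ 16222 Q16222 (allL N16222 (tt N16222 F219139) (tt N14628 F219140) (tt N14201 F219141) (tt N16222 F219142) (tt N14055 (iv D48992)) (tt N14624 F219143) (tt N18298 (iv F228549)) (tt N16222 F219144) (tt N14623 F219145) (tt N16222 F219146))
theorem Q16224 : ∀ i, i < 16224 → P i := stepQ 16223 Q16223 (allL N16223 (tt N14731 F219147) (tt N14077 F219148) (tt N14918 F219149) (tt N14061 F219150) (tt N14669 F219151) (tt N14057 F219152) (tt N14667 F219153) (tt N14056 (iv D48993)) (tt N18299 D51069) (tt N14797 F219154))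
theorem Q16225 : ∀ i, i < 16225 → P i := stepQ 16224 Q16224 (allL N16224 (tt N14732 F219155) (tt N14078 F219156) (tt N15775 F219157) (tt N18300 D51070) (tt N15562 F219158) (tt N14058 F219159) (tt N15144 F219160) (tt N18299 (iv F228559)) (tt N14056 (iv D48994)) (tt N18301 D51071))
theorem Q16226 : ∀ i, i < 16226 → P i := stepQ 16225 Q16225 (allL N16225 (tt N14733 F219161) (tt N14079 F219162) (tt N15779 F219163) (tt N18302 D51072) (tt N16225 F219164) (tt N18299 (iv F228557)) (tt N16225 F219165) (tt N14058 F219166) (tt N14057 (iv D48995)) (tt N18303 D51073))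
theorem Q16227 : ∀ i, i < 16227 → P i := stepQ 16226 Q16226 (allL N16226 (tt N14734 F219167) (tt N14080 F219168) (tt N14697 F219169) (tt N14058 (iv D48996)) (tt N14743 (iv F219172)) (tt N18300 (iv F228563)) (tt N14059 F219170) (tt N18302 (iv F228577)) (tt N14064 F219171) (tt N18304 D51074))
theorem Q16228 : ∀ i, i < 16228 → P i := stepQ 16227 Q16227 (allL N16227 (tt N14735 F219173) (tt N14081 F219174) (tt N15622 F219175) (tt N18304 (iv F228590)) (tt N16227 F219176) (tt N18301 (iv F228570)) (tt N14060 F219177) (tt N18303 (iv F228585)) (tt N15615 F219178) (tt N14058 (iv D48997)))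
theorem Q16229 : ∀ i, i < 16229 → P i := stepQ 16228 Q16228 (allL N16228 (tt N14736 F219179) (tt N14084 F219180) (tt N14698 F219181) (tt N14060 F219182) (tt N14745 F219183) (tt N14695 F219184) (tt N18304 (iv F228592)) (tt N16228 F219185) (tt N18305 D51075) (tt N14059 (iv D48998)))
theorem Q16230 : ∀ i, i < 16230 → P i := stepQ 16229 Q16229 (allL N16229 (tt N14737 F219186) (tt N14085 F219187) (tt N16229 F219188) (tt N14667 F219189) (tt N14422 F219190) (tt N16229 F219191) (tt N14061 (iv D48999)) (tt N14421 F219192) (tt N18306 D51076) (tt N14541 F219193))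
theorem Q16231 : ∀ i, i < 16231 → P i := stepQ 16230 Q16230 (allL N16230 (tt N14738 F219194) (tt N14086 F219195) (tt N16230 F219196) (tt N18307 D51077) (tt N15837 F219197) (tt N14063 F219198) (tt N18306 (iv F228606)) (tt N14062 F219199) (tt N14061 (iv D49000)) (tt N18308 D51078))
theorem Q16232 : ∀ i, i < 16232 → P i := stepQ 16231 Q16231 (allL N16231 (tt N14739 F219200) (tt N14087 F219201) (tt N18309 D51079) (tt N14062 (iv D49001)) (tt N18310 D51080) (tt N14064 F219202) (tt N15147 F219203) (tt N18307 (iv F228611)) (tt N18300 (iv F228565)) (tt N18311 D51081))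
theorem Q16233 : ∀ i, i < 16233 → P i := stepQ 16232 Q16232 (allL N16232 (tt N14740 F219204) (tt N14088 F219205) (tt N16232 F219206) (tt N18311 (iv F228630)) (tt N18173 (iv F227771)) (tt N14065 F219207) (tt N15148 F219208) (tt N18308 (iv F228617)) (tt N15265 F219209) (tt N14062 (iv D49002)))
theorem Q16234 : ∀ i, i < 16234 → P i := stepQ 16233 Q16233 (allL N16233 (tt N14741 F219210) (tt N14089 F219211) (tt N18312 D51082) (tt N14063 (iv D49003)) (tt N15853 F219212) (tt N18307 (iv F228610)) (tt N16233 F219213) (tt N14064 F219214) (tt N18302 (iv F228578)) (tt N18313 D51083))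
theorem Q16235 : ∀ i, i < 16235 → P i := stepQ 16234 Q16234 (allL N16234 (tt N14742 F219215) (tt N14090 F219216) (tt N16234 F219217) (tt N18313 (iv F228642)) (tt N14069 F219218) (tt N18308 (iv F228616)) (tt N16234 F219219) (tt N14065 F219220) (tt N15266 F219221) (tt N14063 (iv D49004)))
theorem Q16236 : ∀ i, i < 16236 → P i := stepQ 16235 Q16235 (allL N16235 (tt N14743 F219222) (tt N14755 F219223) (tt N14064 (iv D49005)) (tt N16235 F219224) (tt N14734 (iv F219227)) (tt N18309 (iv F228622)) (tt N14066 F219225) (tt N18312 (iv F228638)) (tt N14697 F219226) (tt N18314 D51084))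
theorem Q16237 : ∀ i, i < 16237 → P i := stepQ 16236 Q16236 (allL N16236 (tt N14697 F219228) (tt N14092 F219229) (tt N14734 F219230) (tt N14070 F219231) (tt N14064 (iv D49006)) (tt N18315 D51085) (tt N14067 F219232) (tt N15853 F219233) (tt N14743 F219234) (tt N18316 D51086))
theorem Q16238 : ∀ i, i < 16238 → P i := stepQ 16237 Q16237 (allL N16237 (tt N14744 F219235) (tt N14093 F219236) (tt N18314 (iv F228648)) (tt N14065 F219237) (tt N18316 (iv F228663)) (tt N18311 (iv F228631)) (tt N14068 F219238) (tt N18313 (iv F228645)) (tt N18317 D51087) (tt N14064 (iv D49007)))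
theorem Q16239 : ∀ i, i < 16239 → P i := stepQ 16238 Q16238 (allL N16238 (tt N14745 F219239) (tt N14757 F219240) (tt N14068 F219241) (tt N16238 F219242) (tt N14736 F219243) (tt N14677 F219244) (tt N18314 (iv F228651)) (tt N16238 F219245) (tt N18318 D51088) (tt N14066 (iv D49008)))
theorem Q16240 : ∀ i, i < 16240 → P i := stepQ 16239 Q16239 (allL N16239 (tt N14698 F219246) (tt N14096 F219247) (tt N14736 F219248) (tt N14073 F219249) (tt N14068 F219250) (tt N14657 F219251) (tt N18316 (iv F228664)) (tt N16239 F219252) (tt N18319 D51089) (tt N14067 (iv D49009)))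
theorem Q16241 : ∀ i, i < 16241 → P i := stepQ 16240 Q16240 (allL N16240 (tt N14746 F219253) (tt N14097 F219254) (tt N18318 (iv F228672)) (tt N15262 F219255) (tt N18319 (iv F228680)) (tt N15152 F219256) (tt N18317 (iv F228669)) (tt N16240 F219257) (tt N14068 (iv D49010)) (tt N18305 (iv F228600)))
theorem Q16242 : ∀ i, i < 16242 → P i := stepQ 16241 Q16241 (allL N16241 (tt N14703 F219258) (tt N14098 F219259) (tt N15532 F219260) (tt N18315 (iv F228655)) (tt N15511 F219261) (tt N14070 (iv D49011)) (tt N14661 F219262) (tt N15516 F219263) (tt N16241 F219264) (tt N18320 D51090))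
theorem Q16243 : ∀ i, i < 16243 → P i := stepQ 16242 Q16242 (allL N16242 (tt N14707 F219265) (tt N14099 F219266) (tt N15623 F219267) (tt N18316 (iv F228662)) (tt N14071 F219268) (tt N18320 (iv F228688)) (tt N14073 F219269) (tt N15854 F219270) (tt N18321 D51091) (tt N14070 (iv D49012)))
theorem Q16244 : ∀ i, i < 16244 → P i := stepQ 16243 Q16243 (allL N16243 (tt N14711 F219271) (tt N14100 F219272) (tt N15867 F219273) (tt N14166 F219274) (tt N18321 (iv F228694)) (tt N15859 F219275) (tt N14074 F219276) (tt N15855 F219277) (tt N14071 (iv D49013)) (tt N16243 F219278))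
theorem Q16245 : ∀ i, i < 16245 → P i := stepQ 16244 Q16244 (allL N16244 (tt N14638 F219279) (tt N15143 F219280) (tt N14074 F219281) (tt N18097 (iv F227243)) (tt N15142 F219282) (tt N14075 F219283) (tt N15867 F219284) (tt N16244 F219285) (tt N14072 (iv D49014)) (tt N16244 F219286))
theorem Q16246 : ∀ i, i < 16246 → P i := stepQ 16245 Q16245 (allL N16245 (tt N14708 F219287) (tt N14103 F219288) (tt N15142 F219289) (tt N18322 D51092) (tt N14074 F219290) (tt N14664 F219291) (tt N18321 (iv F228695)) (tt N16245 F219292) (tt N14073 (iv D49015)) (tt N16245 F219293))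
theorem Q16247 : ∀ i, i < 16247 → P i := stepQ 16246 Q16246 (allL N16246 (tt N14115 F219294) (tt N15562 F219295) (tt N16246 F219296) (tt N18323 D51093) (tt N14078 F219297) (tt N16246 F219298) (tt N15100 F219299) (tt N18230 (iv F228138)) (tt N14076 (iv D49016)) (tt N18324 D51094))
theorem Q16248 : ∀ i, i < 16248 → P i := stepQ 16247 Q16247 (allL N16247 (tt N14117 F219300) (tt N18299 (iv F228554)) (tt N16247 F219301) (tt N18325 D51095) (tt N18230 (iv F228135)) (tt N14079 F219302) (tt N18227 (iv F228118)) (tt N14078 F219303) (tt N14077 (iv D49017)) (tt N18326 D51096))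
theorem Q16249 : ∀ i, i < 16249 → P i := stepQ 16248 Q16248 (allL N16248 (tt N14118 F219304) (tt N18300 (iv F228561)) (tt N18327 D51097) (tt N14078 (iv D49018)) (tt N18328 D51098) (tt N14080 F219305) (tt N15153 F219306) (tt N18325 (iv F228720)) (tt N14087 F219307) (tt N18329 D51099))
theorem Q16250 : ∀ i, i < 16250 → P i := stepQ 16249 Q16249 (allL N16249 (tt N14119 F219308) (tt N18301 (iv F228567)) (tt N16249 F219309) (tt N18329 (iv F228739)) (tt N18324 (iv F228714)) (tt N14081 F219310) (tt N15154 F219311) (tt N18326 (iv F228726)) (tt N15967 F219312) (tt N14078 (iv D49019)))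
theorem Q16251 : ∀ i, i < 16251 → P i := stepQ 16250 Q16250 (allL N16250 (tt N14120 F219313) (tt N18302 (iv F228574)) (tt N15915 (iv F219317)) (tt N14079 (iv D49020)) (tt N15856 (iv F219318)) (tt N18325 (iv F228719)) (tt N16250 F219314) (tt N14080 F219315) (tt N14089 F219316) (tt N18330 D51100))
theorem Q16252 : ∀ i, i < 16252 → P i := stepQ 16251 Q16251 (allL N16251 (tt N14121 F219319) (tt N18303 (iv F228581)) (tt N16251 F219320) (tt N18330 (iv F228744)) (tt N16251 F219321) (tt N18326 (iv F228725)) (tt N16251 F219322) (tt N14081 F219323) (tt N15968 F219324) (tt N14079 (iv D49021)))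
theorem Q16253 : ∀ i, i < 16253 → P i := stepQ 16252 Q16252 (allL N16252 (tt N14122 F219325) (tt N14769 F219326) (tt N14080 (iv D49022)) (tt N16252 F219327) (tt N14768 (iv F219331)) (tt N18327 (iv F228731)) (tt N14082 F219328) (tt N15915 F219329) (tt N14091 F219330) (tt N18331 D51101))
theorem Q16254 : ∀ i, i < 16254 → P i := stepQ 16253 Q16253 (allL N16253 (tt N14123 F219332) (tt N14743 F219333) (tt N14768 F219334) (tt N16253 F219335) (tt N14080 (iv D49023)) (tt N18332 D51102) (tt N14083 F219336) (tt N15856 F219337) (tt N14092 F219338) (tt N18333 D51103))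
theorem Q16255 : ∀ i, i < 16255 → P i := stepQ 16254 Q16254 (allL N16254 (tt N14124 F219339) (tt N18304 (iv F228588)) (tt N18331 (iv F228750)) (tt N14081 F219340) (tt N18333 (iv F228766)) (tt N18329 (iv F228740)) (tt N14084 F219341) (tt N18330 (iv F228747)) (tt N18334 D51104) (tt N14080 (iv D49024)))
theorem Q16256 : ∀ i, i < 16256 → P i := stepQ 16255 Q16255 (allL N16255 (tt N14127 F219342) (tt N14775 F219343) (tt N14084 F219344) (tt N16255 F219345) (tt N14774 F219346) (tt N15159 F219347) (tt N18331 (iv F228753)) (tt N16255 F219348) (tt N18335 D51105) (tt N14082 (iv D49025)))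
theorem Q16257 : ∀ i, i < 16257 → P i := stepQ 16256 Q16256 (allL N16256 (tt N14129 F219349) (tt N14745 F219350) (tt N14774 F219351) (tt N16256 F219352) (tt N14084 F219353) (tt N15597 F219354) (tt N18333 (iv F228767)) (tt N16256 F219355) (tt N18336 D51106) (tt N14083 (iv D49026)))
theorem Q16258 : ∀ i, i < 16258 → P i := stepQ 16257 Q16257 (allL N16257 (tt N14130 F219356) (tt N18305 (iv F228594)) (tt N18335 (iv F228775)) (tt N15703 F219357) (tt N18336 (iv F228783)) (tt N15160 F219358) (tt N18334 (iv F228771)) (tt N16257 F219359) (tt N14084 (iv D49027)) (tt N14097 F219360))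
theorem Q16259 : ∀ i, i < 16259 → P i := stepQ 16258 Q16258 (allL N16258 (tt N14131 F219361) (tt N18306 (iv F228602)) (tt N14107 F219362) (tt N18337 D51107) (tt N15839 F219363) (tt N16258 F219364) (tt N14086 F219365) (tt N15161 F219366) (tt N14085 (iv D49028)) (tt N18338 D51108))
theorem Q16260 : ∀ i, i < 16260 → P i := stepQ 16259 Q16259 (allL N16259 (tt N14132 F219367) (tt N18307 (iv F228609)) (tt N15914 F219368) (tt N14086 (iv D49029)) (tt N18339 D51109) (tt N14089 F219369) (tt N18337 (iv F228790)) (tt N14087 F219370) (tt N18325 (iv F228721)) (tt N18340 D51110))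
theorem Q16261 : ∀ i, i < 16261 → P i := stepQ 16260 Q16260 (allL N16260 (tt N14133 F219371) (tt N18308 (iv F228613)) (tt N14108 F219372) (tt N18340 (iv F228806)) (tt N15840 F219373) (tt N14090 F219374) (tt N18338 (iv F228796)) (tt N14088 F219375) (tt N15759 F219376) (tt N14086 (iv D49030)))
theorem Q16262 : ∀ i, i < 16262 → P i := stepQ 16261 Q16261 (allL N16261 (tt N14134 F219377) (tt N15809 (iv F219382)) (tt N14087 (iv D49031)) (tt N14109 F219378) (tt N18341 D51111) (tt N14091 F219379) (tt N15164 F219380) (tt N15914 F219381) (tt N18327 (iv F228734)) (tt N18342 D51112))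
theorem Q16263 : ∀ i, i < 16263 → P i := stepQ 16262 Q16262 (allL N16262 (tt N14135 F219383) (tt N18310 (iv F228626)) (tt N18341 (iv F228811)) (tt N18178 (iv F227807)) (tt N14087 (iv D49032)) (tt N18343 D51113) (tt N15165 F219384) (tt N18339 (iv F228803)) (tt N18328 (iv F228737)) (tt N18344 D51114))
theorem Q16264 : ∀ i, i < 16264 → P i := stepQ 16263 Q16263 (allL N16263 (tt N14136 F219385) (tt N18311 (iv F228629)) (tt N18342 (iv F228818)) (tt N14088 F219386) (tt N18344 (iv F228829)) (tt N14093 F219387) (tt N15166 F219388) (tt N18340 (iv F228808)) (tt N18345 D51115) (tt N14087 (iv D49033)))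
theorem Q16265 : ∀ i, i < 16265 → P i := stepQ 16264 Q16264 (allL N16264 (tt N14139 F219389) (tt N18313 (iv F228641)) (tt N15916 F219390) (tt N14090 F219391) (tt N15857 F219392) (tt N18340 (iv F228807)) (tt N16264 F219393) (tt N14093 F219394) (tt N18346 D51116) (tt N14089 (iv D49034)))
theorem Q16266 : ∀ i, i < 16266 → P i := stepQ 16265 Q16265 (allL N16265 (tt N14142 F219395) (tt N15774 F219396) (tt N14093 F219397) (tt N14111 F219398) (tt N15773 F219399) (tt N18342 (iv F228820)) (tt N14094 F219400) (tt N15916 F219401) (tt N18347 D51117) (tt N14091 (iv D49035)))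
theorem Q16267 : ∀ i, i < 16267 → P i := stepQ 16266 Q16266 (allL N16266 (tt N14143 F219402) (tt N18315 (iv F228653)) (tt N15762 F219403) (tt N14098 F219404) (tt N18343 (iv F228826)) (tt N14092 (iv D49036)) (tt N18348 D51118) (tt N15518 F219405) (tt N18332 (iv F228761)) (tt N18349 D51119))
theorem Q16268 : ∀ i, i < 16268 → P i := stepQ 16267 Q16267 (allL N16267 (tt N14144 F219406) (tt N18316 (iv F228660)) (tt N15773 F219407) (tt N14099 F219408) (tt N14093 F219409) (tt N18349 (iv F228856)) (tt N14096 F219410) (tt N15857 F219411) (tt N18350 D51120) (tt N14092 (iv D49037)))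
theorem Q16269 : ∀ i, i < 16269 → P i := stepQ 16268 Q16268 (allL N16268 (tt N14145 F219412) (tt N18317 (iv F228667)) (tt N18347 (iv F228843)) (tt N15756 F219413) (tt N18350 (iv F228860)) (tt N18345 (iv F228833)) (tt N14097 F219414) (tt N18346 (iv F228840)) (tt N14093 (iv D49038)) (tt N18334 (iv F228772)))
theorem Q16270 : ∀ i, i < 16270 → P i := stepQ 16269 Q16269 (allL N16269 (tt N14151 F219415) (tt N15754 F219416) (tt N14097 F219417) (tt N18351 D51121) (tt N15749 F219418) (tt N15178 F219419) (tt N18347 (iv F228845)) (tt N16269 F219420) (tt N14094 (iv D49039)) (tt N18335 (iv F228779)))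
theorem Q16271 : ∀ i, i < 16271 → P i := stepQ 16270 Q16270 (allL N16270 (tt N14152 F219421) (tt N14655 F219422) (tt N14974 F219423) (tt N14101 F219424) (tt N14644 F219425) (tt N18348 (iv F228851)) (tt N14095 (iv D49040)) (tt N18352 D51122) (tt N15590 F219426) (tt N18353 D51123))
theorem Q16272 : ∀ i, i < 16272 → P i := stepQ 16271 Q16271 (allL N16271 (tt N14153 F219427) (tt N14657 F219428) (tt N14895 F219429) (tt N14102 F219430) (tt N14647 F219431) (tt N14096 F219432) (tt N18353 (iv F228882)) (tt N16271 F219433) (tt N18354 D51124) (tt N14095 (iv D49041)))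
theorem Q16273 : ∀ i, i < 16273 → P i := stepQ 16272 Q16272 (allL N16272 (tt N14154 F219434) (tt N18319 (iv F228678)) (tt N15749 F219435) (tt N18355 D51125) (tt N14097 F219436) (tt N18354 (iv F228887)) (tt N18350 (iv F228861)) (tt N16272 F219437) (tt N14096 (iv D49042)) (tt N18336 (iv F228786)))
theorem Q16274 : ∀ i, i < 16274 → P i := stepQ 16273 Q16273 (allL N16273 (tt N14158 F219438) (tt N14661 F219439) (tt N14977 F219440) (tt N18348 (iv F228850)) (tt N15509 F219441) (tt N14101 F219442) (tt N14098 (iv D49043)) (tt N18356 D51126) (tt N16273 F219443) (tt N18357 D51127))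
theorem Q16275 : ∀ i, i < 16275 → P i := stepQ 16274 Q16274 (allL N16274 (tt N14159 F219444) (tt N18320 (iv F228685)) (tt N15513 F219445) (tt N18349 (iv F228855)) (tt N15512 F219446) (tt N14099 F219447) (tt N18357 (iv F228907)) (tt N15519 F219448) (tt N18358 D51128) (tt N14098 (iv D49044)))
theorem Q16276 : ∀ i, i < 16276 → P i := stepQ 16275 Q16275 (allL N16275 (tt N14160 F219449) (tt N18321 (iv F228692)) (tt N15304 F219450) (tt N18359 D51129) (tt N14100 F219451) (tt N18358 (iv F228911)) (tt N14103 F219452) (tt N15858 F219453) (tt N14099 (iv D49045)) (tt N16275 F219454))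
theorem Q16277 : ∀ i, i < 16277 → P i := stepQ 16276 Q16276 (allL N16276 (tt N14161 F219455) (tt N14659 F219456) (tt N14979 F219457) (tt N18352 (iv F228873)) (tt N14104 F219458) (tt N18356 (iv F228899)) (tt N16276 F219459) (tt N14101 (iv D49046)) (tt N16276 F219460) (tt N18360 D51130))
theorem Q16278 : ∀ i, i < 16278 → P i := stepQ 16277 Q16277 (allL N16277 (tt N14162 F219461) (tt N14662 F219462) (tt N14916 F219463) (tt N18353 (iv F228880)) (tt N14105 F219464) (tt N18357 (iv F228906)) (tt N14102 F219465) (tt N18360 (iv F228925)) (tt N18361 D51131) (tt N14101 (iv D49047)))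
theorem Q16279 : ∀ i, i < 16279 → P i := stepQ 16278 Q16278 (allL N16278 (tt N14163 F219466) (tt N14664 F219467) (tt N14200 F219468) (tt N18362 D51132) (tt N14106 F219469) (tt N14103 F219470) (tt N18361 (iv F228930)) (tt N16278 F219471) (tt N14102 (iv D49048)) (tt N16278 F219472))
theorem Q16280 : ∀ i, i < 16280 → P i := stepQ 16279 Q16279 (allL N16279 (tt N14164 F219473) (tt N18322 (iv F228699)) (tt N15288 F219474) (tt N14103 (iv D49049)) (tt N14870 F219475) (tt N18362 (iv F228936)) (tt N18359 (iv F228917)) (tt N16279 F219476) (tt N18355 (iv F228894)) (tt N16279 F219477))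
theorem Q16281 : ∀ i, i < 16281 → P i := stepQ 16280 Q16280 (allL N16280 (tt N14165 F219478) (tt N14660 F219479) (tt N18087 (iv F227167)) (tt N14648 F219480) (tt N18360 (iv F228923)) (tt N18186 (iv F227866)) (tt N16280 F219481) (tt N14105 F219482) (tt N18363 D51133) (tt N14104 (iv D49050)))
theorem Q16282 : ∀ i, i < 16282 → P i := stepQ 16281 Q16281 (allL N16281 (tt N14166 F219483) (tt N14663 F219484) (tt N18088 (iv F227175)) (tt N14711 F219485) (tt N18361 (iv F228929)) (tt N18187 (iv F227875)) (tt N14106 F219486) (tt N18363 (iv F228944)) (tt N14105 (iv D49051)) (tt N16281 F219487))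
theorem Q16283 : ∀ i, i < 16283 → P i := stepQ 16282 Q16282 (allL N16282 (tt N14167 F219488) (tt N16282 F219489) (tt N18338 (iv F228793)) (tt N15921 F219490) (tt N15841 F219491) (tt N16282 F219492) (tt N14108 F219493) (tt N15184 F219494) (tt N15954 F219495) (tt N14107 (iv D49052)))
theorem Q16284 : ∀ i, i < 16284 → P i := stepQ 16283 Q16283 (allL N16283 (tt N14172 F219496) (tt N15957 F219497) (tt N14110 F219498) (tt N18342 (iv F228819)) (tt N15927 F219499) (tt N14111 F219500) (tt N15190 F219501) (tt N15918 F219502) (tt N18364 D51134) (tt N14109 (iv D49053)))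
theorem Q16285 : ∀ i, i < 16285 → P i := stepQ 16284 Q16284 (allL N16284 (tt N14174 F219503) (tt N16284 F219504) (tt N18364 (iv F228948)) (tt N15942 F219505) (tt N15929 F219506) (tt N14112 F219507) (tt N15192 F219508) (tt N15922 F219509) (tt N14110 (iv D49054)) (tt N16284 F219510))
theorem Q16286 : ∀ i, i < 16286 → P i := stepQ 16285 Q16285 (allL N16285 (tt N14180 F219511) (tt N15940 F219512) (tt N14112 F219513) (tt N18365 D51135) (tt N15909 F219514) (tt N18364 (iv F228950)) (tt N14113 F219515) (tt N15919 F219516) (tt N14111 (iv D49055)) (tt N16285 F219517))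
theorem Q16287 : ∀ i, i < 16287 → P i := stepQ 16286 Q16286 (allL N16286 (tt N14183 F219518) (tt N15953 F219519) (tt N15952 F219520) (tt N14113 (iv D49056)) (tt N15949 F219521) (tt N15201 F219522) (tt N18365 (iv F228958)) (tt N16286 F219523) (tt N18351 (iv F228869)) (tt N16286 F219524))
theorem Q16288 : ∀ i, i < 16288 → P i := stepQ 16287 Q16287 (allL N16287 (tt N18230 (iv F228132)) (tt N14798 F219525) (tt N16287 F219526) (tt N18366 D51136) (tt N14117 F219527) (tt N16287 F219528) (tt N15966 F219529) (tt N14115 F219530) (tt N14114 (iv D49057)) (tt N18367 D51137))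
theorem Q16289 : ∀ i, i < 16289 → P i := stepQ 16288 Q16288 (allL N16288 (tt N18323 (iv F228705)) (tt N14799 F219531) (tt N18368 D51138) (tt N14115 (iv D49058)) (tt N18369 D51139) (tt N16288 F219532) (tt N15202 F219533) (tt N18366 (iv F228964)) (tt N15729 F219534) (tt N18370 D51140))
theorem Q16290 : ∀ i, i < 16290 → P i := stepQ 16289 Q16289 (allL N16289 (tt N18324 (iv F228711)) (tt N14800 F219535) (tt N16289 F219536) (tt N18370 (iv F228982)) (tt N14119 F219537) (tt N16289 F219538) (tt N15203 F219539) (tt N18367 (iv F228971)) (tt N18229 (iv F228131)) (tt N14115 (iv D49059)))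
theorem Q16291 : ∀ i, i < 16291 → P i := stepQ 16290 Q16290 (allL N16290 (tt N18227 (iv F228113)) (tt N14801 F219540) (tt N16290 F219541) (tt N18371 D51141) (tt N15966 F219542) (tt N16290 F219543) (tt N14117 F219544) (tt N15204 F219545) (tt N14116 (iv D49060)) (tt N18372 D51142))
theorem Q16292 : ∀ i, i < 16292 → P i := stepQ 16291 Q16291 (allL N16291 (tt N18325 (iv F228718)) (tt N14802 F219546) (tt N18373 D51143) (tt N14117 (iv D49061)) (tt N18374 D51144) (tt N14120 F219547) (tt N18371 (iv F228987)) (tt N14118 F219548) (tt N14132 F219549) (tt N18375 D51145))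
theorem Q16293 : ∀ i, i < 16293 → P i := stepQ 16292 Q16292 (allL N16292 (tt N18326 (iv F228723)) (tt N14803 F219550) (tt N16292 F219551) (tt N18375 (iv F229005)) (tt N18367 (iv F228968)) (tt N14121 F219552) (tt N18372 (iv F228994)) (tt N14119 F219553) (tt N18232 (iv F228149)) (tt N14117 (iv D49062)))
theorem Q16294 : ∀ i, i < 16294 → P i := stepQ 16293 Q16293 (allL N16293 (tt N18327 (iv F228728)) (tt N18376 D51146) (tt N14118 (iv D49063)) (tt N16293 F219554) (tt N18377 D51147) (tt N14122 F219555) (tt N15207 F219556) (tt N18373 (iv F228999)) (tt N14134 F219557) (tt N18378 D51148))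
theorem Q16295 : ∀ i, i < 16295 → P i := stepQ 16294 Q16294 (allL N16294 (tt N18328 (iv F228735)) (tt N14805 F219558) (tt N18377 (iv F229014)) (tt N18369 (iv F228978)) (tt N14118 (iv D49064)) (tt N18379 D51149) (tt N15208 F219559) (tt N18374 (iv F229002)) (tt N14135 F219560) (tt N18380 D51150))
theorem Q16296 : ∀ i, i < 16296 → P i := stepQ 16295 Q16295 (allL N16295 (tt N18329 (iv F228738)) (tt N14806 F219561) (tt N18378 (iv F229017)) (tt N14119 F219562) (tt N18380 (iv F229025)) (tt N14124 F219563) (tt N15209 F219564) (tt N18375 (iv F229007)) (tt N18381 D51151) (tt N14118 (iv D49065)))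
theorem Q16297 : ∀ i, i < 16297 → P i := stepQ 16296 Q16296 (allL N16296 (tt N15915 F219565) (tt N18382 D51152) (tt N14120 (iv D49066)) (tt N16296 F219566) (tt N15903 (iv F219570)) (tt N18373 (iv F228998)) (tt N16296 F219567) (tt N14122 F219568) (tt N14137 F219569) (tt N18383 D51153))
theorem Q16298 : ∀ i, i < 16298 → P i := stepQ 16297 Q16297 (allL N16297 (tt N15856 F219571) (tt N14808 F219572) (tt N15903 F219573) (tt N16297 F219574) (tt N14120 (iv D49067)) (tt N18384 D51154) (tt N16297 F219575) (tt N14123 F219576) (tt N14138 F219577) (tt N18385 D51155))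
theorem Q16299 : ∀ i, i < 16299 → P i := stepQ 16298 Q16298 (allL N16298 (tt N18330 (iv F228742)) (tt N14809 F219578) (tt N18383 (iv F229039)) (tt N14121 F219579) (tt N18385 (iv F229054)) (tt N18375 (iv F229006)) (tt N16298 F219580) (tt N14124 F219581) (tt N18386 D51156) (tt N14120 (iv D49068)))
theorem Q16300 : ∀ i, i < 16300 → P i := stepQ 16299 Q16299 (allL N16299 (tt N14841 F219582) (tt N14122 (iv D49069)) (tt N14810 F219583) (tt N16299 F219584) (tt N14840 (iv F219587)) (tt N18376 (iv F229011)) (tt N14125 F219585) (tt N18382 (iv F229036)) (tt N14140 F219586) (tt N18387 D51157))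
theorem Q16301 : ∀ i, i < 16301 → P i := stepQ 16300 Q16300 (allL N16300 (tt N14768 F219588) (tt N14840 F219589) (tt N14123 F219590) (tt N14794 (iv F219594)) (tt N14122 (iv D49070)) (tt N18388 D51158) (tt N14126 F219591) (tt N15903 F219592) (tt N14141 F219593) (tt N18389 D51159))
theorem Q16302 : ∀ i, i < 16302 → P i := stepQ 16301 Q16301 (allL N16301 (tt N18331 (iv F228748)) (tt N18387 (iv F229062)) (tt N14124 F219595) (tt N16301 F219596) (tt N18389 (iv F229078)) (tt N18378 (iv F229019)) (tt N14127 F219597) (tt N18383 (iv F229043)) (tt N18390 D51160) (tt N14122 (iv D49071)))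
theorem Q16303 : ∀ i, i < 16303 → P i := stepQ 16302 Q16302 (allL N16302 (tt N18332 (iv F228755)) (tt N14813 F219598) (tt N18388 (iv F229069)) (tt N16302 F219599) (tt N18379 (iv F229022)) (tt N14123 (iv D49072)) (tt N18391 D51161) (tt N18384 (iv F229048)) (tt N14143 F219600) (tt N18392 D51162))
theorem Q16304 : ∀ i, i < 16304 → P i := stepQ 16303 Q16303 (allL N16303 (tt N18333 (iv F228762)) (tt N14814 F219601) (tt N18389 (iv F229076)) (tt N16303 F219602) (tt N14124 F219603) (tt N18392 (iv F229092)) (tt N14129 F219604) (tt N18385 (iv F229056)) (tt N18393 D51163) (tt N14123 (iv D49073)))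
theorem Q16305 : ∀ i, i < 16305 → P i := stepQ 16304 Q16304 (allL N16304 (tt N18334 (iv F228769)) (tt N14815 F219605) (tt N18390 (iv F229081)) (tt N18242 (iv F228204)) (tt N18393 (iv F229094)) (tt N18381 (iv F229028)) (tt N14130 F219606) (tt N18386 (iv F229059)) (tt N14124 (iv D49074)) (tt N14145 F219607))
theorem Q16306 : ∀ i, i < 16306 → P i := stepQ 16305 Q16305 (allL N16305 (tt N14851 F219608) (tt N14127 F219609) (tt N14816 F219610) (tt N16305 F219611) (tt N14849 F219612) (tt N15219 F219613) (tt N18387 (iv F229066)) (tt N16305 F219614) (tt N18394 D51164) (tt N14125 (iv D49075)))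
theorem Q16307 : ∀ i, i < 16307 → P i := stepQ 16306 Q16306 (allL N16306 (tt N14774 F219615) (tt N14849 F219616) (tt N14129 F219617) (tt N14796 F219618) (tt N14127 F219619) (tt N15650 F219620) (tt N18389 (iv F229079)) (tt N16306 F219621) (tt N18395 D51165) (tt N14126 (iv D49076)))
theorem Q16308 : ∀ i, i < 16308 → P i := stepQ 16307 Q16307 (allL N16307 (tt N18335 (iv F228773)) (tt N18394 (iv F229098)) (tt N14130 F219622) (tt N18396 D51166) (tt N18395 (iv F229108)) (tt N15221 F219623) (tt N18390 (iv F229082)) (tt N16307 F219624) (tt N14127 (iv D49077)) (tt N14151 F219625))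
theorem Q16309 : ∀ i, i < 16309 → P i := stepQ 16308 Q16308 (allL N16308 (tt N15590 F219626) (tt N14820 F219627) (tt N15647 F219628) (tt N16308 F219629) (tt N15222 F219630) (tt N18391 (iv F229088)) (tt N14128 (iv D49078)) (tt N18397 D51167) (tt N14152 F219631) (tt N18398 D51168))
theorem Q16310 : ∀ i, i < 16310 → P i := stepQ 16309 Q16309 (allL N16309 (tt N15597 F219632) (tt N14821 F219633) (tt N15650 F219634) (tt N16309 F219635) (tt N15223 F219636) (tt N14129 F219637) (tt N18398 (iv F229128)) (tt N16309 F219638) (tt N18399 D51169) (tt N14128 (iv D49079)))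
theorem Q16311 : ∀ i, i < 16311 → P i := stepQ 16310 Q16310 (allL N16310 (tt N18336 (iv F228780)) (tt N14822 F219639) (tt N18395 (iv F229106)) (tt N18400 D51170) (tt N14130 F219640) (tt N18399 (iv F229133)) (tt N18393 (iv F229095)) (tt N16310 F219641) (tt N14129 (iv D49080)) (tt N14154 F219642))
theorem Q16312 : ∀ i, i < 16312 → P i := stepQ 16311 Q16311 (allL N16311 (tt N18337 (iv F228787)) (tt N14823 F219643) (tt N18281 (iv F228426)) (tt N14131 (iv D49081)) (tt N18401 D51171) (tt N16311 F219644) (tt N14132 F219645) (tt N15225 F219646) (tt N18371 (iv F228989)) (tt N18402 D51172))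
theorem Q16313 : ∀ i, i < 16313 → P i := stepQ 16312 Q16312 (allL N16312 (tt N18338 (iv F228792)) (tt N14824 F219647) (tt N14167 F219648) (tt N18402 (iv F229144)) (tt N18165 (iv F227712)) (tt N16312 F219649) (tt N14133 F219650) (tt N15226 F219651) (tt N18246 (iv F228234)) (tt N14131 (iv D49082)))
theorem Q16314 : ∀ i, i < 16314 → P i := stepQ 16313 Q16313 (allL N16313 (tt N15914 F219652) (tt N18403 D51173) (tt N14132 (iv D49083)) (tt N14168 F219653) (tt N18404 D51174) (tt N14137 F219654) (tt N18281 (iv F228428)) (tt N14134 F219655) (tt N18373 (iv F229000)) (tt N18405 D51175))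
theorem Q16315 : ∀ i, i < 16315 → P i := stepQ 16314 Q16314 (allL N16314 (tt N18339 (iv F228799)) (tt N14826 F219656) (tt N18404 (iv F229153)) (tt N18199 (iv F227952)) (tt N14132 (iv D49084)) (tt N18406 D51176) (tt N18401 (iv F229141)) (tt N14135 F219657) (tt N18374 (iv F229003)) (tt N18407 D51177))
theorem Q16316 : ∀ i, i < 16316 → P i := stepQ 16315 Q16315 (allL N16315 (tt N18340 (iv F228804)) (tt N14827 F219658) (tt N18405 (iv F229158)) (tt N14133 F219659) (tt N18407 (iv F229169)) (tt N14139 F219660) (tt N18402 (iv F229146)) (tt N14136 F219661) (tt N18408 D51178) (tt N14132 (iv D49085)))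
theorem Q16317 : ∀ i, i < 16317 → P i := stepQ 16316 Q16316 (allL N16316 (tt N18409 D51179) (tt N14134 (iv D49086)) (tt N14828 F219662) (tt N14170 F219663) (tt N18410 D51180) (tt N14140 F219664) (tt N15230 F219665) (tt N18403 (iv F229151)) (tt N18376 (iv F229013)) (tt N18411 D51181))
theorem Q16318 : ∀ i, i < 16318 → P i := stepQ 16317 Q16317 (allL N16317 (tt N18341 (iv F228809)) (tt N18410 (iv F229180)) (tt N14135 F219666) (tt N18412 D51182) (tt N14134 (iv D49087)) (tt N18413 D51183) (tt N15231 F219667) (tt N18404 (iv F229156)) (tt N18377 (iv F229016)) (tt N18414 D51184))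
theorem Q16319 : ∀ i, i < 16319 → P i := stepQ 16318 Q16318 (allL N16318 (tt N18342 (iv F228816)) (tt N18411 (iv F229183)) (tt N14136 F219668) (tt N14172 F219669) (tt N18414 (iv F229200)) (tt N14142 F219670) (tt N15232 F219671) (tt N18405 (iv F229161)) (tt N18415 D51185) (tt N14134 (iv D49088)))
theorem Q16320 : ∀ i, i < 16320 → P i := stepQ 16319 Q16319 (allL N16319 (tt N18343 (iv F228823)) (tt N14831 F219672) (tt N18413 (iv F229195)) (tt N18203 (iv F227979)) (tt N14143 F219673) (tt N14135 (iv D49089)) (tt N18416 D51186) (tt N18406 (iv F229167)) (tt N18379 (iv F229023)) (tt N18417 D51187))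
theorem Q16321 : ∀ i, i < 16321 → P i := stepQ 16320 Q16320 (allL N16320 (tt N18344 (iv F228828)) (tt N14832 F219674) (tt N18414 (iv F229199)) (tt N18204 (iv F227983)) (tt N14136 F219675) (tt N18417 (iv F229210)) (tt N15234 F219676) (tt N18407 (iv F229170)) (tt N18418 D51188) (tt N14135 (iv D49090)))
theorem Q16322 : ∀ i, i < 16322 → P i := stepQ 16321 Q16321 (allL N16321 (tt N18345 (iv F228831)) (tt N14833 F219677) (tt N18415 (iv F229202)) (tt N18255 (iv F228274)) (tt N18418 (iv F229212)) (tt N14145 F219678) (tt N15235 F219679) (tt N18408 (iv F229173)) (tt N14136 (iv D49091)) (tt N18381 (iv F229030)))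
theorem Q16323 : ∀ i, i < 16323 → P i := stepQ 16322 Q16322 (allL N16322 (tt N18419 D51189) (tt N14137 (iv D49092)) (tt N14834 F219680) (tt N14175 F219681) (tt N15900 F219682) (tt N18403 (iv F229150)) (tt N16322 F219683) (tt N14140 F219684) (tt N18382 (iv F229037)) (tt N18420 D51190))
theorem Q16324 : ∀ i, i < 16324 → P i := stepQ 16323 Q16323 (allL N16323 (tt N15916 F219685) (tt N18420 (iv F229221)) (tt N14139 F219686) (tt N14176 F219687) (tt N15904 F219688) (tt N18405 (iv F229160)) (tt N16323 F219689) (tt N14142 F219690) (tt N18421 D51191) (tt N14137 (iv D49093)))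
theorem Q16325 : ∀ i, i < 16325 → P i := stepQ 16324 Q16324 (allL N16324 (tt N15518 F219691) (tt N14837 F219692) (tt N15661 F219693) (tt N14155 F219694) (tt N18406 (iv F229166)) (tt N14138 (iv D49094)) (tt N18422 D51192) (tt N14143 F219695) (tt N18384 (iv F229049)) (tt N18423 D51193))
theorem Q16326 : ∀ i, i < 16326 → P i := stepQ 16325 Q16325 (allL N16325 (tt N15857 F219696) (tt N14838 F219697) (tt N15904 F219698) (tt N14156 F219699) (tt N14139 F219700) (tt N18423 (iv F229241)) (tt N16325 F219701) (tt N14144 F219702) (tt N18424 D51194) (tt N14138 (iv D49095)))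
theorem Q16327 : ∀ i, i < 16327 → P i := stepQ 16326 Q16326 (allL N16326 (tt N18346 (iv F228835)) (tt N14839 F219703) (tt N18421 (iv F229228)) (tt N18260 (iv F228302)) (tt N18424 (iv F229246)) (tt N18408 (iv F229172)) (tt N16326 F219704) (tt N14145 F219705) (tt N14139 (iv D49096)) (tt N18386 (iv F229060)))
theorem Q16328 : ∀ i, i < 16328 → P i := stepQ 16327 Q16327 (allL N16327 (tt N14140 (iv D49097)) (tt N14811 F219706) (tt N14840 F219707) (tt N14178 F219708) (tt N14810 (iv F219711)) (tt N18409 (iv F229177)) (tt N14146 F219709) (tt N18419 (iv F229219)) (tt N14841 F219710) (tt N18425 D51195))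
theorem Q16329 : ∀ i, i < 16329 → P i := stepQ 16328 Q16328 (allL N16328 (tt N14810 F219712) (tt N14141 F219713) (tt N14841 F219714) (tt N14949 F219715) (tt N14140 (iv D49098)) (tt N18426 D51196) (tt N14147 F219716) (tt N15900 F219717) (tt N14840 F219718) (tt N18427 D51197))
theorem Q16330 : ∀ i, i < 16330 → P i := stepQ 16329 Q16329 (allL N16329 (tt N18425 (iv F229249)) (tt N14142 F219719) (tt N14842 F219720) (tt N14179 F219721) (tt N18427 (iv F229266)) (tt N18411 (iv F229186)) (tt N14148 F219722) (tt N18420 (iv F229226)) (tt N18428 D51198) (tt N14140 (iv D49099)))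
theorem Q16331 : ∀ i, i < 16331 → P i := stepQ 16330 Q16330 (allL N16330 (tt N15762 F219723) (tt N18426 (iv F229256)) (tt N14143 F219724) (tt N15655 F219725) (tt N18413 (iv F229197)) (tt N14141 (iv D49100)) (tt N18429 D51199) (tt N15661 F219726) (tt N18388 (iv F229073)) (tt N18430 D51200))
theorem Q16332 : ∀ i, i < 16332 → P i := stepQ 16331 Q16331 (allL N16331 (tt N15773 F219727) (tt N18427 (iv F229263)) (tt N14144 F219728) (tt N15772 F219729) (tt N14142 F219730) (tt N18430 (iv F229281)) (tt N14150 F219731) (tt N15904 F219732) (tt N18431 D51201) (tt N14141 (iv D49101)))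
theorem Q16333 : ∀ i, i < 16333 → P i := stepQ 16332 Q16332 (allL N16332 (tt N18347 (iv F228841)) (tt N18428 (iv F229269)) (tt N14145 F219733) (tt N18432 D51202) (tt N18431 (iv F229286)) (tt N18415 (iv F229203)) (tt N14151 F219734) (tt N18421 (iv F229231)) (tt N14142 (iv D49102)) (tt N18390 (iv F229083)))
theorem Q16334 : ∀ i, i < 16334 → P i := stepQ 16333 Q16333 (allL N16333 (tt N18348 (iv F228847)) (tt N14846 F219735) (tt N18429 (iv F229274)) (tt N14158 F219736) (tt N18416 (iv F229206)) (tt N14152 F219737) (tt N14143 (iv D49103)) (tt N18433 D51203) (tt N18391 (iv F229089)) (tt N18434 D51204))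
theorem Q16335 : ∀ i, i < 16335 → P i := stepQ 16334 Q16334 (allL N16334 (tt N18349 (iv F228853)) (tt N14847 F219738) (tt N18430 (iv F229279)) (tt N14159 F219739) (tt N18417 (iv F229209)) (tt N14144 F219740) (tt N18434 (iv F229297)) (tt N18423 (iv F229242)) (tt N18435 D51205) (tt N14143 (iv D49104)))
theorem Q16336 : ∀ i, i < 16336 → P i := stepQ 16335 Q16335 (allL N16335 (tt N18350 (iv F228858)) (tt N14848 F219741) (tt N18431 (iv F229284)) (tt N18436 D51206) (tt N14145 F219742) (tt N18435 (iv F229299)) (tt N14154 F219743) (tt N18424 (iv F229248)) (tt N14144 (iv D49105)) (tt N18393 (iv F229096)))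
theorem Q16337 : ∀ i, i < 16337 → P i := stepQ 16336 Q16336 (allL N16336 (tt N14148 F219744) (tt N14818 F219745) (tt N14849 F219746) (tt N14181 F219747) (tt N14816 F219748) (tt N15252 F219749) (tt N18425 (iv F229254)) (tt N16336 F219750) (tt N18437 D51207) (tt N14146 (iv D49106)))
theorem Q16338 : ∀ i, i < 16338 → P i := stepQ 16337 Q16337 (allL N16337 (tt N14816 F219751) (tt N14150 F219752) (tt N14851 F219753) (tt N14951 F219754) (tt N14148 F219755) (tt N15695 F219756) (tt N18427 (iv F229267)) (tt N16337 F219757) (tt N18438 D51208) (tt N14147 (iv D49107)))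
theorem Q16339 : ∀ i, i < 16339 → P i := stepQ 16338 Q16338 (allL N16338 (tt N18437 (iv F229303)) (tt N14151 F219758) (tt N14852 F219759) (tt N18439 D51209) (tt N18438 (iv F229314)) (tt N15255 F219760) (tt N18428 (iv F229271)) (tt N16338 F219761) (tt N14148 (iv D49108)) (tt N18394 (iv F229103)))
theorem Q16340 : ∀ i, i < 16340 → P i := stepQ 16339 Q16339 (allL N16339 (tt N14974 F219762) (tt N15686 F219763) (tt N14152 F219764) (tt N14973 F219765) (tt N15256 F219766) (tt N18429 (iv F229276)) (tt N14149 (iv D49109)) (tt N18440 D51210) (tt N15647 F219767) (tt N18441 D51211))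
theorem Q16341 : ∀ i, i < 16341 → P i := stepQ 16340 Q16340 (allL N16340 (tt N14895 F219768) (tt N15695 F219769) (tt N14153 F219770) (tt N14894 F219771) (tt N15257 F219772) (tt N14150 F219773) (tt N18441 (iv F229334)) (tt N16340 F219774) (tt N18442 D51212) (tt N14149 (iv D49110)))
theorem Q16342 : ∀ i, i < 16342 → P i := stepQ 16341 Q16341 (allL N16341 (tt N15749 F219775) (tt N18438 (iv F229311)) (tt N14154 F219776) (tt N15745 F219777) (tt N14151 F219778) (tt N18442 (iv F229340)) (tt N18431 (iv F229287)) (tt N16341 F219779) (tt N14150 (iv D49111)) (tt N18395 (iv F229111)))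
theorem Q16343 : ∀ i, i < 16343 → P i := stepQ 16342 Q16342 (allL N16342 (tt N18351 (iv F228863)) (tt N18439 (iv F229318)) (tt N18269 (iv F228351)) (tt N14151 (iv D49112)) (tt N18443 D51213) (tt N15259 F219780) (tt N18432 (iv F229289)) (tt N16342 F219781) (tt N14183 F219782) (tt N18396 (iv F229115)))
theorem Q16344 : ∀ i, i < 16344 → P i := stepQ 16343 Q16343 (allL N16343 (tt N18352 (iv F228870)) (tt N14857 F219783) (tt N18440 (iv F229324)) (tt N14161 F219784) (tt N15260 F219785) (tt N18433 (iv F229293)) (tt N16343 F219786) (tt N14152 (iv D49113)) (tt N18397 (iv F229122)) (tt N18444 D51214))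
theorem Q16345 : ∀ i, i < 16345 → P i := stepQ 16344 Q16344 (allL N16344 (tt N18353 (iv F228877)) (tt N14858 F219787) (tt N18441 (iv F229331)) (tt N14162 F219788) (tt N15261 F219789) (tt N18434 (iv F229296)) (tt N14153 F219790) (tt N18444 (iv F229351)) (tt N18445 D51215) (tt N14152 (iv D49114)))
theorem Q16346 : ∀ i, i < 16346 → P i := stepQ 16345 Q16345 (allL N16345 (tt N18354 (iv F228883)) (tt N14859 F219791) (tt N18442 (iv F229337)) (tt N18446 D51216) (tt N15262 F219792) (tt N14154 F219793) (tt N18445 (iv F229354)) (tt N16345 F219794) (tt N14153 (iv D49115)) (tt N18399 (iv F229135)))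
theorem Q16347 : ∀ i, i < 16347 → P i := stepQ 16346 Q16346 (allL N16346 (tt N18355 (iv F228890)) (tt N14860 F219795) (tt N18447 D51217) (tt N14154 (iv D49116)) (tt N18270 (iv F228357)) (tt N18446 (iv F229356)) (tt N18436 (iv F229301)) (tt N16346 F219796) (tt N14164 F219797) (tt N18400 (iv F229139)))
theorem Q16348 : ∀ i, i < 16348 → P i := stepQ 16347 Q16347 (allL N16347 (tt N14599 F219798) (tt N14861 F219799) (tt N14531 F219800) (tt N18422 (iv F229235)) (tt N14530 F219801) (tt N16347 F219802) (tt N14155 (iv D49117)) (tt N18448 D51218) (tt N16347 F219803) (tt N18449 D51219))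
theorem Q16349 : ∀ i, i < 16349 → P i := stepQ 16348 Q16348 (allL N16348 (tt N15519 F219804) (tt N14862 F219805) (tt N15451 F219806) (tt N18423 (iv F229240)) (tt N15450 F219807) (tt N14156 F219808) (tt N18449 (iv F229375)) (tt N14159 F219809) (tt N18450 D51220) (tt N14155 (iv D49118)))
theorem Q16350 : ∀ i, i < 16350 → P i := stepQ 16349 Q16349 (allL N16349 (tt N15858 F219810) (tt N14863 F219811) (tt N15832 F219812) (tt N18451 D51221) (tt N14157 F219813) (tt N18450 (iv F229380)) (tt N16349 F219814) (tt N14160 F219815) (tt N14156 (iv D49119)) (tt N16349 F219816))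
theorem Q16351 : ∀ i, i < 16351 → P i := stepQ 16350 Q16350 (allL N16350 (tt N18356 (iv F228895)) (tt N14864 F219817) (tt N18090 (iv F227192)) (tt N18433 (iv F229292)) (tt N18219 (iv F228068)) (tt N14161 F219818) (tt N18448 (iv F229368)) (tt N14158 (iv D49120)) (tt N16350 F219819) (tt N18452 D51222))
theorem Q16352 : ∀ i, i < 16352 → P i := stepQ 16351 Q16351 (allL N16351 (tt N18357 (iv F228902)) (tt N14865 F219820) (tt N18091 (iv F227200)) (tt N18434 (iv F229295)) (tt N18220 (iv F228075)) (tt N14162 F219821) (tt N14159 F219822) (tt N18452 (iv F229390)) (tt N18453 D51223) (tt N14158 (iv D49121)))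
theorem Q16353 : ∀ i, i < 16353 → P i := stepQ 16352 Q16352 (allL N16352 (tt N18358 (iv F228908)) (tt N14866 F219823) (tt N18092 (iv F227207)) (tt N18454 D51224) (tt N18221 (iv F228081)) (tt N14160 F219824) (tt N18453 (iv F229393)) (tt N18450 (iv F229381)) (tt N14159 (iv D49122)) (tt N16352 F219825))
theorem Q16354 : ∀ i, i < 16354 → P i := stepQ 16353 Q16353 (allL N16353 (tt N18359 (iv F228914)) (tt N14867 F219826) (tt N18455 D51225) (tt N14160 (iv D49123)) (tt N18275 (iv F228388)) (tt N18454 (iv F229396)) (tt N14164 F219827) (tt N18451 (iv F229386)) (tt N18436 (iv F229302)) (tt N16353 F219828))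
theorem Q16355 : ∀ i, i < 16355 → P i := stepQ 16354 Q16354 (allL N16354 (tt N18360 (iv F228920)) (tt N14868 F219829) (tt N18093 (iv F227215)) (tt N18444 (iv F229348)) (tt N14165 F219830) (tt N18452 (iv F229389)) (tt N16354 F219831) (tt N14162 F219832) (tt N18456 D51226) (tt N14161 (iv D49124)))
theorem Q16356 : ∀ i, i < 16356 → P i := stepQ 16355 Q16355 (allL N16355 (tt N18361 (iv F228926)) (tt N14869 F219833) (tt N18094 (iv F227222)) (tt N18457 D51227) (tt N14166 F219834) (tt N18453 (iv F229392)) (tt N14163 F219835) (tt N18456 (iv F229405)) (tt N14162 (iv D49125)) (tt N16355 F219836))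
theorem Q16357 : ∀ i, i < 16357 → P i := stepQ 16356 Q16356 (allL N16356 (tt N18362 (iv F228932)) (tt N14870 F219837) (tt N18458 D51228) (tt N14163 (iv D49126)) (tt N18322 (iv F228701)) (tt N14164 F219838) (tt N18457 (iv F229408)) (tt N16356 F219839) (tt N18446 (iv F229358)) (tt N16356 F219840))
theorem Q16358 : ∀ i, i < 16358 → P i := stepQ 16357 Q16357 (allL N16357 (tt N15288 F219841) (tt N18459 D51229) (tt N14164 (iv D49127)) (tt N15287 F219842) (tt N18276 (iv F228393)) (tt N18458 (iv F229414)) (tt N18455 (iv F229400)) (tt N16357 F219843) (tt N18447 (iv F229362)) (tt N16357 F219844))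
theorem Q16359 : ∀ i, i < 16359 → P i := stepQ 16358 Q16358 (allL N16358 (tt N18363 (iv F228939)) (tt N14872 F219845) (tt N18095 (iv F227228)) (tt N15855 F219846) (tt N18456 (iv F229403)) (tt N15861 F219847) (tt N16358 F219848) (tt N14166 F219849) (tt N14165 (iv D49128)) (tt N16358 F219850))
theorem Q16360 : ∀ i, i < 16360 → P i := stepQ 16359 Q16359 (allL N16359 (tt N18460 D51230) (tt N14168 (iv D49129)) (tt N14184 F219851) (tt N18403 (iv F229149)) (tt N15120 F219852) (tt N14175 F219853) (tt N18279 (iv F228416)) (tt N14170 F219854) (tt N16359 F219855) (tt N18461 D51231))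
theorem Q16361 : ∀ i, i < 16361 → P i := stepQ 16360 Q16360 (allL N16360 (tt N15918 F219856) (tt N18461 (iv F229430)) (tt N14169 F219857) (tt N18405 (iv F229159)) (tt N15121 F219858) (tt N14176 F219859) (tt N18282 (iv F228434)) (tt N14172 F219860) (tt N18462 D51232) (tt N14168 (iv D49130)))
theorem Q16362 : ∀ i, i < 16362 → P i := stepQ 16361 Q16361 (allL N16361 (tt N15922 F219861) (tt N14186 F219862) (tt N18462 (iv F229436)) (tt N18278 (iv F228406)) (tt N15122 F219863) (tt N14177 F219864) (tt N18284 (iv F228446)) (tt N14174 F219865) (tt N14169 (iv D49131)) (tt N16361 F219866))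
theorem Q16363 : ∀ i, i < 16363 → P i := stepQ 16362 Q16362 (allL N16362 (tt N14170 (iv D49132)) (tt N15959 F219867) (tt N14187 F219868) (tt N18409 (iv F229176)) (tt N18463 D51233) (tt N14178 F219869) (tt N15274 F219870) (tt N18460 (iv F229428)) (tt N16362 F219871) (tt N18464 D51234))
theorem Q16364 : ∀ i, i < 16364 → P i := stepQ 16363 Q16363 (allL N16363 (tt N18463 (iv F229441)) (tt N14171 F219872) (tt N14188 F219873) (tt N18465 D51235) (tt N14170 (iv D49133)) (tt N15123 F219874) (tt N15275 F219875) (tt N15120 F219876) (tt N16363 F219877) (tt N18466 D51236))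
theorem Q16365 : ∀ i, i < 16365 → P i := stepQ 16364 Q16364 (allL N16364 (tt N18464 (iv F229448)) (tt N14172 F219878) (tt N14189 F219879) (tt N18411 (iv F229185)) (tt N18466 (iv F229460)) (tt N14179 F219880) (tt N15276 F219881) (tt N18461 (iv F229434)) (tt N18467 D51237) (tt N14170 (iv D49134)))
theorem Q16366 : ∀ i, i < 16366 → P i := stepQ 16365 Q16365 (allL N16365 (tt N15726 F219882) (tt N18465 (iv F229453)) (tt N15107 F219883) (tt N14171 (iv D49135)) (tt N18412 (iv F229190)) (tt N15112 F219884) (tt N15277 F219885) (tt N15109 F219886) (tt N18468 D51238) (tt N18469 D51239))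
theorem Q16367 : ∀ i, i < 16367 → P i := stepQ 16366 Q16366 (allL N16366 (tt N15927 F219887) (tt N18466 (iv F229458)) (tt N14173 F219888) (tt N18469 (iv F229477)) (tt N14172 F219889) (tt N15124 F219890) (tt N15278 F219891) (tt N15121 F219892) (tt N18470 D51240) (tt N14171 (iv D49136)))
theorem Q16368 : ∀ i, i < 16368 → P i := stepQ 16367 Q16367 (allL N16367 (tt N18364 (iv F228946)) (tt N18467 (iv F229464)) (tt N14174 F219893) (tt N18471 D51241) (tt N18470 (iv F229483)) (tt N14180 F219894) (tt N15279 F219895) (tt N18462 (iv F229439)) (tt N14172 (iv D49137)) (tt N16367 F219896))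
theorem Q16369 : ∀ i, i < 16369 → P i := stepQ 16368 Q16368 (allL N16368 (tt N15929 F219897) (tt N14192 F219898) (tt N18470 (iv F229482)) (tt N15273 F219899) (tt N14174 F219900) (tt N15125 F219901) (tt N15280 F219902) (tt N15122 F219903) (tt N14173 (iv D49138)) (tt N16368 F219904))
theorem Q16370 : ∀ i, i < 16370 → P i := stepQ 16369 Q16369 (allL N16369 (tt N14175 (iv D49139)) (tt N15910 F219905) (tt N14193 F219906) (tt N18419 (iv F229216)) (tt N15886 F219907) (tt N18460 (iv F229426)) (tt N16369 F219908) (tt N14178 F219909) (tt N16369 F219910) (tt N18472 D51242))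
theorem Q16371 : ∀ i, i < 16371 → P i := stepQ 16370 Q16370 (allL N16370 (tt N18472 (iv F229491)) (tt N14176 F219911) (tt N14194 F219912) (tt N18420 (iv F229223)) (tt N15887 F219913) (tt N18461 (iv F229433)) (tt N16370 F219914) (tt N14179 F219915) (tt N18473 D51243) (tt N14175 (iv D49140)))
theorem Q16372 : ∀ i, i < 16372 → P i := stepQ 16371 Q16371 (allL N16371 (tt N15919 F219916) (tt N18473 (iv F229497)) (tt N14177 F219917) (tt N18474 D51244) (tt N15888 F219918) (tt N18462 (iv F229438)) (tt N16371 F219919) (tt N14180 F219920) (tt N14176 (iv D49141)) (tt N16371 F219921))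
theorem Q16373 : ∀ i, i < 16373 → P i := stepQ 16372 Q16372 (allL N16372 (tt N14179 F219922) (tt N15908 F219923) (tt N14196 F219924) (tt N18425 (iv F229252)) (tt N15907 F219925) (tt N18464 (iv F229451)) (tt N14181 F219926) (tt N18472 (iv F229496)) (tt N18475 D51245) (tt N14178 (iv D49142)))
theorem Q16374 : ∀ i, i < 16374 → P i := stepQ 16373 Q16373 (allL N16373 (tt N18475 (iv F229507)) (tt N14180 F219927) (tt N14197 F219928) (tt N18476 D51246) (tt N18099 (iv F227263)) (tt N18467 (iv F229466)) (tt N14182 F219929) (tt N18473 (iv F229501)) (tt N14179 (iv D49143)) (tt N16373 F219930))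
theorem Q16375 : ∀ i, i < 16375 → P i := stepQ 16374 Q16374 (allL N16374 (tt N18365 (iv F228954)) (tt N18476 (iv F229513)) (tt N18287 (iv F228464)) (tt N14180 (iv D49144)) (tt N18477 D51247) (tt N18471 (iv F229488)) (tt N14183 F219931) (tt N18474 (iv F229505)) (tt N18432 (iv F229290)) (tt N16374 F219932))
theorem Q16376 : ∀ i, i < 16376 → P i := stepQ 16375 Q16375 (allL N16375 (tt N14182 F219933) (tt N15897 F219934) (tt N14199 F219935) (tt N18458 (iv F229412)) (tt N15896 F219936) (tt N15287 F219937) (tt N18475 (iv F229511)) (tt N16375 F219938) (tt N14181 (iv D49145)) (tt N16375 F219939))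
theorem Q16377 : ∀ i, i < 16377 → P i := stepQ 16376 Q16376 (allL N16376 (tt N18458 (iv F229410)) (tt N14183 F219940) (tt N18362 (iv F228934)) (tt N14182 (iv D49146)) (tt N18478 D51248) (tt N15288 F219941) (tt N18476 (iv F229514)) (tt N16376 F219942) (tt N18439 (iv F229321)) (tt N16376 F219943))
theorem Q16378 : ∀ i, i < 16378 → P i := stepQ 16377 Q16377 (allL N16377 (tt N15949 F219944) (tt N18478 (iv F229521)) (tt N18290 (iv F228485)) (tt N15945 F219945) (tt N14183 (iv D49147)) (tt N18479 D51249) (tt N18477 (iv F229518)) (tt N16377 F219946) (tt N18443 (iv F229346)) (tt N16377 F219947))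
theorem Q16379 : ∀ i, i < 16379 → P i := stepQ 16378 Q16378 (allL N16378 (tt N14184 (iv D49148)) (tt N16378 F219948) (tt N18460 (iv F229424)) (tt N14901 F219949) (tt N15132 F219950) (tt N14193 F219951) (tt N15784 F219952) (tt N14187 F219953) (tt N16378 F219954) (tt N18480 D51250))
theorem Q16380 : ∀ i, i < 16380 → P i := stepQ 16379 Q16379 (allL N16379 (tt N18480 (iv F229533)) (tt N14185 F219955) (tt N18461 (iv F229431)) (tt N14903 F219956) (tt N15133 F219957) (tt N14194 F219958) (tt N18292 (iv F228503)) (tt N14189 F219959) (tt N18481 D51251) (tt N14184 (iv D49149)))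
theorem Q16381 : ∀ i, i < 16381 → P i := stepQ 16380 Q16380 (allL N16380 (tt N16380 F219960) (tt N18481 (iv F229540)) (tt N14186 F219961) (tt N18482 D51252) (tt N15134 F219962) (tt N14195 F219963) (tt N18294 (iv F228516)) (tt N14191 F219964) (tt N14185 (iv D49150)) (tt N16380 F219965))
theorem Q16382 : ∀ i, i < 16382 → P i := stepQ 16381 Q16381 (allL N16381 (tt N14188 F219966) (tt N16381 F219967) (tt N18463 (iv F229443)) (tt N14934 F219968) (tt N14187 (iv D49151)) (tt N15135 F219969) (tt N14935 F219970) (tt N15132 F219971) (tt N16381 F219972) (tt N18483 D51253))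
theorem Q16383 : ∀ i, i < 16383 → P i := stepQ 16382 Q16382 (allL N16382 (tt N14189 F219973) (tt N16382 F219974) (tt N18464 (iv F229450)) (tt N14905 F219975) (tt N18483 (iv F229556)) (tt N14196 F219976) (tt N15295 F219977) (tt N18480 (iv F229539)) (tt N18484 D51254) (tt N14187 (iv D49152)))
theorem Q16384 : ∀ i, i < 16384 → P i := stepQ 16383 Q16383 (allL N16383 (tt N18483 (iv F229553)) (tt N14190 F219978) (tt N18466 (iv F229459)) (tt N15616 F219979) (tt N14189 F219980) (tt N15136 F219981) (tt N15296 F219982) (tt N15133 F219983) (tt N18485 D51255) (tt N14188 (iv D49153)))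
theorem Q16385 : ∀ i, i < 16385 → P i := stepQ 16384 Q16384 (allL N16384 (tt N18484 (iv F229560)) (tt N14191 F219984) (tt N18467 (iv F229465)) (tt N18486 D51256) (tt N18485 (iv F229567)) (tt N14197 F219985) (tt N15297 F219986) (tt N18481 (iv F229543)) (tt N14189 (iv D49154)) (tt N16384 F219987))
theorem Q16386 : ∀ i, i < 16386 → P i := stepQ 16385 Q16385 (allL N16385 (tt N16385 F219988) (tt N18485 (iv F229565)) (tt N14192 F219989) (tt N15542 F219990) (tt N14191 F219991) (tt N15137 F219992) (tt N15299 F219993) (tt N15134 F219994) (tt N14190 (iv D49155)) (tt N16385 F219995))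
theorem Q16387 : ∀ i, i < 16387 → P i := stepQ 16386 Q16386 (allL N16386 (tt N16386 F219996) (tt N18486 (iv F229572)) (tt N18295 (iv F228520)) (tt N14191 (iv D49156)) (tt N15530 F219997) (tt N14198 F219998) (tt N15300 F219999) (tt N18482 (iv F229550)) (tt N14910 F220000) (tt N16386 F220001))
theorem Q16388 : ∀ i, i < 16388 → P i := stepQ 16387 Q16387 (allL N16387 (tt N14194 F220002) (tt N16387 F220003) (tt N18472 (iv F229493)) (tt N14912 F220004) (tt N18102 (iv F227288)) (tt N18480 (iv F229537)) (tt N16387 F220005) (tt N14196 F220006) (tt N18487 D51257) (tt N14193 (iv D49157)))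
theorem Q16389 : ∀ i, i < 16389 → P i := stepQ 16388 Q16388 (allL N16388 (tt N18487 (iv F229578)) (tt N14195 F220007) (tt N18473 (iv F229498)) (tt N18488 D51258) (tt N18103 (iv F227294)) (tt N18481 (iv F229542)) (tt N16388 F220008) (tt N14197 F220009) (tt N14194 (iv D49158)) (tt N16388 F220010))
theorem Q16390 : ∀ i, i < 16390 → P i := stepQ 16389 Q16389 (allL N16389 (tt N16389 F220011) (tt N18488 (iv F229583)) (tt N18296 (iv F228529)) (tt N14195 (iv D49159)) (tt N18489 D51259) (tt N18482 (iv F229548)) (tt N16389 F220012) (tt N14198 F220013) (tt N14914 F220014) (tt N16389 F220015))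
theorem Q16391 : ∀ i, i < 16391 → P i := stepQ 16390 Q16390 (allL N16390 (tt N14197 F220016) (tt N16390 F220017) (tt N18475 (iv F229509)) (tt N18094 (iv F227223)) (tt N18105 (iv F227310)) (tt N18484 (iv F229562)) (tt N14199 F220018) (tt N18487 (iv F229581)) (tt N14196 (iv D49160)) (tt N16390 F220019))
theorem Q16392 : ∀ i, i < 16392 → P i := stepQ 16391 Q16391 (allL N16391 (tt N18094 (iv F227220)) (tt N14198 F220020) (tt N18361 (iv F228928)) (tt N14197 (iv D49161)) (tt N18088 (iv F227176)) (tt N18486 (iv F229574)) (tt N14200 F220021) (tt N18488 (iv F229585)) (tt N14916 F220022) (tt N16391 F220023))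
theorem Q16393 : ∀ i, i < 16393 → P i := stepQ 16392 Q16392 (allL N16392 (tt N16392 F220024) (tt N18088 (iv F227174)) (tt N18298 (iv F228546)) (tt N15880 F220025) (tt N14198 (iv D49162)) (tt N15547 F220026) (tt N14201 F220027) (tt N18489 (iv F229593)) (tt N14917 F220028) (tt N16392 F220029))
theorem Q16394 : ∀ i, i < 16394 → P i := stepQ 16393 Q16393 (allL N16393 (tt N14210 F220030) (tt N14218 F220031) (tt N14237 F220032) (tt N14204 F220033) (tt N14271 F220034) (tt N14205 F220035) (tt N14214 F220036) (tt N14351 F220037) (tt N18490 D51260) (tt N14203 (iv D49163)))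
theorem Q16395 : ∀ i, i < 16395 → P i := stepQ 16394 Q16394 (allL N16394 (tt N14212 F220038) (tt N15820 F220039) (tt N14238 F220040) (tt N16394 F220041) (tt N15819 F220042) (tt N18490 (iv F229601)) (tt N16394 F220043) (tt N14352 F220044) (tt N14205 (iv D49164)) (tt N16394 F220045))
theorem Q16396 : ∀ i, i < 16396 → P i := stepQ 16395 Q16395 (allL N16395 (tt N14214 F220046) (tt N16395 F220047) (tt N14260 F220048) (tt N14207 F220049) (tt N14244 F220050) (tt N16395 F220051) (tt N14210 F220052) (tt N14355 F220053) (tt N18491 D51261) (tt N14206 (iv D49165)))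
theorem Q16397 : ∀ i, i < 16397 → P i := stepQ 16396 Q16396 (allL N16396 (tt N14271 F220054) (tt N16396 F220055) (tt N14262 F220056) (tt N14242 F220057) (tt N14210 F220058) (tt N15365 F220059) (tt N14244 F220060) (tt N14360 F220061) (tt N18492 D51262) (tt N14209 (iv D49166)))
theorem Q16398 : ∀ i, i < 16398 → P i := stepQ 16397 Q16397 (allL N16397 (tt N18490 (iv F229596)) (tt N16397 F220062) (tt N14263 F220063) (tt N16397 F220064) (tt N18492 (iv F229618)) (tt N14212 F220065) (tt N18491 (iv F229611)) (tt N14361 F220066) (tt N14210 (iv D49167)) (tt N16397 F220067))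
theorem Q16399 : ∀ i, i < 16399 → P i := stepQ 16398 Q16398 (allL N16398 (tt N15819 F220068) (tt N16398 F220069) (tt N14265 F220070) (tt N18493 D51263) (tt N14212 F220071) (tt N15825 F220072) (tt N16398 F220073) (tt N14363 F220074) (tt N14211 (iv D49168)) (tt N16398 F220075))
theorem Q16400 : ∀ i, i < 16400 → P i := stepQ 16399 Q16399 (allL N16399 (tt N14260 F220076) (tt N18120 (iv F227416)) (tt N14214 F220077) (tt N14235 F220078) (tt N14273 F220079) (tt N16399 F220080) (tt N14237 F220081) (tt N14369 F220082) (tt N18494 D51264) (tt N14213 (iv D49169)))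
theorem Q16401 : ∀ i, i < 16401 → P i := stepQ 16400 Q16400 (allL N16400 (tt N18491 (iv F229605)) (tt N14221 F220083) (tt N18494 (iv F229634)) (tt N16400 F220084) (tt N14274 F220085) (tt N16400 F220086) (tt N18490 (iv F229602)) (tt N14370 F220087) (tt N14214 (iv D49170)) (tt N16400 F220088))
theorem Q16402 : ∀ i, i < 16402 → P i := stepQ 16401 Q16401 (allL N16401 (tt N16401 F220089) (tt N14351 F220090) (tt N15092 F220091) (tt N14217 F220092) (tt N14275 F220093) (tt N14348 F220094) (tt N14377 F220095) (tt N14218 F220096) (tt N15427 (iv F220097)) (tt N14216 (iv D49171)))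
theorem Q16403 : ∀ i, i < 16403 → P i := stepQ 16402 Q16402 (allL N16402 (tt N16402 F220098) (tt N18490 (iv F229597)) (tt N15363 F220099) (tt N16402 F220100) (tt N14276 F220101) (tt N15820 F220102) (tt N14221 F220103) (tt N15427 F220104) (tt N14218 (iv D49172)) (tt N16402 F220105))
theorem Q16404 : ∀ i, i < 16404 → P i := stepQ 16403 Q16403 (allL N16403 (tt N18078 (iv F227084)) (tt N14220 F220106) (tt N18120 (iv F227417)) (tt N16403 F220107) (tt N14278 F220108) (tt N16403 F220109) (tt N15356 F220110) (tt N14382 F220111) (tt N18495 D51265) (tt N14219 (iv D49173)))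
theorem Q16405 : ∀ i, i < 16405 → P i := stepQ 16404 Q16404 (allL N16404 (tt N16404 F220112) (tt N18495 (iv F229642)) (tt N14221 F220113) (tt N15827 (iv F220119)) (tt N14279 F220114) (tt N16404 F220115) (tt N15363 F220116) (tt N14383 F220117) (tt N14220 (iv D49174)) (tt N16404 F220118))
theorem Q16406 : ∀ i, i < 16406 → P i := stepQ 16405 Q16405 (allL N16405 (tt N14311 F220120) (tt N14230 F220121) (tt N16405 F220122) (tt N14290 F220123) (tt N14224 F220124) (tt N14286 F220125) (tt N14387 F220126) (tt N14222 (iv D49175)) (tt N18496 D51266) (tt N14281 F220127))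
theorem Q16407 : ∀ i, i < 16407 → P i := stepQ 16406 Q16406 (allL N16406 (tt N14312 F220128) (tt N14231 F220129) (tt N16406 F220130) (tt N18497 D51267) (tt N14225 F220131) (tt N14287 F220132) (tt N14223 F220133) (tt N18496 (iv F229657)) (tt N14222 (iv D49176)) (tt N18498 D51268))
theorem Q16408 : ∀ i, i < 16408 → P i := stepQ 16407 Q16407 (allL N16407 (tt N14999 F220134) (tt N14232 F220135) (tt N15339 (iv F220140)) (tt N14223 (iv D49177)) (tt N15338 F220136) (tt N14986 F220137) (tt N18497 (iv F229663)) (tt N14389 F220138) (tt N15324 F220139) (tt N18499 D51269))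
theorem Q16409 : ∀ i, i < 16409 → P i := stepQ 16408 Q16408 (allL N16408 (tt N15002 F220141) (tt N14233 F220142) (tt N16408 F220143) (tt N18499 (iv F229678)) (tt N14226 F220144) (tt N14988 F220145) (tt N18498 (iv F229672)) (tt N14390 F220146) (tt N14284 F220147) (tt N14223 (iv D49178)))
theorem Q16410 : ∀ i, i < 16410 → P i := stepQ 16409 Q16409 (allL N16409 (tt N15003 F220148) (tt N14234 F220149) (tt N16409 F220150) (tt N14368 (iv F220155)) (tt N18496 (iv F229654)) (tt N16409 F220151) (tt N14391 F220152) (tt N14225 F220153) (tt N14224 (iv D49179)) (tt N15845 F220154))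
theorem Q16411 : ∀ i, i < 16411 → P i := stepQ 16410 Q16410 (allL N16410 (tt N15004 F220156) (tt N14235 F220157) (tt N16410 F220158) (tt N18120 (iv F227418)) (tt N18498 (iv F229670)) (tt N16410 F220159) (tt N14226 F220160) (tt N15845 F220161) (tt N14285 F220162) (tt N14225 (iv D49180)))
theorem Q16412 : ∀ i, i < 16412 → P i := stepQ 16411 Q16411 (allL N16411 (tt N14246 F220163) (tt N14290 F220164) (tt N16411 F220165) (tt N14230 F220166) (tt N16411 F220167) (tt N14281 F220168) (tt N14394 F220169) (tt N14227 (iv D49181)) (tt N15843 (iv F220171)) (tt N14286 F220170))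
theorem Q16413 : ∀ i, i < 16413 → P i := stepQ 16412 Q16412 (allL N16412 (tt N14247 F220172) (tt N14291 F220173) (tt N16412 F220174) (tt N18500 D51270) (tt N16412 F220175) (tt N14282 F220176) (tt N14228 F220177) (tt N15843 F220178) (tt N14227 (iv D49182)) (tt N18501 D51271))
theorem Q16414 : ∀ i, i < 16414 → P i := stepQ 16413 Q16413 (allL N16413 (tt N14248 F220179) (tt N15324 F220180) (tt N18502 D51272) (tt N14228 (iv D49183)) (tt N18503 D51273) (tt N15305 F220181) (tt N18500 (iv F229685)) (tt N14396 F220182) (tt N14232 F220183) (tt N18504 D51274))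
theorem Q16415 : ∀ i, i < 16415 → P i := stepQ 16414 Q16414 (allL N16414 (tt N14249 F220184) (tt N15325 F220185) (tt N16414 F220186) (tt N18504 (iv F229716)) (tt N16414 F220187) (tt N15306 F220188) (tt N18501 (iv F229695)) (tt N14397 F220189) (tt N14289 F220190) (tt N14228 (iv D49184)))
theorem Q16416 : ∀ i, i < 16416 → P i := stepQ 16415 Q16415 (allL N16415 (tt N14250 F220191) (tt N14286 F220192) (tt N14239 F220193) (tt N14281 F220194) (tt N16415 F220195) (tt N14230 F220196) (tt N14486 F220197) (tt N14229 (iv D49185)) (tt N18505 D51275) (tt N14290 F220198))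
theorem Q16417 : ∀ i, i < 16417 → P i := stepQ 16416 Q16416 (allL N16416 (tt N14251 F220199) (tt N14287 F220200) (tt N14240 F220201) (tt N18506 D51276) (tt N16416 F220202) (tt N14231 F220203) (tt N14280 F220204) (tt N18505 (iv F229726)) (tt N14229 (iv D49186)) (tt N18507 D51277))
theorem Q16418 : ∀ i, i < 16418 → P i := stepQ 16417 Q16417 (allL N16417 (tt N14252 F220205) (tt N18496 (iv F229651)) (tt N14241 F220206) (tt N14440 (iv F220210)) (tt N14234 F220207) (tt N18505 (iv F229724)) (tt N14400 F220208) (tt N14231 F220209) (tt N14230 (iv D49187)) (tt N18508 D51278))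
theorem Q16419 : ∀ i, i < 16419 → P i := stepQ 16418 Q16418 (allL N16418 (tt N14253 F220211) (tt N18497 (iv F229660)) (tt N14256 F220212) (tt N14231 (iv D49188)) (tt N14255 F220213) (tt N18506 (iv F229730)) (tt N14232 F220214) (tt N14440 F220215) (tt N18500 (iv F229687)) (tt N18509 D51279))
theorem Q16420 : ∀ i, i < 16420 → P i := stepQ 16419 Q16419 (allL N16419 (tt N14254 F220216) (tt N18498 (iv F229668)) (tt N14242 F220217) (tt N18509 (iv F229752)) (tt N14235 F220218) (tt N18507 (iv F229739)) (tt N14233 F220219) (tt N18508 (iv F229748)) (tt N14294 F220220) (tt N14231 (iv D49189)))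
theorem Q16421 : ∀ i, i < 16421 → P i := stepQ 16420 Q16420 (allL N16420 (tt N14255 F220221) (tt N18110 (iv F227343)) (tt N14232 (iv D49190)) (tt N14243 F220222) (tt N14253 (iv F220226)) (tt N15309 F220223) (tt N14256 F220224) (tt N14403 F220225) (tt N18502 (iv F229704)) (tt N18510 D51280))
theorem Q16422 : ∀ i, i < 16422 → P i := stepQ 16421 Q16421 (allL N16421 (tt N14256 F220227) (tt N15338 F220228) (tt N14253 F220229) (tt N14236 F220230) (tt N14232 (iv D49191)) (tt N15341 F220231) (tt N14255 F220232) (tt N14404 F220233) (tt N18503 (iv F229713)) (tt N18511 D51281))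
theorem Q16423 : ∀ i, i < 16423 → P i := stepQ 16422 Q16422 (allL N16422 (tt N14257 F220234) (tt N18499 (iv F229676)) (tt N18510 (iv F229757)) (tt N14233 F220235) (tt N18511 (iv F229767)) (tt N15310 F220236) (tt N18509 (iv F229754)) (tt N14405 F220237) (tt N18512 D51282) (tt N14232 (iv D49192)))
theorem Q16424 : ∀ i, i < 16424 → P i := stepQ 16423 Q16423 (allL N16423 (tt N14259 F220238) (tt N15845 F220239) (tt N14245 F220240) (tt N14369 F220241) (tt N18508 (iv F229746)) (tt N16423 F220242) (tt N14406 F220243) (tt N14235 F220244) (tt N14298 F220245) (tt N14234 (iv D49193)))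
theorem Q16425 : ∀ i, i < 16425 → P i := stepQ 16424 Q16424 (allL N16424 (tt N14262 F220246) (tt N15355 F220247) (tt N14271 F220248) (tt N18511 (iv F229766)) (tt N14237 F220249) (tt N15358 F220250) (tt N14273 F220251) (tt N14409 F220252) (tt N18513 D51283) (tt N14236 (iv D49194)))
theorem Q16426 : ∀ i, i < 16426 → P i := stepQ 16425 Q16425 (allL N16425 (tt N14263 F220253) (tt N18121 (iv F227425)) (tt N18490 (iv F229598)) (tt N14302 F220254) (tt N18513 (iv F229778)) (tt N14238 F220255) (tt N18494 (iv F229638)) (tt N14410 F220256) (tt N14237 (iv D49195)) (tt N16425 F220257))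
theorem Q16427 : ∀ i, i < 16427 → P i := stepQ 16426 Q16426 (allL N16426 (tt N14266 F220258) (tt N16426 F220259) (tt N14486 F220260) (tt N16426 F220261) (tt N16426 F220262) (tt N14411 F220263) (tt N14239 (iv D49196)) (tt N14484 F220264) (tt N15086 (iv F220266)) (tt N14303 F220265))
theorem Q16428 : ∀ i, i < 16428 → P i := stepQ 16427 Q16427 (allL N16427 (tt N14267 F220267) (tt N16427 F220268) (tt N18505 (iv F229721)) (tt N14359 F220273) (tt N16427 F220269) (tt N14241 F220270) (tt N15086 F220271) (tt N14240 F220272) (tt N14239 (iv D49197)) (tt N18171 (iv F227759)))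
theorem Q16429 : ∀ i, i < 16429 → P i := stepQ 16428 Q16428 (allL N16428 (tt N14268 F220274) (tt N16428 F220275) (tt N18507 (iv F229737)) (tt N15365 F220276) (tt N16428 F220277) (tt N14242 F220278) (tt N15008 F220279) (tt N18171 (iv F227758)) (tt N14304 F220280) (tt N14240 (iv D49198)))
theorem Q16430 : ∀ i, i < 16430 → P i := stepQ 16429 Q16429 (allL N16429 (tt N14270 F220281) (tt N16429 F220282) (tt N18508 (iv F229744)) (tt N14360 F220283) (tt N14245 F220284) (tt N18171 (iv F227756)) (tt N14415 F220285) (tt N14242 F220286) (tt N14305 F220287) (tt N14241 (iv D49199)))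
theorem Q16431 : ∀ i, i < 16431 → P i := stepQ 16430 Q16430 (allL N16430 (tt N14273 F220288) (tt N18116 (iv F227384)) (tt N14244 F220289) (tt N18510 (iv F229758)) (tt N14260 F220290) (tt N15312 F220291) (tt N14262 F220292) (tt N14419 F220293) (tt N18514 D51284) (tt N14243 (iv D49200)))
theorem Q16432 : ∀ i, i < 16432 → P i := stepQ 16431 Q16431 (allL N16431 (tt N14274 F220294) (tt N16431 F220295) (tt N18514 (iv F229785)) (tt N14310 F220296) (tt N18491 (iv F229609)) (tt N15313 F220297) (tt N18492 (iv F229620)) (tt N14420 F220298) (tt N14244 (iv D49201)) (tt N16431 F220299))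
theorem Q16433 : ∀ i, i < 16433 → P i := stepQ 16432 Q16432 (allL N16432 (tt N18500 (iv F229682)) (tt N15347 F220300) (tt N18503 (iv F229708)) (tt N14247 (iv D49202)) (tt N18502 F229705) (tt N15345 F220301) (tt N14248 F220302) (tt N15496 F220303) (tt N14253 F220304) (tt N18515 D51285))
theorem Q16434 : ∀ i, i < 16434 → P i := stepQ 16433 Q16433 (allL N16433 (tt N18501 (iv F229690)) (tt N15812 F220305) (tt N16433 F220306) (tt N18515 (iv F229792)) (tt N16433 F220307) (tt N15811 F220308) (tt N14249 F220309) (tt N15846 F220310) (tt N14315 F220311) (tt N14247 (iv D49203)))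
theorem Q16435 : ∀ i, i < 16435 → P i := stepQ 16434 Q16434 (allL N16434 (tt N18502 (iv F229698)) (tt N18516 D51286) (tt N14248 (iv D49204)) (tt N16434 F220312) (tt N18500 F229689) (tt N15314 F220313) (tt N18503 (iv F229711)) (tt N14427 F220314) (tt N14255 F220315) (tt N18517 D51287))
theorem Q16436 : ∀ i, i < 16436 → P i := stepQ 16435 Q16435 (allL N16435 (tt N18503 (iv F229706)) (tt N18108 (iv F227328)) (tt N18500 (iv F229688)) (tt N16435 F220316) (tt N14248 (iv D49205)) (tt N18518 D51288) (tt N18502 (iv F229702)) (tt N14428 F220317) (tt N14256 F220318) (tt N18519 D51289))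
theorem Q16437 : ∀ i, i < 16437 → P i := stepQ 16436 Q16436 (allL N16436 (tt N18504 (iv F229714)) (tt N18109 (iv F227336)) (tt N18517 (iv F229804)) (tt N14249 F220319) (tt N18519 (iv F229817)) (tt N15315 F220320) (tt N18515 (iv F229794)) (tt N14429 F220321) (tt N18520 D51290) (tt N14248 (iv D49206)))
theorem Q16438 : ∀ i, i < 16438 → P i := stepQ 16437 Q16437 (allL N16437 (tt N18505 (iv F229719)) (tt N15005 F220322) (tt N14267 F220323) (tt N15464 F220324) (tt N16437 F220325) (tt N14252 F220326) (tt N15078 F220327) (tt N14251 F220328) (tt N14250 (iv D49207)) (tt N18169 (iv F227743)))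
theorem Q16439 : ∀ i, i < 16439 → P i := stepQ 16438 Q16438 (allL N16438 (tt N18506 (iv F229727)) (tt N14994 F220329) (tt N15341 F220330) (tt N14251 (iv D49208)) (tt N15334 (iv F220335)) (tt N14253 F220331) (tt N14996 F220332) (tt N15464 F220333) (tt N15345 F220334) (tt N18521 D51291))
theorem Q16440 : ∀ i, i < 16440 → P i := stepQ 16439 Q16439 (allL N16439 (tt N18507 (iv F229735)) (tt N15006 F220336) (tt N14268 F220337) (tt N18521 (iv F229825)) (tt N16439 F220338) (tt N14254 F220339) (tt N15007 F220340) (tt N18169 (iv F227742)) (tt N14321 F220341) (tt N14251 (iv D49209)))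
theorem Q16441 : ∀ i, i < 16441 → P i := stepQ 16440 Q16440 (allL N16440 (tt N14440 F220342) (tt N15466 F220343) (tt N14404 F220344) (tt N14252 (iv D49210)) (tt N14403 F220345) (tt N15464 F220346) (tt N14434 F220347) (tt N14253 F220348) (tt N15496 F220349) (tt N18522 D51292))
theorem Q16442 : ∀ i, i < 16442 → P i := stepQ 16441 Q16441 (allL N16441 (tt N18508 (iv F229742)) (tt N15019 F220350) (tt N14270 F220351) (tt N18522 (iv F229833)) (tt N14259 F220352) (tt N18169 (iv F227740)) (tt N14435 F220353) (tt N14254 F220354) (tt N14323 F220355) (tt N14252 (iv D49211)))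
theorem Q16443 : ∀ i, i < 16443 → P i := stepQ 16442 Q16442 (allL N16442 (tt N18509 (iv F229750)) (tt N18111 (iv F227351)) (tt N18511 (iv F229765)) (tt N14254 F220356) (tt N18510 (iv F229759)) (tt N18521 (iv F229827)) (tt N14257 F220357) (tt N18522 (iv F229837)) (tt N18523 D51293) (tt N14253 (iv D49212)))
theorem Q16444 : ∀ i, i < 16444 → P i := stepQ 16443 Q16443 (allL N16443 (tt N18127 (iv F227470)) (tt N14255 (iv D49213)) (tt N14320 F220358) (tt N14272 F220359) (tt N18497 (iv F229661)) (tt N14324 F220360) (tt N15338 F220361) (tt N14439 F220362) (tt N18516 (iv F229803)) (tt N18524 D51294))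
theorem Q16445 : ∀ i, i < 16445 → P i := stepQ 16444 Q16444 (allL N16444 (tt N18510 (iv F229756)) (tt N18524 (iv F229840)) (tt N14257 F220363) (tt N14273 F220364) (tt N18509 (iv F229753)) (tt N15318 F220365) (tt N18511 (iv F229769)) (tt N14441 F220366) (tt N18525 D51295) (tt N14255 (iv D49214)))
theorem Q16446 : ∀ i, i < 16446 → P i := stepQ 16445 Q16445 (allL N16445 (tt N15341 F220367) (tt N14296 F220368) (tt N18506 (iv F229729)) (tt N14261 F220369) (tt N14283 F220370) (tt N14256 (iv D49215)) (tt N15344 (iv F220372)) (tt N14442 F220371) (tt N18518 (iv F229815)) (tt N18526 D51296))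
theorem Q16447 : ∀ i, i < 16447 → P i := stepQ 16446 Q16446 (allL N16446 (tt N18511 (iv F229763)) (tt N18114 (iv F227373)) (tt N18509 (iv F229751)) (tt N14262 F220373) (tt N14257 F220374) (tt N18526 (iv F229853)) (tt N18510 (iv F229761)) (tt N14443 F220375) (tt N18527 D51297) (tt N14256 (iv D49216)))
theorem Q16448 : ∀ i, i < 16448 → P i := stepQ 16447 Q16447 (allL N16447 (tt N18512 (iv F229771)) (tt N18115 (iv F227379)) (tt N18525 (iv F229846)) (tt N14332 F220376) (tt N18527 (iv F229856)) (tt N15320 F220377) (tt N18523 (iv F229839)) (tt N14444 F220378) (tt N14257 (iv D49217)) (tt N18520 (iv F229822)))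
theorem Q16449 : ∀ i, i < 16449 → P i := stepQ 16448 Q16448 (allL N16448 (tt N14369 F220379) (tt N15831 F220380) (tt N14355 F220381) (tt N14259 F220382) (tt N14419 F220383) (tt N16448 F220384) (tt N14445 F220385) (tt N14260 F220386) (tt N15835 (iv F220387)) (tt N14258 (iv D49218)))
theorem Q16450 : ∀ i, i < 16450 → P i := stepQ 16449 Q16449 (allL N16449 (tt N18494 (iv F229632)) (tt N15810 F220388) (tt N18491 (iv F229607)) (tt N14334 F220389) (tt N18514 (iv F229786)) (tt N16449 F220390) (tt N14263 F220391) (tt N15835 F220392) (tt N14260 (iv D49219)) (tt N16449 F220393))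
theorem Q16451 : ∀ i, i < 16451 → P i := stepQ 16450 Q16450 (allL N16450 (tt N15358 F220394) (tt N14301 F220395) (tt N15365 F220396) (tt N18526 (iv F229851)) (tt N14264 F220397) (tt N14262 F220398) (tt N15360 F220399) (tt N14450 F220400) (tt N18528 D51298) (tt N14261 (iv D49220)))
theorem Q16452 : ∀ i, i < 16452 → P i := stepQ 16451 Q16451 (allL N16451 (tt N18513 (iv F229775)) (tt N18117 (iv F227392)) (tt N18492 (iv F229616)) (tt N18529 D51299) (tt N14263 F220401) (tt N18528 (iv F229862)) (tt N18514 (iv F229788)) (tt N14451 F220402) (tt N14262 (iv D49221)) (tt N16451 F220403))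
theorem Q16453 : ∀ i, i < 16453 → P i := stepQ 16452 Q16452 (allL N16452 (tt N15814 F220404) (tt N14302 F220405) (tt N15825 F220406) (tt N18121 (iv F227427)) (tt N18528 (iv F229861)) (tt N14265 F220407) (tt N15815 F220408) (tt N14453 F220409) (tt N14264 (iv D49222)) (tt N16452 F220410))
theorem Q16454 : ∀ i, i < 16454 → P i := stepQ 16453 Q16453 (allL N16453 (tt N14360 F220411) (tt N14275 F220412) (tt N14409 F220413) (tt N14270 F220414) (tt N14351 F220415) (tt N15364 F220416) (tt N14460 F220417) (tt N14271 F220418) (tt N15426 (iv F220419)) (tt N14269 (iv D49223)))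
theorem Q16455 : ∀ i, i < 16455 → P i := stepQ 16454 Q16454 (allL N16454 (tt N18492 (iv F229614)) (tt N14276 F220420) (tt N18513 (iv F229777)) (tt N14342 F220421) (tt N18490 (iv F229600)) (tt N15366 F220422) (tt N14274 F220423) (tt N15426 F220424) (tt N14271 (iv D49224)) (tt N16454 F220425))
theorem Q16456 : ∀ i, i < 16456 → P i := stepQ 16455 Q16455 (allL N16455 (tt N18130 (iv F227491)) (tt N14273 F220426) (tt N14278 F220427) (tt N18524 (iv F229842)) (tt N18120 (iv F227419)) (tt N14341 F220428) (tt N15355 F220429) (tt N14465 F220430) (tt N18530 D51300) (tt N14272 (iv D49225)))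
theorem Q16457 : ∀ i, i < 16457 → P i := stepQ 16456 Q16456 (allL N16456 (tt N18514 (iv F229783)) (tt N18530 (iv F229870)) (tt N14274 F220431) (tt N18531 D51301) (tt N18494 (iv F229636)) (tt N15321 F220432) (tt N18513 (iv F229780)) (tt N14466 F220433) (tt N14273 (iv D49226)) (tt N16456 F220434))
theorem Q16458 : ∀ i, i < 16458 → P i := stepQ 16457 Q16457 (allL N16457 (tt N14278 F220435) (tt N16457 F220436) (tt N18130 (iv F227493)) (tt N14304 F220437) (tt N18078 (iv F227088)) (tt N14307 F220438) (tt N15331 F220439) (tt N14481 F220440) (tt N18532 D51302) (tt N14277 (iv D49227)))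
theorem Q16459 : ∀ i, i < 16459 → P i := stepQ 16458 Q16458 (allL N16458 (tt N18532 (iv F229881)) (tt N14279 F220441) (tt N18530 (iv F229871)) (tt N15366 F220442) (tt N18495 (iv F229644)) (tt N14342 F220443) (tt N15357 F220444) (tt N14482 F220445) (tt N14278 (iv D49228)) (tt N16458 F220446))
theorem Q16460 : ∀ i, i < 16460 → P i := stepQ 16459 Q16459 (allL N16459 (tt N14996 F220447) (tt N14288 F220448) (tt N15344 F220449) (tt N14280 (iv D49229)) (tt N18518 (iv F229812)) (tt N15307 F220450) (tt N18506 (iv F229731)) (tt N14488 F220451) (tt N14283 F220452) (tt N18533 D51303))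
theorem Q16461 : ∀ i, i < 16461 → P i := stepQ 16460 Q16460 (allL N16460 (tt N15007 F220453) (tt N14289 F220454) (tt N15008 F220455) (tt N18533 (iv F229893)) (tt N16460 F220456) (tt N15308 F220457) (tt N18507 (iv F229740)) (tt N14489 F220458) (tt N15325 F220459) (tt N14280 (iv D49230)))
theorem Q16462 : ∀ i, i < 16462 → P i := stepQ 16461 Q16461 (allL N16461 (tt N15345 F220460) (tt N14293 F220461) (tt N18518 (iv F229810)) (tt N14282 (iv D49231)) (tt N15344 F220462) (tt N18500 (iv F229684)) (tt N14283 F220463) (tt N15494 F220464) (tt N18506 (iv F229733)) (tt N18534 D51304))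
theorem Q16463 : ∀ i, i < 16463 → P i := stepQ 16462 Q16462 (allL N16462 (tt N15811 F220465) (tt N14294 F220466) (tt N16462 F220467) (tt N18534 (iv F229898)) (tt N14285 F220468) (tt N18501 (iv F229694)) (tt N14284 F220469) (tt N15844 F220470) (tt N18498 (iv F229674)) (tt N14282 (iv D49232)))
theorem Q16464 : ∀ i, i < 16464 → P i := stepQ 16463 Q16463 (allL N16463 (tt N15334 F220471) (tt N18535 D51305) (tt N14283 (iv D49233)) (tt N16463 F220472) (tt N18506 F229734) (tt N15317 F220473) (tt N18518 (iv F229813)) (tt N14495 F220474) (tt N15344 F220475) (tt N18536 D51306))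
theorem Q16465 : ∀ i, i < 16465 → P i := stepQ 16464 Q16464 (allL N16464 (tt N18118 (iv F227399)) (tt N14297 F220476) (tt N18536 (iv F229911)) (tt N14284 F220477) (tt N18526 (iv F229852)) (tt N15319 F220478) (tt N18534 (iv F229900)) (tt N14496 F220479) (tt N18537 D51307) (tt N14283 (iv D49234)))
theorem Q16466 : ∀ i, i < 16466 → P i := stepQ 16465 Q16465 (allL N16465 (tt N14313 F220480) (tt N18505 (iv F229720)) (tt N16465 F220481) (tt N18538 D51308) (tt N16465 F220482) (tt N18496 (iv F229655)) (tt N14501 F220483) (tt N14287 F220484) (tt N14286 (iv D49235)) (tt N18539 D51309))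
theorem Q16467 : ∀ i, i < 16467 → P i := stepQ 16466 Q16466 (allL N16466 (tt N14314 F220485) (tt N18506 (iv F229728)) (tt N18540 D51310) (tt N14287 (iv D49236)) (tt N18535 (iv F229905)) (tt N18497 (iv F229662)) (tt N14288 F220486) (tt N18538 (iv F229922)) (tt N14293 F220487) (tt N18541 D51311))
theorem Q16468 : ∀ i, i < 16468 → P i := stepQ 16467 Q16467 (allL N16467 (tt N14315 F220488) (tt N18507 (iv F229736)) (tt N16467 F220489) (tt N18541 (iv F229942)) (tt N16467 F220490) (tt N18498 (iv F229671)) (tt N14289 F220491) (tt N18539 (iv F229931)) (tt N18501 (iv F229697)) (tt N14287 (iv D49237)))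
theorem Q16469 : ∀ i, i < 16469 → P i := stepQ 16468 Q16468 (allL N16468 (tt N14316 F220492) (tt N18542 D51312) (tt N14288 (iv D49238)) (tt N16468 F220493) (tt N18543 D51313) (tt N15322 F220494) (tt N18540 (iv F229938)) (tt N14504 F220495) (tt N14295 F220496) (tt N18544 D51314))
theorem Q16470 : ∀ i, i < 16470 → P i := stepQ 16469 Q16469 (allL N16469 (tt N14317 F220497) (tt N18518 (iv F229809)) (tt N18543 (iv F229954)) (tt N16469 F220498) (tt N14288 (iv D49239)) (tt N18108 (iv F227331)) (tt N18535 (iv F229907)) (tt N14505 F220499) (tt N14296 F220500) (tt N18545 D51315))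
theorem Q16471 : ∀ i, i < 16471 → P i := stepQ 16470 Q16470 (allL N16470 (tt N14318 F220501) (tt N18533 (iv F229891)) (tt N18544 (iv F229961)) (tt N14289 F220502) (tt N18545 (iv F229967)) (tt N15323 F220503) (tt N18541 (iv F229943)) (tt N14506 F220504) (tt N18546 D51316) (tt N14288 (iv D49240)))
theorem Q16472 : ∀ i, i < 16472 → P i := stepQ 16471 Q16471 (allL N16471 (tt N14319 F220505) (tt N14394 F220506) (tt N14303 F220507) (tt N14387 F220508) (tt N16471 F220509) (tt N14507 F220510) (tt N14290 (iv D49241)) (tt N14384 F220511) (tt N18166 (iv F227723)) (tt N14486 F220512))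
theorem Q16473 : ∀ i, i < 16473 → P i := stepQ 16472 Q16472 (allL N16472 (tt N14320 F220513) (tt N18500 (iv F229683)) (tt N18127 (iv F227472)) (tt N14291 (iv D49242)) (tt N18516 (iv F229799)) (tt N14293 F220514) (tt N15324 F220515) (tt N18154 (iv F227648)) (tt N18497 (iv F229665)) (tt N18547 D51317))
theorem Q16474 : ∀ i, i < 16474 → P i := stepQ 16473 Q16473 (allL N16473 (tt N14321 F220516) (tt N18501 (iv F229691)) (tt N14304 F220517) (tt N18547 (iv F229974)) (tt N16473 F220518) (tt N14294 F220519) (tt N15325 F220520) (tt N18168 (iv F227736)) (tt N18507 (iv F229741)) (tt N14291 (iv D49243)))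
theorem Q16475 : ∀ i, i < 16475 → P i := stepQ 16474 Q16474 (allL N16474 (tt N14322 F220521) (tt N15494 F220522) (tt N15409 F220523) (tt N14292 (iv D49244)) (tt N15444 F220524) (tt N18154 (iv F227647)) (tt N14511 F220525) (tt N14293 F220526) (tt N18538 (iv F229923)) (tt N18548 D51318))
theorem Q16476 : ∀ i, i < 16476 → P i := stepQ 16475 Q16475 (allL N16475 (tt N14323 F220527) (tt N15844 F220528) (tt N14305 F220529) (tt N18548 (iv F229980)) (tt N14298 F220530) (tt N18168 (iv F227735)) (tt N14512 F220531) (tt N14294 F220532) (tt N18508 (iv F229749)) (tt N14292 (iv D49245)))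
theorem Q16477 : ∀ i, i < 16477 → P i := stepQ 16476 Q16476 (allL N16476 (tt N14324 F220533) (tt N18543 (iv F229953)) (tt N14293 (iv D49246)) (tt N14306 F220534) (tt N18542 F229951) (tt N18127 (iv F227475)) (tt N14295 F220535) (tt N15409 F220536) (tt N18540 (iv F229940)) (tt N18549 D51319))
theorem Q16478 : ∀ i, i < 16478 → P i := stepQ 16477 Q16477 (allL N16477 (tt N14325 F220537) (tt N15344 F220538) (tt N18542 (iv F229945)) (tt N14299 F220539) (tt N14293 (iv D49247)) (tt N18550 D51320) (tt N14296 F220540) (tt N15444 F220541) (tt N18535 (iv F229909)) (tt N18551 D51321))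
theorem Q16479 : ∀ i, i < 16479 → P i := stepQ 16478 Q16478 (allL N16478 (tt N14326 F220542) (tt N18534 (iv F229897)) (tt N18549 (iv F229985)) (tt N14294 F220543) (tt N18551 (iv F230000)) (tt N18547 (iv F229975)) (tt N14297 F220544) (tt N18548 (iv F229983)) (tt N18552 D51322) (tt N14293 (iv D49248)))
theorem Q16480 : ∀ i, i < 16480 → P i := stepQ 16479 Q16479 (allL N16479 (tt N18550 (iv F229989)) (tt N14295 (iv D49249)) (tt N18535 (iv F229903)) (tt N14308 F220545) (tt N18540 (iv F229936)) (tt N14325 F220546) (tt N18543 (iv F229956)) (tt N14516 F220547) (tt N18542 (iv F229950)) (tt N18553 D51323))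
theorem Q16481 : ∀ i, i < 16481 → P i := stepQ 16480 Q16480 (allL N16480 (tt N14328 F220548) (tt N18540 (iv F229934)) (tt N14296 F220549) (tt N16480 F220550) (tt N14295 (iv D49250)) (tt N18112 (iv F227361)) (tt N18542 (iv F229948)) (tt N14517 F220551) (tt N18543 (iv F229958)) (tt N18554 D51324))
theorem Q16482 : ∀ i, i < 16482 → P i := stepQ 16481 Q16481 (allL N16481 (tt N14329 F220552) (tt N18553 (iv F230005)) (tt N14297 F220553) (tt N14309 F220554) (tt N18554 (iv F230012)) (tt N15328 F220555) (tt N18549 (iv F229987)) (tt N14518 F220556) (tt N18555 D51325) (tt N14295 (iv D49251)))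
theorem Q16483 : ∀ i, i < 16483 → P i := stepQ 16482 Q16482 (allL N16482 (tt N14331 F220557) (tt N18526 (iv F229850)) (tt N18554 (iv F230010)) (tt N14301 F220558) (tt N14297 F220559) (tt N18114 (iv F227376)) (tt N18551 (iv F230001)) (tt N14519 F220560) (tt N18556 D51326) (tt N14296 (iv D49252)))
theorem Q16484 : ∀ i, i < 16484 → P i := stepQ 16483 Q16483 (allL N16483 (tt N14332 F220561) (tt N18537 (iv F229915)) (tt N18555 (iv F230015)) (tt N18512 (iv F229772)) (tt N18556 (iv F230019)) (tt N15329 F220562) (tt N18552 (iv F230004)) (tt N14520 F220563) (tt N14297 (iv D49253)) (tt N18546 (iv F229972)))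
theorem Q16485 : ∀ i, i < 16485 → P i := stepQ 16484 Q16484 (allL N16484 (tt N14308 F220564) (tt N14343 F220565) (tt N16484 F220566) (tt N18550 (iv F229992)) (tt N16484 F220567) (tt N14299 (iv D49254)) (tt N15311 F220568) (tt N14538 F220569) (tt N16484 F220570) (tt N18557 D51327))
theorem Q16486 : ∀ i, i < 16486 → P i := stepQ 16485 Q16485 (allL N16485 (tt N14333 F220571) (tt N15360 F220572) (tt N16485 F220573) (tt N18551 (iv F229999)) (tt N14300 F220574) (tt N18557 (iv F230025)) (tt N14301 F220575) (tt N15455 F220576) (tt N18558 D51328) (tt N14299 (iv D49255)))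
theorem Q16487 : ∀ i, i < 16487 → P i := stepQ 16486 Q16486 (allL N16486 (tt N14334 F220577) (tt N15815 F220578) (tt N16486 F220579) (tt N18494 (iv F229635)) (tt N18558 (iv F230031)) (tt N16486 F220580) (tt N14302 F220581) (tt N15834 F220582) (tt N14300 (iv D49256)) (tt N16486 F220583))
theorem Q16488 : ∀ i, i < 16488 → P i := stepQ 16487 Q16487 (allL N16487 (tt N14337 F220584) (tt N18528 (iv F229859)) (tt N16487 F220585) (tt N18559 D51329) (tt N14302 F220586) (tt N18117 (iv F227395)) (tt N18558 (iv F230032)) (tt N14526 F220587) (tt N14301 (iv D49257)) (tt N16487 F220588))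
theorem Q16489 : ∀ i, i < 16489 → P i := stepQ 16488 Q16488 (allL N16488 (tt N15311 F220589) (tt N14306 (iv D49258)) (tt N16488 F220590) (tt N18543 (iv F229959)) (tt N16488 F220591) (tt N14335 F220592) (tt N14308 F220593) (tt N15387 F220594) (tt N16488 F220595) (tt N18560 D51330))
theorem Q16490 : ∀ i, i < 16490 → P i := stepQ 16489 Q16489 (allL N16489 (tt N14341 F220596) (tt N18560 (iv F230039)) (tt N14307 F220597) (tt N18549 (iv F229986)) (tt N16489 F220598) (tt N18130 (iv F227495)) (tt N14309 F220599) (tt N15421 F220600) (tt N18561 D51331) (tt N14306 (iv D49259)))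
theorem Q16491 : ∀ i, i < 16491 → P i := stepQ 16490 Q16490 (allL N16490 (tt N14342 F220601) (tt N16490 F220602) (tt N18561 (iv F230048)) (tt N18492 (iv F229617)) (tt N16490 F220603) (tt N18532 (iv F229886)) (tt N14310 F220604) (tt N15425 F220605) (tt N14307 (iv D49260)) (tt N16490 F220606))
theorem Q16492 : ∀ i, i < 16492 → P i := stepQ 16491 Q16491 (allL N16491 (tt N18557 (iv F230021)) (tt N14309 F220607) (tt N16491 F220608) (tt N18553 (iv F230006)) (tt N16491 F220609) (tt N14333 F220610) (tt N18560 (iv F230043)) (tt N14539 F220611) (tt N18562 D51332) (tt N14308 (iv D49261)))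
theorem Q16493 : ∀ i, i < 16493 → P i := stepQ 16492 Q16492 (allL N16492 (tt N14345 F220612) (tt N18562 (iv F230054)) (tt N14310 F220613) (tt N18563 D51333) (tt N16492 F220614) (tt N15333 F220615) (tt N18561 (iv F230051)) (tt N14540 F220616) (tt N14309 (iv D49262)) (tt N16492 F220617))
theorem Q16494 : ∀ i, i < 16494 → P i := stepQ 16493 Q16493 (allL N16493 (tt N18496 (iv F229650)) (tt N15353 F220618) (tt N16493 F220619) (tt N18137 (iv F227542)) (tt N15003 F220620) (tt N14313 F220621) (tt N15068 F220622) (tt N14312 F220623) (tt N14311 (iv D49263)) (tt N15847 F220624))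
theorem Q16495 : ∀ i, i < 16495 → P i := stepQ 16494 Q16494 (allL N16494 (tt N18497 (iv F229659)) (tt N15350 F220625) (tt N18516 (iv F229797)) (tt N14312 (iv D49264)) (tt N18127 (iv F227474)) (tt N14314 F220626) (tt N14999 F220627) (tt N18137 (iv F227545)) (tt N14320 F220628) (tt N18564 D51334))
theorem Q16496 : ∀ i, i < 16496 → P i := stepQ 16495 Q16495 (allL N16495 (tt N18498 (iv F229667)) (tt N15354 F220629) (tt N16495 F220630) (tt N18564 (iv F230066)) (tt N15004 F220631) (tt N14315 F220632) (tt N15002 F220633) (tt N15847 F220634) (tt N15811 F220635) (tt N14312 (iv D49265)))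
theorem Q16497 : ∀ i, i < 16497 → P i := stepQ 16496 Q16496 (allL N16496 (tt N18538 (iv F229918)) (tt N15012 F220636) (tt N15394 F220640) (tt N14313 (iv D49266)) (tt N15432 (iv F220641)) (tt N18137 (iv F227543)) (tt N14547 F220637) (tt N14314 F220638) (tt N14322 F220639) (tt N18565 D51335))
theorem Q16498 : ∀ i, i < 16498 → P i := stepQ 16497 Q16497 (allL N16497 (tt N18539 (iv F229926)) (tt N15850 F220642) (tt N16497 F220643) (tt N18565 (iv F230072)) (tt N16497 F220644) (tt N15847 F220645) (tt N14548 F220646) (tt N14315 F220647) (tt N15846 F220648) (tt N14313 (iv D49267)))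
theorem Q16499 : ∀ i, i < 16499 → P i := stepQ 16498 Q16498 (allL N16498 (tt N18540 (iv F229933)) (tt N15314 F220649) (tt N14314 (iv D49268)) (tt N16498 F220650) (tt N18550 (iv F229993)) (tt N18516 (iv F229800)) (tt N14316 F220651) (tt N15394 F220652) (tt N14324 F220653) (tt N18566 D51336))
theorem Q16500 : ∀ i, i < 16500 → P i := stepQ 16499 Q16499 (allL N16499 (tt N18535 (iv F229902)) (tt N15322 F220654) (tt N18550 (iv F229991)) (tt N16499 F220655) (tt N14314 (iv D49269)) (tt N18542 (iv F229947)) (tt N14317 F220656) (tt N15432 F220657) (tt N14325 F220658) (tt N18567 D51337))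
theorem Q16501 : ∀ i, i < 16501 → P i := stepQ 16500 Q16500 (allL N16500 (tt N18541 (iv F229941)) (tt N18122 (iv F227434)) (tt N18566 (iv F230078)) (tt N14315 F220659) (tt N18567 (iv F230084)) (tt N18564 (iv F230067)) (tt N14318 F220660) (tt N18565 (iv F230076)) (tt N18568 D51338) (tt N14314 (iv D49270)))
theorem Q16502 : ∀ i, i < 16502 → P i := stepQ 16501 Q16501 (allL N16501 (tt N15317 (iv F220667)) (tt N14316 (iv D49271)) (tt N14984 F220661) (tt N16501 F220662) (tt N15309 (iv F220668)) (tt N15334 F220663) (tt N15314 F220664) (tt N14552 F220665) (tt N14327 F220666) (tt N18569 D51339))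
theorem Q16503 : ∀ i, i < 16503 → P i := stepQ 16502 Q16502 (allL N16502 (tt N18543 (iv F229952)) (tt N15309 F220669) (tt N14317 F220670) (tt N15311 (iv F220673)) (tt N14316 (iv D49272)) (tt N18110 (iv F227346)) (tt N18550 (iv F229994)) (tt N14553 F220671) (tt N14328 F220672) (tt N18570 D51340))
theorem Q16504 : ∀ i, i < 16504 → P i := stepQ 16503 Q16503 (allL N16503 (tt N18544 (iv F229960)) (tt N18569 (iv F230090)) (tt N14318 F220674) (tt N16503 F220675) (tt N18570 (iv F230100)) (tt N15335 F220676) (tt N18566 (iv F230080)) (tt N14554 F220677) (tt N18571 D51341) (tt N14316 (iv D49273)))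
theorem Q16505 : ∀ i, i < 16505 → P i := stepQ 16504 Q16504 (allL N16504 (tt N18108 (iv F227327)) (tt N15339 F220678) (tt N18110 (iv F227344)) (tt N16504 F220679) (tt N14992 F220680) (tt N14317 (iv D49274)) (tt N18112 (iv F227362)) (tt N14555 F220681) (tt N14330 F220682) (tt N18572 D51342))
theorem Q16506 : ∀ i, i < 16506 → P i := stepQ 16505 Q16505 (allL N16505 (tt N18545 (iv F229965)) (tt N18123 (iv F227442)) (tt N18570 (iv F230098)) (tt N16505 F220683) (tt N14318 F220684) (tt N18572 (iv F230109)) (tt N18567 (iv F230085)) (tt N14556 F220685) (tt N18573 D51343) (tt N14317 (iv D49275)))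
theorem Q16507 : ∀ i, i < 16507 → P i := stepQ 16506 Q16506 (allL N16506 (tt N18546 (iv F229969)) (tt N18124 (iv F227450)) (tt N18571 (iv F230102)) (tt N18520 (iv F229819)) (tt N18573 (iv F230111)) (tt N15336 F220686) (tt N18568 (iv F230087)) (tt N14557 F220687) (tt N14318 (iv D49276)) (tt N14332 F220688))
theorem Q16508 : ∀ i, i < 16508 → P i := stepQ 16507 Q16507 (allL N16507 (tt N18516 (iv F229796)) (tt N18112 (iv F227358)) (tt N18497 (iv F229666)) (tt N16507 F220689) (tt N14320 (iv D49277)) (tt N18540 (iv F229937)) (tt N15339 F220690) (tt N18155 (iv F227656)) (tt N18127 (iv F227476)) (tt N18574 D51344))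
theorem Q16509 : ∀ i, i < 16509 → P i := stepQ 16508 Q16508 (allL N16508 (tt N18547 (iv F229973)) (tt N18113 (iv F227366)) (tt N18524 (iv F229841)) (tt N14321 F220691) (tt N18574 (iv F230115)) (tt N14326 F220692) (tt N15340 F220693) (tt N18156 (iv F227662)) (tt N18575 D51345) (tt N14320 (iv D49278)))
theorem Q16510 : ∀ i, i < 16510 → P i := stepQ 16509 Q16509 (allL N16509 (tt N18548 (iv F229977)) (tt N15017 F220694) (tt N15411 F220695) (tt N14323 F220696) (tt N15445 F220697) (tt N18156 (iv F227661)) (tt N14566 F220698) (tt N14326 F220699) (tt N18576 D51346) (tt N14322 (iv D49279)))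
theorem Q16511 : ∀ i, i < 16511 → P i := stepQ 16510 Q16510 (allL N16510 (tt N18542 (iv F229944)) (tt N15317 F220700) (tt N14325 F220701) (tt N16510 F220702) (tt N14324 (iv D49280)) (tt N18535 (iv F229906)) (tt N14328 F220703) (tt N15410 F220704) (tt N18550 (iv F229996)) (tt N18577 D51347))
theorem Q16512 : ∀ i, i < 16512 → P i := stepQ 16511 Q16511 (allL N16511 (tt N18549 (iv F229984)) (tt N15318 F220705) (tt N14326 F220706) (tt N14341 F220707) (tt N18577 (iv F230127)) (tt N18524 (iv F229843)) (tt N14329 F220708) (tt N15411 F220709) (tt N18578 D51348) (tt N14324 (iv D49281)))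
theorem Q16513 : ∀ i, i < 16513 → P i := stepQ 16512 Q16512 (allL N16512 (tt N18551 (iv F229997)) (tt N15328 F220710) (tt N18577 (iv F230125)) (tt N14333 F220711) (tt N14326 F220712) (tt N18553 (iv F230007)) (tt N14331 F220713) (tt N15445 F220714) (tt N18579 D51349) (tt N14325 (iv D49282)))
theorem Q16514 : ∀ i, i < 16514 → P i := stepQ 16513 Q16513 (allL N16513 (tt N18552 (iv F230003)) (tt N18125 (iv F227456)) (tt N18578 (iv F230131)) (tt N18523 (iv F229838)) (tt N18579 (iv F230135)) (tt N18575 (iv F230117)) (tt N14332 F220715) (tt N18576 (iv F230123)) (tt N14326 (iv D49283)) (tt N18568 (iv F230088)))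
theorem Q16515 : ∀ i, i < 16515 → P i := stepQ 16514 Q16514 (allL N16514 (tt N14327 (iv D49284)) (tt N18550 (iv F229990)) (tt N15307 F220716) (tt N14343 F220717) (tt N15314 (iv F220722)) (tt N15344 F220718) (tt N15309 F220719) (tt N14573 F220720) (tt N15317 F220721) (tt N18580 D51350))
theorem Q16516 : ∀ i, i < 16516 → P i := stepQ 16515 Q16515 (allL N16515 (tt N15314 F220723) (tt N14328 F220724) (tt N15305 F220725) (tt N16515 F220726) (tt N14327 (iv D49285)) (tt N18502 (iv F229701)) (tt N15317 F220727) (tt N14574 F220728) (tt N15309 F220729) (tt N18581 D51351))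
theorem Q16517 : ∀ i, i < 16517 → P i := stepQ 16516 Q16516 (allL N16516 (tt N18580 (iv F230138)) (tt N14329 F220730) (tt N15316 F220731) (tt N14344 F220732) (tt N18581 (iv F230149)) (tt N15346 F220733) (tt N15318 F220734) (tt N14575 F220735) (tt N18582 D51352) (tt N14327 (iv D49286)))
theorem Q16518 : ∀ i, i < 16518 → P i := stepQ 16517 Q16517 (allL N16517 (tt N18112 (iv F227357)) (tt N18502 (iv F229699)) (tt N14330 F220736) (tt N16517 F220737) (tt N15347 F220738) (tt N14328 (iv D49287)) (tt N18108 (iv F227332)) (tt N14576 F220739) (tt N18110 (iv F227349)) (tt N18583 D51353))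
theorem Q16519 : ∀ i, i < 16519 → P i := stepQ 16518 Q16518 (allL N16518 (tt N18554 (iv F230009)) (tt N18581 (iv F230146)) (tt N14331 F220740) (tt N16518 F220741) (tt N14329 F220742) (tt N18583 (iv F230160)) (tt N18577 (iv F230128)) (tt N14577 F220743) (tt N18584 D51354) (tt N14328 (iv D49288)))
theorem Q16520 : ∀ i, i < 16520 → P i := stepQ 16519 Q16519 (allL N16519 (tt N18555 (iv F230014)) (tt N18582 (iv F230152)) (tt N14332 F220744) (tt N18585 D51355) (tt N18584 (iv F230163)) (tt N15349 F220745) (tt N18578 (iv F230132)) (tt N14578 F220746) (tt N14329 (iv D49289)) (tt N18571 (iv F230105)))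
theorem Q16521 : ∀ i, i < 16521 → P i := stepQ 16520 Q16520 (allL N16520 (tt N18110 (iv F227342)) (tt N18127 (iv F227471)) (tt N18108 (iv F227329)) (tt N14335 F220747) (tt N15350 F220748) (tt N18543 (iv F229955)) (tt N14330 (iv D49290)) (tt N18138 (iv F227555)) (tt N18112 (iv F227364)) (tt N18586 D51356))
theorem Q16522 : ∀ i, i < 16522 → P i := stepQ 16521 Q16521 (allL N16521 (tt N18114 (iv F227372)) (tt N18128 (iv F227479)) (tt N18583 (iv F230157)) (tt N14336 F220749) (tt N15351 F220750) (tt N14331 F220751) (tt N18586 (iv F230170)) (tt N14580 F220752) (tt N18587 D51357) (tt N14330 (iv D49291)))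
theorem Q16523 : ∀ i, i < 16523 → P i := stepQ 16522 Q16522 (allL N16522 (tt N18556 (iv F230018)) (tt N18129 (iv F227486)) (tt N18584 (iv F230162)) (tt N18588 D51358) (tt N14332 F220753) (tt N18587 (iv F230173)) (tt N18579 (iv F230136)) (tt N14581 F220754) (tt N14331 (iv D49292)) (tt N18573 (iv F230113)))
theorem Q16524 : ∀ i, i < 16524 → P i := stepQ 16523 Q16523 (allL N16523 (tt N18558 (iv F230028)) (tt N15333 F220755) (tt N16523 F220756) (tt N18589 D51359) (tt N14334 F220757) (tt N18562 (iv F230057)) (tt N14337 F220758) (tt N15456 F220759) (tt N14333 (iv D49293)) (tt N16523 F220760))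
theorem Q16525 : ∀ i, i < 16525 → P i := stepQ 16524 Q16524 (allL N16524 (tt N14418 F220761) (tt N14464 F220762) (tt N16524 F220763) (tt N18138 (iv F227552)) (tt N14338 F220764) (tt N15387 F220765) (tt N14588 F220766) (tt N14335 (iv D49294)) (tt N16524 F220767) (tt N15852 (iv F220768)))
theorem Q16526 : ∀ i, i < 16526 → P i := stepQ 16525 Q16525 (allL N16525 (tt N18116 (iv F227383)) (tt N18130 (iv F227492)) (tt N16525 F220769) (tt N18586 (iv F230168)) (tt N14339 F220770) (tt N18560 (iv F230042)) (tt N14336 F220771) (tt N15852 F220772) (tt N15817 (iv F220773)) (tt N14335 (iv D49295)))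
theorem Q16527 : ∀ i, i < 16527 → P i := stepQ 16526 Q16526 (allL N16526 (tt N18117 (iv F227391)) (tt N18131 (iv F227500)) (tt N16526 F220774) (tt N18590 D51360) (tt N14340 F220775) (tt N14337 F220776) (tt N15817 F220777) (tt N14590 F220778) (tt N14336 (iv D49296)) (tt N16526 F220779))
theorem Q16528 : ∀ i, i < 16528 → P i := stepQ 16527 Q16527 (allL N16527 (tt N18559 (iv F230035)) (tt N18132 (iv F227508)) (tt N18591 D51361) (tt N14337 (iv D49297)) (tt N18529 (iv F229866)) (tt N18590 (iv F230182)) (tt N18589 (iv F230178)) (tt N14591 F220780) (tt N18588 (iv F230176)) (tt N16527 F220781))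
theorem Q16529 : ∀ i, i < 16529 → P i := stepQ 16528 Q16528 (allL N16528 (tt N18561 (iv F230046)) (tt N15321 F220782) (tt N14342 F220783) (tt N18592 D51362) (tt N16528 F220784) (tt N18530 (iv F229873)) (tt N14345 F220785) (tt N15422 F220786) (tt N14341 (iv D49298)) (tt N16528 F220787))
theorem Q16530 : ∀ i, i < 16530 → P i := stepQ 16529 Q16529 (allL N16529 (tt N14344 F220788) (tt N18557 (iv F230022)) (tt N14346 F220789) (tt N18580 (iv F230140)) (tt N16529 F220790) (tt N15360 F220791) (tt N15312 F220792) (tt N14608 F220793) (tt N18593 D51363) (tt N14343 (iv D49299)))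
theorem Q16531 : ∀ i, i < 16531 → P i := stepQ 16530 Q16530 (allL N16530 (tt N18593 (iv F230193)) (tt N14345 F220794) (tt N14347 F220795) (tt N18594 D51364) (tt N16530 F220796) (tt N15361 F220797) (tt N15321 F220798) (tt N14609 F220799) (tt N14344 (iv D49300)) (tt N16530 F220800))
theorem Q16532 : ∀ i, i < 16532 → P i := stepQ 16531 Q16531 (allL N16531 (tt N18563 (iv F230061)) (tt N18594 (iv F230200)) (tt N18531 (iv F229877)) (tt N14345 (iv D49301)) (tt N18595 D51365) (tt N15362 F220801) (tt N18592 (iv F230190)) (tt N14610 F220802) (tt N18585 (iv F230167)) (tt N16531 F220803))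
theorem Q16533 : ∀ i, i < 16533 → P i := stepQ 16532 Q16532 (allL N16532 (tt N14347 F220804) (tt N16532 F220805) (tt N18593 (iv F230194)) (tt N15332 F220806) (tt N16532 F220807) (tt N15367 F220808) (tt N15313 F220809) (tt N14621 F220810) (tt N14346 (iv D49302)) (tt N16532 F220811))
theorem Q16534 : ∀ i, i < 16534 → P i := stepQ 16533 Q16533 (allL N16533 (tt N16533 F220812) (tt N14352 F220813) (tt N15551 F220814) (tt N16533 F220815) (tt N15818 F220816) (tt N15427 F220817) (tt N14624 F220818) (tt N15820 F220819) (tt N14348 (iv D49303)) (tt N16533 F220820))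
theorem Q16535 : ∀ i, i < 16535 → P i := stepQ 16534 Q16534 (allL N16534 (tt N14358 F220821) (tt N14377 F220822) (tt N14408 F220823) (tt N14350 F220824) (tt N14460 F220825) (tt N14626 F220826) (tt N14351 F220827) (tt N14367 F220828) (tt N18596 D51366) (tt N14349 (iv D49304)))
theorem Q16536 : ∀ i, i < 16536 → P i := stepQ 16535 Q16535 (allL N16535 (tt N14361 F220829) (tt N15427 F220830) (tt N14410 F220831) (tt N16535 F220832) (tt N15426 F220833) (tt N14352 F220834) (tt N18596 (iv F230215)) (tt N18490 (iv F229603)) (tt N14351 (iv D49305)) (tt N16535 F220835))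
theorem Q16537 : ∀ i, i < 16537 → P i := stepQ 16536 Q16536 (allL N16536 (tt N14367 F220836) (tt N16536 F220837) (tt N14445 F220838) (tt N14354 F220839) (tt N14417 F220840) (tt N14630 F220841) (tt N14355 F220842) (tt N14358 F220843) (tt N18597 D51367) (tt N14353 (iv D49306)))
theorem Q16538 : ∀ i, i < 16538 → P i := stepQ 16537 Q16537 (allL N16537 (tt N14370 F220844) (tt N16537 F220845) (tt N15835 F220846) (tt N16537 F220847) (tt N14420 F220848) (tt N16537 F220849) (tt N18597 (iv F230224)) (tt N18491 (iv F229612)) (tt N14355 (iv D49307)) (tt N16537 F220850))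
theorem Q16539 : ∀ i, i < 16539 → P i := stepQ 16538 Q16538 (allL N16538 (tt N14455 F220851) (tt N16538 F220852) (tt N14446 F220853) (tt N14412 F220854) (tt N14631 F220855) (tt N14357 (iv D49308)) (tt N15531 F220856) (tt N14413 F220857) (tt N16538 F220858) (tt N18598 D51368))
theorem Q16540 : ∀ i, i < 16540 → P i := stepQ 16539 Q16539 (allL N16539 (tt N14460 F220859) (tt N16539 F220860) (tt N14447 F220861) (tt N14415 F220862) (tt N14358 F220863) (tt N18598 (iv F230232)) (tt N14360 F220864) (tt N14417 F220865) (tt N18599 D51369) (tt N14357 (iv D49309)))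
theorem Q16541 : ∀ i, i < 16541 → P i := stepQ 16540 Q16540 (allL N16540 (tt N18596 (iv F230209)) (tt N16540 F220866) (tt N14448 F220867) (tt N16540 F220868) (tt N18599 (iv F230239)) (tt N14633 F220869) (tt N14361 F220870) (tt N18597 (iv F230225)) (tt N14358 (iv D49310)) (tt N16540 F220871))
theorem Q16542 : ∀ i, i < 16542 → P i := stepQ 16541 Q16541 (allL N16541 (tt N15364 F220872) (tt N16541 F220873) (tt N14450 F220874) (tt N18171 (iv F227760)) (tt N14362 F220875) (tt N14360 F220876) (tt N15543 F220877) (tt N15365 F220878) (tt N18600 D51370) (tt N14359 (iv D49311)))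
theorem Q16543 : ∀ i, i < 16543 → P i := stepQ 16542 Q16542 (allL N16542 (tt N15426 F220879) (tt N16542 F220880) (tt N14451 F220881) (tt N15425 F220882) (tt N14361 F220883) (tt N18600 (iv F230248)) (tt N18599 (iv F230240)) (tt N18492 (iv F229621)) (tt N14360 (iv D49312)) (tt N16542 F220884))
theorem Q16544 : ∀ i, i < 16544 → P i := stepQ 16543 Q16543 (allL N16543 (tt N15823 F220885) (tt N16543 F220886) (tt N14453 F220887) (tt N15883 (iv F220892)) (tt N18600 (iv F230247)) (tt N14363 F220888) (tt N15874 F220889) (tt N15825 F220890) (tt N14362 (iv D49313)) (tt N16543 F220891))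
theorem Q16545 : ∀ i, i < 16545 → P i := stepQ 16544 Q16544 (allL N16544 (tt N18085 (iv F227147)) (tt N16544 F220893) (tt N15884 F220894) (tt N14363 (iv D49314)) (tt N16544 F220895) (tt N15883 F220896) (tt N14639 F220897) (tt N18493 (iv F229629)) (tt N16544 F220898) (tt N16544 F220899))
theorem Q16546 : ∀ i, i < 16546 → P i := stepQ 16545 Q16545 (allL N16545 (tt N14630 F220900) (tt N14375 F220901) (tt N14660 F220902) (tt N14365 F220903) (tt N15969 F220904) (tt N14367 F220905) (tt N16545 F220906) (tt N14626 F220907) (tt N18601 D51371) (tt N14364 (iv D49315)))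
theorem Q16547 : ∀ i, i < 16547 → P i := stepQ 16546 Q16546 (allL N16546 (tt N14445 F220908) (tt N18186 (iv F227862)) (tt N14367 F220909) (tt N14406 F220910) (tt N14462 F220911) (tt N14660 F220912) (tt N14369 F220913) (tt N14408 F220914) (tt N18602 D51372) (tt N14366 (iv D49316)))
theorem Q16548 : ∀ i, i < 16548 → P i := stepQ 16547 Q16547 (allL N16547 (tt N18597 (iv F230218)) (tt N14380 F220915) (tt N18602 (iv F230263)) (tt N16547 F220916) (tt N14463 F220917) (tt N18601 (iv F230257)) (tt N14370 F220918) (tt N18596 (iv F230216)) (tt N14367 (iv D49317)) (tt N16547 F220919))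
theorem Q16549 : ∀ i, i < 16549 → P i := stepQ 16548 Q16548 (allL N16548 (tt N15848 F220920) (tt N14369 F220921) (tt N14382 F220922) (tt N15845 F220923) (tt N14465 F220924) (tt N16548 F220925) (tt N18186 (iv F227867)) (tt N18120 (iv F227422)) (tt N15863 (iv F220926)) (tt N14368 (iv D49318)))
theorem Q16550 : ∀ i, i < 16550 → P i := stepQ 16549 Q16549 (allL N16549 (tt N15835 F220927) (tt N15863 F220928) (tt N14370 F220929) (tt N15834 F220930) (tt N14466 F220931) (tt N16549 F220932) (tt N18602 (iv F230267)) (tt N18494 (iv F229639)) (tt N14369 (iv D49319)) (tt N16549 F220933))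
theorem Q16551 : ∀ i, i < 16551 → P i := stepQ 16550 Q16550 (allL N16550 (tt N16550 F220934) (tt N14626 F220935) (tt N14917 F220936) (tt N14372 F220937) (tt N14729 F220938) (tt N14377 F220939) (tt N14623 F220940) (tt N14375 F220941) (tt N18298 (iv F228551)) (tt N14371 (iv D49320)))
theorem Q16552 : ∀ i, i < 16552 → P i := stepQ 16551 Q16551 (allL N16551 (tt N16551 F220942) (tt N18087 (iv F227166)) (tt N14375 F220943) (tt N16551 F220944) (tt N14914 F220945) (tt N14379 F220946) (tt N16551 F220947) (tt N14917 F220948) (tt N18489 (iv F229594)) (tt N14373 (iv D49321)))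
theorem Q16553 : ∀ i, i < 16553 → P i := stepQ 16552 Q16552 (allL N16552 (tt N16552 F220949) (tt N15969 F220950) (tt N14914 F220951) (tt N14640 F220952) (tt N14375 F220953) (tt N14473 F220954) (tt N16552 F220955) (tt N14729 F220956) (tt N18296 (iv F228533)) (tt N14374 (iv D49322)))
theorem Q16554 : ∀ i, i < 16554 → P i := stepQ 16553 Q16553 (allL N16553 (tt N16553 F220957) (tt N18601 (iv F230253)) (tt N18489 (iv F229589)) (tt N16553 F220958) (tt N18296 F228535) (tt N14380 F220959) (tt N16553 F220960) (tt N18298 (iv F228550)) (tt N14375 (iv D49323)) (tt N16553 F220961))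
theorem Q16555 : ∀ i, i < 16555 → P i := stepQ 16554 Q16554 (allL N16554 (tt N16554 F220962) (tt N18081 (iv F227112)) (tt N14377 F220963) (tt N16554 F220964) (tt N14476 F220965) (tt N14917 F220966) (tt N15092 F220967) (tt N14379 F220968) (tt N15547 (iv F220969)) (tt N14376 (iv D49324)))
theorem Q16556 : ∀ i, i < 16556 → P i := stepQ 16555 Q16555 (allL N16555 (tt N16555 F220970) (tt N18596 (iv F230210)) (tt N15547 F220971) (tt N16555 F220972) (tt N14477 F220973) (tt N18298 (iv F228548)) (tt N15427 F220974) (tt N14380 F220975) (tt N14377 (iv D49325)) (tt N16555 F220976))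
theorem Q16557 : ∀ i, i < 16557 → P i := stepQ 16556 Q16556 (allL N16556 (tt N18083 (iv F227129)) (tt N14379 F220977) (tt N18186 (iv F227863)) (tt N16556 F220978) (tt N14479 F220979) (tt N18087 (iv F227170)) (tt N14382 F220980) (tt N18081 (iv F227118)) (tt N18603 D51373) (tt N14378 (iv D49326)))
theorem Q16558 : ∀ i, i < 16558 → P i := stepQ 16557 Q16557 (allL N16557 (tt N16557 F220981) (tt N18603 (iv F230271)) (tt N14380 F220982) (tt N15876 (iv F220987)) (tt N14480 F220983) (tt N18489 (iv F229591)) (tt N14383 F220984) (tt N15547 F220985) (tt N14379 (iv D49327)) (tt N16557 F220986))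
theorem Q16559 : ∀ i, i < 16559 → P i := stepQ 16558 Q16558 (allL N16558 (tt N14382 F220988) (tt N16558 F220989) (tt N15848 F220990) (tt N16558 F220991) (tt N14481 F220992) (tt N16558 F220993) (tt N18083 (iv F227135)) (tt N18078 (iv F227091)) (tt N15864 F220994) (tt N14381 (iv D49328)))
theorem Q16560 : ∀ i, i < 16560 → P i := stepQ 16559 Q16559 (allL N16559 (tt N15864 F220995) (tt N14383 F220996) (tt N15863 F220997) (tt N15881 (iv F221001)) (tt N14482 F220998) (tt N16559 F220999) (tt N18603 (iv F230274)) (tt N18495 (iv F229647)) (tt N14382 (iv D49329)) (tt N16559 F221000))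
theorem Q16561 : ∀ i, i < 16561 → P i := stepQ 16560 Q16560 (allL N16560 (tt N16560 F221002) (tt N15881 F221003) (tt N16560 F221004) (tt N14383 (iv D49330)) (tt N15824 F221005) (tt N16560 F221006) (tt N15876 F221007) (tt N15827 F221008) (tt N16560 F221009) (tt N16560 F221010))
theorem Q16562 : ∀ i, i < 16562 → P i := stepQ 16561 Q16561 (allL N16561 (tt N15337 F221011) (tt N14395 F221012) (tt N15330 F221013) (tt N18212 (iv F228032)) (tt N16561 F221014) (tt N15435 F221015) (tt N14385 F221016) (tt N18166 (iv F227722)) (tt N14384 (iv D49331)) (tt N18604 D51374))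
theorem Q16563 : ∀ i, i < 16563 → P i := stepQ 16562 Q16562 (allL N16562 (tt N15082 F221017) (tt N14397 F221018) (tt N15090 F221019) (tt N18213 (iv F228039)) (tt N16562 F221020) (tt N15326 F221021) (tt N18604 (iv F230283)) (tt N15325 F221022) (tt N14489 F221023) (tt N14385 (iv D49332)))
theorem Q16564 : ∀ i, i < 16564 → P i := stepQ 16563 Q16563 (allL N16563 (tt N14543 F221024) (tt N14398 F221025) (tt N16563 F221026) (tt N14507 F221027) (tt N14641 F221028) (tt N14387 F221029) (tt N14499 F221030) (tt N14386 (iv D49333)) (tt N18605 D51375) (tt N14490 F221031))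
theorem Q16565 : ∀ i, i < 16565 → P i := stepQ 16564 Q16564 (allL N16564 (tt N15066 F221032) (tt N14399 F221033) (tt N16564 F221034) (tt N18606 D51376) (tt N14642 F221035) (tt N14388 F221036) (tt N15030 F221037) (tt N18605 (iv F230291)) (tt N14386 (iv D49334)) (tt N18607 D51377))
theorem Q16566 : ∀ i, i < 16566 → P i := stepQ 16565 Q16565 (allL N16565 (tt N15068 F221038) (tt N14400 F221039) (tt N16565 F221040) (tt N18608 D51378) (tt N14391 F221041) (tt N18605 (iv F230289)) (tt N18496 (iv F229656)) (tt N14388 F221042) (tt N14387 (iv D49335)) (tt N18609 D51379))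
theorem Q16567 : ∀ i, i < 16567 → P i := stepQ 16566 Q16566 (allL N16566 (tt N15063 F221043) (tt N14401 F221044) (tt N18196 (iv F227933)) (tt N14388 (iv D49336)) (tt N18181 (iv F227829)) (tt N18606 (iv F230294)) (tt N14389 F221045) (tt N18608 (iv F230308)) (tt N18212 (iv F228035)) (tt N18610 D51380))
theorem Q16568 : ∀ i, i < 16568 → P i := stepQ 16567 Q16567 (allL N16567 (tt N15069 F221046) (tt N14402 F221047) (tt N16567 F221048) (tt N18610 (iv F230318)) (tt N14392 F221049) (tt N18607 (iv F230301)) (tt N14390 F221050) (tt N18609 (iv F230314)) (tt N14494 F221051) (tt N14388 (iv D49337)))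
theorem Q16569 : ∀ i, i < 16569 → P i := stepQ 16568 Q16568 (allL N16568 (tt N15064 F221052) (tt N14405 F221053) (tt N18197 (iv F227939)) (tt N14390 F221054) (tt N18182 (iv F227837)) (tt N15028 F221055) (tt N18610 (iv F230319)) (tt N18499 (iv F229681)) (tt N18611 D51381) (tt N14389 (iv D49338)))
theorem Q16570 : ∀ i, i < 16570 → P i := stepQ 16569 Q16569 (allL N16569 (tt N15070 F221056) (tt N14406 F221057) (tt N16569 F221058) (tt N18186 (iv F227864)) (tt N18609 (iv F230312)) (tt N14648 F221059) (tt N15845 F221060) (tt N14392 F221061) (tt N14497 F221062) (tt N14391 (iv D49339)))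
theorem Q16571 : ∀ i, i < 16571 → P i := stepQ 16570 Q16570 (allL N16570 (tt N14422 F221063) (tt N14507 F221064) (tt N16570 F221065) (tt N14398 F221066) (tt N14737 F221067) (tt N14394 F221068) (tt N14490 F221069) (tt N14393 (iv D49340)) (tt N18612 D51382) (tt N14499 F221070))
theorem Q16572 : ∀ i, i < 16572 → P i := stepQ 16571 Q16571 (allL N16571 (tt N14423 F221071) (tt N15435 F221072) (tt N16571 F221073) (tt N18613 D51383) (tt N15600 F221074) (tt N14395 F221075) (tt N15368 F221076) (tt N18612 (iv F230330)) (tt N14393 (iv D49341)) (tt N18614 D51384))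
theorem Q16573 : ∀ i, i < 16573 → P i := stepQ 16572 Q16572 (allL N16572 (tt N14424 F221077) (tt N18166 (iv F227717)) (tt N16572 F221078) (tt N18615 D51385) (tt N16572 F221079) (tt N18612 (iv F230328)) (tt N15843 F221080) (tt N14395 F221081) (tt N14394 (iv D49342)) (tt N18616 D51386))
theorem Q16574 : ∀ i, i < 16574 → P i := stepQ 16573 Q16573 (allL N16573 (tt N14425 F221082) (tt N18212 (iv F228030)) (tt N18617 D51387) (tt N14395 (iv D49343)) (tt N18618 D51388) (tt N18613 (iv F230333)) (tt N14396 F221083) (tt N18615 (iv F230345)) (tt N14401 F221084) (tt N18619 D51389))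
theorem Q16575 : ∀ i, i < 16575 → P i := stepQ 16574 Q16574 (allL N16574 (tt N14426 F221085) (tt N18604 (iv F230279)) (tt N16574 F221086) (tt N18619 (iv F230370)) (tt N16574 F221087) (tt N18614 (iv F230340)) (tt N14397 F221088) (tt N18616 (iv F230353)) (tt N14503 F221089) (tt N14395 (iv D49344)))
theorem Q16576 : ∀ i, i < 16576 → P i := stepQ 16575 Q16575 (allL N16575 (tt N14427 F221090) (tt N14576 F221091) (tt N14396 (iv D49345)) (tt N16575 F221092) (tt N15496 (iv F221095)) (tt N14574 F221093) (tt N18617 (iv F230358)) (tt N18502 (iv F229703)) (tt N14403 F221094) (tt N18620 D51390))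
theorem Q16577 : ∀ i, i < 16577 → P i := stepQ 16576 Q16576 (allL N16576 (tt N14428 F221096) (tt N15060 F221097) (tt N15496 F221098) (tt N16576 F221099) (tt N14396 (iv D49346)) (tt N15058 F221100) (tt N18618 (iv F230366)) (tt N18503 (iv F229712)) (tt N14404 F221101) (tt N18621 D51391))
theorem Q16578 : ∀ i, i < 16578 → P i := stepQ 16577 Q16577 (allL N16577 (tt N14429 F221102) (tt N18213 (iv F228037)) (tt N18620 (iv F230374)) (tt N14397 F221103) (tt N18621 (iv F230382)) (tt N15371 F221104) (tt N18619 (iv F230371)) (tt N18504 (iv F229718)) (tt N18622 D51392) (tt N14396 (iv D49347)))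
theorem Q16579 : ∀ i, i < 16579 → P i := stepQ 16578 Q16578 (allL N16578 (tt N14430 F221105) (tt N14499 F221106) (tt N14411 F221107) (tt N14490 F221108) (tt N14649 F221109) (tt N14486 F221110) (tt N14398 (iv D49348)) (tt N14485 F221111) (tt N18623 D51393) (tt N14507 F221112))
theorem Q16580 : ∀ i, i < 16580 → P i := stepQ 16579 Q16579 (allL N16579 (tt N14431 F221113) (tt N18605 (iv F230286)) (tt N14412 F221114) (tt N18624 D51394) (tt N14650 F221115) (tt N14400 F221116) (tt N18623 (iv F230393)) (tt N14399 F221117) (tt N14398 (iv D49349)) (tt N18625 D51395))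
theorem Q16581 : ∀ i, i < 16581 → P i := stepQ 16580 Q16580 (allL N16580 (tt N14432 F221118) (tt N18606 (iv F230293)) (tt N18626 D51396) (tt N14399 (iv D49350)) (tt N18627 D51397) (tt N14401 F221119) (tt N15373 F221120) (tt N18624 (iv F230398)) (tt N18613 (iv F230335)) (tt N18628 D51398))
theorem Q16582 : ∀ i, i < 16582 → P i := stepQ 16581 Q16581 (allL N16581 (tt N14433 F221121) (tt N18607 (iv F230298)) (tt N14414 F221122) (tt N18628 (iv F230414)) (tt N14652 F221123) (tt N14402 F221124) (tt N15374 F221125) (tt N18625 (iv F230403)) (tt N14510 F221126) (tt N14399 (iv D49351)))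
theorem Q16583 : ∀ i, i < 16583 → P i := stepQ 16582 Q16582 (allL N16582 (tt N14434 F221127) (tt N18608 (iv F230305)) (tt N14437 F221128) (tt N14400 (iv D49352)) (tt N14436 F221129) (tt N18624 (iv F230397)) (tt N14440 F221130) (tt N14401 F221131) (tt N18615 (iv F230346)) (tt N18629 D51399))
theorem Q16584 : ∀ i, i < 16584 → P i := stepQ 16583 Q16583 (allL N16583 (tt N14435 F221132) (tt N18609 (iv F230310)) (tt N14415 F221133) (tt N18629 (iv F230419)) (tt N14406 F221134) (tt N18625 (iv F230402)) (tt N18508 (iv F229747)) (tt N14402 F221135) (tt N14512 F221136) (tt N14400 (iv D49353)))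
theorem Q16585 : ∀ i, i < 16585 → P i := stepQ 16584 Q16584 (allL N16584 (tt N14436 F221137) (tt N18146 (iv F227602)) (tt N14401 (iv D49354)) (tt N14416 F221138) (tt N14434 (iv F221141)) (tt N18626 (iv F230407)) (tt N14403 F221139) (tt N14437 F221140) (tt N18617 (iv F230360)) (tt N18630 D51400))
theorem Q16586 : ∀ i, i < 16586 → P i := stepQ 16585 Q16585 (allL N16585 (tt N14437 F221142) (tt N18181 (iv F227826)) (tt N14434 F221143) (tt N14407 F221144) (tt N14401 (iv D49355)) (tt N18631 D51401) (tt N14404 F221145) (tt N14436 F221146) (tt N18618 (iv F230368)) (tt N18632 D51402))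
theorem Q16587 : ∀ i, i < 16587 → P i := stepQ 16586 Q16586 (allL N16586 (tt N14438 F221147) (tt N18610 (iv F230317)) (tt N18630 (iv F230424)) (tt N14402 F221148) (tt N18632 (iv F230438)) (tt N18628 (iv F230415)) (tt N14405 F221149) (tt N18629 (iv F230422)) (tt N18633 D51403) (tt N14401 (iv D49356)))
theorem Q16588 : ∀ i, i < 16588 → P i := stepQ 16587 Q16587 (allL N16587 (tt N18138 (iv F227549)) (tt N14403 (iv D49357)) (tt N14555 F221150) (tt N14418 F221151) (tt N15466 F221152) (tt N14553 F221153) (tt N18146 (iv F227605)) (tt N18110 (iv F227348)) (tt N14576 F221154) (tt N18634 D51404))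
theorem Q16589 : ∀ i, i < 16589 → P i := stepQ 16588 Q16588 (allL N16588 (tt N14441 F221155) (tt N18634 (iv F230445)) (tt N14405 F221156) (tt N14419 F221157) (tt N18522 (iv F229834)) (tt N15379 F221158) (tt N18630 (iv F230427)) (tt N18510 (iv F229762)) (tt N18635 D51405) (tt N14403 (iv D49358)))
theorem Q16590 : ∀ i, i < 16590 → P i := stepQ 16589 Q16589 (allL N16589 (tt N14443 F221159) (tt N18182 (iv F227834)) (tt N18522 (iv F229832)) (tt N14409 F221160) (tt N14405 F221161) (tt N18175 (iv F227788)) (tt N18632 (iv F230439)) (tt N18511 (iv F229770)) (tt N18636 D51406) (tt N14404 (iv D49359)))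
theorem Q16591 : ∀ i, i < 16591 → P i := stepQ 16590 Q16590 (allL N16590 (tt N14444 F221162) (tt N18611 (iv F230321)) (tt N18635 (iv F230451)) (tt N14520 F221163) (tt N18636 (iv F230454)) (tt N15380 F221164) (tt N18633 (iv F230443)) (tt N18512 (iv F229774)) (tt N14405 (iv D49360)) (tt N18622 (iv F230387)))
theorem Q16592 : ∀ i, i < 16592 → P i := stepQ 16591 Q16591 (allL N16591 (tt N14446 F221165) (tt N15509 F221166) (tt N14455 F221167) (tt N18631 (iv F230432)) (tt N14661 F221168) (tt N14407 (iv D49361)) (tt N15511 F221169) (tt N14457 F221170) (tt N16591 F221171) (tt N18637 D51407))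
theorem Q16593 : ∀ i, i < 16593 → P i := stepQ 16592 Q16592 (allL N16592 (tt N14447 F221172) (tt N18184 (iv F227847)) (tt N14460 F221173) (tt N18632 (iv F230437)) (tt N14408 F221174) (tt N18637 (iv F230459)) (tt N14409 F221175) (tt N14462 F221176) (tt N18638 D51408) (tt N14407 (iv D49362)))
theorem Q16594 : ∀ i, i < 16594 → P i := stepQ 16593 Q16593 (allL N16593 (tt N14448 F221177) (tt N18187 (iv F227871)) (tt N18596 (iv F230211)) (tt N14525 F221178) (tt N18638 (iv F230465)) (tt N14663 F221179) (tt N14410 F221180) (tt N18602 (iv F230268)) (tt N14408 (iv D49363)) (tt N16593 F221181))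
theorem Q16595 : ∀ i, i < 16595 → P i := stepQ 16594 Q16594 (allL N16594 (tt N14451 F221182) (tt N15549 F221183) (tt N15426 F221184) (tt N18639 D51409) (tt N14410 F221185) (tt N18177 (iv F227801)) (tt N18638 (iv F230466)) (tt N18513 (iv F229781)) (tt N14409 (iv D49364)) (tt N16594 F221186))
theorem Q16596 : ∀ i, i < 16596 → P i := stepQ 16595 Q16595 (allL N16595 (tt N14454 F221187) (tt N16595 F221188) (tt N18623 (iv F230390)) (tt N15531 (iv F221193)) (tt N14665 F221189) (tt N15086 F221190) (tt N14412 F221191) (tt N15084 F221192) (tt N14411 (iv D49365)) (tt N18640 D51410))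
theorem Q16597 : ∀ i, i < 16597 → P i := stepQ 16596 Q16596 (allL N16596 (tt N14456 F221194) (tt N16596 F221195) (tt N18625 (iv F230400)) (tt N18598 (iv F230230)) (tt N14666 F221196) (tt N14415 F221197) (tt N18640 (iv F230479)) (tt N14414 F221198) (tt N14529 F221199) (tt N14412 (iv D49366)))
theorem Q16598 : ∀ i, i < 16598 → P i := stepQ 16597 Q16597 (allL N16597 (tt N14457 F221200) (tt N18160 (iv F227678)) (tt N14413 (iv D49367)) (tt N18626 (iv F230406)) (tt N14700 F221201) (tt N14416 F221202) (tt N15382 F221203) (tt N14446 F221204) (tt N16597 F221205) (tt N18641 D51411))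
theorem Q16599 : ∀ i, i < 16599 → P i := stepQ 16598 Q16598 (allL N16598 (tt N14459 F221206) (tt N16598 F221207) (tt N18641 (iv F230483)) (tt N14414 F221208) (tt N15777 F221209) (tt N14417 F221210) (tt N15383 F221211) (tt N18598 (iv F230234)) (tt N18642 D51412) (tt N14413 (iv D49368)))
theorem Q16600 : ∀ i, i < 16600 → P i := stepQ 16599 Q16599 (allL N16599 (tt N14462 F221212) (tt N18161 (iv F227685)) (tt N14417 F221213) (tt N18630 (iv F230425)) (tt N14445 F221214) (tt N18641 (iv F230485)) (tt N14419 F221215) (tt N14447 F221216) (tt N18643 D51413) (tt N14416 (iv D49369)))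
theorem Q16601 : ∀ i, i < 16601 → P i := stepQ 16600 Q16600 (allL N16600 (tt N14463 F221217) (tt N16600 F221218) (tt N18643 (iv F230497)) (tt N14537 F221219) (tt N18597 (iv F230222)) (tt N18642 (iv F230492)) (tt N14420 F221220) (tt N18599 (iv F230241)) (tt N14417 (iv D49370)) (tt N16600 F221221))
theorem Q16602 : ∀ i, i < 16602 → P i := stepQ 16601 Q16601 (allL N16601 (tt N15852 F221222) (tt N14419 F221223) (tt N16601 F221224) (tt N18634 (iv F230447)) (tt N15831 F221225) (tt N15388 F221226) (tt N18161 (iv F227688)) (tt N18116 (iv F227389)) (tt N15836 (iv F221227)) (tt N14418 (iv D49371)))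
theorem Q16603 : ∀ i, i < 16603 → P i := stepQ 16602 Q16602 (allL N16602 (tt N14466 F221228) (tt N15836 F221229) (tt N14420 F221230) (tt N18644 D51414) (tt N15835 F221231) (tt N15389 F221232) (tt N18643 (iv F230499)) (tt N18514 (iv F229789)) (tt N14419 (iv D49372)) (tt N16602 F221233))
theorem Q16604 : ∀ i, i < 16604 → P i := stepQ 16603 Q16603 (allL N16603 (tt N15600 F221234) (tt N15161 F221235) (tt N16603 F221236) (tt N18645 D51415) (tt N14423 F221237) (tt N16603 F221238) (tt N15146 F221239) (tt N18306 (iv F228607)) (tt N14421 (iv D49373)) (tt N18646 D51416))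
theorem Q16605 : ∀ i, i < 16605 → P i := stepQ 16604 Q16604 (allL N16604 (tt N18612 (iv F230324)) (tt N15839 F221240) (tt N16604 F221241) (tt N18647 D51417) (tt N18306 (iv F228604)) (tt N14424 F221242) (tt N15837 F221243) (tt N14423 F221244) (tt N14422 (iv D49374)) (tt N18648 D51418))
theorem Q16606 : ∀ i, i < 16606 → P i := stepQ 16605 Q16605 (allL N16605 (tt N18613 (iv F230331)) (tt N18133 (iv F227513)) (tt N18649 D51419) (tt N14423 (iv D49375)) (tt N18650 D51420) (tt N14425 F221245) (tt N15390 F221246) (tt N18647 (iv F230523)) (tt N14432 F221247) (tt N18651 D51421))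
theorem Q16607 : ∀ i, i < 16607 → P i := stepQ 16606 Q16606 (allL N16606 (tt N18614 (iv F230336)) (tt N18134 (iv F227520)) (tt N16606 F221248) (tt N18651 (iv F230537)) (tt N18646 (iv F230516)) (tt N14426 F221249) (tt N15391 F221250) (tt N18648 (iv F230529)) (tt N14546 F221251) (tt N14423 (iv D49376)))
theorem Q16608 : ∀ i, i < 16608 → P i := stepQ 16607 Q16607 (allL N16607 (tt N18615 (iv F230343)) (tt N15499 F221252) (tt N18618 (iv F230364)) (tt N14424 (iv D49377)) (tt N18617 F230361) (tt N18647 (iv F230521)) (tt N15496 F221253) (tt N14425 F221254) (tt N14434 F221255) (tt N18652 D51422))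
theorem Q16609 : ∀ i, i < 16609 → P i := stepQ 16608 Q16608 (allL N16608 (tt N18616 (iv F230349)) (tt N15849 F221256) (tt N16608 F221257) (tt N18652 (iv F230541)) (tt N16608 F221258) (tt N18648 (iv F230527)) (tt N15846 F221259) (tt N14426 F221260) (tt N14548 F221261) (tt N14424 (iv D49378)))
theorem Q16610 : ∀ i, i < 16610 → P i := stepQ 16609 Q16609 (allL N16609 (tt N18617 (iv F230355)) (tt N18653 D51423) (tt N14425 (iv D49379)) (tt N16609 F221262) (tt N18615 F230348) (tt N18649 (iv F230532)) (tt N14427 F221263) (tt N18618 (iv F230367)) (tt N14436 F221264) (tt N18654 D51424))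
theorem Q16611 : ∀ i, i < 16611 → P i := stepQ 16610 Q16610 (allL N16610 (tt N18618 (iv F230362)) (tt N18135 (iv F227528)) (tt N18615 F230347) (tt N16610 F221265) (tt N14425 (iv D49380)) (tt N18655 D51425) (tt N14428 F221266) (tt N18617 (iv F230359)) (tt N14437 F221267) (tt N18656 D51426))
theorem Q16612 : ∀ i, i < 16612 → P i := stepQ 16611 Q16611 (allL N16611 (tt N18619 (iv F230369)) (tt N18136 (iv F227535)) (tt N18654 (iv F230549)) (tt N14426 F221268) (tt N18656 (iv F230555)) (tt N18651 (iv F230538)) (tt N14429 F221269) (tt N18652 (iv F230543)) (tt N18657 D51427) (tt N14425 (iv D49381)))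
theorem Q16613 : ∀ i, i < 16613 → P i := stepQ 16612 Q16612 (allL N16612 (tt N18155 (iv F227651)) (tt N14427 (iv D49382)) (tt N18137 (iv F227541)) (tt N16612 F221270) (tt N18154 F227650) (tt N15394 F221271) (tt N18653 (iv F230546)) (tt N18516 (iv F229802)) (tt N14439 F221272) (tt N18658 D51428))
theorem Q16614 : ∀ i, i < 16614 → P i := stepQ 16613 Q16613 (allL N16613 (tt N15496 F221273) (tt N18154 (iv F227644)) (tt N14428 F221274) (tt N15843 F221277) (tt N14427 (iv D49383)) (tt N15494 F221275) (tt N18615 (iv F230344)) (tt N18500 (iv F229686)) (tt N14440 F221276) (tt N18659 D51429))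
theorem Q16615 : ∀ i, i < 16615 → P i := stepQ 16614 Q16614 (allL N16614 (tt N18620 (iv F230372)) (tt N18658 (iv F230560)) (tt N14429 F221278) (tt N16614 F221279) (tt N18659 (iv F230567)) (tt N15395 F221280) (tt N18654 (iv F230551)) (tt N18517 (iv F229807)) (tt N18660 D51430) (tt N14427 (iv D49384)))
theorem Q16616 : ∀ i, i < 16616 → P i := stepQ 16615 Q16615 (allL N16615 (tt N15058 F221281) (tt N14505 F221282) (tt N15494 F221283) (tt N16615 F221284) (tt N14488 F221285) (tt N14428 (iv D49385)) (tt N18661 D51431) (tt N18518 (iv F229814)) (tt N14442 F221286) (tt N18662 D51432))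
theorem Q16617 : ∀ i, i < 16617 → P i := stepQ 16616 Q16616 (allL N16616 (tt N18621 (iv F230378)) (tt N18139 (iv F227559)) (tt N18659 (iv F230565)) (tt N16616 F221287) (tt N14429 F221288) (tt N18662 (iv F230584)) (tt N18656 (iv F230556)) (tt N18519 (iv F229818)) (tt N18663 D51433) (tt N14428 (iv D49386)))
theorem Q16618 : ∀ i, i < 16618 → P i := stepQ 16617 Q16617 (allL N16617 (tt N18622 (iv F230384)) (tt N18140 (iv F227565)) (tt N18660 (iv F230569)) (tt N14557 F221289) (tt N18663 (iv F230585)) (tt N15397 F221290) (tt N18657 (iv F230558)) (tt N18520 (iv F229821)) (tt N14429 (iv D49387)) (tt N14444 F221291))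
theorem Q16619 : ∀ i, i < 16619 → P i := stepQ 16618 Q16618 (allL N16618 (tt N18623 (iv F230388)) (tt N15072 F221292) (tt N14454 F221293) (tt N18664 D51434) (tt N14679 F221294) (tt N15078 F221295) (tt N14431 F221296) (tt N15074 F221297) (tt N14430 (iv D49388)) (tt N18665 D51435))
theorem Q16620 : ∀ i, i < 16620 → P i := stepQ 16619 Q16619 (allL N16619 (tt N18624 (iv F230395)) (tt N18141 (iv F227571)) (tt N18631 (iv F230431)) (tt N14431 (iv D49389)) (tt N18666 D51436) (tt N14434 F221298) (tt N18664 (iv F230590)) (tt N14432 F221299) (tt N18647 (iv F230524)) (tt N18667 D51437))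
theorem Q16621 : ∀ i, i < 16621 → P i := stepQ 16620 Q16620 (allL N16620 (tt N18625 (iv F230399)) (tt N18142 (iv F227578)) (tt N14456 F221300) (tt N18667 (iv F230602)) (tt N14681 F221301) (tt N14435 F221302) (tt N18665 (iv F230597)) (tt N14433 F221303) (tt N14560 F221304) (tt N14431 (iv D49390)))
theorem Q16622 : ∀ i, i < 16622 → P i := stepQ 16621 Q16621 (allL N16621 (tt N18626 (iv F230405)) (tt N18668 D51438) (tt N14432 (iv D49391)) (tt N14457 F221305) (tt N18669 D51439) (tt N14436 F221306) (tt N15400 F221307) (tt N18631 (iv F230434)) (tt N18649 (iv F230534)) (tt N18670 D51440))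
theorem Q16623 : ∀ i, i < 16623 → P i := stepQ 16622 Q16622 (allL N16622 (tt N18627 (iv F230410)) (tt N18144 (iv F227593)) (tt N18669 (iv F230610)) (tt N14683 F221308) (tt N14432 (iv D49392)) (tt N18671 D51441) (tt N15401 F221309) (tt N18666 (iv F230601)) (tt N18650 (iv F230536)) (tt N18672 D51442))
theorem Q16624 : ∀ i, i < 16624 → P i := stepQ 16623 Q16623 (allL N16623 (tt N18628 (iv F230413)) (tt N18145 (iv F227597)) (tt N18670 (iv F230612)) (tt N14433 F221310) (tt N18672 (iv F230619)) (tt N14438 F221311) (tt N15402 F221312) (tt N18667 (iv F230604)) (tt N18673 D51443) (tt N14432 (iv D49393)))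
theorem Q16625 : ∀ i, i < 16625 → P i := stepQ 16624 Q16624 (allL N16624 (tt N18629 (iv F230417)) (tt N18147 (iv F227609)) (tt N18632 (iv F230436)) (tt N14435 F221313) (tt N18630 (iv F230426)) (tt N18667 (iv F230603)) (tt N18522 (iv F229836)) (tt N14438 F221314) (tt N18674 D51444) (tt N14434 (iv D49394)))
theorem Q16626 : ∀ i, i < 16626 → P i := stepQ 16625 Q16625 (allL N16625 (tt N18215 (iv F228051)) (tt N14436 (iv D49395)) (tt N18148 (iv F227614)) (tt N14461 F221315) (tt N18608 (iv F230306)) (tt N18668 (iv F230607)) (tt N14439 F221316) (tt N18181 (iv F227831)) (tt N18653 (iv F230548)) (tt N18675 D51445))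
theorem Q16627 : ∀ i, i < 16627 → P i := stepQ 16626 Q16626 (allL N16626 (tt N18630 (iv F230423)) (tt N18675 (iv F230626)) (tt N14438 F221317) (tt N14462 F221318) (tt N18629 (iv F230420)) (tt N18670 (iv F230614)) (tt N14441 F221319) (tt N18632 (iv F230440)) (tt N18676 D51446) (tt N14436 (iv D49396)))
theorem Q16628 : ∀ i, i < 16628 → P i := stepQ 16627 Q16627 (allL N16627 (tt N18631 (iv F230429)) (tt N18151 (iv F227632)) (tt N18624 (iv F230396)) (tt N14446 F221320) (tt N18671 (iv F230617)) (tt N14437 (iv D49397)) (tt N18677 D51447) (tt N18626 (iv F230409)) (tt N18655 (iv F230553)) (tt N18678 D51448))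
theorem Q16629 : ∀ i, i < 16629 → P i := stepQ 16628 Q16628 (allL N16628 (tt N18632 (iv F230435)) (tt N18152 (iv F227636)) (tt N18629 (iv F230418)) (tt N14447 F221321) (tt N14438 F221322) (tt N18678 (iv F230637)) (tt N14443 F221323) (tt N18630 (iv F230428)) (tt N18679 D51449) (tt N14437 (iv D49398)))
theorem Q16630 : ∀ i, i < 16630 → P i := stepQ 16629 Q16629 (allL N16629 (tt N18633 (iv F230441)) (tt N18153 (iv F227641)) (tt N18676 (iv F230629)) (tt N14572 F221324) (tt N18679 (iv F230638)) (tt N18673 (iv F230622)) (tt N14444 F221325) (tt N18674 (iv F230625)) (tt N14438 (iv D49399)) (tt N18657 (iv F230559)))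
theorem Q16631 : ∀ i, i < 16631 → P i := stepQ 16630 Q16630 (allL N16630 (tt N14439 (iv D49400)) (tt N18138 (iv F227550)) (tt N18154 (iv F227645)) (tt N14464 F221326) (tt N18137 F227548) (tt N15409 F221327) (tt N18215 (iv F228055)) (tt N18127 F227477) (tt N18155 (iv F227657)) (tt N18680 D51450))
theorem Q16632 : ∀ i, i < 16632 → P i := stepQ 16631 Q16631 (allL N16631 (tt N18137 (iv F227540)) (tt N14440 F221328) (tt N18155 (iv F227653)) (tt N18496 (iv F229653)) (tt N14439 (iv D49401)) (tt N18538 (iv F229920)) (tt N18608 (iv F230307)) (tt N18497 (iv F229664)) (tt N18154 (iv F227649)) (tt N18681 D51451))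
theorem Q16633 : ∀ i, i < 16633 → P i := stepQ 16632 Q16632 (allL N16632 (tt N18680 (iv F230640)) (tt N14441 F221329) (tt N18156 (iv F227659)) (tt N14465 F221330) (tt N18681 (iv F230648)) (tt N15411 F221331) (tt N18675 (iv F230628)) (tt N18524 (iv F229845)) (tt N18682 D51452) (tt N14439 (iv D49402)))
theorem Q16634 : ∀ i, i < 16634 → P i := stepQ 16633 Q16633 (allL N16633 (tt N15464 F221332) (tt N18538 (iv F229919)) (tt N14442 F221333) (tt N18505 (iv F229722)) (tt N14495 F221334) (tt N14440 (iv D49403)) (tt N18683 D51453) (tt N18506 (iv F229732)) (tt N15494 F221335) (tt N18684 D51454))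
theorem Q16635 : ∀ i, i < 16635 → P i := stepQ 16634 Q16634 (allL N16634 (tt N18522 (iv F229830)) (tt N18681 (iv F230646)) (tt N14443 F221336) (tt N18508 (iv F229745)) (tt N14441 F221337) (tt N18684 (iv F230661)) (tt N18629 (iv F230421)) (tt N18509 (iv F229755)) (tt N18685 D51455) (tt N14440 (iv D49404)))
theorem Q16636 : ∀ i, i < 16636 → P i := stepQ 16635 Q16635 (allL N16635 (tt N18635 (iv F230450)) (tt N18682 (iv F230649)) (tt N14444 F221338) (tt N18686 D51456) (tt N18685 (iv F230663)) (tt N15413 F221339) (tt N18676 (iv F230630)) (tt N18525 (iv F229848)) (tt N14441 (iv D49405)) (tt N18660 (iv F230571)))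
theorem Q16637 : ∀ i, i < 16637 → P i := stepQ 16636 Q16636 (allL N16636 (tt N15482 F221340) (tt N14514 F221341) (tt N18683 (iv F230653)) (tt N14449 F221342) (tt N14493 F221343) (tt N18677 (iv F230634)) (tt N14442 (iv D49406)) (tt N15485 F221344) (tt N18661 (iv F230578)) (tt N18687 D51457))
theorem Q16638 : ∀ i, i < 16638 → P i := stepQ 16637 Q16637 (allL N16637 (tt N18175 (iv F227783)) (tt N14519 F221345) (tt N18684 (iv F230659)) (tt N14450 F221346) (tt N14496 F221347) (tt N14443 F221348) (tt N18687 (iv F230671)) (tt N18526 (iv F229855)) (tt N18688 D51458) (tt N14442 (iv D49407)))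
theorem Q16639 : ∀ i, i < 16639 → P i := stepQ 16638 Q16638 (allL N16638 (tt N18636 (iv F230453)) (tt N18159 (iv F227674)) (tt N18685 (iv F230662)) (tt N18689 D51459) (tt N14444 F221349) (tt N18688 (iv F230675)) (tt N18679 (iv F230639)) (tt N18527 (iv F229857)) (tt N14443 (iv D49408)) (tt N18663 (iv F230586)))
theorem Q16640 : ∀ i, i < 16640 → P i := stepQ 16639 Q16639 (allL N16639 (tt N18602 (iv F230261)) (tt N15833 F221350) (tt N18597 (iv F230220)) (tt N14584 F221351) (tt N18643 (iv F230498)) (tt N14702 F221352) (tt N15835 F221353) (tt N14448 F221354) (tt N14445 (iv D49409)) (tt N16639 F221355))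
theorem Q16641 : ∀ i, i < 16641 → P i := stepQ 16640 Q16640 (allL N16640 (tt N15511 F221356) (tt N14523 F221357) (tt N15531 F221358) (tt N18677 (iv F230633)) (tt N14703 F221359) (tt N14449 F221360) (tt N14446 (iv D49410)) (tt N15515 (iv F221362)) (tt N16640 F221361) (tt N18690 D51460))
theorem Q16642 : ∀ i, i < 16642 → P i := stepQ 16641 Q16641 (allL N16641 (tt N18637 (iv F230455)) (tt N18162 (iv F227692)) (tt N18598 (iv F230229)) (tt N18678 (iv F230636)) (tt N14704 F221363) (tt N14447 F221364) (tt N18690 (iv F230683)) (tt N18641 (iv F230487)) (tt N18691 D51461) (tt N14446 (iv D49411)))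
theorem Q16643 : ∀ i, i < 16643 → P i := stepQ 16642 Q16642 (allL N16642 (tt N18638 (iv F230462)) (tt N18163 (iv F227698)) (tt N18599 (iv F230237)) (tt N18692 D51462) (tt N14448 F221365) (tt N18691 (iv F230686)) (tt N14451 F221366) (tt N18643 (iv F230500)) (tt N14447 (iv D49412)) (tt N16642 F221367))
theorem Q16644 : ∀ i, i < 16644 → P i := stepQ 16643 Q16643 (allL N16643 (tt N15522 F221368) (tt N14524 F221369) (tt N15543 F221370) (tt N18687 (iv F230669)) (tt N14452 F221371) (tt N18690 (iv F230682)) (tt N14450 F221372) (tt N15524 F221373) (tt N18693 D51463) (tt N14449 (iv D49413)))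
theorem Q16645 : ∀ i, i < 16645 → P i := stepQ 16644 Q16644 (allL N16644 (tt N18177 (iv F227797)) (tt N14526 F221374) (tt N18600 (iv F230245)) (tt N18694 D51464) (tt N14453 F221375) (tt N14451 F221376) (tt N18693 (iv F230695)) (tt N18528 (iv F229864)) (tt N14450 (iv D49414)) (tt N16644 F221377))
theorem Q16646 : ∀ i, i < 16646 → P i := stepQ 16645 Q16645 (allL N16645 (tt N18639 (iv F230469)) (tt N18164 (iv F227705)) (tt N18695 D51465) (tt N14451 (iv D49415)) (tt N14591 F221378) (tt N18694 (iv F230701)) (tt N18692 (iv F230689)) (tt N18529 (iv F229867)) (tt N18689 (iv F230677)) (tt N16645 F221379))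
theorem Q16647 : ∀ i, i < 16647 → P i := stepQ 16646 Q16646 (allL N16646 (tt N15859 F221380) (tt N14525 F221381) (tt N15874 F221382) (tt N18187 (iv F227873)) (tt N18693 (iv F230694)) (tt N14711 F221383) (tt N14453 F221384) (tt N15860 F221385) (tt N14452 (iv D49416)) (tt N16646 F221386))
theorem Q16648 : ∀ i, i < 16648 → P i := stepQ 16647 Q16647 (allL N16647 (tt N18640 (iv F230474)) (tt N14467 F221387) (tt N18665 (iv F230594)) (tt N15533 F221388) (tt N14713 F221389) (tt N15087 F221390) (tt N14456 F221391) (tt N15085 F221392) (tt N14594 F221393) (tt N14454 (iv D49417)))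
theorem Q16649 : ∀ i, i < 16649 → P i := stepQ 16648 Q16648 (allL N16648 (tt N14631 F221394) (tt N14468 F221395) (tt N14661 F221396) (tt N14715 F221397) (tt N14455 (iv D49418)) (tt N14625 F221398) (tt N15532 F221399) (tt N14458 F221400) (tt N16648 F221401) (tt N18696 D51466))
theorem Q16650 : ∀ i, i < 16650 → P i := stepQ 16649 Q16649 (allL N16649 (tt N18598 (iv F230227)) (tt N14469 F221402) (tt N18637 (iv F230457)) (tt N14456 F221403) (tt N18696 (iv F230713)) (tt N14460 F221404) (tt N15533 F221405) (tt N14459 F221406) (tt N18697 D51467) (tt N14455 (iv D49419)))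
theorem Q16651 : ∀ i, i < 16651 → P i := stepQ 16650 Q16650 (allL N16650 (tt N18219 (iv F228065)) (tt N14457 (iv D49420)) (tt N14470 F221407) (tt N18668 (iv F230606)) (tt N18356 (iv F228898)) (tt N14461 F221408) (tt N14595 F221409) (tt N15509 F221410) (tt N16650 F221411) (tt N18698 D51468))
theorem Q16652 : ∀ i, i < 16652 → P i := stepQ 16651 Q16651 (allL N16651 (tt N14700 F221412) (tt N18356 (iv F228896)) (tt N14458 F221413) (tt N18699 D51469) (tt N14457 (iv D49421)) (tt N14659 F221414) (tt N15416 F221415) (tt N14661 F221416) (tt N16651 F221417) (tt N18700 D51470))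
theorem Q16653 : ∀ i, i < 16653 → P i := stepQ 16652 Q16652 (allL N16652 (tt N18641 (iv F230482)) (tt N18698 (iv F230723)) (tt N14459 F221418) (tt N18670 (iv F230613)) (tt N18700 (iv F230736)) (tt N14462 F221419) (tt N15417 F221420) (tt N18637 (iv F230461)) (tt N18701 D51471) (tt N14457 (iv D49422)))
theorem Q16654 : ∀ i, i < 16654 → P i := stepQ 16653 Q16653 (allL N16653 (tt N15777 F221421) (tt N14473 F221422) (tt N18700 (iv F230735)) (tt N14720 F221423) (tt N14459 F221424) (tt N15969 F221425) (tt N15418 F221426) (tt N18696 (iv F230716)) (tt N18702 D51472) (tt N14458 (iv D49423)))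
theorem Q16655 : ∀ i, i < 16655 → P i := stepQ 16654 Q16654 (allL N16654 (tt N18642 (iv F230488)) (tt N14474 F221427) (tt N18701 (iv F230740)) (tt N14602 F221428) (tt N18702 (iv F230747)) (tt N14463 F221429) (tt N15419 F221430) (tt N18697 (iv F230721)) (tt N14459 (iv D49424)) (tt N16654 F221431))
theorem Q16656 : ∀ i, i < 16656 → P i := stepQ 16655 Q16655 (allL N16655 (tt N18599 (iv F230235)) (tt N14477 F221432) (tt N18638 (iv F230464)) (tt N14604 F221433) (tt N18596 (iv F230213)) (tt N18697 (iv F230719)) (tt N15426 F221434) (tt N14463 F221435) (tt N14460 (iv D49425)) (tt N16655 F221436))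
theorem Q16657 : ∀ i, i < 16657 → P i := stepQ 16656 Q16656 (allL N16656 (tt N18223 (iv F228090)) (tt N14462 F221437) (tt N14479 F221438) (tt N18675 (iv F230627)) (tt N18186 (iv F227865)) (tt N18698 (iv F230725)) (tt N14465 F221439) (tt N18184 (iv F227852)) (tt N18703 D51473) (tt N14461 (iv D49426)))
theorem Q16658 : ∀ i, i < 16658 → P i := stepQ 16657 Q16657 (allL N16657 (tt N18643 (iv F230495)) (tt N18703 (iv F230752)) (tt N14463 F221440) (tt N18704 D51474) (tt N18602 (iv F230265)) (tt N18701 (iv F230741)) (tt N14466 F221441) (tt N18638 (iv F230467)) (tt N14462 (iv D49427)) (tt N16657 F221442))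
theorem Q16659 : ∀ i, i < 16659 → P i := stepQ 16658 Q16658 (allL N16658 (tt N14465 F221443) (tt N15852 F221444) (tt N14481 F221445) (tt N18680 (iv F230642)) (tt N15848 F221446) (tt N15421 F221447) (tt N18223 (iv F228094)) (tt N18130 (iv F227497)) (tt N15865 (iv F221448)) (tt N14464 (iv D49428)))
theorem Q16660 : ∀ i, i < 16660 → P i := stepQ 16659 Q16659 (allL N16659 (tt N15865 F221449) (tt N14466 F221450) (tt N14482 F221451) (tt N18705 D51475) (tt N15863 F221452) (tt N15422 F221453) (tt N18703 (iv F230755)) (tt N18530 (iv F229875)) (tt N14465 (iv D49429)) (tt N16659 F221454))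
theorem Q16661 : ∀ i, i < 16661 → P i := stepQ 16660 Q16660 (allL N16660 (tt N18644 (iv F230502)) (tt N18705 (iv F230762)) (tt N14610 F221455) (tt N14466 (iv D49430)) (tt N18706 D51476) (tt N15423 F221456) (tt N18704 (iv F230759)) (tt N18531 (iv F229879)) (tt N18686 (iv F230666)) (tt N16660 F221457))
theorem Q16662 : ∀ i, i < 16662 → P i := stepQ 16661 Q16661 (allL N16661 (tt N16661 F221458) (tt N18696 (iv F230710)) (tt N14910 F221459) (tt N14725 F221460) (tt N14469 F221461) (tt N14729 F221462) (tt N15534 F221463) (tt N14473 F221464) (tt N18295 (iv F228525)) (tt N14468 (iv D49431)))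
theorem Q16663 : ∀ i, i < 16663 → P i := stepQ 16662 Q16662 (allL N16662 (tt N16662 F221465) (tt N18697 (iv F230717)) (tt N15530 F221466) (tt N14612 F221467) (tt N18295 (iv F228521)) (tt N14477 F221468) (tt N15535 F221469) (tt N14474 F221470) (tt N14469 (iv D49432)) (tt N16662 F221471))
theorem Q16664 : ∀ i, i < 16664 → P i := stepQ 16663 Q16663 (allL N16663 (tt N14470 (iv D49433)) (tt N16663 F221472) (tt N18219 (iv F228067)) (tt N14527 F221473) (tt N18090 (iv F227194)) (tt N14478 F221474) (tt N14528 F221475) (tt N15447 F221476) (tt N16663 F221477) (tt N18707 D51477))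
theorem Q16665 : ∀ i, i < 16665 → P i := stepQ 16664 Q16664 (allL N16664 (tt N18090 (iv F227190)) (tt N14471 F221478) (tt N18356 (iv F228897)) (tt N14874 F221479) (tt N14470 (iv D49434)) (tt N14979 F221480) (tt N14596 F221481) (tt N14977 F221482) (tt N16664 F221483) (tt N18708 D51478))
theorem Q16666 : ∀ i, i < 16666 → P i := stepQ 16665 Q16665 (allL N16665 (tt N18707 (iv F230771)) (tt N14472 F221484) (tt N18698 (iv F230724)) (tt N14594 F221485) (tt N18708 (iv F230779)) (tt N14479 F221486) (tt N14597 F221487) (tt N15510 F221488) (tt N18709 D51479) (tt N14470 (iv D49435)))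
theorem Q16667 : ∀ i, i < 16667 → P i := stepQ 16666 Q16666 (allL N16666 (tt N16666 F221489) (tt N18708 (iv F230777)) (tt N14473 F221490) (tt N14899 F221491) (tt N14472 F221492) (tt N14914 F221493) (tt N14611 F221494) (tt N14910 F221495) (tt N18482 (iv F229551)) (tt N14471 (iv D49436)))
theorem Q16668 : ∀ i, i < 16668 → P i := stepQ 16667 Q16667 (allL N16667 (tt N16667 F221496) (tt N18709 (iv F230783)) (tt N14474 F221497) (tt N15535 F221498) (tt N18482 (iv F229547)) (tt N14480 F221499) (tt N14612 F221500) (tt N15530 F221501) (tt N14472 (iv D49437)) (tt N16667 F221502))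
theorem Q16669 : ∀ i, i < 16669 → P i := stepQ 16668 Q16668 (allL N16668 (tt N16668 F221503) (tt N18702 (iv F230745)) (tt N18482 (iv F229546)) (tt N18291 (iv F228492)) (tt N14474 F221504) (tt N18296 (iv F228530)) (tt N15424 F221505) (tt N18295 (iv F228524)) (tt N14473 (iv D49438)) (tt N16668 F221506))
theorem Q16670 : ∀ i, i < 16670 → P i := stepQ 16669 Q16669 (allL N16669 (tt N18082 (iv F227120)) (tt N14476 F221507) (tt N18184 (iv F227848)) (tt N15089 F221508) (tt N18081 (iv F227115)) (tt N15510 F221509) (tt N15091 F221510) (tt N14479 F221511) (tt N15546 (iv F221512)) (tt N14475 (iv D49439)))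
theorem Q16671 : ∀ i, i < 16671 → P i := stepQ 16670 Q16670 (allL N16670 (tt N14479 F221513) (tt N16670 F221514) (tt N18223 (iv F228092)) (tt N18170 (iv F227747)) (tt N18083 (iv F227133)) (tt N18707 (iv F230774)) (tt N14481 F221515) (tt N18082 (iv F227127)) (tt N18710 D51480) (tt N14478 (iv D49440)))
theorem Q16672 : ∀ i, i < 16672 → P i := stepQ 16671 Q16671 (allL N16671 (tt N18710 (iv F230789)) (tt N14480 F221516) (tt N18703 (iv F230753)) (tt N15544 F221517) (tt N18603 (iv F230273)) (tt N18709 (iv F230785)) (tt N14482 F221518) (tt N15546 F221519) (tt N14479 (iv D49441)) (tt N16671 F221520))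
theorem Q16673 : ∀ i, i < 16673 → P i := stepQ 16672 Q16672 (allL N16672 (tt N14482 F221521) (tt N16672 F221522) (tt N15865 F221523) (tt N18600 (iv F230246)) (tt N15864 F221524) (tt N15425 F221525) (tt N18710 (iv F230794)) (tt N18532 (iv F229888)) (tt N14481 (iv D49442)) (tt N16672 F221526))
theorem Q16674 : ∀ i, i < 16674 → P i := stepQ 16673 Q16673 (allL N16673 (tt N18600 (iv F230243)) (tt N14483 F221527) (tt N18177 (iv F227799)) (tt N14482 (iv D49443)) (tt N15823 (iv F221533)) (tt N15426 F221528) (tt N15544 F221529) (tt N15366 F221530) (tt N15364 F221531) (tt N16673 F221532))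
theorem Q16675 : ∀ i, i < 16675 → P i := stepQ 16674 Q16674 (allL N16674 (tt N15074 F221534) (tt N14500 F221535) (tt N15084 F221536) (tt N18711 D51481) (tt N15552 F221537) (tt N14487 F221538) (tt N15372 F221539) (tt N18623 (iv F230394)) (tt N14485 (iv D49444)) (tt N18712 D51482))
theorem Q16676 : ∀ i, i < 16676 → P i := stepQ 16675 Q16675 (allL N16675 (tt N15078 F221540) (tt N14501 F221541) (tt N15086 F221542) (tt N18683 (iv F230654)) (tt N16675 F221543) (tt N18623 (iv F230392)) (tt N18505 (iv F229725)) (tt N14487 F221544) (tt N14486 (iv D49445)) (tt N18713 D51483))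
theorem Q16677 : ∀ i, i < 16677 → P i := stepQ 16676 Q16676 (allL N16676 (tt N15052 F221545) (tt N14502 F221546) (tt N15485 F221547) (tt N14487 (iv D49446)) (tt N18661 (iv F230576)) (tt N18711 (iv F230800)) (tt N14488 F221548) (tt N18683 (iv F230656)) (tt N14493 F221549) (tt N18714 D51484))
theorem Q16678 : ∀ i, i < 16678 → P i := stepQ 16677 Q16677 (allL N16677 (tt N15080 F221550) (tt N14503 F221551) (tt N15088 F221552) (tt N18714 (iv F230818)) (tt N16677 F221553) (tt N18712 (iv F230807)) (tt N14489 F221554) (tt N18713 (iv F230814)) (tt N18604 (iv F230284)) (tt N14487 (iv D49447)))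
theorem Q16679 : ∀ i, i < 16679 → P i := stepQ 16678 Q16678 (allL N16678 (tt N15059 F221555) (tt N14506 F221556) (tt N15495 F221557) (tt N14489 F221558) (tt N18662 (iv F230583)) (tt N15396 F221559) (tt N18714 (iv F230819)) (tt N18533 (iv F229895)) (tt N18715 D51485) (tt N14488 (iv D49448)))
theorem Q16680 : ∀ i, i < 16680 → P i := stepQ 16679 Q16679 (allL N16679 (tt N15837 F221560) (tt N14508 F221561) (tt N16679 F221562) (tt N18716 D51486) (tt N14738 F221563) (tt N14492 F221564) (tt N18612 (iv F230329)) (tt N14491 F221565) (tt N14490 (iv D49449)) (tt N18717 D51487))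
theorem Q16681 : ∀ i, i < 16681 → P i := stepQ 16680 Q16680 (allL N16680 (tt N18172 (iv F227761)) (tt N14509 F221566) (tt N18718 D51488) (tt N14491 (iv D49450)) (tt N18719 D51489) (tt N14493 F221567) (tt N15406 F221568) (tt N18716 (iv F230828)) (tt N18711 (iv F230802)) (tt N18720 D51490))
theorem Q16682 : ∀ i, i < 16682 → P i := stepQ 16681 Q16681 (allL N16681 (tt N18173 (iv F227768)) (tt N14510 F221569) (tt N16681 F221570) (tt N18720 (iv F230844)) (tt N14740 F221571) (tt N14494 F221572) (tt N15415 F221573) (tt N18717 (iv F230834)) (tt N18607 (iv F230303)) (tt N14491 (iv D49451)))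
theorem Q16683 : ∀ i, i < 16683 → P i := stepQ 16682 Q16682 (allL N16682 (tt N15486 F221574) (tt N14511 F221575) (tt N18661 (iv F230574)) (tt N14492 (iv D49452)) (tt N15485 F221576) (tt N18716 (iv F230827)) (tt N15494 F221577) (tt N14493 F221578) (tt N18683 (iv F230657)) (tt N18721 D51491))
theorem Q16684 : ∀ i, i < 16684 → P i := stepQ 16683 Q16683 (allL N16683 (tt N15838 F221579) (tt N14512 F221580) (tt N16683 F221581) (tt N18721 (iv F230849)) (tt N14497 F221582) (tt N18717 (iv F230833)) (tt N15844 F221583) (tt N14494 F221584) (tt N18609 (iv F230315)) (tt N14492 (iv D49453)))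
theorem Q16685 : ∀ i, i < 16685 → P i := stepQ 16684 Q16684 (allL N16684 (tt N15461 F221585) (tt N18722 D51492) (tt N14493 (iv D49454)) (tt N16684 F221586) (tt N18683 (iv F230655)) (tt N18718 (iv F230837)) (tt N14495 F221587) (tt N18661 (iv F230577)) (tt N15485 F221588) (tt N18723 D51493))
theorem Q16686 : ∀ i, i < 16686 → P i := stepQ 16685 Q16685 (allL N16685 (tt N18174 (iv F227776)) (tt N14515 F221589) (tt N18723 (iv F230861)) (tt N14494 F221590) (tt N18687 (iv F230670)) (tt N18720 (iv F230845)) (tt N14496 F221591) (tt N18721 (iv F230852)) (tt N18724 D51494) (tt N14493 (iv D49455)))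
theorem Q16687 : ∀ i, i < 16687 → P i := stepQ 16686 Q16686 (allL N16686 (tt N15432 F221592) (tt N14495 (iv D49456)) (tt N14516 F221593) (tt N16686 F221594) (tt N18538 F229925) (tt N15410 F221595) (tt N18722 (iv F230857)) (tt N18535 (iv F229908)) (tt N15444 F221596) (tt N18725 D51495))
theorem Q16688 : ∀ i, i < 16688 → P i := stepQ 16687 Q16687 (allL N16687 (tt N15465 F221597) (tt N18725 (iv F230867)) (tt N14496 F221598) (tt N16687 F221599) (tt N18684 (iv F230660)) (tt N15412 F221600) (tt N18723 (iv F230863)) (tt N18536 (iv F229914)) (tt N18726 D51496) (tt N14495 (iv D49457)))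
theorem Q16689 : ∀ i, i < 16689 → P i := stepQ 16688 Q16688 (allL N16688 (tt N18176 (iv F227791)) (tt N14520 F221601) (tt N18726 (iv F230872)) (tt N18611 (iv F230322)) (tt N18688 (iv F230674)) (tt N15414 F221602) (tt N18724 (iv F230865)) (tt N18537 (iv F229917)) (tt N14496 (iv D49458)) (tt N18715 (iv F230824)))
theorem Q16690 : ∀ i, i < 16690 → P i := stepQ 16689 Q16689 (allL N16689 (tt N14541 F221603) (tt N14649 F221604) (tt N16689 F221605) (tt N14747 F221606) (tt N14499 F221607) (tt N16689 F221608) (tt N14641 F221609) (tt N14498 (iv D49459)) (tt N18727 D51497) (tt N14737 F221610))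
theorem Q16691 : ∀ i, i < 16691 → P i := stepQ 16690 Q16690 (allL N16690 (tt N14542 F221611) (tt N15552 F221612) (tt N16690 F221613) (tt N18728 D51498) (tt N14500 F221614) (tt N16690 F221615) (tt N15180 F221616) (tt N18727 (iv F230881)) (tt N14498 (iv D49460)) (tt N18729 D51499))
theorem Q16692 : ∀ i, i < 16692 → P i := stepQ 16691 Q16691 (allL N16691 (tt N14544 F221617) (tt N18623 (iv F230389)) (tt N16691 F221618) (tt N18730 D51500) (tt N18727 (iv F230878)) (tt N14501 F221619) (tt N18605 (iv F230290)) (tt N14500 F221620) (tt N14499 (iv D49461)) (tt N18731 D51501))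
theorem Q16693 : ∀ i, i < 16693 → P i := stepQ 16692 Q16692 (allL N16692 (tt N14545 F221621) (tt N18711 (iv F230798)) (tt N18732 D51502) (tt N14500 (iv D49462)) (tt N18733 D51503) (tt N14502 F221622) (tt N15428 F221623) (tt N18730 (iv F230896)) (tt N14509 F221624) (tt N18734 D51504))
theorem Q16694 : ∀ i, i < 16694 → P i := stepQ 16693 Q16693 (allL N16693 (tt N14546 F221625) (tt N18712 (iv F230804)) (tt N16693 F221626) (tt N18734 (iv F230911)) (tt N18729 (iv F230890)) (tt N14503 F221627) (tt N15429 F221628) (tt N18731 (iv F230901)) (tt N18614 (iv F230342)) (tt N14500 (iv D49463)))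
theorem Q16695 : ∀ i, i < 16695 → P i := stepQ 16694 Q16694 (allL N16694 (tt N14547 F221629) (tt N18683 (iv F230652)) (tt N18735 D51505) (tt N14501 (iv D49464)) (tt N18722 (iv F230856)) (tt N18730 (iv F230895)) (tt N18538 (iv F229921)) (tt N14502 F221630) (tt N14511 F221631) (tt N18736 D51506))
theorem Q16696 : ∀ i, i < 16696 → P i := stepQ 16695 Q16695 (allL N16695 (tt N14548 F221632) (tt N18713 (iv F230811)) (tt N16695 F221633) (tt N18736 (iv F230922)) (tt N16695 F221634) (tt N18731 (iv F230900)) (tt N18539 (iv F229930)) (tt N14503 F221635) (tt N18616 (iv F230354)) (tt N14501 (iv D49465)))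
theorem Q16697 : ∀ i, i < 16697 → P i := stepQ 16696 Q16696 (allL N16696 (tt N14549 F221636) (tt N18737 D51507) (tt N14502 (iv D49466)) (tt N16696 F221637) (tt N18738 D51508) (tt N18732 (iv F230904)) (tt N14504 F221638) (tt N18735 (iv F230919)) (tt N14513 F221639) (tt N18739 D51509))
theorem Q16698 : ∀ i, i < 16698 → P i := stepQ 16697 Q16697 (allL N16697 (tt N14550 F221640) (tt N18661 (iv F230573)) (tt N18738 (iv F230933)) (tt N16697 F221641) (tt N14502 (iv D49467)) (tt N18740 D51510) (tt N14505 F221642) (tt N18722 (iv F230858)) (tt N14514 F221643) (tt N18741 D51511))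
theorem Q16699 : ∀ i, i < 16699 → P i := stepQ 16698 Q16698 (allL N16698 (tt N14551 F221644) (tt N18714 (iv F230816)) (tt N18739 (iv F230939)) (tt N14503 F221645) (tt N18741 (iv F230947)) (tt N18734 (iv F230912)) (tt N14506 F221646) (tt N18736 (iv F230923)) (tt N18742 D51512) (tt N14502 (iv D49468)))
theorem Q16700 : ∀ i, i < 16700 → P i := stepQ 16699 Q16699 (allL N16699 (tt N15410 F221647) (tt N14504 (iv D49469)) (tt N15444 F221648) (tt N16699 F221649) (tt N15409 F221652) (tt N15432 F221650) (tt N18737 (iv F230927)) (tt N18542 (iv F229949)) (tt N14516 F221651) (tt N18743 D51513))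
theorem Q16701 : ∀ i, i < 16701 → P i := stepQ 16700 Q16700 (allL N16700 (tt N14553 F221653) (tt N15409 F221654) (tt N14505 F221655) (tt N15387 F221657) (tt N14504 (iv D49470)) (tt N18138 (iv F227553)) (tt N18738 (iv F230934)) (tt N18543 (iv F229957)) (tt N14517 F221656) (tt N18744 D51514))
theorem Q16702 : ∀ i, i < 16702 → P i := stepQ 16701 Q16701 (allL N16701 (tt N14554 F221658) (tt N18743 (iv F230953)) (tt N14506 F221659) (tt N16701 F221660) (tt N18744 (iv F230962)) (tt N15433 F221661) (tt N18739 (iv F230941)) (tt N18544 (iv F229964)) (tt N18745 D51515) (tt N14504 (iv D49471)))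
theorem Q16703 : ∀ i, i < 16703 → P i := stepQ 16702 Q16702 (allL N16702 (tt N14556 F221662) (tt N18662 (iv F230580)) (tt N18744 (iv F230960)) (tt N16702 F221663) (tt N14506 F221664) (tt N18139 (iv F227563)) (tt N18741 (iv F230948)) (tt N18545 (iv F229968)) (tt N18746 D51516) (tt N14505 (iv D49472)))
theorem Q16704 : ∀ i, i < 16704 → P i := stepQ 16703 Q16703 (allL N16703 (tt N14557 F221665) (tt N18715 (iv F230821)) (tt N18745 (iv F230965)) (tt N18622 (iv F230385)) (tt N18746 (iv F230969)) (tt N15434 F221666) (tt N18742 (iv F230950)) (tt N18546 (iv F229971)) (tt N14506 (iv D49473)) (tt N14520 F221667))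
theorem Q16705 : ∀ i, i < 16705 → P i := stepQ 16704 Q16704 (allL N16704 (tt N14558 F221668) (tt N18612 (iv F230325)) (tt N14527 F221669) (tt N18747 D51517) (tt N14759 F221670) (tt N18166 (iv F227720)) (tt N14508 F221671) (tt N15435 F221672) (tt N14507 (iv D49474)) (tt N18748 D51518))
theorem Q16706 : ∀ i, i < 16706 → P i := stepQ 16705 Q16705 (allL N16705 (tt N14559 F221673) (tt N18716 (iv F230826)) (tt N18749 D51519) (tt N14508 (iv D49475)) (tt N18750 D51520) (tt N14511 F221674) (tt N18747 (iv F230972)) (tt N14509 F221675) (tt N18730 (iv F230897)) (tt N18751 D51521))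
theorem Q16707 : ∀ i, i < 16707 → P i := stepQ 16706 Q16706 (allL N16706 (tt N14560 F221676) (tt N18717 (iv F230830)) (tt N14529 F221677) (tt N18751 (iv F230987)) (tt N14761 F221678) (tt N14512 F221679) (tt N18748 (iv F230977)) (tt N14510 F221680) (tt N18625 (iv F230404)) (tt N14508 (iv D49476)))
theorem Q16708 : ∀ i, i < 16708 → P i := stepQ 16707 Q16707 (allL N16707 (tt N14561 F221681) (tt N18752 D51522) (tt N14509 (iv D49477)) (tt N14530 F221682) (tt N18753 D51523) (tt N14513 F221683) (tt N15438 F221684) (tt N18749 (iv F230982)) (tt N18732 (iv F230906)) (tt N18754 D51524))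
theorem Q16709 : ∀ i, i < 16709 → P i := stepQ 16708 Q16708 (allL N16708 (tt N14562 F221685) (tt N18719 (iv F230840)) (tt N18753 (iv F230994)) (tt N14763 F221686) (tt N14509 (iv D49478)) (tt N18755 D51525) (tt N15439 F221687) (tt N18750 (iv F230985)) (tt N18733 (iv F230909)) (tt N18756 D51526))
theorem Q16710 : ∀ i, i < 16710 → P i := stepQ 16709 Q16709 (allL N16709 (tt N14563 F221688) (tt N18720 (iv F230843)) (tt N18754 (iv F230997)) (tt N14510 F221689) (tt N18756 (iv F231006)) (tt N14515 F221690) (tt N15440 F221691) (tt N18751 (iv F230989)) (tt N18757 D51527) (tt N14509 (iv D49479)))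
theorem Q16711 : ∀ i, i < 16711 → P i := stepQ 16710 Q16710 (allL N16710 (tt N14564 F221692) (tt N18738 (iv F230932)) (tt N14511 (iv D49480)) (tt N14533 F221693) (tt N18737 F230930) (tt N18749 (iv F230981)) (tt N15409 F221694) (tt N14513 F221695) (tt N18735 (iv F230920)) (tt N18758 D51528))
theorem Q16712 : ∀ i, i < 16712 → P i := stepQ 16711 Q16711 (allL N16711 (tt N14565 F221696) (tt N15485 F221697) (tt N18737 (iv F230925)) (tt N14521 F221698) (tt N14511 (iv D49481)) (tt N18759 D51529) (tt N15444 F221699) (tt N14514 F221700) (tt N18722 (iv F230859)) (tt N18760 D51530))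
theorem Q16713 : ∀ i, i < 16713 → P i := stepQ 16712 Q16712 (allL N16712 (tt N14566 F221701) (tt N18721 (iv F230848)) (tt N18758 (iv F231012)) (tt N14512 F221702) (tt N18760 (iv F231023)) (tt N18751 (iv F230988)) (tt N18548 (iv F229982)) (tt N14515 F221703) (tt N18761 D51531) (tt N14511 (iv D49482)))
theorem Q16714 : ∀ i, i < 16714 → P i := stepQ 16713 Q16713 (allL N16713 (tt N18762 D51532) (tt N14513 (iv D49483)) (tt N18722 (iv F230854)) (tt N14535 F221704) (tt N18735 (iv F230917)) (tt N18752 (iv F230991)) (tt N14516 F221705) (tt N18738 (iv F230935)) (tt N18737 (iv F230929)) (tt N18763 D51533))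
theorem Q16715 : ∀ i, i < 16715 → P i := stepQ 16714 Q16714 (allL N16714 (tt N14568 F221706) (tt N18735 (iv F230915)) (tt N14514 F221707) (tt N16714 F221708) (tt N14513 (iv D49484)) (tt N18764 D51534) (tt N14517 F221709) (tt N18737 (iv F230928)) (tt N18738 (iv F230936)) (tt N18765 D51535))
theorem Q16716 : ∀ i, i < 16716 → P i := stepQ 16715 Q16715 (allL N16715 (tt N14569 F221710) (tt N18763 (iv F231035)) (tt N14515 F221711) (tt N14536 F221712) (tt N18765 (iv F231044)) (tt N18754 (iv F230999)) (tt N14518 F221713) (tt N18758 (iv F231015)) (tt N18766 D51536) (tt N14513 (iv D49485)))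
theorem Q16717 : ∀ i, i < 16717 → P i := stepQ 16716 Q16716 (allL N16716 (tt N14570 F221714) (tt N18677 (iv F230632)) (tt N18764 (iv F231039)) (tt N14523 F221715) (tt N18755 (iv F231003)) (tt N14514 (iv D49486)) (tt N18151 (iv F227634)) (tt N18759 (iv F231019)) (tt N18740 (iv F230944)) (tt N18767 D51537))
theorem Q16718 : ∀ i, i < 16718 → P i := stepQ 16717 Q16717 (allL N16717 (tt N14571 F221716) (tt N18687 (iv F230668)) (tt N18765 (iv F231042)) (tt N14524 F221717) (tt N14515 F221718) (tt N18767 (iv F231051)) (tt N14519 F221719) (tt N18760 (iv F231025)) (tt N18768 D51538) (tt N14514 (iv D49487)))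
theorem Q16719 : ∀ i, i < 16719 → P i := stepQ 16718 Q16718 (allL N16718 (tt N14572 F221720) (tt N18724 (iv F230864)) (tt N18766 (iv F231047)) (tt N18633 (iv F230442)) (tt N18768 (iv F231053)) (tt N18757 (iv F231009)) (tt N14520 F221721) (tt N18761 (iv F231027)) (tt N14515 (iv D49488)) (tt N18742 (iv F230951)))
theorem Q16720 : ∀ i, i < 16720 → P i := stepQ 16719 Q16719 (allL N16719 (tt N14516 (iv D49489)) (tt N14573 F221722) (tt N15432 F221723) (tt N14538 F221724) (tt N15394 (iv F221727)) (tt N15444 F221725) (tt N18762 (iv F231032)) (tt N18550 (iv F229995)) (tt N15410 F221726) (tt N18769 D51539))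
theorem Q16721 : ∀ i, i < 16721 → P i := stepQ 16720 Q16720 (allL N16720 (tt N15394 F221728) (tt N14517 F221729) (tt N18538 (iv F229924)) (tt N16720 F221730) (tt N14516 (iv D49490)) (tt N18155 (iv F227655)) (tt N18735 (iv F230918)) (tt N18540 (iv F229939)) (tt N15409 F221731) (tt N18770 D51540))
theorem Q16722 : ∀ i, i < 16722 → P i := stepQ 16721 Q16721 (allL N16721 (tt N18769 (iv F231055)) (tt N14518 F221732) (tt N18725 (iv F230868)) (tt N14539 F221733) (tt N18770 (iv F231064)) (tt N15445 F221734) (tt N18763 (iv F231037)) (tt N18553 (iv F230008)) (tt N18771 D51541) (tt N14516 (iv D49491)))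
theorem Q16723 : ∀ i, i < 16723 → P i := stepQ 16722 Q16722 (allL N16722 (tt N14577 F221735) (tt N18770 (iv F231062)) (tt N14519 F221736) (tt N16722 F221737) (tt N14518 F221738) (tt N18157 (iv F227667)) (tt N18765 (iv F231045)) (tt N18554 (iv F230013)) (tt N18772 D51542) (tt N14517 (iv D49492)))
theorem Q16724 : ∀ i, i < 16724 → P i := stepQ 16723 Q16723 (allL N16723 (tt N14578 F221739) (tt N18771 (iv F231065)) (tt N14520 F221740) (tt N18773 D51543) (tt N18772 (iv F231069)) (tt N15446 F221741) (tt N18766 (iv F231048)) (tt N18555 (iv F230017)) (tt N14518 (iv D49493)) (tt N18745 (iv F230967)))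
theorem Q16725 : ∀ i, i < 16725 → P i := stepQ 16724 Q16724 (allL N16724 (tt N14581 F221742) (tt N18688 (iv F230673)) (tt N18772 (iv F231068)) (tt N18774 D51544) (tt N14520 F221743) (tt N18159 (iv F227676)) (tt N18768 (iv F231054)) (tt N18556 (iv F230020)) (tt N14519 (iv D49494)) (tt N18746 (iv F230970)))
theorem Q16726 : ∀ i, i < 16726 → P i := stepQ 16725 Q16725 (allL N16725 (tt N14582 F221744) (tt N15515 F221745) (tt N16725 F221746) (tt N18759 (iv F231018)) (tt N14778 F221747) (tt N14521 (iv D49495)) (tt N18775 D51545) (tt N14523 F221748) (tt N16725 F221749) (tt N18776 D51546))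
theorem Q16727 : ∀ i, i < 16727 → P i := stepQ 16726 Q16726 (allL N16726 (tt N14583 F221750) (tt N15524 F221751) (tt N16726 F221752) (tt N18760 (iv F231022)) (tt N14522 F221753) (tt N18776 (iv F231086)) (tt N15455 F221754) (tt N14524 F221755) (tt N18777 D51547) (tt N14521 (iv D49496)))
theorem Q16728 : ∀ i, i < 16728 → P i := stepQ 16727 Q16727 (allL N16727 (tt N14584 F221756) (tt N15860 F221757) (tt N16727 F221758) (tt N18602 (iv F230264)) (tt N18777 (iv F231091)) (tt N14780 F221759) (tt N15834 F221760) (tt N14525 F221761) (tt N14522 (iv D49497)) (tt N16727 F221762))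
theorem Q16729 : ∀ i, i < 16729 → P i := stepQ 16728 Q16728 (allL N16728 (tt N14586 F221763) (tt N18690 (iv F230679)) (tt N16728 F221764) (tt N18767 (iv F231050)) (tt N14781 F221765) (tt N14524 F221766) (tt N18162 (iv F227696)) (tt N18776 (iv F231087)) (tt N18778 D51548) (tt N14523 (iv D49498)))
theorem Q16730 : ∀ i, i < 16730 → P i := stepQ 16729 Q16729 (allL N16729 (tt N14587 F221767) (tt N18693 (iv F230692)) (tt N16729 F221768) (tt N18779 D51549) (tt N14525 F221769) (tt N18778 (iv F231098)) (tt N14526 F221770) (tt N18777 (iv F231093)) (tt N14524 (iv D49499)) (tt N16729 F221771))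
theorem Q16731 : ∀ i, i < 16731 → P i := stepQ 16730 Q16730 (allL N16730 (tt N14591 F221772) (tt N18694 (iv F230698)) (tt N18780 D51550) (tt N14526 (iv D49500)) (tt N18639 (iv F230472)) (tt N18164 (iv F227707)) (tt N18779 (iv F231101)) (tt N18559 (iv F230036)) (tt N18774 (iv F231074)) (tt N16730 F221773))
theorem Q16732 : ∀ i, i < 16732 → P i := stepQ 16731 Q16731 (allL N16731 (tt N14594 F221774) (tt N16731 F221775) (tt N18748 (iv F230975)) (tt N18707 (iv F230773)) (tt N14785 F221776) (tt N18170 (iv F227749)) (tt N14529 F221777) (tt N15448 F221778) (tt N18640 (iv F230481)) (tt N14527 (iv D49501)))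
theorem Q16733 : ∀ i, i < 16733 → P i := stepQ 16732 Q16732 (allL N16732 (tt N14595 F221779) (tt N18781 D51551) (tt N14528 (iv D49502)) (tt N18749 (iv F230980)) (tt N18448 (iv F229366)) (tt N14533 F221780) (tt N18219 (iv F228070)) (tt N14530 F221781) (tt N16732 F221782) (tt N18782 D51552))
theorem Q16734 : ∀ i, i < 16734 → P i := stepQ 16733 Q16733 (allL N16733 (tt N14596 F221783) (tt N16733 F221784) (tt N18448 (iv F229365)) (tt N14787 F221785) (tt N14528 (iv D49503)) (tt N16733 F221786) (tt N18090 (iv F227196)) (tt N14531 F221787) (tt N16733 F221788) (tt N18783 D51553))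
theorem Q16735 : ∀ i, i < 16735 → P i := stepQ 16734 Q16734 (allL N16734 (tt N14597 F221789) (tt N16734 F221790) (tt N18782 (iv F231116)) (tt N14529 F221791) (tt N18783 (iv F231122)) (tt N14534 F221792) (tt N18707 (iv F230775)) (tt N14532 F221793) (tt N18784 D51554) (tt N14528 (iv D49504)))
theorem Q16736 : ∀ i, i < 16736 → P i := stepQ 16735 Q16735 (allL N16735 (tt N18775 (iv F231075)) (tt N14530 (iv D49505)) (tt N16735 F221794) (tt N18752 (iv F230990)) (tt N14861 F221795) (tt N14535 F221796) (tt N14582 F221797) (tt N18781 (iv F231113)) (tt N16735 F221798) (tt N18785 D51555))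
theorem Q16737 : ∀ i, i < 16737 → P i := stepQ 16736 Q16736 (allL N16736 (tt N14600 F221799) (tt N18785 (iv F231130)) (tt N14532 F221800) (tt N18754 (iv F230998)) (tt N18449 (iv F229373)) (tt N14536 F221801) (tt N15450 F221802) (tt N18782 (iv F231118)) (tt N18786 D51556) (tt N14530 (iv D49506)))
theorem Q16738 : ∀ i, i < 16738 → P i := stepQ 16737 Q16737 (allL N16737 (tt N14601 F221803) (tt N16737 F221804) (tt N18449 (iv F229372)) (tt N14792 F221805) (tt N14532 F221806) (tt N16737 F221807) (tt N15451 F221808) (tt N18783 (iv F231124)) (tt N18787 D51557) (tt N14531 (iv D49507)))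
theorem Q16739 : ∀ i, i < 16739 → P i := stepQ 16738 Q16738 (allL N16738 (tt N14602 F221809) (tt N16738 F221810) (tt N18786 (iv F231136)) (tt N18642 (iv F230490)) (tt N18787 (iv F231143)) (tt N14537 F221811) (tt N15452 F221812) (tt N18784 (iv F231128)) (tt N14532 (iv D49508)) (tt N16738 F221813))
theorem Q16740 : ∀ i, i < 16740 → P i := stepQ 16739 Q16739 (allL N16739 (tt N15384 F221814) (tt N14533 (iv D49509)) (tt N16739 F221815) (tt N18738 F230937) (tt N16739 F221816) (tt N18781 (iv F231111)) (tt N15387 F221817) (tt N14535 F221818) (tt N16739 F221819) (tt N18788 D51558))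
theorem Q16741 : ∀ i, i < 16741 → P i := stepQ 16740 Q16740 (allL N16740 (tt N14603 F221820) (tt N18788 (iv F231148)) (tt N14534 F221821) (tt N18758 (iv F231013)) (tt N16740 F221822) (tt N18782 (iv F231117)) (tt N15421 F221823) (tt N14536 F221824) (tt N18789 D51559) (tt N14533 (iv D49510)))
theorem Q16742 : ∀ i, i < 16742 → P i := stepQ 16741 Q16741 (allL N16741 (tt N14604 F221825) (tt N16741 F221826) (tt N18789 (iv F231156)) (tt N18599 (iv F230238)) (tt N16741 F221827) (tt N18784 (iv F231127)) (tt N15425 F221828) (tt N14537 F221829) (tt N14534 (iv D49511)) (tt N16741 F221830))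
theorem Q16743 : ∀ i, i < 16743 → P i := stepQ 16742 Q16742 (allL N16742 (tt N14535 (iv D49512)) (tt N14605 F221831) (tt N16742 F221832) (tt N18762 (iv F231030)) (tt N16742 F221833) (tt N18775 (iv F231079)) (tt N14538 F221834) (tt N15384 F221835) (tt N16742 F221836) (tt N18790 D51560))
theorem Q16744 : ∀ i, i < 16744 → P i := stepQ 16743 Q16743 (allL N16743 (tt N18790 (iv F231161)) (tt N14536 F221837) (tt N16743 F221838) (tt N18763 (iv F231036)) (tt N16743 F221839) (tt N18785 (iv F231133)) (tt N14539 F221840) (tt N18788 (iv F231152)) (tt N18791 D51561) (tt N14535 (iv D49513)))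
theorem Q16745 : ∀ i, i < 16745 → P i := stepQ 16744 Q16744 (allL N16744 (tt N14607 F221841) (tt N18791 (iv F231167)) (tt N14537 F221842) (tt N18792 D51562) (tt N16744 F221843) (tt N18786 (iv F231137)) (tt N14540 F221844) (tt N18789 (iv F231159)) (tt N14536 (iv D49514)) (tt N16744 F221845))
theorem Q16746 : ∀ i, i < 16746 → P i := stepQ 16745 Q16745 (allL N16745 (tt N14539 F221846) (tt N14608 F221847) (tt N16745 F221848) (tt N18769 (iv F231058)) (tt N16745 F221849) (tt N15455 F221850) (tt N18790 (iv F231165)) (tt N18557 (iv F230027)) (tt N18793 D51563) (tt N14538 (iv D49515)))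
theorem Q16747 : ∀ i, i < 16747 → P i := stepQ 16746 Q16746 (allL N16746 (tt N18793 (iv F231176)) (tt N14540 F221851) (tt N16746 F221852) (tt N18794 D51564) (tt N16746 F221853) (tt N15456 F221854) (tt N18791 (iv F231170)) (tt N18562 (iv F230059)) (tt N14539 (iv D49516)) (tt N16746 F221855))
theorem Q16748 : ∀ i, i < 16748 → P i := stepQ 16747 Q16747 (allL N16747 (tt N14610 F221856) (tt N18794 (iv F231182)) (tt N18644 (iv F230504)) (tt N14540 (iv D49517)) (tt N18795 D51565) (tt N15457 F221857) (tt N18792 (iv F231174)) (tt N18563 (iv F230063)) (tt N18773 (iv F231072)) (tt N16747 F221858))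
theorem Q16749 : ∀ i, i < 16749 → P i := stepQ 16748 Q16748 (allL N16748 (tt N18727 (iv F230875)) (tt N15757 F221859) (tt N16748 F221860) (tt N18796 D51566) (tt N14544 F221861) (tt N16748 F221862) (tt N15264 F221863) (tt N14542 F221864) (tt N14541 (iv D49518)) (tt N18797 D51567))
theorem Q16750 : ∀ i, i < 16750 → P i := stepQ 16749 Q16749 (allL N16749 (tt N18728 (iv F230882)) (tt N15729 F221865) (tt N18798 D51568) (tt N14542 (iv D49519)) (tt N18799 D51569) (tt N16749 F221866) (tt N15239 F221867) (tt N18796 (iv F231192)) (tt N14799 F221868) (tt N18800 D51570))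
theorem Q16751 : ∀ i, i < 16751 → P i := stepQ 16750 Q16750 (allL N16750 (tt N18729 (iv F230887)) (tt N15758 F221869) (tt N16750 F221870) (tt N18800 (iv F231209)) (tt N14546 F221871) (tt N16750 F221872) (tt N15263 F221873) (tt N18797 (iv F231199)) (tt N18646 (iv F230519)) (tt N14542 (iv D49520)))
theorem Q16752 : ∀ i, i < 16752 → P i := stepQ 16751 Q16751 (allL N16751 (tt N18605 (iv F230285)) (tt N15506 F221874) (tt N16751 F221875) (tt N18801 D51571) (tt N15264 F221876) (tt N15068 F221877) (tt N14544 F221878) (tt N15066 F221879) (tt N14543 (iv D49521)) (tt N18802 D51572))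
theorem Q16753 : ∀ i, i < 16753 → P i := stepQ 16752 Q16752 (allL N16752 (tt N18730 (iv F230894)) (tt N18188 (iv F227880)) (tt N18803 D51573) (tt N14544 (iv D49522)) (tt N18804 D51574) (tt N14547 F221880) (tt N18801 (iv F231214)) (tt N14545 F221881) (tt N14559 F221882) (tt N18805 D51575))
theorem Q16754 : ∀ i, i < 16754 → P i := stepQ 16753 Q16753 (allL N16753 (tt N18731 (iv F230898)) (tt N18189 (iv F227887)) (tt N16753 F221883) (tt N18805 (iv F231231)) (tt N18797 (iv F231196)) (tt N14548 F221884) (tt N18802 (iv F231221)) (tt N14546 F221885) (tt N18648 (iv F230530)) (tt N14544 (iv D49523)))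
theorem Q16755 : ∀ i, i < 16755 → P i := stepQ 16754 Q16754 (allL N16754 (tt N18732 (iv F230902)) (tt N18806 D51576) (tt N14545 (iv D49524)) (tt N16754 F221886) (tt N18807 D51577) (tt N14549 F221887) (tt N15458 F221888) (tt N18803 (iv F231227)) (tt N14561 F221889) (tt N18808 D51578))
theorem Q16756 : ∀ i, i < 16756 → P i := stepQ 16755 Q16755 (allL N16755 (tt N18733 (iv F230907)) (tt N18190 (iv F227895)) (tt N18807 (iv F231241)) (tt N18799 (iv F231205)) (tt N14545 (iv D49525)) (tt N18809 D51579) (tt N15459 F221890) (tt N18804 (iv F231229)) (tt N14562 F221891) (tt N18810 D51580))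
theorem Q16757 : ∀ i, i < 16757 → P i := stepQ 16756 Q16756 (allL N16756 (tt N18734 (iv F230910)) (tt N18191 (iv F227901)) (tt N18808 (iv F231244)) (tt N14546 F221892) (tt N18810 (iv F231250)) (tt N14551 F221893) (tt N15460 F221894) (tt N18805 (iv F231233)) (tt N18811 D51581) (tt N14545 (iv D49526)))
theorem Q16758 : ∀ i, i < 16758 → P i := stepQ 16757 Q16757 (allL N16757 (tt N18735 (iv F230914)) (tt N15392 F221895) (tt N14547 (iv D49527)) (tt N16757 F221896) (tt N18762 (iv F231031)) (tt N18803 (iv F231226)) (tt N15394 F221897) (tt N14549 F221898) (tt N14564 F221899) (tt N18812 D51582))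
theorem Q16759 : ∀ i, i < 16759 → P i := stepQ 16758 Q16758 (allL N16758 (tt N18722 (iv F230853)) (tt N15430 F221900) (tt N18762 (iv F231029)) (tt N16758 F221901) (tt N14547 (iv D49528)) (tt N18813 D51583) (tt N15432 F221902) (tt N14550 F221903) (tt N14565 F221904) (tt N18814 D51584))
theorem Q16760 : ∀ i, i < 16760 → P i := stepQ 16759 Q16759 (allL N16759 (tt N18736 (iv F230921)) (tt N18192 (iv F227907)) (tt N18812 (iv F231256)) (tt N14548 F221905) (tt N18814 (iv F231266)) (tt N18805 (iv F231232)) (tt N18565 (iv F230075)) (tt N14551 F221906) (tt N18815 D51585) (tt N14547 (iv D49529)))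
theorem Q16761 : ∀ i, i < 16761 → P i := stepQ 16760 Q16760 (allL N16760 (tt N15404 (iv F221912)) (tt N14549 (iv D49530)) (tt N15021 F221907) (tt N16760 F221908) (tt N15377 (iv F221913)) (tt N18806 (iv F231236)) (tt N14552 F221909) (tt N15392 F221910) (tt N14567 F221911) (tt N18816 D51586))
theorem Q16762 : ∀ i, i < 16762 → P i := stepQ 16761 Q16761 (allL N16761 (tt N18738 (iv F230931)) (tt N15377 F221914) (tt N14550 F221915) (tt N15384 (iv F221918)) (tt N14549 (iv D49531)) (tt N18817 D51587) (tt N14553 F221916) (tt N18762 (iv F231033)) (tt N14568 F221917) (tt N18818 D51588))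
theorem Q16763 : ∀ i, i < 16763 → P i := stepQ 16762 Q16762 (allL N16762 (tt N18739 (iv F230938)) (tt N18816 (iv F231272)) (tt N14551 F221919) (tt N16762 F221920) (tt N18818 (iv F231285)) (tt N18808 (iv F231246)) (tt N14554 F221921) (tt N18812 (iv F231259)) (tt N18819 D51589) (tt N14549 (iv D49532)))
theorem Q16764 : ∀ i, i < 16764 → P i := stepQ 16763 Q16763 (allL N16763 (tt N18740 (iv F230942)) (tt N18193 (iv F227914)) (tt N18817 (iv F231279)) (tt N16763 F221922) (tt N18809 (iv F231248)) (tt N14550 (iv D49533)) (tt N18820 D51590) (tt N18813 (iv F231262)) (tt N14570 F221923) (tt N18821 D51591))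
theorem Q16765 : ∀ i, i < 16765 → P i := stepQ 16764 Q16764 (allL N16764 (tt N18741 (iv F230945)) (tt N18194 (iv F227920)) (tt N18818 (iv F231283)) (tt N16764 F221924) (tt N14551 F221925) (tt N18821 (iv F231294)) (tt N14556 F221926) (tt N18814 (iv F231268)) (tt N18822 D51592) (tt N14550 (iv D49534)))
theorem Q16766 : ∀ i, i < 16766 → P i := stepQ 16765 Q16765 (allL N16765 (tt N18742 (iv F230949)) (tt N18195 (iv F227927)) (tt N18819 (iv F231287)) (tt N18657 (iv F230557)) (tt N18822 (iv F231295)) (tt N18811 (iv F231252)) (tt N14557 F221927) (tt N18815 (iv F231269)) (tt N14551 (iv D49535)) (tt N14572 F221928))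
theorem Q16767 : ∀ i, i < 16767 → P i := stepQ 16766 Q16766 (allL N16766 (tt N15412 F221929) (tt N14554 F221930) (tt N15023 F221931) (tt N16766 F221932) (tt N15379 F221933) (tt N15465 F221934) (tt N18816 (iv F231276)) (tt N18569 (iv F230096)) (tt N18823 D51593) (tt N14552 (iv D49536)))
theorem Q16768 : ∀ i, i < 16768 → P i := stepQ 16767 Q16767 (allL N16767 (tt N18744 (iv F230958)) (tt N15379 F221935) (tt N14556 F221936) (tt N15388 F221937) (tt N14554 F221938) (tt N18634 (iv F230449)) (tt N18818 (iv F231286)) (tt N18570 (iv F230101)) (tt N18824 D51594) (tt N14553 (iv D49537)))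
theorem Q16769 : ∀ i, i < 16769 → P i := stepQ 16768 Q16768 (allL N16768 (tt N18745 (iv F230964)) (tt N18823 (iv F231299)) (tt N14557 F221939) (tt N18825 D51595) (tt N18824 (iv F231306)) (tt N15468 F221940) (tt N18819 (iv F231288)) (tt N18571 (iv F230104)) (tt N14554 (iv D49538)) (tt N14578 F221941))
theorem Q16770 : ∀ i, i < 16770 → P i := stepQ 16769 Q16769 (allL N16769 (tt N18135 (iv F227527)) (tt N18196 (iv F227932)) (tt N18146 (iv F227603)) (tt N16769 F221942) (tt N15469 F221943) (tt N18820 (iv F231291)) (tt N14555 (iv D49539)) (tt N18149 (iv F227624)) (tt N14579 F221944) (tt N18826 D51596))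
theorem Q16771 : ∀ i, i < 16771 → P i := stepQ 16770 Q16770 (allL N16770 (tt N18139 (iv F227558)) (tt N18197 (iv F227938)) (tt N18634 (iv F230446)) (tt N16770 F221945) (tt N15083 F221946) (tt N14556 F221947) (tt N18826 (iv F231313)) (tt N18572 (iv F230110)) (tt N18827 D51597) (tt N14555 (iv D49540)))
theorem Q16772 : ∀ i, i < 16772 → P i := stepQ 16771 Q16771 (allL N16771 (tt N18746 (iv F230968)) (tt N18198 (iv F227945)) (tt N18824 (iv F231305)) (tt N18828 D51598) (tt N14557 F221948) (tt N18827 (iv F231315)) (tt N18822 (iv F231296)) (tt N18573 (iv F230112)) (tt N14556 (iv D49541)) (tt N14581 F221949))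
theorem Q16773 : ∀ i, i < 16773 → P i := stepQ 16772 Q16772 (allL N16772 (tt N18747 (iv F230971)) (tt N18143 F227591) (tt N18668 (iv F230605)) (tt N14558 (iv D49542)) (tt N18829 D51599) (tt N18148 (iv F227616)) (tt N14559 F221950) (tt N15471 F221951) (tt N18801 (iv F231216)) (tt N18830 D51600))
theorem Q16774 : ∀ i, i < 16774 → P i := stepQ 16773 Q16773 (allL N16773 (tt N18748 (iv F230974)) (tt N18165 (iv F227710)) (tt N14594 F221952) (tt N18830 (iv F231322)) (tt N14824 F221953) (tt N18167 (iv F227727)) (tt N14560 F221954) (tt N15472 F221955) (tt N18665 (iv F230599)) (tt N14558 (iv D49543)))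
theorem Q16775 : ∀ i, i < 16775 → P i := stepQ 16774 Q16774 (allL N16774 (tt N18749 (iv F230979)) (tt N15400 F221956) (tt N14559 (iv D49544)) (tt N14595 F221957) (tt N18831 D51601) (tt N14564 F221958) (tt N18668 (iv F230608)) (tt N14561 F221959) (tt N18803 (iv F231228)) (tt N18832 D51602))
theorem Q16776 : ∀ i, i < 16776 → P i := stepQ 16775 Q16775 (allL N16775 (tt N18750 (iv F230983)) (tt N18199 (iv F227950)) (tt N18831 (iv F231326)) (tt N14826 F221960) (tt N14559 (iv D49545)) (tt N18833 D51603) (tt N18829 (iv F231320)) (tt N14562 F221961) (tt N18804 (iv F231230)) (tt N18834 D51604))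
theorem Q16777 : ∀ i, i < 16777 → P i := stepQ 16776 Q16776 (allL N16776 (tt N18751 (iv F230986)) (tt N18200 (iv F227956)) (tt N18832 (iv F231329)) (tt N14560 F221962) (tt N18834 (iv F231338)) (tt N14566 F221963) (tt N18830 (iv F231323)) (tt N14563 F221964) (tt N18835 D51605) (tt N14559 (iv D49546)))
theorem Q16778 : ∀ i, i < 16778 → P i := stepQ 16777 Q16777 (allL N16777 (tt N18836 D51606) (tt N14561 (iv D49547)) (tt N15398 F221965) (tt N14598 F221966) (tt N18837 D51607) (tt N14567 F221967) (tt N15476 F221968) (tt N15400 F221969) (tt N18806 (iv F231239)) (tt N18838 D51608))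
theorem Q16779 : ∀ i, i < 16779 → P i := stepQ 16778 Q16778 (allL N16778 (tt N18753 (iv F230993)) (tt N18837 (iv F231348)) (tt N14562 F221970) (tt N18839 D51609) (tt N14561 (iv D49548)) (tt N18840 D51610) (tt N15477 F221971) (tt N18831 (iv F231327)) (tt N18807 (iv F231243)) (tt N18841 D51611))
theorem Q16780 : ∀ i, i < 16780 → P i := stepQ 16779 Q16779 (allL N16779 (tt N18754 (iv F230996)) (tt N18838 (iv F231352)) (tt N14563 F221972) (tt N14600 F221973) (tt N18841 (iv F231364)) (tt N14569 F221974) (tt N15478 F221975) (tt N18832 (iv F231332)) (tt N18842 D51612) (tt N14561 (iv D49549)))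
theorem Q16781 : ∀ i, i < 16781 → P i := stepQ 16780 Q16780 (allL N16780 (tt N18755 (iv F231001)) (tt N18203 (iv F227977)) (tt N18840 (iv F231361)) (tt N14831 F221976) (tt N14570 F221977) (tt N14562 (iv D49550)) (tt N18843 D51613) (tt N18833 (iv F231336)) (tt N18809 (iv F231249)) (tt N18844 D51614))
theorem Q16782 : ∀ i, i < 16782 → P i := stepQ 16781 Q16781 (allL N16781 (tt N18756 (iv F231004)) (tt N18204 (iv F227982)) (tt N18841 (iv F231363)) (tt N14832 F221978) (tt N14563 F221979) (tt N18844 (iv F231374)) (tt N15480 F221980) (tt N18834 (iv F231339)) (tt N18845 D51615) (tt N14562 (iv D49551)))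
theorem Q16783 : ∀ i, i < 16783 → P i := stepQ 16782 Q16782 (allL N16782 (tt N18757 (iv F231008)) (tt N18205 (iv F227986)) (tt N18842 (iv F231366)) (tt N18673 (iv F230621)) (tt N18845 (iv F231375)) (tt N14572 F221981) (tt N15481 F221982) (tt N18835 (iv F231341)) (tt N14563 (iv D49552)) (tt N18811 (iv F231254)))
theorem Q16784 : ∀ i, i < 16784 → P i := stepQ 16783 Q16783 (allL N16783 (tt N18737 (iv F230924)) (tt N15404 F221983) (tt N14565 F221984) (tt N16783 F221985) (tt N14564 (iv D49553)) (tt N18846 D51616) (tt N15410 F221986) (tt N14568 F221987) (tt N18762 (iv F231034)) (tt N18847 D51617))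
theorem Q16785 : ∀ i, i < 16785 → P i := stepQ 16784 Q16784 (allL N16784 (tt N18758 (iv F231011)) (tt N15405 F221988) (tt N14566 F221989) (tt N14603 F221990) (tt N18847 (iv F231384)) (tt N18832 (iv F231331)) (tt N15411 F221991) (tt N14569 F221992) (tt N18848 D51618) (tt N14564 (iv D49554)))
theorem Q16786 : ∀ i, i < 16786 → P i := stepQ 16785 Q16785 (allL N16785 (tt N18759 (iv F231016)) (tt N15438 F221993) (tt N18846 (iv F231378)) (tt N14582 F221994) (tt N18833 (iv F231335)) (tt N14565 (iv D49555)) (tt N18752 (iv F230992)) (tt N14570 F221995) (tt N18813 (iv F231263)) (tt N18849 D51619))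
theorem Q16787 : ∀ i, i < 16787 → P i := stepQ 16786 Q16786 (allL N16786 (tt N18760 (iv F231020)) (tt N15442 F221996) (tt N18847 (iv F231382)) (tt N14583 F221997) (tt N14566 F221998) (tt N18849 (iv F231393)) (tt N15445 F221999) (tt N14571 F222000) (tt N18850 D51620) (tt N14565 (iv D49556)))
theorem Q16788 : ∀ i, i < 16788 → P i := stepQ 16787 Q16787 (allL N16787 (tt N18761 (iv F231026)) (tt N18206 (iv F227990)) (tt N18848 (iv F231388)) (tt N18674 (iv F230624)) (tt N18850 (iv F231396)) (tt N18835 (iv F231340)) (tt N18576 (iv F230122)) (tt N14572 F222001) (tt N14566 (iv D49557)) (tt N18815 (iv F231270)))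
theorem Q16789 : ∀ i, i < 16789 → P i := stepQ 16788 Q16788 (allL N16788 (tt N14567 (iv D49558)) (tt N18762 (iv F231028)) (tt N15375 F222002) (tt N14605 F222003) (tt N15392 (iv F222007)) (tt N18836 (iv F231344)) (tt N14573 F222004) (tt N15377 F222005) (tt N15404 F222006) (tt N18851 D51621))
theorem Q16790 : ∀ i, i < 16790 → P i := stepQ 16789 Q16789 (allL N16789 (tt N15392 F222008) (tt N14568 F222009) (tt N15369 F222010) (tt N16789 F222011) (tt N14567 (iv D49559)) (tt N18852 D51622) (tt N14574 F222012) (tt N15404 F222013) (tt N15377 F222014) (tt N18853 D51623))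
theorem Q16791 : ∀ i, i < 16791 → P i := stepQ 16790 Q16790 (allL N16790 (tt N18851 (iv F231399)) (tt N14569 F222015) (tt N15403 F222016) (tt N14606 F222017) (tt N18853 (iv F231415)) (tt N18838 (iv F231355)) (tt N14575 F222018) (tt N15405 F222019) (tt N18854 D51624) (tt N14567 (iv D49560)))
theorem Q16792 : ∀ i, i < 16792 → P i := stepQ 16791 Q16791 (allL N16791 (tt N18764 (iv F231038)) (tt N18852 (iv F231406)) (tt N14570 F222020) (tt N16791 F222021) (tt N18840 (iv F231362)) (tt N14568 (iv D49561)) (tt N18855 D51625) (tt N18846 (iv F231380)) (tt N18817 (iv F231281)) (tt N18856 D51626))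
theorem Q16793 : ∀ i, i < 16793 → P i := stepQ 16792 Q16792 (allL N16792 (tt N18765 (iv F231041)) (tt N18853 (iv F231412)) (tt N14571 F222022) (tt N16792 F222023) (tt N14569 F222024) (tt N18856 (iv F231427)) (tt N14577 F222025) (tt N18847 (iv F231386)) (tt N18857 D51627) (tt N14568 (iv D49562)))
theorem Q16794 : ∀ i, i < 16794 → P i := stepQ 16793 Q16793 (allL N16793 (tt N18766 (iv F231046)) (tt N18854 (iv F231418)) (tt N14572 F222026) (tt N18858 D51628) (tt N18857 (iv F231429)) (tt N18842 (iv F231367)) (tt N14578 F222027) (tt N18848 (iv F231390)) (tt N14569 (iv D49563)) (tt N18819 (iv F231289)))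
theorem Q16795 : ∀ i, i < 16795 → P i := stepQ 16794 Q16794 (allL N16794 (tt N18151 (iv F227631)) (tt N18208 (iv F228004)) (tt N18855 (iv F231422)) (tt N14585 F222028) (tt N18843 (iv F231370)) (tt N14579 F222029) (tt N14570 (iv D49564)) (tt N18859 D51629) (tt N18820 (iv F231292)) (tt N18860 D51630))
theorem Q16796 : ∀ i, i < 16796 → P i := stepQ 16795 Q16795 (allL N16795 (tt N18767 (iv F231049)) (tt N18209 (iv F228009)) (tt N18856 (iv F231425)) (tt N14586 F222030) (tt N18844 (iv F231373)) (tt N14571 F222031) (tt N18860 (iv F231437)) (tt N18849 (iv F231394)) (tt N18861 D51631) (tt N14570 (iv D49565)))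
theorem Q16797 : ∀ i, i < 16797 → P i := stepQ 16796 Q16796 (allL N16796 (tt N18768 (iv F231052)) (tt N18210 (iv F228015)) (tt N18857 (iv F231428)) (tt N18862 D51632) (tt N14572 F222032) (tt N18861 (iv F231438)) (tt N14581 F222033) (tt N18850 (iv F231398)) (tt N14571 (iv D49566)) (tt N18822 (iv F231297)))
theorem Q16798 : ∀ i, i < 16798 → P i := stepQ 16797 Q16797 (allL N16797 (tt N14575 F222034) (tt N18769 (iv F231056)) (tt N15396 F222035) (tt N14608 F222036) (tt N15395 F222037) (tt N15495 F222038) (tt N18851 (iv F231403)) (tt N18580 (iv F230144)) (tt N18863 D51633) (tt N14573 (iv D49567)))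
theorem Q16799 : ∀ i, i < 16799 → P i := stepQ 16798 Q16798 (allL N16798 (tt N15395 F222039) (tt N14577 F222040) (tt N15371 F222041) (tt N16798 F222042) (tt N14575 F222043) (tt N18620 (iv F230377)) (tt N18853 (iv F231416)) (tt N18581 (iv F230151)) (tt N18864 D51634) (tt N14574 (iv D49568)))
theorem Q16800 : ∀ i, i < 16800 → P i := stepQ 16799 Q16799 (allL N16799 (tt N18863 (iv F231441)) (tt N14578 F222044) (tt N18211 (iv F228022)) (tt N18865 D51635) (tt N18864 (iv F231449)) (tt N15498 F222045) (tt N18854 (iv F231420)) (tt N18582 (iv F230156)) (tt N14575 (iv D49569)) (tt N18823 (iv F231303)))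
theorem Q16801 : ∀ i, i < 16801 → P i := stepQ 16800 Q16800 (allL N16800 (tt N18149 (iv F227620)) (tt N18617 (iv F230356)) (tt N14579 F222046) (tt N16800 F222047) (tt N15499 F222048) (tt N18855 (iv F231424)) (tt N14576 (iv D49570)) (tt N18135 (iv F227532)) (tt N18146 (iv F227607)) (tt N18866 D51636))
theorem Q16802 : ∀ i, i < 16802 → P i := stepQ 16801 Q16801 (allL N16801 (tt N18157 (iv F227663)) (tt N18620 (iv F230373)) (tt N14580 F222049) (tt N16801 F222050) (tt N15500 F222051) (tt N14577 F222052) (tt N18866 (iv F231457)) (tt N18583 (iv F230161)) (tt N18867 D51637) (tt N14576 (iv D49571)))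
theorem Q16803 : ∀ i, i < 16803 → P i := stepQ 16802 Q16802 (allL N16802 (tt N18772 (iv F231067)) (tt N18864 (iv F231447)) (tt N14581 F222053) (tt N18868 D51638) (tt N14578 F222054) (tt N18867 (iv F231460)) (tt N18857 (iv F231430)) (tt N18584 (iv F230164)) (tt N14577 (iv D49572)) (tt N18824 (iv F231307)))
theorem Q16804 : ∀ i, i < 16804 → P i := stepQ 16803 Q16803 (allL N16803 (tt N18773 (iv F231070)) (tt N18865 (iv F231451)) (tt N18686 (iv F230664)) (tt N14578 (iv D49573)) (tt N18869 D51639) (tt N15502 F222055) (tt N18858 (iv F231431)) (tt N18585 (iv F230166)) (tt N14610 F222056) (tt N18825 (iv F231310)))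
theorem Q16805 : ∀ i, i < 16805 → P i := stepQ 16804 Q16804 (allL N16804 (tt N18146 (iv F227601)) (tt N18215 (iv F228052)) (tt N18135 (iv F227529)) (tt N14588 F222057) (tt N15503 F222058) (tt N18859 (iv F231434)) (tt N18138 (iv F227554)) (tt N14579 (iv D49574)) (tt N18149 (iv F227625)) (tt N18870 D51640))
theorem Q16806 : ∀ i, i < 16806 → P i := stepQ 16805 Q16805 (allL N16805 (tt N18152 (iv F227635)) (tt N18216 (iv F228056)) (tt N18866 (iv F231454)) (tt N14589 F222059) (tt N15504 F222060) (tt N18860 (iv F231436)) (tt N14580 F222061) (tt N18870 (iv F231466)) (tt N18871 D51641) (tt N14579 (iv D49575)))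
theorem Q16807 : ∀ i, i < 16807 → P i := stepQ 16806 Q16806 (allL N16806 (tt N18159 (iv F227673)) (tt N18217 (iv F228060)) (tt N18867 (iv F231458)) (tt N18872 D51642) (tt N15505 F222062) (tt N14581 F222063) (tt N18871 (iv F231468)) (tt N18587 (iv F230174)) (tt N14580 (iv D49576)) (tt N18827 (iv F231316)))
theorem Q16808 : ∀ i, i < 16808 → P i := stepQ 16807 Q16807 (allL N16807 (tt N18774 (iv F231073)) (tt N18218 (iv F228063)) (tt N18873 D51643) (tt N14581 (iv D49577)) (tt N18689 (iv F230676)) (tt N18872 (iv F231469)) (tt N18862 (iv F231439)) (tt N18588 (iv F230175)) (tt N14591 F222064) (tt N18828 (iv F231318)))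
theorem Q16809 : ∀ i, i < 16809 → P i := stepQ 16808 Q16808 (allL N16808 (tt N18776 (iv F231082)) (tt N15450 F222065) (tt N16808 F222066) (tt N18849 (iv F231392)) (tt N14862 F222067) (tt N14583 F222068) (tt N18785 (iv F231134)) (tt N14586 F222069) (tt N18874 D51644) (tt N14582 (iv D49578)))
theorem Q16810 : ∀ i, i < 16810 → P i := stepQ 16809 Q16809 (allL N16809 (tt N18777 (iv F231088)) (tt N15454 F222070) (tt N16809 F222071) (tt N18875 D51645) (tt N14584 F222072) (tt N18874 (iv F231475)) (tt N15456 F222073) (tt N14587 F222074) (tt N14583 (iv D49579)) (tt N16809 F222075))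
theorem Q16811 : ∀ i, i < 16811 → P i := stepQ 16810 Q16810 (allL N16810 (tt N18160 (iv F227677)) (tt N18219 (iv F228066)) (tt N16810 F222076) (tt N18859 (iv F231433)) (tt N14864 F222077) (tt N14588 F222078) (tt N18781 (iv F231112)) (tt N14585 (iv D49580)) (tt N16810 F222079) (tt N18876 D51646))
theorem Q16812 : ∀ i, i < 16812 → P i := stepQ 16811 Q16811 (allL N16811 (tt N18162 (iv F227691)) (tt N18220 (iv F228073)) (tt N16811 F222080) (tt N18860 (iv F231435)) (tt N14865 F222081) (tt N14589 F222082) (tt N14586 F222083) (tt N18876 (iv F231485)) (tt N18877 D51647) (tt N14585 (iv D49581)))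
theorem Q16813 : ∀ i, i < 16813 → P i := stepQ 16812 Q16812 (allL N16812 (tt N18778 (iv F231095)) (tt N18221 (iv F228079)) (tt N16812 F222084) (tt N18878 D51648) (tt N14866 F222085) (tt N14587 F222086) (tt N18877 (iv F231490)) (tt N18874 (iv F231476)) (tt N14586 (iv D49582)) (tt N16812 F222087))
theorem Q16814 : ∀ i, i < 16814 → P i := stepQ 16813 Q16813 (allL N16813 (tt N18779 (iv F231100)) (tt N18222 (iv F228086)) (tt N18879 D51649) (tt N14587 (iv D49583)) (tt N18692 (iv F230688)) (tt N18878 (iv F231493)) (tt N14591 F222088) (tt N18875 (iv F231480)) (tt N18862 (iv F231440)) (tt N16813 F222089))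
theorem Q16815 : ∀ i, i < 16815 → P i := stepQ 16814 Q16814 (allL N16814 (tt N18161 (iv F227684)) (tt N18223 (iv F228091)) (tt N16814 F222090) (tt N18870 (iv F231463)) (tt N14592 F222091) (tt N18876 (iv F231484)) (tt N15852 F222092) (tt N14589 F222093) (tt N15862 (iv F222094)) (tt N14588 (iv D49584)))
theorem Q16816 : ∀ i, i < 16816 → P i := stepQ 16815 Q16815 (allL N16815 (tt N18163 (iv F227697)) (tt N18224 (iv F228098)) (tt N16815 F222095) (tt N18880 D51650) (tt N14593 F222096) (tt N18877 (iv F231489)) (tt N14590 F222097) (tt N15862 F222098) (tt N14589 (iv D49585)) (tt N16815 F222099))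
theorem Q16817 : ∀ i, i < 16817 → P i := stepQ 16816 Q16816 (allL N16816 (tt N18164 (iv F227704)) (tt N18225 (iv F228105)) (tt N18881 D51651) (tt N14590 (iv D49586)) (tt N18185 (iv F227856)) (tt N14591 F222100) (tt N18880 (iv F231499)) (tt N18590 (iv F230184)) (tt N18872 (iv F231470)) (tt N16816 F222101))
theorem Q16818 : ∀ i, i < 16818 → P i := stepQ 16817 Q16817 (allL N16817 (tt N18780 (iv F231103)) (tt N18882 D51652) (tt N14591 (iv D49587)) (tt N16817 F222102) (tt N18695 (iv F230705)) (tt N18881 (iv F231505)) (tt N18879 (iv F231496)) (tt N18591 (iv F230187)) (tt N18873 (iv F231471)) (tt N16817 F222103))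
theorem Q16819 : ∀ i, i < 16819 → P i := stepQ 16818 Q16818 (allL N16818 (tt N18448 (iv F229363)) (tt N15416 F222104) (tt N14596 F222105) (tt N18883 D51653) (tt N14595 (iv D49588)) (tt N16818 F222106) (tt N18356 (iv F228900)) (tt N14599 F222107) (tt N16818 F222108) (tt N18884 D51654))
theorem Q16820 : ∀ i, i < 16820 → P i := stepQ 16819 Q16819 (allL N16819 (tt N18782 (iv F231115)) (tt N15417 F222109) (tt N14597 F222110) (tt N18832 (iv F231330)) (tt N18884 (iv F231517)) (tt N14603 F222111) (tt N18698 (iv F230726)) (tt N14600 F222112) (tt N18885 D51655) (tt N14595 (iv D49589)))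
theorem Q16821 : ∀ i, i < 16821 → P i := stepQ 16820 Q16820 (allL N16820 (tt N18783 (iv F231119)) (tt N14611 F222113) (tt N18884 (iv F231516)) (tt N14879 F222114) (tt N14597 F222115) (tt N16820 F222116) (tt N18708 (iv F230781)) (tt N14601 F222117) (tt N18886 D51656) (tt N14596 (iv D49590)))
theorem Q16822 : ∀ i, i < 16822 → P i := stepQ 16821 Q16821 (allL N16821 (tt N18784 (iv F231125)) (tt N14612 F222118) (tt N18885 (iv F231521)) (tt N18697 (iv F230718)) (tt N18886 (iv F231526)) (tt N14604 F222119) (tt N18709 (iv F230786)) (tt N14602 F222120) (tt N14597 (iv D49591)) (tt N16821 F222121))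
theorem Q16823 : ∀ i, i < 16823 → P i := stepQ 16822 Q16822 (allL N16822 (tt N14598 (iv D49592)) (tt N18775 (iv F231076)) (tt N14613 F222122) (tt N18836 (iv F231343)) (tt N18887 D51657) (tt N14605 F222123) (tt N15515 F222124) (tt N15382 F222125) (tt N16822 F222126) (tt N18888 D51658))
theorem Q16824 : ∀ i, i < 16824 → P i := stepQ 16823 Q16823 (allL N16823 (tt N18887 (iv F231530)) (tt N14599 F222127) (tt N14614 F222128) (tt N18889 D51659) (tt N14598 (iv D49593)) (tt N16823 F222129) (tt N15516 F222130) (tt N15416 F222131) (tt N16823 F222132) (tt N18890 D51660))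
theorem Q16825 : ∀ i, i < 16825 → P i := stepQ 16824 Q16824 (allL N16824 (tt N18888 (iv F231537)) (tt N14600 F222133) (tt N14615 F222134) (tt N18838 (iv F231354)) (tt N18890 (iv F231549)) (tt N14606 F222135) (tt N15517 F222136) (tt N15417 F222137) (tt N18891 D51661) (tt N14598 (iv D49594)))
theorem Q16826 : ∀ i, i < 16826 → P i := stepQ 16825 Q16825 (allL N16825 (tt N18422 (iv F229232)) (tt N18889 (iv F231542)) (tt N14884 F222138) (tt N14599 (iv D49595)) (tt N18839 (iv F231359)) (tt N16825 F222139) (tt N15518 F222140) (tt N18883 (iv F231514)) (tt N18892 D51662) (tt N18893 D51663))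
theorem Q16827 : ∀ i, i < 16827 → P i := stepQ 16826 Q16826 (allL N16826 (tt N18449 (iv F229370)) (tt N18890 (iv F231547)) (tt N14601 F222141) (tt N18893 (iv F231564)) (tt N14600 F222142) (tt N16826 F222143) (tt N15519 F222144) (tt N18884 (iv F231519)) (tt N18894 D51664) (tt N14599 (iv D49596)))
theorem Q16828 : ∀ i, i < 16828 → P i := stepQ 16827 Q16827 (allL N16827 (tt N18786 (iv F231135)) (tt N18891 (iv F231553)) (tt N14602 F222145) (tt N18895 D51665) (tt N18894 (iv F231568)) (tt N14607 F222146) (tt N15520 F222147) (tt N18885 (iv F231523)) (tt N14600 (iv D49597)) (tt N16827 F222148))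
theorem Q16829 : ∀ i, i < 16829 → P i := stepQ 16828 Q16828 (allL N16828 (tt N18787 (iv F231140)) (tt N14618 F222149) (tt N18894 (iv F231567)) (tt N18896 D51666) (tt N14602 F222150) (tt N16828 F222151) (tt N15521 F222152) (tt N18886 (iv F231528)) (tt N14601 (iv D49598)) (tt N16828 F222153))
theorem Q16830 : ∀ i, i < 16830 → P i := stepQ 16829 Q16829 (allL N16829 (tt N18789 (iv F231154)) (tt N15420 F222154) (tt N14604 F222155) (tt N18897 D51667) (tt N16829 F222156) (tt N18885 (iv F231522)) (tt N15422 F222157) (tt N14607 F222158) (tt N14603 (iv D49599)) (tt N16829 F222159))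
theorem Q16831 : ∀ i, i < 16831 → P i := stepQ 16830 Q16830 (allL N16830 (tt N14606 F222160) (tt N18790 (iv F231162)) (tt N14619 F222161) (tt N18851 (iv F231401)) (tt N16830 F222162) (tt N18888 (iv F231539)) (tt N14608 F222163) (tt N15385 F222164) (tt N18898 D51668) (tt N14605 (iv D49600)))
theorem Q16832 : ∀ i, i < 16832 → P i := stepQ 16831 Q16831 (allL N16831 (tt N18898 (iv F231586)) (tt N14607 F222165) (tt N14620 F222166) (tt N18899 D51669) (tt N16831 F222167) (tt N18891 (iv F231555)) (tt N14609 F222168) (tt N15420 F222169) (tt N14606 (iv D49601)) (tt N16831 F222170))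
theorem Q16833 : ∀ i, i < 16833 → P i := stepQ 16832 Q16832 (allL N16832 (tt N18792 (iv F231173)) (tt N18899 (iv F231592)) (tt N18704 (iv F230758)) (tt N14607 (iv D49602)) (tt N18900 D51670) (tt N18895 (iv F231572)) (tt N14610 F222171) (tt N18897 (iv F231584)) (tt N18858 (iv F231432)) (tt N16832 F222172))
theorem Q16834 : ∀ i, i < 16834 → P i := stepQ 16833 Q16833 (allL N16833 (tt N14609 F222173) (tt N18793 (iv F231177)) (tt N14621 F222174) (tt N18226 (iv F228110)) (tt N16833 F222175) (tt N15527 F222176) (tt N18898 (iv F231589)) (tt N18593 (iv F230198)) (tt N14608 (iv D49603)) (tt N16833 F222177))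
theorem Q16835 : ∀ i, i < 16835 → P i := stepQ 16834 Q16834 (allL N16834 (tt N18226 (iv F228109)) (tt N14610 F222178) (tt N18185 (iv F227855)) (tt N14609 (iv D49604)) (tt N18881 (iv F231504)) (tt N15528 F222179) (tt N18899 (iv F231594)) (tt N18594 (iv F230204)) (tt N18865 (iv F231453)) (tt N16834 F222180))
theorem Q16836 : ∀ i, i < 16836 → P i := stepQ 16835 Q16835 (allL N16835 (tt N18795 (iv F231185)) (tt N18881 (iv F231502)) (tt N18706 (iv F230768)) (tt N16835 F222181) (tt N14610 (iv D49605)) (tt N18882 (iv F231509)) (tt N18900 (iv F231598)) (tt N18595 (iv F230207)) (tt N18869 (iv F231462)) (tt N16835 F222182))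
theorem Q16837 : ∀ i, i < 16837 → P i := stepQ 16836 Q16836 (allL N16836 (tt N16836 F222183) (tt N18886 (iv F231525)) (tt N15424 F222184) (tt N18294 (iv F228513)) (tt N14612 F222185) (tt N16836 F222186) (tt N18482 (iv F229549)) (tt N14618 F222187) (tt N14611 (iv D49606)) (tt N16836 F222188))
theorem Q16838 : ∀ i, i < 16838 → P i := stepQ 16837 Q16837 (allL N16837 (tt N14614 F222189) (tt N16837 F222190) (tt N18887 (iv F231532)) (tt N14919 F222191) (tt N14613 (iv D49607)) (tt N16837 F222192) (tt N15536 F222193) (tt N14920 F222194) (tt N16837 F222195) (tt N18901 D51671))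
theorem Q16839 : ∀ i, i < 16839 → P i := stepQ 16838 Q16838 (allL N16838 (tt N14615 F222196) (tt N16838 F222197) (tt N18888 (iv F231538)) (tt N15381 F222198) (tt N18901 (iv F231603)) (tt N14619 F222199) (tt N15537 F222200) (tt N15383 F222201) (tt N18902 D51672) (tt N14613 (iv D49608)))
theorem Q16840 : ∀ i, i < 16840 → P i := stepQ 16839 Q16839 (allL N16839 (tt N18901 (iv F231600)) (tt N14616 F222202) (tt N18890 (iv F231548)) (tt N15607 F222203) (tt N14615 F222204) (tt N16839 F222205) (tt N15539 F222206) (tt N15418 F222207) (tt N18903 D51673) (tt N14614 (iv D49609)))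
theorem Q16841 : ∀ i, i < 16841 → P i := stepQ 16840 Q16840 (allL N16840 (tt N18902 (iv F231607)) (tt N14617 F222208) (tt N18891 (iv F231554)) (tt N15514 F222209) (tt N18903 (iv F231616)) (tt N14620 F222210) (tt N15540 F222211) (tt N15419 F222212) (tt N14615 (iv D49610)) (tt N16840 F222213))
theorem Q16842 : ∀ i, i < 16842 → P i := stepQ 16841 Q16841 (allL N16841 (tt N16841 F222214) (tt N18903 (iv F231614)) (tt N14618 F222215) (tt N15299 F222216) (tt N14617 F222217) (tt N16841 F222218) (tt N15542 F222219) (tt N15424 F222220) (tt N14616 (iv D49611)) (tt N16841 F222221))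
theorem Q16843 : ∀ i, i < 16843 → P i := stepQ 16842 Q16842 (allL N16842 (tt N16842 F222222) (tt N18896 (iv F231576)) (tt N15290 F222223) (tt N14618 (iv D49612)) (tt N18291 (iv F228493)) (tt N16842 F222224) (tt N15293 F222225) (tt N18294 (iv F228517)) (tt N14911 F222226) (tt N16842 F222227))
theorem Q16844 : ∀ i, i < 16844 → P i := stepQ 16843 Q16843 (allL N16843 (tt N14620 F222228) (tt N16843 F222229) (tt N18898 (iv F231587)) (tt N15453 F222230) (tt N16843 F222231) (tt N18902 (iv F231610)) (tt N14621 F222232) (tt N15386 F222233) (tt N14619 (iv D49613)) (tt N16843 F222234))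
theorem Q16845 : ∀ i, i < 16845 → P i := stepQ 16844 Q16844 (allL N16844 (tt N14632 F222235) (tt N14729 F222236) (tt N14662 F222237) (tt N14728 F222238) (tt N14626 F222239) (tt N18696 (iv F230714)) (tt N14627 F222240) (tt N15969 F222241) (tt N18297 (iv F228540)) (tt N14625 (iv D49614)))
theorem Q16846 : ∀ i, i < 16846 → P i := stepQ 16845 Q16845 (allL N16845 (tt N14633 F222242) (tt N18298 (iv F228545)) (tt N14663 F222243) (tt N16845 F222244) (tt N18297 F228543) (tt N18596 (iv F230214)) (tt N14628 F222245) (tt N18601 (iv F230259)) (tt N14626 (iv D49615)) (tt N16845 F222246))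
theorem Q16847 : ∀ i, i < 16847 → P i := stepQ 16846 Q16846 (allL N16846 (tt N18601 (iv F230252)) (tt N16846 F222247) (tt N14702 F222248) (tt N16846 F222249) (tt N15970 F222250) (tt N18597 (iv F230223)) (tt N16846 F222251) (tt N14633 F222252) (tt N14630 (iv D49616)) (tt N16846 F222253))
theorem Q16848 : ∀ i, i < 16848 → P i := stepQ 16847 Q16847 (allL N16847 (tt N15532 F222254) (tt N16847 F222255) (tt N14703 F222256) (tt N15775 F222257) (tt N15531 F222258) (tt N14634 F222259) (tt N14631 (iv D49617)) (tt N15536 F222260) (tt N16847 F222261) (tt N18904 D51674))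
theorem Q16849 : ∀ i, i < 16849 → P i := stepQ 16848 Q16848 (allL N16848 (tt N18696 (iv F230709)) (tt N16848 F222262) (tt N14704 F222263) (tt N15776 F222264) (tt N18598 (iv F230231)) (tt N14632 F222265) (tt N18904 (iv F231627)) (tt N15777 F222266) (tt N18905 D51675) (tt N14631 (iv D49618)))
theorem Q16850 : ∀ i, i < 16850 → P i := stepQ 16849 Q16849 (allL N16849 (tt N18297 (iv F228536)) (tt N16849 F222267) (tt N14705 F222268) (tt N15974 F222269) (tt N14633 F222270) (tt N18905 (iv F231632)) (tt N14636 F222271) (tt N15970 F222272) (tt N14632 (iv D49619)) (tt N16849 F222273))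
theorem Q16851 : ∀ i, i < 16851 → P i := stepQ 16850 Q16850 (allL N16850 (tt N15623 F222274) (tt N16850 F222275) (tt N14707 F222276) (tt N15622 F222277) (tt N14637 F222278) (tt N18904 (iv F231626)) (tt N14635 F222279) (tt N15869 F222280) (tt N18906 D51676) (tt N14634 (iv D49620)))
theorem Q16852 : ∀ i, i < 16852 → P i := stepQ 16851 Q16851 (allL N16851 (tt N15142 F222281) (tt N16851 F222282) (tt N14708 F222283) (tt N15141 F222284) (tt N14638 F222285) (tt N14636 F222286) (tt N18906 (iv F231640)) (tt N16851 F222287) (tt N14635 (iv D49621)) (tt N16851 F222288))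
theorem Q16853 : ∀ i, i < 16853 → P i := stepQ 16852 Q16852 (allL N16852 (tt N15867 F222289) (tt N16852 F222290) (tt N14711 F222291) (tt N18907 D51677) (tt N18906 (iv F231639)) (tt N15874 F222292) (tt N14638 F222293) (tt N15870 F222294) (tt N14637 (iv D49622)) (tt N16852 F222295))
theorem Q16854 : ∀ i, i < 16854 → P i := stepQ 16853 Q16853 (allL N16853 (tt N18097 (iv F227242)) (tt N16853 F222296) (tt N18089 (iv F227183)) (tt N14638 (iv D49623)) (tt N18107 (iv F227322)) (tt N14639 F222297) (tt N18907 (iv F231647)) (tt N16853 F222298) (tt N16853 F222299) (tt N16853 F222300))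
theorem Q16855 : ∀ i, i < 16855 → P i := stepQ 16854 Q16854 (allL N16854 (tt N15264 F222301) (tt N14650 F222302) (tt N16854 F222303) (tt N18908 D51678) (tt N18605 (iv F230288)) (tt N14643 F222304) (tt N18727 (iv F230880)) (tt N14642 F222305) (tt N14641 (iv D49624)) (tt N18909 D51679))
theorem Q16856 : ∀ i, i < 16856 → P i := stepQ 16855 Q16855 (allL N16855 (tt N15248 F222306) (tt N14651 F222307) (tt N18910 D51680) (tt N14642 (iv D49625)) (tt N18911 D51681) (tt N14644 F222308) (tt N15173 F222309) (tt N18908 (iv F231654)) (tt N15578 F222310) (tt N18912 D51682))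
theorem Q16857 : ∀ i, i < 16857 → P i := stepQ 16856 Q16856 (allL N16856 (tt N15265 F222311) (tt N14652 F222312) (tt N16856 F222313) (tt N18912 (iv F231674)) (tt N18607 (iv F230300)) (tt N14645 F222314) (tt N15182 F222315) (tt N18909 (iv F231660)) (tt N14740 F222316) (tt N14642 (iv D49626)))
theorem Q16858 : ∀ i, i < 16858 → P i := stepQ 16857 Q16857 (allL N16857 (tt N15260 F222317) (tt N14653 F222318) (tt N18913 D51683) (tt N14643 (iv D49627)) (tt N18352 (iv F228874)) (tt N18908 (iv F231653)) (tt N16857 F222319) (tt N14644 F222320) (tt N15584 F222321) (tt N18914 D51684))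
theorem Q16859 : ∀ i, i < 16859 → P i := stepQ 16858 Q16858 (allL N16858 (tt N15266 F222322) (tt N14654 F222323) (tt N16858 F222324) (tt N18914 (iv F231686)) (tt N14648 F222325) (tt N18909 (iv F231659)) (tt N16858 F222326) (tt N14645 F222327) (tt N14742 F222328) (tt N14643 (iv D49628)))
theorem Q16860 : ∀ i, i < 16860 → P i := stepQ 16859 Q16859 (allL N16859 (tt N15256 F222329) (tt N14975 F222330) (tt N14644 (iv D49629)) (tt N16859 F222331) (tt N14974 F222332) (tt N18910 (iv F231665)) (tt N14646 F222333) (tt N18913 (iv F231682)) (tt N15114 F222334) (tt N18915 D51685))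
theorem Q16861 : ∀ i, i < 16861 → P i := stepQ 16860 Q16860 (allL N16860 (tt N15261 F222335) (tt N14656 F222336) (tt N18915 (iv F231691)) (tt N14645 F222337) (tt N18353 (iv F228881)) (tt N18912 (iv F231675)) (tt N14647 F222338) (tt N18914 (iv F231688)) (tt N18916 D51686) (tt N14644 (iv D49630)))
theorem Q16862 : ∀ i, i < 16862 → P i := stepQ 16861 Q16861 (allL N16861 (tt N15257 F222339) (tt N14896 F222340) (tt N14647 F222341) (tt N16861 F222342) (tt N14895 F222343) (tt N15177 F222344) (tt N18915 (iv F231694)) (tt N16861 F222345) (tt N18917 D51687) (tt N14646 (iv D49631)))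
theorem Q16863 : ∀ i, i < 16863 → P i := stepQ 16862 Q16862 (allL N16862 (tt N15262 F222346) (tt N14658 F222347) (tt N18917 (iv F231702)) (tt N14746 F222348) (tt N18354 (iv F228886)) (tt N15179 F222349) (tt N18916 (iv F231698)) (tt N16862 F222350) (tt N14647 (iv D49632)) (tt N15598 F222351))
theorem Q16864 : ∀ i, i < 16864 → P i := stepQ 16863 Q16863 (allL N16863 (tt N14679 F222352) (tt N18727 (iv F230876)) (tt N14665 F222353) (tt N18918 D51688) (tt N18623 (iv F230391)) (tt N16863 F222354) (tt N14650 F222355) (tt N15552 F222356) (tt N14649 (iv D49633)) (tt N18919 D51689))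
theorem Q16865 : ∀ i, i < 16865 → P i := stepQ 16864 Q16864 (allL N16864 (tt N14680 F222357) (tt N18908 (iv F231652)) (tt N15563 F222358) (tt N14650 (iv D49634)) (tt N18920 D51690) (tt N14653 F222359) (tt N18918 (iv F231710)) (tt N14651 F222360) (tt N15575 F222361) (tt N18921 D51691))
theorem Q16866 : ∀ i, i < 16866 → P i := stepQ 16865 Q16865 (allL N16865 (tt N14681 F222362) (tt N18909 (iv F231657)) (tt N14666 F222363) (tt N18921 (iv F231725)) (tt N18625 (iv F230401)) (tt N14654 F222364) (tt N18919 (iv F231716)) (tt N14652 F222365) (tt N14761 F222366) (tt N14650 (iv D49635)))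
theorem Q16867 : ∀ i, i < 16867 → P i := stepQ 16866 Q16866 (allL N16866 (tt N14683 F222367) (tt N18911 (iv F231669)) (tt N15565 F222368) (tt N18627 (iv F230411)) (tt N14651 (iv D49636)) (tt N18922 D51692) (tt N15555 F222369) (tt N18920 (iv F231721)) (tt N15579 F222370) (tt N18923 D51693))
theorem Q16868 : ∀ i, i < 16868 → P i := stepQ 16867 Q16867 (allL N16867 (tt N14684 F222371) (tt N18912 (iv F231673)) (tt N15566 F222372) (tt N14652 F222373) (tt N18923 (iv F231734)) (tt N14656 F222374) (tt N15556 F222375) (tt N18921 (iv F231727)) (tt N18924 D51694) (tt N14651 (iv D49637)))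
theorem Q16869 : ∀ i, i < 16869 → P i := stepQ 16868 Q16868 (allL N16868 (tt N14686 F222376) (tt N18352 (iv F228871)) (tt N15567 F222377) (tt N14659 F222378) (tt N14653 (iv D49638)) (tt N18699 (iv F230730)) (tt N16868 F222379) (tt N14655 F222380) (tt N15585 F222381) (tt N18925 D51695))
theorem Q16870 : ∀ i, i < 16870 → P i := stepQ 16869 Q16869 (allL N16869 (tt N14687 F222382) (tt N18914 (iv F231685)) (tt N15568 F222383) (tt N14654 F222384) (tt N18925 (iv F231745)) (tt N18921 (iv F231726)) (tt N16869 F222385) (tt N14656 F222386) (tt N18926 D51696) (tt N14653 (iv D49639)))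
theorem Q16871 : ∀ i, i < 16871 → P i := stepQ 16870 Q16870 (allL N16870 (tt N14691 F222387) (tt N18348 (iv F228848)) (tt N15569 F222388) (tt N14661 F222389) (tt N18922 (iv F231730)) (tt N14655 (iv D49640)) (tt N18315 (iv F228656)) (tt N18699 (iv F230732)) (tt N15592 F222390) (tt N18927 D51697))
theorem Q16872 : ∀ i, i < 16872 → P i := stepQ 16871 Q16871 (allL N16871 (tt N14692 F222391) (tt N18353 (iv F228878)) (tt N15570 F222392) (tt N14662 F222393) (tt N14656 F222394) (tt N18927 (iv F231757)) (tt N14657 F222395) (tt N18925 (iv F231747)) (tt N18928 D51698) (tt N14655 (iv D49641)))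
theorem Q16873 : ∀ i, i < 16873 → P i := stepQ 16872 Q16872 (allL N16872 (tt N14693 F222396) (tt N18916 (iv F231696)) (tt N15571 F222397) (tt N14773 F222398) (tt N18928 (iv F231760)) (tt N18924 (iv F231739)) (tt N14658 F222399) (tt N18926 (iv F231752)) (tt N14656 (iv D49642)) (tt N15594 F222400))
theorem Q16874 : ∀ i, i < 16874 → P i := stepQ 16873 Q16873 (allL N16873 (tt N14699 F222401) (tt N18354 (iv F228884)) (tt N15572 F222402) (tt N18929 D51699) (tt N14658 F222403) (tt N18319 (iv F228681)) (tt N18928 (iv F231761)) (tt N16873 F222404) (tt N14657 (iv D49643)) (tt N15599 F222405))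
theorem Q16875 : ∀ i, i < 16875 → P i := stepQ 16874 Q16874 (allL N16874 (tt N14701 F222406) (tt N18360 (iv F228921)) (tt N15969 F222407) (tt N18925 (iv F231744)) (tt N14660 F222408) (tt N18700 (iv F230737)) (tt N16874 F222409) (tt N14662 F222410) (tt N18930 D51700) (tt N14659 (iv D49644)))
theorem Q16876 : ∀ i, i < 16876 → P i := stepQ 16875 Q16875 (allL N16875 (tt N14702 F222411) (tt N18363 (iv F228940)) (tt N18601 (iv F230254)) (tt N14780 F222412) (tt N18930 (iv F231770)) (tt N18602 (iv F230266)) (tt N16875 F222413) (tt N14663 F222414) (tt N14660 (iv D49645)) (tt N16875 F222415))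
theorem Q16877 : ∀ i, i < 16877 → P i := stepQ 16876 Q16876 (allL N16876 (tt N14704 F222416) (tt N18357 (iv F228903)) (tt N18696 (iv F230711)) (tt N18927 (iv F231756)) (tt N18637 (iv F230458)) (tt N14662 F222417) (tt N18320 (iv F228689)) (tt N18700 (iv F230739)) (tt N18931 D51701) (tt N14661 (iv D49646)))
theorem Q16878 : ∀ i, i < 16878 → P i := stepQ 16877 Q16877 (allL N16877 (tt N14705 F222418) (tt N18361 (iv F228927)) (tt N18297 F228542) (tt N18932 D51702) (tt N14663 F222419) (tt N18931 (iv F231775)) (tt N14664 F222420) (tt N18930 (iv F231772)) (tt N14662 (iv D49647)) (tt N16877 F222421))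
theorem Q16879 : ∀ i, i < 16879 → P i := stepQ 16878 Q16878 (allL N16878 (tt N14709 F222422) (tt N18362 (iv F228933)) (tt N18289 (iv F228478)) (tt N14664 (iv D49648)) (tt N14783 F222423) (tt N18322 (iv F228702)) (tt N18932 (iv F231779)) (tt N16878 F222424) (tt N18929 (iv F231766)) (tt N16878 F222425))
theorem Q16880 : ∀ i, i < 16880 → P i := stepQ 16879 Q16879 (allL N16879 (tt N14713 F222426) (tt N16879 F222427) (tt N18919 (iv F231714)) (tt N15778 F222428) (tt N18640 (iv F230477)) (tt N16879 F222429) (tt N14666 F222430) (tt N15559 F222431) (tt N14785 F222432) (tt N14665 (iv D49649)))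
theorem Q16881 : ∀ i, i < 16881 → P i := stepQ 16880 Q16880 (allL N16880 (tt N15605 F222433) (tt N18227 (iv F228114)) (tt N14919 F222434) (tt N18933 D51703) (tt N14670 F222435) (tt N16880 F222436) (tt N18299 (iv F228558)) (tt N14668 F222437) (tt N14667 (iv D49650)) (tt N18934 D51704))
theorem Q16882 : ∀ i, i < 16882 → P i := stepQ 16881 Q16881 (allL N16881 (tt N15611 F222438) (tt N18228 (iv F228121)) (tt N18935 D51705) (tt N14668 (iv D49651)) (tt N18936 D51706) (tt N16881 F222439) (tt N15560 F222440) (tt N18933 (iv F231783)) (tt N18645 (iv F230512)) (tt N18937 D51707))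
theorem Q16883 : ∀ i, i < 16883 → P i := stepQ 16882 Q16882 (allL N16882 (tt N15612 F222441) (tt N18229 (iv F228126)) (tt N14921 F222442) (tt N18937 (iv F231798)) (tt N14672 F222443) (tt N16882 F222444) (tt N15561 F222445) (tt N18934 (iv F231788)) (tt N14800 F222446) (tt N14668 (iv D49652)))
theorem Q16884 : ∀ i, i < 16884 → P i := stepQ 16883 Q16883 (allL N16883 (tt N15602 F222447) (tt N18230 (iv F228133)) (tt N14922 F222448) (tt N18938 D51708) (tt N18299 (iv F228556)) (tt N16883 F222449) (tt N14670 F222450) (tt N15562 F222451) (tt N14669 (iv D49653)) (tt N18939 D51709))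
theorem Q16885 : ∀ i, i < 16885 → P i := stepQ 16884 Q16884 (allL N16884 (tt N15575 F222452) (tt N18231 (iv F228140)) (tt N15553 F222453) (tt N14670 (iv D49654)) (tt N18940 D51710) (tt N14673 F222454) (tt N18938 (iv F231804)) (tt N14671 F222455) (tt N14680 F222456) (tt N18941 D51711))
theorem Q16886 : ∀ i, i < 16886 → P i := stepQ 16885 Q16885 (allL N16885 (tt N15606 F222457) (tt N18232 (iv F228145)) (tt N14923 F222458) (tt N18941 (iv F231819)) (tt N18934 (iv F231786)) (tt N14674 F222459) (tt N18939 (iv F231810)) (tt N14672 F222460) (tt N14803 F222461) (tt N14670 (iv D49655)))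
theorem Q16887 : ∀ i, i < 16887 → P i := stepQ 16886 Q16886 (allL N16886 (tt N15579 F222462) (tt N18234 (iv F228157)) (tt N15555 F222463) (tt N18936 (iv F231795)) (tt N14671 (iv D49656)) (tt N18942 D51712) (tt N15565 F222464) (tt N18940 (iv F231815)) (tt N14683 F222465) (tt N18943 D51713))
theorem Q16888 : ∀ i, i < 16888 → P i := stepQ 16887 Q16887 (allL N16887 (tt N15580 F222466) (tt N18235 (iv F228161)) (tt N15556 F222467) (tt N14672 F222468) (tt N18943 (iv F231828)) (tt N14676 F222469) (tt N15566 F222470) (tt N18941 (iv F231821)) (tt N18944 D51714) (tt N14671 (iv D49657)))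
theorem Q16889 : ∀ i, i < 16889 → P i := stepQ 16888 Q16888 (allL N16888 (tt N15585 F222471) (tt N18237 (iv F228173)) (tt N15149 F222472) (tt N16888 F222473) (tt N14673 (iv D49658)) (tt N18945 D51715) (tt N16888 F222474) (tt N14675 F222475) (tt N14686 F222476) (tt N18946 D51716))
theorem Q16890 : ∀ i, i < 16890 → P i := stepQ 16889 Q16889 (allL N16889 (tt N15586 F222477) (tt N18238 (iv F228180)) (tt N15557 F222478) (tt N14674 F222479) (tt N18946 (iv F231844)) (tt N18941 (iv F231820)) (tt N16889 F222480) (tt N14676 F222481) (tt N18947 D51717) (tt N14673 (iv D49659)))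
theorem Q16891 : ∀ i, i < 16891 → P i := stepQ 16890 Q16890 (allL N16890 (tt N15592 F222482) (tt N18240 (iv F228191)) (tt N15147 F222483) (tt N16890 F222484) (tt N18942 (iv F231824)) (tt N14675 (iv D49660)) (tt N18309 (iv F228623)) (tt N18945 (iv F231839)) (tt N14691 F222485) (tt N18948 D51718))
theorem Q16892 : ∀ i, i < 16892 → P i := stepQ 16891 Q16891 (allL N16891 (tt N15593 F222486) (tt N18241 (iv F228197)) (tt N15151 F222487) (tt N16891 F222488) (tt N14676 F222489) (tt N18948 (iv F231856)) (tt N14677 F222490) (tt N18946 (iv F231846)) (tt N18949 D51719) (tt N14675 (iv D49661)))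
theorem Q16893 : ∀ i, i < 16893 → P i := stepQ 16892 Q16892 (allL N16892 (tt N15594 F222491) (tt N18242 (iv F228203)) (tt N15558 F222492) (tt N14815 F222493) (tt N18949 (iv F231859)) (tt N18944 (iv F231833)) (tt N14678 F222494) (tt N18947 (iv F231851)) (tt N14676 (iv D49662)) (tt N14693 F222495))
theorem Q16894 : ∀ i, i < 16894 → P i := stepQ 16893 Q16893 (allL N16893 (tt N15599 F222496) (tt N18244 (iv F228215)) (tt N15152 F222497) (tt N18950 D51720) (tt N14678 F222498) (tt N18318 (iv F228674)) (tt N18949 (iv F231860)) (tt N16893 F222499) (tt N14677 (iv D49663)) (tt N14699 F222500))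
theorem Q16895 : ∀ i, i < 16895 → P i := stepQ 16894 Q16894 (allL N16894 (tt N18918 (iv F231707)) (tt N18245 (iv F228222)) (tt N18951 D51721) (tt N14679 (iv D49664)) (tt N18952 D51722) (tt N16894 F222501) (tt N14680 F222502) (tt N15573 F222503) (tt N18938 (iv F231806)) (tt N18953 D51723))
theorem Q16896 : ∀ i, i < 16896 → P i := stepQ 16895 Q16895 (allL N16895 (tt N18919 (iv F231713)) (tt N18246 (iv F228228)) (tt N14713 F222504) (tt N18953 (iv F231877)) (tt N18665 (iv F230595)) (tt N16895 F222505) (tt N14681 F222506) (tt N15574 F222507) (tt N14824 F222508) (tt N14679 (iv D49665)))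
theorem Q16897 : ∀ i, i < 16897 → P i := stepQ 16896 Q16896 (allL N16896 (tt N15563 F222509) (tt N15626 F222514) (tt N14680 (iv D49666)) (tt N14714 F222510) (tt N18954 D51724) (tt N14685 F222511) (tt N18951 (iv F231871)) (tt N14682 F222512) (tt N15553 F222513) (tt N18955 D51725))
theorem Q16898 : ∀ i, i < 16898 → P i := stepQ 16897 Q16897 (allL N16897 (tt N18920 (iv F231719)) (tt N18248 (iv F228242)) (tt N18954 (iv F231883)) (tt N18666 (iv F230600)) (tt N14680 (iv D49667)) (tt N18956 D51726) (tt N18952 (iv F231875)) (tt N14683 F222515) (tt N18940 (iv F231816)) (tt N18957 D51727))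
theorem Q16899 : ∀ i, i < 16899 → P i := stepQ 16898 Q16898 (allL N16898 (tt N18921 (iv F231723)) (tt N18249 (iv F228245)) (tt N18955 (iv F231890)) (tt N14681 F222516) (tt N18957 (iv F231897)) (tt N14687 F222517) (tt N18953 (iv F231879)) (tt N14684 F222518) (tt N18958 D51728) (tt N14680 (iv D49668)))
theorem Q16900 : ∀ i, i < 16900 → P i := stepQ 16899 Q16899 (allL N16899 (tt N15215 F222519) (tt N14682 (iv D49669)) (tt N18250 (iv F228249)) (tt N14717 F222520) (tt N18959 D51729) (tt N14688 F222521) (tt N15578 F222522) (tt N15626 F222523) (tt N15173 F222524) (tt N18960 D51730))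
theorem Q16901 : ∀ i, i < 16901 → P i := stepQ 16900 Q16900 (allL N16900 (tt N15565 F222525) (tt N18959 (iv F231903)) (tt N14683 F222526) (tt N18961 D51731) (tt N14682 (iv D49670)) (tt N18962 D51732) (tt N15579 F222527) (tt N18954 (iv F231886)) (tt N15555 F222528) (tt N18963 D51733))
theorem Q16902 : ∀ i, i < 16902 → P i := stepQ 16901 Q16901 (allL N16901 (tt N15566 F222529) (tt N18960 (iv F231910)) (tt N14684 F222530) (tt N14719 F222531) (tt N18963 (iv F231931)) (tt N14690 F222532) (tt N15580 F222533) (tt N18955 (iv F231893)) (tt N18964 D51734) (tt N14682 (iv D49671)))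
theorem Q16903 : ∀ i, i < 16903 → P i := stepQ 16902 Q16902 (allL N16902 (tt N18922 (iv F231728)) (tt N18253 (iv F228265)) (tt N18962 (iv F231924)) (tt N18671 (iv F230616)) (tt N14691 F222534) (tt N14683 (iv D49672)) (tt N18965 D51735) (tt N18956 (iv F231896)) (tt N18942 (iv F231825)) (tt N18966 D51736))
theorem Q16904 : ∀ i, i < 16904 → P i := stepQ 16903 Q16903 (allL N16903 (tt N18923 (iv F231732)) (tt N18254 (iv F228269)) (tt N18963 (iv F231930)) (tt N18672 (iv F230618)) (tt N14684 F222535) (tt N18966 (iv F231943)) (tt N15582 F222536) (tt N18957 (iv F231898)) (tt N18967 D51737) (tt N14683 (iv D49673)))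
theorem Q16905 : ∀ i, i < 16905 → P i := stepQ 16904 Q16904 (allL N16904 (tt N18924 (iv F231736)) (tt N18255 (iv F228273)) (tt N18964 (iv F231934)) (tt N14833 F222537) (tt N18967 (iv F231944)) (tt N14693 F222538) (tt N15583 F222539) (tt N18958 (iv F231901)) (tt N14684 (iv D49674)) (tt N18944 (iv F231835)))
theorem Q16906 : ∀ i, i < 16906 → P i := stepQ 16905 Q16905 (allL N16905 (tt N15568 F222540) (tt N15962 F222541) (tt N14687 F222542) (tt N14721 F222543) (tt N15960 F222544) (tt N18955 (iv F231892)) (tt N16905 F222545) (tt N14690 F222546) (tt N18968 D51738) (tt N14685 (iv D49675)))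
theorem Q16907 : ∀ i, i < 16907 → P i := stepQ 16906 Q16906 (allL N16906 (tt N18699 (iv F230728)) (tt N18258 (iv F228291)) (tt N15560 F222547) (tt N14700 F222548) (tt N18956 (iv F231895)) (tt N14686 (iv D49676)) (tt N18935 (iv F231793)) (tt N14691 F222549) (tt N18945 (iv F231840)) (tt N18969 D51739))
theorem Q16908 : ∀ i, i < 16908 → P i := stepQ 16907 Q16907 (allL N16907 (tt N18925 (iv F231742)) (tt N18259 (iv F228295)) (tt N15960 F222550) (tt N14701 F222551) (tt N14687 F222552) (tt N18969 (iv F231956)) (tt N16907 F222553) (tt N14692 F222554) (tt N18970 D51740) (tt N14686 (iv D49677)))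
theorem Q16909 : ∀ i, i < 16909 → P i := stepQ 16908 Q16908 (allL N16908 (tt N18926 (iv F231748)) (tt N18260 (iv F228301)) (tt N18968 (iv F231948)) (tt N14839 F222555) (tt N18970 (iv F231959)) (tt N18958 (iv F231900)) (tt N16908 F222556) (tt N14693 F222557) (tt N14687 (iv D49678)) (tt N18947 (iv F231852)))
theorem Q16910 : ∀ i, i < 16910 → P i := stepQ 16909 Q16909 (allL N16909 (tt N15216 F222558) (tt N14690 F222559) (tt N18261 (iv F228307)) (tt N14722 F222560) (tt N15158 F222561) (tt N18960 (iv F231912)) (tt N14694 F222562) (tt N15962 F222563) (tt N18971 D51741) (tt N14688 (iv D49679)))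
theorem Q16911 : ∀ i, i < 16911 → P i := stepQ 16910 Q16910 (allL N16910 (tt N15569 F222564) (tt N15153 F222565) (tt N14691 F222566) (tt N15144 F222567) (tt N18962 (iv F231926)) (tt N14689 (iv D49680)) (tt N18300 (iv F228564)) (tt N15560 F222568) (tt N15147 F222569) (tt N18972 D51742))
theorem Q16912 : ∀ i, i < 16912 → P i := stepQ 16911 Q16911 (allL N16911 (tt N15570 F222570) (tt N15158 F222571) (tt N14692 F222572) (tt N15145 F222573) (tt N14690 F222574) (tt N18972 (iv F231973)) (tt N14695 F222575) (tt N15960 F222576) (tt N18973 D51743) (tt N14689 (iv D49681)))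
theorem Q16913 : ∀ i, i < 16913 → P i := stepQ 16912 Q16912 (allL N16912 (tt N15571 F222577) (tt N18971 (iv F231963)) (tt N14693 F222578) (tt N15633 F222579) (tt N18973 (iv F231979)) (tt N18964 (iv F231936)) (tt N14696 F222580) (tt N18968 (iv F231952)) (tt N14690 (iv D49682)) (tt N15558 F222581))
theorem Q16914 : ∀ i, i < 16914 → P i := stepQ 16913 Q16913 (allL N16913 (tt N18315 (iv F228652)) (tt N14771 F222582) (tt N18300 (iv F228562)) (tt N14703 F222583) (tt N18965 (iv F231940)) (tt N14697 F222584) (tt N14691 (iv D49683)) (tt N18974 D51744) (tt N18309 (iv F228624)) (tt N18975 D51745))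
theorem Q16915 : ∀ i, i < 16915 → P i := stepQ 16914 Q16914 (allL N16914 (tt N18927 (iv F231754)) (tt N18265 (iv F228328)) (tt N18972 (iv F231971)) (tt N14704 F222585) (tt N18966 (iv F231942)) (tt N14692 F222586) (tt N18975 (iv F231990)) (tt N18969 (iv F231957)) (tt N18976 D51746) (tt N14691 (iv D49684)))
theorem Q16916 : ∀ i, i < 16916 → P i := stepQ 16915 Q16915 (allL N16915 (tt N18928 (iv F231758)) (tt N18266 (iv F228333)) (tt N18973 (iv F231977)) (tt N18977 D51747) (tt N14693 F222587) (tt N18976 (iv F231991)) (tt N14699 F222588) (tt N18970 (iv F231961)) (tt N14692 (iv D49685)) (tt N18949 (iv F231861)))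
theorem Q16917 : ∀ i, i < 16917 → P i := stepQ 16916 Q16916 (allL N16916 (tt N15224 F222589) (tt N14696 F222590) (tt N18267 (iv F228338)) (tt N15572 F222591) (tt N15160 F222592) (tt N15598 F222593) (tt N18971 (iv F231966)) (tt N16916 F222594) (tt N14694 (iv D49686)) (tt N15179 F222595))
theorem Q16918 : ∀ i, i < 16918 → P i := stepQ 16917 Q16917 (allL N16917 (tt N15572 F222596) (tt N15160 F222597) (tt N14699 F222598) (tt N15224 F222599) (tt N14696 F222600) (tt N18305 (iv F228598)) (tt N18973 (iv F231980)) (tt N16917 F222601) (tt N14695 (iv D49687)) (tt N15152 F222602))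
theorem Q16919 : ∀ i, i < 16919 → P i := stepQ 16918 Q16918 (allL N16918 (tt N15853 F222603) (tt N14766 F222604) (tt N18302 (iv F228575)) (tt N14706 F222605) (tt N14741 F222606) (tt N18974 (iv F231986)) (tt N16918 F222607) (tt N14697 (iv D49688)) (tt N18312 (iv F228639)) (tt N18978 D51748))
theorem Q16920 : ∀ i, i < 16920 → P i := stepQ 16919 Q16919 (allL N16919 (tt N18316 (iv F228659)) (tt N14772 F222608) (tt N18304 (iv F228589)) (tt N14707 F222609) (tt N14744 F222610) (tt N18975 (iv F231989)) (tt N14698 F222611) (tt N18978 (iv F232000)) (tt N18979 D51749) (tt N14697 (iv D49689)))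
theorem Q16921 : ∀ i, i < 16921 → P i := stepQ 16920 Q16920 (allL N16920 (tt N18319 (iv F228677)) (tt N14777 F222612) (tt N18305 (iv F228595)) (tt N18980 D51750) (tt N14746 F222613) (tt N14699 F222614) (tt N18979 (iv F232003)) (tt N16920 F222615) (tt N14698 (iv D49690)) (tt N18318 (iv F228676)))
theorem Q16922 : ∀ i, i < 16922 → P i := stepQ 16921 Q16921 (allL N16921 (tt N18929 (iv F231763)) (tt N18270 (iv F228356)) (tt N18981 D51751) (tt N14699 (iv D49691)) (tt N14860 F222616) (tt N18980 (iv F232005)) (tt N18977 (iv F231993)) (tt N16921 F222617) (tt N14709 F222618) (tt N18950 (iv F231867)))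
theorem Q16923 : ∀ i, i < 16923 → P i := stepQ 16922 Q16922 (allL N16922 (tt N15416 F222619) (tt N18271 (iv F228362)) (tt N14920 F222620) (tt N18935 (iv F231791)) (tt N15382 F222621) (tt N16922 F222622) (tt N14700 (iv D49692)) (tt N18887 (iv F231535)) (tt N16922 F222623) (tt N18982 D51752))
theorem Q16924 : ∀ i, i < 16924 → P i := stepQ 16923 Q16923 (allL N16923 (tt N18700 (iv F230734)) (tt N18272 (iv F228369)) (tt N15777 F222624) (tt N18969 (iv F231955)) (tt N18641 (iv F230484)) (tt N14701 F222625) (tt N18982 (iv F232017)) (tt N14704 F222626) (tt N18983 D51753) (tt N14700 (iv D49693)))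
theorem Q16925 : ∀ i, i < 16925 → P i := stepQ 16924 Q16924 (allL N16924 (tt N18930 (iv F231768)) (tt N18273 (iv F228374)) (tt N15970 F222627) (tt N18984 D51754) (tt N14702 F222628) (tt N18983 (iv F232019)) (tt N16924 F222629) (tt N14705 F222630) (tt N14701 (iv D49694)) (tt N16924 F222631))
theorem Q16926 : ∀ i, i < 16926 → P i := stepQ 16925 Q16925 (allL N16925 (tt N15516 F222632) (tt N14778 F222633) (tt N15536 F222634) (tt N18974 (iv F231985)) (tt N15515 F222635) (tt N14706 F222636) (tt N18887 (iv F231534)) (tt N14703 (iv D49695)) (tt N16925 F222637) (tt N18985 D51755))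
theorem Q16927 : ∀ i, i < 16927 → P i := stepQ 16926 Q16926 (allL N16926 (tt N18320 (iv F228684)) (tt N14781 F222638) (tt N18904 (iv F231623)) (tt N18975 (iv F231988)) (tt N18690 (iv F230681)) (tt N14707 F222639) (tt N14704 F222640) (tt N18985 (iv F232032)) (tt N18986 D51756) (tt N14703 (iv D49696)))
theorem Q16928 : ∀ i, i < 16928 → P i := stepQ 16927 Q16927 (allL N16927 (tt N18931 (iv F231774)) (tt N18274 (iv F228381)) (tt N18905 (iv F231630)) (tt N18987 D51757) (tt N18691 (iv F230685)) (tt N14705 F222641) (tt N18986 (iv F232035)) (tt N18983 (iv F232020)) (tt N14704 (iv D49697)) (tt N16927 F222642))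
theorem Q16929 : ∀ i, i < 16929 → P i := stepQ 16928 Q16928 (allL N16928 (tt N18932 (iv F231777)) (tt N18275 (iv F228387)) (tt N18988 D51758) (tt N14705 (iv D49698)) (tt N14867 F222643) (tt N18987 (iv F232037)) (tt N14709 F222644) (tt N18984 (iv F232025)) (tt N18977 (iv F231994)) (tt N16928 F222645))
theorem Q16930 : ∀ i, i < 16930 → P i := stepQ 16929 Q16929 (allL N16929 (tt N15854 F222646) (tt N14779 F222647) (tt N15869 F222648) (tt N18978 (iv F231997)) (tt N14710 F222649) (tt N18985 (iv F232031)) (tt N16929 F222650) (tt N14707 F222651) (tt N18989 D51759) (tt N14706 (iv D49699)))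
theorem Q16931 : ∀ i, i < 16931 → P i := stepQ 16930 Q16930 (allL N16930 (tt N18321 (iv F228691)) (tt N14782 F222652) (tt N18906 (iv F231637)) (tt N18990 D51760) (tt N14711 F222653) (tt N18986 (iv F232034)) (tt N14708 F222654) (tt N18989 (iv F232049)) (tt N14707 (iv D49700)) (tt N16930 F222655))
theorem Q16932 : ∀ i, i < 16932 → P i := stepQ 16931 Q16931 (allL N16931 (tt N18322 (iv F228698)) (tt N14783 F222656) (tt N18478 (iv F229522)) (tt N14708 (iv D49701)) (tt N18362 (iv F228935)) (tt N14709 F222657) (tt N18990 (iv F232052)) (tt N16931 F222658) (tt N18980 (iv F232007)) (tt N16931 F222659))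
theorem Q16933 : ∀ i, i < 16933 → P i := stepQ 16932 Q16932 (allL N16932 (tt N18289 (iv F228476)) (tt N18479 (iv F229528)) (tt N14709 (iv D49702)) (tt N18288 F228475) (tt N14871 F222660) (tt N18478 (iv F229524)) (tt N18988 (iv F232041)) (tt N16932 F222661) (tt N18981 (iv F232011)) (tt N16932 F222662))
theorem Q16934 : ∀ i, i < 16934 → P i := stepQ 16933 Q16933 (allL N16933 (tt N15855 F222663) (tt N14780 F222664) (tt N15870 F222665) (tt N18363 (iv F228941)) (tt N18989 (iv F232047)) (tt N15860 F222666) (tt N16933 F222667) (tt N14711 F222668) (tt N14710 (iv D49703)) (tt N16933 F222669))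
theorem Q16935 : ∀ i, i < 16935 → P i := stepQ 16934 Q16934 (allL N16934 (tt N15562 F222670) (tt N14748 F222671) (tt N14712 (iv D49704)) (tt N18951 (iv F231869)) (tt N14732 F222672) (tt N16934 F222673) (tt N14714 F222674) (tt N15602 F222675) (tt N14730 F222676) (tt N18991 D51761))
theorem Q16936 : ∀ i, i < 16936 → P i := stepQ 16935 Q16935 (allL N16935 (tt N15778 F222677) (tt N14723 F222678) (tt N18991 (iv F232056)) (tt N14713 F222679) (tt N15619 F222680) (tt N16935 F222681) (tt N14716 F222682) (tt N15603 F222683) (tt N15618 F222684) (tt N14712 (iv D49705)))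
theorem Q16937 : ∀ i, i < 16937 → P i := stepQ 16936 Q16936 (allL N16936 (tt N15564 F222685) (tt N15627 F222686) (tt N14716 F222687) (tt N18955 (iv F231891)) (tt N15624 F222688) (tt N14721 F222689) (tt N18991 (iv F232059)) (tt N14719 F222690) (tt N15629 F222691) (tt N14714 (iv D49706)))
theorem Q16938 : ∀ i, i < 16938 → P i := stepQ 16937 Q16937 (allL N16937 (tt N15776 F222692) (tt N14725 F222693) (tt N15624 F222694) (tt N18696 (iv F230712)) (tt N14716 F222695) (tt N14728 F222696) (tt N15619 F222697) (tt N14720 F222698) (tt N14727 F222699) (tt N14715 (iv D49707)))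
theorem Q16939 : ∀ i, i < 16939 → P i := stepQ 16938 Q16938 (allL N16938 (tt N15666 F222700) (tt N14719 F222701) (tt N14727 F222702) (tt N18960 (iv F231911)) (tt N15629 F222703) (tt N14722 F222704) (tt N15610 F222705) (tt N15627 F222706) (tt N15624 F222707) (tt N14717 (iv D49708)))
theorem Q16940 : ∀ i, i < 16940 → P i := stepQ 16939 Q16939 (allL N16939 (tt N15560 F222708) (tt N15628 F222709) (tt N18699 (iv F230729)) (tt N14718 (iv D49709)) (tt N18961 (iv F231917)) (tt N15567 F222710) (tt N15611 F222711) (tt N15569 F222712) (tt N15587 F222713) (tt N18992 D51762))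
theorem Q16941 : ∀ i, i < 16941 → P i := stepQ 16940 Q16940 (allL N16940 (tt N15561 F222714) (tt N15629 F222715) (tt N14720 F222716) (tt N18992 (iv F232064)) (tt N14719 F222717) (tt N15625 F222718) (tt N15612 F222719) (tt N15624 F222720) (tt N15627 F222721) (tt N14718 (iv D49710)))
theorem Q16942 : ∀ i, i < 16942 → P i := stepQ 16941 Q16941 (allL N16941 (tt N18299 (iv F228553)) (tt N14750 F222722) (tt N15538 F222723) (tt N18993 D51763) (tt N15602 F222724) (tt N14733 F222725) (tt N15605 F222726) (tt N14732 F222727) (tt N14731 (iv D49711)) (tt N18994 D51764))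
theorem Q16943 : ∀ i, i < 16943 → P i := stepQ 16942 Q16942 (allL N16942 (tt N18300 (iv F228560)) (tt N14751 F222728) (tt N18315 (iv F228654)) (tt N14732 (iv D49712)) (tt N18995 D51765) (tt N14734 F222729) (tt N15569 F222730) (tt N18993 (iv F232072)) (tt N14739 F222731) (tt N18996 D51766))
theorem Q16944 : ∀ i, i < 16944 → P i := stepQ 16943 Q16943 (allL N16943 (tt N18301 (iv F228566)) (tt N14752 F222732) (tt N15619 F222733) (tt N18996 (iv F232085)) (tt N18991 (iv F232057)) (tt N14735 F222734) (tt N15624 F222735) (tt N18994 (iv F232079)) (tt N15610 F222736) (tt N14732 (iv D49713)))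
theorem Q16945 : ∀ i, i < 16945 → P i := stepQ 16944 Q16944 (allL N16944 (tt N18302 (iv F228573)) (tt N14753 F222737) (tt N15853 F222738) (tt N14733 (iv D49714)) (tt N18312 (iv F228636)) (tt N18993 (iv F232070)) (tt N16944 F222739) (tt N14734 F222740) (tt N14741 F222741) (tt N18997 D51767))
theorem Q16946 : ∀ i, i < 16946 → P i := stepQ 16945 Q16945 (allL N16945 (tt N18303 (iv F228580)) (tt N14754 F222742) (tt N15621 F222743) (tt N18997 (iv F232090)) (tt N16945 F222744) (tt N18994 (iv F232077)) (tt N16945 F222745) (tt N14735 F222746) (tt N15614 F222747) (tt N14733 (iv D49715)))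
theorem Q16947 : ∀ i, i < 16947 → P i := stepQ 16946 Q16946 (allL N16946 (tt N18304 (iv F228587)) (tt N14756 F222748) (tt N18316 (iv F228661)) (tt N14735 F222749) (tt N18314 (iv F228650)) (tt N18996 (iv F232086)) (tt N14736 F222750) (tt N18997 (iv F232092)) (tt N18998 D51768) (tt N14734 (iv D49716)))
theorem Q16948 : ∀ i, i < 16948 → P i := stepQ 16947 Q16947 (allL N16947 (tt N18305 (iv F228593)) (tt N14758 F222751) (tt N18319 (iv F228679)) (tt N15598 F222752) (tt N18318 (iv F228673)) (tt N15572 F222753) (tt N18998 (iv F232095)) (tt N16947 F222754) (tt N14736 (iv D49717)) (tt N14746 F222755))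
theorem Q16949 : ∀ i, i < 16949 → P i := stepQ 16948 Q16948 (allL N16948 (tt N18306 (iv F228601)) (tt N14759 F222756) (tt N16948 F222757) (tt N18999 D51769) (tt N18612 (iv F230327)) (tt N16948 F222758) (tt N14738 F222759) (tt N15600 F222760) (tt N14737 (iv D49718)) (tt N19000 D51770))
theorem Q16950 : ∀ i, i < 16950 → P i := stepQ 16949 Q16949 (allL N16949 (tt N18307 (iv F228608)) (tt N14760 F222761) (tt N19001 D51771) (tt N14738 (iv D49719)) (tt N19002 D51772) (tt N14741 F222762) (tt N18999 (iv F232099)) (tt N14739 F222763) (tt N18993 (iv F232073)) (tt N19003 D51773))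
theorem Q16951 : ∀ i, i < 16951 → P i := stepQ 16950 Q16950 (allL N16950 (tt N18308 (iv F228612)) (tt N14761 F222764) (tt N16950 F222765) (tt N19003 (iv F232115)) (tt N18717 (iv F230832)) (tt N14742 F222766) (tt N19000 (iv F232105)) (tt N14740 F222767) (tt N18909 (iv F231661)) (tt N14738 (iv D49720)))
theorem Q16952 : ∀ i, i < 16952 → P i := stepQ 16951 Q16951 (allL N16951 (tt N18309 (iv F228619)) (tt N18332 (iv F228756)) (tt N14739 (iv D49721)) (tt N16951 F222768) (tt N19004 D51774) (tt N14743 F222769) (tt N15592 F222770) (tt N19001 (iv F232110)) (tt N18315 (iv F228658)) (tt N19005 D51775))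
theorem Q16953 : ∀ i, i < 16953 → P i := stepQ 16952 Q16952 (allL N16952 (tt N18310 (iv F228625)) (tt N14763 F222771) (tt N19004 (iv F232118)) (tt N18719 (iv F230841)) (tt N14739 (iv D49722)) (tt N18965 (iv F231941)) (tt N15581 F222772) (tt N19002 (iv F232113)) (tt N18995 (iv F232083)) (tt N19006 D51776))
theorem Q16954 : ∀ i, i < 16954 → P i := stepQ 16953 Q16953 (allL N16953 (tt N18311 (iv F228628)) (tt N14764 F222773) (tt N19005 (iv F232120)) (tt N14740 F222774) (tt N19006 (iv F232125)) (tt N14744 F222775) (tt N15595 F222776) (tt N19003 (iv F232117)) (tt N19007 D51777) (tt N14739 (iv D49723)))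
theorem Q16955 : ∀ i, i < 16955 → P i := stepQ 16954 Q16954 (allL N16954 (tt N18312 (iv F228633)) (tt N15856 F222777) (tt N14741 (iv D49724)) (tt N16954 F222778) (tt N18302 F228579) (tt N19001 (iv F232109)) (tt N16954 F222779) (tt N14743 F222780) (tt N15853 F222781) (tt N19008 D51778))
theorem Q16956 : ∀ i, i < 16956 → P i := stepQ 16955 Q16955 (allL N16955 (tt N18313 (iv F228640)) (tt N14767 F222782) (tt N19008 (iv F232131)) (tt N14742 F222783) (tt N18978 (iv F231998)) (tt N19003 (iv F232116)) (tt N16955 F222784) (tt N14744 F222785) (tt N19009 D51779) (tt N14741 (iv D49725)))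
theorem Q16957 : ∀ i, i < 16957 → P i := stepQ 16956 Q16956 (allL N16956 (tt N18314 (iv F228646)) (tt N18333 (iv F228763)) (tt N14744 F222786) (tt N16956 F222787) (tt N18304 (iv F228591)) (tt N19005 (iv F232122)) (tt N14745 F222788) (tt N19008 (iv F232134)) (tt N19010 D51780) (tt N14743 (iv D49726)))
theorem Q16958 : ∀ i, i < 16958 → P i := stepQ 16957 Q16957 (allL N16957 (tt N18317 (iv F228666)) (tt N14773 F222789) (tt N19010 (iv F232138)) (tt N18916 (iv F231697)) (tt N18979 (iv F232002)) (tt N19007 (iv F232128)) (tt N14746 F222790) (tt N19009 (iv F232137)) (tt N14744 (iv D49727)) (tt N18998 (iv F232096)))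
theorem Q16959 : ∀ i, i < 16959 → P i := stepQ 16958 Q16958 (allL N16958 (tt N18318 (iv F228670)) (tt N18336 (iv F228781)) (tt N14746 F222791) (tt N19011 D51781) (tt N18305 (iv F228597)) (tt N15599 F222792) (tt N19010 (iv F232139)) (tt N16958 F222793) (tt N14745 (iv D49728)) (tt N18319 (iv F228683)))
theorem Q16960 : ∀ i, i < 16960 → P i := stepQ 16959 Q16959 (allL N16959 (tt N14798 F222794) (tt N15602 F222795) (tt N14924 F222796) (tt N19012 D51782) (tt N14750 F222797) (tt N16959 F222798) (tt N15604 F222799) (tt N14748 F222800) (tt N14747 (iv D49729)) (tt N19013 D51783))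
theorem Q16961 : ∀ i, i < 16961 → P i := stepQ 16960 Q16960 (allL N16960 (tt N14799 F222801) (tt N18951 F231874) (tt N19014 D51784) (tt N14748 (iv D49730)) (tt N19015 D51785) (tt N16960 F222802) (tt N15626 F222803) (tt N19012 (iv F232148)) (tt N18728 (iv F230886)) (tt N19016 D51786))
theorem Q16962 : ∀ i, i < 16962 → P i := stepQ 16961 Q16961 (allL N16961 (tt N14800 F222804) (tt N18991 (iv F232055)) (tt N14926 F222805) (tt N19016 (iv F232167)) (tt N14752 F222806) (tt N16961 F222807) (tt N15627 F222808) (tt N19013 (iv F232155)) (tt N15612 F222809) (tt N14748 (iv D49731)))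
theorem Q16963 : ∀ i, i < 16963 → P i := stepQ 16962 Q16962 (allL N16962 (tt N14801 F222810) (tt N15605 F222811) (tt N14906 F222812) (tt N19017 D51787) (tt N15604 F222813) (tt N16962 F222814) (tt N14750 F222815) (tt N15609 F222816) (tt N14749 (iv D49732)) (tt N19018 D51788))
theorem Q16964 : ∀ i, i < 16964 → P i := stepQ 16963 Q16963 (allL N16963 (tt N14802 F222817) (tt N18993 (iv F232068)) (tt N15766 F222818) (tt N14750 (iv D49733)) (tt N19019 D51789) (tt N14753 F222819) (tt N19017 (iv F232174)) (tt N14751 F222820) (tt N14760 F222821) (tt N19020 D51790))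
theorem Q16965 : ∀ i, i < 16965 → P i := stepQ 16964 Q16964 (allL N16964 (tt N14803 F222822) (tt N18994 (iv F232074)) (tt N14927 F222823) (tt N19020 (iv F232191)) (tt N19013 (iv F232152)) (tt N14754 F222824) (tt N19018 (iv F232182)) (tt N14752 F222825) (tt N15606 F222826) (tt N14750 (iv D49734)))
theorem Q16966 : ∀ i, i < 16966 → P i := stepQ 16965 Q16965 (allL N16965 (tt N14805 F222827) (tt N18995 (iv F232081)) (tt N15807 F222828) (tt N19015 (iv F232164)) (tt N14751 (iv D49735)) (tt N19021 D51791) (tt N15630 F222829) (tt N19019 (iv F232187)) (tt N14763 F222830) (tt N19022 D51792))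
theorem Q16967 : ∀ i, i < 16967 → P i := stepQ 16966 Q16966 (allL N16966 (tt N14806 F222831) (tt N18996 (iv F232084)) (tt N15769 F222832) (tt N14752 F222833) (tt N19022 (iv F232200)) (tt N14756 F222834) (tt N15631 F222835) (tt N19020 (iv F232193)) (tt N19023 D51793) (tt N14751 (iv D49736)))
theorem Q16968 : ∀ i, i < 16968 → P i := stepQ 16967 Q16967 (allL N16967 (tt N14808 F222836) (tt N18312 (iv F228634)) (tt N15808 F222837) (tt N16967 F222838) (tt N14753 (iv D49737)) (tt N19024 D51794) (tt N16967 F222839) (tt N14755 F222840) (tt N14766 F222841) (tt N19025 D51795))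
theorem Q16969 : ∀ i, i < 16969 → P i := stepQ 16968 Q16968 (allL N16968 (tt N14809 F222842) (tt N18997 (iv F232088)) (tt N15771 F222843) (tt N14754 F222844) (tt N19025 (iv F232216)) (tt N19020 (iv F232192)) (tt N16968 F222845) (tt N14756 F222846) (tt N19026 D51796) (tt N14753 (iv D49738)))
theorem Q16970 : ∀ i, i < 16970 → P i := stepQ 16969 Q16969 (allL N16969 (tt N14813 F222847) (tt N18309 (iv F228620)) (tt N15809 F222848) (tt N16969 F222849) (tt N19021 (iv F232196)) (tt N14755 (iv D49739)) (tt N18240 (iv F228194)) (tt N19024 (iv F232211)) (tt N14771 F222850) (tt N19027 D51797))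
theorem Q16971 : ∀ i, i < 16971 → P i := stepQ 16970 Q16970 (allL N16970 (tt N14814 F222851) (tt N18314 (iv F228647)) (tt N15774 F222852) (tt N16970 F222853) (tt N14756 F222854) (tt N19027 (iv F232228)) (tt N14757 F222855) (tt N19025 (iv F232218)) (tt N19028 D51798) (tt N14755 (iv D49740)))
theorem Q16972 : ∀ i, i < 16972 → P i := stepQ 16971 Q16971 (allL N16971 (tt N14815 F222856) (tt N18998 (iv F232093)) (tt N15740 F222857) (tt N15594 F222858) (tt N19028 (iv F232231)) (tt N19023 (iv F232205)) (tt N14758 F222859) (tt N19026 (iv F232223)) (tt N14756 (iv D49741)) (tt N14773 F222860))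
theorem Q16973 : ∀ i, i < 16973 → P i := stepQ 16972 Q16972 (allL N16972 (tt N14822 F222861) (tt N18318 (iv F228671)) (tt N15754 F222862) (tt N19029 D51799) (tt N14758 F222863) (tt N18244 (iv F228218)) (tt N19028 (iv F232232)) (tt N16972 F222864) (tt N14757 (iv D49742)) (tt N14777 F222865))
theorem Q16974 : ∀ i, i < 16974 → P i := stepQ 16973 Q16973 (allL N16973 (tt N14823 F222866) (tt N18999 (iv F232097)) (tt N19030 D51800) (tt N14759 (iv D49743)) (tt N19031 D51801) (tt N16973 F222867) (tt N14760 F222868) (tt N15634 F222869) (tt N19017 (iv F232176)) (tt N19032 D51802))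
theorem Q16975 : ∀ i, i < 16975 → P i := stepQ 16974 Q16974 (allL N16974 (tt N14824 F222870) (tt N19000 (iv F232102)) (tt N14785 F222871) (tt N19032 (iv F232250)) (tt N18748 (iv F230976)) (tt N16974 F222872) (tt N14761 F222873) (tt N15635 F222874) (tt N18919 (iv F231718)) (tt N14759 (iv D49744)))
theorem Q16976 : ∀ i, i < 16976 → P i := stepQ 16975 Q16975 (allL N16975 (tt N14825 F222875) (tt N15767 (iv F222880)) (tt N14760 (iv D49745)) (tt N14786 F222876) (tt N19033 D51803) (tt N14765 F222877) (tt N19030 (iv F232242)) (tt N14762 F222878) (tt N15766 F222879) (tt N19034 D51804))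
theorem Q16977 : ∀ i, i < 16977 → P i := stepQ 16976 Q16976 (allL N16976 (tt N14826 F222881) (tt N19002 (iv F232112)) (tt N19033 (iv F232256)) (tt N18750 (iv F230984)) (tt N14760 (iv D49746)) (tt N19035 D51805) (tt N19031 (iv F232247)) (tt N14763 F222882) (tt N19019 (iv F232188)) (tt N19036 D51806))
theorem Q16978 : ∀ i, i < 16978 → P i := stepQ 16977 Q16977 (allL N16977 (tt N14827 F222883) (tt N19003 (iv F232114)) (tt N19034 (iv F232261)) (tt N14761 F222884) (tt N19036 (iv F232269)) (tt N14767 F222885) (tt N19032 (iv F232252)) (tt N14764 F222886) (tt N19037 D51807) (tt N14760 (iv D49747)))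
theorem Q16979 : ∀ i, i < 16979 → P i := stepQ 16978 Q16978 (allL N16978 (tt N18388 (iv F229067)) (tt N14762 (iv D49748)) (tt N18332 (iv F228757)) (tt N14789 F222887) (tt N19038 D51808) (tt N14768 F222888) (tt N15639 F222889) (tt N15767 F222890) (tt N15762 F222891) (tt N19039 D51809))
theorem Q16980 : ∀ i, i < 16980 → P i := stepQ 16979 Q16979 (allL N16979 (tt N14829 F222892) (tt N19038 (iv F232274)) (tt N14763 F222893) (tt N19040 D51810) (tt N14762 (iv D49749)) (tt N19041 D51811) (tt N15640 F222894) (tt N19033 (iv F232257)) (tt N15807 F222895) (tt N19042 D51812))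
theorem Q16981 : ∀ i, i < 16981 → P i := stepQ 16980 Q16980 (allL N16980 (tt N14830 F222896) (tt N19039 (iv F232278)) (tt N14764 F222897) (tt N14791 F222898) (tt N19042 (iv F232292)) (tt N14770 F222899) (tt N15641 F222900) (tt N19034 (iv F232264)) (tt N19043 D51813) (tt N14762 (iv D49750)))
theorem Q16982 : ∀ i, i < 16982 → P i := stepQ 16981 Q16981 (allL N16981 (tt N14831 F222901) (tt N18965 (iv F231939)) (tt N19041 (iv F232287)) (tt N18755 (iv F231002)) (tt N14771 F222902) (tt N14763 (iv D49751)) (tt N18253 (iv F228267)) (tt N19035 (iv F232267)) (tt N19021 (iv F232197)) (tt N19044 D51814))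
theorem Q16983 : ∀ i, i < 16983 → P i := stepQ 16982 Q16982 (allL N16982 (tt N14832 F222903) (tt N19006 (iv F232124)) (tt N19042 (iv F232291)) (tt N18756 (iv F231005)) (tt N14764 F222904) (tt N19044 (iv F232302)) (tt N15642 F222905) (tt N19036 (iv F232270)) (tt N19045 D51815) (tt N14763 (iv D49752)))
theorem Q16984 : ∀ i, i < 16984 → P i := stepQ 16983 Q16983 (allL N16983 (tt N14833 F222906) (tt N19007 (iv F232127)) (tt N19043 (iv F232295)) (tt N18924 (iv F231738)) (tt N19045 (iv F232304)) (tt N14773 F222907) (tt N15643 F222908) (tt N19037 (iv F232273)) (tt N14764 (iv D49753)) (tt N19023 (iv F232207)))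
theorem Q16985 : ∀ i, i < 16985 → P i := stepQ 16984 Q16984 (allL N16984 (tt N14835 F222909) (tt N15915 F222910) (tt N14766 F222911) (tt N16984 F222912) (tt N14765 (iv D49754)) (tt N19046 D51816) (tt N16984 F222913) (tt N14769 F222914) (tt N15808 F222915) (tt N19047 D51817))
theorem Q16986 : ∀ i, i < 16986 → P i := stepQ 16985 Q16985 (allL N16985 (tt N14836 F222916) (tt N15955 F222917) (tt N14767 F222918) (tt N14793 F222919) (tt N19047 (iv F232316)) (tt N19034 (iv F232263)) (tt N16985 F222920) (tt N14770 F222921) (tt N19048 D51818) (tt N14765 (iv D49755)))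
theorem Q16987 : ∀ i, i < 16987 → P i := stepQ 16986 Q16986 (allL N16986 (tt N14837 F222922) (tt N18974 (iv F231984)) (tt N19046 (iv F232308)) (tt N14778 F222923) (tt N19035 (iv F232266)) (tt N14766 (iv D49756)) (tt N19049 D51819) (tt N14771 F222924) (tt N19024 (iv F232212)) (tt N19050 D51820))
theorem Q16988 : ∀ i, i < 16988 → P i := stepQ 16987 Q16987 (allL N16987 (tt N14838 F222925) (tt N18978 (iv F231996)) (tt N19047 (iv F232314)) (tt N14779 F222926) (tt N14767 F222927) (tt N19050 (iv F232331)) (tt N16987 F222928) (tt N14772 F222929) (tt N19051 D51821) (tt N14766 (iv D49757)))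
theorem Q16989 : ∀ i, i < 16989 → P i := stepQ 16988 Q16988 (allL N16988 (tt N14839 F222930) (tt N19009 (iv F232135)) (tt N19048 (iv F232321)) (tt N18926 (iv F231750)) (tt N19051 (iv F232334)) (tt N19037 (iv F232272)) (tt N16988 F222931) (tt N14773 F222932) (tt N14767 (iv D49758)) (tt N19026 (iv F232224)))
theorem Q16990 : ∀ i, i < 16990 → P i := stepQ 16989 Q16989 (allL N16989 (tt N18389 (iv F229074)) (tt N14770 F222933) (tt N18333 (iv F228764)) (tt N14795 F222934) (tt N18331 (iv F228752)) (tt N19039 (iv F232280)) (tt N14774 F222935) (tt N15955 F222936) (tt N19052 D51822) (tt N14768 (iv D49759)))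
theorem Q16991 : ∀ i, i < 16991 → P i := stepQ 16990 Q16990 (allL N16990 (tt N14843 F222937) (tt N18327 (iv F228729)) (tt N14771 F222938) (tt N16990 F222939) (tt N19041 (iv F232288)) (tt N14769 (iv D49760)) (tt N18262 (iv F228316)) (tt N19046 (iv F232310)) (tt N15809 F222940) (tt N19053 D51823))
theorem Q16992 : ∀ i, i < 16992 → P i := stepQ 16991 Q16991 (allL N16991 (tt N14844 F222941) (tt N18331 (iv F228749)) (tt N14772 F222942) (tt N16991 F222943) (tt N14770 F222944) (tt N19053 (iv F232345)) (tt N14775 F222945) (tt N19047 (iv F232318)) (tt N19054 D51824) (tt N14769 (iv D49761)))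
theorem Q16993 : ∀ i, i < 16993 → P i := stepQ 16992 Q16992 (allL N16992 (tt N14845 F222946) (tt N19052 (iv F232337)) (tt N14773 F222947) (tt N15691 F222948) (tt N19054 (iv F232348)) (tt N19043 (iv F232297)) (tt N14776 F222949) (tt N19048 (iv F232324)) (tt N14770 (iv D49762)) (tt N15740 F222950))
theorem Q16994 : ∀ i, i < 16994 → P i := stepQ 16993 Q16993 (allL N16993 (tt N14847 F222951) (tt N18975 (iv F231987)) (tt N19053 (iv F232343)) (tt N14781 F222952) (tt N19044 (iv F232301)) (tt N14772 F222953) (tt N18265 (iv F228331)) (tt N19050 (iv F232332)) (tt N19055 D51825) (tt N14771 (iv D49763)))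
theorem Q16995 : ∀ i, i < 16995 → P i := stepQ 16994 Q16994 (allL N16994 (tt N14848 F222954) (tt N18979 (iv F232001)) (tt N19054 (iv F232347)) (tt N19056 D51826) (tt N14773 F222955) (tt N19055 (iv F232352)) (tt N14777 F222956) (tt N19051 (iv F232336)) (tt N14772 (iv D49764)) (tt N19028 (iv F232233)))
theorem Q16996 : ∀ i, i < 16996 → P i := stepQ 16995 Q16995 (allL N16995 (tt N18395 (iv F229104)) (tt N14776 F222957) (tt N18336 (iv F228782)) (tt N15697 F222958) (tt N18335 (iv F228776)) (tt N15651 F222959) (tt N19052 (iv F232339)) (tt N16995 F222960) (tt N14774 (iv D49765)) (tt N15749 F222961))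
theorem Q16997 : ∀ i, i < 16997 → P i := stepQ 16996 Q16996 (allL N16996 (tt N14855 F222962) (tt N18335 (iv F228774)) (tt N14777 F222963) (tt N19057 D51827) (tt N14776 F222964) (tt N18268 (iv F228347)) (tt N19054 (iv F232349)) (tt N16996 F222965) (tt N14775 (iv D49766)) (tt N15754 F222966))
theorem Q16998 : ∀ i, i < 16998 → P i := stepQ 16997 Q16997 (allL N16997 (tt N14860 F222967) (tt N18980 (iv F232004)) (tt N19058 D51828) (tt N14777 (iv D49767)) (tt N18929 (iv F231764)) (tt N18270 (iv F228358)) (tt N19056 (iv F232354)) (tt N16997 F222968) (tt N14783 F222969) (tt N19029 (iv F232238)))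
theorem Q16999 : ∀ i, i < 16999 → P i := stepQ 16998 Q16998 (allL N16998 (tt N14861 F222970) (tt N18887 (iv F231531)) (tt N16998 F222971) (tt N19049 (iv F232327)) (tt N18775 (iv F231078)) (tt N16998 F222972) (tt N14778 (iv D49768)) (tt N18271 (iv F228366)) (tt N16998 F222973) (tt N19059 D51829))
theorem Q17000 : ∀ i, i < 17000 → P i := stepQ 16999 Q16999 (allL N16999 (tt N14862 F222974) (tt N18985 (iv F232028)) (tt N16999 F222975) (tt N19050 (iv F232330)) (tt N18776 (iv F231085)) (tt N14779 F222976) (tt N19059 (iv F232367)) (tt N14781 F222977) (tt N19060 D51830) (tt N14778 (iv D49769)))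
theorem Q17001 : ∀ i, i < 17001 → P i := stepQ 17000 Q17000 (allL N17000 (tt N14863 F222978) (tt N18989 (iv F232045)) (tt N17000 F222979) (tt N19061 D51831) (tt N14780 F222980) (tt N19060 (iv F232370)) (tt N17000 F222981) (tt N14782 F222982) (tt N14779 (iv D49770)) (tt N17000 F222983))
theorem Q17002 : ∀ i, i < 17002 → P i := stepQ 17001 Q17001 (allL N17001 (tt N14866 F222984) (tt N18986 (iv F232033)) (tt N17001 F222985) (tt N19062 D51832) (tt N18778 (iv F231097)) (tt N14782 F222986) (tt N18274 (iv F228384)) (tt N19060 (iv F232371)) (tt N14781 (iv D49771)) (tt N17001 F222987))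
theorem Q17003 : ∀ i, i < 17003 → P i := stepQ 17002 Q17002 (allL N17002 (tt N14867 F222988) (tt N18990 (iv F232051)) (tt N19063 D51833) (tt N14782 (iv D49772)) (tt N18932 (iv F231778)) (tt N19062 (iv F232378)) (tt N14783 F222989) (tt N19061 (iv F232375)) (tt N19056 (iv F232355)) (tt N17002 F222990))
theorem Q17004 : ∀ i, i < 17004 → P i := stepQ 17003 Q17003 (allL N17003 (tt N14871 F222991) (tt N18290 (iv F228484)) (tt N14783 (iv D49773)) (tt N17003 F222992) (tt N18289 F228482) (tt N18276 (iv F228394)) (tt N19063 (iv F232382)) (tt N17003 F222993) (tt N19058 (iv F232363)) (tt N17003 F222994))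
theorem Q17005 : ∀ i, i < 17005 → P i := stepQ 17004 Q17004 (allL N17004 (tt N14873 F222995) (tt N14965 (iv F223000)) (tt N14784 (iv D49774)) (tt N19030 (iv F232240)) (tt N19064 D51834) (tt N17004 F222996) (tt N14786 F222997) (tt N15652 F222998) (tt N14928 F222999) (tt N19065 D51835))
theorem Q17006 : ∀ i, i < 17006 → P i := stepQ 17005 Q17005 (allL N17005 (tt N14874 F223001) (tt N17005 F223002) (tt N19064 (iv F232386)) (tt N18090 (iv F227193)) (tt N14784 (iv D49775)) (tt N14978 (iv F223006)) (tt N14787 F223003) (tt N14976 F223004) (tt N14929 F223005) (tt N19066 D51836))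
theorem Q17007 : ∀ i, i < 17007 → P i := stepQ 17006 Q17006 (allL N17006 (tt N14875 F223007) (tt N17006 F223008) (tt N19065 (iv F232393)) (tt N14785 F223009) (tt N19066 (iv F232400)) (tt N17006 F223010) (tt N14788 F223011) (tt N15653 F223012) (tt N15792 F223013) (tt N14784 (iv D49776)))
theorem Q17008 : ∀ i, i < 17008 → P i := stepQ 17007 Q17007 (allL N17007 (tt N14877 F223014) (tt N15805 F223015) (tt N14787 F223016) (tt N19067 D51837) (tt N14786 (iv D49777)) (tt N17007 F223017) (tt N19064 (iv F232387)) (tt N14790 F223018) (tt N14930 F223019) (tt N19068 D51838))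
theorem Q17009 : ∀ i, i < 17009 → P i := stepQ 17008 Q17008 (allL N17008 (tt N14878 F223020) (tt N15806 F223021) (tt N14788 F223022) (tt N19034 (iv F232262)) (tt N19068 (iv F232413)) (tt N14793 F223023) (tt N19065 (iv F232395)) (tt N14791 F223024) (tt N15795 F223025) (tt N14786 (iv D49778)))
theorem Q17010 : ∀ i, i < 17010 → P i := stepQ 17009 Q17009 (allL N17009 (tt N14879 F223026) (tt N17009 F223027) (tt N19068 (iv F232412)) (tt N18783 (iv F231121)) (tt N14788 F223028) (tt N17009 F223029) (tt N19066 (iv F232402)) (tt N14792 F223030) (tt N15796 F223031) (tt N14787 (iv D49779)))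
theorem Q17011 : ∀ i, i < 17011 → P i := stepQ 17010 Q17010 (allL N17010 (tt N14789 (iv D49780)) (tt N14881 F223032) (tt N17010 F223033) (tt N18388 (iv F229070)) (tt N19069 D51839) (tt N14794 F223034) (tt N15658 F223035) (tt N15782 F223036) (tt N14931 F223037) (tt N19070 D51840))
theorem Q17012 : ∀ i, i < 17012 → P i := stepQ 17011 Q17011 (allL N17011 (tt N19069 (iv F232417)) (tt N14790 F223038) (tt N17011 F223039) (tt N19071 D51841) (tt N14789 (iv D49781)) (tt N17011 F223040) (tt N15659 F223041) (tt N15805 F223042) (tt N14932 F223043) (tt N19072 D51842))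
theorem Q17013 : ∀ i, i < 17013 → P i := stepQ 17012 Q17012 (allL N17012 (tt N19070 (iv F232424)) (tt N14791 F223044) (tt N17012 F223045) (tt N19039 (iv F232279)) (tt N19072 (iv F232438)) (tt N14795 F223046) (tt N15660 F223047) (tt N15806 F223048) (tt N15799 F223049) (tt N14789 (iv D49782)))
theorem Q17014 : ∀ i, i < 17014 → P i := stepQ 17013 Q17013 (allL N17013 (tt N14884 F223050) (tt N19071 (iv F232431)) (tt N18422 (iv F229234)) (tt N14790 (iv D49783)) (tt N19040 (iv F232284)) (tt N17013 F223051) (tt N15661 F223052) (tt N19067 (iv F232408)) (tt N19073 D51843) (tt N19074 D51844))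
theorem Q17015 : ∀ i, i < 17015 → P i := stepQ 17014 Q17014 (allL N17014 (tt N14885 F223053) (tt N19072 (iv F232436)) (tt N14792 F223054) (tt N19074 (iv F232450)) (tt N14791 F223055) (tt N17014 F223056) (tt N15662 F223057) (tt N19068 (iv F232415)) (tt N15801 F223058) (tt N14790 (iv D49784)))
theorem Q17016 : ∀ i, i < 17016 → P i := stepQ 17015 Q17015 (allL N17015 (tt N14795 F223059) (tt N14891 F223060) (tt N17015 F223061) (tt N18389 (iv F229077)) (tt N17015 F223062) (tt N19070 (iv F232427)) (tt N14796 F223063) (tt N15958 F223064) (tt N15804 F223065) (tt N14794 (iv D49785)))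
theorem Q17017 : ∀ i, i < 17017 → P i := stepQ 17016 Q17016 (allL N17016 (tt N15604 F223066) (tt N15966 F223067) (tt N14934 F223068) (tt N19075 D51845) (tt N14801 F223069) (tt N15613 F223070) (tt N14798 F223071) (tt N15608 F223072) (tt N14797 (iv D49786)) (tt N19076 D51846))
theorem Q17018 : ∀ i, i < 17018 → P i := stepQ 17017 Q17017 (allL N17017 (tt N19012 (iv F232143)) (tt N18366 (iv F228961)) (tt N19077 D51847) (tt N14798 (iv D49787)) (tt N19078 D51848) (tt N17017 F223073) (tt N19075 (iv F232456)) (tt N14799 F223074) (tt N18796 (iv F231193)) (tt N19079 D51849))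
theorem Q17019 : ∀ i, i < 17019 → P i := stepQ 17018 Q17018 (allL N17018 (tt N19013 (iv F232149)) (tt N18367 (iv F228966)) (tt N14936 F223075) (tt N19079 (iv F232472)) (tt N14803 F223076) (tt N17018 F223077) (tt N19076 (iv F232464)) (tt N14800 F223078) (tt N18934 (iv F231789)) (tt N14798 (iv D49788)))
theorem Q17020 : ∀ i, i < 17020 → P i := stepQ 17019 Q17019 (allL N17019 (tt N19014 (iv F232157)) (tt N19080 D51850) (tt N14799 (iv D49789)) (tt N14937 F223079) (tt N19081 D51851) (tt N17019 F223080) (tt N15667 F223081) (tt N19077 (iv F232469)) (tt N18798 (iv F231203)) (tt N19082 D51852))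
theorem Q17021 : ∀ i, i < 17021 → P i := stepQ 17020 Q17020 (allL N17020 (tt N19015 (iv F232163)) (tt N18369 (iv F228977)) (tt N19081 (iv F232478)) (tt N14805 F223082) (tt N14799 (iv D49790)) (tt N19083 D51853) (tt N15668 F223083) (tt N19078 (iv F232471)) (tt N18799 (iv F231207)) (tt N19084 D51854))
theorem Q17022 : ∀ i, i < 17022 → P i := stepQ 17021 Q17021 (allL N17021 (tt N19016 (iv F232166)) (tt N18370 (iv F228981)) (tt N19082 (iv F232480)) (tt N14800 F223084) (tt N19084 (iv F232487)) (tt N17021 F223085) (tt N15669 F223086) (tt N19079 (iv F232474)) (tt N19085 D51855) (tt N14799 (iv D49791)))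
theorem Q17023 : ∀ i, i < 17023 → P i := stepQ 17022 Q17022 (allL N17022 (tt N19017 (iv F232170)) (tt N18371 (iv F228985)) (tt N19086 D51856) (tt N14801 (iv D49792)) (tt N19087 D51857) (tt N17022 F223087) (tt N14802 F223088) (tt N15670 F223089) (tt N14823 F223090) (tt N19088 D51858))
theorem Q17024 : ∀ i, i < 17024 → P i := stepQ 17023 Q17023 (allL N17023 (tt N19018 (iv F232177)) (tt N18372 (iv F228990)) (tt N14940 F223091) (tt N19088 (iv F232500)) (tt N19076 (iv F232462)) (tt N17023 F223092) (tt N14803 F223093) (tt N15671 F223094) (tt N18939 (iv F231812)) (tt N14801 (iv D49793)))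
theorem Q17025 : ∀ i, i < 17025 → P i := stepQ 17024 Q17024 (allL N17024 (tt N15766 F223095) (tt N19089 D51859) (tt N14802 (iv D49794)) (tt N14941 F223096) (tt N19090 D51860) (tt N14807 F223097) (tt N19086 (iv F232494)) (tt N14804 F223098) (tt N14825 F223099) (tt N19091 D51861))
theorem Q17026 : ∀ i, i < 17026 → P i := stepQ 17025 Q17025 (allL N17025 (tt N19019 (iv F232185)) (tt N18374 (iv F229001)) (tt N19090 (iv F232510)) (tt N19078 (iv F232470)) (tt N14802 (iv D49795)) (tt N19092 D51862) (tt N19087 (iv F232497)) (tt N14805 F223100) (tt N14826 F223101) (tt N19093 D51863))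
theorem Q17027 : ∀ i, i < 17027 → P i := stepQ 17026 Q17026 (allL N17026 (tt N19020 (iv F232189)) (tt N18375 (iv F229004)) (tt N19091 (iv F232515)) (tt N14803 F223102) (tt N19093 (iv F232522)) (tt N14809 F223103) (tt N19088 (iv F232502)) (tt N14806 F223104) (tt N19094 D51864) (tt N14802 (iv D49796)))
theorem Q17028 : ∀ i, i < 17028 → P i := stepQ 17027 Q17027 (allL N17027 (tt N18426 (iv F229255)) (tt N14804 (iv D49797)) (tt N18376 (iv F229009)) (tt N14943 F223105) (tt N19095 D51865) (tt N14810 F223106) (tt N15675 F223107) (tt N19089 (iv F232507)) (tt N14828 F223108) (tt N19096 D51866))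
theorem Q17029 : ∀ i, i < 17029 → P i := stepQ 17028 Q17028 (allL N17028 (tt N15807 F223109) (tt N19095 (iv F232527)) (tt N14805 F223110) (tt N19097 D51867) (tt N14804 (iv D49798)) (tt N19098 D51868) (tt N15676 F223111) (tt N19090 (iv F232512)) (tt N14829 F223112) (tt N19099 D51869))
theorem Q17030 : ∀ i, i < 17030 → P i := stepQ 17029 Q17029 (allL N17029 (tt N15769 F223113) (tt N19096 (iv F232530)) (tt N14806 F223114) (tt N14945 F223115) (tt N19099 (iv F232544)) (tt N14812 F223116) (tt N15677 F223117) (tt N19091 (iv F232518)) (tt N19100 D51870) (tt N14804 (iv D49799)))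
theorem Q17031 : ∀ i, i < 17031 → P i := stepQ 17030 Q17030 (allL N17030 (tt N19021 (iv F232194)) (tt N18379 (iv F229021)) (tt N19098 (iv F232539)) (tt N19083 (iv F232484)) (tt N14813 F223118) (tt N14805 (iv D49800)) (tt N19101 D51871) (tt N19092 (iv F232520)) (tt N14831 F223119) (tt N19102 D51872))
theorem Q17032 : ∀ i, i < 17032 → P i := stepQ 17031 Q17031 (allL N17031 (tt N19022 (iv F232198)) (tt N18380 (iv F229024)) (tt N19099 (iv F232543)) (tt N19084 (iv F232486)) (tt N14806 F223120) (tt N19102 (iv F232556)) (tt N15679 F223121) (tt N19093 (iv F232523)) (tt N19103 D51873) (tt N14805 (iv D49801)))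
theorem Q17033 : ∀ i, i < 17033 → P i := stepQ 17032 Q17032 (allL N17032 (tt N19023 (iv F232202)) (tt N18381 (iv F229027)) (tt N19100 (iv F232547)) (tt N18944 (iv F231832)) (tt N19103 (iv F232557)) (tt N14815 F223122) (tt N15680 F223123) (tt N19094 (iv F232525)) (tt N14806 (iv D49802)) (tt N14833 F223124))
theorem Q17034 : ∀ i, i < 17034 → P i := stepQ 17033 Q17033 (allL N17033 (tt N15900 F223125) (tt N14807 (iv D49803)) (tt N18382 (iv F229032)) (tt N14947 F223126) (tt N18419 (iv F229217)) (tt N19089 (iv F232506)) (tt N17033 F223127) (tt N14810 F223128) (tt N14834 F223129) (tt N19104 D51874))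
theorem Q17035 : ∀ i, i < 17035 → P i := stepQ 17034 Q17034 (allL N17034 (tt N15808 F223130) (tt N18419 (iv F229214)) (tt N14808 F223131) (tt N15910 F223132) (tt N14807 (iv D49804)) (tt N19105 D51875) (tt N17034 F223133) (tt N14811 F223134) (tt N14835 F223135) (tt N19106 D51876))
theorem Q17036 : ∀ i, i < 17036 → P i := stepQ 17035 Q17035 (allL N17035 (tt N15771 F223136) (tt N19104 (iv F232561)) (tt N14809 F223137) (tt N14948 F223138) (tt N19106 (iv F232573)) (tt N19091 (iv F232517)) (tt N17035 F223139) (tt N14812 F223140) (tt N19107 D51877) (tt N14807 (iv D49805)))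
theorem Q17037 : ∀ i, i < 17037 → P i := stepQ 17036 Q17036 (allL N17036 (tt N19024 (iv F232208)) (tt N18384 (iv F229045)) (tt N19105 (iv F232566)) (tt N17036 F223141) (tt N19092 (iv F232519)) (tt N14808 (iv D49806)) (tt N19108 D51878) (tt N14813 F223142) (tt N14837 F223143) (tt N19109 D51879))
theorem Q17038 : ∀ i, i < 17038 → P i := stepQ 17037 Q17037 (allL N17037 (tt N19025 (iv F232213)) (tt N18385 (iv F229051)) (tt N19106 (iv F232571)) (tt N17037 F223144) (tt N14809 F223145) (tt N19109 (iv F232586)) (tt N17037 F223146) (tt N14814 F223147) (tt N19110 D51880) (tt N14808 (iv D49807)))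
theorem Q17039 : ∀ i, i < 17039 → P i := stepQ 17038 Q17038 (allL N17038 (tt N19026 (iv F232219)) (tt N18386 (iv F229057)) (tt N19107 (iv F232577)) (tt N18947 (iv F231849)) (tt N19110 (iv F232588)) (tt N19094 (iv F232524)) (tt N17038 F223148) (tt N14815 F223149) (tt N14809 (iv D49808)) (tt N14839 F223150))
theorem Q17040 : ∀ i, i < 17040 → P i := stepQ 17039 Q17039 (allL N17039 (tt N18427 (iv F229262)) (tt N14812 F223151) (tt N18387 (iv F229063)) (tt N14950 F223152) (tt N18425 (iv F229253)) (tt N19096 (iv F232532)) (tt N14816 F223153) (tt N19104 (iv F232564)) (tt N19111 D51881) (tt N14810 (iv D49809)))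
theorem Q17041 : ∀ i, i < 17041 → P i := stepQ 17040 Q17040 (allL N17040 (tt N15809 F223154) (tt N18409 (iv F229174)) (tt N14813 F223155) (tt N15959 F223156) (tt N19098 (iv F232540)) (tt N14811 (iv D49810)) (tt N19112 D51882) (tt N19105 (iv F232568)) (tt N14843 F223157) (tt N19113 D51883))
theorem Q17042 : ∀ i, i < 17042 → P i := stepQ 17041 Q17041 (allL N17041 (tt N15774 F223158) (tt N18425 (iv F229250)) (tt N14814 F223159) (tt N15908 F223160) (tt N14812 F223161) (tt N19113 (iv F232605)) (tt N14818 F223162) (tt N19106 (iv F232575)) (tt N19114 D51884) (tt N14811 (iv D49811)))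
theorem Q17043 : ∀ i, i < 17043 → P i := stepQ 17042 Q17042 (allL N17042 (tt N15740 F223163) (tt N19111 (iv F232592)) (tt N14815 F223164) (tt N15649 F223165) (tt N19114 (iv F232608)) (tt N19100 (iv F232549)) (tt N14819 F223166) (tt N19107 (iv F232580)) (tt N14812 (iv D49812)) (tt N14845 F223167))
theorem Q17044 : ∀ i, i < 17044 → P i := stepQ 17043 Q17043 (allL N17043 (tt N18240 (iv F228190)) (tt N18391 (iv F229085)) (tt N19112 (iv F232598)) (tt N17043 F223168) (tt N19101 (iv F232552)) (tt N14820 F223169) (tt N14813 (iv D49813)) (tt N19115 D51885) (tt N14846 F223170) (tt N19116 D51886))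
theorem Q17045 : ∀ i, i < 17045 → P i := stepQ 17044 Q17044 (allL N17044 (tt N19027 (iv F232225)) (tt N18392 (iv F229090)) (tt N19113 (iv F232603)) (tt N17044 F223171) (tt N19102 (iv F232555)) (tt N14814 F223172) (tt N19116 (iv F232616)) (tt N19109 (iv F232587)) (tt N19117 D51887) (tt N14813 (iv D49814)))
theorem Q17046 : ∀ i, i < 17046 → P i := stepQ 17045 Q17045 (allL N17045 (tt N19028 (iv F232229)) (tt N18393 (iv F229093)) (tt N19114 (iv F232607)) (tt N19118 D51888) (tt N14815 F223173) (tt N19117 (iv F232617)) (tt N14822 F223174) (tt N19110 (iv F232590)) (tt N14814 (iv D49815)) (tt N14848 F223175))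
theorem Q17047 : ∀ i, i < 17047 → P i := stepQ 17046 Q17046 (allL N17046 (tt N18438 (iv F229310)) (tt N14819 F223176) (tt N18394 (iv F229099)) (tt N15651 F223177) (tt N18437 (iv F229306)) (tt N15697 F223178) (tt N19111 (iv F232594)) (tt N17046 F223179) (tt N14816 (iv D49816)) (tt N14852 F223180))
theorem Q17048 : ∀ i, i < 17048 → P i := stepQ 17047 Q17047 (allL N17047 (tt N15170 F223181) (tt N15242 F223182) (tt N14820 F223183) (tt N15196 F223184) (tt N15698 F223185) (tt N19112 (iv F232600)) (tt N14817 (iv D49817)) (tt N19119 D51889) (tt N14853 F223186) (tt N19120 D51890))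
theorem Q17049 : ∀ i, i < 17049 → P i := stepQ 17048 Q17048 (allL N17048 (tt N15176 F223187) (tt N15252 F223188) (tt N14821 F223189) (tt N15199 F223190) (tt N15699 F223191) (tt N14818 F223192) (tt N19120 (iv F232634)) (tt N17048 F223193) (tt N19121 D51891) (tt N14817 (iv D49818)))
theorem Q17050 : ∀ i, i < 17050 → P i := stepQ 17049 Q17049 (allL N17049 (tt N15754 F223194) (tt N18437 (iv F229304)) (tt N14822 F223195) (tt N19122 D51892) (tt N14819 F223196) (tt N19121 (iv F232639)) (tt N19114 (iv F232609)) (tt N17049 F223197) (tt N14818 (iv D49819)) (tt N14855 F223198))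
theorem Q17051 : ∀ i, i < 17051 → P i := stepQ 17050 Q17050 (allL N17050 (tt N18237 (iv F228172)) (tt N18397 (iv F229117)) (tt N19119 (iv F232624)) (tt N17050 F223199) (tt N15701 F223200) (tt N19115 (iv F232612)) (tt N17050 F223201) (tt N14820 (iv D49820)) (tt N14857 F223202) (tt N19123 D51893))
theorem Q17052 : ∀ i, i < 17052 → P i := stepQ 17051 Q17051 (allL N17051 (tt N18241 (iv F228196)) (tt N18398 (iv F229124)) (tt N19120 (iv F232631)) (tt N17051 F223203) (tt N15702 F223204) (tt N19116 (iv F232615)) (tt N14821 F223205) (tt N19123 (iv F232651)) (tt N19124 D51894) (tt N14820 (iv D49821)))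
theorem Q17053 : ∀ i, i < 17053 → P i := stepQ 17052 Q17052 (allL N17052 (tt N18244 (iv F228214)) (tt N18399 (iv F229130)) (tt N19121 (iv F232637)) (tt N19125 D51895) (tt N15703 F223206) (tt N14822 F223207) (tt N19124 (iv F232653)) (tt N17052 F223208) (tt N14821 (iv D49822)) (tt N14859 F223209))
theorem Q17054 : ∀ i, i < 17054 → P i := stepQ 17053 Q17053 (allL N17053 (tt N19029 (iv F232234)) (tt N18400 (iv F229136)) (tt N19126 D51896) (tt N14822 (iv D49823)) (tt N18950 (iv F231864)) (tt N19125 (iv F232655)) (tt N19118 (iv F232619)) (tt N17053 F223210) (tt N17053 F223211) (tt N14860 F223212))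
theorem Q17055 : ∀ i, i < 17055 → P i := stepQ 17054 Q17054 (allL N17054 (tt N19030 (iv F232239)) (tt N19127 D51897) (tt N14823 (iv D49824)) (tt N14873 F223213) (tt N19128 D51898) (tt N17054 F223214) (tt N14825 F223215) (tt N15704 F223216) (tt N19086 (iv F232496)) (tt N19129 D51899))
theorem Q17056 : ∀ i, i < 17056 → P i := stepQ 17055 Q17055 (allL N17055 (tt N19031 (iv F232246)) (tt N18401 (iv F229140)) (tt N19128 (iv F232669)) (tt N18829 (iv F231319)) (tt N14823 (iv D49825)) (tt N19130 D51900) (tt N14826 F223217) (tt N15705 F223218) (tt N19087 (iv F232499)) (tt N19131 D51901))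
theorem Q17057 : ∀ i, i < 17057 → P i := stepQ 17056 Q17056 (allL N17056 (tt N19032 (iv F232249)) (tt N18402 (iv F229143)) (tt N19129 (iv F232672)) (tt N14824 F223219) (tt N19131 (iv F232679)) (tt N17056 F223220) (tt N14827 F223221) (tt N15706 F223222) (tt N19132 D51902) (tt N14823 (iv D49826)))
theorem Q17058 : ∀ i, i < 17058 → P i := stepQ 17057 Q17057 (allL N17057 (tt N19133 D51903) (tt N14825 (iv D49827)) (tt N18403 (iv F229148)) (tt N14876 F223223) (tt N19134 D51904) (tt N14834 F223224) (tt N19127 (iv F232667)) (tt N14828 F223225) (tt N19089 (iv F232508)) (tt N19135 D51905))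
theorem Q17059 : ∀ i, i < 17059 → P i := stepQ 17058 Q17058 (allL N17058 (tt N19033 (iv F232254)) (tt N19134 (iv F232691)) (tt N14826 F223226) (tt N19136 D51906) (tt N14825 (iv D49828)) (tt N19137 D51907) (tt N19128 (iv F232670)) (tt N14829 F223227) (tt N19090 (iv F232513)) (tt N19138 D51908))
theorem Q17060 : ∀ i, i < 17060 → P i := stepQ 17059 Q17059 (allL N17059 (tt N19034 (iv F232259)) (tt N19135 (iv F232693)) (tt N14827 F223228) (tt N14878 F223229) (tt N19138 (iv F232703)) (tt N14836 F223230) (tt N19129 (iv F232675)) (tt N14830 F223231) (tt N19139 D51909) (tt N14825 (iv D49829)))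
theorem Q17061 : ∀ i, i < 17061 → P i := stepQ 17060 Q17060 (allL N17060 (tt N19035 (iv F232265)) (tt N18406 (iv F229163)) (tt N19137 (iv F232699)) (tt N18833 (iv F231334)) (tt N14837 F223232) (tt N14826 (iv D49830)) (tt N19140 D51910) (tt N14831 F223233) (tt N19092 (iv F232521)) (tt N19141 D51911))
theorem Q17062 : ∀ i, i < 17062 → P i := stepQ 17061 Q17061 (allL N17061 (tt N19036 (iv F232268)) (tt N18407 (iv F229168)) (tt N19138 (iv F232702)) (tt N18834 (iv F231337)) (tt N14827 F223234) (tt N19141 (iv F232710)) (tt N19131 (iv F232680)) (tt N14832 F223235) (tt N19142 D51912) (tt N14826 (iv D49831)))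
theorem Q17063 : ∀ i, i < 17063 → P i := stepQ 17062 Q17062 (allL N17062 (tt N19037 (iv F232271)) (tt N18408 (iv F229171)) (tt N19139 (iv F232705)) (tt N18958 (iv F231899)) (tt N19142 (iv F232712)) (tt N14839 F223236) (tt N19132 (iv F232683)) (tt N14833 F223237) (tt N14827 (iv D49832)) (tt N19094 (iv F232526)))
theorem Q17064 : ∀ i, i < 17064 → P i := stepQ 17063 Q17063 (allL N17063 (tt N14828 (iv D49833)) (tt N18388 (iv F229068)) (tt N18409 (iv F229175)) (tt N14881 F223238) (tt N19143 D51913) (tt N14840 F223239) (tt N15713 F223240) (tt N19133 (iv F232689)) (tt N18426 (iv F229261)) (tt N19144 D51914))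
theorem Q17065 : ∀ i, i < 17065 → P i := stepQ 17064 Q17064 (allL N17064 (tt N19143 (iv F232714)) (tt N14829 F223241) (tt N18410 (iv F229181)) (tt N19145 D51915) (tt N14828 (iv D49834)) (tt N19146 D51916) (tt N15714 F223242) (tt N19134 (iv F232692)) (tt N19095 (iv F232529)) (tt N19147 D51917))
theorem Q17066 : ∀ i, i < 17066 → P i := stepQ 17065 Q17065 (allL N17065 (tt N19144 (iv F232716)) (tt N14830 F223243) (tt N18411 (iv F229184)) (tt N14883 F223244) (tt N19147 (iv F232726)) (tt N14842 F223245) (tt N15715 F223246) (tt N19135 (iv F232696)) (tt N19148 D51918) (tt N14828 (iv D49835)))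
theorem Q17067 : ∀ i, i < 17067 → P i := stepQ 17066 Q17066 (allL N17066 (tt N19040 (iv F232283)) (tt N19145 (iv F232720)) (tt N18839 (iv F231358)) (tt N14829 (iv D49836)) (tt N14884 F223247) (tt N19149 D51919) (tt N15716 F223248) (tt N19136 (iv F232698)) (tt N19150 D51920) (tt N19151 D51921))
theorem Q17068 : ∀ i, i < 17068 → P i := stepQ 17067 Q17067 (allL N17067 (tt N19041 (iv F232286)) (tt N19146 (iv F232723)) (tt N14831 F223249) (tt N19149 (iv F232731)) (tt N14843 F223250) (tt N14829 (iv D49837)) (tt N19152 D51922) (tt N19137 (iv F232701)) (tt N19098 (iv F232541)) (tt N19153 D51923))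
theorem Q17069 : ∀ i, i < 17069 → P i := stepQ 17068 Q17068 (allL N17068 (tt N19042 (iv F232290)) (tt N19147 (iv F232725)) (tt N14832 F223251) (tt N19151 (iv F232735)) (tt N14830 F223252) (tt N19153 (iv F232743)) (tt N15718 F223253) (tt N19138 (iv F232704)) (tt N19154 D51924) (tt N14829 (iv D49838)))
theorem Q17070 : ∀ i, i < 17070 → P i := stepQ 17069 Q17069 (allL N17069 (tt N19043 (iv F232294)) (tt N19148 (iv F232728)) (tt N14833 F223254) (tt N19155 D51925) (tt N19154 (iv F232745)) (tt N14845 F223255) (tt N15719 F223256) (tt N19139 (iv F232707)) (tt N14830 (iv D49839)) (tt N19100 (iv F232551)))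
theorem Q17071 : ∀ i, i < 17071 → P i := stepQ 17070 Q17070 (allL N17070 (tt N18253 (iv F228264)) (tt N18416 (iv F229205)) (tt N19152 (iv F232738)) (tt N18843 (iv F231369)) (tt N14846 F223257) (tt N15720 F223258) (tt N14831 (iv D49840)) (tt N19156 D51926) (tt N19101 (iv F232554)) (tt N19157 D51927))
theorem Q17072 : ∀ i, i < 17072 → P i := stepQ 17071 Q17071 (allL N17071 (tt N19044 (iv F232300)) (tt N18417 (iv F229208)) (tt N19153 (iv F232741)) (tt N18844 (iv F231372)) (tt N14847 F223259) (tt N14832 F223260) (tt N19157 (iv F232757)) (tt N19141 (iv F232711)) (tt N19158 D51928) (tt N14831 (iv D49841)))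
theorem Q17073 : ∀ i, i < 17073 → P i := stepQ 17072 Q17072 (allL N17072 (tt N19045 (iv F232303)) (tt N18418 (iv F229211)) (tt N19154 (iv F232744)) (tt N19159 D51929) (tt N14833 F223261) (tt N19158 (iv F232759)) (tt N15722 F223262) (tt N19142 (iv F232713)) (tt N14832 (iv D49842)) (tt N19103 (iv F232559)))
theorem Q17074 : ∀ i, i < 17074 → P i := stepQ 17073 Q17073 (allL N17073 (tt N14834 (iv D49843)) (tt N15903 F223263) (tt N18419 (iv F229215)) (tt N14888 F223264) (tt N18382 (iv F229034)) (tt N19133 (iv F232687)) (tt N17073 F223265) (tt N14840 F223266) (tt N15900 F223267) (tt N19160 D51930))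
theorem Q17075 : ∀ i, i < 17075 → P i := stepQ 17074 Q17074 (allL N17074 (tt N18382 (iv F229031)) (tt N14835 F223268) (tt N15900 F223269) (tt N17074 F223270) (tt N14834 (iv D49844)) (tt N19161 D51931) (tt N17074 F223271) (tt N14841 F223272) (tt N18419 (iv F229220)) (tt N19162 D51932))
theorem Q17076 : ∀ i, i < 17076 → P i := stepQ 17075 Q17075 (allL N17075 (tt N19160 (iv F232761)) (tt N14836 F223273) (tt N18420 (iv F229222)) (tt N14889 F223274) (tt N19162 (iv F232773)) (tt N19135 (iv F232695)) (tt N17075 F223275) (tt N14842 F223276) (tt N19163 D51933) (tt N14834 (iv D49845)))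
theorem Q17077 : ∀ i, i < 17077 → P i := stepQ 17076 Q17076 (allL N17076 (tt N19046 (iv F232306)) (tt N19161 (iv F232766)) (tt N14837 F223277) (tt N17076 F223278) (tt N19137 (iv F232700)) (tt N14835 (iv D49846)) (tt N19164 D51934) (tt N14843 F223279) (tt N19105 (iv F232569)) (tt N19165 D51935))
theorem Q17078 : ∀ i, i < 17078 → P i := stepQ 17077 Q17077 (allL N17077 (tt N19047 (iv F232312)) (tt N19162 (iv F232770)) (tt N14838 F223280) (tt N17077 F223281) (tt N14836 F223282) (tt N19165 (iv F232784)) (tt N17077 F223283) (tt N14844 F223284) (tt N19166 D51936) (tt N14835 (iv D49847)))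
theorem Q17079 : ∀ i, i < 17079 → P i := stepQ 17078 Q17078 (allL N17078 (tt N19048 (iv F232319)) (tt N19163 (iv F232776)) (tt N14839 F223285) (tt N19167 D51937) (tt N19166 (iv F232787)) (tt N19139 (iv F232706)) (tt N17078 F223286) (tt N14845 F223287) (tt N14836 (iv D49848)) (tt N19107 (iv F232581)))
theorem Q17080 : ∀ i, i < 17080 → P i := stepQ 17079 Q17079 (allL N17079 (tt N19049 (iv F232326)) (tt N18422 (iv F229233)) (tt N19164 (iv F232779)) (tt N14861 F223288) (tt N19140 (iv F232708)) (tt N17079 F223289) (tt N14837 (iv D49849)) (tt N19168 D51938) (tt N19108 (iv F232584)) (tt N19169 D51939))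
theorem Q17081 : ∀ i, i < 17081 → P i := stepQ 17080 Q17080 (allL N17080 (tt N19050 (iv F232329)) (tt N18423 (iv F229238)) (tt N19165 (iv F232782)) (tt N14862 F223290) (tt N19141 (iv F232709)) (tt N14838 F223291) (tt N19169 (iv F232801)) (tt N14847 F223292) (tt N19170 D51940) (tt N14837 (iv D49850)))
theorem Q17082 : ∀ i, i < 17082 → P i := stepQ 17081 Q17081 (allL N17081 (tt N19051 (iv F232333)) (tt N18424 (iv F229244)) (tt N19166 (iv F232786)) (tt N19171 D51941) (tt N14839 F223293) (tt N19170 (iv F232802)) (tt N17081 F223294) (tt N14848 F223295) (tt N14838 (iv D49851)) (tt N19110 (iv F232591)))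
theorem Q17083 : ∀ i, i < 17083 → P i := stepQ 17082 Q17082 (allL N17082 (tt N14842 F223296) (tt N18389 (iv F229075)) (tt N18425 (iv F229251)) (tt N14891 F223297) (tt N18387 (iv F229065)) (tt N19144 (iv F232718)) (tt N14849 F223298) (tt N19160 (iv F232765)) (tt N19172 D51942) (tt N14840 (iv D49852)))
theorem Q17084 : ∀ i, i < 17084 → P i := stepQ 17083 Q17083 (allL N17083 (tt N18376 (iv F229008)) (tt N14843 F223299) (tt N18426 (iv F229257)) (tt N17083 F223300) (tt N19146 (iv F232724)) (tt N14841 (iv D49853)) (tt N19173 D51943) (tt N19161 (iv F232769)) (tt N18409 (iv F229179)) (tt N19174 D51944))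
theorem Q17085 : ∀ i, i < 17085 → P i := stepQ 17084 Q17084 (allL N17084 (tt N18387 (iv F229061)) (tt N14844 F223301) (tt N18427 (iv F229264)) (tt N17084 F223302) (tt N14842 F223303) (tt N19174 (iv F232817)) (tt N14851 F223304) (tt N19162 (iv F232775)) (tt N19175 D51945) (tt N14841 (iv D49854)))
theorem Q17086 : ∀ i, i < 17086 → P i := stepQ 17085 Q17085 (allL N17085 (tt N19172 (iv F232807)) (tt N14845 F223305) (tt N18428 (iv F229270)) (tt N19176 D51946) (tt N19175 (iv F232819)) (tt N19148 (iv F232729)) (tt N14852 F223306) (tt N19163 (iv F232778)) (tt N14842 (iv D49855)) (tt N19111 (iv F232595)))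
theorem Q17087 : ∀ i, i < 17087 → P i := stepQ 17086 Q17086 (allL N17086 (tt N18262 (iv F228312)) (tt N19173 (iv F232810)) (tt N14846 F223307) (tt N17086 F223308) (tt N19152 (iv F232739)) (tt N14853 F223309) (tt N14843 (iv D49856)) (tt N19177 D51947) (tt N19112 (iv F232601)) (tt N19178 D51948))
theorem Q17088 : ∀ i, i < 17088 → P i := stepQ 17087 Q17087 (allL N17087 (tt N19053 (iv F232342)) (tt N19174 (iv F232815)) (tt N14847 F223310) (tt N17087 F223311) (tt N19153 (iv F232742)) (tt N14844 F223312) (tt N19178 (iv F232831)) (tt N19165 (iv F232785)) (tt N19179 D51949) (tt N14843 (iv D49857)))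
theorem Q17089 : ∀ i, i < 17089 → P i := stepQ 17088 Q17088 (allL N17088 (tt N19054 (iv F232346)) (tt N19175 (iv F232818)) (tt N14848 F223313) (tt N19180 D51950) (tt N14845 F223314) (tt N19179 (iv F232833)) (tt N14855 F223315) (tt N19166 (iv F232789)) (tt N14844 (iv D49858)) (tt N19114 (iv F232610)))
theorem Q17090 : ∀ i, i < 17090 → P i := stepQ 17089 Q17089 (allL N17089 (tt N15691 F223316) (tt N19176 (iv F232821)) (tt N15633 F223317) (tt N14845 (iv D49859)) (tt N19181 D51951) (tt N19155 (iv F232749)) (tt N14856 F223318) (tt N19167 (iv F232793)) (tt N14893 F223319) (tt N15649 F223320))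
theorem Q17091 : ∀ i, i < 17091 → P i := stepQ 17090 Q17090 (allL N17090 (tt N18258 (iv F228290)) (tt N18433 (iv F229291)) (tt N19177 (iv F232825)) (tt N14864 F223321) (tt N19156 (iv F232753)) (tt N14857 F223322) (tt N19168 (iv F232798)) (tt N14846 (iv D49860)) (tt N19115 (iv F232613)) (tt N19182 D51952))
theorem Q17092 : ∀ i, i < 17092 → P i := stepQ 17091 Q17091 (allL N17091 (tt N18265 (iv F228327)) (tt N18434 (iv F229294)) (tt N19178 (iv F232828)) (tt N14865 F223323) (tt N19157 (iv F232755)) (tt N14858 F223324) (tt N14847 F223325) (tt N19182 (iv F232843)) (tt N19183 D51953) (tt N14846 (iv D49861)))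
theorem Q17093 : ∀ i, i < 17093 → P i := stepQ 17092 Q17092 (allL N17092 (tt N19055 (iv F232351)) (tt N18435 (iv F229298)) (tt N19179 (iv F232832)) (tt N19184 D51954) (tt N19158 (iv F232758)) (tt N14848 F223326) (tt N19183 (iv F232845)) (tt N19170 (iv F232803)) (tt N14847 (iv D49862)) (tt N19117 (iv F232618)))
theorem Q17094 : ∀ i, i < 17094 → P i := stepQ 17093 Q17093 (allL N17093 (tt N19056 (iv F232353)) (tt N18436 (iv F229300)) (tt N19185 D51955) (tt N14848 (iv D49863)) (tt N18977 (iv F231992)) (tt N19184 (iv F232846)) (tt N14860 F223327) (tt N19171 (iv F232805)) (tt N14867 F223328) (tt N19118 (iv F232621)))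
theorem Q17095 : ∀ i, i < 17095 → P i := stepQ 17094 Q17094 (allL N17094 (tt N14852 F223329) (tt N18395 (iv F229105)) (tt N18437 (iv F229305)) (tt N18442 (iv F229338)) (tt N18394 (iv F229100)) (tt N15745 F223330) (tt N19172 (iv F232808)) (tt N17094 F223331) (tt N14849 (iv D49864)) (tt N18438 (iv F229317)))
theorem Q17096 : ∀ i, i < 17096 → P i := stepQ 17095 Q17095 (allL N17095 (tt N15212 F223332) (tt N14853 F223333) (tt N15686 F223334) (tt N17095 F223335) (tt N15746 F223336) (tt N19173 (iv F232813)) (tt N14850 (iv D49865)) (tt N19186 D51956) (tt N15242 F223337) (tt N19187 D51957))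
theorem Q17097 : ∀ i, i < 17097 → P i := stepQ 17096 Q17096 (allL N17096 (tt N15219 F223338) (tt N14854 F223339) (tt N15695 F223340) (tt N17096 F223341) (tt N15747 F223342) (tt N14851 F223343) (tt N19187 (iv F232862)) (tt N17096 F223344) (tt N19188 D51958) (tt N14850 (iv D49866)))
theorem Q17098 : ∀ i, i < 17098 → P i := stepQ 17097 Q17097 (allL N17097 (tt N18394 (iv F229097)) (tt N14855 F223345) (tt N18438 (iv F229312)) (tt N19189 D51959) (tt N14852 F223346) (tt N19188 (iv F232867)) (tt N19175 (iv F232820)) (tt N17097 F223347) (tt N14851 (iv D49867)) (tt N18437 (iv F229309)))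
theorem Q17099 : ∀ i, i < 17099 → P i := stepQ 17098 Q17098 (allL N17098 (tt N18442 (iv F229335)) (tt N14856 F223348) (tt N18354 (iv F228885)) (tt N14852 (iv D49868)) (tt N18917 (iv F231703)) (tt N15749 F223349) (tt N19176 (iv F232822)) (tt N17098 F223350) (tt N14895 F223351) (tt N15651 F223352))
theorem Q17100 : ∀ i, i < 17100 → P i := stepQ 17099 Q17099 (allL N17099 (tt N18256 (iv F228277)) (tt N19186 (iv F232851)) (tt N14857 F223353) (tt N17099 F223354) (tt N15750 F223355) (tt N19177 (iv F232827)) (tt N17099 F223356) (tt N14853 (iv D49869)) (tt N19119 (iv F232628)) (tt N19190 D51960))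
theorem Q17101 : ∀ i, i < 17101 → P i := stepQ 17100 Q17100 (allL N17100 (tt N18263 (iv F228318)) (tt N19187 (iv F232858)) (tt N14858 F223357) (tt N17100 F223358) (tt N15751 F223359) (tt N19178 (iv F232830)) (tt N14854 F223360) (tt N19190 (iv F232877)) (tt N19191 D51961) (tt N14853 (iv D49870)))
theorem Q17102 : ∀ i, i < 17102 → P i := stepQ 17101 Q17101 (allL N17101 (tt N18268 (iv F228343)) (tt N19188 (iv F232864)) (tt N14859 F223361) (tt N19192 D51962) (tt N15752 F223362) (tt N14855 F223363) (tt N19191 (iv F232880)) (tt N17101 F223364) (tt N14854 (iv D49871)) (tt N19121 (iv F232641)))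
theorem Q17103 : ∀ i, i < 17103 → P i := stepQ 17102 Q17102 (allL N17102 (tt N19057 (iv F232356)) (tt N19189 (iv F232870)) (tt N19193 D51963) (tt N14855 (iv D49872)) (tt N19194 D51964) (tt N19192 (iv F232881)) (tt N19180 (iv F232834)) (tt N17102 F223365) (tt N17102 F223366) (tt N19122 (iv F232646)))
theorem Q17104 : ∀ i, i < 17104 → P i := stepQ 17103 Q17103 (allL N17103 (tt N15700 F223367) (tt N18917 (iv F231701)) (tt N15106 F223368) (tt N19194 (iv F232891)) (tt N14856 (iv D49873)) (tt N18243 (iv F228211)) (tt N19181 (iv F232838)) (tt N17103 F223369) (tt N14896 F223370) (tt N15119 F223371))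
theorem Q17105 : ∀ i, i < 17105 → P i := stepQ 17104 Q17104 (allL N17104 (tt N18259 (iv F228294)) (tt N18444 (iv F229347)) (tt N19190 (iv F232873)) (tt N14868 F223372) (tt N15755 F223373) (tt N19182 (iv F232842)) (tt N17104 F223374) (tt N14858 F223375) (tt N19195 D51965) (tt N14857 (iv D49874)))
theorem Q17106 : ∀ i, i < 17106 → P i := stepQ 17105 Q17105 (allL N17105 (tt N18266 (iv F228332)) (tt N18445 (iv F229352)) (tt N19191 (iv F232878)) (tt N19196 D51966) (tt N15756 F223376) (tt N19183 (iv F232844)) (tt N14859 F223377) (tt N19195 (iv F232897)) (tt N14858 (iv D49875)) (tt N19124 (iv F232654)))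
theorem Q17107 : ∀ i, i < 17107 → P i := stepQ 17106 Q17106 (allL N17106 (tt N18270 (iv F228355)) (tt N18446 (iv F229355)) (tt N19197 D51967) (tt N14859 (iv D49876)) (tt N18355 (iv F228892)) (tt N14860 F223378) (tt N19196 (iv F232898)) (tt N17106 F223379) (tt N14870 F223380) (tt N19125 (iv F232658)))
theorem Q17108 : ∀ i, i < 17108 → P i := stepQ 17107 Q17107 (allL N17107 (tt N19058 (iv F232361)) (tt N19198 D51968) (tt N14860 (iv D49877)) (tt N19193 (iv F232884)) (tt N18981 (iv F232009)) (tt N19197 (iv F232901)) (tt N19185 (iv F232848)) (tt N17107 F223381) (tt N14871 F223382) (tt N19126 (iv F232663)))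
theorem Q17109 : ∀ i, i < 17109 → P i := stepQ 17108 Q17108 (allL N17108 (tt N18271 (iv F228361)) (tt N18448 (iv F229364)) (tt N17108 F223383) (tt N19168 (iv F232796)) (tt N18781 (iv F231110)) (tt N17108 F223384) (tt N14864 F223385) (tt N14861 (iv D49878)) (tt N17108 F223386) (tt N19199 D51969))
theorem Q17110 : ∀ i, i < 17110 → P i := stepQ 17109 Q17109 (allL N17109 (tt N19059 (iv F232364)) (tt N18449 (iv F229371)) (tt N17109 F223387) (tt N19169 (iv F232799)) (tt N18785 (iv F231132)) (tt N17109 F223388) (tt N14862 F223389) (tt N19199 (iv F232911)) (tt N19200 D51970) (tt N14861 (iv D49879)))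
theorem Q17111 : ∀ i, i < 17111 → P i := stepQ 17110 Q17110 (allL N17110 (tt N19060 (iv F232368)) (tt N18450 (iv F229377)) (tt N17110 F223390) (tt N19201 D51971) (tt N18874 (iv F231474)) (tt N14863 F223391) (tt N19200 (iv F232914)) (tt N14866 F223392) (tt N14862 (iv D49880)) (tt N17110 F223393))
theorem Q17112 : ∀ i, i < 17112 → P i := stepQ 17111 Q17111 (allL N17111 (tt N19061 (iv F232373)) (tt N18451 (iv F229384)) (tt N19202 D51972) (tt N14863 (iv D49881)) (tt N18984 (iv F232023)) (tt N19201 (iv F232916)) (tt N17111 F223394) (tt N14867 F223395) (tt N19171 (iv F232806)) (tt N17111 F223396))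
theorem Q17113 : ∀ i, i < 17113 → P i := stepQ 17112 Q17112 (allL N17112 (tt N18272 (iv F228368)) (tt N18452 (iv F229388)) (tt N17112 F223397) (tt N19182 (iv F232841)) (tt N18876 (iv F231483)) (tt N14868 F223398) (tt N19199 (iv F232910)) (tt N14865 F223399) (tt N19203 D51973) (tt N14864 (iv D49882)))
theorem Q17114 : ∀ i, i < 17114 → P i := stepQ 17113 Q17113 (allL N17113 (tt N18274 (iv F228380)) (tt N18453 (iv F229391)) (tt N17113 F223400) (tt N19204 D51974) (tt N18877 (iv F231488)) (tt N14869 F223401) (tt N14866 F223402) (tt N19203 (iv F232927)) (tt N14865 (iv D49883)) (tt N17113 F223403))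
theorem Q17115 : ∀ i, i < 17115 → P i := stepQ 17114 Q17114 (allL N17114 (tt N19062 (iv F232377)) (tt N18454 (iv F229395)) (tt N19205 D51975) (tt N14866 (iv D49884)) (tt N19206 D51976) (tt N14867 F223404) (tt N19204 (iv F232930)) (tt N19201 (iv F232917)) (tt N19184 (iv F232847)) (tt N17114 F223405))
theorem Q17116 : ∀ i, i < 17116 → P i := stepQ 17115 Q17115 (allL N17115 (tt N19063 (iv F232380)) (tt N19207 D51977) (tt N14867 (iv D49885)) (tt N17115 F223406) (tt N18988 (iv F232040)) (tt N19205 (iv F232933)) (tt N14871 F223407) (tt N19202 (iv F232922)) (tt N19185 (iv F232849)) (tt N17115 F223408))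
theorem Q17117 : ∀ i, i < 17117 → P i := stepQ 17116 Q17116 (allL N17116 (tt N18273 (iv F228373)) (tt N18456 (iv F229402)) (tt N17116 F223409) (tt N19208 D51978) (tt N14872 F223410) (tt N19203 (iv F232926)) (tt N17116 F223411) (tt N14869 F223412) (tt N14868 (iv D49886)) (tt N17116 F223413))
theorem Q17118 : ∀ i, i < 17118 → P i := stepQ 17117 Q17117 (allL N17117 (tt N18275 (iv F228386)) (tt N18457 (iv F229407)) (tt N19209 D51979) (tt N14869 (iv D49887)) (tt N18359 (iv F228916)) (tt N19204 (iv F232929)) (tt N14870 F223414) (tt N19208 (iv F232941)) (tt N19196 (iv F232899)) (tt N17117 F223415))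
theorem Q17119 : ∀ i, i < 17119 → P i := stepQ 17118 Q17118 (allL N17118 (tt N18276 (iv F228391)) (tt N15289 (iv F223421)) (tt N14870 (iv D49888)) (tt N17118 F223416) (tt N15288 F223417) (tt N14871 F223418) (tt N19209 (iv F232945)) (tt N17118 F223419) (tt N19197 (iv F232903)) (tt N17118 F223420))
theorem Q17120 : ∀ i, i < 17120 → P i := stepQ 17119 Q17119 (allL N17119 (tt N19210 D51980) (tt N14871 (iv D49889)) (tt N18459 (iv F229418)) (tt N17119 F223422) (tt N18479 (iv F229530)) (tt N15289 F223423) (tt N19207 (iv F232937)) (tt N17119 F223424) (tt N19198 (iv F232907)) (tt N17119 F223425))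
theorem Q17121 : ∀ i, i < 17121 → P i := stepQ 17120 Q17120 (allL N17120 (tt N15794 F223431) (tt N14873 (iv D49890)) (tt N14897 F223426) (tt N19127 (iv F232665)) (tt N14962 (iv F223432)) (tt N17120 F223427) (tt N14876 F223428) (tt N14967 F223429) (tt N14957 F223430) (tt N19211 D51981))
theorem Q17122 : ∀ i, i < 17122 → P i := stepQ 17121 Q17121 (allL N17121 (tt N19064 (iv F232384)) (tt N14962 F223433) (tt N14874 F223434) (tt N19212 D51982) (tt N14873 (iv D49891)) (tt N14971 (iv F223438)) (tt N14877 F223435) (tt N14964 F223436) (tt N14958 F223437) (tt N19213 D51983))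
theorem Q17123 : ∀ i, i < 17123 → P i := stepQ 17122 Q17122 (allL N17122 (tt N19065 (iv F232391)) (tt N19211 (iv F232956)) (tt N14875 F223439) (tt N19129 (iv F232673)) (tt N19213 (iv F232970)) (tt N17122 F223440) (tt N14878 F223441) (tt N15760 F223442) (tt N19214 D51984) (tt N14873 (iv D49892)))
theorem Q17124 : ∀ i, i < 17124 → P i := stepQ 17123 Q17123 (allL N17123 (tt N19066 (iv F232398)) (tt N14899 F223443) (tt N19213 (iv F232969)) (tt N18708 (iv F230778)) (tt N14875 F223444) (tt N14913 F223445) (tt N14879 F223446) (tt N14908 F223447) (tt N14903 F223448) (tt N14874 (iv D49893)))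
theorem Q17125 : ∀ i, i < 17125 → P i := stepQ 17124 Q17124 (allL N17124 (tt N15792 F223449) (tt N14900 F223450) (tt N19214 (iv F232977)) (tt N15618 F223451) (tt N14903 F223452) (tt N17124 F223453) (tt N14880 F223454) (tt N14907 F223455) (tt N14875 (iv D49894)) (tt N14902 F223456))
theorem Q17126 : ∀ i, i < 17126 → P i := stepQ 17125 Q17125 (allL N17125 (tt N14876 (iv D49895)) (tt N15782 F223457) (tt N14901 F223458) (tt N19133 (iv F232686)) (tt N15791 (iv F223463)) (tt N14888 F223459) (tt N15794 F223460) (tt N14881 F223461) (tt N14960 F223462) (tt N19215 D51985))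
theorem Q17127 : ∀ i, i < 17127 → P i := stepQ 17126 Q17126 (allL N17126 (tt N15791 F223464) (tt N14877 F223465) (tt N14902 F223466) (tt N19216 D51986) (tt N14876 (iv D49896)) (tt N17126 F223467) (tt N14962 F223468) (tt N14882 F223469) (tt N14959 F223470) (tt N19214 (iv F232982)))
theorem Q17128 : ∀ i, i < 17128 → P i := stepQ 17127 Q17127 (allL N17127 (tt N19215 (iv F232983)) (tt N14878 F223471) (tt N14903 F223472) (tt N19135 (iv F232694)) (tt N19214 (iv F232978)) (tt N14889 F223473) (tt N19211 (iv F232960)) (tt N14883 F223474) (tt N19213 (iv F232974)) (tt N14876 (iv D49897)))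
theorem Q17129 : ∀ i, i < 17129 → P i := stepQ 17128 Q17128 (allL N17128 (tt N19067 (iv F232405)) (tt N19216 (iv F232991)) (tt N18883 (iv F231512)) (tt N14877 (iv D49898)) (tt N19136 (iv F232697)) (tt N17128 F223475) (tt N19212 (iv F232965)) (tt N14884 F223476) (tt N19217 D51987) (tt N19218 D51988))
theorem Q17130 : ∀ i, i < 17130 → P i := stepQ 17129 Q17129 (allL N17129 (tt N19068 (iv F232410)) (tt N19214 (iv F232976)) (tt N14879 F223477) (tt N19218 (iv F233003)) (tt N14878 F223478) (tt N17129 F223479) (tt N19213 (iv F232972)) (tt N14885 F223480) (tt N19211 (iv F232962)) (tt N14877 (iv D49899)))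
theorem Q17131 : ∀ i, i < 17131 → P i := stepQ 17130 Q17130 (allL N17130 (tt N15795 F223481) (tt N19213 (iv F232968)) (tt N14880 F223482) (tt N19219 D51989) (tt N19211 (iv F232958)) (tt N14890 F223483) (tt N19214 (iv F232980)) (tt N14886 F223484) (tt N14878 (iv D49900)) (tt N14962 F223485))
theorem Q17132 : ∀ i, i < 17132 → P i := stepQ 17131 Q17131 (allL N17131 (tt N15796 F223486) (tt N14898 F223487) (tt N19211 (iv F232957)) (tt N18292 (iv F228500)) (tt N14880 F223488) (tt N17131 F223489) (tt N14903 F223490) (tt N14887 F223491) (tt N14879 (iv D49901)) (tt N14897 F223492))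
theorem Q17133 : ∀ i, i < 17133 → P i := stepQ 17132 Q17132 (allL N17132 (tt N14882 F223493) (tt N19069 (iv F232418)) (tt N14904 F223494) (tt N19086 (iv F232492)) (tt N14881 (iv D49902)) (tt N17132 F223495) (tt N14941 F223496) (tt N15791 F223497) (tt N14952 F223498) (tt N19220 D51990))
theorem Q17134 : ∀ i, i < 17134 → P i := stepQ 17133 Q17133 (allL N17133 (tt N14883 F223499) (tt N19070 (iv F232425)) (tt N14905 F223500) (tt N19144 (iv F232717)) (tt N19220 (iv F233013)) (tt N14891 F223501) (tt N15765 F223502) (tt N19215 (iv F232989)) (tt N19221 D51991) (tt N14881 (iv D49903)))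
theorem Q17135 : ∀ i, i < 17135 → P i := stepQ 17134 Q17134 (allL N17134 (tt N19086 (iv F232491)) (tt N14884 F223503) (tt N19017 (iv F232172)) (tt N14882 (iv D49904)) (tt N19145 (iv F232721)) (tt N17134 F223504) (tt N15766 F223505) (tt N19216 (iv F232995)) (tt N19030 (iv F232244)) (tt N19222 D51992))
theorem Q17136 : ∀ i, i < 17136 → P i := stepQ 17135 Q17135 (allL N17135 (tt N19220 (iv F233011)) (tt N14885 F223506) (tt N14907 F223507) (tt N19222 (iv F233026)) (tt N14883 F223508) (tt N17135 F223509) (tt N15764 F223510) (tt N19214 (iv F232981)) (tt N15760 F223511) (tt N14882 (iv D49905)))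
theorem Q17137 : ∀ i, i < 17137 → P i := stepQ 17136 Q17136 (allL N17136 (tt N19221 (iv F233018)) (tt N14886 F223512) (tt N14908 F223513) (tt N19223 D51993) (tt N15760 F223514) (tt N14892 F223515) (tt N15763 F223516) (tt N19213 (iv F232973)) (tt N14883 (iv D49906)) (tt N14964 F223517))
theorem Q17138 : ∀ i, i < 17138 → P i := stepQ 17137 Q17137 (allL N17137 (tt N19073 (iv F232443)) (tt N19030 F232245) (tt N18892 (iv F231559)) (tt N14965 F223518) (tt N19150 (iv F232733)) (tt N17137 F223519) (tt N15767 F223520) (tt N19217 (iv F233002)) (tt N14884 (iv D49907)) (tt N19224 D51994))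
theorem Q17139 : ∀ i, i < 17139 → P i := stepQ 17138 Q17138 (allL N17138 (tt N19074 (iv F232449)) (tt N19222 (iv F233025)) (tt N18893 (iv F231563)) (tt N14885 F223521) (tt N19151 (iv F232736)) (tt N17138 F223522) (tt N15768 F223523) (tt N19218 (iv F233005)) (tt N19225 D51995) (tt N14884 (iv D49908)))
theorem Q17140 : ∀ i, i < 17140 → P i := stepQ 17139 Q17139 (allL N17139 (tt N15801 F223524) (tt N15760 F223525) (tt N14887 F223526) (tt N19226 D51996) (tt N14886 F223527) (tt N17139 F223528) (tt N15761 F223529) (tt N19211 (iv F232961)) (tt N14885 (iv D49909)) (tt N14967 F223530))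
theorem Q17141 : ∀ i, i < 17141 → P i := stepQ 17140 Q17140 (allL N17140 (tt N15677 F223531) (tt N19223 (iv F233029)) (tt N15631 F223532) (tt N14886 (iv D49910)) (tt N19227 D51997) (tt N14893 F223533) (tt N15769 F223534) (tt N19219 (iv F233009)) (tt N19155 (iv F232751)) (tt N14968 F223535))
theorem Q17142 : ∀ i, i < 17142 → P i := stepQ 17141 Q17141 (allL N17141 (tt N15789 F223536) (tt N14911 F223537) (tt N19228 D51998) (tt N14887 (iv D49911)) (tt N15781 F223538) (tt N17141 F223539) (tt N15291 F223540) (tt N18292 (iv F228504)) (tt N18896 (iv F231580)) (tt N14969 F223541))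
theorem Q17143 : ∀ i, i < 17143 → P i := stepQ 17142 Q17142 (allL N17142 (tt N14889 F223542) (tt N15958 F223543) (tt N14912 F223544) (tt N19160 (iv F232763)) (tt N17142 F223545) (tt N19215 (iv F232987)) (tt N17142 F223546) (tt N14891 F223547) (tt N19229 D51999) (tt N14888 (iv D49912)))
theorem Q17144 : ∀ i, i < 17144 → P i := stepQ 17143 Q17143 (allL N17143 (tt N19229 (iv F233053)) (tt N14890 F223548) (tt N14913 F223549) (tt N19230 D52000) (tt N17143 F223550) (tt N19213 (iv F232971)) (tt N17143 F223551) (tt N14892 F223552) (tt N14889 (iv D49913)) (tt N14971 F223553))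
theorem Q17145 : ∀ i, i < 17145 → P i := stepQ 17144 Q17144 (allL N17144 (tt N15683 F223554) (tt N19230 (iv F233060)) (tt N15632 F223555) (tt N14890 (iv D49914)) (tt N19231 D52001) (tt N19219 (iv F233008)) (tt N17144 F223556) (tt N14893 F223557) (tt N19167 (iv F232794)) (tt N14972 F223558))
theorem Q17146 : ∀ i, i < 17146 → P i := stepQ 17145 Q17145 (allL N17145 (tt N14892 F223559) (tt N15804 F223560) (tt N14915 F223561) (tt N18441 (iv F229332)) (tt N17145 F223562) (tt N19221 (iv F233022)) (tt N14894 F223563) (tt N19229 (iv F233058)) (tt N14891 (iv D49915)) (tt N14973 F223564))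
theorem Q17147 : ∀ i, i < 17147 → P i := stepQ 17146 Q17146 (allL N17146 (tt N18441 (iv F229329)) (tt N14893 F223565) (tt N18353 (iv F228879)) (tt N14892 (iv D49916)) (tt N18915 (iv F231693)) (tt N19223 (iv F233030)) (tt N14895 F223566) (tt N19230 (iv F233062)) (tt N19176 (iv F232823)) (tt N14974 F223567))
theorem Q17148 : ∀ i, i < 17148 → P i := stepQ 17147 Q17147 (allL N17147 (tt N15690 F223568) (tt N18915 (iv F231690)) (tt N15105 F223569) (tt N17147 F223570) (tt N14893 (iv D49917)) (tt N19232 D52002) (tt N14896 F223571) (tt N19231 (iv F233068)) (tt N19181 (iv F232839)) (tt N14975 F223572))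
theorem Q17149 : ∀ i, i < 17149 → P i := stepQ 17148 Q17148 (allL N17148 (tt N14903 F223573) (tt N17148 F223574) (tt N19215 (iv F232985)) (tt N18480 (iv F229535)) (tt N15792 F223575) (tt N14912 F223576) (tt N15796 F223577) (tt N14905 F223578) (tt N19066 (iv F232404)) (tt N14901 (iv D49918)))
theorem Q17150 : ∀ i, i < 17150 → P i := stepQ 17149 Q17149 (allL N17149 (tt N14907 F223579) (tt N17149 F223580) (tt N19220 (iv F233012)) (tt N14940 F223581) (tt N14905 F223582) (tt N17149 F223583) (tt N14942 F223584) (tt N15792 F223585) (tt N15653 F223586) (tt N14904 (iv D49919)))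
theorem Q17151 : ∀ i, i < 17151 → P i := stepQ 17150 Q17150 (allL N17150 (tt N14908 F223587) (tt N17150 F223588) (tt N19221 (iv F233020)) (tt N18091 (iv F227201)) (tt N15653 F223589) (tt N14915 F223590) (tt N15657 F223591) (tt N19066 (iv F232403)) (tt N14905 (iv D49920)) (tt N14976 F223592))
theorem Q17152 : ∀ i, i < 17152 → P i := stepQ 17151 Q17151 (allL N17151 (tt N14940 F223593) (tt N14909 F223594) (tt N19018 (iv F232179)) (tt N14907 F223595) (tt N15616 F223596) (tt N17151 F223597) (tt N14927 F223598) (tt N15618 F223599) (tt N15603 F223600) (tt N14906 (iv D49921)))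
theorem Q17153 : ∀ i, i < 17153 → P i := stepQ 17152 Q17152 (allL N17152 (tt N18091 (iv F227198)) (tt N14910 F223601) (tt N18357 (iv F228904)) (tt N14908 (iv D49922)) (tt N15510 F223602) (tt N14916 F223603) (tt N15513 F223604) (tt N18708 (iv F230782)) (tt N18486 (iv F229576)) (tt N14977 F223605))
theorem Q17154 : ∀ i, i < 17154 → P i := stepQ 17153 Q17153 (allL N17153 (tt N14913 F223606) (tt N17153 F223607) (tt N19229 (iv F233055)) (tt N18093 (iv F227216)) (tt N17153 F223608) (tt N19066 (iv F232401)) (tt N17153 F223609) (tt N14915 F223610) (tt N14912 (iv D49923)) (tt N14978 F223611))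
theorem Q17155 : ∀ i, i < 17155 → P i := stepQ 17154 Q17154 (allL N17154 (tt N18093 (iv F227213)) (tt N14914 F223612) (tt N18360 (iv F228922)) (tt N14913 (iv D49924)) (tt N18087 (iv F227169)) (tt N18708 (iv F230780)) (tt N17154 F223613) (tt N14916 F223614) (tt N18488 (iv F229586)) (tt N14979 F223615))
theorem Q17156 : ∀ i, i < 17156 → P i := stepQ 17155 Q17155 (allL N17155 (tt N15538 F223616) (tt N17155 F223617) (tt N18299 (iv F228555)) (tt N15536 (iv F223622)) (tt N14922 F223618) (tt N15779 F223619) (tt N14919 F223620) (tt N15775 F223621) (tt N14918 (iv D49925)) (tt N19233 D52003))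
theorem Q17157 : ∀ i, i < 17157 → P i := stepQ 17156 Q17156 (allL N17156 (tt N15607 F223623) (tt N17156 F223624) (tt N18934 (iv F231785)) (tt N18901 (iv F231602)) (tt N14923 F223625) (tt N17156 F223626) (tt N19233 (iv F233079)) (tt N14921 F223627) (tt N14936 F223628) (tt N14919 (iv D49926)))
theorem Q17158 : ∀ i, i < 17158 → P i := stepQ 17157 Q17157 (allL N17157 (tt N15418 F223629) (tt N17157 F223630) (tt N18982 (iv F232014)) (tt N14921 F223631) (tt N15383 F223632) (tt N17157 F223633) (tt N15777 F223634) (tt N18901 (iv F231606)) (tt N19234 D52004) (tt N14920 (iv D49927)))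
theorem Q17159 : ∀ i, i < 17159 → P i := stepQ 17158 Q17158 (allL N17158 (tt N15603 F223635) (tt N17158 F223636) (tt N18939 (iv F231808)) (tt N15559 F223637) (tt N19233 (iv F233077)) (tt N17158 F223638) (tt N14923 F223639) (tt N15778 F223640) (tt N14940 F223641) (tt N14922 (iv D49928)))
theorem Q17160 : ∀ i, i < 17160 → P i := stepQ 17159 Q17159 (allL N17159 (tt N14936 F223642) (tt N15298 F223643) (tt N19013 (iv F232151)) (tt N15296 F223644) (tt N14927 F223645) (tt N17159 F223646) (tt N15616 F223647) (tt N14926 F223648) (tt N15607 F223649) (tt N14924 (iv D49929)))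
theorem Q17161 : ∀ i, i < 17161 → P i := stepQ 17160 Q17160 (allL N17160 (tt N14937 F223650) (tt N15270 F223651) (tt N14925 (iv D49930)) (tt N19014 (iv F232159)) (tt N15269 F223652) (tt N17160 F223653) (tt N15780 F223654) (tt N15275 F223655) (tt N17160 F223656) (tt N19235 D52005))
theorem Q17162 : ∀ i, i < 17162 → P i := stepQ 17161 Q17161 (allL N17161 (tt N14939 F223657) (tt N15292 F223658) (tt N19235 (iv F233091)) (tt N14926 F223659) (tt N15291 F223660) (tt N17161 F223661) (tt N15781 F223662) (tt N15296 F223663) (tt N19236 D52006) (tt N14925 (iv D49931)))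
theorem Q17163 : ∀ i, i < 17163 → P i := stepQ 17162 Q17162 (allL N17162 (tt N14958 F223664) (tt N14956 F223665) (tt N14929 F223666) (tt N14955 F223667) (tt N14928 (iv D49932)) (tt N14970 (iv F223671)) (tt N14930 F223668) (tt N14963 F223669) (tt N19064 (iv F232389)) (tt N14960 F223670))
theorem Q17164 : ∀ i, i < 17164 → P i := stepQ 17163 Q17163 (allL N17163 (tt N14932 F223672) (tt N14952 F223673) (tt N17163 F223674) (tt N14957 F223675) (tt N14931 (iv D49933)) (tt N17163 F223676) (tt N14953 F223677) (tt N14966 F223678) (tt N19069 (iv F232423)) (tt N14961 F223679))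
theorem Q17165 : ∀ i, i < 17165 → P i := stepQ 17164 Q17164 (allL N17164 (tt N14965 F223680) (tt N15794 F223681) (tt N17164 F223682) (tt N19073 (iv F232445)) (tt N15793 F223683) (tt N17164 F223684) (tt N15782 F223685) (tt N15798 F223686) (tt N14933 (iv D49934)) (tt N19237 D52007))
theorem Q17166 : ∀ i, i < 17166 → P i := stepQ 17165 Q17165 (allL N17165 (tt N15616 F223687) (tt N17165 F223688) (tt N19076 (iv F232461)) (tt N18483 (iv F229555)) (tt N14940 F223689) (tt N15620 F223690) (tt N14936 F223691) (tt N15617 F223692) (tt N19233 (iv F233081)) (tt N14934 (iv D49935)))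
theorem Q17167 : ∀ i, i < 17167 → P i := stepQ 17166 Q17166 (allL N17166 (tt N15275 F223693) (tt N19238 D52008) (tt N14935 (iv D49936)) (tt N19077 (iv F232467)) (tt N15274 F223694) (tt N17166 F223695) (tt N18463 (iv F229445)) (tt N14937 F223696) (tt N17166 F223697) (tt N19239 D52009))
theorem Q17168 : ∀ i, i < 17168 → P i := stepQ 17167 Q17167 (allL N17167 (tt N15296 F223698) (tt N17167 F223699) (tt N19239 (iv F233120)) (tt N14936 F223700) (tt N15295 F223701) (tt N17167 F223702) (tt N18483 (iv F229558)) (tt N14939 F223703) (tt N19240 D52010) (tt N14935 (iv D49937)))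
theorem Q17169 : ∀ i, i < 17169 → P i := stepQ 17168 Q17168 (allL N17168 (tt N19241 D52011) (tt N14937 (iv D49938)) (tt N17168 F223704) (tt N19080 (iv F232475)) (tt N19242 D52012) (tt N17168 F223705) (tt N15786 F223706) (tt N19238 (iv F233117)) (tt N17168 F223707) (tt N19243 D52013))
theorem Q17170 : ∀ i, i < 17170 → P i := stepQ 17169 Q17169 (allL N17169 (tt N15269 F223708) (tt N19242 (iv F233138)) (tt N14938 F223709) (tt N19244 D52014) (tt N14937 (iv D49939)) (tt N15281 (iv F223713)) (tt N15787 F223710) (tt N15274 F223711) (tt N17169 F223712) (tt N19245 D52015))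
theorem Q17171 : ∀ i, i < 17171 → P i := stepQ 17170 Q17170 (allL N17170 (tt N19235 (iv F233089)) (tt N19243 (iv F233144)) (tt N14939 F223714) (tt N19082 (iv F232481)) (tt N19245 (iv F233155)) (tt N17170 F223715) (tt N15788 F223716) (tt N19239 (iv F233123)) (tt N19246 D52016) (tt N14937 (iv D49940)))
theorem Q17172 : ∀ i, i < 17172 → P i := stepQ 17171 Q17171 (allL N17171 (tt N15291 F223717) (tt N17171 F223718) (tt N19245 (iv F233154)) (tt N14946 F223719) (tt N14939 F223720) (tt N15301 F223721) (tt N15789 F223722) (tt N15295 F223723) (tt N19247 D52017) (tt N14938 (iv D49941)))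
theorem Q17173 : ∀ i, i < 17173 → P i := stepQ 17172 Q17172 (allL N17172 (tt N19236 (iv F233096)) (tt N17172 F223724) (tt N19246 (iv F233159)) (tt N19234 (iv F233084)) (tt N19247 (iv F233166)) (tt N17172 F223725) (tt N15790 F223726) (tt N19240 (iv F233128)) (tt N14939 (iv D49942)) (tt N17172 F223727))
theorem Q17174 : ∀ i, i < 17174 → P i := stepQ 17173 Q17173 (allL N17173 (tt N15659 F223728) (tt N14941 (iv D49943)) (tt N17173 F223729) (tt N19089 (iv F232505)) (tt N15658 F223730) (tt N14947 F223731) (tt N19069 (iv F232421)) (tt N14943 F223732) (tt N14953 F223733) (tt N19248 D52018))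
theorem Q17175 : ∀ i, i < 17175 → P i := stepQ 17174 Q17174 (allL N17174 (tt N15764 F223734) (tt N19248 (iv F233172)) (tt N14942 F223735) (tt N19091 (iv F232516)) (tt N15765 F223736) (tt N14948 F223737) (tt N19220 (iv F233015)) (tt N14945 F223738) (tt N15656 F223739) (tt N14941 (iv D49944)))
theorem Q17176 : ∀ i, i < 17176 → P i := stepQ 17175 Q17175 (allL N17175 (tt N14943 (iv D49945)) (tt N15655 F223740) (tt N17175 F223741) (tt N18426 (iv F229258)) (tt N15654 (iv F223746)) (tt N14949 F223742) (tt N15797 F223743) (tt N15659 F223744) (tt N14954 F223745) (tt N19249 D52019))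
theorem Q17177 : ∀ i, i < 17177 → P i := stepQ 17176 Q17176 (allL N17176 (tt N15654 F223747) (tt N14944 F223748) (tt N17176 F223749) (tt N19250 D52020) (tt N14943 (iv D49946)) (tt N15663 F223750) (tt N15798 F223751) (tt N15658 F223752) (tt N14955 F223753) (tt N19251 D52021))
theorem Q17178 : ∀ i, i < 17178 → P i := stepQ 17177 Q17177 (allL N17177 (tt N19249 (iv F233178)) (tt N14945 F223754) (tt N17177 F223755) (tt N19096 (iv F232531)) (tt N19251 (iv F233194)) (tt N14950 F223756) (tt N15799 F223757) (tt N19248 (iv F233176)) (tt N15660 F223758) (tt N14943 (iv D49947)))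
theorem Q17179 : ∀ i, i < 17179 → P i := stepQ 17178 Q17178 (allL N17178 (tt N15707 F223759) (tt N19250 (iv F233187)) (tt N19244 (iv F233149)) (tt N14944 (iv D49948)) (tt N19097 (iv F232535)) (tt N15723 F223760) (tt N15800 F223761) (tt N15713 F223762) (tt N19252 D52022) (tt N19253 D52023))
theorem Q17180 : ∀ i, i < 17180 → P i := stepQ 17179 Q17179 (allL N17179 (tt N15761 F223763) (tt N19251 (iv F233192)) (tt N14946 F223764) (tt N19253 (iv F233205)) (tt N14945 F223765) (tt N15770 F223766) (tt N15801 F223767) (tt N15765 F223768) (tt N15662 F223769) (tt N14944 (iv D49949)))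
theorem Q17181 : ∀ i, i < 17181 → P i := stepQ 17180 Q17180 (allL N17180 (tt N15901 F223770) (tt N14948 F223771) (tt N17180 F223772) (tt N19104 (iv F232562)) (tt N15899 F223773) (tt N19248 (iv F233175)) (tt N17180 F223774) (tt N14950 F223775) (tt N15664 F223776) (tt N14947 (iv D49950)))
theorem Q17182 : ∀ i, i < 17182 → P i := stepQ 17181 Q17181 (allL N17181 (tt N14950 F223777) (tt N15772 F223778) (tt N17181 F223779) (tt N18427 (iv F229265)) (tt N15898 F223780) (tt N19249 (iv F233182)) (tt N14951 F223781) (tt N15901 F223782) (tt N15665 F223783) (tt N14949 (iv D49951)))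
theorem Q17183 : ∀ i, i < 17183 → P i := stepQ 17182 Q17182 (allL N17182 (tt N15793 F223784) (tt N19064 (iv F232385)) (tt N17182 F223785) (tt N19252 (iv F233200)) (tt N14965 F223786) (tt N15802 F223787) (tt N15805 F223788) (tt N15797 F223789) (tt N14956 (iv D49952)) (tt N19254 D52024))
theorem Q17184 : ∀ i, i < 17184 → P i := stepQ 17183 Q17183 (allL N17183 (tt N15798 F223790) (tt N15652 F223791) (tt N17183 F223792) (tt N19217 (iv F232999)) (tt N15797 F223793) (tt N17183 F223794) (tt N15654 F223795) (tt N14965 F223796) (tt N14961 (iv D49953)) (tt N19255 D52025))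
theorem Q17185 : ∀ i, i < 17185 → P i := stepQ 17184 Q17184 (allL N17184 (tt N15672 F223797) (tt N19212 (iv F232963)) (tt N15628 F223798) (tt N14962 (iv D49954)) (tt N19256 D52026) (tt N14972 F223799) (tt N19216 (iv F232994)) (tt N14968 F223800) (tt N15636 F223801) (tt N19219 (iv F233010)))
theorem Q17186 : ∀ i, i < 17186 → P i := stepQ 17185 Q17185 (allL N17185 (tt N14964 F223802) (tt N15797 F223803) (tt N14976 F223804) (tt N18429 (iv F229275)) (tt N15652 F223805) (tt N14973 F223806) (tt N15655 F223807) (tt N19064 (iv F232388)) (tt N14963 (iv D49955)) (tt N19221 (iv F233024)))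
theorem Q17187 : ∀ i, i < 17187 → P i := stepQ 17186 Q17186 (allL N17186 (tt N18429 (iv F229272)) (tt N14968 F223808) (tt N18348 (iv F228849)) (tt N14964 (iv D49956)) (tt N19257 D52027) (tt N14974 F223809) (tt N15762 F223810) (tt N19212 (iv F232966)) (tt N15639 F223811) (tt N19223 (iv F233032)))
theorem Q17188 : ∀ i, i < 17188 → P i := stepQ 17187 Q17187 (allL N17187 (tt N19237 (iv F233104)) (tt N19065 (iv F232392)) (tt N17187 F223812) (tt N19224 (iv F233033)) (tt N19254 (iv F233211)) (tt N17187 F223813) (tt N15806 F223814) (tt N19255 (iv F233222)) (tt N19258 D52028) (tt N14965 (iv D49957)))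
theorem Q17189 : ∀ i, i < 17189 → P i := stepQ 17188 Q17188 (allL N17188 (tt N15805 F223815) (tt N15791 F223816) (tt N17188 F223817) (tt N19259 D52029) (tt N15782 F223818) (tt N17188 F223819) (tt N15793 F223820) (tt N19069 (iv F232422)) (tt N14966 (iv D49958)) (tt N19258 (iv F233237)))
theorem Q17190 : ∀ i, i < 17190 → P i := stepQ 17189 Q17189 (allL N17189 (tt N15800 F223821) (tt N15704 F223822) (tt N19260 D52030) (tt N14967 (iv D49959)) (tt N19261 D52031) (tt N17189 F223823) (tt N15707 F223824) (tt N19127 (iv F232668)) (tt N19259 (iv F233242)) (tt N19226 (iv F233042)))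
theorem Q17191 : ∀ i, i < 17191 → P i := stepQ 17190 Q17190 (allL N17190 (tt N15676 F223825) (tt N19257 (iv F233227)) (tt N15630 F223826) (tt N19261 (iv F233250)) (tt N14968 (iv D49960)) (tt N19262 D52032) (tt N15807 F223827) (tt N19256 (iv F233225)) (tt N15640 F223828) (tt N19227 (iv F233046)))
theorem Q17192 : ∀ i, i < 17192 → P i := stepQ 17191 Q17191 (allL N17191 (tt N15787 F223829) (tt N15267 F223830) (tt N14969 (iv D49961)) (tt N19260 (iv F233245)) (tt N15780 F223831) (tt N17191 F223832) (tt N15269 F223833) (tt N18279 (iv F228417)) (tt N17191 F223834) (tt N19228 (iv F233052)))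
theorem Q17193 : ∀ i, i < 17193 → P i := stepQ 17192 Q17192 (allL N17192 (tt N14971 F223835) (tt N15802 F223836) (tt N14978 F223837) (tt N18440 (iv F229325)) (tt N17192 F223838) (tt N19064 F232390) (tt N17192 F223839) (tt N14973 F223840) (tt N14970 (iv D49962)) (tt N19229 (iv F233059)))
theorem Q17194 : ∀ i, i < 17194 → P i := stepQ 17193 Q17193 (allL N17193 (tt N18440 (iv F229322)) (tt N14972 F223841) (tt N18352 (iv F228872)) (tt N14971 (iv D49963)) (tt N18913 (iv F231680)) (tt N19212 (iv F232964)) (tt N17193 F223842) (tt N14974 F223843) (tt N15644 F223844) (tt N19230 (iv F233063)))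
theorem Q17195 : ∀ i, i < 17195 → P i := stepQ 17194 Q17194 (allL N17194 (tt N15682 F223845) (tt N18913 (iv F231678)) (tt N15103 F223846) (tt N17194 F223847) (tt N14972 (iv D49964)) (tt N18468 (iv F229472)) (tt N17194 F223848) (tt N14975 F223849) (tt N15112 F223850) (tt N19231 (iv F233069)))
theorem Q17196 : ∀ i, i < 17196 → P i := stepQ 17195 Q17195 (allL N17195 (tt N15689 F223851) (tt N18910 (iv F231663)) (tt N15101 F223852) (tt N17195 F223853) (tt N19262 (iv F233254)) (tt N14975 (iv D49965)) (tt N18233 (iv F228154)) (tt N18468 (iv F229474)) (tt N15109 F223854) (tt N19232 (iv F233073)))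
theorem Q17197 : ∀ i, i < 17197 → P i := stepQ 17196 Q17196 (allL N17196 (tt N14995 F223855) (tt N15315 F223856) (tt N18122 (iv F227435)) (tt N14982 F223857) (tt N15323 F223858) (tt N18109 (iv F227339)) (tt N14987 F223859) (tt N15013 F223860) (tt N19263 D52033) (tt N14981 (iv D49966)))
theorem Q17198 : ∀ i, i < 17198 → P i := stepQ 17197 Q17197 (allL N17197 (tt N15352 F223861) (tt N15320 F223862) (tt N18125 (iv F227457)) (tt N15001 F223863) (tt N15329 F223864) (tt N18115 (iv F227381)) (tt N18126 (iv F227467)) (tt N15018 F223865) (tt N14983 (iv D49967)) (tt N19263 (iv F233262)))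
theorem Q17199 : ∀ i, i < 17199 → P i := stepQ 17198 Q17198 (allL N17198 (tt N15319 F223866) (tt N14987 F223867) (tt N18569 (iv F230091)) (tt N14985 F223868) (tt N15310 F223869) (tt N18118 (iv F227404)) (tt N15315 F223870) (tt N15023 F223871) (tt N19264 D52034) (tt N14984 (iv D49968)))
theorem Q17200 : ∀ i, i < 17200 → P i := stepQ 17199 Q17199 (allL N17199 (tt N15000 F223872) (tt N15310 F223873) (tt N18123 (iv F227443)) (tt N14988 F223874) (tt N14987 F223875) (tt N18499 (iv F229680)) (tt N15323 F223876) (tt N15028 F223877) (tt N19265 D52035) (tt N14986 (iv D49969)))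
theorem Q17201 : ∀ i, i < 17201 → P i := stepQ 17200 Q17200 (allL N17200 (tt N15001 F223878) (tt N19264 (iv F233264)) (tt N18124 (iv F227451)) (tt N15352 F223879) (tt N19265 (iv F233273)) (tt N18119 (iv F227411)) (tt N19263 (iv F233260)) (tt N15029 F223880) (tt N14987 (iv D49970)) (tt N18126 (iv F227469)))
theorem Q17202 : ∀ i, i < 17202 → P i := stepQ 17201 Q17201 (allL N17201 (tt N18126 (iv F227461)) (tt N15336 F223881) (tt N18119 (iv F227408)) (tt N19263 (iv F233258)) (tt N15343 F223882) (tt N18124 (iv F227452)) (tt N15352 F223883) (tt N15043 F223884) (tt N14991 (iv D49971)) (tt N15001 F223885))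
theorem Q17203 : ∀ i, i < 17203 → P i := stepQ 17202 Q17202 (allL N17202 (tt N18109 (iv F227335)) (tt N15340 F223886) (tt N18111 (iv F227352)) (tt N14993 F223887) (tt N18572 (iv F230108)) (tt N14995 F223888) (tt N18113 (iv F227370)) (tt N15083 F223889) (tt N19266 D52036) (tt N14992 (iv D49972)))
theorem Q17204 : ∀ i, i < 17204 → P i := stepQ 17203 Q17203 (allL N17203 (tt N18122 (iv F227433)) (tt N18521 (iv F229823)) (tt N14995 F223890) (tt N15006 F223891) (tt N15335 F223892) (tt N18111 (iv F227354)) (tt N14998 F223893) (tt N15467 F223894) (tt N19267 D52037) (tt N14994 (iv D49973)))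
theorem Q17205 : ∀ i, i < 17205 → P i := stepQ 17204 Q17204 (allL N17204 (tt N19263 (iv F233256)) (tt N15343 F223895) (tt N19267 (iv F233282)) (tt N18126 (iv F227464)) (tt N15336 F223896) (tt N19266 (iv F233279)) (tt N15001 F223897) (tt N15470 F223898) (tt N14995 (iv D49974)) (tt N15352 F223899))
theorem Q17206 : ∀ i, i < 17206 → P i := stepQ 17205 Q17205 (allL N17205 (tt N18518 (iv F229808)) (tt N14997 F223900) (tt N15345 F223901) (tt N17205 F223902) (tt N14996 (iv D49975)) (tt N18503 (iv F229710)) (tt N15334 F223903) (tt N15058 F223904) (tt N15341 F223905) (tt N19268 D52038))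
theorem Q17207 : ∀ i, i < 17207 → P i := stepQ 17206 Q17206 (allL N17206 (tt N18533 (iv F229890)) (tt N14998 F223906) (tt N15346 F223907) (tt N15007 F223908) (tt N19268 (iv F233290)) (tt N15316 F223909) (tt N18521 (iv F229828)) (tt N15059 F223910) (tt N19269 D52039) (tt N14996 (iv D49976)))
theorem Q17208 : ∀ i, i < 17208 → P i := stepQ 17207 Q17207 (allL N17207 (tt N15339 F223911) (tt N18503 (iv F229707)) (tt N14999 F223912) (tt N17207 F223913) (tt N15324 F223914) (tt N14997 (iv D49977)) (tt N18516 (iv F229801)) (tt N15060 F223915) (tt N15338 F223916) (tt N19270 D52040))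
theorem Q17209 : ∀ i, i < 17209 → P i := stepQ 17208 Q17208 (allL N17208 (tt N18123 (iv F227441)) (tt N19268 (iv F233287)) (tt N15000 F223917) (tt N17208 F223918) (tt N14998 F223919) (tt N19270 (iv F233302)) (tt N15335 F223920) (tt N15061 F223921) (tt N19271 D52041) (tt N14997 (iv D49978)))
theorem Q17210 : ∀ i, i < 17210 → P i := stepQ 17209 Q17209 (allL N17209 (tt N18124 (iv F227449)) (tt N19269 (iv F233293)) (tt N15001 F223922) (tt N19266 (iv F233278)) (tt N19271 (iv F233305)) (tt N18126 (iv F227466)) (tt N19267 (iv F233284)) (tt N15062 F223923) (tt N14998 (iv D49979)) (tt N18119 (iv F227414)))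
theorem Q17211 : ∀ i, i < 17211 → P i := stepQ 17210 Q17210 (allL N17210 (tt N18499 (iv F229675)) (tt N15351 F223924) (tt N19270 (iv F233299)) (tt N15002 F223925) (tt N18128 (iv F227482)) (tt N15000 F223926) (tt N18564 (iv F230068)) (tt N15064 F223927) (tt N19272 D52042) (tt N14999 (iv D49980)))
theorem Q17212 : ∀ i, i < 17212 → P i := stepQ 17211 Q17211 (allL N17211 (tt N19265 (iv F233270)) (tt N15352 F223928) (tt N19271 (iv F233304)) (tt N19264 (iv F233265)) (tt N15001 F223929) (tt N19272 (iv F233310)) (tt N15336 F223930) (tt N15065 F223931) (tt N15000 (iv D49981)) (tt N15343 F223932))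
theorem Q17213 : ∀ i, i < 17213 → P i := stepQ 17212 Q17212 (allL N17212 (tt N15045 F223933) (tt N15390 F223934) (tt N18188 (iv F227881)) (tt N15009 (iv D49982)) (tt N19273 D52043) (tt N15010 F223935) (tt N18133 (iv F227516)) (tt N15024 F223936) (tt N15014 F223937) (tt N19274 D52044))
theorem Q17214 : ∀ i, i < 17214 → P i := stepQ 17213 Q17213 (allL N17213 (tt N15046 F223938) (tt N15391 F223939) (tt N15034 F223940) (tt N19274 (iv F233321)) (tt N15163 F223941) (tt N15011 F223942) (tt N18134 (iv F227524)) (tt N15025 F223943) (tt N15039 F223944) (tt N15009 (iv D49983)))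
theorem Q17215 : ∀ i, i < 17215 → P i := stepQ 17214 Q17214 (allL N17214 (tt N15051 F223945) (tt N15393 F223946) (tt N18192 (iv F227908)) (tt N15011 F223947) (tt N15431 F223948) (tt N19274 (iv F233322)) (tt N15013 F223949) (tt N15027 F223950) (tt N19275 D52045) (tt N15010 (iv D49984)))
theorem Q17216 : ∀ i, i < 17216 → P i := stepQ 17215 Q17215 (allL N17215 (tt N15467 F223951) (tt N18565 (iv F230070)) (tt N15013 F223952) (tt N15850 F223953) (tt N15433 F223954) (tt N15851 F223955) (tt N18192 (iv F227911)) (tt N18122 (iv F227440)) (tt N19276 D52046) (tt N15012 (iv D49985)))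
theorem Q17217 : ∀ i, i < 17217 → P i := stepQ 17216 Q17216 (allL N17216 (tt N15470 F223956) (tt N15397 F223957) (tt N19276 (iv F233332)) (tt N15043 F223958) (tt N15434 F223959) (tt N18140 (iv F227568)) (tt N19275 (iv F233328)) (tt N19263 (iv F233261)) (tt N15013 (iv D49986)) (tt N15018 F223960))
theorem Q17218 : ∀ i, i < 17218 → P i := stepQ 17217 Q17217 (allL N17217 (tt N15479 F223961) (tt N15401 F223962) (tt N18199 (iv F227951)) (tt N15110 F223963) (tt N15014 (iv D49987)) (tt N15439 F223964) (tt N18144 (iv F227595)) (tt N18201 (iv F227967)) (tt N19273 (iv F233318)) (tt N19277 D52047))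
theorem Q17219 : ∀ i, i < 17219 → P i := stepQ 17218 Q17218 (allL N17218 (tt N15492 F223965) (tt N15402 F223966) (tt N18200 (iv F227957)) (tt N15015 F223967) (tt N19277 (iv F233340)) (tt N15016 F223968) (tt N18145 (iv F227600)) (tt N18202 (iv F227975)) (tt N19278 D52048) (tt N15014 (iv D49988)))
theorem Q17220 : ∀ i, i < 17220 → P i := stepQ 17219 Q17219 (allL N17219 (tt N15493 F223969) (tt N15408 F223970) (tt N18206 (iv F227991)) (tt N15057 F223971) (tt N15443 F223972) (tt N19278 (iv F233345)) (tt N15018 F223973) (tt N18207 (iv F228001)) (tt N15016 (iv D49989)) (tt N19275 (iv F233330)))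
theorem Q17221 : ∀ i, i < 17221 → P i := stepQ 17220 Q17220 (allL N17220 (tt N15501 F223974) (tt N18576 (iv F230119)) (tt N15018 F223975) (tt N19279 D52049) (tt N15446 F223976) (tt N18158 (iv F227671)) (tt N18206 (iv F227993)) (tt N18125 (iv F227460)) (tt N15017 (iv D49990)) (tt N19276 (iv F233336)))
theorem Q17222 : ∀ i, i < 17222 → P i := stepQ 17221 Q17221 (allL N17221 (tt N15851 F223977) (tt N18522 (iv F229831)) (tt N15083 F223978) (tt N15019 (iv D49991)) (tt N18634 (iv F230448)) (tt N15467 F223979) (tt N18147 (iv F227612)) (tt N18111 (iv F227356)) (tt N19279 (iv F233349)) (tt N15466 F223980))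
theorem Q17223 : ∀ i, i < 17223 → P i := stepQ 17222 Q17222 (allL N17222 (tt N15406 F223981) (tt N15024 F223982) (tt N18806 (iv F231234)) (tt N15020 (iv D49992)) (tt N19280 D52050) (tt N15021 F223983) (tt N18172 (iv F227764)) (tt N15390 F223984) (tt N15398 F223985) (tt N19281 D52051))
theorem Q17224 : ∀ i, i < 17224 → P i := stepQ 17223 Q17223 (allL N17223 (tt N15415 F223986) (tt N15025 F223987) (tt N17223 F223988) (tt N19281 (iv F233359)) (tt N15148 F223989) (tt N15022 F223990) (tt N18173 (iv F227773)) (tt N15391 F223991) (tt N15067 F223992) (tt N15020 (iv D49993)))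
theorem Q17225 : ∀ i, i < 17225 → P i := stepQ 17224 Q17224 (allL N17224 (tt N15407 F223993) (tt N15027 F223994) (tt N18816 (iv F231273)) (tt N15022 F223995) (tt N15378 F223996) (tt N19281 (iv F233360)) (tt N15023 F223997) (tt N15393 F223998) (tt N19282 D52052) (tt N15021 (iv D49994)))
theorem Q17226 : ∀ i, i < 17226 → P i := stepQ 17225 Q17225 (allL N17225 (tt N15414 F223999) (tt N15029 F224000) (tt N18823 (iv F231300)) (tt N15065 F224001) (tt N15380 F224002) (tt N18176 (iv F227795)) (tt N19282 (iv F233366)) (tt N19264 (iv F233268)) (tt N15023 (iv D49995)) (tt N18211 (iv F228028)))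
theorem Q17227 : ∀ i, i < 17227 → P i := stepQ 17226 Q17226 (allL N17226 (tt N15048 F224003) (tt N19280 (iv F233352)) (tt N18190 (iv F227896)) (tt N15165 F224004) (tt N15024 (iv D49996)) (tt N19283 D52053) (tt N18178 (iv F227809)) (tt N19273 (iv F233317)) (tt N18201 (iv F227968)) (tt N19284 D52054))
theorem Q17228 : ∀ i, i < 17228 → P i := stepQ 17227 Q17227 (allL N17227 (tt N15049 F224005) (tt N19281 (iv F233358)) (tt N18191 (iv F227902)) (tt N15025 F224006) (tt N19284 (iv F233377)) (tt N15027 F224007) (tt N18179 (iv F227816)) (tt N19274 (iv F233323)) (tt N19285 D52055) (tt N15024 (iv D49997)))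
theorem Q17229 : ∀ i, i < 17229 → P i := stepQ 17228 Q17228 (allL N17228 (tt N15055 F224008) (tt N15373 F224009) (tt N18193 (iv F227915)) (tt N15030 F224010) (tt N19283 (iv F233372)) (tt N15026 (iv D49998)) (tt N18606 (iv F230295)) (tt N15428 F224011) (tt N15436 F224012) (tt N19286 D52056))
theorem Q17230 : ∀ i, i < 17230 → P i := stepQ 17229 Q17229 (allL N17229 (tt N15056 F224013) (tt N15378 F224014) (tt N18194 (iv F227921)) (tt N15031 F224015) (tt N15027 F224016) (tt N19286 (iv F233384)) (tt N15028 F224017) (tt N15431 F224018) (tt N19287 D52057) (tt N15026 (iv D49999)))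
theorem Q17231 : ∀ i, i < 17231 → P i := stepQ 17230 Q17230 (allL N17230 (tt N15057 F224019) (tt N19282 (iv F233363)) (tt N18195 (iv F227928)) (tt N15493 F224020) (tt N19287 (iv F233389)) (tt N19285 (iv F233380)) (tt N15029 F224021) (tt N19275 (iv F233329)) (tt N15027 (iv D50000)) (tt N18207 (iv F228002)))
theorem Q17232 : ∀ i, i < 17232 → P i := stepQ 17231 Q17231 (allL N17231 (tt N15065 F224022) (tt N15380 F224023) (tt N18198 (iv F227946)) (tt N15414 F224024) (tt N15029 F224025) (tt N18611 (iv F230323)) (tt N19287 (iv F233390)) (tt N19265 (iv F233275)) (tt N15028 (iv D50001)) (tt N18214 (iv F228050)))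
theorem Q17233 : ∀ i, i < 17233 → P i := stepQ 17232 Q17232 (allL N17232 (tt N15067 F224026) (tt N15374 F224027) (tt N17232 F224028) (tt N19286 (iv F233383)) (tt N15182 F224029) (tt N15031 F224030) (tt N18607 (iv F230302)) (tt N15429 F224031) (tt N15415 F224032) (tt N15030 (iv D50002)))
theorem Q17234 : ∀ i, i < 17234 → P i := stepQ 17233 Q17233 (allL N17233 (tt N15071 F224033) (tt N17233 F224034) (tt N18134 (iv F227521)) (tt N15842 F224035) (tt N15184 F224036) (tt N15037 F224037) (tt N15034 F224038) (tt N15841 F224039) (tt N15035 F224040) (tt N15032 (iv D50003)))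
theorem Q17235 : ∀ i, i < 17235 → P i := stepQ 17234 Q17234 (allL N17234 (tt N15073 F224041) (tt N17234 F224042) (tt N18189 (iv F227888)) (tt N15034 F224043) (tt N15954 F224044) (tt N15036 F224045) (tt N15842 F224046) (tt N15035 F224047) (tt N15841 F224048) (tt N15033 (iv D50004)))
theorem Q17236 : ∀ i, i < 17236 → P i := stepQ 17235 Q17235 (allL N17235 (tt N18201 (iv F227961)) (tt N15459 F224049) (tt N18178 (iv F227806)) (tt N15710 F224050) (tt N15038 (iv D50005)) (tt N15474 F224051) (tt N18190 (iv F227898)) (tt N15479 F224052) (tt N15048 F224053) (tt N19288 D52058))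
theorem Q17237 : ∀ i, i < 17237 → P i := stepQ 17236 Q17236 (allL N17236 (tt N18202 (iv F227969)) (tt N15460 F224054) (tt N18179 (iv F227813)) (tt N15039 F224055) (tt N19288 (iv F233395)) (tt N15040 F224056) (tt N18191 (iv F227905)) (tt N15492 F224057) (tt N19289 D52059) (tt N15038 (iv D50006)))
theorem Q17238 : ∀ i, i < 17238 → P i := stepQ 17237 Q17237 (allL N17237 (tt N18207 (iv F227995)) (tt N15463 F224058) (tt N18180 (iv F227819)) (tt N19275 (iv F233326)) (tt N15484 F224059) (tt N19289 (iv F233399)) (tt N15043 F224060) (tt N15493 F224061) (tt N15040 (iv D50007)) (tt N15057 F224062))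
theorem Q17239 : ∀ i, i < 17239 → P i := stepQ 17238 Q17238 (allL N17238 (tt N18212 (iv F228029)) (tt N15469 F224063) (tt N18181 (iv F227827)) (tt N15337 F224064) (tt N18196 (iv F227935)) (tt N15471 F224065) (tt N15041 (iv D50008)) (tt N18148 (iv F227618)) (tt N15063 F224066) (tt N19290 D52060))
theorem Q17240 : ∀ i, i < 17240 → P i := stepQ 17239 Q17239 (allL N17239 (tt N18213 (iv F228036)) (tt N15083 F224067) (tt N18182 (iv F227835)) (tt N15082 F224068) (tt N18197 (iv F227941)) (tt N15042 F224069) (tt N19290 (iv F233405)) (tt N15340 F224070) (tt N19291 D52061) (tt N15041 (iv D50009)))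
theorem Q17241 : ∀ i, i < 17241 → P i := stepQ 17240 Q17240 (allL N17240 (tt N18214 (iv F228043)) (tt N15470 F224071) (tt N18183 (iv F227841)) (tt N18211 (iv F228023)) (tt N15043 F224072) (tt N19291 (iv F233408)) (tt N15484 F224073) (tt N15343 F224074) (tt N15042 (iv D50010)) (tt N15065 F224075))
theorem Q17242 : ∀ i, i < 17242 → P i := stepQ 17241 Q17241 (allL N17241 (tt N18133 (iv F227512)) (tt N15471 F224076) (tt N18141 (iv F227572)) (tt N15044 (iv D50011)) (tt N19292 D52062) (tt N15469 F224077) (tt N15045 F224078) (tt N18143 (iv F227589)) (tt N15491 F224079) (tt N19293 D52063))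
theorem Q17243 : ∀ i, i < 17243 → P i := stepQ 17242 Q17242 (allL N17242 (tt N18134 (iv F227519)) (tt N15472 F224080) (tt N15071 F224081) (tt N19293 (iv F233416)) (tt N15226 F224082) (tt N15081 F224083) (tt N15046 F224084) (tt N18165 (iv F227715)) (tt N15076 F224085) (tt N15044 (iv D50012)))
theorem Q17244 : ∀ i, i < 17244 → P i := stepQ 17243 Q17243 (allL N17243 (tt N18188 (iv F227879)) (tt N18664 (iv F230587)) (tt N15045 (iv D50013)) (tt N15072 F224086) (tt N19294 D52064) (tt N15050 F224087) (tt N18141 (iv F227574)) (tt N15047 F224088) (tt N15488 F224089) (tt N19295 D52065))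
theorem Q17245 : ∀ i, i < 17245 → P i := stepQ 17244 Q17244 (allL N17244 (tt N19273 (iv F233313)) (tt N15474 F224090) (tt N19294 (iv F233419)) (tt N15228 F224091) (tt N15045 (iv D50014)) (tt N15459 F224092) (tt N19292 (iv F233413)) (tt N15048 F224093) (tt N15479 F224094) (tt N19296 D52066))
theorem Q17246 : ∀ i, i < 17246 → P i := stepQ 17245 Q17245 (allL N17245 (tt N19274 (iv F233319)) (tt N15475 F224095) (tt N19295 (iv F233423)) (tt N15046 F224096) (tt N19296 (iv F233429)) (tt N15051 F224097) (tt N19293 (iv F233418)) (tt N15049 F224098) (tt N19297 D52067) (tt N15045 (iv D50015)))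
theorem Q17247 : ∀ i, i < 17247 → P i := stepQ 17246 Q17246 (allL N17246 (tt N18711 (iv F230797)) (tt N15047 (iv D50016)) (tt N15476 F224099) (tt N15074 F224100) (tt N19298 D52068) (tt N15052 F224101) (tt N15398 F224102) (tt N18664 (iv F230591)) (tt N18172 (iv F227766)) (tt N19299 D52069))
theorem Q17248 : ∀ i, i < 17248 → P i := stepQ 17247 Q17247 (allL N17247 (tt N18190 (iv F227894)) (tt N19298 (iv F233436)) (tt N15048 F224103) (tt N19300 D52070) (tt N15047 (iv D50017)) (tt N19301 D52071) (tt N18201 (iv F227966)) (tt N19294 (iv F233421)) (tt N18178 (iv F227811)) (tt N19302 D52072))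
theorem Q17249 : ∀ i, i < 17249 → P i := stepQ 17248 Q17248 (allL N17248 (tt N18191 (iv F227900)) (tt N19299 (iv F233440)) (tt N15049 F224104) (tt N15076 F224105) (tt N19302 (iv F233455)) (tt N15054 F224106) (tt N18202 (iv F227974)) (tt N19295 (iv F233426)) (tt N19303 D52073) (tt N15047 (iv D50018)))
theorem Q17250 : ∀ i, i < 17250 → P i := stepQ 17249 Q17249 (allL N17249 (tt N19283 (iv F233369)) (tt N15479 F224107) (tt N19301 (iv F233450)) (tt N15233 F224108) (tt N15055 F224109) (tt N15048 (iv D50019)) (tt N19304 D52074) (tt N15459 F224110) (tt N15474 F224111) (tt N19305 D52075))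
theorem Q17251 : ∀ i, i < 17251 → P i := stepQ 17250 Q17250 (allL N17250 (tt N19284 (iv F233375)) (tt N15480 F224112) (tt N19302 (iv F233454)) (tt N15234 F224113) (tt N15049 F224114) (tt N19305 (iv F233465)) (tt N18204 (iv F227985)) (tt N19296 (iv F233431)) (tt N19306 D52076) (tt N15048 (iv D50020)))
theorem Q17252 : ∀ i, i < 17252 → P i := stepQ 17251 Q17251 (allL N17251 (tt N19285 (iv F233378)) (tt N15481 F224115) (tt N19303 (iv F233456)) (tt N19278 (iv F233344)) (tt N19306 (iv F233468)) (tt N15057 F224116) (tt N18205 (iv F227988)) (tt N19297 (iv F233434)) (tt N15049 (iv D50021)) (tt N19289 (iv F233401)))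
theorem Q17253 : ∀ i, i < 17253 → P i := stepQ 17252 Q17252 (allL N17252 (tt N18683 (iv F230651)) (tt N15050 (iv D50022)) (tt N15482 F224117) (tt N15078 F224118) (tt N15461 F224119) (tt N18664 (iv F230589)) (tt N15464 F224120) (tt N15052 F224121) (tt N15486 F224122) (tt N19307 D52077))
theorem Q17254 : ∀ i, i < 17254 → P i := stepQ 17253 Q17253 (allL N17253 (tt N18192 (iv F227906)) (tt N19307 (iv F233469)) (tt N15051 F224123) (tt N15079 F224124) (tt N15462 F224125) (tt N19295 (iv F233425)) (tt N15467 F224126) (tt N15054 F224127) (tt N19308 D52078) (tt N15050 (iv D50023)))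
theorem Q17255 : ∀ i, i < 17255 → P i := stepQ 17254 Q17254 (allL N17254 (tt N19275 (iv F233324)) (tt N15484 F224128) (tt N19308 (iv F233475)) (tt N18207 (iv F227998)) (tt N15463 F224129) (tt N19297 (iv F233433)) (tt N15470 F224130) (tt N15057 F224131) (tt N15051 (iv D50024)) (tt N15493 F224132))
theorem Q17256 : ∀ i, i < 17256 → P i := stepQ 17255 Q17255 (allL N17255 (tt N18661 (iv F230572)) (tt N15053 F224133) (tt N15486 F224134) (tt N17255 F224135) (tt N15052 (iv D50025)) (tt N19309 D52079) (tt N15058 F224136) (tt N15461 F224137) (tt N15482 F224138) (tt N19310 D52080))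
theorem Q17257 : ∀ i, i < 17257 → P i := stepQ 17256 Q17256 (allL N17256 (tt N18714 (iv F230815)) (tt N15054 F224139) (tt N15487 F224140) (tt N15080 F224141) (tt N19310 (iv F233488)) (tt N19299 (iv F233443)) (tt N15059 F224142) (tt N19307 (iv F233474)) (tt N19311 D52081) (tt N15052 (iv D50026)))
theorem Q17258 : ∀ i, i < 17258 → P i := stepQ 17257 Q17257 (allL N17257 (tt N18193 (iv F227913)) (tt N19309 (iv F233480)) (tt N15055 F224143) (tt N17257 F224144) (tt N19301 (iv F233451)) (tt N15053 (iv D50027)) (tt N19312 D52082) (tt N15458 F224145) (tt N15473 F224146) (tt N19313 D52083))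
theorem Q17259 : ∀ i, i < 17259 → P i := stepQ 17258 Q17258 (allL N17258 (tt N18194 (iv F227919)) (tt N19310 (iv F233485)) (tt N15056 F224147) (tt N17258 F224148) (tt N15054 F224149) (tt N19313 (iv F233500)) (tt N15061 F224150) (tt N15462 F224151) (tt N19314 D52084) (tt N15053 (iv D50028)))
theorem Q17260 : ∀ i, i < 17260 → P i := stepQ 17259 Q17259 (allL N17259 (tt N18195 (iv F227926)) (tt N19311 (iv F233491)) (tt N15057 F224152) (tt N19315 D52085) (tt N19314 (iv F233503)) (tt N19303 (iv F233457)) (tt N15062 F224153) (tt N19308 (iv F233478)) (tt N15054 (iv D50029)) (tt N18180 (iv F227824)))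
theorem Q17261 : ∀ i, i < 17261 → P i := stepQ 17260 Q17260 (allL N17260 (tt N18606 (iv F230292)) (tt N15491 F224154) (tt N19312 (iv F233494)) (tt N15066 F224155) (tt N19304 (iv F233460)) (tt N15063 F224156) (tt N15055 (iv D50030)) (tt N18801 (iv F231215)) (tt N15471 F224157) (tt N19316 D52086))
theorem Q17262 : ∀ i, i < 17262 → P i := stepQ 17261 Q17261 (allL N17261 (tt N19286 (iv F233381)) (tt N15492 F224158) (tt N19313 (iv F233498)) (tt N15067 F224159) (tt N19305 (iv F233464)) (tt N15056 F224160) (tt N19316 (iv F233513)) (tt N15460 F224161) (tt N19317 D52087) (tt N15055 (iv D50031)))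
theorem Q17263 : ∀ i, i < 17263 → P i := stepQ 17262 Q17262 (allL N17262 (tt N19287 (iv F233386)) (tt N15493 F224162) (tt N19314 (iv F233502)) (tt N19282 (iv F233364)) (tt N15057 F224163) (tt N19317 (iv F233515)) (tt N15065 F224164) (tt N15463 F224165) (tt N15056 (iv D50032)) (tt N15484 F224166))
theorem Q17264 : ∀ i, i < 17264 → P i := stepQ 17263 Q17263 (allL N17263 (tt N18662 (iv F230579)) (tt N15061 F224167) (tt N15497 F224168) (tt N17263 F224169) (tt N15059 F224170) (tt N18621 (iv F230383)) (tt N19310 (iv F233489)) (tt N19268 (iv F233292)) (tt N19318 D52088) (tt N15058 (iv D50033)))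
theorem Q17265 : ∀ i, i < 17265 → P i := stepQ 17264 Q17264 (allL N17264 (tt N18715 (iv F230820)) (tt N15062 F224171) (tt N15498 F224172) (tt N19291 (iv F233407)) (tt N19318 (iv F233520)) (tt N18211 (iv F228025)) (tt N19311 (iv F233493)) (tt N19269 (iv F233297)) (tt N15059 (iv D50034)) (tt N18176 (iv F227796)))
theorem Q17266 : ∀ i, i < 17266 → P i := stepQ 17265 Q17265 (allL N17265 (tt N18196 (iv F227931)) (tt N18618 (iv F230363)) (tt N15063 F224173) (tt N17265 F224174) (tt N18212 (iv F228033)) (tt N19312 (iv F233496)) (tt N15060 (iv D50035)) (tt N18653 (iv F230547)) (tt N18181 (iv F227832)) (tt N19319 D52089))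
theorem Q17267 : ∀ i, i < 17267 → P i := stepQ 17266 Q17266 (allL N17266 (tt N18197 (iv F227937)) (tt N18621 (iv F230379)) (tt N15064 F224175) (tt N17266 F224176) (tt N18213 (iv F228040)) (tt N15061 F224177) (tt N19319 (iv F233523)) (tt N19270 (iv F233303)) (tt N19320 D52090) (tt N15060 (iv D50036)))
theorem Q17268 : ∀ i, i < 17268 → P i := stepQ 17267 Q17267 (allL N17267 (tt N18198 (iv F227944)) (tt N19318 (iv F233518)) (tt N15065 F224178) (tt N19321 D52091) (tt N15062 F224179) (tt N19320 (iv F233525)) (tt N19314 (iv F233504)) (tt N19271 (iv F233307)) (tt N15061 (iv D50037)) (tt N18183 (iv F227845)))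
theorem Q17269 : ∀ i, i < 17269 → P i := stepQ 17268 Q17268 (allL N17268 (tt N18140 (iv F227564)) (tt N19291 (iv F233406)) (tt N19279 (iv F233347)) (tt N15062 (iv D50038)) (tt N18827 (iv F231314)) (tt N15470 F224180) (tt N19315 (iv F233507)) (tt N19266 (iv F233280)) (tt N15083 F224181) (tt N15505 F224182))
theorem Q17270 : ∀ i, i < 17270 → P i := stepQ 17269 Q17269 (allL N17269 (tt N18608 (iv F230304)) (tt N15503 F224183) (tt N18653 (iv F230544)) (tt N15068 F224184) (tt N18215 (iv F228054)) (tt N18801 (iv F231213)) (tt N18137 (iv F227544)) (tt N15063 (iv D50039)) (tt N18148 (iv F227619)) (tt N19322 D52092))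
theorem Q17271 : ∀ i, i < 17271 → P i := stepQ 17270 Q17270 (allL N17270 (tt N18610 (iv F230316)) (tt N15504 F224185) (tt N19319 (iv F233521)) (tt N15069 F224186) (tt N18216 (iv F228058)) (tt N19316 (iv F233512)) (tt N15064 F224187) (tt N19322 (iv F233530)) (tt N19323 D52093) (tt N15063 (iv D50040)))
theorem Q17272 : ∀ i, i < 17272 → P i := stepQ 17271 Q17271 (allL N17271 (tt N18611 (iv F230320)) (tt N15505 F224188) (tt N19320 (iv F233524)) (tt N18176 (iv F227794)) (tt N18217 (iv F228061)) (tt N15065 F224189) (tt N19323 (iv F233532)) (tt N19272 (iv F233311)) (tt N15064 (iv D50041)) (tt N19291 (iv F233410)))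
theorem Q17273 : ∀ i, i < 17273 → P i := stepQ 17272 Q17272 (allL N17272 (tt N18607 (iv F230297)) (tt N15507 F224190) (tt N17272 F224191) (tt N19316 (iv F233511)) (tt N15265 F224192) (tt N15069 F224193) (tt N15067 F224194) (tt N18802 (iv F231222)) (tt N18173 (iv F227775)) (tt N15066 (iv D50042)))
theorem Q17274 : ∀ i, i < 17274 → P i := stepQ 17273 Q17273 (allL N17273 (tt N18609 (iv F230309)) (tt N15508 F224195) (tt N17273 F224196) (tt N19322 (iv F233528)) (tt N15070 F224197) (tt N18802 (iv F231220)) (tt N15847 F224198) (tt N15069 F224199) (tt N15838 F224200) (tt N15068 (iv D50043)))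
theorem Q17275 : ∀ i, i < 17275 → P i := stepQ 17274 Q17274 (allL N17274 (tt N18189 (iv F227886)) (tt N18665 (iv F230593)) (tt N15073 F224201) (tt N19295 (iv F233424)) (tt N18246 (iv F228230)) (tt N15079 F224202) (tt N18142 (iv F227582)) (tt N15076 F224203) (tt N18165 (iv F227716)) (tt N15072 (iv D50044)))
theorem Q17276 : ∀ i, i < 17276 → P i := stepQ 17275 Q17275 (allL N17275 (tt N18712 (iv F230803)) (tt N15076 F224204) (tt N15085 F224205) (tt N19299 (iv F233442)) (tt N15574 F224206) (tt N15080 F224207) (tt N15399 F224208) (tt N18665 (iv F230598)) (tt N15472 F224209) (tt N15074 (iv D50045)))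
theorem Q17277 : ∀ i, i < 17277 → P i := stepQ 17276 Q17276 (allL N17276 (tt N15729 F224210) (tt N15573 F224211) (tt N15277 F224212) (tt N15075 (iv D50046)) (tt N19300 (iv F233448)) (tt N17276 F224213) (tt N15107 F224214) (tt N18245 (iv F228226)) (tt N18323 (iv F228709)) (tt N19324 D52094))
theorem Q17278 : ∀ i, i < 17278 → P i := stepQ 17277 Q17277 (allL N17277 (tt N15758 F224215) (tt N15574 F224216) (tt N15077 F224217) (tt N19324 (iv F233536)) (tt N15076 F224218) (tt N17277 F224219) (tt N15108 F224220) (tt N18246 (iv F228233)) (tt N15226 F224221) (tt N15075 (iv D50047)))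
theorem Q17279 : ∀ i, i < 17279 → P i := stepQ 17278 Q17278 (allL N17278 (tt N18713 (iv F230810)) (tt N15079 F224222) (tt N15087 F224223) (tt N19307 (iv F233471)) (tt N17278 F224224) (tt N18665 (iv F230596)) (tt N18169 (iv F227741)) (tt N15080 F224225) (tt N18167 (iv F227730)) (tt N15078 (iv D50048)))
theorem Q17280 : ∀ i, i < 17280 → P i := stepQ 17279 Q17279 (allL N17279 (tt N18604 (iv F230278)) (tt N15081 F224226) (tt N15089 F224227) (tt N19290 (iv F233403)) (tt N17279 F224228) (tt N15472 F224229) (tt N15082 F224230) (tt N18167 (iv F227729)) (tt N15080 (iv D50049)) (tt N15337 F224231))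
theorem Q17281 : ∀ i, i < 17281 → P i := stepQ 17280 Q17280 (allL N17280 (tt N18136 (iv F227534)) (tt N19290 (iv F233402)) (tt N18147 (iv F227610)) (tt N15081 (iv D50050)) (tt N18826 (iv F231312)) (tt N19293 (iv F233417)) (tt N15083 F224232) (tt N18150 (iv F227630)) (tt N19315 (iv F233508)) (tt N15469 F224233))
theorem Q17282 : ∀ i, i < 17282 → P i := stepQ 17281 Q17281 (allL N17281 (tt N15085 F224234) (tt N17281 F224235) (tt N18712 (iv F230805)) (tt N15537 F224236) (tt N15559 F224237) (tt N15088 F224238) (tt N15381 F224239) (tt N18640 (iv F230480)) (tt N15448 F224240) (tt N15084 (iv D50051)))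
theorem Q17283 : ∀ i, i < 17283 → P i := stepQ 17282 Q17282 (allL N17282 (tt N15087 F224241) (tt N17282 F224242) (tt N18713 (iv F230812)) (tt N15543 F224243) (tt N17282 F224244) (tt N18640 (iv F230478)) (tt N18171 (iv F227757)) (tt N15088 F224245) (tt N18170 (iv F227752)) (tt N15086 (iv D50052)))
theorem Q17284 : ∀ i, i < 17284 → P i := stepQ 17283 Q17283 (allL N17283 (tt N15089 F224246) (tt N17283 F224247) (tt N18604 (iv F230280)) (tt N18082 (iv F227123)) (tt N17283 F224248) (tt N15448 F224249) (tt N15090 F224250) (tt N18170 (iv F227751)) (tt N15088 (iv D50053)) (tt N15330 F224251))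
theorem Q17285 : ∀ i, i < 17285 → P i := stepQ 17284 Q17284 (allL N17284 (tt N15094 F224252) (tt N17284 F224253) (tt N15892 F224254) (tt N17284 F224255) (tt N15138 F224256) (tt N18102 (iv F227289)) (tt N15096 F224257) (tt N18100 (iv F227275)) (tt N19325 D52095) (tt N15093 (iv D50054)))
theorem Q17286 : ∀ i, i < 17286 → P i := stepQ 17285 Q17285 (allL N17285 (tt N19325 (iv F233539)) (tt N15095 F224258) (tt N15893 F224259) (tt N19326 D52096) (tt N15139 F224260) (tt N18103 (iv F227295)) (tt N15097 F224261) (tt N18101 (iv F227281)) (tt N15094 (iv D50055)) (tt N17285 F224262))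
theorem Q17287 : ∀ i, i < 17287 → P i := stepQ 17286 Q17286 (allL N17286 (tt N17286 F224263) (tt N19326 (iv F233545)) (tt N17286 F224264) (tt N15095 (iv D50056)) (tt N15868 F224265) (tt N18104 (iv F227301)) (tt N15098 F224266) (tt N15873 F224267) (tt N17286 F224268) (tt N17286 F224269))
theorem Q17288 : ∀ i, i < 17288 → P i := stepQ 17287 Q17287 (allL N17287 (tt N15097 F224270) (tt N17287 F224271) (tt N15895 F224272) (tt N18107 (iv F227321)) (tt N15141 F224273) (tt N17287 F224274) (tt N19325 (iv F233543)) (tt N17287 F224275) (tt N15096 (iv D50057)) (tt N17287 F224276))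
theorem Q17289 : ∀ i, i < 17289 → P i := stepQ 17288 Q17288 (allL N17288 (tt N18107 (iv F227319)) (tt N15098 F224277) (tt N18098 (iv F227253)) (tt N15097 (iv D50058)) (tt N18097 (iv F227250)) (tt N17288 F224278) (tt N19326 (iv F233547)) (tt N17288 F224279) (tt N17288 F224280) (tt N17288 F224281))
theorem Q17290 : ∀ i, i < 17290 → P i := stepQ 17289 Q17289 (allL N17289 (tt N17289 F224282) (tt N18097 F227249) (tt N17289 F224283) (tt N15143 F224284) (tt N15098 (iv D50059)) (tt N18086 (iv F227160)) (tt N15868 F224285) (tt N17289 F224286) (tt N17289 F224287) (tt N17289 F224288))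
theorem Q17291 : ∀ i, i < 17291 → P i := stepQ 17290 Q17290 (allL N17290 (tt N15205 F224289) (tt N15560 F224290) (tt N19327 D52097) (tt N15099 (iv D50060)) (tt N19328 D52098) (tt N15155 F224291) (tt N18228 (iv F228123)) (tt N15153 F224292) (tt N15162 F224293) (tt N19329 D52099))
theorem Q17292 : ∀ i, i < 17292 → P i := stepQ 17291 Q17291 (allL N17291 (tt N15206 F224294) (tt N15561 F224295) (tt N17291 F224296) (tt N19329 (iv F233564)) (tt N15102 F224297) (tt N15156 F224298) (tt N18229 (iv F228130)) (tt N15154 F224299) (tt N15203 F224300) (tt N15099 (iv D50061)))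
theorem Q17293 : ∀ i, i < 17293 → P i := stepQ 17292 Q17292 (allL N17292 (tt N15202 F224301) (tt N15563 F224302) (tt N18468 (iv F229470)) (tt N15100 (iv D50062)) (tt N19330 D52100) (tt N15103 F224303) (tt N18323 (iv F228708)) (tt N15101 F224304) (tt N15107 F224305) (tt N19331 D52101))
theorem Q17294 : ∀ i, i < 17294 → P i := stepQ 17293 Q17293 (allL N17293 (tt N15203 F224306) (tt N15564 F224307) (tt N17293 F224308) (tt N19331 (iv F233575)) (tt N15154 F224309) (tt N15104 F224310) (tt N18324 (iv F228716)) (tt N15102 F224311) (tt N15206 F224312) (tt N15100 (iv D50063)))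
theorem Q17295 : ∀ i, i < 17295 → P i := stepQ 17294 Q17294 (allL N17294 (tt N15678 F224313) (tt N15565 F224314) (tt N19262 (iv F233253)) (tt N19328 (iv F233558)) (tt N15101 (iv D50064)) (tt N15630 F224315) (tt N18234 (iv F228158)) (tt N19330 (iv F233571)) (tt N15110 F224316) (tt N19332 D52102))
theorem Q17296 : ∀ i, i < 17296 → P i := stepQ 17295 Q17295 (allL N17295 (tt N15693 F224317) (tt N15566 F224318) (tt N19232 (iv F233071)) (tt N15102 F224319) (tt N19332 (iv F233580)) (tt N15105 F224320) (tt N18235 (iv F228164)) (tt N19331 (iv F233577)) (tt N19333 D52103) (tt N15101 (iv D50065)))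
theorem Q17297 : ∀ i, i < 17297 → P i := stepQ 17296 Q17296 (allL N17296 (tt N15684 F224321) (tt N15568 F224322) (tt N19231 (iv F233065)) (tt N15104 F224323) (tt N15632 F224324) (tt N19331 (iv F233576)) (tt N17296 F224325) (tt N15105 F224326) (tt N19334 D52104) (tt N15103 (iv D50066)))
theorem Q17298 : ∀ i, i < 17298 → P i := stepQ 17297 Q17297 (allL N17297 (tt N15694 F224327) (tt N15571 F224328) (tt N19181 (iv F232837)) (tt N15217 F224329) (tt N15633 F224330) (tt N19333 (iv F233585)) (tt N15106 F224331) (tt N19334 (iv F233592)) (tt N15105 (iv D50067)) (tt N15116 F224332))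
theorem Q17299 : ∀ i, i < 17299 → P i := stepQ 17298 Q17298 (allL N17298 (tt N15710 F224333) (tt N15576 F224334) (tt N18412 (iv F229189)) (tt N18201 (iv F227964)) (tt N15107 (iv D50068)) (tt N15637 F224335) (tt N19300 (iv F233449)) (tt N15110 F224336) (tt N19330 (iv F233572)) (tt N19335 D52105))
theorem Q17300 : ∀ i, i < 17300 → P i := stepQ 17299 Q17299 (allL N17299 (tt N15730 F224337) (tt N15577 F224338) (tt N18469 (iv F229476)) (tt N15108 F224339) (tt N19335 (iv F233596)) (tt N15113 F224340) (tt N19324 (iv F233538)) (tt N15111 F224341) (tt N19336 D52106) (tt N15107 (iv D50069)))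
theorem Q17301 : ∀ i, i < 17301 → P i := stepQ 17300 Q17300 (allL N17300 (tt N19337 D52107) (tt N15109 (iv D50070)) (tt N15578 F224342) (tt N15120 F224343) (tt N19338 D52108) (tt N15114 F224344) (tt N18250 (iv F228252)) (tt N18465 (iv F229457)) (tt N18910 (iv F231667)) (tt N19339 D52109))
theorem Q17302 : ∀ i, i < 17302 → P i := stepQ 17301 Q17301 (allL N17301 (tt N15717 F224345) (tt N19338 (iv F233610)) (tt N15110 F224346) (tt N18404 (iv F229154)) (tt N15109 (iv D50071)) (tt N15640 F224347) (tt N18251 (iv F228258)) (tt N18412 (iv F229192)) (tt N19262 (iv F233255)) (tt N19340 D52110))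
theorem Q17303 : ∀ i, i < 17303 → P i := stepQ 17302 Q17302 (allL N17302 (tt N15738 F224348) (tt N19339 (iv F233613)) (tt N15111 F224349) (tt N15121 F224350) (tt N19340 (iv F233619)) (tt N15115 F224351) (tt N18252 (iv F228263)) (tt N18469 (iv F229480)) (tt N19341 D52111) (tt N15109 (iv D50072)))
theorem Q17304 : ∀ i, i < 17304 → P i := stepQ 17303 Q17303 (allL N17303 (tt N15721 F224352) (tt N15582 F224353) (tt N19340 (iv F233618)) (tt N19277 (iv F233339)) (tt N15111 F224354) (tt N15642 F224355) (tt N18254 (iv F228271)) (tt N19335 (iv F233598)) (tt N19342 D52112) (tt N15110 (iv D50073)))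
theorem Q17305 : ∀ i, i < 17305 → P i := stepQ 17304 Q17304 (allL N17304 (tt N15743 F224356) (tt N15583 F224357) (tt N19341 (iv F233622)) (tt N15235 F224358) (tt N19342 (iv F233626)) (tt N15116 F224359) (tt N18255 (iv F228276)) (tt N19336 (iv F233603)) (tt N15111 (iv D50074)) (tt N19333 (iv F233586)))
theorem Q17306 : ∀ i, i < 17306 → P i := stepQ 17305 Q17305 (allL N17305 (tt N19343 D52113) (tt N15112 (iv D50075)) (tt N15584 F224360) (tt N15123 F224361) (tt N15644 F224362) (tt N18465 (iv F229455)) (tt N17305 F224363) (tt N15114 F224364) (tt N18913 (iv F231683)) (tt N19344 D52114))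
theorem Q17307 : ∀ i, i < 17307 → P i := stepQ 17306 Q17306 (allL N17306 (tt N15727 F224365) (tt N19344 (iv F233635)) (tt N15113 F224366) (tt N15124 F224367) (tt N15645 F224368) (tt N18469 (iv F229478)) (tt N17306 F224369) (tt N15115 F224370) (tt N19345 D52115) (tt N15112 (iv D50076)))
theorem Q17308 : ∀ i, i < 17308 → P i := stepQ 17307 Q17307 (allL N17307 (tt N15731 F224371) (tt N15589 F224372) (tt N19345 (iv F233642)) (tt N15241 F224373) (tt N15646 F224374) (tt N19336 (iv F233602)) (tt N17307 F224375) (tt N15116 F224376) (tt N15113 (iv D50077)) (tt N19334 (iv F233593)))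
theorem Q17309 : ∀ i, i < 17309 → P i := stepQ 17308 Q17308 (allL N17308 (tt N15114 (iv D50078)) (tt N15732 F224377) (tt N15222 F224378) (tt N15126 F224379) (tt N15647 F224380) (tt N19337 (iv F233607)) (tt N15117 F224381) (tt N19343 (iv F233633)) (tt N15256 F224382) (tt N19346 D52116))
theorem Q17310 : ∀ i, i < 17310 → P i := stepQ 17309 Q17309 (allL N17309 (tt N19346 (iv F233646)) (tt N15115 F224383) (tt N15591 F224384) (tt N15127 F224385) (tt N15648 F224386) (tt N19339 (iv F233616)) (tt N15118 F224387) (tt N19344 (iv F233640)) (tt N19347 D52117) (tt N15114 (iv D50079)))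
theorem Q17311 : ∀ i, i < 17311 → P i := stepQ 17310 Q17310 (allL N17310 (tt N15739 F224388) (tt N19347 (iv F233652)) (tt N15116 F224389) (tt N19348 D52118) (tt N15649 F224390) (tt N19341 (iv F233623)) (tt N15119 F224391) (tt N19345 (iv F233645)) (tt N15115 (iv D50080)) (tt N19181 (iv F232840)))
theorem Q17312 : ∀ i, i < 17312 → P i := stepQ 17311 Q17311 (allL N17311 (tt N15118 F224392) (tt N15744 F224393) (tt N15223 F224394) (tt N15129 F224395) (tt N15650 F224396) (tt N15220 F224397) (tt N19346 (iv F233651)) (tt N17311 F224398) (tt N19349 D52119) (tt N15117 (iv D50081)))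
theorem Q17313 : ∀ i, i < 17313 → P i := stepQ 17312 Q17312 (allL N17312 (tt N19349 (iv F233660)) (tt N15119 F224399) (tt N15598 F224400) (tt N19350 D52120) (tt N15651 F224401) (tt N18267 (iv F228340)) (tt N19347 (iv F233655)) (tt N17312 F224402) (tt N15118 (iv D50082)) (tt N18917 (iv F231706)))
theorem Q17314 : ∀ i, i < 17314 → P i := stepQ 17313 Q17313 (allL N17313 (tt N15753 F224403) (tt N19350 (iv F233667)) (tt N15259 F224404) (tt N15119 (iv D50083)) (tt N19122 (iv F232643)) (tt N18269 (iv F228352)) (tt N19348 (iv F233658)) (tt N17313 F224405) (tt N15131 F224406) (tt N19194 (iv F232894)))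
theorem Q17315 : ∀ i, i < 17315 → P i := stepQ 17314 Q17314 (allL N17314 (tt N15120 (iv D50084)) (tt N15930 F224407) (tt N15132 F224408) (tt N19337 (iv F233606)) (tt N18460 (iv F229425)) (tt N15126 F224409) (tt N15783 F224410) (tt N18463 (iv F229446)) (tt N17314 F224411) (tt N19351 D52121))
theorem Q17316 : ∀ i, i < 17316 → P i := stepQ 17315 Q17315 (allL N17315 (tt N19351 (iv F233670)) (tt N15121 F224412) (tt N15133 F224413) (tt N19339 (iv F233615)) (tt N18461 (iv F229432)) (tt N15127 F224414) (tt N18280 (iv F228423)) (tt N18466 (iv F229463)) (tt N19352 D52122) (tt N15120 (iv D50085)))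
theorem Q17317 : ∀ i, i < 17317 → P i := stepQ 17316 Q17316 (allL N17316 (tt N15938 F224415) (tt N19352 (iv F233675)) (tt N15122 F224416) (tt N19353 D52123) (tt N18462 (iv F229437)) (tt N15128 F224417) (tt N18283 (iv F228439)) (tt N18470 (iv F229486)) (tt N15121 (iv D50086)) (tt N17316 F224418))
theorem Q17318 : ∀ i, i < 17318 → P i := stepQ 17317 Q17317 (allL N17317 (tt N15123 (iv D50087)) (tt N15924 F224419) (tt N15135 F224420) (tt N19343 (iv F233630)) (tt N15889 F224421) (tt N18463 (iv F229444)) (tt N17317 F224422) (tt N15126 F224423) (tt N17317 F224424) (tt N19354 D52124))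
theorem Q17319 : ∀ i, i < 17319 → P i := stepQ 17318 Q17318 (allL N17318 (tt N19354 (iv F233683)) (tt N15124 F224425) (tt N15136 F224426) (tt N19344 (iv F233637)) (tt N15890 F224427) (tt N18466 (iv F229461)) (tt N17318 F224428) (tt N15127 F224429) (tt N19355 D52125) (tt N15123 (iv D50088)))
theorem Q17320 : ∀ i, i < 17320 → P i := stepQ 17319 Q17319 (allL N17319 (tt N15928 F224430) (tt N19355 (iv F233689)) (tt N15125 F224431) (tt N19356 D52126) (tt N15891 F224432) (tt N18470 (iv F229484)) (tt N17319 F224433) (tt N15128 F224434) (tt N15124 (iv D50089)) (tt N17319 F224435))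
theorem Q17321 : ∀ i, i < 17321 → P i := stepQ 17320 Q17320 (allL N17320 (tt N15127 F224436) (tt N15931 F224437) (tt N15138 F224438) (tt N19346 (iv F233649)) (tt N15892 F224439) (tt N19351 (iv F233673)) (tt N15129 F224440) (tt N19354 (iv F233688)) (tt N19357 D52127) (tt N15126 (iv D50090)))
theorem Q17322 : ∀ i, i < 17322 → P i := stepQ 17321 Q17321 (allL N17321 (tt N19357 (iv F233700)) (tt N15128 F224441) (tt N15139 F224442) (tt N19358 D52128) (tt N15893 F224443) (tt N19352 (iv F233677)) (tt N15130 F224444) (tt N19355 (iv F233693)) (tt N15127 (iv D50091)) (tt N17321 F224445))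
theorem Q17323 : ∀ i, i < 17323 → P i := stepQ 17322 Q17322 (allL N17322 (tt N15939 F224446) (tt N19358 (iv F233706)) (tt N15286 F224447) (tt N15128 (iv D50092)) (tt N19359 D52129) (tt N19353 (iv F233681)) (tt N15131 F224448) (tt N19356 (iv F233698)) (tt N19348 (iv F233659)) (tt N17322 F224449))
theorem Q17324 : ∀ i, i < 17324 → P i := stepQ 17323 Q17323 (allL N17323 (tt N15130 F224450) (tt N15945 F224451) (tt N15141 F224452) (tt N18478 (iv F229523)) (tt N15895 F224453) (tt N18288 (iv F228471)) (tt N19357 (iv F233704)) (tt N17323 F224454) (tt N15129 (iv D50093)) (tt N17323 F224455))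
theorem Q17325 : ∀ i, i < 17325 → P i := stepQ 17324 Q17324 (allL N17324 (tt N18478 (iv F229520)) (tt N15131 F224456) (tt N18322 (iv F228700)) (tt N15130 (iv D50094)) (tt N18458 (iv F229413)) (tt N18289 (iv F228479)) (tt N19358 (iv F233707)) (tt N17324 F224457) (tt N19350 (iv F233669)) (tt N17324 F224458))
theorem Q17326 : ∀ i, i < 17326 → P i := stepQ 17325 Q17325 (allL N17325 (tt N15953 F224459) (tt N18458 (iv F229411)) (tt N15289 F224460) (tt N15897 F224461) (tt N15131 (iv D50095)) (tt N18459 (iv F229420)) (tt N19359 (iv F233712)) (tt N17325 F224462) (tt N19122 (iv F232645)) (tt N17325 F224463))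
theorem Q17327 : ∀ i, i < 17327 → P i := stepQ 17326 Q17326 (allL N17326 (tt N15133 F224464) (tt N17326 F224465) (tt N19351 (iv F233672)) (tt N15617 F224466) (tt N18480 (iv F229536)) (tt N15138 F224467) (tt N15785 F224468) (tt N18483 (iv F229559)) (tt N19360 D52130) (tt N15132 (iv D50096)))
theorem Q17328 : ∀ i, i < 17328 → P i := stepQ 17327 Q17327 (allL N17327 (tt N19360 (iv F233714)) (tt N15134 F224469) (tt N19352 (iv F233676)) (tt N19361 D52131) (tt N18481 (iv F229541)) (tt N15139 F224470) (tt N18293 (iv F228508)) (tt N18485 (iv F229570)) (tt N15133 (iv D50097)) (tt N17327 F224471))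
theorem Q17329 : ∀ i, i < 17329 → P i := stepQ 17328 Q17328 (allL N17328 (tt N17328 F224472) (tt N19361 (iv F233719)) (tt N15300 F224473) (tt N15134 (iv D50098)) (tt N15535 (iv F224478)) (tt N15140 F224474) (tt N18295 (iv F228523)) (tt N15542 F224475) (tt N15534 F224476) (tt N17328 F224477))
theorem Q17330 : ∀ i, i < 17330 → P i := stepQ 17329 Q17329 (allL N17329 (tt N15136 F224479) (tt N17329 F224480) (tt N19354 (iv F233685)) (tt N15620 F224481) (tt N18100 (iv F227272)) (tt N18483 (iv F229557)) (tt N17329 F224482) (tt N15138 F224483) (tt N19362 D52132) (tt N15135 (iv D50099)))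
theorem Q17331 : ∀ i, i < 17331 → P i := stepQ 17330 Q17330 (allL N17330 (tt N19362 (iv F233725)) (tt N15137 F224484) (tt N19355 (iv F233690)) (tt N15871 F224485) (tt N18101 (iv F227278)) (tt N18485 (iv F229568)) (tt N17330 F224486) (tt N15139 F224487) (tt N15136 (iv D50100)) (tt N17330 F224488))
theorem Q17332 : ∀ i, i < 17332 → P i := stepQ 17331 Q17331 (allL N17331 (tt N15139 F224489) (tt N17331 F224490) (tt N19357 (iv F233702)) (tt N18906 (iv F231638)) (tt N19325 (iv F233542)) (tt N19360 (iv F233716)) (tt N15141 F224491) (tt N19362 (iv F233729)) (tt N15138 (iv D50101)) (tt N17331 F224492))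
theorem Q17333 : ∀ i, i < 17333 → P i := stepQ 17332 Q17332 (allL N17332 (tt N18906 (iv F231635)) (tt N15140 F224493) (tt N18321 (iv F228693)) (tt N15139 (iv D50102)) (tt N15867 (iv F224498)) (tt N19361 (iv F233720)) (tt N15142 F224494) (tt N15871 F224495) (tt N15623 F224496) (tt N17332 F224497))
theorem Q17334 : ∀ i, i < 17334 → P i := stepQ 17333 Q17333 (allL N17333 (tt N15624 F224499) (tt N15154 F224500) (tt N15776 F224501) (tt N18972 (iv F231972)) (tt N15564 F224502) (tt N15145 F224503) (tt N18301 (iv F228571)) (tt N15561 F224504) (tt N15666 F224505) (tt N15144 (iv D50103)))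
theorem Q17335 : ∀ i, i < 17335 → P i := stepQ 17334 Q17334 (allL N17334 (tt N15587 F224506) (tt N15162 F224507) (tt N18945 (iv F231837)) (tt N15146 (iv D50104)) (tt N19363 D52133) (tt N15149 F224508) (tt N18645 (iv F230511)) (tt N15147 F224509) (tt N15560 F224510) (tt N19364 D52134))
theorem Q17336 : ∀ i, i < 17336 → P i := stepQ 17335 Q17335 (allL N17335 (tt N15601 F224511) (tt N15163 F224512) (tt N17335 F224513) (tt N19364 (iv F233739)) (tt N15391 F224514) (tt N15150 F224515) (tt N18646 (iv F230518)) (tt N15148 F224516) (tt N15263 F224517) (tt N15146 (iv D50105)))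
theorem Q17337 : ∀ i, i < 17337 → P i := stepQ 17336 Q17336 (allL N17336 (tt N15581 F224518) (tt N15165 F224519) (tt N18942 (iv F231823)) (tt N19280 (iv F233353)) (tt N15147 (iv D50106)) (tt N15555 F224520) (tt N18310 (iv F228627)) (tt N19363 (iv F233735)) (tt N18962 (iv F231928)) (tt N19365 D52135))
theorem Q17338 : ∀ i, i < 17338 → P i := stepQ 17337 Q17337 (allL N17337 (tt N15595 F224521) (tt N15166 F224522) (tt N18948 (iv F231854)) (tt N15148 F224523) (tt N19365 (iv F233744)) (tt N15151 F224524) (tt N18311 (iv F228632)) (tt N19364 (iv F233741)) (tt N19366 D52136) (tt N15147 (iv D50107)))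
theorem Q17339 : ∀ i, i < 17339 → P i := stepQ 17338 Q17338 (allL N17338 (tt N15588 F224525) (tt N15169 F224526) (tt N18946 (iv F231842)) (tt N15150 F224527) (tt N15557 F224528) (tt N19364 (iv F233740)) (tt N17338 F224529) (tt N15151 F224530) (tt N19367 D52137) (tt N15149 (iv D50108)))
theorem Q17340 : ∀ i, i < 17340 → P i := stepQ 17339 Q17339 (allL N17339 (tt N15596 F224531) (tt N15175 F224532) (tt N18949 (iv F231858)) (tt N15250 F224533) (tt N15558 F224534) (tt N19366 (iv F233749)) (tt N15152 F224535) (tt N19367 (iv F233755)) (tt N15151 (iv D50109)) (tt N18973 (iv F231982)))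
theorem Q17341 : ∀ i, i < 17341 → P i := stepQ 17340 Q17340 (allL N17340 (tt N15207 F224536) (tt N18262 (iv F228313)) (tt N15153 (iv D50110)) (tt N17340 F224537) (tt N19368 D52138) (tt N15157 F224538) (tt N18327 (iv F228732)) (tt N19327 (iv F233554)) (tt N15164 F224539) (tt N19369 D52139))
theorem Q17342 : ∀ i, i < 17342 → P i := stepQ 17341 Q17341 (allL N17341 (tt N15208 F224540) (tt N18962 (iv F231923)) (tt N19368 (iv F233758)) (tt N19330 (iv F233569)) (tt N15153 (iv D50111)) (tt N18959 (iv F231905)) (tt N18328 (iv F228736)) (tt N19328 (iv F233560)) (tt N15165 F224541) (tt N19370 D52140))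
theorem Q17343 : ∀ i, i < 17343 → P i := stepQ 17342 Q17342 (allL N17342 (tt N15209 F224542) (tt N18972 (iv F231970)) (tt N19369 (iv F233761)) (tt N15154 F224543) (tt N19370 (iv F233765)) (tt N15158 F224544) (tt N18329 (iv F228741)) (tt N19329 (iv F233566)) (tt N19371 D52141) (tt N15153 (iv D50112)))
theorem Q17344 : ∀ i, i < 17344 → P i := stepQ 17343 Q17343 (allL N17343 (tt N15210 F224545) (tt N18256 (iv F228278)) (tt N15155 (iv D50113)) (tt N17343 F224546) (tt N15961 F224547) (tt N19327 (iv F233553)) (tt N17343 F224548) (tt N15157 F224549) (tt N15167 F224550) (tt N19372 D52142))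
theorem Q17345 : ∀ i, i < 17345 → P i := stepQ 17344 Q17344 (allL N17344 (tt N15211 F224551) (tt N15960 F224552) (tt N19372 (iv F233771)) (tt N15156 F224553) (tt N15962 F224554) (tt N19329 (iv F233565)) (tt N17344 F224555) (tt N15158 F224556) (tt N19373 D52143) (tt N15155 (iv D50114)))
theorem Q17346 : ∀ i, i < 17346 → P i := stepQ 17345 Q17345 (allL N17345 (tt N15214 F224557) (tt N18263 (iv F228319)) (tt N15158 F224558) (tt N17345 F224559) (tt N18261 (iv F228309)) (tt N19369 (iv F233763)) (tt N15159 F224560) (tt N19372 (iv F233775)) (tt N19374 D52144) (tt N15157 (iv D50115)))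
theorem Q17347 : ∀ i, i < 17347 → P i := stepQ 17346 Q17346 (allL N17346 (tt N15217 F224561) (tt N18973 (iv F231976)) (tt N19374 (iv F233784)) (tt N15694 F224562) (tt N18971 (iv F231965)) (tt N19371 (iv F233768)) (tt N15160 F224563) (tt N19373 (iv F233781)) (tt N15158 (iv D50116)) (tt N15175 F224564))
theorem Q17348 : ∀ i, i < 17348 → P i := stepQ 17347 Q17347 (allL N17347 (tt N15221 F224565) (tt N18268 (iv F228344)) (tt N15160 F224566) (tt N19375 D52145) (tt N18267 (iv F228339)) (tt N18335 (iv F228777)) (tt N19374 (iv F233785)) (tt N17347 F224567) (tt N15159 (iv D50117)) (tt N15178 F224568))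
theorem Q17349 : ∀ i, i < 17349 → P i := stepQ 17348 Q17348 (allL N17348 (tt N15225 F224569) (tt N18645 (iv F230509)) (tt N19376 D52146) (tt N15161 (iv D50118)) (tt N19377 D52147) (tt N17348 F224570) (tt N15162 F224571) (tt N18337 (iv F228791)) (tt N18228 (iv F228124)) (tt N19378 D52148))
theorem Q17350 : ∀ i, i < 17350 → P i := stepQ 17349 Q17349 (allL N17349 (tt N15226 F224572) (tt N18646 (iv F230514)) (tt N15184 F224573) (tt N19378 (iv F233800)) (tt N18134 (iv F227522)) (tt N17349 F224574) (tt N15163 F224575) (tt N18338 (iv F228797)) (tt N15758 F224576) (tt N15161 (iv D50119)))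
theorem Q17351 : ∀ i, i < 17351 → P i := stepQ 17350 Q17350 (allL N17350 (tt N15227 F224577) (tt N19379 D52149) (tt N15162 (iv D50120)) (tt N15185 F224578) (tt N19380 D52150) (tt N15167 F224579) (tt N19376 (iv F233795)) (tt N15164 F224580) (tt N19327 (iv F233555)) (tt N19381 D52151))
theorem Q17352 : ∀ i, i < 17352 → P i := stepQ 17351 Q17351 (allL N17351 (tt N15228 F224581) (tt N19363 (iv F233732)) (tt N19380 (iv F233807)) (tt N19273 (iv F233315)) (tt N15162 (iv D50121)) (tt N19382 D52152) (tt N19377 (iv F233798)) (tt N15165 F224582) (tt N19328 (iv F233561)) (tt N19383 D52153))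
theorem Q17353 : ∀ i, i < 17353 → P i := stepQ 17352 Q17352 (allL N17352 (tt N15229 F224583) (tt N19364 (iv F233738)) (tt N19381 (iv F233810)) (tt N15163 F224584) (tt N19383 (iv F233821)) (tt N15169 F224585) (tt N19378 (iv F233802)) (tt N15166 F224586) (tt N19384 D52154) (tt N15162 (iv D50122)))
theorem Q17354 : ∀ i, i < 17354 → P i := stepQ 17353 Q17353 (allL N17353 (tt N19112 (iv F232596)) (tt N15164 (iv D50123)) (tt N18240 (iv F228192)) (tt N15188 F224587) (tt N19385 D52155) (tt N15170 F224588) (tt N15809 F224589) (tt N19379 (iv F233805)) (tt N18262 (iv F228317)) (tt N19386 D52156))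
theorem Q17355 : ∀ i, i < 17355 → P i := stepQ 17354 Q17354 (allL N17354 (tt N15231 F224590) (tt N19385 (iv F233827)) (tt N15165 F224591) (tt N19387 D52157) (tt N15164 (iv D50124)) (tt N19388 D52158) (tt N18341 (iv F228814)) (tt N19380 (iv F233808)) (tt N19368 (iv F233759)) (tt N19389 D52159))
theorem Q17356 : ∀ i, i < 17356 → P i := stepQ 17355 Q17355 (allL N17355 (tt N15232 F224592) (tt N19386 (iv F233829)) (tt N15166 F224593) (tt N15190 F224594) (tt N19389 (iv F233842)) (tt N15172 F224595) (tt N18342 (iv F228821)) (tt N19381 (iv F233813)) (tt N19390 D52160) (tt N15164 (iv D50125)))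
theorem Q17357 : ∀ i, i < 17357 → P i := stepQ 17356 Q17356 (allL N17356 (tt N15233 F224596) (tt N15555 F224597) (tt N19388 (iv F233838)) (tt N19283 (iv F233371)) (tt N15173 F224598) (tt N15165 (iv D50126)) (tt N18911 (iv F231670)) (tt N19382 (iv F233818)) (tt N18959 (iv F231908)) (tt N19391 D52161))
theorem Q17358 : ∀ i, i < 17358 → P i := stepQ 17357 Q17357 (allL N17357 (tt N15234 F224599) (tt N19365 (iv F233743)) (tt N19389 (iv F233841)) (tt N19284 (iv F233376)) (tt N15166 F224600) (tt N19391 (iv F233849)) (tt N18344 (iv F228830)) (tt N19383 (iv F233822)) (tt N19392 D52162) (tt N15165 (iv D50127)))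
theorem Q17359 : ∀ i, i < 17359 → P i := stepQ 17358 Q17358 (allL N17358 (tt N15235 F224601) (tt N19366 (iv F233747)) (tt N19390 (iv F233844)) (tt N15743 F224602) (tt N19392 (iv F233851)) (tt N15175 F224603) (tt N18345 (iv F228834)) (tt N19384 (iv F233826)) (tt N15166 (iv D50128)) (tt N19371 (iv F233769)))
theorem Q17360 : ∀ i, i < 17360 → P i := stepQ 17359 Q17359 (allL N17359 (tt N19119 (iv F232622)) (tt N15167 (iv D50129)) (tt N18237 (iv F228174)) (tt N15193 F224604) (tt N18236 F228171) (tt N19379 (iv F233804)) (tt N17359 F224605) (tt N15170 F224606) (tt N18256 (iv F228283)) (tt N19393 D52163))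
theorem Q17361 : ∀ i, i < 17361 → P i := stepQ 17360 Q17360 (allL N17360 (tt N15237 F224607) (tt N18236 (iv F228166)) (tt N15168 F224608) (tt N17360 F224609) (tt N15167 (iv D50130)) (tt N19394 D52164) (tt N17360 F224610) (tt N15171 F224611) (tt N15961 F224612) (tt N19395 D52165))
theorem Q17362 : ∀ i, i < 17362 → P i := stepQ 17361 Q17361 (allL N17361 (tt N15238 F224613) (tt N19393 (iv F233852)) (tt N15169 F224614) (tt N15194 F224615) (tt N19395 (iv F233864)) (tt N19381 (iv F233812)) (tt N17361 F224616) (tt N15172 F224617) (tt N19396 D52166) (tt N15167 (iv D50131)))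
theorem Q17363 : ∀ i, i < 17363 → P i := stepQ 17362 Q17362 (allL N17362 (tt N15239 F224618) (tt N15553 F224619) (tt N19394 (iv F233857)) (tt N15180 F224620) (tt N19382 (iv F233817)) (tt N15168 (iv D50132)) (tt N18728 (iv F230885)) (tt N15173 F224621) (tt N15626 F224622) (tt N19397 D52167))
theorem Q17364 : ∀ i, i < 17364 → P i := stepQ 17363 Q17363 (allL N17363 (tt N15240 F224623) (tt N15557 F224624) (tt N19395 (iv F233862)) (tt N15181 F224625) (tt N15169 F224626) (tt N19397 (iv F233874)) (tt N17363 F224627) (tt N15174 F224628) (tt N19398 D52168) (tt N15168 (iv D50133)))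
theorem Q17365 : ∀ i, i < 17365 → P i := stepQ 17364 Q17364 (allL N17364 (tt N15241 F224629) (tt N19367 (iv F233751)) (tt N19396 (iv F233868)) (tt N15731 F224630) (tt N19398 (iv F233879)) (tt N19384 (iv F233825)) (tt N17364 F224631) (tt N15175 F224632) (tt N15169 (iv D50134)) (tt N19373 (iv F233782)))
theorem Q17366 : ∀ i, i < 17366 → P i := stepQ 17365 Q17365 (allL N17365 (tt N19120 (iv F232629)) (tt N15172 F224633) (tt N18241 (iv F228198)) (tt N15197 F224634) (tt N18239 (iv F228188)) (tt N19386 (iv F233831)) (tt N15176 F224635) (tt N19393 (iv F233855)) (tt N19399 D52169) (tt N15170 (iv D50135)))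
theorem Q17367 : ∀ i, i < 17367 → P i := stepQ 17366 Q17366 (allL N17366 (tt N15245 F224636) (tt N18233 (iv F228151)) (tt N15173 F224637) (tt N17366 F224638) (tt N19388 (iv F233839)) (tt N15171 (iv D50136)) (tt N18910 (iv F231666)) (tt N19394 (iv F233859)) (tt N18250 (iv F228254)) (tt N19400 D52170))
theorem Q17368 : ∀ i, i < 17368 → P i := stepQ 17367 Q17367 (allL N17367 (tt N15246 F224639) (tt N18239 (iv F228185)) (tt N15174 F224640) (tt N17367 F224641) (tt N15172 F224642) (tt N19400 (iv F233888)) (tt N15177 F224643) (tt N19395 (iv F233866)) (tt N19401 D52171) (tt N15171 (iv D50137)))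
theorem Q17369 : ∀ i, i < 17369 → P i := stepQ 17368 Q17368 (allL N17368 (tt N15247 F224644) (tt N19399 (iv F233883)) (tt N15175 F224645) (tt N19402 D52172) (tt N19401 (iv F233891)) (tt N19390 (iv F233845)) (tt N15178 F224646) (tt N19396 (iv F233870)) (tt N15172 (iv D50138)) (tt N19374 (iv F233786)))
theorem Q17370 : ∀ i, i < 17370 → P i := stepQ 17369 Q17369 (allL N17369 (tt N15249 F224647) (tt N15556 F224648) (tt N19400 (iv F233886)) (tt N15182 F224649) (tt N19391 (iv F233848)) (tt N15174 F224650) (tt N18912 (iv F231676)) (tt N19397 (iv F233875)) (tt N19403 D52173) (tt N15173 (iv D50139)))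
theorem Q17371 : ∀ i, i < 17371 → P i := stepQ 17370 Q17370 (allL N17370 (tt N15250 F224651) (tt N15558 F224652) (tt N19401 (iv F233890)) (tt N15596 F224653) (tt N15175 F224654) (tt N19403 (iv F233900)) (tt N15179 F224655) (tt N19398 (iv F233881)) (tt N15174 (iv D50140)) (tt N18971 (iv F231968)))
theorem Q17372 : ∀ i, i < 17372 → P i := stepQ 17371 Q17371 (allL N17371 (tt N19121 (iv F232635)) (tt N15178 F224656) (tt N18244 (iv F228216)) (tt N19404 D52174) (tt N18243 (iv F228210)) (tt N15754 F224657) (tt N19399 (iv F233884)) (tt N17371 F224658) (tt N15176 (iv D50141)) (tt N18268 (iv F228349)))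
theorem Q17373 : ∀ i, i < 17373 → P i := stepQ 17372 Q17372 (allL N17372 (tt N15258 F224659) (tt N18243 (iv F228208)) (tt N15179 F224660) (tt N19405 D52175) (tt N15178 F224661) (tt N18917 (iv F231704)) (tt N19401 (iv F233892)) (tt N17372 F224662) (tt N15177 (iv D50142)) (tt N18267 (iv F228342)))
theorem Q17374 : ∀ i, i < 17374 → P i := stepQ 17373 Q17373 (allL N17373 (tt N15259 F224663) (tt N19404 (iv F233901)) (tt N15753 F224664) (tt N15178 (iv D50143)) (tt N19406 D52176) (tt N18351 (iv F228867)) (tt N19402 (iv F233895)) (tt N17373 F224665) (tt N15201 F224666) (tt N19375 (iv F233791)))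
theorem Q17375 : ∀ i, i < 17375 → P i := stepQ 17374 Q17374 (allL N17374 (tt N15263 F224667) (tt N15554 F224668) (tt N17374 F224669) (tt N19397 (iv F233873)) (tt N15429 F224670) (tt N15181 F224671) (tt N18729 (iv F230892)) (tt N15182 F224672) (tt N15601 F224673) (tt N15180 (iv D50144)))
theorem Q17376 : ∀ i, i < 17376 → P i := stepQ 17375 Q17375 (allL N17375 (tt N15267 F224674) (tt N19407 D52177) (tt N15183 (iv D50145)) (tt N19376 (iv F233793)) (tt N15936 F224675) (tt N17375 F224676) (tt N15185 F224677) (tt N15917 F224678) (tt N17375 F224679) (tt N19408 D52178))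
theorem Q17377 : ∀ i, i < 17377 → P i := stepQ 17376 Q17376 (allL N17376 (tt N15268 F224680) (tt N17376 F224681) (tt N19408 (iv F233921)) (tt N15184 F224682) (tt N15941 F224683) (tt N17376 F224684) (tt N15187 F224685) (tt N15921 F224686) (tt N19409 D52179) (tt N15183 (iv D50146)))
theorem Q17378 : ∀ i, i < 17378 → P i := stepQ 17377 Q17377 (allL N17377 (tt N19242 (iv F233137)) (tt N15185 (iv D50147)) (tt N17377 F224687) (tt N19379 (iv F233803)) (tt N19241 F233136) (tt N15193 F224688) (tt N19407 (iv F233917)) (tt N15188 F224689) (tt N17377 F224690) (tt N19410 D52180))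
theorem Q17379 : ∀ i, i < 17379 → P i := stepQ 17378 Q17378 (allL N17378 (tt N15270 F224691) (tt N19241 (iv F233130)) (tt N15186 F224692) (tt N19411 D52181) (tt N15185 (iv D50148)) (tt N17378 F224693) (tt N15936 F224694) (tt N15189 F224695) (tt N17378 F224696) (tt N19412 D52182))
theorem Q17380 : ∀ i, i < 17380 → P i := stepQ 17379 Q17379 (allL N17379 (tt N15271 F224697) (tt N19410 (iv F233934)) (tt N15187 F224698) (tt N19381 (iv F233811)) (tt N19412 (iv F233945)) (tt N15194 F224699) (tt N19408 (iv F233924)) (tt N15190 F224700) (tt N19413 D52183) (tt N15185 (iv D50149)))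
theorem Q17381 : ∀ i, i < 17381 → P i := stepQ 17380 Q17380 (allL N17380 (tt N15272 F224701) (tt N17380 F224702) (tt N19412 (iv F233944)) (tt N15954 F224703) (tt N15187 F224704) (tt N17380 F224705) (tt N15941 F224706) (tt N15191 F224707) (tt N19414 D52184) (tt N15186 (iv D50150)))
theorem Q17382 : ∀ i, i < 17382 → P i := stepQ 17381 Q17381 (allL N17381 (tt N15273 F224708) (tt N17381 F224709) (tt N19413 (iv F233950)) (tt N15929 F224710) (tt N19414 (iv F233957)) (tt N15195 F224711) (tt N19409 (iv F233931)) (tt N15192 F224712) (tt N15187 (iv D50151)) (tt N17381 F224713))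
theorem Q17383 : ∀ i, i < 17383 → P i := stepQ 17382 Q17382 (allL N17382 (tt N15188 (iv D50152)) (tt N15274 F224714) (tt N17382 F224715) (tt N19112 (iv F232599)) (tt N19238 (iv F233114)) (tt N15196 F224716) (tt N15959 F224717) (tt N19242 (iv F233141)) (tt N17382 F224718) (tt N19415 D52185))
theorem Q17384 : ∀ i, i < 17384 → P i := stepQ 17383 Q17383 (allL N17383 (tt N19238 (iv F233112)) (tt N15189 F224719) (tt N17383 F224720) (tt N19416 D52186) (tt N15188 (iv D50153)) (tt N17383 F224721) (tt N15925 F224722) (tt N19241 (iv F233134)) (tt N17383 F224723) (tt N19417 D52187))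
theorem Q17385 : ∀ i, i < 17385 → P i := stepQ 17384 Q17384 (allL N17384 (tt N19415 (iv F233962)) (tt N15190 F224724) (tt N17384 F224725) (tt N19386 (iv F233830)) (tt N19417 (iv F233972)) (tt N15197 F224726) (tt N15957 F224727) (tt N19410 (iv F233937)) (tt N19418 D52188) (tt N15188 (iv D50154)))
theorem Q17386 : ∀ i, i < 17386 → P i := stepQ 17385 Q17385 (allL N17385 (tt N15277 F224728) (tt N19416 (iv F233967)) (tt N15729 F224729) (tt N15189 (iv D50155)) (tt N19387 (iv F233835)) (tt N17385 F224730) (tt N15726 F224731) (tt N19411 (iv F233942)) (tt N18368 (iv F228976)) (tt N19419 D52189))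
theorem Q17387 : ∀ i, i < 17387 → P i := stepQ 17386 Q17386 (allL N17386 (tt N15278 F224732) (tt N19417 (iv F233970)) (tt N15191 F224733) (tt N19419 (iv F233982)) (tt N15190 F224734) (tt N17386 F224735) (tt N15927 F224736) (tt N19412 (iv F233948)) (tt N19420 D52190) (tt N15189 (iv D50156)))
theorem Q17388 : ∀ i, i < 17388 → P i := stepQ 17387 Q17387 (allL N17387 (tt N15279 F224737) (tt N19418 (iv F233975)) (tt N15192 F224738) (tt N19421 D52191) (tt N19420 (iv F233987)) (tt N15198 F224739) (tt N18364 (iv F228951)) (tt N19413 (iv F233952)) (tt N15190 (iv D50157)) (tt N17387 F224740))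
theorem Q17389 : ∀ i, i < 17389 → P i := stepQ 17388 Q17388 (allL N17388 (tt N15280 F224741) (tt N17388 F224742) (tt N19420 (iv F233986)) (tt N19409 (iv F233928)) (tt N15192 F224743) (tt N17388 F224744) (tt N15929 F224745) (tt N19414 (iv F233960)) (tt N15191 (iv D50158)) (tt N17388 F224746))
theorem Q17390 : ∀ i, i < 17390 → P i := stepQ 17389 Q17389 (allL N17389 (tt N15193 (iv D50159)) (tt N15281 F224747) (tt N17389 F224748) (tt N19119 (iv F232625)) (tt N17389 F224749) (tt N19242 F233143) (tt N17389 F224750) (tt N15196 F224751) (tt N17389 F224752) (tt N19422 D52192))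
theorem Q17391 : ∀ i, i < 17391 → P i := stepQ 17390 Q17390 (allL N17390 (tt N19422 (iv F233995)) (tt N15194 F224753) (tt N17390 F224754) (tt N19393 (iv F233853)) (tt N17390 F224755) (tt N19410 (iv F233936)) (tt N17390 F224756) (tt N15197 F224757) (tt N19423 D52193) (tt N15193 (iv D50160)))
theorem Q17392 : ∀ i, i < 17392 → P i := stepQ 17391 Q17391 (allL N17391 (tt N15283 F224758) (tt N19423 (iv F234001)) (tt N15195 F224759) (tt N19424 D52194) (tt N17391 F224760) (tt N19413 (iv F233951)) (tt N17391 F224761) (tt N15198 F224762) (tt N15194 (iv D50161)) (tt N17391 F224763))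
theorem Q17393 : ∀ i, i < 17393 → P i := stepQ 17392 Q17392 (allL N17392 (tt N15197 F224764) (tt N15284 F224765) (tt N17392 F224766) (tt N19120 (iv F232632)) (tt N17392 F224767) (tt N19415 (iv F233965)) (tt N15199 F224768) (tt N19422 (iv F234000)) (tt N19425 D52195) (tt N15196 (iv D50162)))
theorem Q17394 : ∀ i, i < 17394 → P i := stepQ 17393 Q17393 (allL N17393 (tt N19425 (iv F234012)) (tt N15198 F224769) (tt N17393 F224770) (tt N19426 D52196) (tt N17393 F224771) (tt N19418 (iv F233977)) (tt N15200 F224772) (tt N19423 (iv F234005)) (tt N15197 (iv D50163)) (tt N17393 F224773))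
theorem Q17395 : ∀ i, i < 17395 → P i := stepQ 17394 Q17394 (allL N17394 (tt N15286 F224774) (tt N19426 (iv F234018)) (tt N15939 F224775) (tt N15198 (iv D50164)) (tt N19427 D52197) (tt N19421 (iv F233993)) (tt N15201 F224776) (tt N19424 (iv F234010)) (tt N19402 (iv F233896)) (tt N17394 F224777))
theorem Q17396 : ∀ i, i < 17396 → P i := stepQ 17395 Q17395 (allL N17395 (tt N15200 F224778) (tt N15287 F224779) (tt N17395 F224780) (tt N18459 (iv F229419)) (tt N17395 F224781) (tt N15897 F224782) (tt N19425 (iv F234016)) (tt N17395 F224783) (tt N15199 (iv D50165)) (tt N17395 F224784))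
theorem Q17397 : ∀ i, i < 17397 → P i := stepQ 17396 Q17396 (allL N17396 (tt N18459 (iv F229417)) (tt N15201 F224785) (tt N19210 (iv F232949)) (tt N15200 (iv D50166)) (tt N19428 D52198) (tt N15953 F224786) (tt N19426 (iv F234019)) (tt N17396 F224787) (tt N19404 (iv F233904)) (tt N17396 F224788))
theorem Q17398 : ∀ i, i < 17398 → P i := stepQ 17397 Q17397 (allL N17397 (tt N15289 F224789) (tt N19428 (iv F234026)) (tt N15953 F224790) (tt N17397 F224791) (tt N15201 (iv D50167)) (tt N19210 (iv F232952)) (tt N19427 (iv F234024)) (tt N17397 F224792) (tt N19406 (iv F233912)) (tt N17397 F224793))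
theorem Q17399 : ∀ i, i < 17399 → P i := stepQ 17398 Q17398 (allL N17398 (tt N18468 (iv F229469)) (tt N19429 D52199) (tt N15202 (iv D50168)) (tt N17398 F224794) (tt N19430 D52200) (tt N15682 F224795) (tt N18368 (iv F228975)) (tt N15689 F224796) (tt N15726 F224797) (tt N19431 D52201))
theorem Q17400 : ∀ i, i < 17400 → P i := stepQ 17399 Q17399 (allL N17399 (tt N19330 (iv F233567)) (tt N15668 F224798) (tt N19430 (iv F234037)) (tt N15208 F224799) (tt N15202 (iv D50169)) (tt N15673 F224800) (tt N18369 (iv F228979)) (tt N15678 F224801) (tt N15710 F224802) (tt N19432 D52202))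
theorem Q17401 : ∀ i, i < 17401 → P i := stepQ 17400 Q17400 (allL N17400 (tt N19331 (iv F233573)) (tt N15669 F224803) (tt N19431 (iv F234041)) (tt N15203 F224804) (tt N19432 (iv F234047)) (tt N15684 F224805) (tt N18370 (iv F228984)) (tt N15693 F224806) (tt N19433 D52203) (tt N15202 (iv D50170)))
theorem Q17402 : ∀ i, i < 17402 → P i := stepQ 17401 Q17401 (allL N17401 (tt N18228 (iv F228120)) (tt N15670 F224807) (tt N19434 D52204) (tt N15204 (iv D50171)) (tt N19435 D52205) (tt N17401 F224808) (tt N15205 F224809) (tt N18371 (iv F228988)) (tt N15225 F224810) (tt N19436 D52206))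
theorem Q17403 : ∀ i, i < 17403 → P i := stepQ 17402 Q17402 (allL N17402 (tt N18229 (iv F228125)) (tt N15671 F224811) (tt N17402 F224812) (tt N19436 (iv F234063)) (tt N15967 F224813) (tt N17402 F224814) (tt N15206 F224815) (tt N18372 (iv F228995)) (tt N18324 (iv F228717)) (tt N15204 (iv D50172)))
theorem Q17404 : ∀ i, i < 17404 → P i := stepQ 17403 Q17403 (allL N17403 (tt N19327 (iv F233551)) (tt N19437 D52207) (tt N15205 (iv D50173)) (tt N17403 F224816) (tt N19438 D52208) (tt N15210 F224817) (tt N19434 (iv F234056)) (tt N15207 F224818) (tt N15227 F224819) (tt N19439 D52209))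
theorem Q17405 : ∀ i, i < 17405 → P i := stepQ 17404 Q17404 (allL N17404 (tt N19328 (iv F233556)) (tt N15673 F224820) (tt N19438 (iv F234071)) (tt N15678 F224821) (tt N15205 (iv D50174)) (tt N15668 F224822) (tt N19435 (iv F234060)) (tt N15208 F224823) (tt N15228 F224824) (tt N19440 D52210))
theorem Q17406 : ∀ i, i < 17406 → P i := stepQ 17405 Q17405 (allL N17405 (tt N19329 (iv F233562)) (tt N15674 F224825) (tt N19439 (iv F234075)) (tt N15206 F224826) (tt N19440 (iv F234081)) (tt N15211 F224827) (tt N19436 (iv F234065)) (tt N15209 F224828) (tt N19441 D52211) (tt N15205 (iv D50175)))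
theorem Q17407 : ∀ i, i < 17407 → P i := stepQ 17406 Q17406 (allL N17406 (tt N19173 (iv F232809)) (tt N15207 (iv D50176)) (tt N15675 F224829) (tt N17406 F224830) (tt N19442 D52212) (tt N15212 F224831) (tt N18376 (iv F229012)) (tt N19437 (iv F234069)) (tt N15230 F224832) (tt N19443 D52213))
theorem Q17408 : ∀ i, i < 17408 → P i := stepQ 17407 Q17407 (allL N17407 (tt N19368 (iv F233757)) (tt N19442 (iv F234088)) (tt N15208 F224833) (tt N19444 D52214) (tt N15207 (iv D50177)) (tt N19445 D52215) (tt N18377 (iv F229015)) (tt N19438 (iv F234073)) (tt N15231 F224834) (tt N19446 D52216))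
theorem Q17409 : ∀ i, i < 17409 → P i := stepQ 17408 Q17408 (allL N17408 (tt N19369 (iv F233760)) (tt N19443 (iv F234091)) (tt N15209 F224835) (tt N17408 F224836) (tt N19446 (iv F234101)) (tt N15214 F224837) (tt N18378 (iv F229020)) (tt N19439 (iv F234078)) (tt N19447 D52217) (tt N15207 (iv D50178)))
theorem Q17410 : ∀ i, i < 17410 → P i := stepQ 17409 Q17409 (allL N17409 (tt N18959 (iv F231902)) (tt N15678 F224838) (tt N19445 (iv F234096)) (tt N15673 F224839) (tt N15215 F224840) (tt N15208 (iv D50179)) (tt N19448 D52218) (tt N15668 F224841) (tt N15233 F224842) (tt N19449 D52219))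
theorem Q17411 : ∀ i, i < 17411 → P i := stepQ 17410 Q17410 (allL N17410 (tt N19370 (iv F233764)) (tt N15679 F224843) (tt N19446 (iv F234100)) (tt N19432 (iv F234046)) (tt N15209 F224844) (tt N19449 (iv F234113)) (tt N18380 (iv F229026)) (tt N19440 (iv F234083)) (tt N19450 D52220) (tt N15208 (iv D50180)))
theorem Q17412 : ∀ i, i < 17412 → P i := stepQ 17411 Q17411 (allL N17411 (tt N19371 (iv F233766)) (tt N15680 F224845) (tt N19447 (iv F234102)) (tt N19333 (iv F233584)) (tt N19450 (iv F234116)) (tt N15217 F224846) (tt N18381 (iv F229029)) (tt N19441 (iv F234086)) (tt N15209 (iv D50181)) (tt N15235 F224847))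
theorem Q17413 : ∀ i, i < 17413 → P i := stepQ 17412 Q17412 (allL N17412 (tt N19186 (iv F232850)) (tt N15210 (iv D50182)) (tt N15681 F224848) (tt N17412 F224849) (tt N15963 F224850) (tt N19437 (iv F234068)) (tt N17412 F224851) (tt N15212 F224852) (tt N15236 F224853) (tt N19451 D52221))
theorem Q17414 : ∀ i, i < 17414 → P i := stepQ 17413 Q17413 (allL N17413 (tt N19372 (iv F233770)) (tt N19451 (iv F234118)) (tt N15211 F224854) (tt N17413 F224855) (tt N15964 F224856) (tt N19439 (iv F234077)) (tt N17413 F224857) (tt N15214 F224858) (tt N19452 D52222) (tt N15210 (iv D50183)))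
theorem Q17415 : ∀ i, i < 17415 → P i := stepQ 17414 Q17414 (allL N17414 (tt N19373 (iv F233776)) (tt N15685 F224859) (tt N19452 (iv F234124)) (tt N19334 (iv F233589)) (tt N15965 F224860) (tt N19441 (iv F234085)) (tt N17414 F224861) (tt N15217 F224862) (tt N15211 (iv D50184)) (tt N15241 F224863))
theorem Q17416 : ∀ i, i < 17416 → P i := stepQ 17415 Q17415 (allL N17415 (tt N15746 F224864) (tt N15213 F224865) (tt N15687 F224866) (tt N15943 (iv F224870)) (tt N15212 (iv D50185)) (tt N19453 D52223) (tt N15218 F224867) (tt N15963 F224868) (tt N15243 F224869) (tt N19454 D52224))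
theorem Q17417 : ∀ i, i < 17417 → P i := stepQ 17416 Q17416 (allL N17416 (tt N19187 (iv F232857)) (tt N15214 F224871) (tt N15688 F224872) (tt N17416 F224873) (tt N19454 (iv F234140)) (tt N19443 (iv F234094)) (tt N15219 F224874) (tt N19451 (iv F234123)) (tt N19455 D52225) (tt N15212 (iv D50186)))
theorem Q17418 : ∀ i, i < 17418 → P i := stepQ 17417 Q17417 (allL N17417 (tt N18250 F228255) (tt N19453 (iv F234130)) (tt N15215 F224875) (tt N15783 F224876) (tt N19445 (iv F234097)) (tt N15213 (iv D50187)) (tt N19337 (iv F233608)) (tt N15667 F224877) (tt N15245 F224878) (tt N19456 D52226))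
theorem Q17419 : ∀ i, i < 17419 → P i := stepQ 17418 Q17418 (allL N17418 (tt N18261 (iv F228305)) (tt N19454 (iv F234137)) (tt N15216 F224879) (tt N15973 F224880) (tt N15214 F224881) (tt N19456 (iv F234149)) (tt N15220 F224882) (tt N15964 F224883) (tt N19457 D52227) (tt N15213 (iv D50188)))
theorem Q17420 : ∀ i, i < 17420 → P i := stepQ 17419 Q17419 (allL N17419 (tt N19374 (iv F233783)) (tt N19455 (iv F234143)) (tt N15217 F224884) (tt N19458 D52228) (tt N19457 (iv F234152)) (tt N19447 (iv F234103)) (tt N15221 F224885) (tt N19452 (iv F234127)) (tt N15214 (iv D50189)) (tt N15247 F224886))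
theorem Q17421 : ∀ i, i < 17421 → P i := stepQ 17420 Q17420 (allL N17420 (tt N15578 F224887) (tt N15692 F224888) (tt N19337 (iv F233605)) (tt N15608 F224889) (tt N19448 (iv F234108)) (tt N15222 F224890) (tt N15215 (iv D50190)) (tt N19075 (iv F232457)) (tt N15248 F224891) (tt N19459 D52229))
theorem Q17422 : ∀ i, i < 17422 → P i := stepQ 17421 Q17421 (allL N17421 (tt N18960 (iv F231909)) (tt N15693 F224892) (tt N19456 (iv F234147)) (tt N15666 F224893) (tt N19449 (iv F234112)) (tt N15216 F224894) (tt N19459 (iv F234163)) (tt N15669 F224895) (tt N19460 D52230) (tt N15215 (iv D50191)))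
theorem Q17423 : ∀ i, i < 17423 → P i := stepQ 17422 Q17422 (allL N17422 (tt N18971 (iv F231962)) (tt N15694 F224896) (tt N19457 (iv F234151)) (tt N18973 (iv F231978)) (tt N15217 F224897) (tt N19460 (iv F234165)) (tt N15224 F224898) (tt N15965 F224899) (tt N15216 (iv D50192)) (tt N15250 F224900))
theorem Q17424 : ∀ i, i < 17424 → P i := stepQ 17423 Q17423 (allL N17423 (tt N15747 F224901) (tt N15220 F224902) (tt N15696 F224903) (tt N15944 F224904) (tt N15219 F224905) (tt N15744 F224906) (tt N19454 (iv F234141)) (tt N17423 F224907) (tt N19461 D52231) (tt N15218 (iv D50193)))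
theorem Q17425 : ∀ i, i < 17425 → P i := stepQ 17424 Q17424 (allL N17424 (tt N19188 (iv F232863)) (tt N15221 F224908) (tt N15697 F224909) (tt N19462 D52232) (tt N19461 (iv F234171)) (tt N18394 (iv F229101)) (tt N19455 (iv F234145)) (tt N17424 F224910) (tt N15219 (iv D50194)) (tt N15255 F224911))
theorem Q17426 : ∀ i, i < 17426 → P i := stepQ 17425 Q17425 (allL N17425 (tt N18267 (iv F228336)) (tt N19461 (iv F234169)) (tt N15224 F224912) (tt N18981 (iv F232008)) (tt N15221 F224913) (tt N19349 (iv F233664)) (tt N19457 (iv F234153)) (tt N17425 F224914) (tt N15220 (iv D50195)) (tt N15258 F224915))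
theorem Q17427 : ∀ i, i < 17427 → P i := stepQ 17426 Q17426 (allL N17426 (tt N19375 (iv F233787)) (tt N19462 (iv F234175)) (tt N19194 (iv F232890)) (tt N15221 (iv D50196)) (tt N19193 F232888) (tt N18396 (iv F229112)) (tt N19458 (iv F234156)) (tt N17426 F224916) (tt N17426 F224917) (tt N15259 F224918))
theorem Q17428 : ∀ i, i < 17428 → P i := stepQ 17427 Q17427 (allL N17427 (tt N15584 F224919) (tt N15701 F224920) (tt N19343 (iv F233629)) (tt N15613 F224921) (tt N18397 (iv F229120)) (tt N19075 (iv F232455)) (tt N17427 F224922) (tt N15222 (iv D50197)) (tt N15260 F224923) (tt N19463 D52233))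
theorem Q17429 : ∀ i, i < 17429 → P i := stepQ 17428 Q17428 (allL N17428 (tt N15591 F224924) (tt N15702 F224925) (tt N19346 (iv F233648)) (tt N15615 F224926) (tt N18398 (iv F229127)) (tt N19459 (iv F234162)) (tt N15223 F224927) (tt N19463 (iv F234183)) (tt N19464 D52234) (tt N15222 (iv D50198)))
theorem Q17430 : ∀ i, i < 17430 → P i := stepQ 17429 Q17429 (allL N17429 (tt N15598 F224928) (tt N15703 F224929) (tt N19349 (iv F233662)) (tt N18305 (iv F228596)) (tt N18399 (iv F229132)) (tt N15224 F224930) (tt N19464 (iv F234186)) (tt N17429 F224931) (tt N15223 (iv D50199)) (tt N15262 F224932))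
theorem Q17431 : ∀ i, i < 17431 → P i := stepQ 17430 Q17430 (allL N17430 (tt N19376 (iv F233792)) (tt N19260 (iv F233244)) (tt N15225 (iv D50200)) (tt N15267 F224933) (tt N19465 D52235) (tt N17430 F224934) (tt N15227 F224935) (tt N18281 (iv F228429)) (tt N19434 (iv F234057)) (tt N19466 D52236))
theorem Q17432 : ∀ i, i < 17432 → P i := stepQ 17431 Q17431 (allL N17431 (tt N19377 (iv F233797)) (tt N15705 F224936) (tt N19465 (iv F234188)) (tt N19292 (iv F233412)) (tt N15225 (iv D50201)) (tt N19467 D52237) (tt N15228 F224937) (tt N18401 (iv F229142)) (tt N19435 (iv F234061)) (tt N19468 D52238))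
theorem Q17433 : ∀ i, i < 17433 → P i := stepQ 17432 Q17432 (allL N17432 (tt N19378 (iv F233799)) (tt N15706 F224938) (tt N19466 (iv F234190)) (tt N15226 F224939) (tt N19468 (iv F234197)) (tt N17432 F224940) (tt N15229 F224941) (tt N18402 (iv F229147)) (tt N19469 D52239) (tt N15225 (iv D50202)))
theorem Q17434 : ∀ i, i < 17434 → P i := stepQ 17433 Q17433 (allL N17433 (tt N19244 (iv F233148)) (tt N15227 (iv D50203)) (tt N15707 F224942) (tt N15269 F224943) (tt N19470 D52240) (tt N15236 F224944) (tt N19260 (iv F233247)) (tt N15230 F224945) (tt N19437 (iv F234070)) (tt N19471 D52241))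
theorem Q17435 : ∀ i, i < 17435 → P i := stepQ 17434 Q17434 (allL N17434 (tt N19380 (iv F233806)) (tt N19470 (iv F234202)) (tt N15228 F224946) (tt N19472 D52242) (tt N15227 (iv D50204)) (tt N19473 D52243) (tt N19465 (iv F234189)) (tt N15231 F224947) (tt N19438 (iv F234074)) (tt N19474 D52244))
theorem Q17436 : ∀ i, i < 17436 → P i := stepQ 17435 Q17435 (allL N17435 (tt N19381 (iv F233809)) (tt N19471 (iv F234205)) (tt N15229 F224948) (tt N15271 F224949) (tt N19474 (iv F234217)) (tt N15238 F224950) (tt N19466 (iv F234193)) (tt N15232 F224951) (tt N19475 D52245) (tt N15227 (iv D50205)))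
theorem Q17437 : ∀ i, i < 17437 → P i := stepQ 17436 Q17436 (allL N17436 (tt N19382 (iv F233814)) (tt N15710 F224952) (tt N19473 (iv F234212)) (tt N15459 F224953) (tt N15239 F224954) (tt N15228 (iv D50206)) (tt N18799 (iv F231206)) (tt N15233 F224955) (tt N15668 F224956) (tt N19476 D52246))
theorem Q17438 : ∀ i, i < 17438 → P i := stepQ 17437 Q17437 (allL N17437 (tt N19383 (iv F233820)) (tt N15711 F224957) (tt N19474 (iv F234216)) (tt N19296 (iv F233428)) (tt N15229 F224958) (tt N19476 (iv F234225)) (tt N19468 (iv F234198)) (tt N15234 F224959) (tt N19477 D52247) (tt N15228 (iv D50207)))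
theorem Q17439 : ∀ i, i < 17439 → P i := stepQ 17438 Q17438 (allL N17438 (tt N19384 (iv F233823)) (tt N15712 F224960) (tt N19475 (iv F234219)) (tt N19336 (iv F233601)) (tt N19477 (iv F234228)) (tt N15241 F224961) (tt N19469 (iv F234201)) (tt N15235 F224962) (tt N15229 (iv D50208)) (tt N19441 (iv F234087)))
theorem Q17440 : ∀ i, i < 17440 → P i := stepQ 17439 Q17439 (allL N17439 (tt N15230 (iv D50209)) (tt N19112 (iv F232597)) (tt N15713 F224963) (tt N15274 F224964) (tt N19478 D52248) (tt N15242 F224965) (tt N18409 (iv F229178)) (tt N19244 (iv F233152)) (tt N19173 (iv F232814)) (tt N19479 D52249))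
theorem Q17441 : ∀ i, i < 17441 → P i := stepQ 17440 Q17440 (allL N17440 (tt N19478 (iv F234230)) (tt N15231 F224966) (tt N15714 F224967) (tt N19480 D52250) (tt N15230 (iv D50210)) (tt N19481 D52251) (tt N18410 (iv F229182)) (tt N19470 (iv F234204)) (tt N19442 (iv F234090)) (tt N19482 D52252))
theorem Q17442 : ∀ i, i < 17442 → P i := stepQ 17441 Q17441 (allL N17441 (tt N19479 (iv F234232)) (tt N15232 F224968) (tt N15715 F224969) (tt N15276 F224970) (tt N19482 (iv F234243)) (tt N15244 F224971) (tt N18411 (iv F229187)) (tt N19471 (iv F234209)) (tt N19483 D52253) (tt N15230 (iv D50211)))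
theorem Q17443 : ∀ i, i < 17443 → P i := stepQ 17442 Q17442 (allL N17442 (tt N19387 (iv F233833)) (tt N19480 (iv F234236)) (tt N19300 (iv F233447)) (tt N15231 (iv D50212)) (tt N15277 F224972) (tt N19484 D52254) (tt N18412 (iv F229191)) (tt N19472 (iv F234211)) (tt N19485 D52255) (tt N19486 D52256))
theorem Q17444 : ∀ i, i < 17444 → P i := stepQ 17443 Q17443 (allL N17443 (tt N19388 (iv F233837)) (tt N19481 (iv F234238)) (tt N15233 F224973) (tt N19484 (iv F234247)) (tt N15245 F224974) (tt N15231 (iv D50213)) (tt N19487 D52257) (tt N19473 (iv F234214)) (tt N19445 (iv F234099)) (tt N19488 D52258))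
theorem Q17445 : ∀ i, i < 17445 → P i := stepQ 17444 Q17444 (allL N17444 (tt N19389 (iv F233840)) (tt N19482 (iv F234241)) (tt N15234 F224975) (tt N19486 (iv F234250)) (tt N15232 F224976) (tt N19488 (iv F234256)) (tt N18414 (iv F229201)) (tt N19474 (iv F234218)) (tt N19489 D52259) (tt N15231 (iv D50214)))
theorem Q17446 : ∀ i, i < 17446 → P i := stepQ 17445 Q17445 (allL N17445 (tt N19390 (iv F233843)) (tt N19483 (iv F234244)) (tt N15235 F224977) (tt N19490 D52260) (tt N19489 (iv F234258)) (tt N15247 F224978) (tt N18415 (iv F229204)) (tt N19475 (iv F234221)) (tt N15232 (iv D50215)) (tt N19447 (iv F234104)))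
theorem Q17447 : ∀ i, i < 17447 → P i := stepQ 17446 Q17446 (allL N17446 (tt N18911 (iv F231668)) (tt N15720 F224979) (tt N19487 (iv F234252)) (tt N19304 (iv F233459)) (tt N15248 F224980) (tt N18416 (iv F229207)) (tt N15233 (iv D50216)) (tt N19491 D52261) (tt N19448 (iv F234109)) (tt N19492 D52262))
theorem Q17448 : ∀ i, i < 17448 → P i := stepQ 17447 Q17447 (allL N17447 (tt N19391 (iv F233846)) (tt N15721 F224981) (tt N19488 (iv F234254)) (tt N19305 (iv F233463)) (tt N15249 F224982) (tt N15234 F224983) (tt N19492 (iv F234265)) (tt N19476 (iv F234226)) (tt N19493 D52263) (tt N15233 (iv D50217)))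
theorem Q17449 : ∀ i, i < 17449 → P i := stepQ 17448 Q17448 (allL N17448 (tt N19392 (iv F233850)) (tt N15722 F224984) (tt N19489 (iv F234257)) (tt N19494 D52264) (tt N15235 F224985) (tt N19493 (iv F234268)) (tt N18418 (iv F229213)) (tt N19477 (iv F234229)) (tt N15234 (iv D50218)) (tt N19450 (iv F234117)))
theorem Q17450 : ∀ i, i < 17450 → P i := stepQ 17449 Q17449 (allL N17449 (tt N15236 (iv D50219)) (tt N19119 (iv F232623)) (tt N15723 F224986) (tt N15281 F224987) (tt N19495 D52265) (tt N19244 (iv F233150)) (tt N17449 F224988) (tt N15242 F224989) (tt N19186 (iv F232856)) (tt N19496 D52266))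
theorem Q17451 : ∀ i, i < 17451 → P i := stepQ 17450 Q17450 (allL N17450 (tt N19495 (iv F234270)) (tt N15237 F224990) (tt N15724 F224991) (tt N17450 F224992) (tt N15236 (iv D50220)) (tt N19497 D52267) (tt N17450 F224993) (tt N15243 F224994) (tt N15963 F224995) (tt N19498 D52268))
theorem Q17452 : ∀ i, i < 17452 → P i := stepQ 17451 Q17451 (allL N17451 (tt N19496 (iv F234277)) (tt N15238 F224996) (tt N15725 F224997) (tt N15282 F224998) (tt N19498 (iv F234290)) (tt N19471 (iv F234208)) (tt N17451 F224999) (tt N15244 F225000) (tt N19499 D52269) (tt N15236 (iv D50221)))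
theorem Q17453 : ∀ i, i < 17453 → P i := stepQ 17452 Q17452 (allL N17452 (tt N19394 (iv F233856)) (tt N19497 (iv F234282)) (tt N15239 F225001) (tt N17452 F225002) (tt N19473 (iv F234213)) (tt N15237 (iv D50222)) (tt N18798 (iv F231202)) (tt N15245 F225003) (tt N15667 F225004) (tt N19500 D52270))
theorem Q17454 : ∀ i, i < 17454 → P i := stepQ 17453 Q17453 (allL N17453 (tt N19395 (iv F233861)) (tt N19498 (iv F234287)) (tt N15240 F225005) (tt N17453 F225006) (tt N15238 F225007) (tt N19500 (iv F234299)) (tt N17453 F225008) (tt N15246 F225009) (tt N19501 D52271) (tt N15237 (iv D50223)))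
theorem Q17455 : ∀ i, i < 17455 → P i := stepQ 17454 Q17454 (allL N17454 (tt N19396 (iv F233867)) (tt N19499 (iv F234293)) (tt N15241 F225010) (tt N19502 D52272) (tt N19501 (iv F234302)) (tt N19475 (iv F234220)) (tt N17454 F225011) (tt N15247 F225012) (tt N15238 (iv D50224)) (tt N19452 (iv F234128)))
theorem Q17456 : ∀ i, i < 17456 → P i := stepQ 17455 Q17455 (allL N17455 (tt N19397 (iv F233871)) (tt N15730 F225013) (tt N19500 (iv F234297)) (tt N15263 F225014) (tt N19476 (iv F234224)) (tt N15240 F225015) (tt N18800 (iv F231211)) (tt N15249 F225016) (tt N19503 D52273) (tt N15239 (iv D50225)))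
theorem Q17457 : ∀ i, i < 17457 → P i := stepQ 17456 Q17456 (allL N17456 (tt N19398 (iv F233876)) (tt N15731 F225017) (tt N19501 (iv F234301)) (tt N19367 (iv F233752)) (tt N15241 F225018) (tt N19503 (iv F234310)) (tt N17456 F225019) (tt N15250 F225020) (tt N15240 (iv D50226)) (tt N15965 F225021))
theorem Q17458 : ∀ i, i < 17458 → P i := stepQ 17457 Q17457 (allL N17457 (tt N15243 F225022) (tt N15698 F225023) (tt N15732 F225024) (tt N17457 F225025) (tt N15242 (iv D50227)) (tt N19504 D52274) (tt N15251 F225026) (tt N19495 (iv F234275)) (tt N15746 F225027) (tt N19505 D52275))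
theorem Q17459 : ∀ i, i < 17459 → P i := stepQ 17458 Q17458 (allL N17458 (tt N15244 F225028) (tt N19120 (iv F232630)) (tt N15733 F225029) (tt N15284 F225030) (tt N19505 (iv F234323)) (tt N19479 (iv F234235)) (tt N15252 F225031) (tt N19496 (iv F234281)) (tt N19506 D52276) (tt N15242 (iv D50228)))
theorem Q17460 : ∀ i, i < 17460 → P i := stepQ 17459 Q17459 (allL N17459 (tt N19504 (iv F234313)) (tt N15245 F225032) (tt N15734 F225033) (tt N17459 F225034) (tt N19481 (iv F234240)) (tt N15243 (iv D50229)) (tt N19507 D52277) (tt N19497 (iv F234285)) (tt N19453 (iv F234135)) (tt N19508 D52278))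
theorem Q17461 : ∀ i, i < 17461 → P i := stepQ 17460 Q17460 (allL N17460 (tt N19505 (iv F234319)) (tt N15246 F225035) (tt N15735 F225036) (tt N17460 F225037) (tt N15244 F225038) (tt N19508 (iv F234337)) (tt N15254 F225039) (tt N19498 (iv F234292)) (tt N19509 D52279) (tt N15243 (iv D50230)))
theorem Q17462 : ∀ i, i < 17462 → P i := stepQ 17461 Q17461 (allL N17461 (tt N19506 (iv F234325)) (tt N15247 F225040) (tt N15736 F225041) (tt N19510 D52280) (tt N19509 (iv F234340)) (tt N19483 (iv F234246)) (tt N15255 F225042) (tt N19499 (iv F234296)) (tt N15244 (iv D50231)) (tt N19455 (iv F234146)))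
theorem Q17463 : ∀ i, i < 17463 → P i := stepQ 17462 Q17462 (allL N17462 (tt N18910 (iv F231662)) (tt N19507 (iv F234329)) (tt N15248 F225043) (tt N17462 F225044) (tt N19487 (iv F234253)) (tt N15256 F225045) (tt N15245 (iv D50232)) (tt N19511 D52281) (tt N19337 (iv F233609)) (tt N19512 D52282))
theorem Q17464 : ∀ i, i < 17464 → P i := stepQ 17463 Q17463 (allL N17463 (tt N19400 (iv F233885)) (tt N19508 (iv F234334)) (tt N15249 F225046) (tt N17463 F225047) (tt N19488 (iv F234255)) (tt N15246 F225048) (tt N19512 (iv F234351)) (tt N19500 (iv F234300)) (tt N19513 D52283) (tt N15245 (iv D50233)))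
theorem Q17465 : ∀ i, i < 17465 → P i := stepQ 17464 Q17464 (allL N17464 (tt N19401 (iv F233889)) (tt N19509 (iv F234338)) (tt N15250 F225049) (tt N19514 D52284) (tt N15247 F225050) (tt N19513 (iv F234353)) (tt N15258 F225051) (tt N19501 (iv F234304)) (tt N15246 (iv D50234)) (tt N19457 (iv F234155)))
theorem Q17466 : ∀ i, i < 17466 → P i := stepQ 17465 Q17465 (allL N17465 (tt N19402 (iv F233893)) (tt N19510 (iv F234342)) (tt N19348 (iv F233657)) (tt N15247 (iv D50235)) (tt N19515 D52285) (tt N19490 (iv F234259)) (tt N15259 F225052) (tt N19502 (iv F234307)) (tt N15286 F225053) (tt N19458 (iv F234158)))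
theorem Q17467 : ∀ i, i < 17467 → P i := stepQ 17466 Q17466 (allL N17466 (tt N18908 (iv F231651)) (tt N15741 F225054) (tt N19511 (iv F234345)) (tt N15264 F225055) (tt N19491 (iv F234262)) (tt N15260 F225056) (tt N18796 (iv F231191)) (tt N15248 (iv D50236)) (tt N19075 (iv F232458)) (tt N19516 D52286))
theorem Q17468 : ∀ i, i < 17468 → P i := stepQ 17467 Q17467 (allL N17467 (tt N18912 (iv F231672)) (tt N15742 F225057) (tt N19512 (iv F234348)) (tt N15265 F225058) (tt N19492 (iv F234264)) (tt N15261 F225059) (tt N15249 F225060) (tt N19516 (iv F234361)) (tt N19517 D52287) (tt N15248 (iv D50237)))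
theorem Q17469 : ∀ i, i < 17469 → P i := stepQ 17468 Q17468 (allL N17468 (tt N19403 (iv F233897)) (tt N15743 F225061) (tt N19513 (iv F234352)) (tt N19366 (iv F233748)) (tt N19493 (iv F234267)) (tt N15250 F225062) (tt N19517 (iv F234364)) (tt N19503 (iv F234311)) (tt N15249 (iv D50238)) (tt N19460 (iv F234167)))
theorem Q17470 : ∀ i, i < 17470 → P i := stepQ 17469 Q17469 (allL N17469 (tt N15254 F225063) (tt N15699 F225064) (tt N15744 F225065) (tt N17469 F225066) (tt N15252 F225067) (tt N15696 F225068) (tt N19505 (iv F234324)) (tt N17469 F225069) (tt N19518 D52288) (tt N15251 (iv D50239)))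
theorem Q17471 : ∀ i, i < 17471 → P i := stepQ 17470 Q17470 (allL N17470 (tt N15255 F225070) (tt N19121 (iv F232636)) (tt N15745 F225071) (tt N18447 (iv F229360)) (tt N19518 (iv F234368)) (tt N18437 (iv F229307)) (tt N19506 (iv F234327)) (tt N17470 F225072) (tt N15252 (iv D50240)) (tt N19188 (iv F232869)))
theorem Q17472 : ∀ i, i < 17472 → P i := stepQ 17471 Q17471 (allL N17471 (tt N15687 F225073) (tt N15256 F225074) (tt N15746 F225075) (tt N17471 F225076) (tt N15686 F225077) (tt N19507 (iv F234332)) (tt N15253 (iv D50241)) (tt N19519 D52289) (tt N15732 F225078) (tt N19520 D52290))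
theorem Q17473 : ∀ i, i < 17473 → P i := stepQ 17472 Q17472 (allL N17472 (tt N15696 F225079) (tt N15257 F225080) (tt N15747 F225081) (tt N17472 F225082) (tt N15695 F225083) (tt N15254 F225084) (tt N19520 (iv F234384)) (tt N17472 F225085) (tt N19521 D52291) (tt N15253 (iv D50242)))
theorem Q17474 : ∀ i, i < 17474 → P i := stepQ 17473 Q17473 (allL N17473 (tt N19518 (iv F234365)) (tt N15258 F225086) (tt N15748 F225087) (tt N19522 D52292) (tt N15255 F225088) (tt N19521 (iv F234389)) (tt N19509 (iv F234341)) (tt N17473 F225089) (tt N15254 (iv D50243)) (tt N19461 (iv F234174)))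
theorem Q17475 : ∀ i, i < 17475 → P i := stepQ 17474 Q17474 (allL N17474 (tt N18447 (iv F229359)) (tt N15259 F225090) (tt N18355 (iv F228891)) (tt N15255 (iv D50244)) (tt N19197 (iv F232900)) (tt N18439 (iv F229319)) (tt N19510 (iv F234343)) (tt N17474 F225091) (tt N15288 F225092) (tt N19462 (iv F234178)))
theorem Q17476 : ∀ i, i < 17476 → P i := stepQ 17475 Q17475 (allL N17475 (tt N18913 (iv F231677)) (tt N19519 (iv F234373)) (tt N15260 F225093) (tt N17475 F225094) (tt N18440 (iv F229326)) (tt N19511 (iv F234347)) (tt N17475 F225095) (tt N15256 (iv D50245)) (tt N19343 (iv F233634)) (tt N19523 D52293))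
theorem Q17477 : ∀ i, i < 17477 → P i := stepQ 17476 Q17476 (allL N17476 (tt N18915 (iv F231689)) (tt N19520 (iv F234380)) (tt N15261 F225096) (tt N17476 F225097) (tt N18441 (iv F229333)) (tt N19512 (iv F234350)) (tt N15257 F225098) (tt N19523 (iv F234398)) (tt N19524 D52294) (tt N15256 (iv D50246)))
theorem Q17478 : ∀ i, i < 17478 → P i := stepQ 17477 Q17477 (allL N17477 (tt N18917 (iv F231700)) (tt N19521 (iv F234386)) (tt N15262 F225099) (tt N19525 D52295) (tt N18442 (iv F229339)) (tt N15258 F225100) (tt N19524 (iv F234400)) (tt N17477 F225101) (tt N15257 (iv D50247)) (tt N19349 (iv F233666)))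
theorem Q17479 : ∀ i, i < 17479 → P i := stepQ 17478 Q17478 (allL N17478 (tt N19405 (iv F233905)) (tt N19522 (iv F234392)) (tt N18950 (iv F231863)) (tt N15258 (iv D50248)) (tt N19126 (iv F232660)) (tt N19525 (iv F234401)) (tt N19514 (iv F234354)) (tt N17478 F225102) (tt N17478 F225103) (tt N18981 (iv F232012)))
theorem Q17480 : ∀ i, i < 17480 → P i := stepQ 17479 Q17479 (allL N17479 (tt N19406 (iv F233909)) (tt N19197 F232904) (tt N19122 F232647) (tt N19126 (iv F232659)) (tt N15259 (iv D50249)) (tt N19198 (iv F232905)) (tt N19515 (iv F234356)) (tt N17479 F225104) (tt N15289 F225105) (tt N19193 (iv F232887)))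
theorem Q17481 : ∀ i, i < 17481 → P i := stepQ 17480 Q17480 (allL N17480 (tt N18914 (iv F231684)) (tt N15755 F225106) (tt N19523 (iv F234395)) (tt N15266 F225107) (tt N18444 (iv F229349)) (tt N19516 (iv F234360)) (tt N17480 F225108) (tt N15261 F225109) (tt N19526 D52296) (tt N15260 (iv D50250)))
theorem Q17482 : ∀ i, i < 17482 → P i := stepQ 17481 Q17481 (allL N17481 (tt N18916 (iv F231695)) (tt N15756 F225110) (tt N19524 (iv F234399)) (tt N18317 (iv F228668)) (tt N18445 (iv F229353)) (tt N19517 (iv F234363)) (tt N15262 F225111) (tt N19526 (iv F234406)) (tt N15261 (iv D50251)) (tt N19464 (iv F234187)))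
theorem Q17483 : ∀ i, i < 17483 → P i := stepQ 17482 Q17482 (allL N17482 (tt N18909 (iv F231656)) (tt N15759 F225112) (tt N17482 F225113) (tt N19516 (iv F234359)) (tt N18802 (iv F231219)) (tt N15266 F225114) (tt N18797 (iv F231198)) (tt N15265 F225115) (tt N18308 (iv F228618)) (tt N15264 (iv D50252)))
theorem Q17484 : ∀ i, i < 17484 → P i := stepQ 17483 Q17483 (allL N17483 (tt N19408 (iv F233920)) (tt N19228 (iv F233048)) (tt N15268 F225116) (tt N19466 (iv F234191)) (tt N18277 (iv F228400)) (tt N17483 F225117) (tt N15271 F225118) (tt N18282 (iv F228435)) (tt N19527 D52297) (tt N15267 (iv D50253)))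
theorem Q17485 : ∀ i, i < 17485 → P i := stepQ 17484 Q17484 (allL N17484 (tt N19409 (iv F233926)) (tt N15290 F225119) (tt N19527 (iv F234407)) (tt N15280 F225120) (tt N18278 (iv F228407)) (tt N17484 F225121) (tt N15273 F225122) (tt N18284 (iv F228447)) (tt N15268 (iv D50254)) (tt N17484 F225123))
theorem Q17486 : ∀ i, i < 17486 → P i := stepQ 17485 Q17485 (allL N17485 (tt N19245 (iv F233153)) (tt N15271 F225124) (tt N15291 F225125) (tt N19471 (iv F234207)) (tt N19235 (iv F233092)) (tt N15282 F225126) (tt N19228 (iv F233051)) (tt N15276 F225127) (tt N19528 D52298) (tt N15269 (iv D50255)))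
theorem Q17487 : ∀ i, i < 17487 → P i := stepQ 17486 Q17486 (allL N17486 (tt N19411 (iv F233938)) (tt N19014 (iv F232158)) (tt N18245 (iv F228223)) (tt N15270 (iv D50256)) (tt N19472 (iv F234210)) (tt N17486 F225128) (tt N18247 (iv F228239)) (tt N15277 F225129) (tt N19529 D52299) (tt N19530 D52300))
theorem Q17488 : ∀ i, i < 17488 → P i := stepQ 17487 Q17487 (allL N17487 (tt N19412 (iv F233943)) (tt N19235 (iv F233090)) (tt N15272 F225130) (tt N19530 (iv F234419)) (tt N15271 F225131) (tt N17487 F225132) (tt N18277 (iv F228402)) (tt N15278 F225133) (tt N19531 D52301) (tt N15270 (iv D50257)))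
theorem Q17489 : ∀ i, i < 17489 → P i := stepQ 17488 Q17488 (allL N17488 (tt N19413 (iv F233949)) (tt N19528 (iv F234411)) (tt N15273 F225134) (tt N19532 D52302) (tt N19531 (iv F234423)) (tt N15283 F225135) (tt N19527 (iv F234409)) (tt N15279 F225136) (tt N15271 (iv D50258)) (tt N17488 F225137))
theorem Q17490 : ∀ i, i < 17490 → P i := stepQ 17489 Q17489 (allL N17489 (tt N19414 (iv F233954)) (tt N15294 F225138) (tt N19531 (iv F234422)) (tt N18284 (iv F228443)) (tt N15273 F225139) (tt N17489 F225140) (tt N18278 (iv F228409)) (tt N15280 F225141) (tt N15272 (iv D50259)) (tt N17489 F225142))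
theorem Q17491 : ∀ i, i < 17491 → P i := stepQ 17490 Q17490 (allL N17490 (tt N15276 F225143) (tt N19415 (iv F233963)) (tt N15295 F225144) (tt N19479 (iv F234234)) (tt N19239 (iv F233121)) (tt N15284 F225145) (tt N18464 (iv F229452)) (tt N19245 (iv F233158)) (tt N19533 D52303) (tt N15274 (iv D50260)))
theorem Q17492 : ∀ i, i < 17492 → P i := stepQ 17491 Q17491 (allL N17491 (tt N19077 (iv F232466)) (tt N15277 F225146) (tt N19012 (iv F232145)) (tt N15275 (iv D50261)) (tt N19480 (iv F234237)) (tt N17491 F225147) (tt N18465 (iv F229456)) (tt N19014 (iv F232162)) (tt N19534 D52304) (tt N19535 D52305))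
theorem Q17493 : ∀ i, i < 17493 → P i := stepQ 17492 Q17492 (allL N17492 (tt N19239 (iv F233119)) (tt N15278 F225148) (tt N15296 F225149) (tt N19535 (iv F234438)) (tt N15276 F225150) (tt N17492 F225151) (tt N18466 (iv F229462)) (tt N19235 (iv F233095)) (tt N19536 D52306) (tt N15275 (iv D50262)))
theorem Q17494 : ∀ i, i < 17494 → P i := stepQ 17493 Q17493 (allL N17493 (tt N19533 (iv F234430)) (tt N15279 F225152) (tt N15297 F225153) (tt N19537 D52307) (tt N19536 (iv F234442)) (tt N15285 F225154) (tt N18467 (iv F229467)) (tt N19528 (iv F234414)) (tt N15276 (iv D50263)) (tt N17493 F225155))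
theorem Q17495 : ∀ i, i < 17495 → P i := stepQ 17494 Q17494 (allL N17494 (tt N18368 (iv F228972)) (tt N19534 (iv F234434)) (tt N18323 F228710) (tt N17494 F225156) (tt N19485 (iv F234249)) (tt N17494 F225157) (tt N18468 (iv F229473)) (tt N19529 (iv F234418)) (tt N15277 (iv D50264)) (tt N19538 D52308))
theorem Q17496 : ∀ i, i < 17496 → P i := stepQ 17495 Q17495 (allL N17495 (tt N19419 (iv F233980)) (tt N19535 (iv F234437)) (tt N19324 (iv F233535)) (tt N15278 F225158) (tt N19486 (iv F234251)) (tt N17495 F225159) (tt N18469 (iv F229479)) (tt N19530 (iv F234421)) (tt N19539 D52309) (tt N15277 (iv D50265)))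
theorem Q17497 : ∀ i, i < 17497 → P i := stepQ 17496 Q17496 (allL N17496 (tt N19420 (iv F233985)) (tt N19536 (iv F234440)) (tt N15280 F225160) (tt N19540 D52310) (tt N15279 F225161) (tt N17496 F225162) (tt N18470 (iv F229485)) (tt N19531 (iv F234425)) (tt N15278 (iv D50266)) (tt N17496 F225163))
theorem Q17498 : ∀ i, i < 17498 → P i := stepQ 17497 Q17497 (allL N17497 (tt N19421 (iv F233991)) (tt N19537 (iv F234445)) (tt N19353 (iv F233680)) (tt N15279 (iv D50267)) (tt N19541 D52311) (tt N15286 F225164) (tt N18471 (iv F229489)) (tt N19532 (iv F234428)) (tt N19490 (iv F234260)) (tt N17497 F225165))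
theorem Q17499 : ∀ i, i < 17499 → P i := stepQ 17498 Q17498 (allL N17498 (tt N15282 F225166) (tt N19422 (iv F233996)) (tt N15301 F225167) (tt N19496 (iv F234279)) (tt N17498 F225168) (tt N19245 (iv F233156)) (tt N17498 F225169) (tt N15284 F225170) (tt N19542 D52312) (tt N15281 (iv D50268)))
theorem Q17500 : ∀ i, i < 17500 → P i := stepQ 17499 Q17499 (allL N17499 (tt N19542 (iv F234454)) (tt N15283 F225171) (tt N15302 F225172) (tt N19543 D52313) (tt N17499 F225173) (tt N19528 (iv F234413)) (tt N17499 F225174) (tt N15285 F225175) (tt N15282 (iv D50269)) (tt N17499 F225176))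
theorem Q17501 : ∀ i, i < 17501 → P i := stepQ 17500 Q17500 (allL N17500 (tt N19424 (iv F234007)) (tt N19543 (iv F234460)) (tt N19356 (iv F233696)) (tt N15283 (iv D50270)) (tt N19544 D52314) (tt N19532 (iv F234427)) (tt N17500 F225177) (tt N15286 F225178) (tt N19502 (iv F234308)) (tt N17500 F225179))
theorem Q17502 : ∀ i, i < 17502 → P i := stepQ 17501 Q17501 (allL N17501 (tt N15285 F225180) (tt N19425 (iv F234013)) (tt N15303 F225181) (tt N18455 (iv F229399)) (tt N17501 F225182) (tt N19533 (iv F234432)) (tt N15287 F225183) (tt N19542 (iv F234458)) (tt N15284 (iv D50271)) (tt N17501 F225184))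
theorem Q17503 : ∀ i, i < 17503 → P i := stepQ 17502 Q17502 (allL N17502 (tt N18455 (iv F229398)) (tt N15286 F225185) (tt N18359 (iv F228915)) (tt N15285 (iv D50272)) (tt N19209 (iv F232944)) (tt N19537 (iv F234446)) (tt N15288 F225186) (tt N19543 (iv F234463)) (tt N19510 (iv F234344)) (tt N17502 F225187))
theorem Q17504 : ∀ i, i < 17504 → P i := stepQ 17503 Q17503 (allL N17503 (tt N19427 (iv F234021)) (tt N19209 F232947) (tt N19359 (iv F233710)) (tt N17503 F225188) (tt N15286 (iv D50273)) (tt N19545 D52315) (tt N15289 F225189) (tt N19544 (iv F234467)) (tt N19515 (iv F234357)) (tt N17503 F225190))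
theorem Q17505 : ∀ i, i < 17505 → P i := stepQ 17504 Q17504 (allL N17504 (tt N19247 (iv F233163)) (tt N15293 F225191) (tt N19528 (iv F234412)) (tt N15521 F225192) (tt N19236 (iv F233099)) (tt N15302 F225193) (tt N18896 (iv F231579)) (tt N15297 F225194) (tt N15291 (iv D50274)) (tt N17504 F225195))
theorem Q17506 : ∀ i, i < 17506 → P i := stepQ 17505 Q17505 (allL N17505 (tt N17505 F225196) (tt N19236 (iv F233097)) (tt N15294 F225197) (tt N15424 F225198) (tt N15293 F225199) (tt N17505 F225200) (tt N18291 (iv F228495)) (tt N15299 F225201) (tt N15292 (iv D50275)) (tt N17505 F225202))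
theorem Q17507 : ∀ i, i < 17507 → P i := stepQ 17506 Q17506 (allL N17506 (tt N15297 F225203) (tt N17506 F225204) (tt N19533 (iv F234431)) (tt N18092 (iv F227208)) (tt N19240 (iv F233126)) (tt N15303 F225205) (tt N18484 (iv F229563)) (tt N19247 (iv F233169)) (tt N15295 (iv D50276)) (tt N17506 F225206))
theorem Q17508 : ∀ i, i < 17508 → P i := stepQ 17507 Q17507 (allL N17507 (tt N19240 (iv F233124)) (tt N15299 F225207) (tt N19536 (iv F234441)) (tt N18903 (iv F231615)) (tt N15297 F225208) (tt N17507 F225209) (tt N18485 (iv F229569)) (tt N19236 (iv F233102)) (tt N15296 (iv D50277)) (tt N17507 F225210))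
theorem Q17509 : ∀ i, i < 17509 → P i := stepQ 17508 Q17508 (allL N17508 (tt N18092 (iv F227205)) (tt N15300 F225211) (tt N18358 (iv F228909)) (tt N15297 (iv D50278)) (tt N15514 (iv F225216)) (tt N15304 F225212) (tt N18486 (iv F229575)) (tt N15521 F225213) (tt N15513 F225214) (tt N17508 F225215))
theorem Q17510 : ∀ i, i < 17510 → P i := stepQ 17509 Q17509 (allL N17509 (tt N15302 F225217) (tt N17509 F225218) (tt N19542 (iv F234455)) (tt N15832 F225219) (tt N17509 F225220) (tt N19247 (iv F233167)) (tt N17509 F225221) (tt N15303 F225222) (tt N15301 (iv D50279)) (tt N17509 F225223))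
theorem Q17511 : ∀ i, i < 17511 → P i := stepQ 17510 Q17510 (allL N17510 (tt N15315 F225224) (tt N15327 F225225) (tt N18581 (iv F230147)) (tt N15306 F225226) (tt N15316 F225227) (tt N18504 (iv F229717)) (tt N15319 F225228) (tt N15371 F225229) (tt N19546 D52316) (tt N15305 (iv D50280)))
theorem Q17512 : ∀ i, i < 17512 → P i := stepQ 17511 Q17511 (allL N17511 (tt N15316 F225230) (tt N15323 F225231) (tt N18580 (iv F230139)) (tt N15308 F225232) (tt N15315 F225233) (tt N18533 (iv F229894)) (tt N15310 F225234) (tt N15396 F225235) (tt N19547 D52317) (tt N15307 (iv D50281)))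
theorem Q17513 : ∀ i, i < 17513 → P i := stepQ 17512 Q17512 (allL N17512 (tt N15318 F225236) (tt N18570 (iv F230097)) (tt N15310 F225237) (tt N15312 F225238) (tt N18569 (iv F230093)) (tt N18510 (iv F229760)) (tt N18580 (iv F230143)) (tt N15379 F225239) (tt N19548 D52318) (tt N15309 (iv D50282)))
theorem Q17514 : ∀ i, i < 17514 → P i := stepQ 17513 Q17513 (allL N17513 (tt N15320 F225240) (tt N19265 (iv F233271)) (tt N19548 (iv F234486)) (tt N15329 F225241) (tt N19264 (iv F233266)) (tt N18512 (iv F229773)) (tt N19547 (iv F234482)) (tt N15380 F225242) (tt N15310 (iv D50283)) (tt N19546 (iv F234477)))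
theorem Q17515 : ∀ i, i < 17515 → P i := stepQ 17514 Q17514 (allL N17514 (tt N18560 (iv F230038)) (tt N15312 F225243) (tt N17514 F225244) (tt N18570 (iv F230099)) (tt N17514 F225245) (tt N18116 (iv F227387)) (tt N18557 (iv F230026)) (tt N15388 F225246) (tt N19549 D52319) (tt N15311 (iv D50284)))
theorem Q17516 : ∀ i, i < 17516 → P i := stepQ 17515 Q17515 (allL N17515 (tt N15321 F225247) (tt N19549 (iv F234489)) (tt N15313 F225248) (tt N19550 D52320) (tt N17515 F225249) (tt N18514 (iv F229787)) (tt N18593 (iv F230197)) (tt N15389 F225250) (tt N15312 (iv D50285)) (tt N17515 F225251))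
theorem Q17517 : ∀ i, i < 17517 → P i := stepQ 17516 Q17516 (allL N17516 (tt N18581 (iv F230145)) (tt N18566 (iv F230077)) (tt N15315 F225252) (tt N17516 F225253) (tt N18580 (iv F230141)) (tt N18517 (iv F229806)) (tt N18569 (iv F230095)) (tt N15395 F225254) (tt N19551 D52321) (tt N15314 (iv D50286)))
theorem Q17518 : ∀ i, i < 17518 → P i := stepQ 17517 Q17517 (allL N17517 (tt N19546 (iv F234471)) (tt N19263 (iv F233257)) (tt N19551 (iv F234499)) (tt N15336 F225255) (tt N19547 (iv F234481)) (tt N18520 (iv F229820)) (tt N19264 (iv F233267)) (tt N15397 F225256) (tt N15315 (iv D50287)) (tt N15320 F225257))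
theorem Q17519 : ∀ i, i < 17519 → P i := stepQ 17518 Q17518 (allL N17518 (tt N19547 (iv F234478)) (tt N18126 (iv F227462)) (tt N18582 (iv F230153)) (tt N15343 F225258) (tt N19546 (iv F234474)) (tt N19269 (iv F233296)) (tt N15320 F225259) (tt N18211 (iv F228027)) (tt N15316 (iv D50288)) (tt N19264 (iv F233269)))
theorem Q17520 : ∀ i, i < 17520 → P i := stepQ 17519 Q17519 (allL N17519 (tt N18569 (iv F230089)) (tt N18577 (iv F230124)) (tt N15319 F225260) (tt N17519 F225261) (tt N15318 F225262) (tt N18536 (iv F229913)) (tt N18581 (iv F230150)) (tt N15412 F225263) (tt N19552 D52322) (tt N15317 (iv D50289)))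
theorem Q17521 : ∀ i, i < 17521 → P i := stepQ 17520 Q17520 (allL N17520 (tt N19548 (iv F234485)) (tt N18578 (iv F230130)) (tt N15320 F225264) (tt N19553 D52323) (tt N19552 (iv F234503)) (tt N18525 (iv F229847)) (tt N18582 (iv F230155)) (tt N15413 F225265) (tt N15318 (iv D50290)) (tt N19551 (iv F234501)))
theorem Q17522 : ∀ i, i < 17522 → P i := stepQ 17521 Q17521 (allL N17521 (tt N19264 (iv F233263)) (tt N15329 F225266) (tt N19552 (iv F234502)) (tt N19265 (iv F233272)) (tt N15320 F225267) (tt N18537 (iv F229916)) (tt N19546 (iv F234475)) (tt N15414 F225268) (tt N15319 (iv D50291)) (tt N19547 (iv F234484)))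
theorem Q17523 : ∀ i, i < 17523 → P i := stepQ 17522 Q17522 (allL N17522 (tt N19550 (iv F234495)) (tt N18592 (iv F230189)) (tt N15362 F225269) (tt N15321 (iv D50292)) (tt N19554 D52324) (tt N18531 (iv F229878)) (tt N18594 (iv F230203)) (tt N15423 F225270) (tt N19553 (iv F234507)) (tt N17522 F225271))
theorem Q17524 : ∀ i, i < 17524 → P i := stepQ 17523 Q17523 (allL N17523 (tt N15335 F225272) (tt N18567 (iv F230082)) (tt N15323 F225273) (tt N17523 F225274) (tt N18122 (iv F227437)) (tt N18544 (iv F229963)) (tt N18123 (iv F227447)) (tt N15433 F225275) (tt N19555 D52325) (tt N15322 (iv D50293)))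
theorem Q17525 : ∀ i, i < 17525 → P i := stepQ 17524 Q17524 (allL N17524 (tt N15336 F225276) (tt N19547 (iv F234479)) (tt N19555 (iv F234513)) (tt N19546 (iv F234473)) (tt N19263 (iv F233259)) (tt N18546 (iv F229970)) (tt N19265 (iv F233274)) (tt N15434 F225277) (tt N15323 (iv D50294)) (tt N15329 F225278))
theorem Q17526 : ∀ i, i < 17526 → P i := stepQ 17525 Q17525 (allL N17525 (tt N15340 F225279) (tt N18504 (iv F229715)) (tt N18128 (iv F227480)) (tt N15325 F225280) (tt N19270 (iv F233301)) (tt N15327 F225281) (tt N18547 (iv F229976)) (tt N18213 (iv F228042)) (tt N19556 D52326) (tt N15324 (iv D50295)))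
theorem Q17527 : ∀ i, i < 17527 → P i := stepQ 17526 Q17526 (allL N17526 (tt N15343 F225282) (tt N19546 (iv F234472)) (tt N18129 (iv F227487)) (tt N19547 (iv F234480)) (tt N18126 (iv F227465)) (tt N19556 (iv F234517)) (tt N15329 F225283) (tt N18214 (iv F228049)) (tt N15327 (iv D50296)) (tt N19265 (iv F233276)))
theorem Q17528 : ∀ i, i < 17528 → P i := stepQ 17527 Q17527 (allL N17527 (tt N15349 F225284) (tt N18579 (iv F230134)) (tt N15329 F225285) (tt N19557 D52327) (tt N18125 (iv F227458)) (tt N18555 (iv F230016)) (tt N18129 (iv F227489)) (tt N15446 F225286) (tt N15328 (iv D50297)) (tt N19555 (iv F234515)))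
theorem Q17529 : ∀ i, i < 17529 → P i := stepQ 17528 Q17528 (allL N17528 (tt N15357 F225287) (tt N17528 F225288) (tt N18131 (iv F227501)) (tt N15367 F225289) (tt N18079 (iv F227096)) (tt N15332 F225290) (tt N18532 (iv F229887)) (tt N15548 F225291) (tt N15331 (iv D50298)) (tt N17528 F225292))
theorem Q17530 : ∀ i, i < 17530 → P i := stepQ 17529 Q17529 (allL N17529 (tt N15362 F225293) (tt N18589 (iv F230177)) (tt N19550 (iv F234496)) (tt N15333 (iv D50299)) (tt N19558 D52328) (tt N18563 (iv F230062)) (tt N18132 (iv F227509)) (tt N15457 F225294) (tt N19557 (iv F234520)) (tt N17529 F225295))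
theorem Q17531 : ∀ i, i < 17531 → P i := stepQ 17530 Q17530 (allL N17530 (tt N18536 (iv F229910)) (tt N15335 F225296) (tt N18118 (iv F227401)) (tt N17530 F225297) (tt N18521 (iv F229826)) (tt N18569 (iv F230094)) (tt N19268 (iv F233291)) (tt N15465 F225298) (tt N19559 D52329) (tt N15334 (iv D50300)))
theorem Q17532 : ∀ i, i < 17532 → P i := stepQ 17531 Q17531 (allL N17531 (tt N19555 (iv F234512)) (tt N19559 (iv F234525)) (tt N15336 F225299) (tt N19560 D52330) (tt N19267 (iv F233283)) (tt N18571 (iv F230103)) (tt N19271 (iv F233306)) (tt N15468 F225300) (tt N15335 (iv D50301)) (tt N15349 F225301))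
theorem Q17533 : ∀ i, i < 17533 → P i := stepQ 17532 Q17532 (allL N17532 (tt N18128 (iv F227478)) (tt N18511 (iv F229764)) (tt N15340 F225302) (tt N15355 F225303) (tt N18499 (iv F229679)) (tt N15342 F225304) (tt N18524 (iv F229844)) (tt N18182 (iv F227839)) (tt N19561 D52331) (tt N15338 (iv D50302)))
theorem Q17534 : ∀ i, i < 17534 → P i := stepQ 17533 Q17533 (allL N17533 (tt N19270 (iv F233298)) (tt N18572 (iv F230106)) (tt N18499 (iv F229677)) (tt N17533 F225305) (tt N15340 F225306) (tt N18123 (iv F227446)) (tt N18574 (iv F230116)) (tt N18197 (iv F227943)) (tt N19562 D52332) (tt N15339 (iv D50303)))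
theorem Q17535 : ∀ i, i < 17535 → P i := stepQ 17534 Q17534 (allL N17534 (tt N19556 (iv F234516)) (tt N19266 (iv F233277)) (tt N19561 (iv F234531)) (tt N19269 (iv F233295)) (tt N19562 (iv F234533)) (tt N15343 F225307) (tt N18575 (iv F230118)) (tt N19291 (iv F233409)) (tt N15340 (iv D50304)) (tt N19272 (iv F233312)))
theorem Q17536 : ∀ i, i < 17536 → P i := stepQ 17535 Q17535 (allL N17535 (tt N18526 (iv F229849)) (tt N15342 F225308) (tt N18521 (iv F229824)) (tt N15358 F225309) (tt N18118 (iv F227403)) (tt N18511 (iv F229768)) (tt N15346 F225310) (tt N18175 (iv F227790)) (tt N19563 D52333) (tt N15341 (iv D50305)))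
theorem Q17537 : ∀ i, i < 17537 → P i := stepQ 17536 Q17536 (allL N17536 (tt N18129 (iv F227485)) (tt N19563 (iv F234534)) (tt N15343 F225311) (tt N19564 D52334) (tt N18119 (iv F227410)) (tt N19561 (iv F234532)) (tt N15349 F225312) (tt N18183 (iv F227844)) (tt N15342 (iv D50306)) (tt N19271 (iv F233308)))
theorem Q17538 : ∀ i, i < 17538 → P i := stepQ 17537 Q17537 (allL N17537 (tt N15346 F225313) (tt N18551 (iv F229998)) (tt N18533 (iv F229892)) (tt N15360 F225314) (tt N18534 (iv F229899)) (tt N18580 (iv F230142)) (tt N18526 (iv F229854)) (tt N15495 F225315) (tt N19565 D52335) (tt N15344 (iv D50307)))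
theorem Q17539 : ∀ i, i < 17539 → P i := stepQ 17538 Q17538 (allL N17538 (tt N18534 (iv F229896)) (tt N15348 F225316) (tt N19268 (iv F233288)) (tt N15811 F225317) (tt N15346 F225318) (tt N18515 (iv F229793)) (tt N18118 (iv F227405)) (tt N15497 F225319) (tt N19566 D52336) (tt N15345 (iv D50308)))
theorem Q17540 : ∀ i, i < 17540 → P i := stepQ 17539 Q17539 (allL N17539 (tt N19565 (iv F234538)) (tt N15349 F225320) (tt N19269 (iv F233294)) (tt N19567 D52337) (tt N19566 (iv F234541)) (tt N18582 (iv F230154)) (tt N19563 (iv F234535)) (tt N15498 F225321) (tt N15346 (iv D50309)) (tt N19559 (iv F234527)))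
theorem Q17541 : ∀ i, i < 17541 → P i := stepQ 17540 Q17540 (allL N17540 (tt N18113 (iv F227365)) (tt N18515 (iv F229791)) (tt N15351 F225322) (tt N15812 F225323) (tt N18583 (iv F230159)) (tt N15348 F225324) (tt N18109 (iv F227340)) (tt N15500 F225325) (tt N19568 D52338) (tt N15347 (iv D50310)))
theorem Q17542 : ∀ i, i < 17542 → P i := stepQ 17541 Q17541 (allL N17541 (tt N18125 (iv F227455)) (tt N19566 (iv F234540)) (tt N15352 F225326) (tt N19569 D52339) (tt N15349 F225327) (tt N19568 (iv F234547)) (tt N18119 (iv F227412)) (tt N15501 F225328) (tt N15348 (iv D50311)) (tt N19267 (iv F233286)))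
theorem Q17543 : ∀ i, i < 17543 → P i := stepQ 17542 Q17542 (allL N17542 (tt N19557 (iv F234518)) (tt N19567 (iv F234543)) (tt N19553 (iv F234505)) (tt N15349 (iv D50312)) (tt N19570 D52340) (tt N18585 (iv F230165)) (tt N19564 (iv F234536)) (tt N15502 F225329) (tt N15362 F225330) (tt N19560 (iv F234530)))
theorem Q17544 : ∀ i, i < 17544 → P i := stepQ 17543 Q17543 (allL N17543 (tt N18111 (iv F227350)) (tt N18564 (iv F230065)) (tt N18109 (iv F227337)) (tt N15354 F225331) (tt N18586 (iv F230169)) (tt N18122 (iv F227438)) (tt N15351 F225332) (tt N15851 F225333) (tt N19569 (iv F234551)) (tt N15350 (iv D50313)))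
theorem Q17545 : ∀ i, i < 17545 → P i := stepQ 17544 Q17544 (allL N17544 (tt N18115 (iv F227378)) (tt N19272 (iv F233309)) (tt N19568 (iv F234546)) (tt N18119 (iv F227409)) (tt N18587 (iv F230172)) (tt N15352 F225334) (tt N19569 (iv F234549)) (tt N15505 F225335) (tt N15351 (iv D50314)) (tt N19266 (iv F233281)))
theorem Q17546 : ∀ i, i < 17546 → P i := stepQ 17545 Q17545 (allL N17545 (tt N18131 (iv F227499)) (tt N18513 (iv F229776)) (tt N15357 F225336) (tt N19571 D52341) (tt N18121 (iv F227428)) (tt N15359 F225337) (tt N18530 (iv F229874)) (tt N15549 F225338) (tt N15355 (iv D50315)) (tt N17545 F225339))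
theorem Q17547 : ∀ i, i < 17547 → P i := stepQ 17546 Q17546 (allL N17546 (tt N18079 (iv F227093)) (tt N15363 F225340) (tt N18121 (iv F227426)) (tt N15830 (iv F225345)) (tt N15357 F225341) (tt N15813 F225342) (tt N18495 (iv F229646)) (tt N15550 F225343) (tt N15356 (iv D50316)) (tt N17546 F225344))
theorem Q17548 : ∀ i, i < 17548 → P i := stepQ 17547 Q17547 (allL N17547 (tt N18528 (iv F229858)) (tt N15359 F225346) (tt N15366 F225347) (tt N19572 D52342) (tt N15814 F225348) (tt N18513 (iv F229779)) (tt N15361 F225349) (tt N18177 (iv F227803)) (tt N15358 (iv D50317)) (tt N17547 F225350))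
theorem Q17549 : ∀ i, i < 17549 → P i := stepQ 17548 Q17548 (allL N17548 (tt N18132 (iv F227507)) (tt N19572 (iv F234558)) (tt N18594 (iv F230201)) (tt N15359 (iv D50318)) (tt N18590 (iv F230181)) (tt N19571 (iv F234555)) (tt N15362 F225351) (tt N18185 (iv F227859)) (tt N19564 (iv F234537)) (tt N17548 F225352))
theorem Q17550 : ∀ i, i < 17550 → P i := stepQ 17549 Q17549 (allL N17549 (tt N15361 F225353) (tt N18558 (iv F230029)) (tt N15367 F225354) (tt N19573 D52343) (tt N15815 F225355) (tt N18593 (iv F230196)) (tt N18528 (iv F229863)) (tt N15527 F225356) (tt N15360 (iv D50319)) (tt N17549 F225357))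
theorem Q17551 : ∀ i, i < 17551 → P i := stepQ 17550 Q17550 (allL N17550 (tt N19573 (iv F234561)) (tt N15362 F225358) (tt N19571 (iv F234554)) (tt N15361 (iv D50320)) (tt N19574 D52344) (tt N18594 (iv F230202)) (tt N19572 (iv F234559)) (tt N15528 F225359) (tt N19567 (iv F234545)) (tt N17550 F225360))
theorem Q17552 : ∀ i, i < 17552 → P i := stepQ 17551 Q17551 (allL N17551 (tt N19558 (iv F234521)) (tt N19574 (iv F234564)) (tt N19554 (iv F234508)) (tt N15817 F225361) (tt N15362 (iv D50321)) (tt N19575 D52345) (tt N18590 (iv F230183)) (tt N15529 F225362) (tt N19570 (iv F234553)) (tt N17551 F225363))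
theorem Q17553 : ∀ i, i < 17553 → P i := stepQ 17552 Q17552 (allL N17552 (tt N15366 F225364) (tt N17552 F225365) (tt N18528 (iv F229860)) (tt N18532 (iv F229884)) (tt N15825 F225366) (tt N18492 (iv F229619)) (tt N15367 F225367) (tt N18600 (iv F230250)) (tt N15365 (iv D50322)) (tt N17552 F225368))
theorem Q17554 : ∀ i, i < 17554 → P i := stepQ 17553 Q17553 (allL N17553 (tt N15390 F225369) (tt N15436 F225370) (tt N18852 (iv F231407)) (tt N15368 (iv D50323)) (tt N19576 D52346) (tt N15369 F225371) (tt N18613 (iv F230334)) (tt N15406 F225372) (tt N15373 F225373) (tt N19577 D52347))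
theorem Q17555 : ∀ i, i < 17555 → P i := stepQ 17554 Q17554 (allL N17554 (tt N15391 F225374) (tt N15437 F225375) (tt N17554 F225376) (tt N19577 (iv F234579)) (tt N15601 F225377) (tt N15370 F225378) (tt N18614 (iv F230341)) (tt N15415 F225379) (tt N15429 F225380) (tt N15368 (iv D50324)))
theorem Q17556 : ∀ i, i < 17556 → P i := stepQ 17555 Q17555 (allL N17555 (tt N15393 F225381) (tt N15441 F225382) (tt N18853 (iv F231413)) (tt N15370 F225383) (tt N15403 F225384) (tt N19577 (iv F234580)) (tt N15371 F225385) (tt N15407 F225386) (tt N19578 D52348) (tt N15369 (iv D50325)))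
theorem Q17557 : ∀ i, i < 17557 → P i := stepQ 17556 Q17556 (allL N17556 (tt N15397 F225387) (tt N18214 (iv F228044)) (tt N18864 (iv F231448)) (tt N15434 F225388) (tt N18211 (iv F228024)) (tt N18622 (iv F230386)) (tt N19578 (iv F234586)) (tt N19546 (iv F234476)) (tt N15371 (iv D50326)) (tt N15380 F225389))
theorem Q17558 : ∀ i, i < 17558 → P i := stepQ 17557 Q17557 (allL N17557 (tt N15398 F225390) (tt N15428 F225391) (tt N18836 (iv F231342)) (tt N15372 (iv D50327)) (tt N19579 D52349) (tt N15375 F225392) (tt N18711 (iv F230801)) (tt N15373 F225393) (tt N15406 F225394) (tt N19580 D52350))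
theorem Q17559 : ∀ i, i < 17559 → P i := stepQ 17558 Q17558 (allL N17558 (tt N15399 F225395) (tt N15429 F225396) (tt N15381 F225397) (tt N19580 (iv F234597)) (tt N15554 F225398) (tt N15376 F225399) (tt N18712 (iv F230808)) (tt N15374 F225400) (tt N15437 F225401) (tt N15372 (iv D50328)))
theorem Q17560 : ∀ i, i < 17560 → P i := stepQ 17559 Q17559 (allL N17559 (tt N15400 F225402) (tt N18817 (iv F231278)) (tt N15373 (iv D50329)) (tt N15382 F225403) (tt N19581 D52351) (tt N15377 F225404) (tt N18626 (iv F230408)) (tt N18836 (iv F231346)) (tt N18852 (iv F231410)) (tt N19582 D52352))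
theorem Q17561 : ∀ i, i < 17561 → P i := stepQ 17560 Q17560 (allL N17560 (tt N15401 F225405) (tt N19283 (iv F233370)) (tt N19581 (iv F234601)) (tt N15555 F225406) (tt N15373 (iv D50330)) (tt N19280 (iv F233354)) (tt N18627 (iv F230412)) (tt N19579 (iv F234593)) (tt N19576 (iv F234576)) (tt N19583 D52353))
theorem Q17562 : ∀ i, i < 17562 → P i := stepQ 17561 Q17561 (allL N17561 (tt N15402 F225407) (tt N19286 (iv F233382)) (tt N19582 (iv F234603)) (tt N15374 F225408) (tt N19583 (iv F234608)) (tt N15378 F225409) (tt N18628 (iv F230416)) (tt N19580 (iv F234599)) (tt N19584 D52354) (tt N15373 (iv D50331)))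
theorem Q17563 : ∀ i, i < 17563 → P i := stepQ 17562 Q17562 (allL N17562 (tt N15403 F225410) (tt N15431 F225411) (tt N18851 (iv F231400)) (tt N15376 F225412) (tt N15393 F225413) (tt N19580 (iv F234598)) (tt N15396 F225414) (tt N15378 F225415) (tt N19585 D52355) (tt N15375 (iv D50332)))
theorem Q17564 : ∀ i, i < 17564 → P i := stepQ 17563 Q17563 (allL N17563 (tt N15405 F225416) (tt N18818 (iv F231282)) (tt N15378 F225417) (tt N15385 F225418) (tt N18816 (iv F231275)) (tt N19582 (iv F234605)) (tt N15379 F225419) (tt N18851 (iv F231404)) (tt N19586 D52356) (tt N15377 (iv D50333)))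
theorem Q17565 : ∀ i, i < 17565 → P i := stepQ 17564 Q17564 (allL N17564 (tt N15408 F225420) (tt N19287 (iv F233387)) (tt N19586 (iv F234620)) (tt N15443 F225421) (tt N19282 (iv F233365)) (tt N19584 (iv F234611)) (tt N15380 F225422) (tt N19585 (iv F234617)) (tt N15378 (iv D50334)) (tt N19578 (iv F234588)))
theorem Q17566 : ∀ i, i < 17566 → P i := stepQ 17565 Q17565 (allL N17565 (tt N15413 F225423) (tt N18824 (iv F231304)) (tt N15380 F225424) (tt N19587 D52357) (tt N18823 (iv F231301)) (tt N18635 (iv F230452)) (tt N19586 (iv F234621)) (tt N19548 (iv F234487)) (tt N15379 (iv D50335)) (tt N18864 (iv F231450)))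
theorem Q17567 : ∀ i, i < 17567 → P i := stepQ 17566 Q17566 (allL N17566 (tt N18781 (iv F231108)) (tt N15382 (iv D50336)) (tt N17566 F225425) (tt N18817 (iv F231280)) (tt N18271 (iv F228364)) (tt N15384 F225426) (tt N18160 (iv F227681)) (tt N18775 (iv F231080)) (tt N17566 F225427) (tt N19588 D52358))
theorem Q17568 : ∀ i, i < 17568 → P i := stepQ 17567 Q17567 (allL N17567 (tt N15417 F225428) (tt N19588 (iv F234625)) (tt N15383 F225429) (tt N19582 (iv F234604)) (tt N18982 (iv F232015)) (tt N15385 F225430) (tt N18641 (iv F230486)) (tt N18888 (iv F231541)) (tt N19589 D52359) (tt N15382 (iv D50337)))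
theorem Q17569 : ∀ i, i < 17569 → P i := stepQ 17568 Q17568 (allL N17568 (tt N15419 F225431) (tt N17568 F225432) (tt N19589 (iv F234629)) (tt N15452 F225433) (tt N19234 (iv F233085)) (tt N15386 F225434) (tt N18642 (iv F230493)) (tt N18902 (iv F231612)) (tt N15383 (iv D50338)) (tt N17568 F225435))
theorem Q17570 : ∀ i, i < 17570 → P i := stepQ 17569 Q17569 (allL N17569 (tt N18788 (iv F231147)) (tt N15385 F225436) (tt N17569 F225437) (tt N18818 (iv F231284)) (tt N17569 F225438) (tt N19588 (iv F234627)) (tt N15388 F225439) (tt N18790 (iv F231166)) (tt N19590 D52360) (tt N15384 (iv D50339)))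
theorem Q17571 : ∀ i, i < 17571 → P i := stepQ 17570 Q17570 (allL N17570 (tt N15420 F225440) (tt N19590 (iv F234633)) (tt N15386 F225441) (tt N19591 D52361) (tt N17570 F225442) (tt N19589 (iv F234630)) (tt N15389 F225443) (tt N18898 (iv F231590)) (tt N15385 (iv D50340)) (tt N17570 F225444))
theorem Q17572 : ∀ i, i < 17572 → P i := stepQ 17571 Q17571 (allL N17571 (tt N15388 F225445) (tt N15421 F225446) (tt N17571 F225447) (tt N18744 (iv F230961)) (tt N17571 F225448) (tt N15852 F225449) (tt N18788 (iv F231151)) (tt N18560 (iv F230044)) (tt N15866 (iv F225450)) (tt N15387 (iv D50341)))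
theorem Q17573 : ∀ i, i < 17573 → P i := stepQ 17572 Q17572 (allL N17572 (tt N15866 F225451) (tt N15389 F225452) (tt N17572 F225453) (tt N19592 D52362) (tt N17572 F225454) (tt N15836 F225455) (tt N19590 (iv F234636)) (tt N19549 (iv F234493)) (tt N15388 (iv D50342)) (tt N17572 F225456))
theorem Q17574 : ∀ i, i < 17574 → P i := stepQ 17573 Q17573 (allL N17573 (tt N15423 F225457) (tt N19592 (iv F234643)) (tt N15457 F225458) (tt N15389 (iv D50343)) (tt N19593 D52363) (tt N18644 (iv F230506)) (tt N19591 (iv F234640)) (tt N19550 (iv F234497)) (tt N19587 (iv F234624)) (tt N17573 F225459))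
theorem Q17575 : ∀ i, i < 17575 → P i := stepQ 17574 Q17574 (allL N17574 (tt N18852 (iv F231405)) (tt N18803 (iv F231224)) (tt N15390 (iv D50344)) (tt N17574 F225460) (tt N19594 D52364) (tt N15392 F225461) (tt N18649 (iv F230533)) (tt N18806 (iv F231238)) (tt N15400 F225462) (tt N19595 D52365))
theorem Q17576 : ∀ i, i < 17576 → P i := stepQ 17575 Q17575 (allL N17575 (tt N19576 (iv F234571)) (tt N19273 (iv F233314)) (tt N19594 (iv F234650)) (tt N19363 (iv F233733)) (tt N15390 (iv D50345)) (tt N19579 (iv F234592)) (tt N18650 (iv F230535)) (tt N19280 (iv F233355)) (tt N15401 F225463) (tt N19596 D52366))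
theorem Q17577 : ∀ i, i < 17577 → P i := stepQ 17576 Q17576 (allL N17576 (tt N19577 (iv F234577)) (tt N19274 (iv F233320)) (tt N19595 (iv F234652)) (tt N15391 F225464) (tt N19596 (iv F234655)) (tt N15393 F225465) (tt N18651 (iv F230539)) (tt N19281 (iv F233361)) (tt N19597 D52367) (tt N15390 (iv D50346)))
theorem Q17578 : ∀ i, i < 17578 → P i := stepQ 17577 Q17577 (allL N17577 (tt N18853 (iv F231411)) (tt N18812 (iv F231255)) (tt N15393 F225466) (tt N17577 F225467) (tt N18851 (iv F231402)) (tt N19595 (iv F234654)) (tt N15395 F225468) (tt N18816 (iv F231277)) (tt N19598 D52368) (tt N15392 (iv D50347)))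
theorem Q17579 : ∀ i, i < 17579 → P i := stepQ 17578 Q17578 (allL N17578 (tt N19578 (iv F234582)) (tt N19275 (iv F233325)) (tt N19598 (iv F234659)) (tt N15463 F225469) (tt N19585 (iv F234615)) (tt N19597 (iv F234657)) (tt N15397 F225470) (tt N19282 (iv F233367)) (tt N15393 (iv D50348)) (tt N15408 F225471))
theorem Q17580 : ∀ i, i < 17580 → P i := stepQ 17579 Q17579 (allL N17579 (tt N18770 (iv F231061)) (tt N15395 F225472) (tt N18565 (iv F230071)) (tt N17579 F225473) (tt N18769 (iv F231059)) (tt N18658 (iv F230563)) (tt N18812 (iv F231258)) (tt N18566 (iv F230081)) (tt N19599 D52369) (tt N15394 (iv D50349)))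
theorem Q17581 : ∀ i, i < 17581 → P i := stepQ 17580 Q17580 (allL N17580 (tt N18864 (iv F231446)) (tt N19599 (iv F234662)) (tt N15397 F225474) (tt N19600 D52370) (tt N18863 (iv F231443)) (tt N18660 (iv F230570)) (tt N19598 (iv F234660)) (tt N19551 (iv F234500)) (tt N15395 (iv D50350)) (tt N15413 F225475))
theorem Q17582 : ∀ i, i < 17582 → P i := stepQ 17581 Q17581 (allL N17581 (tt N18211 (iv F228020)) (tt N15434 F225476) (tt N18863 (iv F231442)) (tt N18214 (iv F228046)) (tt N15397 F225477) (tt N18715 (iv F230823)) (tt N19585 (iv F234616)) (tt N19547 (iv F234483)) (tt N15396 (iv D50351)) (tt N15414 F225478))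
theorem Q17583 : ∀ i, i < 17583 → P i := stepQ 17582 Q17582 (allL N17582 (tt N19579 (iv F234589)) (tt N18201 (iv F227962)) (tt N18837 (iv F231349)) (tt N15576 F225479) (tt N15398 (iv D50352)) (tt N19576 (iv F234574)) (tt N19298 (iv F233439)) (tt N15401 F225480) (tt N19280 (iv F233356)) (tt N19601 D52371))
theorem Q17584 : ∀ i, i < 17584 → P i := stepQ 17583 Q17583 (allL N17583 (tt N19580 (iv F234595)) (tt N18202 (iv F227970)) (tt N18838 (iv F231353)) (tt N15399 F225481) (tt N19601 (iv F234668)) (tt N15403 F225482) (tt N19299 (iv F233444)) (tt N15402 F225483) (tt N19602 D52372) (tt N15398 (iv D50353)))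
theorem Q17585 : ∀ i, i < 17585 → P i := stepQ 17584 Q17584 (allL N17584 (tt N19581 (iv F234600)) (tt N18831 (iv F231325)) (tt N15401 F225484) (tt N19603 D52373) (tt N15400 (iv D50354)) (tt N19604 D52374) (tt N18669 (iv F230611)) (tt N18837 (iv F231351)) (tt N19594 (iv F234651)) (tt N19605 D52375))
theorem Q17586 : ∀ i, i < 17586 → P i := stepQ 17585 Q17585 (allL N17585 (tt N19582 (iv F234602)) (tt N18832 (iv F231328)) (tt N15402 F225485) (tt N15417 F225486) (tt N19605 (iv F234678)) (tt N15405 F225487) (tt N18670 (iv F230615)) (tt N18838 (iv F231357)) (tt N19606 D52376) (tt N15400 (iv D50355)))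
theorem Q17587 : ∀ i, i < 17587 → P i := stepQ 17586 Q17586 (allL N17586 (tt N19280 (iv F233351)) (tt N15439 F225488) (tt N19604 (iv F234675)) (tt N15581 F225489) (tt N15406 F225490) (tt N15401 (iv D50356)) (tt N18719 (iv F230842)) (tt N19576 (iv F234575)) (tt N19579 (iv F234594)) (tt N19607 D52377))
theorem Q17588 : ∀ i, i < 17588 → P i := stepQ 17587 Q17587 (allL N17587 (tt N19583 (iv F234606)) (tt N19277 (iv F233338)) (tt N19605 (iv F234677)) (tt N15582 F225491) (tt N15402 F225492) (tt N19607 (iv F234684)) (tt N18672 (iv F230620)) (tt N19601 (iv F234669)) (tt N19608 D52378) (tt N15401 (iv D50357)))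
theorem Q17589 : ∀ i, i < 17589 → P i := stepQ 17588 Q17588 (allL N17588 (tt N19584 (iv F234609)) (tt N19278 (iv F233343)) (tt N19606 (iv F234679)) (tt N15481 F225493) (tt N19608 (iv F234685)) (tt N15408 F225494) (tt N18673 (iv F230623)) (tt N19602 (iv F234672)) (tt N15402 (iv D50358)) (tt N19597 (iv F234658)))
theorem Q17590 : ∀ i, i < 17590 → P i := stepQ 17589 Q17589 (allL N17589 (tt N19585 (iv F234612)) (tt N18207 (iv F227996)) (tt N18854 (iv F231419)) (tt N15484 F225495) (tt N19578 (iv F234585)) (tt N19602 (iv F234671)) (tt N18211 (iv F228026)) (tt N15408 F225496) (tt N15403 (iv D50359)) (tt N19282 (iv F233368)))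
theorem Q17591 : ∀ i, i < 17591 → P i := stepQ 17590 Q17590 (allL N17590 (tt N18806 F231240) (tt N18846 (iv F231377)) (tt N15406 F225497) (tt N17590 F225498) (tt N19604 (iv F234676)) (tt N15404 (iv D50360)) (tt N18718 (iv F230838)) (tt N18852 (iv F231409)) (tt N18836 (iv F231347)) (tt N19609 D52379))
theorem Q17592 : ∀ i, i < 17592 → P i := stepQ 17591 Q17591 (allL N17591 (tt N18816 (iv F231271)) (tt N18847 (iv F231381)) (tt N15407 F225499) (tt N17591 F225500) (tt N15405 F225501) (tt N19609 (iv F234688)) (tt N15412 F225502) (tt N18853 (iv F231417)) (tt N19610 D52380) (tt N15404 (iv D50361)))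
theorem Q17593 : ∀ i, i < 17593 → P i := stepQ 17592 Q17592 (allL N17592 (tt N19586 (iv F234619)) (tt N18848 (iv F231387)) (tt N15408 F225503) (tt N19611 D52381) (tt N19610 (iv F234690)) (tt N19606 (iv F234680)) (tt N15413 F225504) (tt N18854 (iv F231421)) (tt N15405 (iv D50362)) (tt N19598 (iv F234661)))
theorem Q17594 : ∀ i, i < 17594 → P i := stepQ 17593 Q17593 (allL N17593 (tt N19281 (iv F233357)) (tt N15440 F225505) (tt N19609 (iv F234686)) (tt N15415 F225506) (tt N19607 (iv F234683)) (tt N15407 F225507) (tt N18720 (iv F230846)) (tt N19577 (iv F234581)) (tt N19612 D52382) (tt N15406 (iv D50363)))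
theorem Q17595 : ∀ i, i < 17595 → P i := stepQ 17594 Q17594 (allL N17594 (tt N19282 (iv F233362)) (tt N15443 F225508) (tt N19610 (iv F234689)) (tt N19287 (iv F233388)) (tt N15408 F225509) (tt N19612 (iv F234696)) (tt N15414 F225510) (tt N19578 (iv F234587)) (tt N15407 (iv D50364)) (tt N19585 (iv F234618)))
theorem Q17596 : ∀ i, i < 17596 → P i := stepQ 17595 Q17595 (allL N17595 (tt N15411 F225511) (tt N18744 (iv F230959)) (tt N18548 (iv F229979)) (tt N15421 F225512) (tt N18743 (iv F230956)) (tt N18680 (iv F230644)) (tt N18758 (iv F231014)) (tt N18549 (iv F229988)) (tt N19613 D52383) (tt N15409 (iv D50365)))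
theorem Q17597 : ∀ i, i < 17597 → P i := stepQ 17596 Q17596 (allL N17596 (tt N18743 (iv F230952)) (tt N15412 F225513) (tt N15445 F225514) (tt N17596 F225515) (tt N15411 F225516) (tt N18725 (iv F230870)) (tt N18847 (iv F231385)) (tt N18577 (iv F230129)) (tt N19614 D52384) (tt N15410 (iv D50366)))
theorem Q17598 : ∀ i, i < 17598 → P i := stepQ 17597 Q17597 (allL N17597 (tt N19613 (iv F234697)) (tt N15413 F225517) (tt N18576 (iv F230120)) (tt N19615 D52385) (tt N19614 (iv F234700)) (tt N18682 (iv F230650)) (tt N18848 (iv F231389)) (tt N18578 (iv F230133)) (tt N15411 (iv D50367)) (tt N19599 (iv F234663)))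
theorem Q17599 : ∀ i, i < 17599 → P i := stepQ 17598 Q17598 (allL N17598 (tt N18823 (iv F231298)) (tt N19614 (iv F234698)) (tt N15414 F225518) (tt N19616 D52386) (tt N15413 F225519) (tt N18726 (iv F230873)) (tt N19610 (iv F234691)) (tt N19552 (iv F234504)) (tt N15412 (iv D50368)) (tt N18863 (iv F231445)))
theorem Q17600 : ∀ i, i < 17600 → P i := stepQ 17599 Q17599 (allL N17599 (tt N19587 (iv F234622)) (tt N19615 (iv F234701)) (tt N15502 F225520) (tt N15413 (iv D50369)) (tt N19617 D52387) (tt N18686 (iv F230665)) (tt N19611 (iv F234693)) (tt N19553 (iv F234506)) (tt N15423 F225521) (tt N19600 (iv F234666)))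
theorem Q17601 : ∀ i, i < 17601 → P i := stepQ 17600 Q17600 (allL N17600 (tt N18935 (iv F231790)) (tt N18883 (iv F231511)) (tt N15611 F225522) (tt N15416 (iv D50370)) (tt N19603 (iv F234674)) (tt N17600 F225523) (tt N18699 (iv F230731)) (tt N18889 (iv F231546)) (tt N19618 D52388) (tt N19619 D52389))
theorem Q17602 : ∀ i, i < 17602 → P i := stepQ 17601 Q17601 (allL N17601 (tt N18982 (iv F232013)) (tt N18884 (iv F231515)) (tt N15418 F225524) (tt N19619 (iv F234711)) (tt N15417 F225525) (tt N17601 F225526) (tt N18700 (iv F230738)) (tt N18890 (iv F231552)) (tt N19620 D52390) (tt N15416 (iv D50371)))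
theorem Q17603 : ∀ i, i < 17603 → P i := stepQ 17602 Q17602 (allL N17602 (tt N19589 (iv F234628)) (tt N18885 (iv F231520)) (tt N15419 F225527) (tt N19621 D52391) (tt N19620 (iv F234714)) (tt N15420 F225528) (tt N18701 (iv F230742)) (tt N18891 (iv F231557)) (tt N15417 (iv D50372)) (tt N17602 F225529))
theorem Q17604 : ∀ i, i < 17604 → P i := stepQ 17603 Q17603 (allL N17603 (tt N19234 (iv F233082)) (tt N15424 F225530) (tt N19620 (iv F234713)) (tt N19236 (iv F233098)) (tt N15419 F225531) (tt N17603 F225532) (tt N18702 (iv F230749)) (tt N18903 (iv F231619)) (tt N15418 (iv D50373)) (tt N17603 F225533))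
theorem Q17605 : ∀ i, i < 17605 → P i := stepQ 17604 Q17604 (allL N17604 (tt N19591 (iv F234638)) (tt N18897 (iv F231582)) (tt N15526 F225534) (tt N15420 (iv D50374)) (tt N19622 D52392) (tt N19621 (iv F234718)) (tt N15423 F225535) (tt N18899 (iv F231595)) (tt N19611 (iv F234694)) (tt N17604 F225536))
theorem Q17606 : ∀ i, i < 17606 → P i := stepQ 17605 Q17605 (allL N17605 (tt N15422 F225537) (tt N15866 F225538) (tt N15425 F225539) (tt N18695 (iv F230704)) (tt N17605 F225540) (tt N15865 F225541) (tt N18789 (iv F231158)) (tt N18561 (iv F230052)) (tt N15421 (iv D50375)) (tt N17605 F225542))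
theorem Q17607 : ∀ i, i < 17607 → P i := stepQ 17606 Q17606 (allL N17606 (tt N18695 (iv F230703)) (tt N15423 F225543) (tt N18639 (iv F230471)) (tt N15422 (iv D50376)) (tt N18780 (iv F231106)) (tt N18705 (iv F230764)) (tt N18897 (iv F231583)) (tt N18592 (iv F230191)) (tt N19615 (iv F234702)) (tt N17606 F225544))
theorem Q17608 : ∀ i, i < 17608 → P i := stepQ 17607 Q17607 (allL N17607 (tt N19593 (iv F234646)) (tt N18780 (iv F231104)) (tt N15529 F225545) (tt N17607 F225546) (tt N15423 (iv D50377)) (tt N19623 D52393) (tt N19622 (iv F234722)) (tt N19554 (iv F234510)) (tt N19617 (iv F234705)) (tt N17607 F225547))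
theorem Q17609 : ∀ i, i < 17609 → P i := stepQ 17608 Q17608 (allL N17608 (tt N15458 F225548) (tt N18813 (iv F231260)) (tt N15428 (iv D50378)) (tt N17608 F225549) (tt N19624 D52394) (tt N15430 F225550) (tt N18732 (iv F230905)) (tt N18193 (iv F227917)) (tt N15438 F225551) (tt N19625 D52395))
theorem Q17610 : ∀ i, i < 17610 → P i := stepQ 17609 Q17609 (allL N17609 (tt N15459 F225552) (tt N19579 (iv F234590)) (tt N19624 (iv F234728)) (tt N19382 (iv F233816)) (tt N15428 (iv D50379)) (tt N19273 (iv F233316)) (tt N18733 (iv F230908)) (tt N19283 (iv F233373)) (tt N15439 F225553) (tt N19626 D52396))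
theorem Q17611 : ∀ i, i < 17611 → P i := stepQ 17610 Q17610 (allL N17610 (tt N15460 F225554) (tt N19580 (iv F234596)) (tt N19625 (iv F234731)) (tt N15429 F225555) (tt N19626 (iv F234735)) (tt N15431 F225556) (tt N18734 (iv F230913)) (tt N19286 (iv F233385)) (tt N19627 D52397) (tt N15428 (iv D50380)))
theorem Q17612 : ∀ i, i < 17612 → P i := stepQ 17611 Q17611 (allL N17611 (tt N15462 F225557) (tt N18814 (iv F231264)) (tt N15431 F225558) (tt N17611 F225559) (tt N18192 (iv F227910)) (tt N19625 (iv F234733)) (tt N15433 F225560) (tt N18194 (iv F227925)) (tt N19628 D52398) (tt N15430 (iv D50381)))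
theorem Q17613 : ∀ i, i < 17613 → P i := stepQ 17612 Q17612 (allL N17612 (tt N15463 F225561) (tt N19585 (iv F234613)) (tt N19628 (iv F234740)) (tt N19578 (iv F234584)) (tt N19275 (iv F233327)) (tt N19627 (iv F234737)) (tt N15434 F225562) (tt N19287 (iv F233391)) (tt N15431 (iv D50382)) (tt N15443 F225563))
theorem Q17614 : ∀ i, i < 17614 → P i := stepQ 17613 Q17613 (allL N17613 (tt N18725 (iv F230866)) (tt N15433 F225564) (tt N18769 (iv F231057)) (tt N17613 F225565) (tt N18565 (iv F230073)) (tt N18743 (iv F230957)) (tt N18814 (iv F231267)) (tt N18567 (iv F230086)) (tt N19629 D52399) (tt N15432 (iv D50383)))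
theorem Q17615 : ∀ i, i < 17615 → P i := stepQ 17614 Q17614 (allL N17614 (tt N15468 F225566) (tt N19629 (iv F234743)) (tt N15434 F225567) (tt N19630 D52400) (tt N19276 (iv F233334)) (tt N18745 (iv F230966)) (tt N19628 (iv F234741)) (tt N19555 (iv F234514)) (tt N15433 (iv D50384)) (tt N15446 F225568))
theorem Q17616 : ∀ i, i < 17616 → P i := stepQ 17615 Q17615 (allL N17615 (tt N15471 F225569) (tt N18613 (iv F230332)) (tt N18208 (iv F228005)) (tt N15435 (iv D50385)) (tt N19631 D52401) (tt N18212 (iv F228034)) (tt N15436 F225570) (tt N18747 (iv F230973)) (tt N18606 (iv F230296)) (tt N19632 D52402))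
theorem Q17617 : ∀ i, i < 17617 → P i := stepQ 17616 Q17616 (allL N17616 (tt N15472 F225571) (tt N18614 (iv F230337)) (tt N15448 F225572) (tt N19632 (iv F234752)) (tt N15635 F225573) (tt N18604 (iv F230282)) (tt N15437 F225574) (tt N18748 (iv F230978)) (tt N18712 (iv F230809)) (tt N15435 (iv D50386)))
theorem Q17618 : ∀ i, i < 17618 → P i := stepQ 17617 Q17617 (allL N17617 (tt N15474 F225575) (tt N19576 (iv F234572)) (tt N18203 (iv F227978)) (tt N15637 F225576) (tt N15436 (iv D50387)) (tt N18201 (iv F227965)) (tt N19631 (iv F234750)) (tt N15439 F225577) (tt N19283 (iv F233374)) (tt N19633 D52403))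
theorem Q17619 : ∀ i, i < 17619 → P i := stepQ 17618 Q17618 (allL N17618 (tt N15475 F225578) (tt N19577 (iv F234578)) (tt N18209 (iv F228010)) (tt N15437 F225579) (tt N19633 (iv F234756)) (tt N15441 F225580) (tt N19632 (iv F234753)) (tt N15440 F225581) (tt N19634 D52404) (tt N15436 (iv D50388)))
theorem Q17620 : ∀ i, i < 17620 → P i := stepQ 17619 Q17619 (allL N17619 (tt N15477 F225582) (tt N18833 (iv F231333)) (tt N15439 F225583) (tt N18406 (iv F229165)) (tt N15438 (iv D50389)) (tt N18199 (iv F227953)) (tt N18753 (iv F230995)) (tt N18203 (iv F227981)) (tt N19624 (iv F234729)) (tt N19635 D52405))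
theorem Q17621 : ∀ i, i < 17621 → P i := stepQ 17620 Q17620 (allL N17620 (tt N15478 F225584) (tt N18849 (iv F231391)) (tt N15440 F225585) (tt N15450 F225586) (tt N19635 (iv F234763)) (tt N15442 F225587) (tt N18754 (iv F231000)) (tt N18209 (iv F228013)) (tt N19636 D52406) (tt N15438 (iv D50390)))
theorem Q17622 : ∀ i, i < 17622 → P i := stepQ 17621 Q17621 (allL N17621 (tt N15480 F225588) (tt N19607 (iv F234681)) (tt N19635 (iv F234762)) (tt N15642 F225589) (tt N15440 F225590) (tt N19277 (iv F233341)) (tt N18756 (iv F231007)) (tt N19633 (iv F234757)) (tt N19637 D52407) (tt N15439 (iv D50391)))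
theorem Q17623 : ∀ i, i < 17623 → P i := stepQ 17622 Q17622 (allL N17622 (tt N15481 F225591) (tt N19612 (iv F234695)) (tt N19636 (iv F234765)) (tt N19584 (iv F234610)) (tt N19637 (iv F234768)) (tt N15443 F225592) (tt N18757 (iv F231010)) (tt N19634 (iv F234760)) (tt N15440 (iv D50392)) (tt N19627 (iv F234738)))
theorem Q17624 : ∀ i, i < 17624 → P i := stepQ 17623 Q17623 (allL N17623 (tt N15484 F225593) (tt N19578 (iv F234583)) (tt N18210 (iv F228016)) (tt N19585 (iv F234614)) (tt N18207 (iv F227999)) (tt N19634 (iv F234759)) (tt N18214 (iv F228048)) (tt N15443 F225594) (tt N15441 (iv D50393)) (tt N19287 (iv F233392)))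
theorem Q17625 : ∀ i, i < 17625 → P i := stepQ 17624 Q17624 (allL N17624 (tt N15490 F225595) (tt N18850 (iv F231395)) (tt N15443 F225596) (tt N19638 D52408) (tt N18206 (iv F227992)) (tt N19636 (iv F234766)) (tt N15446 F225597) (tt N18210 (iv F228019)) (tt N15442 (iv D50394)) (tt N19628 (iv F234742)))
theorem Q17626 : ∀ i, i < 17626 → P i := stepQ 17625 Q17625 (allL N17625 (tt N15445 F225598) (tt N15495 F225599) (tt N18743 (iv F230954)) (tt N15455 F225600) (tt N18548 (iv F229981)) (tt N18769 (iv F231060)) (tt N18760 (iv F231024)) (tt N18551 (iv F230002)) (tt N19639 D52409) (tt N15444 (iv D50395)))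
theorem Q17627 : ∀ i, i < 17627 → P i := stepQ 17626 Q17626 (allL N17626 (tt N19639 (iv F234772)) (tt N15446 F225601) (tt N19614 (iv F234699)) (tt N19640 D52410) (tt N18576 (iv F230121)) (tt N18771 (iv F231066)) (tt N18850 (iv F231397)) (tt N18579 (iv F230137)) (tt N15445 (iv D50396)) (tt N19629 (iv F234744)))
theorem Q17628 : ∀ i, i < 17628 → P i := stepQ 17627 Q17627 (allL N17627 (tt N15502 F225602) (tt N19640 (iv F234774)) (tt N19587 (iv F234623)) (tt N15446 (iv D50397)) (tt N19641 D52411) (tt N18773 (iv F231071)) (tt N19638 (iv F234770)) (tt N19557 (iv F234519)) (tt N15457 F225603) (tt N19630 (iv F234747)))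
theorem Q17629 : ∀ i, i < 17629 → P i := stepQ 17628 Q17628 (allL N17628 (tt N15510 F225604) (tt N17628 F225605) (tt N18220 (iv F228074)) (tt N15448 F225606) (tt N18091 (iv F227202)) (tt N18082 (iv F227125)) (tt N15449 F225607) (tt N18707 (iv F230776)) (tt N19642 D52412) (tt N15447 (iv D50398)))
theorem Q17630 : ∀ i, i < 17630 → P i := stepQ 17629 Q17629 (allL N17629 (tt N15514 F225608) (tt N17629 F225609) (tt N18221 (iv F228080)) (tt N18902 (iv F231609)) (tt N18092 (iv F227209)) (tt N15453 F225610) (tt N19642 (iv F234782)) (tt N15452 F225611) (tt N15449 (iv D50399)) (tt N17629 F225612))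
theorem Q17631 : ∀ i, i < 17631 → P i := stepQ 17630 Q17630 (allL N17630 (tt N15520 F225613) (tt N18874 (iv F231472)) (tt N15452 F225614) (tt N19643 D52413) (tt N18450 (iv F229379)) (tt N15454 F225615) (tt N18786 (iv F231138)) (tt N18221 (iv F228083)) (tt N15450 (iv D50400)) (tt N17630 F225616))
theorem Q17632 : ∀ i, i < 17632 → P i := stepQ 17631 Q17631 (allL N17631 (tt N15521 F225617) (tt N17631 F225618) (tt N18450 (iv F229378)) (tt N19247 (iv F233165)) (tt N15452 F225619) (tt N15832 F225620) (tt N18787 (iv F231145)) (tt N18092 (iv F227211)) (tt N15451 (iv D50401)) (tt N17631 F225621))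
theorem Q17633 : ∀ i, i < 17633 → P i := stepQ 17632 Q17632 (allL N17632 (tt N15526 F225622) (tt N18875 (iv F231478)) (tt N19591 (iv F234639)) (tt N15454 (iv D50402)) (tt N19644 D52414) (tt N19643 (iv F234785)) (tt N15457 F225623) (tt N18222 (iv F228088)) (tt N19638 (iv F234771)) (tt N17632 F225624))
theorem Q17634 : ∀ i, i < 17634 → P i := stepQ 17633 Q17633 (allL N17633 (tt N15456 F225625) (tt N15527 F225626) (tt N17633 F225627) (tt N18706 (iv F230769)) (tt N15834 F225628) (tt N18793 (iv F231180)) (tt N18777 (iv F231092)) (tt N18558 (iv F230033)) (tt N15455 (iv D50403)) (tt N17633 F225629))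
theorem Q17635 : ∀ i, i < 17635 → P i := stepQ 17634 Q17634 (allL N17634 (tt N18706 (iv F230766)) (tt N15457 F225630) (tt N18795 (iv F231186)) (tt N15456 (iv D50404)) (tt N18644 (iv F230505)) (tt N18794 (iv F231183)) (tt N18875 (iv F231479)) (tt N18589 (iv F230179)) (tt N19640 (iv F234775)) (tt N17634 F225631))
theorem Q17636 : ∀ i, i < 17636 → P i := stepQ 17635 Q17635 (allL N17635 (tt N15529 F225632) (tt N18644 (iv F230503)) (tt N19593 (iv F234647)) (tt N15836 F225633) (tt N15457 (iv D50405)) (tt N19592 (iv F234644)) (tt N19644 (iv F234789)) (tt N19558 (iv F234523)) (tt N19641 (iv F234777)) (tt N17635 F225634))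
theorem Q17637 : ∀ i, i < 17637 → P i := stepQ 17636 Q17636 (allL N17636 (tt N18718 (iv F230835)) (tt N15458 (iv D50406)) (tt N18172 (iv F227767)) (tt N17636 F225635) (tt N19645 D52415) (tt N15461 F225636) (tt N18806 (iv F231237)) (tt N19309 (iv F233483)) (tt N15476 F225637) (tt N19646 D52416))
theorem Q17638 : ∀ i, i < 17638 → P i := stepQ 17637 Q17637 (allL N17637 (tt N19624 (iv F234727)) (tt N19645 (iv F234791)) (tt N15459 F225638) (tt N19647 D52417) (tt N15458 (iv D50407)) (tt N19294 (iv F233420)) (tt N18807 (iv F231242)) (tt N19301 (iv F233452)) (tt N15477 F225639) (tt N19648 D52418))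
theorem Q17639 : ∀ i, i < 17639 → P i := stepQ 17638 Q17638 (allL N17638 (tt N19625 (iv F234730)) (tt N19646 (iv F234793)) (tt N15460 F225640) (tt N17638 F225641) (tt N19648 (iv F234798)) (tt N15462 F225642) (tt N18808 (iv F231247)) (tt N19313 (iv F233501)) (tt N19649 D52419) (tt N15458 (iv D50408)))
theorem Q17640 : ∀ i, i < 17640 → P i := stepQ 17639 Q17639 (allL N17639 (tt N19626 (iv F234734)) (tt N19288 (iv F233393)) (tt N19648 (iv F234797)) (tt N19476 (iv F234223)) (tt N15460 F225643) (tt N19296 (iv F233430)) (tt N18810 (iv F231251)) (tt N19305 (iv F233466)) (tt N19650 D52420) (tt N15459 (iv D50409)))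
theorem Q17641 : ∀ i, i < 17641 → P i := stepQ 17640 Q17640 (allL N17640 (tt N19627 (iv F234736)) (tt N19289 (iv F233398)) (tt N19649 (iv F234799)) (tt N19597 (iv F234656)) (tt N19650 (iv F234802)) (tt N15463 F225644) (tt N18811 (iv F231253)) (tt N19317 (iv F233516)) (tt N15460 (iv D50410)) (tt N15481 F225645))
theorem Q17642 : ∀ i, i < 17642 → P i := stepQ 17641 Q17641 (allL N17641 (tt N18723 (iv F230860)) (tt N15462 F225646) (tt N18174 (iv F227778)) (tt N17641 F225647) (tt N19307 (iv F233472)) (tt N19646 (iv F234795)) (tt N15465 F225648) (tt N19310 (iv F233490)) (tt N19651 D52421) (tt N15461 (iv D50411)))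
theorem Q17643 : ∀ i, i < 17643 → P i := stepQ 17642 Q17642 (allL N17642 (tt N19628 (iv F234739)) (tt N19651 (iv F234804)) (tt N15463 F225649) (tt N19652 D52422) (tt N19308 (iv F233476)) (tt N19649 (iv F234800)) (tt N15468 F225650) (tt N19314 (iv F233505)) (tt N15462 (iv D50412)) (tt N15490 F225651))
theorem Q17644 : ∀ i, i < 17644 → P i := stepQ 17643 Q17643 (allL N17643 (tt N18684 (iv F230658)) (tt N15467 F225652) (tt N18175 (iv F227785)) (tt N18169 F227744) (tt N15465 F225653) (tt N18522 (iv F229835)) (tt N19307 (iv F233473)) (tt N18521 (iv F229829)) (tt N19653 D52423) (tt N15464 (iv D50413)))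
theorem Q17645 : ∀ i, i < 17645 → P i := stepQ 17644 Q17644 (allL N17644 (tt N18726 (iv F230871)) (tt N15468 F225654) (tt N18176 (iv F227793)) (tt N19654 D52424) (tt N19653 (iv F234811)) (tt N18823 (iv F231302)) (tt N19651 (iv F234805)) (tt N19559 (iv F234526)) (tt N15465 (iv D50414)) (tt N15498 F225655))
theorem Q17646 : ∀ i, i < 17646 → P i := stepQ 17645 Q17645 (allL N17645 (tt N19276 (iv F233331)) (tt N19653 (iv F234810)) (tt N15470 F225656) (tt N18158 (iv F227670)) (tt N15468 F225657) (tt N19279 (iv F233348)) (tt N19308 (iv F233477)) (tt N19267 (iv F233285)) (tt N15467 (iv D50415)) (tt N15501 F225658))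
theorem Q17647 : ∀ i, i < 17647 → P i := stepQ 17646 Q17646 (allL N17646 (tt N19630 (iv F234745)) (tt N19654 (iv F234813)) (tt N19600 (iv F234664)) (tt N15468 (iv D50416)) (tt N19655 D52425) (tt N18825 (iv F231308)) (tt N19652 (iv F234807)) (tt N19560 (iv F234528)) (tt N17646 F225659) (tt N15502 F225660))
theorem Q17648 : ∀ i, i < 17648 → P i := stepQ 17647 Q17647 (allL N17647 (tt N18208 (iv F228003)) (tt N18631 (iv F230430)) (tt N15471 (iv D50417)) (tt N15509 F225661) (tt N19656 D52426) (tt N18181 (iv F227830)) (tt N15473 F225662) (tt N18668 (iv F230609)) (tt N19312 (iv F233497)) (tt N19657 D52427))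
theorem Q17649 : ∀ i, i < 17649 → P i := stepQ 17648 Q17648 (allL N17648 (tt N19631 (iv F234748)) (tt N19292 (iv F233411)) (tt N19656 (iv F234818)) (tt N15705 F225663) (tt N15471 (iv D50418)) (tt N19658 D52428) (tt N15474 F225664) (tt N18829 (iv F231321)) (tt N19304 (iv F233461)) (tt N19659 D52429))
theorem Q17650 : ∀ i, i < 17650 → P i := stepQ 17649 Q17649 (allL N17649 (tt N19632 (iv F234751)) (tt N19293 (iv F233415)) (tt N19657 (iv F234820)) (tt N15472 F225665) (tt N19659 (iv F234825)) (tt N19290 (iv F233404)) (tt N15475 F225666) (tt N18830 (iv F231324)) (tt N19660 D52430) (tt N15471 (iv D50419)))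
theorem Q17651 : ∀ i, i < 17651 → P i := stepQ 17650 Q17650 (allL N17650 (tt N18677 (iv F230631)) (tt N15473 (iv D50420)) (tt N18664 (iv F230588)) (tt N15511 F225667) (tt N19661 D52431) (tt N15482 F225668) (tt N18631 (iv F230433)) (tt N15476 F225669) (tt N19309 (iv F233484)) (tt N19662 D52432))
theorem Q17652 : ∀ i, i < 17652 → P i := stepQ 17651 Q17651 (allL N17651 (tt N18203 (iv F227976)) (tt N19661 (iv F234828)) (tt N15474 F225670) (tt N18343 (iv F228825)) (tt N15473 (iv D50421)) (tt N18178 (iv F227808)) (tt N19656 (iv F234819)) (tt N15477 F225671) (tt N19301 (iv F233453)) (tt N19663 D52433))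
theorem Q17653 : ∀ i, i < 17653 → P i := stepQ 17652 Q17652 (allL N17652 (tt N18209 (iv F228008)) (tt N19662 (iv F234830)) (tt N15475 F225672) (tt N15512 F225673) (tt N19663 (iv F234835)) (tt N15483 F225674) (tt N19657 (iv F234822)) (tt N15478 F225675) (tt N19664 D52434) (tt N15473 (iv D50422)))
theorem Q17654 : ∀ i, i < 17654 → P i := stepQ 17653 Q17653 (allL N17653 (tt N19633 (iv F234754)) (tt N19296 (iv F233427)) (tt N19663 (iv F234834)) (tt N15711 F225676) (tt N15475 F225677) (tt N19288 (iv F233396)) (tt N19659 (iv F234826)) (tt N15480 F225678) (tt N19665 D52435) (tt N15474 (iv D50423)))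
theorem Q17655 : ∀ i, i < 17655 → P i := stepQ 17654 Q17654 (allL N17654 (tt N19634 (iv F234758)) (tt N19297 (iv F233432)) (tt N19664 (iv F234837)) (tt N19602 (iv F234670)) (tt N19665 (iv F234840)) (tt N15484 F225679) (tt N19660 (iv F234827)) (tt N15481 F225680) (tt N15475 (iv D50424)) (tt N19317 (iv F233517)))
theorem Q17656 : ∀ i, i < 17656 → P i := stepQ 17655 Q17655 (allL N17655 (tt N15476 (iv D50425)) (tt N18759 (iv F231017)) (tt N18711 (iv F230799)) (tt N15515 F225681) (tt N19666 D52436) (tt N15485 F225682) (tt N18836 (iv F231345)) (tt N18677 F230635) (tt N18718 (iv F230839)) (tt N19667 D52437))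
theorem Q17657 : ∀ i, i < 17657 → P i := stepQ 17656 Q17656 (allL N17656 (tt N19666 (iv F234842)) (tt N15477 F225683) (tt N19298 (iv F233437)) (tt N19668 D52438) (tt N15476 (iv D50426)) (tt N19669 D52439) (tt N18837 (iv F231350)) (tt N19661 (iv F234829)) (tt N19645 (iv F234792)) (tt N19670 D52440))
theorem Q17658 : ∀ i, i < 17658 → P i := stepQ 17657 Q17657 (allL N17657 (tt N19667 (iv F234843)) (tt N15478 F225684) (tt N19299 (iv F233441)) (tt N15517 F225685) (tt N19670 (iv F234851)) (tt N15487 F225686) (tt N18838 (iv F231356)) (tt N19662 (iv F234833)) (tt N19671 D52441) (tt N15476 (iv D50427)))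
theorem Q17659 : ∀ i, i < 17659 → P i := stepQ 17658 Q17658 (allL N17658 (tt N18406 (iv F229162)) (tt N19668 (iv F234846)) (tt N15716 F225687) (tt N15477 (iv D50428)) (tt N15518 F225688) (tt N18339 (iv F228802)) (tt N18839 (iv F231360)) (tt N18343 (iv F228827)) (tt N19672 D52442) (tt N19673 D52443))
theorem Q17660 : ∀ i, i < 17660 → P i := stepQ 17659 Q17659 (allL N17659 (tt N18199 (iv F227949)) (tt N19669 (iv F234848)) (tt N15479 F225689) (tt N18339 (iv F228801)) (tt N15488 F225690) (tt N15477 (iv D50429)) (tt N19674 D52444) (tt N18178 (iv F227810)) (tt N19294 (iv F233422)) (tt N19675 D52445))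
theorem Q17661 : ∀ i, i < 17661 → P i := stepQ 17660 Q17660 (allL N17660 (tt N19635 (iv F234761)) (tt N19670 (iv F234850)) (tt N15480 F225691) (tt N19673 (iv F234857)) (tt N15478 F225692) (tt N19675 (iv F234863)) (tt N18841 (iv F231365)) (tt N19663 (iv F234836)) (tt N19676 D52446) (tt N15477 (iv D50430)))
theorem Q17662 : ∀ i, i < 17662 → P i := stepQ 17661 Q17661 (allL N17661 (tt N19636 (iv F234764)) (tt N19671 (iv F234852)) (tt N15481 F225693) (tt N19677 D52447) (tt N19676 (iv F234865)) (tt N15490 F225694) (tt N18842 (iv F231368)) (tt N19664 (iv F234839)) (tt N15478 (iv D50431)) (tt N19649 (iv F234801)))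
theorem Q17663 : ∀ i, i < 17663 → P i := stepQ 17662 Q17662 (allL N17662 (tt N18144 (iv F227592)) (tt N19304 (iv F233458)) (tt N19674 (iv F234859)) (tt N15720 F225695) (tt N15491 F225696) (tt N18843 (iv F231371)) (tt N15479 (iv D50432)) (tt N19678 D52448) (tt N19292 (iv F233414)) (tt N19679 D52449))
theorem Q17664 : ∀ i, i < 17664 → P i := stepQ 17663 Q17663 (allL N17663 (tt N19277 (iv F233337)) (tt N19305 (iv F233462)) (tt N19675 (iv F234861)) (tt N15721 F225697) (tt N15492 F225698) (tt N15480 F225699) (tt N19679 (iv F234872)) (tt N19288 (iv F233397)) (tt N19680 D52450) (tt N15479 (iv D50433)))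
theorem Q17665 : ∀ i, i < 17665 → P i := stepQ 17664 Q17664 (allL N17664 (tt N19637 (iv F234767)) (tt N19306 (iv F233467)) (tt N19676 (iv F234864)) (tt N19681 D52451) (tt N15481 F225700) (tt N19680 (iv F234874)) (tt N18845 (iv F231376)) (tt N19665 (iv F234841)) (tt N15480 (iv D50434)) (tt N19650 (iv F234803)))
theorem Q17666 : ∀ i, i < 17666 → P i := stepQ 17665 Q17665 (allL N17665 (tt N18687 (iv F230667)) (tt N15483 F225701) (tt N19307 (iv F233470)) (tt N15522 F225702) (tt N18174 (iv F227780)) (tt N19662 (iv F234832)) (tt N18175 (iv F227789)) (tt N15487 F225703) (tt N19682 D52452) (tt N15482 (iv D50435)))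
theorem Q17667 : ∀ i, i < 17667 → P i := stepQ 17666 Q17666 (allL N17666 (tt N18210 (iv F228014)) (tt N19682 (iv F234876)) (tt N15484 F225704) (tt N19683 D52453) (tt N18180 (iv F227821)) (tt N19664 (iv F234838)) (tt N18183 (iv F227843)) (tt N15490 F225705) (tt N15483 (iv D50436)) (tt N19314 (iv F233506)))
theorem Q17668 : ∀ i, i < 17668 → P i := stepQ 17667 Q17667 (allL N17667 (tt N15487 F225706) (tt N18760 (iv F231021)) (tt N18714 (iv F230817)) (tt N15524 F225707) (tt N18721 (iv F230850)) (tt N19667 (iv F234845)) (tt N15495 F225708) (tt N18687 (iv F230672)) (tt N19684 D52454) (tt N15485 (iv D50437)))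
theorem Q17669 : ∀ i, i < 17669 → P i := stepQ 17668 Q17668 (allL N17668 (tt N18716 (iv F230825)) (tt N15488 F225709) (tt N19309 (iv F233481)) (tt N15837 F225710) (tt N19669 (iv F234849)) (tt N15486 (iv D50438)) (tt N18647 (iv F230522)) (tt N18172 (iv F227765)) (tt N18664 (iv F230592)) (tt N19685 D52455))
theorem Q17670 : ∀ i, i < 17670 → P i := stepQ 17669 Q17669 (allL N17669 (tt N18721 (iv F230847)) (tt N15489 F225711) (tt N19310 (iv F233486)) (tt N15838 F225712) (tt N15487 F225713) (tt N19685 (iv F234884)) (tt N15497 F225714) (tt N18174 (iv F227782)) (tt N19686 D52456) (tt N15486 (iv D50439)))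
theorem Q17671 : ∀ i, i < 17671 → P i := stepQ 17670 Q17670 (allL N17670 (tt N19684 (iv F234880)) (tt N15490 F225715) (tt N19311 (iv F233492)) (tt N19687 D52457) (tt N19686 (iv F234886)) (tt N19671 (iv F234853)) (tt N15498 F225716) (tt N19682 (iv F234877)) (tt N15487 (iv D50440)) (tt N19651 (iv F234806)))
theorem Q17672 : ∀ i, i < 17672 → P i := stepQ 17671 Q17671 (allL N17671 (tt N18143 (iv F227585)) (tt N18647 (iv F230520)) (tt N15491 F225717) (tt N15839 F225718) (tt N19674 (iv F234860)) (tt N15499 F225719) (tt N15488 (iv D50441)) (tt N18133 (iv F227517)) (tt N18141 (iv F227576)) (tt N19688 D52458))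
theorem Q17673 : ∀ i, i < 17673 → P i := stepQ 17672 Q17672 (allL N17672 (tt N18200 (iv F227955)) (tt N19685 (iv F234882)) (tt N15492 F225720) (tt N15840 F225721) (tt N19675 (iv F234862)) (tt N15489 F225722) (tt N19688 (iv F234894)) (tt N18179 (iv F227817)) (tt N19689 D52459) (tt N15488 (iv D50442)))
theorem Q17674 : ∀ i, i < 17674 → P i := stepQ 17673 Q17673 (allL N17673 (tt N18206 (iv F227989)) (tt N19686 (iv F234885)) (tt N15493 F225723) (tt N19690 D52460) (tt N15490 F225724) (tt N19689 (iv F234896)) (tt N15501 F225725) (tt N18180 (iv F227823)) (tt N15489 (iv D50443)) (tt N19308 (iv F233479)))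
theorem Q17675 : ∀ i, i < 17675 → P i := stepQ 17674 Q17674 (allL N17674 (tt N19638 (iv F234769)) (tt N19687 (iv F234888)) (tt N19611 (iv F234692)) (tt N15490 (iv D50444)) (tt N19691 D52461) (tt N19677 (iv F234866)) (tt N15502 F225726) (tt N19683 (iv F234878)) (tt N15526 F225727) (tt N19652 (iv F234809)))
theorem Q17676 : ∀ i, i < 17676 → P i := stepQ 17675 Q17675 (allL N17675 (tt N18141 (iv F227570)) (tt N18801 (iv F231212)) (tt N18133 (iv F227514)) (tt N15506 F225728) (tt N19678 (iv F234869)) (tt N15503 F225729) (tt N18188 (iv F227883)) (tt N15491 (iv D50445)) (tt N18143 (iv F227590)) (tt N19692 D52462))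
theorem Q17677 : ∀ i, i < 17677 → P i := stepQ 17676 Q17676 (allL N17676 (tt N18145 (iv F227596)) (tt N19316 (iv F233510)) (tt N19688 (iv F234891)) (tt N15507 F225730) (tt N19679 (iv F234871)) (tt N15504 F225731) (tt N15492 F225732) (tt N19692 (iv F234904)) (tt N19693 D52463) (tt N15491 (iv D50446)))
theorem Q17678 : ∀ i, i < 17678 → P i := stepQ 17677 Q17677 (allL N17677 (tt N19278 (iv F233342)) (tt N19317 (iv F233514)) (tt N19689 (iv F234895)) (tt N19285 (iv F233379)) (tt N19680 (iv F234873)) (tt N15493 F225733) (tt N19693 (iv F234906)) (tt N19289 (iv F233400)) (tt N15492 (iv D50447)) (tt N19297 (iv F233435)))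
theorem Q17679 : ∀ i, i < 17679 → P i := stepQ 17678 Q17678 (allL N17678 (tt N15497 F225734) (tt N18548 (iv F229978)) (tt N18662 (iv F230581)) (tt N15844 F225735) (tt N15495 F225736) (tt N18659 (iv F230568)) (tt N18721 (iv F230851)) (tt N18534 (iv F229901)) (tt N19694 D52464) (tt N15494 (iv D50448)))
theorem Q17680 : ∀ i, i < 17680 → P i := stepQ 17679 Q17679 (allL N17679 (tt N15498 F225737) (tt N19639 (iv F234773)) (tt N18715 (iv F230822)) (tt N19695 D52465) (tt N19694 (iv F234908)) (tt N18863 (iv F231444)) (tt N19684 (iv F234881)) (tt N19565 (iv F234539)) (tt N15495 (iv D50449)) (tt N18726 (iv F230874)))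
theorem Q17681 : ∀ i, i < 17681 → P i := stepQ 17680 Q17680 (allL N17680 (tt N18659 (iv F230564)) (tt N15500 F225738) (tt N18621 (iv F230380)) (tt N15846 F225739) (tt N18620 (iv F230376)) (tt N15497 F225740) (tt N18652 (iv F230542)) (tt N18515 (iv F229795)) (tt N19696 D52466) (tt N15496 (iv D50450)))
theorem Q17682 : ∀ i, i < 17682 → P i := stepQ 17681 Q17681 (allL N17681 (tt N19694 (iv F234907)) (tt N15501 F225741) (tt N19318 (iv F233519)) (tt N19697 D52467) (tt N15498 F225742) (tt N19696 (iv F234912)) (tt N19686 (iv F234887)) (tt N19566 (iv F234542)) (tt N15497 (iv D50451)) (tt N19653 (iv F234812)))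
theorem Q17683 : ∀ i, i < 17683 → P i := stepQ 17682 Q17682 (allL N17682 (tt N19695 (iv F234909)) (tt N15502 F225743) (tt N19698 D52468) (tt N15498 (iv D50452)) (tt N19699 D52469) (tt N18865 (iv F231452)) (tt N19687 (iv F234889)) (tt N19567 (iv F234544)) (tt N15528 F225744) (tt N19654 (iv F234815)))
theorem Q17684 : ∀ i, i < 17684 → P i := stepQ 17683 Q17683 (allL N17683 (tt N18150 (iv F227626)) (tt N18652 (iv F230540)) (tt N15504 F225745) (tt N15849 F225746) (tt N18866 (iv F231456)) (tt N19688 (iv F234893)) (tt N15500 F225747) (tt N18136 (iv F227539)) (tt N19700 D52470) (tt N15499 (iv D50453)))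
theorem Q17685 : ∀ i, i < 17685 → P i := stepQ 17684 Q17684 (allL N17684 (tt N18158 (iv F227668)) (tt N19696 (iv F234911)) (tt N15505 F225748) (tt N19276 (iv F233333)) (tt N18867 (iv F231459)) (tt N15501 F225749) (tt N19700 (iv F234919)) (tt N19568 (iv F234548)) (tt N15500 (iv D50454)) (tt N19279 (iv F233350)))
theorem Q17686 : ∀ i, i < 17686 → P i := stepQ 17685 Q17685 (allL N17685 (tt N19279 (iv F233346)) (tt N19697 (iv F234913)) (tt N18140 (iv F227566)) (tt N15501 (iv D50455)) (tt N19701 D52471) (tt N19276 (iv F233335)) (tt N19690 (iv F234897)) (tt N19569 (iv F234550)) (tt N15851 F225750) (tt N18158 (iv F227672)))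
theorem Q17687 : ∀ i, i < 17687 → P i := stepQ 17686 Q17686 (allL N17686 (tt N19641 (iv F234776)) (tt N19699 (iv F234916)) (tt N19617 (iv F234704)) (tt N19701 (iv F234920)) (tt N15502 (iv D50456)) (tt N19702 D52472) (tt N19691 (iv F234900)) (tt N19570 (iv F234552)) (tt N15529 F225751) (tt N19655 (iv F234817)))
theorem Q17688 : ∀ i, i < 17688 → P i := stepQ 17687 Q17687 (allL N17687 (tt N18147 (iv F227608)) (tt N19322 (iv F233527)) (tt N18136 (iv F227536)) (tt N15508 F225752) (tt N18870 (iv F231464)) (tt N19692 (iv F234903)) (tt N15851 F225753) (tt N15504 F225754) (tt N19690 (iv F234899)) (tt N15503 (iv D50457)))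
theorem Q17689 : ∀ i, i < 17689 → P i := stepQ 17688 Q17688 (allL N17688 (tt N18153 (iv F227640)) (tt N19323 (iv F233531)) (tt N19700 (iv F234918)) (tt N18180 (iv F227820)) (tt N18871 (iv F231467)) (tt N19693 (iv F234905)) (tt N15505 F225755) (tt N19690 (iv F234898)) (tt N15504 (iv D50458)) (tt N19315 (iv F233509)))
theorem Q17690 : ∀ i, i < 17690 → P i := stepQ 17689 Q17689 (allL N17689 (tt N18142 (iv F227577)) (tt N18802 (iv F231217)) (tt N15842 F225756) (tt N19692 (iv F234902)) (tt N15759 F225757) (tt N15508 F225758) (tt N18189 (iv F227891)) (tt N15507 F225759) (tt N15840 F225760) (tt N15506 (iv D50459)))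
theorem Q17691 : ∀ i, i < 17691 → P i := stepQ 17690 Q17690 (allL N17690 (tt N18220 (iv F228072)) (tt N18637 (iv F230456)) (tt N15510 F225761) (tt N19657 (iv F234821)) (tt N18357 (iv F228905)) (tt N18184 (iv F227850)) (tt N15512 F225762) (tt N18698 (iv F230727)) (tt N19703 D52473) (tt N15509 (iv D50460)))
theorem Q17692 : ∀ i, i < 17692 → P i := stepQ 17691 Q17691 (allL N17691 (tt N19642 (iv F234778)) (tt N15530 F225763) (tt N19703 (iv F234923)) (tt N15540 F225764) (tt N18486 (iv F229573)) (tt N15546 F225765) (tt N15514 F225766) (tt N18709 (iv F230787)) (tt N15510 (iv D50461)) (tt N17691 F225767))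
theorem Q17693 : ∀ i, i < 17693 → P i := stepQ 17692 Q17692 (allL N17692 (tt N18690 (iv F230678)) (tt N15512 F225768) (tt N15533 F225769) (tt N19662 (iv F234831)) (tt N18320 (iv F228687)) (tt N15522 F225770) (tt N18637 (iv F230460)) (tt N15517 F225771) (tt N19704 D52474) (tt N15511 (iv D50462)))
theorem Q17694 : ∀ i, i < 17694 → P i := stepQ 17693 Q17693 (allL N17693 (tt N18221 (iv F228078)) (tt N19704 (iv F234927)) (tt N15514 F225772) (tt N19705 D52475) (tt N18358 (iv F228910)) (tt N15523 F225773) (tt N19703 (iv F234925)) (tt N15520 F225774) (tt N15512 (iv D50463)) (tt N17693 F225775))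
theorem Q17695 : ∀ i, i < 17695 → P i := stepQ 17694 Q17694 (allL N17694 (tt N15517 F225776) (tt N18776 (iv F231083)) (tt N15537 F225777) (tt N19667 (iv F234844)) (tt N18985 (iv F232030)) (tt N15524 F225778) (tt N18888 (iv F231540)) (tt N18690 (iv F230684)) (tt N19706 D52476) (tt N15515 (iv D50464)))
theorem Q17696 : ∀ i, i < 17696 → P i := stepQ 17695 Q17695 (allL N17695 (tt N18974 (iv F231983)) (tt N15518 F225779) (tt N18993 (iv F232069)) (tt N15516 (iv D50465)) (tt N19668 (iv F234847)) (tt N15853 F225780) (tt N18889 (iv F231545)) (tt N18315 (iv F228657)) (tt N19001 (iv F232111)) (tt N19707 D52477))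
theorem Q17697 : ∀ i, i < 17697 → P i := stepQ 17696 Q17696 (allL N17696 (tt N18985 (iv F232027)) (tt N15519 F225781) (tt N15539 F225782) (tt N19707 (iv F234940)) (tt N15517 F225783) (tt N15854 F225784) (tt N18890 (iv F231551)) (tt N18320 (iv F228690)) (tt N19708 D52478) (tt N15516 (iv D50466)))
theorem Q17698 : ∀ i, i < 17698 → P i := stepQ 17697 Q17697 (allL N17697 (tt N19706 (iv F234935)) (tt N15520 F225785) (tt N15540 F225786) (tt N19709 D52479) (tt N19708 (iv F234944)) (tt N15525 F225787) (tt N18891 (iv F231556)) (tt N19704 (iv F234930)) (tt N15517 (iv D50467)) (tt N17697 F225788))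
theorem Q17699 : ∀ i, i < 17699 → P i := stepQ 17698 Q17698 (allL N17698 (tt N18384 (iv F229044)) (tt N19001 (iv F232107)) (tt N15767 F225789) (tt N17698 F225790) (tt N19672 (iv F234855)) (tt N15856 F225791) (tt N18892 (iv F231562)) (tt N18332 (iv F228760)) (tt N15518 (iv D50468)) (tt N19710 D52480))
theorem Q17700 : ∀ i, i < 17700 → P i := stepQ 17699 Q17699 (allL N17699 (tt N18423 (iv F229237)) (tt N19707 (iv F234939)) (tt N15768 F225792) (tt N15519 F225793) (tt N19673 (iv F234858)) (tt N15857 F225794) (tt N18893 (iv F231566)) (tt N18349 (iv F228857)) (tt N19711 D52481) (tt N15518 (iv D50469)))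
theorem Q17701 : ∀ i, i < 17701 → P i := stepQ 17700 Q17700 (allL N17700 (tt N18450 (iv F229376)) (tt N19708 (iv F234942)) (tt N15521 F225795) (tt N19712 D52482) (tt N15520 F225796) (tt N15858 F225797) (tt N18894 (iv F231570)) (tt N18358 (iv F228912)) (tt N15519 (iv D50470)) (tt N17700 F225798))
theorem Q17702 : ∀ i, i < 17702 → P i := stepQ 17701 Q17701 (allL N17701 (tt N19643 (iv F234784)) (tt N19709 (iv F234947)) (tt N19621 (iv F234717)) (tt N15520 (iv D50471)) (tt N19713 D52483) (tt N15526 F225799) (tt N18895 (iv F231573)) (tt N19705 (iv F234933)) (tt N19677 (iv F234867)) (tt N17701 F225800))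
theorem Q17703 : ∀ i, i < 17703 → P i := stepQ 17702 Q17702 (allL N17702 (tt N18693 (iv F230691)) (tt N15523 F225801) (tt N15544 F225802) (tt N19714 D52484) (tt N15859 F225803) (tt N19704 (iv F234929)) (tt N18177 (iv F227802)) (tt N15525 F225804) (tt N15522 (iv D50472)) (tt N17702 F225805))
theorem Q17704 : ∀ i, i < 17704 → P i := stepQ 17703 Q17703 (allL N17703 (tt N18222 (iv F228085)) (tt N19714 (iv F234958)) (tt N18899 (iv F231593)) (tt N15523 (iv D50473)) (tt N18880 (iv F231498)) (tt N19705 (iv F234932)) (tt N18185 (iv F227858)) (tt N15526 F225806) (tt N19683 (iv F234879)) (tt N17703 F225807))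
theorem Q17705 : ∀ i, i < 17705 → P i := stepQ 17704 Q17704 (allL N17704 (tt N15525 F225808) (tt N18777 (iv F231089)) (tt N15545 F225809) (tt N19715 D52485) (tt N15860 F225810) (tt N19706 (iv F234937)) (tt N15527 F225811) (tt N18693 (iv F230696)) (tt N15524 (iv D50474)) (tt N17704 F225812))
theorem Q17706 : ∀ i, i < 17706 → P i := stepQ 17705 Q17705 (allL N17705 (tt N19715 (iv F234961)) (tt N15526 F225813) (tt N19716 D52486) (tt N15525 (iv D50475)) (tt N19717 D52487) (tt N19709 (iv F234948)) (tt N15528 F225814) (tt N19714 (iv F234959)) (tt N19687 (iv F234890)) (tt N17705 F225815))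
theorem Q17707 : ∀ i, i < 17707 → P i := stepQ 17706 Q17706 (allL N17706 (tt N19644 (iv F234787)) (tt N19717 (iv F234967)) (tt N19622 (iv F234720)) (tt N15862 F225816) (tt N15526 (iv D50476)) (tt N19718 D52488) (tt N15529 F225817) (tt N18880 (iv F231500)) (tt N19691 (iv F234901)) (tt N17706 F225818))
theorem Q17708 : ∀ i, i < 17708 → P i := stepQ 17707 Q17707 (allL N17707 (tt N15528 F225819) (tt N18706 (iv F230767)) (tt N18225 (iv F228106)) (tt N15527 (iv D50477)) (tt N18705 (iv F230763)) (tt N18226 (iv F228111)) (tt N19715 (iv F234962)) (tt N19573 (iv F234562)) (tt N19695 (iv F234910)) (tt N17707 F225820))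
theorem Q17709 : ∀ i, i < 17709 → P i := stepQ 17708 Q17708 (allL N17708 (tt N18225 (iv F228104)) (tt N18639 (iv F230470)) (tt N15528 (iv D50478)) (tt N15549 F225821) (tt N18694 (iv F230700)) (tt N18185 (iv F227857)) (tt N19716 (iv F234965)) (tt N19571 (iv F234556)) (tt N19698 (iv F234915)) (tt N17708 F225822))
theorem Q17710 : ∀ i, i < 17710 → P i := stepQ 17709 Q17709 (allL N17709 (tt N18705 (iv F230761)) (tt N15529 F225823) (tt N18694 (iv F230699)) (tt N15865 F225824) (tt N15528 (iv D50479)) (tt N18695 (iv F230706)) (tt N19717 (iv F234969)) (tt N19574 (iv F234566)) (tt N19699 (iv F234917)) (tt N17709 F225825))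
theorem Q17711 : ∀ i, i < 17711 → P i := stepQ 17710 Q17710 (allL N17710 (tt N19592 (iv F234642)) (tt N18695 F230708) (tt N19623 (iv F234724)) (tt N15866 F225826) (tt N18882 (iv F231508)) (tt N15529 (iv D50480)) (tt N19719 D52489) (tt N19575 (iv F234569)) (tt N19702 (iv F234922)) (tt N17710 F225827))
theorem Q17712 : ∀ i, i < 17712 → P i := stepQ 17711 Q17711 (allL N17711 (tt N15533 F225828) (tt N17711 F225829) (tt N18690 (iv F230680)) (tt N18640 (iv F230476)) (tt N18904 (iv F231625)) (tt N15543 F225830) (tt N18598 (iv F230233)) (tt N15537 F225831) (tt N19720 D52490) (tt N15531 (iv D50481)))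
theorem Q17713 : ∀ i, i < 17713 → P i := stepQ 17712 Q17712 (allL N17712 (tt N18904 (iv F231621)) (tt N15534 F225832) (tt N18320 (iv F228686)) (tt N15619 F225833) (tt N15533 F225834) (tt N15623 F225835) (tt N18696 (iv F230715)) (tt N15539 F225836) (tt N19361 (iv F233722)) (tt N15532 (iv D50482)))
theorem Q17714 : ∀ i, i < 17714 → P i := stepQ 17713 Q17713 (allL N17713 (tt N19720 (iv F234975)) (tt N15535 F225837) (tt N19704 (iv F234928)) (tt N18709 (iv F230784)) (tt N19361 F233724) (tt N15544 F225838) (tt N18697 (iv F230720)) (tt N15540 F225839) (tt N15533 (iv D50483)) (tt N17713 F225840))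
theorem Q17715 : ∀ i, i < 17715 → P i := stepQ 17714 Q17714 (allL N17714 (tt N15539 F225841) (tt N17714 F225842) (tt N18985 (iv F232029)) (tt N19233 (iv F233076)) (tt N15537 F225843) (tt N15869 F225844) (tt N18901 (iv F231605)) (tt N18904 (iv F231628)) (tt N19721 D52491) (tt N15536 (iv D50484)))
theorem Q17716 : ∀ i, i < 17716 → P i := stepQ 17715 Q17715 (allL N17715 (tt N15540 F225845) (tt N17715 F225846) (tt N19706 (iv F234936)) (tt N19642 (iv F234780)) (tt N19721 (iv F234982)) (tt N15545 F225847) (tt N18902 (iv F231611)) (tt N19720 (iv F234978)) (tt N15537 (iv D50485)) (tt N17715 F225848))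
theorem Q17717 : ∀ i, i < 17717 → P i := stepQ 17716 Q17716 (allL N17716 (tt N19233 (iv F233074)) (tt N15541 F225849) (tt N18994 (iv F232075)) (tt N15539 F225850) (tt N15603 F225851) (tt N15621 F225852) (tt N15607 F225853) (tt N15619 F225854) (tt N15616 F225855) (tt N15538 (iv D50486)))
theorem Q17718 : ∀ i, i < 17718 → P i := stepQ 17717 Q17717 (allL N17717 (tt N19721 (iv F234980)) (tt N15542 F225856) (tt N19708 (iv F234943)) (tt N18485 (iv F229566)) (tt N15540 F225857) (tt N15871 F225858) (tt N18903 (iv F231618)) (tt N19361 (iv F233721)) (tt N15539 (iv D50487)) (tt N17717 F225859))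
theorem Q17719 : ∀ i, i < 17719 → P i := stepQ 17718 Q17718 (allL N17718 (tt N15544 F225860) (tt N17718 F225861) (tt N18693 (iv F230693)) (tt N18710 (iv F230792)) (tt N15874 F225862) (tt N19720 (iv F234977)) (tt N18600 (iv F230249)) (tt N15545 F225863) (tt N15543 (iv D50488)) (tt N17718 F225864))
theorem Q17720 : ∀ i, i < 17720 → P i := stepQ 17719 Q17719 (allL N17719 (tt N15546 F225865) (tt N17719 F225866) (tt N18224 (iv F228099)) (tt N15545 (iv D50489)) (tt N18084 (iv F227141)) (tt N19642 (iv F234781)) (tt N15548 F225867) (tt N18710 (iv F230795)) (tt N18082 F227128) (tt N17719 F225868))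
theorem Q17721 : ∀ i, i < 17721 → P i := stepQ 17720 Q17720 (allL N17720 (tt N18224 (iv F228097)) (tt N18638 (iv F230463)) (tt N15546 (iv D50490)) (tt N19716 (iv F234964)) (tt N18187 (iv F227874)) (tt N19703 (iv F234924)) (tt N15549 F225869) (tt N18703 (iv F230756)) (tt N18184 F227853) (tt N17720 F225870))
theorem Q17722 : ∀ i, i < 17722 → P i := stepQ 17721 Q17721 (allL N17721 (tt N18084 (iv F227138)) (tt N15547 F225871) (tt N18187 (iv F227872)) (tt N15879 F225872) (tt N15546 (iv D50491)) (tt N18088 (iv F227177)) (tt N15550 F225873) (tt N18603 (iv F230275)) (tt N18081 F227119) (tt N17721 F225874))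
theorem Q17723 : ∀ i, i < 17723 → P i := stepQ 17722 Q17722 (allL N17722 (tt N15573 F225875) (tt N18728 (iv F230883)) (tt N18938 (iv F231802)) (tt N15552 (iv D50492)) (tt N19722 D52492) (tt N17722 F225876) (tt N15553 F225877) (tt N18918 (iv F231711)) (tt N18951 (iv F231873)) (tt N19723 D52493))
theorem Q17724 : ∀ i, i < 17724 → P i := stepQ 17723 Q17723 (allL N17723 (tt N15574 F225878) (tt N18729 (iv F230888)) (tt N15559 F225879) (tt N19723 (iv F234988)) (tt N18712 (iv F230806)) (tt N17723 F225880) (tt N15554 F225881) (tt N18919 (iv F231717)) (tt N15635 F225882) (tt N15552 (iv D50493)))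
theorem Q17725 : ∀ i, i < 17725 → P i := stepQ 17724 Q17724 (allL N17724 (tt N15576 F225883) (tt N19382 (iv F233815)) (tt N18940 (iv F231814)) (tt N19579 (iv F234591)) (tt N15553 (iv D50494)) (tt N19363 (iv F233734)) (tt N19722 (iv F234986)) (tt N15555 F225884) (tt N18954 (iv F231887)) (tt N19724 D52494))
theorem Q17726 : ∀ i, i < 17726 → P i := stepQ 17725 Q17725 (allL N17725 (tt N15577 F225885) (tt N19397 (iv F233872)) (tt N18941 (iv F231818)) (tt N15554 F225886) (tt N19724 (iv F234992)) (tt N15557 F225887) (tt N19723 (iv F234990)) (tt N15556 F225888) (tt N19725 D52495) (tt N15553 (iv D50495)))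
theorem Q17727 : ∀ i, i < 17727 → P i := stepQ 17726 Q17726 (allL N17726 (tt N15582 F225889) (tt N19391 (iv F233847)) (tt N18943 (iv F231827)) (tt N19583 (iv F234607)) (tt N15556 F225890) (tt N19365 (iv F233745)) (tt N18923 (iv F231735)) (tt N19724 (iv F234993)) (tt N19726 D52496) (tt N15555 (iv D50496)))
theorem Q17728 : ∀ i, i < 17728 → P i := stepQ 17727 Q17727 (allL N17727 (tt N15583 F225891) (tt N19403 (iv F233898)) (tt N18944 (iv F231831)) (tt N15643 F225892) (tt N19726 (iv F234999)) (tt N15558 F225893) (tt N18924 (iv F231740)) (tt N19725 (iv F234997)) (tt N15556 (iv D50497)) (tt N18964 (iv F231938)))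
theorem Q17729 : ∀ i, i < 17729 → P i := stepQ 17728 Q17728 (allL N17728 (tt N15589 F225894) (tt N19398 (iv F233877)) (tt N18947 (iv F231848)) (tt N15646 F225895) (tt N19367 (iv F233753)) (tt N19725 (iv F234996)) (tt N17728 F225896) (tt N15558 F225897) (tt N15557 (iv D50498)) (tt N18968 (iv F231953)))
theorem Q17730 : ∀ i, i < 17730 → P i := stepQ 17729 Q17729 (allL N17729 (tt N18961 (iv F231915)) (tt N19328 (iv F233557)) (tt N18956 (iv F231894)) (tt N15565 F225898) (tt N15560 (iv D50499)) (tt N18954 (iv F231885)) (tt N18936 (iv F231796)) (tt N18962 (iv F231927)) (tt N19363 (iv F233736)) (tt N19727 D52497))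
theorem Q17731 : ∀ i, i < 17731 → P i := stepQ 17730 Q17730 (allL N17730 (tt N18992 (iv F232062)) (tt N19329 (iv F233563)) (tt N18969 (iv F231954)) (tt N15561 F225899) (tt N19727 (iv F235001)) (tt N15960 F225900) (tt N18937 (iv F231800)) (tt N18972 (iv F231974)) (tt N19728 D52498) (tt N15560 (iv D50500)))
theorem Q17732 : ∀ i, i < 17732 → P i := stepQ 17731 Q17731 (allL N17731 (tt N18951 (iv F231868)) (tt N18323 (iv F228706)) (tt N18918 (iv F231708)) (tt N15562 (iv D50501)) (tt N19729 D52499) (tt N17731 F225901) (tt N15563 F225902) (tt N18938 (iv F231805)) (tt N15573 F225903) (tt N19730 D52500))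
theorem Q17733 : ∀ i, i < 17733 → P i := stepQ 17732 Q17732 (allL N17732 (tt N18991 (iv F232054)) (tt N18324 (iv F228712)) (tt N15778 F225904) (tt N19730 (iv F235006)) (tt N18301 (iv F228569)) (tt N17732 F225905) (tt N15564 F225906) (tt N18939 (iv F231811)) (tt N15671 F225907) (tt N15562 (iv D50502)))
theorem Q17734 : ∀ i, i < 17734 → P i := stepQ 17733 Q17733 (allL N17733 (tt N18954 (iv F231881)) (tt N19330 (iv F233568)) (tt N18920 (iv F231720)) (tt N18962 (iv F231925)) (tt N15563 (iv D50503)) (tt N18961 F231920) (tt N19729 (iv F235004)) (tt N15565 F225908) (tt N15576 F225909) (tt N19731 D52501))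
theorem Q17735 : ∀ i, i < 17735 → P i := stepQ 17734 Q17734 (allL N17734 (tt N18955 (iv F231888)) (tt N19331 (iv F233574)) (tt N18921 (iv F231724)) (tt N15564 F225910) (tt N19731 (iv F235009)) (tt N15568 F225911) (tt N19730 (iv F235008)) (tt N15566 F225912) (tt N19732 D52502) (tt N15563 (iv D50504)))
theorem Q17736 : ∀ i, i < 17736 → P i := stepQ 17735 Q17735 (allL N17735 (tt N18962 (iv F231922)) (tt N15630 F225913) (tt N18922 (iv F231729)) (tt N18954 (iv F231884)) (tt N15569 F225914) (tt N15565 (iv D50505)) (tt N18995 (iv F232082)) (tt N18961 (iv F231919)) (tt N15581 F225915) (tt N19733 D52503))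
theorem Q17737 : ∀ i, i < 17737 → P i := stepQ 17736 Q17736 (allL N17736 (tt N18963 (iv F231929)) (tt N19332 (iv F233579)) (tt N18923 (iv F231733)) (tt N19727 (iv F235000)) (tt N15566 F225916) (tt N19733 (iv F235017)) (tt N18943 (iv F231829)) (tt N19731 (iv F235010)) (tt N19734 D52504) (tt N15565 (iv D50506)))
theorem Q17738 : ∀ i, i < 17738 → P i := stepQ 17737 Q17737 (allL N17737 (tt N18964 (iv F231933)) (tt N19333 (iv F233583)) (tt N18924 (iv F231737)) (tt N15680 F225917) (tt N19734 (iv F235018)) (tt N15571 F225918) (tt N18944 (iv F231834)) (tt N19732 (iv F235013)) (tt N15566 (iv D50507)) (tt N15583 F225919))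
theorem Q17739 : ∀ i, i < 17739 → P i := stepQ 17738 Q17738 (allL N17738 (tt N15960 F225920) (tt N15632 F225921) (tt N18925 (iv F231743)) (tt N15625 F225922) (tt N15568 F225923) (tt N18992 (iv F232065)) (tt N17738 F225924) (tt N15570 F225925) (tt N19735 D52505) (tt N15567 (iv D50508)))
theorem Q17740 : ∀ i, i < 17740 → P i := stepQ 17739 Q17739 (allL N17739 (tt N18968 (iv F231946)) (tt N19334 (iv F233588)) (tt N18926 (iv F231749)) (tt N15685 F225926) (tt N19735 (iv F235023)) (tt N19732 (iv F235012)) (tt N17739 F225927) (tt N15571 F225928) (tt N15568 (iv D50509)) (tt N15589 F225929))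
theorem Q17741 : ∀ i, i < 17741 → P i := stepQ 17740 Q17740 (allL N17740 (tt N18972 (iv F231969)) (tt N15631 F225930) (tt N18927 (iv F231755)) (tt N15624 F225931) (tt N19733 (iv F235016)) (tt N15570 F225932) (tt N18996 (iv F232087)) (tt N18992 (iv F232067)) (tt N19736 D52506) (tt N15569 (iv D50510)))
theorem Q17742 : ∀ i, i < 17742 → P i := stepQ 17741 Q17741 (allL N17741 (tt N18973 (iv F231975)) (tt N15633 F225933) (tt N18928 (iv F231759)) (tt N18971 (iv F231964)) (tt N15571 F225934) (tt N19736 (iv F235028)) (tt N15572 F225935) (tt N19735 (iv F235025)) (tt N15570 (iv D50511)) (tt N15596 F225936))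
theorem Q17743 : ∀ i, i < 17743 → P i := stepQ 17742 Q17742 (allL N17742 (tt N18938 (iv F231801)) (tt N19012 (iv F232144)) (tt N15573 (iv D50512)) (tt N15602 F225937) (tt N19737 D52507) (tt N17742 F225938) (tt N15575 F225939) (tt N18951 (iv F231872)) (tt N18918 (iv F231712)) (tt N19738 D52508))
theorem Q17744 : ∀ i, i < 17744 → P i := stepQ 17743 Q17743 (allL N17743 (tt N19722 (iv F234985)) (tt N19300 (iv F233446)) (tt N19737 (iv F235030)) (tt N19298 (iv F233438)) (tt N15573 (iv D50513)) (tt N19739 D52509) (tt N15576 F225940) (tt N18952 (iv F231876)) (tt N19729 (iv F235005)) (tt N19740 D52510))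
theorem Q17745 : ∀ i, i < 17745 → P i := stepQ 17744 Q17744 (allL N17744 (tt N19723 (iv F234987)) (tt N19324 (iv F233534)) (tt N19738 (iv F235032)) (tt N15574 F225941) (tt N19740 (iv F235037)) (tt N17744 F225942) (tt N15577 F225943) (tt N18953 (iv F231880)) (tt N19741 D52511) (tt N15573 (iv D50514)))
theorem Q17746 : ∀ i, i < 17746 → P i := stepQ 17745 Q17745 (allL N17745 (tt N19075 (iv F232453)) (tt N15575 (iv D50515)) (tt N18465 (iv F229454)) (tt N15604 F225944) (tt N19742 D52512) (tt N15584 F225945) (tt N19012 (iv F232147)) (tt N15578 F225946) (tt N18908 (iv F231655)) (tt N19743 D52513))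
theorem Q17747 : ∀ i, i < 17747 → P i := stepQ 17746 Q17746 (allL N17746 (tt N18940 (iv F231813)) (tt N19742 (iv F235042)) (tt N15576 F225947) (tt N19744 D52514) (tt N15575 (iv D50516)) (tt N19745 D52515) (tt N19737 (iv F235031)) (tt N15579 F225948) (tt N18920 (iv F231722)) (tt N19746 D52516))
theorem Q17748 : ∀ i, i < 17748 → P i := stepQ 17747 Q17747 (allL N17747 (tt N18941 (iv F231817)) (tt N19743 (iv F235044)) (tt N15577 F225949) (tt N15606 F225950) (tt N19746 (iv F235054)) (tt N15586 F225951) (tt N19738 (iv F235035)) (tt N15580 F225952) (tt N19747 D52517) (tt N15575 (iv D50517)))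
theorem Q17749 : ∀ i, i < 17749 → P i := stepQ 17748 Q17748 (allL N17748 (tt N19363 (iv F233731)) (tt N15637 F225953) (tt N19745 (iv F235050)) (tt N19576 (iv F234573)) (tt N15587 F225954) (tt N15576 (iv D50518)) (tt N19748 D52518) (tt N15581 F225955) (tt N18961 F231921) (tt N19749 D52519))
theorem Q17750 : ∀ i, i < 17750 → P i := stepQ 17749 Q17749 (allL N17749 (tt N19724 (iv F234991)) (tt N19335 (iv F233595)) (tt N19746 (iv F235053)) (tt N19601 (iv F234667)) (tt N15577 F225956) (tt N19749 (iv F235064)) (tt N19740 (iv F235038)) (tt N15582 F225957) (tt N19750 D52520) (tt N15576 (iv D50519)))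
theorem Q17751 : ∀ i, i < 17751 → P i := stepQ 17750 Q17750 (allL N17750 (tt N19725 (iv F234994)) (tt N19336 (iv F233600)) (tt N19747 (iv F235056)) (tt N15712 F225958) (tt N19750 (iv F235066)) (tt N15589 F225959) (tt N19741 (iv F235041)) (tt N15583 F225960) (tt N15577 (iv D50520)) (tt N19732 (iv F235014)))
theorem Q17752 : ∀ i, i < 17752 → P i := stepQ 17751 Q17751 (allL N17751 (tt N19448 (iv F234105)) (tt N15579 F225961) (tt N19338 (iv F233611)) (tt N19751 D52521) (tt N15578 (iv D50521)) (tt N19752 D52522) (tt N18959 (iv F231906)) (tt N19742 (iv F235043)) (tt N18911 (iv F231671)) (tt N19753 D52523))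
theorem Q17753 : ∀ i, i < 17753 → P i := stepQ 17752 Q17752 (allL N17752 (tt N19459 (iv F234159)) (tt N15580 F225962) (tt N19339 (iv F233614)) (tt N15610 F225963) (tt N19753 (iv F235077)) (tt N15591 F225964) (tt N18960 (iv F231913)) (tt N19743 (iv F235047)) (tt N19754 D52524) (tt N15578 (iv D50522)))
theorem Q17754 : ∀ i, i < 17754 → P i := stepQ 17753 Q17753 (allL N17753 (tt N18936 (iv F231794)) (tt N19751 (iv F235069)) (tt N19603 (iv F234673)) (tt N15579 (iv D50523)) (tt N15611 F225965) (tt N19755 D52525) (tt N18961 (iv F231918)) (tt N19744 (iv F235049)) (tt N19748 (iv F235061)) (tt N19756 D52526))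
theorem Q17755 : ∀ i, i < 17755 → P i := stepQ 17754 Q17754 (allL N17754 (tt N18942 (iv F231822)) (tt N19752 (iv F235073)) (tt N15581 F225966) (tt N19755 (iv F235080)) (tt N15592 F225967) (tt N15579 (iv D50524)) (tt N19004 (iv F232119)) (tt N19745 (iv F235052)) (tt N18922 (iv F231731)) (tt N19757 D52527))
theorem Q17756 : ∀ i, i < 17756 → P i := stepQ 17755 Q17755 (allL N17755 (tt N18943 (iv F231826)) (tt N19753 (iv F235076)) (tt N15582 F225968) (tt N19756 (iv F235082)) (tt N15580 F225969) (tt N19757 (iv F235086)) (tt N18963 (iv F231932)) (tt N19746 (iv F235055)) (tt N19758 D52528) (tt N15579 (iv D50525)))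
theorem Q17757 : ∀ i, i < 17757 → P i := stepQ 17756 Q17756 (allL N17756 (tt N18944 (iv F231830)) (tt N19754 (iv F235078)) (tt N15583 F225970) (tt N19023 (iv F232204)) (tt N19758 (iv F235088)) (tt N15594 F225971) (tt N18964 (iv F231937)) (tt N19747 (iv F235058)) (tt N15580 (iv D50526)) (tt N18924 (iv F231741)))
theorem Q17758 : ∀ i, i < 17758 → P i := stepQ 17757 Q17757 (allL N17757 (tt N19365 (iv F233742)) (tt N15642 F225972) (tt N19757 (iv F235084)) (tt N19607 (iv F234682)) (tt N15595 F225973) (tt N15582 F225974) (tt N19006 (iv F232126)) (tt N19749 (iv F235065)) (tt N19759 D52529) (tt N15581 (iv D50527)))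
theorem Q17759 : ∀ i, i < 17759 → P i := stepQ 17758 Q17758 (allL N17758 (tt N19726 (iv F234998)) (tt N19342 (iv F233625)) (tt N19758 (iv F235087)) (tt N19760 D52530) (tt N15583 F225975) (tt N19759 (iv F235091)) (tt N18967 (iv F231945)) (tt N19750 (iv F235067)) (tt N15582 (iv D50528)) (tt N19734 (iv F235019)))
theorem Q17760 : ∀ i, i < 17760 → P i := stepQ 17759 Q17759 (allL N17759 (tt N18397 (iv F229116)) (tt N15585 F225976) (tt N15644 F225977) (tt N17759 F225978) (tt N15584 (iv D50529)) (tt N19761 D52531) (tt N17759 F225979) (tt N15590 F225980) (tt N18352 (iv F228876)) (tt N19762 D52532))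
theorem Q17761 : ∀ i, i < 17761 → P i := stepQ 17760 Q17760 (allL N17760 (tt N19463 (iv F234179)) (tt N15586 F225981) (tt N19344 (iv F233636)) (tt N15614 F225982) (tt N19762 (iv F235100)) (tt N19743 (iv F235046)) (tt N17760 F225983) (tt N15591 F225984) (tt N19763 D52533) (tt N15584 (iv D50530)))
theorem Q17762 : ∀ i, i < 17762 → P i := stepQ 17761 Q17761 (allL N17761 (tt N18945 (iv F231836)) (tt N19761 (iv F235093)) (tt N15587 F225985) (tt N17761 F225986) (tt N19745 (iv F235051)) (tt N15585 (iv D50531)) (tt N19618 (iv F234709)) (tt N15592 F225987) (tt N18699 F230733) (tt N19764 D52534))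
theorem Q17763 : ∀ i, i < 17763 → P i := stepQ 17762 Q17762 (allL N17762 (tt N18946 (iv F231841)) (tt N19762 (iv F235097)) (tt N15588 F225988) (tt N17762 F225989) (tt N15586 F225990) (tt N19764 (iv F235108)) (tt N17762 F225991) (tt N15593 F225992) (tt N19765 D52535) (tt N15585 (iv D50532)))
theorem Q17764 : ∀ i, i < 17764 → P i := stepQ 17763 Q17763 (allL N17763 (tt N18947 (iv F231847)) (tt N19763 (iv F235103)) (tt N15589 F225993) (tt N19026 (iv F232221)) (tt N19765 (iv F235111)) (tt N19747 (iv F235057)) (tt N17763 F225994) (tt N15594 F225995) (tt N15586 (iv D50533)) (tt N18926 (iv F231753)))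
theorem Q17765 : ∀ i, i < 17765 → P i := stepQ 17764 Q17764 (allL N17764 (tt N18645 (iv F230508)) (tt N15634 F225996) (tt N19618 (iv F234706)) (tt N15600 F225997) (tt N19748 (iv F235060)) (tt N17764 F225998) (tt N15587 (iv D50534)) (tt N18999 (iv F232100)) (tt N15611 F225999) (tt N19766 D52536))
theorem Q17766 : ∀ i, i < 17766 → P i := stepQ 17765 Q17765 (allL N17765 (tt N19364 (iv F233737)) (tt N15638 F226000) (tt N19764 (iv F235106)) (tt N15601 F226001) (tt N19749 (iv F235063)) (tt N15588 F226002) (tt N19766 (iv F235117)) (tt N15595 F226003) (tt N19767 D52537) (tt N15587 (iv D50535)))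
theorem Q17767 : ∀ i, i < 17767 → P i := stepQ 17766 Q17766 (allL N17766 (tt N19367 (iv F233750)) (tt N15646 F226004) (tt N19765 (iv F235110)) (tt N19398 (iv F233878)) (tt N15589 F226005) (tt N19767 (iv F235119)) (tt N17766 F226006) (tt N15596 F226007) (tt N15588 (iv D50536)) (tt N19735 (iv F235026)))
theorem Q17768 : ∀ i, i < 17768 → P i := stepQ 17767 Q17767 (allL N17767 (tt N18391 (iv F229084)) (tt N15592 F226008) (tt N15639 F226009) (tt N17767 F226010) (tt N19752 (iv F235075)) (tt N15590 (iv D50537)) (tt N18332 (iv F228759)) (tt N19761 (iv F235096)) (tt N18348 (iv F228852)) (tt N19768 D52538))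
theorem Q17769 : ∀ i, i < 17769 → P i := stepQ 17768 Q17768 (allL N17768 (tt N18398 (iv F229123)) (tt N15593 F226011) (tt N15648 F226012) (tt N17768 F226013) (tt N15591 F226014) (tt N19768 (iv F235124)) (tt N15597 F226015) (tt N19762 (iv F235102)) (tt N19769 D52539) (tt N15590 (iv D50538)))
theorem Q17770 : ∀ i, i < 17770 → P i := stepQ 17769 Q17769 (allL N17769 (tt N19464 (iv F234184)) (tt N15594 F226016) (tt N19347 (iv F233653)) (tt N18998 (iv F232094)) (tt N19769 (iv F235127)) (tt N19754 (iv F235079)) (tt N15598 F226017) (tt N19763 (iv F235105)) (tt N15591 (iv D50539)) (tt N18916 (iv F231699)))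
theorem Q17771 : ∀ i, i < 17771 → P i := stepQ 17770 Q17770 (allL N17770 (tt N18948 (iv F231853)) (tt N19768 (iv F235121)) (tt N15595 F226018) (tt N17770 F226019) (tt N19757 (iv F235085)) (tt N15593 F226020) (tt N19005 (iv F232123)) (tt N19764 (iv F235109)) (tt N19770 D52540) (tt N15592 (iv D50540)))
theorem Q17772 : ∀ i, i < 17772 → P i := stepQ 17771 Q17771 (allL N17771 (tt N18949 (iv F231857)) (tt N19769 (iv F235125)) (tt N15596 F226021) (tt N19771 D52541) (tt N15594 F226022) (tt N19770 (iv F235130)) (tt N15599 F226023) (tt N19765 (iv F235113)) (tt N15593 (iv D50541)) (tt N18928 (iv F231762)))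
theorem Q17773 : ∀ i, i < 17773 → P i := stepQ 17772 Q17772 (allL N17772 (tt N19366 (iv F233746)) (tt N15643 F226024) (tt N19770 (iv F235129)) (tt N19403 (iv F233899)) (tt N19759 (iv F235090)) (tt N15596 F226025) (tt N19007 (iv F232129)) (tt N19767 (iv F235120)) (tt N15595 (iv D50542)) (tt N19736 (iv F235029)))
theorem Q17774 : ∀ i, i < 17774 → P i := stepQ 17773 Q17773 (allL N17773 (tt N18399 (iv F229129)) (tt N15599 F226026) (tt N15651 F226027) (tt N19772 D52542) (tt N15598 F226028) (tt N18336 (iv F228784)) (tt N19769 (iv F235128)) (tt N17773 F226029) (tt N15597 (iv D50543)) (tt N18354 (iv F228889)))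
theorem Q17775 : ∀ i, i < 17775 → P i := stepQ 17774 Q17774 (allL N17774 (tt N18950 (iv F231862)) (tt N19772 (iv F235133)) (tt N19405 (iv F233906)) (tt N15599 (iv D50544)) (tt N19029 (iv F232235)) (tt N19011 (iv F232140)) (tt N19771 (iv F235131)) (tt N17774 F226030) (tt N17774 F226031) (tt N18929 (iv F231767)))
theorem Q17776 : ∀ i, i < 17776 → P i := stepQ 17775 Q17775 (allL N17775 (tt N18646 (iv F230513)) (tt N15635 F226032) (tt N17775 F226033) (tt N19766 (iv F235115)) (tt N18614 (iv F230339)) (tt N17775 F226034) (tt N15601 F226035) (tt N19000 (iv F232106)) (tt N18729 (iv F230893)) (tt N15600 (iv D50545)))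
theorem Q17777 : ∀ i, i < 17777 → P i := stepQ 17776 Q17776 (allL N17776 (tt N18939 (iv F231807)) (tt N19013 (iv F232150)) (tt N15603 F226036) (tt N19738 (iv F235033)) (tt N18994 (iv F232076)) (tt N17776 F226037) (tt N15606 F226038) (tt N18991 (iv F232060)) (tt N19018 (iv F232184)) (tt N15602 (iv D50546)))
theorem Q17778 : ∀ i, i < 17778 → P i := stepQ 17777 Q17777 (allL N17777 (tt N19076 (iv F232459)) (tt N15606 F226039) (tt N15616 F226040) (tt N19743 (iv F235045)) (tt N19018 (iv F232180)) (tt N15614 F226041) (tt N19013 (iv F232154)) (tt N15610 F226042) (tt N18994 (iv F232080)) (tt N15604 (iv D50547)))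
theorem Q17779 : ∀ i, i < 17779 → P i := stepQ 17778 Q17778 (allL N17778 (tt N18933 (iv F231781)) (tt N19017 (iv F232171)) (tt N18889 (iv F231543)) (tt N15605 (iv D50548)) (tt N19744 (iv F235048)) (tt N17778 F226043) (tt N18993 (iv F232071)) (tt N15611 F226044) (tt N18999 (iv F232101)) (tt N19773 D52543))
theorem Q17780 : ∀ i, i < 17780 → P i := stepQ 17779 Q17779 (allL N17779 (tt N18934 (iv F231784)) (tt N19018 (iv F232178)) (tt N15607 F226045) (tt N19773 (iv F235136)) (tt N15606 F226046) (tt N17779 F226047) (tt N18994 (iv F232078)) (tt N15612 F226048) (tt N19013 (iv F232156)) (tt N15605 (iv D50549)))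
theorem Q17781 : ∀ i, i < 17781 → P i := stepQ 17780 Q17780 (allL N17780 (tt N15610 F226049) (tt N15967 F226050) (tt N15617 F226051) (tt N19459 (iv F234161)) (tt N15671 F226052) (tt N15615 F226053) (tt N15666 F226054) (tt N19076 (iv F232465)) (tt N18301 (iv F228572)) (tt N15608 (iv D50550)))
theorem Q17782 : ∀ i, i < 17782 → P i := stepQ 17781 Q17781 (allL N17781 (tt N15670 F226055) (tt N15611 F226056) (tt N19216 (iv F232992)) (tt N15609 (iv D50551)) (tt N19751 (iv F235070)) (tt N17781 F226057) (tt N15628 F226058) (tt N19017 (iv F232175)) (tt N15634 F226059) (tt N19774 D52544))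
theorem Q17783 : ∀ i, i < 17783 → P i := stepQ 17782 Q17782 (allL N17782 (tt N15671 F226060) (tt N15612 F226061) (tt N15618 F226062) (tt N19774 (iv F235141)) (tt N15610 F226063) (tt N17782 F226064) (tt N15629 F226065) (tt N19018 (iv F232183)) (tt N18991 (iv F232061)) (tt N15609 (iv D50552)))
theorem Q17784 : ∀ i, i < 17784 → P i := stepQ 17783 Q17783 (allL N17783 (tt N18937 (iv F231797)) (tt N19774 (iv F235140)) (tt N19619 (iv F234710)) (tt N15612 F226066) (tt N19756 (iv F235083)) (tt N17783 F226067) (tt N18992 (iv F232066)) (tt N19773 (iv F235138)) (tt N19775 D52545) (tt N15611 (iv D50553)))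
theorem Q17785 : ∀ i, i < 17785 → P i := stepQ 17784 Q17784 (allL N17784 (tt N15614 F226068) (tt N15968 F226069) (tt N15620 F226070) (tt N19463 (iv F234181)) (tt N17784 F226071) (tt N19076 (iv F232463)) (tt N17784 F226072) (tt N15615 F226073) (tt N18303 (iv F228586)) (tt N15613 (iv D50554)))
theorem Q17786 : ∀ i, i < 17786 → P i := stepQ 17785 Q17785 (allL N17785 (tt N15619 F226074) (tt N17785 F226075) (tt N18301 (iv F228568)) (tt N18904 (iv F231624)) (tt N15778 F226076) (tt N15622 F226077) (tt N15776 F226078) (tt N19233 (iv F233080)) (tt N15617 (iv D50555)) (tt N15775 F226079))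
theorem Q17787 : ∀ i, i < 17787 → P i := stepQ 17786 Q17786 (allL N17786 (tt N15621 F226080) (tt N17786 F226081) (tt N18303 (iv F228582)) (tt N15869 (iv F226086)) (tt N17786 F226082) (tt N19233 (iv F233078)) (tt N17786 F226083) (tt N15622 F226084) (tt N15620 (iv D50556)) (tt N15779 F226085))
theorem Q17788 : ∀ i, i < 17788 → P i := stepQ 17787 Q17787 (allL N17787 (tt N15667 F226087) (tt N18247 (iv F228236)) (tt N15626 (iv D50557)) (tt N15780 F226088) (tt N19776 D52546) (tt N15961 F226089) (tt N19014 (iv F232161)) (tt N18250 (iv F228253)) (tt N19394 (iv F233860)) (tt N19777 D52547))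
theorem Q17789 : ∀ i, i < 17789 → P i := stepQ 17788 Q17788 (allL N17788 (tt N15668 F226090) (tt N18954 (iv F231882)) (tt N19776 (iv F235146)) (tt N15630 F226091) (tt N15626 (iv D50558)) (tt N19328 (iv F233559)) (tt N19015 (iv F232165)) (tt N18959 (iv F231907)) (tt N19382 (iv F233819)) (tt N19778 D52548))
theorem Q17790 : ∀ i, i < 17790 → P i := stepQ 17789 Q17789 (allL N17789 (tt N15669 F226092) (tt N18955 (iv F231889)) (tt N19777 (iv F235148)) (tt N15627 F226093) (tt N19778 (iv F235153)) (tt N15962 F226094) (tt N19016 (iv F232169)) (tt N18960 (iv F231914)) (tt N19779 D52549) (tt N15626 (iv D50559)))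
theorem Q17791 : ∀ i, i < 17791 → P i := stepQ 17790 Q17790 (allL N17790 (tt N15673 F226095) (tt N18961 (iv F231916)) (tt N19256 (iv F233224)) (tt N18959 (iv F231904)) (tt N15628 (iv D50560)) (tt N19330 (iv F233570)) (tt N19751 (iv F235071)) (tt N15630 F226096) (tt N15637 F226097) (tt N19780 D52550))
theorem Q17792 : ∀ i, i < 17792 → P i := stepQ 17791 Q17791 (allL N17791 (tt N15674 F226098) (tt N18992 (iv F232063)) (tt N19219 (iv F233007)) (tt N15629 F226099) (tt N19780 (iv F235157)) (tt N15632 F226100) (tt N19774 (iv F235143)) (tt N15631 F226101) (tt N19781 D52551) (tt N15628 (iv D50561)))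
theorem Q17793 : ∀ i, i < 17793 → P i := stepQ 17792 Q17792 (allL N17792 (tt N15679 F226102) (tt N19733 (iv F235015)) (tt N19227 (iv F233044)) (tt N19778 (iv F235152)) (tt N15631 F226103) (tt N19332 (iv F233581)) (tt N19022 (iv F232201)) (tt N19780 (iv F235158)) (tt N19782 D52552) (tt N15630 (iv D50562)))
theorem Q17794 : ∀ i, i < 17794 → P i := stepQ 17793 Q17793 (allL N17793 (tt N15680 F226104) (tt N19736 (iv F235027)) (tt N19155 (iv F232748)) (tt N18964 (iv F231935)) (tt N19782 (iv F235164)) (tt N15633 F226105) (tt N19023 (iv F232206)) (tt N19781 (iv F235161)) (tt N15631 (iv D50563)) (tt N15643 F226106))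
theorem Q17795 : ∀ i, i < 17795 → P i := stepQ 17794 Q17794 (allL N17794 (tt N15685 F226107) (tt N19735 (iv F235021)) (tt N19167 (iv F232791)) (tt N18968 (iv F231949)) (tt N19334 (iv F233590)) (tt N19781 (iv F235160)) (tt N17794 F226108) (tt N15633 F226109) (tt N15632 (iv D50564)) (tt N15646 F226110))
theorem Q17796 : ∀ i, i < 17796 → P i := stepQ 17795 Q17795 (allL N17795 (tt N15704 F226111) (tt N19217 (iv F232998)) (tt N15634 (iv D50565)) (tt N15652 F226112) (tt N19783 D52553) (tt N17795 F226113) (tt N15636 F226114) (tt N19030 (iv F232243)) (tt N19216 (iv F232996)) (tt N19784 D52554))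
theorem Q17797 : ∀ i, i < 17797 → P i := stepQ 17796 Q17796 (allL N17796 (tt N15705 F226115) (tt N19748 (iv F235059)) (tt N19783 (iv F235167)) (tt N19631 (iv F234749)) (tt N15634 (iv D50566)) (tt N19785 D52555) (tt N15637 F226116) (tt N19031 (iv F232248)) (tt N19751 F235072) (tt N19786 D52556))
theorem Q17798 : ∀ i, i < 17798 → P i := stepQ 17797 Q17797 (allL N17797 (tt N15706 F226117) (tt N19766 (iv F235114)) (tt N19784 (iv F235170)) (tt N15635 F226118) (tt N19786 (iv F235177)) (tt N17797 F226119) (tt N15638 F226120) (tt N19032 (iv F232253)) (tt N19787 D52557) (tt N15634 (iv D50567)))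
theorem Q17799 : ∀ i, i < 17799 → P i := stepQ 17798 Q17798 (allL N17798 (tt N19250 (iv F233186)) (tt N15636 (iv D50568)) (tt N19761 (iv F235094)) (tt N15654 F226121) (tt N19788 D52558) (tt N15644 F226122) (tt N19217 (iv F233001)) (tt N15639 F226123) (tt N19212 (iv F232967)) (tt N19789 D52559))
theorem Q17800 : ∀ i, i < 17800 → P i := stepQ 17799 Q17799 (allL N17799 (tt N15708 F226124) (tt N19788 (iv F235182)) (tt N15637 F226125) (tt N18413 (iv F229196)) (tt N15636 (iv D50569)) (tt N18412 F229193) (tt N19783 (iv F235168)) (tt N15640 F226126) (tt N19256 (iv F233226)) (tt N19790 D52560))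
theorem Q17801 : ∀ i, i < 17801 → P i := stepQ 17800 Q17800 (allL N17800 (tt N15709 F226127) (tt N19789 (iv F235184)) (tt N15638 F226128) (tt N15656 F226129) (tt N19790 (iv F235190)) (tt N15645 F226130) (tt N19784 (iv F235173)) (tt N15641 F226131) (tt N19791 D52561) (tt N15636 (iv D50570)))
theorem Q17802 : ∀ i, i < 17802 → P i := stepQ 17801 Q17801 (allL N17801 (tt N15711 F226132) (tt N19749 (iv F235062)) (tt N19790 (iv F235189)) (tt N19633 (iv F234755)) (tt N15638 F226133) (tt N19335 (iv F233597)) (tt N19786 (iv F235178)) (tt N15642 F226134) (tt N19792 D52562) (tt N15637 (iv D50571)))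
theorem Q17803 : ∀ i, i < 17803 → P i := stepQ 17802 Q17802 (allL N17802 (tt N15712 F226135) (tt N19767 (iv F235118)) (tt N19791 (iv F235193)) (tt N19725 (iv F234995)) (tt N19792 (iv F235197)) (tt N15646 F226136) (tt N19787 (iv F235181)) (tt N15643 F226137) (tt N15638 (iv D50572)) (tt N19781 (iv F235162)))
theorem Q17804 : ∀ i, i < 17804 → P i := stepQ 17803 Q17803 (allL N17803 (tt N15639 (iv D50573)) (tt N15713 F226138) (tt N18391 (iv F229086)) (tt N15658 F226139) (tt N19793 D52563) (tt N15647 F226140) (tt N18388 (iv F229071)) (tt N19250 (iv F233190)) (tt N18429 (iv F229277)) (tt N19794 D52564))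
theorem Q17805 : ∀ i, i < 17805 → P i := stepQ 17804 Q17804 (allL N17804 (tt N19793 (iv F235199)) (tt N15640 F226141) (tt N19752 (iv F235074)) (tt N19795 D52565) (tt N15639 (iv D50574)) (tt N19338 (iv F233612)) (tt N19038 (iv F232275)) (tt N19788 (iv F235183)) (tt N19257 (iv F233230)) (tt N19796 D52566))
theorem Q17806 : ∀ i, i < 17806 → P i := stepQ 17805 Q17805 (allL N17805 (tt N19794 (iv F235201)) (tt N15641 F226142) (tt N19768 (iv F235122)) (tt N15660 F226143) (tt N19796 (iv F235208)) (tt N15648 F226144) (tt N19039 (iv F232281)) (tt N19789 (iv F235187)) (tt N19797 D52567) (tt N15639 (iv D50575)))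
theorem Q17807 : ∀ i, i < 17807 → P i := stepQ 17806 Q17806 (allL N17806 (tt N15716 F226145) (tt N19795 (iv F235205)) (tt N18406 (iv F229164)) (tt N15640 (iv D50576)) (tt N15661 F226146) (tt N18404 (iv F229155)) (tt N19040 (iv F232285)) (tt N18413 (iv F229198)) (tt N19798 D52568) (tt N19799 D52569))
theorem Q17808 : ∀ i, i < 17808 → P i := stepQ 17807 Q17807 (allL N17807 (tt N15718 F226147) (tt N19796 (iv F235207)) (tt N15642 F226148) (tt N19799 (iv F235214)) (tt N15641 F226149) (tt N19340 (iv F233620)) (tt N19042 (iv F232293)) (tt N19790 (iv F235191)) (tt N19800 D52570) (tt N15640 (iv D50577)))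
theorem Q17809 : ∀ i, i < 17809 → P i := stepQ 17808 Q17808 (allL N17808 (tt N15719 F226150) (tt N19797 (iv F235209)) (tt N15643 F226151) (tt N19100 (iv F232548)) (tt N19800 (iv F235218)) (tt N15649 F226152) (tt N19043 (iv F232298)) (tt N19791 (iv F235195)) (tt N15641 (iv D50578)) (tt N19155 (iv F232752)))
theorem Q17810 : ∀ i, i < 17810 → P i := stepQ 17809 Q17809 (allL N17809 (tt N15722 F226153) (tt N19759 (iv F235089)) (tt N19800 (iv F235217)) (tt N19801 D52571) (tt N15643 F226154) (tt N19342 (iv F233627)) (tt N19045 (iv F232305)) (tt N19792 (iv F235198)) (tt N15642 (iv D50579)) (tt N19782 (iv F235165)))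
theorem Q17811 : ∀ i, i < 17811 → P i := stepQ 17810 Q17810 (allL N17810 (tt N15644 (iv D50580)) (tt N15723 F226155) (tt N18397 (iv F229118)) (tt N15663 F226156) (tt N19343 (iv F233631)) (tt N19250 (iv F233188)) (tt N17810 F226157) (tt N15647 F226158) (tt N18440 (iv F229328)) (tt N19802 D52572))
theorem Q17812 : ∀ i, i < 17812 → P i := stepQ 17811 Q17811 (allL N17811 (tt N19802 (iv F235220)) (tt N15645 F226159) (tt N19762 (iv F235098)) (tt N15664 F226160) (tt N19344 (iv F233638)) (tt N19789 (iv F235186)) (tt N17811 F226161) (tt N15648 F226162) (tt N19803 D52573) (tt N15644 (iv D50581)))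
theorem Q17813 : ∀ i, i < 17813 → P i := stepQ 17812 Q17812 (allL N17812 (tt N15728 F226163) (tt N19803 (iv F235225)) (tt N15646 F226164) (tt N19107 (iv F232578)) (tt N19345 (iv F233643)) (tt N19791 (iv F235194)) (tt N17812 F226165) (tt N15649 F226166) (tt N15645 (iv D50582)) (tt N19167 (iv F232795)))
theorem Q17814 : ∀ i, i < 17814 → P i := stepQ 17813 Q17813 (allL N17813 (tt N15648 F226167) (tt N15733 F226168) (tt N18398 (iv F229125)) (tt N15665 F226169) (tt N19346 (iv F233650)) (tt N19794 (iv F235204)) (tt N15650 F226170) (tt N19802 (iv F235224)) (tt N19804 D52574) (tt N15647 (iv D50583)))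
theorem Q17815 : ∀ i, i < 17815 → P i := stepQ 17814 Q17814 (allL N17814 (tt N19804 (iv F235228)) (tt N15649 F226171) (tt N19769 (iv F235126)) (tt N19111 (iv F232593)) (tt N19347 (iv F233654)) (tt N19797 (iv F235210)) (tt N15651 F226172) (tt N19803 (iv F235227)) (tt N15648 (iv D50584)) (tt N19176 (iv F232824)))
theorem Q17816 : ∀ i, i < 17816 → P i := stepQ 17815 Q17815 (allL N17815 (tt N15651 F226173) (tt N15745 F226174) (tt N18399 (iv F229131)) (tt N18438 (iv F229313)) (tt N19349 (iv F233663)) (tt N18395 (iv F229109)) (tt N19804 (iv F235230)) (tt N17815 F226175) (tt N15650 (iv D50585)) (tt N18442 (iv F229342)))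
theorem Q17817 : ∀ i, i < 17817 → P i := stepQ 17816 Q17816 (allL N17816 (tt N15760 F226176) (tt N19255 (iv F233217)) (tt N15653 F226177) (tt N19784 (iv F235171)) (tt N19221 (iv F233021)) (tt N17816 F226178) (tt N15656 F226179) (tt N19065 (iv F232396)) (tt N19220 (iv F233017)) (tt N15652 (iv D50586)))
theorem Q17818 : ∀ i, i < 17818 → P i := stepQ 17817 Q17817 (allL N17817 (tt N19251 (iv F233191)) (tt N15656 F226180) (tt N17817 F226181) (tt N19789 (iv F235185)) (tt N19249 (iv F233181)) (tt N15664 F226182) (tt N19255 (iv F233221)) (tt N15660 F226183) (tt N19248 (iv F233177)) (tt N15654 (iv D50587)))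
theorem Q17819 : ∀ i, i < 17819 → P i := stepQ 17818 Q17818 (allL N17818 (tt N15763 F226184) (tt N19249 (iv F233179)) (tt N15657 F226185) (tt N18430 (iv F229280)) (tt N15656 F226186) (tt N15772 F226187) (tt N19221 (iv F233023)) (tt N15662 F226188) (tt N15765 F226189) (tt N15655 (iv D50588)))
theorem Q17820 : ∀ i, i < 17820 → P i := stepQ 17819 Q17819 (allL N17819 (tt N15660 F226190) (tt N15765 F226191) (tt N17819 F226192) (tt N19794 (iv F235203)) (tt N19248 (iv F233174)) (tt N15665 F226193) (tt N19070 (iv F232428)) (tt N19251 (iv F233197)) (tt N19249 (iv F233185)) (tt N15658 (iv D50589)))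
theorem Q17821 : ∀ i, i < 17821 → P i := stepQ 17820 Q17820 (allL N17820 (tt N19089 (iv F232504)) (tt N15661 F226194) (tt N19161 (iv F232767)) (tt N15659 (iv D50590)) (tt N19795 (iv F235206)) (tt N15900 F226195) (tt N19071 (iv F232433)) (tt N18426 (iv F229260)) (tt N19133 (iv F232690)) (tt N19805 D52575))
theorem Q17822 : ∀ i, i < 17822 → P i := stepQ 17821 Q17821 (allL N17821 (tt N19248 (iv F233171)) (tt N15662 F226196) (tt N17821 F226197) (tt N19805 (iv F235232)) (tt N15660 F226198) (tt N15901 F226199) (tt N19072 (iv F232440)) (tt N19249 (iv F233184)) (tt N19251 (iv F233198)) (tt N15659 (iv D50591)))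
theorem Q17823 : ∀ i, i < 17823 → P i := stepQ 17822 Q17822 (allL N17822 (tt N15767 F226200) (tt N19133 (iv F232685)) (tt N18384 (iv F229046)) (tt N15782 F226201) (tt N19798 (iv F235212)) (tt N15903 F226202) (tt N19073 (iv F232447)) (tt N18388 (iv F229072)) (tt N15661 (iv D50592)) (tt N19806 D52576))
theorem Q17824 : ∀ i, i < 17824 → P i := stepQ 17823 Q17823 (allL N17823 (tt N15768 F226203) (tt N19805 (iv F235231)) (tt N18423 (iv F229239)) (tt N15662 F226204) (tt N19799 (iv F235215)) (tt N15904 F226205) (tt N19074 (iv F232452)) (tt N18430 (iv F229282)) (tt N19807 D52577) (tt N15661 (iv D50593)))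
theorem Q17825 : ∀ i, i < 17825 → P i := stepQ 17824 Q17824 (allL N17824 (tt N15664 F226206) (tt N15770 F226207) (tt N17824 F226208) (tt N19802 (iv F235222)) (tt N15902 F226209) (tt N19251 (iv F233195)) (tt N17824 F226210) (tt N15665 F226211) (tt N15901 F226212) (tt N15663 (iv D50594)))
theorem Q17826 : ∀ i, i < 17826 → P i := stepQ 17825 Q17825 (allL N17825 (tt N19808 D52578) (tt N15667 (iv D50595)) (tt N19429 (iv F234032)) (tt N15786 F226213) (tt N19809 D52579) (tt N15963 F226214) (tt N19080 (iv F232477)) (tt N19453 (iv F234134)) (tt N19497 (iv F234286)) (tt N19810 D52580))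
theorem Q17827 : ∀ i, i < 17827 → P i := stepQ 17826 Q17826 (allL N17826 (tt N19776 (iv F235145)) (tt N19809 (iv F235243)) (tt N15668 F226215) (tt N19811 D52581) (tt N15667 (iv D50596)) (tt N19438 (iv F234072)) (tt N19081 (iv F232479)) (tt N19445 (iv F234098)) (tt N19473 (iv F234215)) (tt N19812 D52582))
theorem Q17828 : ∀ i, i < 17828 → P i := stepQ 17827 Q17827 (allL N17827 (tt N19777 (iv F235147)) (tt N19810 (iv F235244)) (tt N15669 F226216) (tt N15788 F226217) (tt N19812 (iv F235250)) (tt N15964 F226218) (tt N19082 (iv F232483)) (tt N19456 (iv F234150)) (tt N19813 D52583) (tt N15667 (iv D50597)))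
theorem Q17829 : ∀ i, i < 17829 → P i := stepQ 17828 Q17828 (allL N17828 (tt N19778 (iv F235151)) (tt N19432 (iv F234045)) (tt N19812 (iv F235249)) (tt N15679 F226219) (tt N15669 F226220) (tt N19440 (iv F234082)) (tt N19084 (iv F232488)) (tt N19449 (iv F234114)) (tt N19814 D52584) (tt N15668 (iv D50598)))
theorem Q17830 : ∀ i, i < 17830 → P i := stepQ 17829 Q17829 (allL N17829 (tt N19779 (iv F235154)) (tt N19433 (iv F234050)) (tt N19813 (iv F235251)) (tt N19728 (iv F235002)) (tt N19814 (iv F235253)) (tt N15965 F226221) (tt N19085 (iv F232490)) (tt N19460 (iv F234166)) (tt N15669 (iv D50599)) (tt N19503 (iv F234312)))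
theorem Q17831 : ∀ i, i < 17831 → P i := stepQ 17830 Q17830 (allL N17830 (tt N19216 (iv F232990)) (tt N19259 (iv F233239)) (tt N15670 (iv D50600)) (tt N15791 F226222) (tt N19815 D52585) (tt N17830 F226223) (tt N15672 F226224) (tt N19086 (iv F232495)) (tt N15704 F226225) (tt N19816 D52586))
theorem Q17832 : ∀ i, i < 17832 → P i := stepQ 17831 Q17831 (allL N17831 (tt N19751 (iv F235068)) (tt N19435 (iv F234058)) (tt N19815 (iv F235254)) (tt N19448 (iv F234107)) (tt N15670 (iv D50601)) (tt N19817 D52587) (tt N15673 F226226) (tt N19087 (iv F232498)) (tt N15705 F226227) (tt N19818 D52588))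
theorem Q17833 : ∀ i, i < 17833 → P i := stepQ 17832 Q17832 (allL N17832 (tt N19774 (iv F235139)) (tt N19436 (iv F234062)) (tt N19816 (iv F235257)) (tt N15671 F226228) (tt N19818 (iv F235263)) (tt N17832 F226229) (tt N15674 F226230) (tt N19088 (iv F232503)) (tt N19819 D52589) (tt N15670 (iv D50602)))
theorem Q17834 : ∀ i, i < 17834 → P i := stepQ 17833 Q17833 (allL N17833 (tt N19252 (iv F233199)) (tt N15672 (iv D50603)) (tt N19437 (iv F234066)) (tt N15793 F226231) (tt N19820 D52590) (tt N15681 F226232) (tt N19259 (iv F233241)) (tt N15675 F226233) (tt N15707 F226234) (tt N19821 D52591))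
theorem Q17835 : ∀ i, i < 17835 → P i := stepQ 17834 Q17834 (allL N17834 (tt N19256 (iv F233223)) (tt N19820 (iv F235268)) (tt N15673 F226235) (tt N19822 D52592) (tt N15672 (iv D50604)) (tt N19430 (iv F234038)) (tt N19815 (iv F235255)) (tt N15676 F226236) (tt N15708 F226237) (tt N19823 D52593))
theorem Q17836 : ∀ i, i < 17836 → P i := stepQ 17835 Q17835 (allL N17835 (tt N19219 (iv F233006)) (tt N19821 (iv F235271)) (tt N15674 F226238) (tt N15795 F226239) (tt N19823 (iv F235278)) (tt N15683 F226240) (tt N19816 (iv F235260)) (tt N15677 F226241) (tt N19824 D52594) (tt N15672 (iv D50605)))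
theorem Q17837 : ∀ i, i < 17837 → P i := stepQ 17836 Q17836 (allL N17836 (tt N19780 (iv F235156)) (tt N19440 (iv F234079)) (tt N19823 (iv F235277)) (tt N19449 (iv F234111)) (tt N15674 F226242) (tt N19432 (iv F234048)) (tt N19818 (iv F235264)) (tt N15679 F226243) (tt N19825 D52595) (tt N15673 (iv D50606)))
theorem Q17838 : ∀ i, i < 17838 → P i := stepQ 17837 Q17837 (allL N17837 (tt N19781 (iv F235159)) (tt N19441 (iv F234084)) (tt N19824 (iv F235280)) (tt N19732 (iv F235011)) (tt N19825 (iv F235284)) (tt N15685 F226244) (tt N19819 (iv F235266)) (tt N15680 F226245) (tt N15674 (iv D50607)) (tt N15712 F226246))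
theorem Q17839 : ∀ i, i < 17839 → P i := stepQ 17838 Q17838 (allL N17838 (tt N15675 (iv D50608)) (tt N18429 (iv F229273)) (tt N19173 (iv F232811)) (tt N15797 F226247) (tt N19826 D52596) (tt N15686 F226248) (tt N18426 (iv F229259)) (tt N19252 (iv F233203)) (tt N15713 F226249) (tt N19827 D52597))
theorem Q17840 : ∀ i, i < 17840 → P i := stepQ 17839 Q17839 (allL N17839 (tt N19826 (iv F235287)) (tt N15676 F226250) (tt N19442 (iv F234089)) (tt N19828 D52598) (tt N15675 (iv D50609)) (tt N19829 D52599) (tt N19095 (iv F232528)) (tt N19820 (iv F235269)) (tt N15714 F226251) (tt N19830 D52600))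
theorem Q17841 : ∀ i, i < 17841 → P i := stepQ 17840 Q17840 (allL N17840 (tt N19827 (iv F235289)) (tt N15677 F226252) (tt N19443 (iv F234092)) (tt N15799 F226253) (tt N19830 (iv F235298)) (tt N15688 F226254) (tt N19096 (iv F232533)) (tt N19821 (iv F235274)) (tt N19831 D52601) (tt N15675 (iv D50610)))
theorem Q17842 : ∀ i, i < 17842 → P i := stepQ 17841 Q17841 (allL N17841 (tt N19261 (iv F233248)) (tt N19828 (iv F235292)) (tt N19811 (iv F235247)) (tt N15676 (iv D50611)) (tt N15800 F226255) (tt N19832 D52602) (tt N19097 (iv F232536)) (tt N19822 (iv F235276)) (tt N19833 D52603) (tt N19834 D52604))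
theorem Q17843 : ∀ i, i < 17843 → P i := stepQ 17842 Q17842 (allL N17842 (tt N19262 (iv F233252)) (tt N19829 (iv F235294)) (tt N15678 F226256) (tt N19832 (iv F235302)) (tt N15689 F226257) (tt N15676 (iv D50612)) (tt N19835 D52605) (tt N19430 (iv F234039)) (tt N15717 F226258) (tt N19836 D52606))
theorem Q17844 : ∀ i, i < 17844 → P i := stepQ 17843 Q17843 (allL N17843 (tt N19227 (iv F233043)) (tt N19830 (iv F235297)) (tt N15679 F226259) (tt N19834 (iv F235306)) (tt N15677 F226260) (tt N19836 (iv F235313)) (tt N19099 (iv F232545)) (tt N19823 (iv F235279)) (tt N19837 D52607) (tt N15676 (iv D50613)))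
theorem Q17845 : ∀ i, i < 17845 → P i := stepQ 17844 Q17844 (allL N17844 (tt N19155 (iv F232747)) (tt N19831 (iv F235299)) (tt N15680 F226261) (tt N19043 (iv F232296)) (tt N19837 (iv F235315)) (tt N15691 F226262) (tt N19100 (iv F232550)) (tt N19824 (iv F235282)) (tt N15677 (iv D50614)) (tt N15719 F226263))
theorem Q17846 : ∀ i, i < 17846 → P i := stepQ 17845 Q17845 (allL N17845 (tt N18234 (iv F228156)) (tt N19448 (iv F234106)) (tt N19835 (iv F235308)) (tt N19435 (iv F234059)) (tt N15692 F226264) (tt N19101 (iv F232553)) (tt N15678 (iv D50615)) (tt N19838 D52608) (tt N15720 F226265) (tt N19839 D52609))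
theorem Q17847 : ∀ i, i < 17847 → P i := stepQ 17846 Q17846 (allL N17846 (tt N19332 (iv F233578)) (tt N19449 (iv F234110)) (tt N19836 (iv F235311)) (tt N19440 (iv F234080)) (tt N15693 F226266) (tt N15679 F226267) (tt N19839 (iv F235320)) (tt N19432 (iv F234049)) (tt N19840 D52610) (tt N15678 (iv D50616)))
theorem Q17848 : ∀ i, i < 17848 → P i := stepQ 17847 Q17847 (allL N17847 (tt N19782 (iv F235163)) (tt N19450 (iv F234115)) (tt N19837 (iv F235314)) (tt N19841 D52611) (tt N15680 F226268) (tt N19840 (iv F235322)) (tt N19103 (iv F232558)) (tt N19825 (iv F235285)) (tt N15679 (iv D50617)) (tt N15722 F226269))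
theorem Q17849 : ∀ i, i < 17849 → P i := stepQ 17848 Q17848 (allL N17848 (tt N15681 (iv D50618)) (tt N18440 (iv F229323)) (tt N19186 (iv F232852)) (tt N15802 F226270) (tt N19519 (iv F234376)) (tt N19252 (iv F233201)) (tt N17848 F226271) (tt N15686 F226272) (tt N15723 F226273) (tt N19842 D52612))
theorem Q17850 : ∀ i, i < 17850 → P i := stepQ 17849 Q17849 (allL N17849 (tt N19519 (iv F234372)) (tt N15682 F226274) (tt N15963 F226275) (tt N17849 F226276) (tt N15681 (iv D50619)) (tt N19429 (iv F234034)) (tt N17849 F226277) (tt N15687 F226278) (tt N15724 F226279) (tt N19843 D52613))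
theorem Q17851 : ∀ i, i < 17851 → P i := stepQ 17850 Q17850 (allL N17850 (tt N19842 (iv F235325)) (tt N15683 F226280) (tt N19451 (iv F234119)) (tt N15803 F226281) (tt N19843 (iv F235332)) (tt N19821 (iv F235273)) (tt N17850 F226282) (tt N15688 F226283) (tt N19844 D52614) (tt N15681 (iv D50620)))
theorem Q17852 : ∀ i, i < 17852 → P i := stepQ 17851 Q17851 (allL N17851 (tt N19231 (iv F233064)) (tt N19843 (iv F235329)) (tt N15684 F226284) (tt N17851 F226285) (tt N15683 F226286) (tt N19431 (iv F234043)) (tt N17851 F226287) (tt N15690 F226288) (tt N19845 D52615) (tt N15682 (iv D50621)))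
theorem Q17853 : ∀ i, i < 17853 → P i := stepQ 17852 Q17852 (allL N17852 (tt N19167 (iv F232790)) (tt N19844 (iv F235335)) (tt N15685 F226289) (tt N19048 (iv F232322)) (tt N19845 (iv F235341)) (tt N19824 (iv F235281)) (tt N17852 F226290) (tt N15691 F226291) (tt N15683 (iv D50622)) (tt N15728 F226292))
theorem Q17854 : ∀ i, i < 17854 → P i := stepQ 17853 Q17853 (allL N17853 (tt N19334 (iv F233587)) (tt N15965 F226293) (tt N19845 (iv F235340)) (tt N19373 (iv F233778)) (tt N15685 F226294) (tt N19433 (iv F234051)) (tt N17853 F226295) (tt N15694 F226296) (tt N15684 (iv D50623)) (tt N15731 F226297))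
theorem Q17855 : ∀ i, i < 17855 → P i := stepQ 17854 Q17854 (allL N17854 (tt N15688 F226298) (tt N18441 (iv F229330)) (tt N19187 (iv F232859)) (tt N15804 F226299) (tt N19520 (iv F234383)) (tt N19827 (iv F235291)) (tt N15695 F226300) (tt N19842 (iv F235328)) (tt N19846 D52616) (tt N15686 (iv D50624)))
theorem Q17856 : ∀ i, i < 17856 → P i := stepQ 17855 Q17855 (allL N17855 (tt N19507 (iv F234328)) (tt N15689 F226301) (tt N19453 (iv F234131)) (tt N17855 F226302) (tt N19829 (iv F235295)) (tt N15687 (iv D50625)) (tt N19504 (iv F234317)) (tt N19429 (iv F234035)) (tt N15734 F226303) (tt N19847 D52617))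
theorem Q17857 : ∀ i, i < 17857 → P i := stepQ 17856 Q17856 (allL N17856 (tt N19520 (iv F234379)) (tt N15690 F226304) (tt N19454 (iv F234138)) (tt N17856 F226305) (tt N15688 F226306) (tt N19847 (iv F235350)) (tt N15696 F226307) (tt N19843 (iv F235334)) (tt N19848 D52618) (tt N15687 (iv D50626)))
theorem Q17858 : ∀ i, i < 17858 → P i := stepQ 17857 Q17857 (allL N17857 (tt N19846 (iv F235345)) (tt N15691 F226308) (tt N19455 (iv F234144)) (tt N19052 (iv F232338)) (tt N19848 (iv F235352)) (tt N19831 (iv F235300)) (tt N15697 F226309) (tt N19844 (iv F235338)) (tt N15688 (iv D50627)) (tt N15736 F226310))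
theorem Q17859 : ∀ i, i < 17859 → P i := stepQ 17858 Q17858 (allL N17858 (tt N18233 (iv F228150)) (tt N19504 (iv F234314)) (tt N15692 F226311) (tt N17858 F226312) (tt N19835 (iv F235309)) (tt N15698 F226313) (tt N15689 (iv D50628)) (tt N19849 D52619) (tt N15737 F226314) (tt N19850 D52620))
theorem Q17860 : ∀ i, i < 17860 → P i := stepQ 17859 Q17859 (allL N17859 (tt N19232 (iv F233070)) (tt N19847 (iv F235348)) (tt N15693 F226315) (tt N17859 F226316) (tt N19836 (iv F235312)) (tt N15690 F226317) (tt N19850 (iv F235362)) (tt N19431 (iv F234044)) (tt N19851 D52621) (tt N15689 (iv D50629)))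
theorem Q17861 : ∀ i, i < 17861 → P i := stepQ 17860 Q17860 (allL N17860 (tt N19181 (iv F232836)) (tt N19848 (iv F235351)) (tt N15694 F226318) (tt N19852 D52622) (tt N15691 F226319) (tt N19851 (iv F235364)) (tt N15700 F226320) (tt N19845 (iv F235343)) (tt N15690 (iv D50630)) (tt N15739 F226321))
theorem Q17862 : ∀ i, i < 17862 → P i := stepQ 17861 Q17861 (allL N17861 (tt N18231 (iv F228139)) (tt N19075 (iv F232454)) (tt N19849 (iv F235355)) (tt N15966 F226322) (tt N19838 (iv F235317)) (tt N15701 F226323) (tt N18366 (iv F228963)) (tt N15692 (iv D50631)) (tt N15741 F226324) (tt N19853 D52623))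
theorem Q17863 : ∀ i, i < 17863 → P i := stepQ 17862 Q17862 (allL N17862 (tt N18235 (iv F228160)) (tt N19459 (iv F234160)) (tt N19850 (iv F235359)) (tt N15967 F226325) (tt N19839 (iv F235319)) (tt N15702 F226326) (tt N15693 F226327) (tt N19853 (iv F235371)) (tt N19854 D52624) (tt N15692 (iv D50632)))
theorem Q17864 : ∀ i, i < 17864 → P i := stepQ 17863 Q17863 (allL N17863 (tt N19333 (iv F233582)) (tt N19460 (iv F234164)) (tt N19851 (iv F235363)) (tt N19371 (iv F233767)) (tt N19840 (iv F235321)) (tt N15694 F226328) (tt N19854 (iv F235373)) (tt N19433 (iv F234052)) (tt N15693 (iv D50633)) (tt N15743 F226329))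
theorem Q17865 : ∀ i, i < 17865 → P i := stepQ 17864 Q17864 (allL N17864 (tt N15697 F226330) (tt N18442 (iv F229336)) (tt N19188 (iv F232865)) (tt N18395 (iv F229107)) (tt N19521 (iv F234388)) (tt N18438 (iv F229315)) (tt N19846 (iv F235346)) (tt N17864 F226331) (tt N15695 (iv D50634)) (tt N15745 F226332))
theorem Q17866 : ∀ i, i < 17866 → P i := stepQ 17865 Q17865 (allL N17865 (tt N19521 (iv F234385)) (tt N15700 F226333) (tt N19461 (iv F234170)) (tt N19855 D52625) (tt N15697 F226334) (tt N19518 (iv F234369)) (tt N19848 (iv F235353)) (tt N17865 F226335) (tt N15696 (iv D50635)) (tt N15748 F226336))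
theorem Q17867 : ∀ i, i < 17867 → P i := stepQ 17866 Q17866 (allL N17866 (tt N18236 (iv F228165)) (tt N19495 (iv F234271)) (tt N15701 F226337) (tt N17866 F226338) (tt N19119 (iv F232626)) (tt N19849 (iv F235357)) (tt N17866 F226339) (tt N15698 (iv D50636)) (tt N15750 F226340) (tt N19856 D52626))
theorem Q17868 : ∀ i, i < 17868 → P i := stepQ 17867 Q17867 (allL N17867 (tt N18239 (iv F228184)) (tt N19505 (iv F234320)) (tt N15702 F226341) (tt N17867 F226342) (tt N19120 (iv F232633)) (tt N19850 (iv F235361)) (tt N15699 F226343) (tt N19856 (iv F235382)) (tt N19857 D52627) (tt N15698 (iv D50637)))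
theorem Q17869 : ∀ i, i < 17869 → P i := stepQ 17868 Q17868 (allL N17868 (tt N18243 (iv F228207)) (tt N19518 (iv F234366)) (tt N15703 F226344) (tt N19858 D52628) (tt N19121 (iv F232638)) (tt N15700 F226345) (tt N19857 (iv F235384)) (tt N17868 F226346) (tt N15699 (iv D50638)) (tt N15752 F226347))
theorem Q17870 : ∀ i, i < 17870 → P i := stepQ 17869 Q17869 (allL N17869 (tt N19194 (iv F232889)) (tt N19855 (iv F235375)) (tt N19375 (iv F233788)) (tt N15700 (iv D50639)) (tt N19057 (iv F232357)) (tt N19858 (iv F235386)) (tt N19852 (iv F235366)) (tt N17869 F226348) (tt N17869 F226349) (tt N15753 F226350))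
theorem Q17871 : ∀ i, i < 17871 → P i := stepQ 17870 Q17870 (allL N17870 (tt N18238 (iv F228179)) (tt N19463 (iv F234180)) (tt N19856 (iv F235379)) (tt N15968 F226351) (tt N19123 (iv F232649)) (tt N19853 (iv F235370)) (tt N17870 F226352) (tt N15702 F226353) (tt N19859 D52629) (tt N15701 (iv D50640)))
theorem Q17872 : ∀ i, i < 17872 → P i := stepQ 17871 Q17871 (allL N17871 (tt N18242 (iv F228202)) (tt N19464 (iv F234185)) (tt N19857 (iv F235383)) (tt N18334 (iv F228770)) (tt N19124 (iv F232652)) (tt N19854 (iv F235372)) (tt N15703 F226354) (tt N19859 (iv F235391)) (tt N15702 (iv D50641)) (tt N15756 F226355))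
theorem Q17873 : ∀ i, i < 17873 → P i := stepQ 17872 Q17872 (allL N17872 (tt N19783 (iv F235166)) (tt N19261 (iv F233249)) (tt N15705 F226356) (tt N19257 (iv F233228)) (tt N15704 (iv D50642)) (tt N19860 D52630) (tt N15708 F226357) (tt N19128 (iv F232671)) (tt N19815 (iv F235256)) (tt N19861 D52631))
theorem Q17874 : ∀ i, i < 17874 → P i := stepQ 17873 Q17873 (allL N17873 (tt N19784 (iv F235169)) (tt N19226 (iv F233039)) (tt N15706 F226358) (tt N15760 F226359) (tt N19861 (iv F235396)) (tt N17873 F226360) (tt N15709 F226361) (tt N19129 (iv F232676)) (tt N19862 D52632) (tt N15704 (iv D50643)))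
theorem Q17875 : ∀ i, i < 17875 → P i := stepQ 17874 Q17874 (allL N17874 (tt N19785 (iv F235174)) (tt N19467 (iv F234194)) (tt N19860 (iv F235393)) (tt N19658 (iv F234823)) (tt N17874 F226362) (tt N15705 (iv D50644)) (tt N19863 D52633) (tt N19130 (iv F232678)) (tt N19817 (iv F235262)) (tt N19864 D52634))
theorem Q17876 : ∀ i, i < 17876 → P i := stepQ 17875 Q17875 (allL N17875 (tt N19786 (iv F235176)) (tt N19468 (iv F234196)) (tt N19861 (iv F235395)) (tt N19659 (iv F234824)) (tt N15706 F226363) (tt N19864 (iv F235404)) (tt N15711 F226364) (tt N19131 (iv F232681)) (tt N19865 D52635) (tt N15705 (iv D50645)))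
theorem Q17877 : ∀ i, i < 17877 → P i := stepQ 17876 Q17876 (allL N17876 (tt N19787 (iv F235179)) (tt N19469 (iv F234199)) (tt N19862 (iv F235398)) (tt N19741 (iv F235039)) (tt N19865 (iv F235405)) (tt N17876 F226365) (tt N15712 F226366) (tt N19132 (iv F232684)) (tt N15706 (iv D50646)) (tt N19819 (iv F235267)))
theorem Q17878 : ∀ i, i < 17878 → P i := stepQ 17877 Q17877 (allL N17877 (tt N19097 (iv F232534)) (tt N15708 F226367) (tt N19470 (iv F234203)) (tt N15807 F226368) (tt N15707 (iv D50647)) (tt N19866 D52636) (tt N19261 (iv F233251)) (tt N15714 F226369) (tt N19820 (iv F235270)) (tt N19867 D52637))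
theorem Q17879 : ∀ i, i < 17879 → P i := stepQ 17878 Q17878 (allL N17878 (tt N19253 (iv F233204)) (tt N15709 F226370) (tt N19471 (iv F234206)) (tt N15761 F226371) (tt N19867 (iv F235413)) (tt N15725 F226372) (tt N19226 (iv F233041)) (tt N15715 F226373) (tt N19868 D52638) (tt N15707 (iv D50648)))
theorem Q17880 : ∀ i, i < 17880 → P i := stepQ 17879 Q17879 (allL N17879 (tt N18413 (iv F229194)) (tt N15807 F226374) (tt N18343 (iv F228824)) (tt N15708 (iv D50649)) (tt N15762 F226375) (tt N18341 (iv F228813)) (tt N19257 (iv F233229)) (tt N15716 F226376) (tt N19038 (iv F232277)) (tt N19869 D52639))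
theorem Q17881 : ∀ i, i < 17881 → P i := stepQ 17880 Q17880 (allL N17880 (tt N18412 (iv F229188)) (tt N19866 (iv F235407)) (tt N15710 F226377) (tt N18341 (iv F228812)) (tt N15726 F226378) (tt N15708 (iv D50650)) (tt N19387 (iv F233836)) (tt N15717 F226379) (tt N19430 (iv F234040)) (tt N19870 D52640))
theorem Q17882 : ∀ i, i < 17882 → P i := stepQ 17881 Q17881 (allL N17881 (tt N19790 (iv F235188)) (tt N19867 (iv F235411)) (tt N15711 F226380) (tt N19869 (iv F235420)) (tt N15709 F226381) (tt N19870 (iv F235425)) (tt N19861 (iv F235397)) (tt N15718 F226382) (tt N19871 D52641) (tt N15708 (iv D50651)))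
theorem Q17883 : ∀ i, i < 17883 → P i := stepQ 17882 Q17882 (allL N17882 (tt N19791 (iv F235192)) (tt N19868 (iv F235415)) (tt N15712 F226383) (tt N19872 D52642) (tt N19871 (iv F235428)) (tt N15728 F226384) (tt N19862 (iv F235400)) (tt N15719 F226385) (tt N15709 (iv D50652)) (tt N19824 (iv F235283)))
theorem Q17884 : ∀ i, i < 17884 → P i := stepQ 17883 Q17883 (allL N17883 (tt N19300 (iv F233445)) (tt N18799 (iv F231204)) (tt N19387 (iv F233834)) (tt N18190 (iv F227897)) (tt N15729 F226386) (tt N19863 (iv F235402)) (tt N15710 (iv D50653)) (tt N19873 D52643) (tt N18369 (iv F228980)) (tt N19874 D52644))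
theorem Q17885 : ∀ i, i < 17885 → P i := stepQ 17884 Q17884 (allL N17884 (tt N19335 (iv F233594)) (tt N19476 (iv F234222)) (tt N19870 (iv F235423)) (tt N19288 (iv F233394)) (tt N15730 F226387) (tt N15711 F226388) (tt N19874 (iv F235437)) (tt N15721 F226389) (tt N19875 D52645) (tt N15710 (iv D50654)))
theorem Q17886 : ∀ i, i < 17886 → P i := stepQ 17885 Q17885 (allL N17885 (tt N19792 (iv F235196)) (tt N19477 (iv F234227)) (tt N19871 (iv F235427)) (tt N19876 D52646) (tt N15712 F226390) (tt N19875 (iv F235439)) (tt N19865 (iv F235406)) (tt N15722 F226391) (tt N15711 (iv D50655)) (tt N19825 (iv F235286)))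
theorem Q17887 : ∀ i, i < 17887 → P i := stepQ 17886 Q17886 (allL N17886 (tt N15714 F226392) (tt N19793 (iv F235200)) (tt N19478 (iv F234231)) (tt N19090 (iv F232511)) (tt N15713 (iv D50656)) (tt N19877 D52647) (tt N19143 (iv F232715)) (tt N19097 (iv F232537)) (tt N19826 (iv F235288)) (tt N19878 D52648))
theorem Q17888 : ∀ i, i < 17888 → P i := stepQ 17887 Q17887 (allL N17887 (tt N15715 F226393) (tt N19794 (iv F235202)) (tt N19479 (iv F234233)) (tt N15765 F226394) (tt N19878 (iv F235445)) (tt N15733 F226395) (tt N19144 (iv F232719)) (tt N19253 (iv F233208)) (tt N19879 D52649) (tt N15713 (iv D50657)))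
theorem Q17889 : ∀ i, i < 17889 → P i := stepQ 17888 Q17888 (allL N17888 (tt N19090 (iv F232509)) (tt N15716 F226396) (tt N19019 (iv F232186)) (tt N15714 (iv D50658)) (tt N15766 F226397) (tt N19880 D52650) (tt N19145 (iv F232722)) (tt N15807 F226398) (tt N19033 (iv F232258)) (tt N19881 D52651))
theorem Q17890 : ∀ i, i < 17890 → P i := stepQ 17889 Q17889 (allL N17889 (tt N19877 (iv F235442)) (tt N15717 F226399) (tt N19481 (iv F234239)) (tt N19880 (iv F235449)) (tt N15734 F226400) (tt N15714 (iv D50659)) (tt N19882 D52652) (tt N19866 (iv F235410)) (tt N19829 (iv F235296)) (tt N19883 D52653))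
theorem Q17891 : ∀ i, i < 17891 → P i := stepQ 17890 Q17890 (allL N17890 (tt N19878 (iv F235444)) (tt N15718 F226401) (tt N19482 (iv F234242)) (tt N19881 (iv F235453)) (tt N15715 F226402) (tt N19883 (iv F235460)) (tt N19147 (iv F232727)) (tt N19867 (iv F235414)) (tt N19884 D52654) (tt N15714 (iv D50660)))
theorem Q17892 : ∀ i, i < 17892 → P i := stepQ 17891 Q17891 (allL N17891 (tt N19879 (iv F235446)) (tt N15719 F226403) (tt N19483 (iv F234245)) (tt N19885 D52655) (tt N19884 (iv F235462)) (tt N15736 F226404) (tt N19148 (iv F232730)) (tt N19868 (iv F235418)) (tt N15715 (iv D50661)) (tt N19831 (iv F235301)))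
theorem Q17893 : ∀ i, i < 17893 → P i := stepQ 17892 Q17892 (allL N17892 (tt N18404 (iv F229152)) (tt N19880 (iv F235448)) (tt N18339 (iv F228800)) (tt N15717 F226405) (tt N15914 F226406) (tt N15716 (iv D50662)) (tt N19886 D52656) (tt N18341 (iv F228815)) (tt N19887 D52657) (tt N19888 D52658))
theorem Q17894 : ∀ i, i < 17894 → P i := stepQ 17893 Q17893 (allL N17893 (tt N19798 (iv F235211)) (tt N19033 (iv F232255)) (tt N19672 (iv F234854)) (tt N19833 (iv F235304)) (tt N15767 F226407) (tt N19887 (iv F235470)) (tt N19150 (iv F232734)) (tt N19038 (iv F232276)) (tt N15716 (iv D50663)) (tt N19889 D52659))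
theorem Q17895 : ∀ i, i < 17895 → P i := stepQ 17894 Q17894 (allL N17894 (tt N19799 (iv F235213)) (tt N19881 (iv F235452)) (tt N19673 (iv F234856)) (tt N15718 F226408) (tt N15768 F226409) (tt N19888 (iv F235473)) (tt N19151 (iv F232737)) (tt N19869 (iv F235422)) (tt N19890 D52660) (tt N15716 (iv D50664)))
theorem Q17896 : ∀ i, i < 17896 → P i := stepQ 17895 Q17895 (allL N17895 (tt N18251 (iv F228256)) (tt N19882 (iv F235456)) (tt N15720 F226410) (tt N19886 (iv F235467)) (tt N15737 F226411) (tt N19152 (iv F232740)) (tt N15717 (iv D50665)) (tt N19891 D52661) (tt N19835 (iv F235310)) (tt N19892 D52662))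
theorem Q17897 : ∀ i, i < 17897 → P i := stepQ 17896 Q17896 (allL N17896 (tt N19340 (iv F233617)) (tt N19883 (iv F235458)) (tt N15721 F226412) (tt N19888 (iv F235471)) (tt N15738 F226413) (tt N15718 F226414) (tt N19892 (iv F235480)) (tt N19870 (iv F235426)) (tt N19893 D52663) (tt N15717 (iv D50666)))
theorem Q17898 : ∀ i, i < 17898 → P i := stepQ 17897 Q17897 (allL N17897 (tt N19800 (iv F235216)) (tt N19884 (iv F235461)) (tt N15722 F226415) (tt N19894 D52664) (tt N15719 F226416) (tt N19893 (iv F235483)) (tt N19154 (iv F232746)) (tt N19871 (iv F235429)) (tt N15718 (iv D50667)) (tt N19837 (iv F235316)))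
theorem Q17899 : ∀ i, i < 17899 → P i := stepQ 17898 Q17898 (allL N17898 (tt N19100 (iv F232546)) (tt N19885 (iv F235463)) (tt N19023 (iv F232203)) (tt N15719 (iv D50668)) (tt N19895 D52665) (tt N15740 F226417) (tt N19155 (iv F232750)) (tt N19872 (iv F235432)) (tt N15769 F226418) (tt N19043 (iv F232299)))
theorem Q17900 : ∀ i, i < 17900 → P i := stepQ 17899 Q17899 (allL N17899 (tt N18248 (iv F228241)) (tt N19491 (iv F234261)) (tt N19891 (iv F235476)) (tt N19678 (iv F234868)) (tt N15741 F226419) (tt N19156 (iv F232754)) (tt N19873 (iv F235435)) (tt N15720 (iv D50669)) (tt N19838 (iv F235318)) (tt N19896 D52666))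
theorem Q17901 : ∀ i, i < 17901 → P i := stepQ 17900 Q17900 (allL N17900 (tt N18254 (iv F228268)) (tt N19492 (iv F234263)) (tt N19892 (iv F235478)) (tt N19679 (iv F234870)) (tt N15742 F226420) (tt N19157 (iv F232756)) (tt N15721 F226421) (tt N19896 (iv F235486)) (tt N19897 D52667) (tt N15720 (iv D50670)))
theorem Q17902 : ∀ i, i < 17902 → P i := stepQ 17901 Q17901 (allL N17901 (tt N19342 (iv F233624)) (tt N19493 (iv F234266)) (tt N19893 (iv F235481)) (tt N19898 D52668) (tt N15743 F226422) (tt N15722 F226423) (tt N19897 (iv F235488)) (tt N19875 (iv F235440)) (tt N15721 (iv D50671)) (tt N19840 (iv F235323)))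
theorem Q17903 : ∀ i, i < 17903 → P i := stepQ 17902 Q17902 (allL N17902 (tt N19801 (iv F235219)) (tt N19494 (iv F234269)) (tt N19899 D52669) (tt N15722 (iv D50672)) (tt N19760 (iv F235092)) (tt N19898 (iv F235489)) (tt N19159 (iv F232760)) (tt N19876 (iv F235441)) (tt N19681 (iv F234875)) (tt N19841 (iv F235324)))
theorem Q17904 : ∀ i, i < 17904 → P i := stepQ 17903 Q17903 (allL N17903 (tt N15724 F226424) (tt N19343 (iv F233628)) (tt N19495 (iv F234272)) (tt N15924 F226425) (tt N15723 (iv D50673)) (tt N19900 D52670) (tt N17903 F226426) (tt N15732 F226427) (tt N19519 (iv F234378)) (tt N19901 D52671))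
theorem Q17905 : ∀ i, i < 17905 → P i := stepQ 17904 Q17904 (allL N17904 (tt N15725 F226428) (tt N19802 (iv F235221)) (tt N19496 (iv F234278)) (tt N15770 F226429) (tt N19901 (iv F235495)) (tt N19253 (iv F233206)) (tt N17904 F226430) (tt N15733 F226431) (tt N19902 D52672) (tt N15723 (iv D50674)))
theorem Q17906 : ∀ i, i < 17906 → P i := stepQ 17905 Q17905 (allL N17905 (tt N19900 (iv F235490)) (tt N15726 F226432) (tt N19497 (iv F234283)) (tt N15925 F226433) (tt N19866 (iv F235409)) (tt N15724 (iv D50675)) (tt N19416 (iv F233969)) (tt N15734 F226434) (tt N19429 (iv F234036)) (tt N19903 D52673))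
theorem Q17907 : ∀ i, i < 17907 → P i := stepQ 17906 Q17906 (allL N17906 (tt N19901 (iv F235493)) (tt N15727 F226435) (tt N19498 (iv F234288)) (tt N15926 F226436) (tt N15725 F226437) (tt N19903 (iv F235504)) (tt N17906 F226438) (tt N15735 F226439) (tt N19904 D52674) (tt N15724 (iv D50676)))
theorem Q17908 : ∀ i, i < 17908 → P i := stepQ 17907 Q17907 (allL N17907 (tt N19902 (iv F235498)) (tt N15728 F226440) (tt N19499 (iv F234294)) (tt N15956 F226441) (tt N19904 (iv F235507)) (tt N19868 (iv F235417)) (tt N17907 F226442) (tt N15736 F226443) (tt N15725 (iv D50677)) (tt N19844 (iv F235339)))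
theorem Q17909 : ∀ i, i < 17909 → P i := stepQ 17908 Q17908 (allL N17908 (tt N18469 (iv F229475)) (tt N19903 (iv F235502)) (tt N15730 F226444) (tt N15927 F226445) (tt N19870 (iv F235424)) (tt N15727 F226446) (tt N19419 (iv F233984)) (tt N15738 F226447) (tt N19905 D52675) (tt N15726 (iv D50678)))
theorem Q17910 : ∀ i, i < 17910 → P i := stepQ 17909 Q17909 (allL N17909 (tt N19345 (iv F233641)) (tt N19904 (iv F235506)) (tt N15731 F226448) (tt N19906 D52676) (tt N15728 F226449) (tt N19905 (iv F235511)) (tt N17909 F226450) (tt N15739 F226451) (tt N15727 (iv D50679)) (tt N19845 (iv F235344)))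
theorem Q17911 : ∀ i, i < 17911 → P i := stepQ 17910 Q17910 (allL N17910 (tt N19107 (iv F232576)) (tt N15956 F226452) (tt N19026 (iv F232220)) (tt N15728 (iv D50680)) (tt N19907 D52677) (tt N19872 (iv F235431)) (tt N17910 F226453) (tt N15740 F226454) (tt N15771 F226455) (tt N19048 (iv F232325)))
theorem Q17912 : ∀ i, i < 17912 → P i := stepQ 17911 Q17911 (allL N17911 (tt N18245 (iv F228221)) (tt N18796 (iv F231189)) (tt N19411 (iv F233939)) (tt N15757 F226456) (tt N19873 (iv F235434)) (tt N17911 F226457) (tt N15741 F226458) (tt N15729 (iv D50681)) (tt N18366 (iv F228965)) (tt N19908 D52678))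
theorem Q17913 : ∀ i, i < 17913 → P i := stepQ 17912 Q17912 (allL N17912 (tt N19324 (iv F233533)) (tt N18800 (iv F231208)) (tt N19419 (iv F233981)) (tt N15758 F226459) (tt N19874 (iv F235436)) (tt N17912 F226460) (tt N15730 F226461) (tt N19908 (iv F235523)) (tt N19909 D52679) (tt N15729 (iv D50682)))
theorem Q17914 : ∀ i, i < 17914 → P i := stepQ 17913 Q17913 (allL N17913 (tt N19336 (iv F233599)) (tt N19503 (iv F234309)) (tt N19905 (iv F235510)) (tt N19384 (iv F233824)) (tt N19875 (iv F235438)) (tt N15731 F226462) (tt N19909 (iv F235525)) (tt N15743 F226463) (tt N15730 (iv D50683)) (tt N19433 (iv F234053)))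
theorem Q17915 : ∀ i, i < 17915 → P i := stepQ 17914 Q17914 (allL N17914 (tt N15734 F226464) (tt N19337 (iv F233604)) (tt N19504 (iv F234315)) (tt N15930 F226465) (tt N19877 (iv F235443)) (tt N15732 (iv D50684)) (tt N19453 (iv F234133)) (tt N19900 (iv F235492)) (tt N19507 (iv F234333)) (tt N19910 D52680))
theorem Q17916 : ∀ i, i < 17916 → P i := stepQ 17915 Q17915 (allL N17915 (tt N15735 F226466) (tt N19346 (iv F233647)) (tt N19505 (iv F234321)) (tt N15931 F226467) (tt N15733 F226468) (tt N19910 (iv F235528)) (tt N15744 F226469) (tt N19901 (iv F235497)) (tt N19911 D52681) (tt N15732 (iv D50685)))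
theorem Q17917 : ∀ i, i < 17917 → P i := stepQ 17916 Q17916 (allL N17916 (tt N15736 F226470) (tt N19804 (iv F235229)) (tt N19506 (iv F234326)) (tt N18431 (iv F229285)) (tt N19911 (iv F235530)) (tt N19879 (iv F235447)) (tt N15745 F226471) (tt N19902 (iv F235501)) (tt N15733 (iv D50686)) (tt N19846 (iv F235347)))
theorem Q17918 : ∀ i, i < 17918 → P i := stepQ 17917 Q17917 (allL N17917 (tt N19453 (iv F234129)) (tt N15737 F226472) (tt N19507 (iv F234330)) (tt N15933 F226473) (tt N19882 (iv F235457)) (tt N15746 F226474) (tt N15734 (iv D50687)) (tt N19808 (iv F235242)) (tt N19504 (iv F234318)) (tt N19912 D52682))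
theorem Q17919 : ∀ i, i < 17919 → P i := stepQ 17918 Q17918 (allL N17918 (tt N19910 (iv F235526)) (tt N15738 F226475) (tt N19508 (iv F234335)) (tt N15934 F226476) (tt N19883 (iv F235459)) (tt N15735 F226477) (tt N19912 (iv F235535)) (tt N19903 (iv F235505)) (tt N19913 D52683) (tt N15734 (iv D50688)))
theorem Q17920 : ∀ i, i < 17920 → P i := stepQ 17919 Q17919 (allL N17919 (tt N19911 (iv F235529)) (tt N15739 F226478) (tt N19509 (iv F234339)) (tt N19914 D52684) (tt N15736 F226479) (tt N19913 (iv F235537)) (tt N15748 F226480) (tt N19904 (iv F235509)) (tt N15735 (iv D50689)) (tt N19848 (iv F235354)))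
theorem Q17921 : ∀ i, i < 17921 → P i := stepQ 17920 Q17920 (allL N17920 (tt N18431 (iv F229283)) (tt N15740 F226481) (tt N18350 (iv F228859)) (tt N15736 (iv D50690)) (tt N18347 (iv F228844)) (tt N19885 (iv F235464)) (tt N15749 F226482) (tt N15956 F226483) (tt N15773 F226484) (tt N19052 (iv F232341)))
theorem Q17922 : ∀ i, i < 17922 → P i := stepQ 17921 Q17921 (allL N17921 (tt N18247 (iv F228235)) (tt N19808 (iv F235239)) (tt N15741 F226485) (tt N15936 F226486) (tt N19891 (iv F235477)) (tt N15750 F226487) (tt N19411 (iv F233941)) (tt N15737 (iv D50691)) (tt N19849 (iv F235358)) (tt N19915 D52685))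
theorem Q17923 : ∀ i, i < 17923 → P i := stepQ 17922 Q17922 (allL N17922 (tt N18252 (iv F228259)) (tt N19912 (iv F235532)) (tt N15742 F226488) (tt N15937 F226489) (tt N19892 (iv F235479)) (tt N15751 F226490) (tt N15738 F226491) (tt N19915 (iv F235544)) (tt N19916 D52686) (tt N15737 (iv D50692)))
theorem Q17924 : ∀ i, i < 17924 → P i := stepQ 17923 Q17923 (allL N17923 (tt N19341 (iv F233621)) (tt N19913 (iv F235536)) (tt N15743 F226492) (tt N19917 D52687) (tt N19893 (iv F235482)) (tt N15739 F226493) (tt N19916 (iv F235547)) (tt N19905 (iv F235512)) (tt N15738 (iv D50693)) (tt N19851 (iv F235365)))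
theorem Q17925 : ∀ i, i < 17925 → P i := stepQ 17924 Q17924 (allL N17924 (tt N19348 (iv F233656)) (tt N19914 (iv F235538)) (tt N19402 (iv F233894)) (tt N15739 (iv D50694)) (tt N19918 D52688) (tt N19917 (iv F235548)) (tt N15753 F226494) (tt N19906 (iv F235514)) (tt N15939 F226495) (tt N19852 (iv F235368)))
theorem Q17926 : ∀ i, i < 17926 → P i := stepQ 17925 Q17925 (allL N17925 (tt N19114 (iv F232606)) (tt N18347 (iv F228842)) (tt N19028 (iv F232230)) (tt N19918 (iv F235550)) (tt N15740 (iv D50695)) (tt N19919 D52689) (tt N15754 F226496) (tt N19907 (iv F235518)) (tt N15774 F226497) (tt N19054 (iv F232350)))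
theorem Q17927 : ∀ i, i < 17927 → P i := stepQ 17926 Q17926 (allL N17926 (tt N18249 (iv F228244)) (tt N19516 (iv F234358)) (tt N19915 (iv F235541)) (tt N15759 F226498) (tt N19896 (iv F235485)) (tt N15755 F226499) (tt N19908 (iv F235522)) (tt N15742 F226500) (tt N19920 D52690) (tt N15741 (iv D50696)))
theorem Q17928 : ∀ i, i < 17928 → P i := stepQ 17927 Q17927 (allL N17927 (tt N18255 (iv F228272)) (tt N19517 (iv F234362)) (tt N19916 (iv F235545)) (tt N18345 (iv F228832)) (tt N19897 (iv F235487)) (tt N15756 F226501) (tt N15743 F226502) (tt N19920 (iv F235555)) (tt N15742 (iv D50697)) (tt N19854 (iv F235374)))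
theorem Q17929 : ∀ i, i < 17929 → P i := stepQ 17928 Q17928 (allL N17928 (tt N15748 F226503) (tt N19349 (iv F233661)) (tt N19518 (iv F234367)) (tt N18443 (iv F229344)) (tt N15745 F226504) (tt N19461 (iv F234172)) (tt N19911 (iv F235531)) (tt N17928 F226505) (tt N15744 (iv D50698)) (tt N19521 (iv F234391)))
theorem Q17930 : ∀ i, i < 17930 → P i := stepQ 17929 Q17929 (allL N17929 (tt N15963 F226506) (tt N15750 F226507) (tt N19519 (iv F234374)) (tt N15946 F226508) (tt N19186 (iv F232854)) (tt N19808 (iv F235241)) (tt N17929 F226509) (tt N15746 (iv D50699)) (tt N19495 (iv F234276)) (tt N19921 D52691))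
theorem Q17931 : ∀ i, i < 17931 → P i := stepQ 17930 Q17930 (allL N17930 (tt N19454 (iv F234136)) (tt N15751 F226510) (tt N19520 (iv F234381)) (tt N15947 F226511) (tt N19187 (iv F232861)) (tt N19912 (iv F235534)) (tt N15747 F226512) (tt N19921 (iv F235560)) (tt N19922 D52692) (tt N15746 (iv D50700)))
theorem Q17932 : ∀ i, i < 17932 → P i := stepQ 17931 Q17931 (allL N17931 (tt N19461 (iv F234168)) (tt N15752 F226513) (tt N19521 (iv F234387)) (tt N19923 D52693) (tt N19188 (iv F232866)) (tt N15748 F226514) (tt N19922 (iv F235562)) (tt N17931 F226515) (tt N15747 (iv D50701)) (tt N19518 (iv F234371)))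
theorem Q17933 : ∀ i, i < 17933 → P i := stepQ 17932 Q17932 (allL N17932 (tt N18443 (iv F229343)) (tt N15753 F226516) (tt N19924 D52694) (tt N15748 (iv D50702)) (tt N18351 (iv F228866)) (tt N19923 (iv F235564)) (tt N19914 (iv F235539)) (tt N17932 F226517) (tt N15949 F226518) (tt N19855 (iv F235378)))
theorem Q17934 : ∀ i, i < 17934 → P i := stepQ 17933 Q17933 (allL N17933 (tt N18257 (iv F228284)) (tt N19921 (iv F235557)) (tt N15755 F226519) (tt N15950 F226520) (tt N19190 (iv F232875)) (tt N19915 (iv F235543)) (tt N17933 F226521) (tt N15751 F226522) (tt N19925 D52695) (tt N15750 (iv D50703)))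
theorem Q17935 : ∀ i, i < 17935 → P i := stepQ 17934 Q17934 (allL N17934 (tt N18264 (iv F228324)) (tt N19922 (iv F235561)) (tt N15756 F226523) (tt N19926 D52696) (tt N19191 (iv F232879)) (tt N19916 (iv F235546)) (tt N15752 F226524) (tt N19925 (iv F235572)) (tt N15751 (iv D50704)) (tt N19857 (iv F235385)))
theorem Q17936 : ∀ i, i < 17936 → P i := stepQ 17935 Q17935 (allL N17935 (tt N18269 (iv F228350)) (tt N19923 (iv F235563)) (tt N18351 (iv F228865)) (tt N15752 (iv D50705)) (tt N19924 (iv F235567)) (tt N15753 F226525) (tt N19926 (iv F235573)) (tt N17935 F226526) (tt N15952 F226527) (tt N19858 (iv F235389)))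
theorem Q17937 : ∀ i, i < 17937 → P i := stepQ 17936 Q17936 (allL N17936 (tt N19122 (iv F232642)) (tt N18351 (iv F228864)) (tt N19406 (iv F233910)) (tt N15754 F226528) (tt N15753 (iv D50706)) (tt N19404 (iv F233902)) (tt N19918 (iv F235551)) (tt N17936 F226529) (tt N15953 F226530) (tt N19057 (iv F232360)))
theorem Q17938 : ∀ i, i < 17938 → P i := stepQ 17937 Q17937 (allL N17937 (tt N18260 (iv F228300)) (tt N19526 (iv F234404)) (tt N19925 (iv F235570)) (tt N18346 (iv F228837)) (tt N19195 (iv F232895)) (tt N19920 (iv F235554)) (tt N17937 F226531) (tt N15756 F226532) (tt N15755 (iv D50707)) (tt N19859 (iv F235392)))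
theorem Q17939 : ∀ i, i < 17939 → P i := stepQ 17938 Q17938 (allL N17938 (tt N18246 (iv F228227)) (tt N18797 (iv F231194)) (tt N15954 F226533) (tt N19908 (iv F235520)) (tt N18189 (iv F227889)) (tt N17938 F226534) (tt N15759 F226535) (tt N15758 F226536) (tt N18338 (iv F228798)) (tt N15757 (iv D50708)))
theorem Q17940 : ∀ i, i < 17940 → P i := stepQ 17939 Q17939 (allL N17939 (tt N18430 (iv F229278)) (tt N15769 F226537) (tt N18349 (iv F228854)) (tt N15763 F226538) (tt N19869 (iv F235421)) (tt N15773 F226539) (tt N19223 (iv F233031)) (tt N15768 F226540) (tt N19885 (iv F235466)) (tt N15762 (iv D50709)))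
theorem Q17941 : ∀ i, i < 17941 → P i := stepQ 17940 Q17940 (allL N17940 (tt N19091 (iv F232514)) (tt N15768 F226541) (tt N19020 (iv F232190)) (tt N15764 (iv D50710)) (tt N19881 (iv F235454)) (tt N15771 F226542) (tt N19222 (iv F233028)) (tt N15769 F226543) (tt N19872 (iv F235433)) (tt N15766 F226544))
theorem Q17942 : ∀ i, i < 17942 → P i := stepQ 17941 Q17941 (allL N17941 (tt N19806 (iv F235234)) (tt N19034 (iv F232260)) (tt N19710 (iv F234950)) (tt N15806 F226545) (tt N19889 (iv F235474)) (tt N15955 F226546) (tt N19224 (iv F233035)) (tt N19039 (iv F232282)) (tt N19927 D52697) (tt N15767 (iv D50711)))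
theorem Q17943 : ∀ i, i < 17943 → P i := stepQ 17942 Q17942 (allL N17942 (tt N19807 (iv F235237)) (tt N19872 (iv F235430)) (tt N19711 (iv F234953)) (tt N19868 (iv F235416)) (tt N19890 (iv F235475)) (tt N15956 F226547) (tt N19225 (iv F233037)) (tt N19885 (iv F235465)) (tt N15768 (iv D50712)) (tt N19927 (iv F235576)))
theorem Q17944 : ∀ i, i < 17944 → P i := stepQ 17943 Q17943 (allL N17943 (tt N19099 (iv F232542)) (tt N19869 (iv F235419)) (tt N19022 (iv F232199)) (tt N19867 (iv F235412)) (tt N15769 (iv D50713)) (tt N19928 D52698) (tt N19227 (iv F233045)) (tt N19881 (iv F235455)) (tt N19895 (iv F235484)) (tt N15807 F226548))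
theorem Q17945 : ∀ i, i < 17945 → P i := stepQ 17944 Q17944 (allL N17944 (tt N19106 (iv F232570)) (tt N15916 F226549) (tt N19025 (iv F232214)) (tt N15912 F226550) (tt N15771 (iv D50714)) (tt N19929 D52699) (tt N17944 F226551) (tt N15774 F226552) (tt N19907 (iv F235519)) (tt N15808 F226553))
theorem Q17946 : ∀ i, i < 17946 → P i := stepQ 17945 Q17945 (allL N17945 (tt N19113 (iv F232602)) (tt N18342 (iv F228817)) (tt N19027 (iv F232226)) (tt N15957 F226554) (tt N19928 (iv F235577)) (tt N15774 (iv D50715)) (tt N19386 (iv F233832)) (tt N19929 (iv F235581)) (tt N19919 (iv F235553)) (tt N15809 F226555))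
theorem Q17947 : ∀ i, i < 17947 → P i := stepQ 17946 Q17946 (allL N17946 (tt N18702 (iv F230744)) (tt N17946 F226556) (tt N18983 (iv F232018)) (tt N15790 F226557) (tt N18642 (iv F230491)) (tt N15970 F226558) (tt N19234 (iv F233087)) (tt N18905 (iv F231633)) (tt N15777 (iv D50716)) (tt N17946 F226559))
theorem Q17948 : ∀ i, i < 17948 → P i := stepQ 17947 Q17947 (allL N17947 (tt N15788 F226560) (tt N18277 (iv F228398)) (tt N15781 F226561) (tt N19777 (iv F235149)) (tt N19228 (iv F233049)) (tt N15971 F226562) (tt N19235 (iv F233094)) (tt N18280 (iv F228424)) (tt N19930 D52700) (tt N15780 (iv D50717)))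
theorem Q17949 : ∀ i, i < 17949 → P i := stepQ 17948 Q17948 (allL N17948 (tt N15790 F226563) (tt N18291 (iv F228490)) (tt N19930 (iv F235584)) (tt N18702 (iv F230746)) (tt N18896 (iv F231577)) (tt N15972 F226564) (tt N19236 (iv F233101)) (tt N18293 (iv F228509)) (tt N15781 (iv D50718)) (tt N17948 F226565))
theorem Q17950 : ∀ i, i < 17950 → P i := stepQ 17949 Q17949 (allL N17949 (tt N15806 F226566) (tt N19215 (iv F232984)) (tt N17949 F226567) (tt N19806 (iv F235235)) (tt N19258 (iv F233234)) (tt N15958 F226568) (tt N19237 (iv F233109)) (tt N19070 (iv F232429)) (tt N19254 (iv F233215)) (tt N15782 (iv D50719)))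
theorem Q17951 : ∀ i, i < 17951 → P i := stepQ 17950 Q17950 (allL N17950 (tt N15933 F226569) (tt N15783 (iv D50720)) (tt N17950 F226570) (tt N19453 (iv F234132)) (tt N19931 D52701) (tt N15943 F226571) (tt N15930 F226572) (tt N15786 F226573) (tt N17950 F226574) (tt N19932 D52702))
theorem Q17952 : ∀ i, i < 17952 → P i := stepQ 17951 Q17951 (allL N17951 (tt N18279 (iv F228412)) (tt N19931 (iv F235588)) (tt N15784 F226575) (tt N19933 D52703) (tt N15783 (iv D50721)) (tt N17951 F226576) (tt N18460 (iv F229427)) (tt N15787 F226577) (tt N17951 F226578) (tt N19934 D52704))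
theorem Q17953 : ∀ i, i < 17953 → P i := stepQ 17952 Q17952 (allL N17952 (tt N18280 (iv F228419)) (tt N19932 (iv F235595)) (tt N15785 F226579) (tt N19456 (iv F234148)) (tt N19934 (iv F235604)) (tt N15973 F226580) (tt N19351 (iv F233674)) (tt N15788 F226581) (tt N19935 D52705) (tt N15783 (iv D50722)))
theorem Q17954 : ∀ i, i < 17954 → P i := stepQ 17953 Q17953 (allL N17953 (tt N18292 (iv F228498)) (tt N17953 F226582) (tt N19934 (iv F235603)) (tt N15796 F226583) (tt N15785 F226584) (tt N17953 F226585) (tt N18480 (iv F229538)) (tt N15789 F226586) (tt N19936 D52706) (tt N15784 (iv D50723)))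
theorem Q17955 : ∀ i, i < 17955 → P i := stepQ 17954 Q17954 (allL N17954 (tt N18293 (iv F228505)) (tt N17954 F226587) (tt N19935 (iv F235607)) (tt N18905 (iv F231631)) (tt N19936 (iv F235612)) (tt N15974 F226588) (tt N19360 (iv F233717)) (tt N15790 F226589) (tt N15785 (iv D50724)) (tt N17954 F226590))
theorem Q17956 : ∀ i, i < 17956 → P i := stepQ 17955 Q17955 (allL N17955 (tt N15786 (iv D50725)) (tt N15936 F226591) (tt N17955 F226592) (tt N19808 (iv F235240)) (tt N19407 (iv F233915)) (tt N15946 F226593) (tt N19241 (iv F233133)) (tt N15933 F226594) (tt N17955 F226595) (tt N19937 D52707))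
theorem Q17957 : ∀ i, i < 17957 → P i := stepQ 17956 Q17956 (allL N17956 (tt N19407 (iv F233913)) (tt N15787 F226596) (tt N17956 F226597) (tt N19938 D52708) (tt N15786 (iv D50726)) (tt N17956 F226598) (tt N19242 (iv F233140)) (tt N19931 (iv F235592)) (tt N17956 F226599) (tt N19939 D52709))
theorem Q17958 : ∀ i, i < 17958 → P i := stepQ 17957 Q17957 (allL N17957 (tt N19937 (iv F235616)) (tt N15788 F226600) (tt N17957 F226601) (tt N19810 (iv F235245)) (tt N19939 (iv F235625)) (tt N15975 F226602) (tt N19243 (iv F233147)) (tt N19932 (iv F235599)) (tt N19940 D52710) (tt N15786 (iv D50727)))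
theorem Q17959 : ∀ i, i < 17959 → P i := stepQ 17958 Q17958 (allL N17958 (tt N19260 (iv F233243)) (tt N19938 (iv F235621)) (tt N15800 F226603) (tt N15787 (iv D50728)) (tt N19811 (iv F235248)) (tt N17958 F226604) (tt N19244 (iv F233151)) (tt N19933 (iv F235602)) (tt N19941 D52711) (tt N19942 D52712))
theorem Q17960 : ∀ i, i < 17960 → P i := stepQ 17959 Q17959 (allL N17959 (tt N19228 (iv F233047)) (tt N19939 (iv F235623)) (tt N15789 F226605) (tt N19942 (iv F235635)) (tt N15788 F226606) (tt N17959 F226607) (tt N19245 (iv F233157)) (tt N19934 (iv F235606)) (tt N19943 D52713) (tt N15787 (iv D50729)))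
theorem Q17961 : ∀ i, i < 17961 → P i := stepQ 17960 Q17960 (allL N17960 (tt N19930 (iv F235583)) (tt N19940 (iv F235627)) (tt N15790 F226608) (tt N19944 D52714) (tt N19943 (iv F235638)) (tt N15976 F226609) (tt N19246 (iv F233161)) (tt N19935 (iv F235609)) (tt N15788 (iv D50730)) (tt N17960 F226610))
theorem Q17962 : ∀ i, i < 17962 → P i := stepQ 17961 Q17961 (allL N17961 (tt N18896 (iv F231575)) (tt N17961 F226611) (tt N19943 (iv F235637)) (tt N18787 (iv F231142)) (tt N15790 F226612) (tt N17961 F226613) (tt N19247 (iv F233168)) (tt N19936 (iv F235614)) (tt N15789 (iv D50731)) (tt N17961 F226614))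
theorem Q17963 : ∀ i, i < 17963 → P i := stepQ 17962 Q17962 (allL N17962 (tt N19214 (iv F232975)) (tt N19258 (iv F233232)) (tt N15792 F226615) (tt N19816 (iv F235258)) (tt N19215 (iv F232986)) (tt N17962 F226616) (tt N15795 F226617) (tt N19220 (iv F233016)) (tt N19065 (iv F232397)) (tt N15791 (iv D50732)))
theorem Q17964 : ∀ i, i < 17964 → P i := stepQ 17963 Q17963 (allL N17963 (tt N19254 (iv F233209)) (tt N15795 F226618) (tt N17963 F226619) (tt N19821 (iv F235272)) (tt N19237 (iv F233107)) (tt N15803 F226620) (tt N19258 (iv F233236)) (tt N15799 F226621) (tt N15806 F226622) (tt N15793 (iv D50733)))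
theorem Q17965 : ∀ i, i < 17965 → P i := stepQ 17964 Q17964 (allL N17964 (tt N19127 (iv F232664)) (tt N19073 (iv F232444)) (tt N19933 (iv F235600)) (tt N15794 (iv D50734)) (tt N19822 (iv F235275)) (tt N17964 F226623) (tt N19133 (iv F232688)) (tt N15800 F226624) (tt N19071 (iv F232435)) (tt N19945 D52715))
theorem Q17966 : ∀ i, i < 17966 → P i := stepQ 17965 Q17965 (allL N17965 (tt N19211 (iv F232955)) (tt N19237 (iv F233105)) (tt N15796 F226625) (tt N19945 (iv F235643)) (tt N15795 F226626) (tt N17965 F226627) (tt N19215 (iv F232988)) (tt N15801 F226628) (tt N19068 (iv F232416)) (tt N15794 (iv D50735)))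
theorem Q17967 : ∀ i, i < 17967 → P i := stepQ 17966 Q17966 (allL N17966 (tt N15799 F226629) (tt N19221 (iv F233019)) (tt N17966 F226630) (tt N19827 (iv F235290)) (tt N19255 (iv F233219)) (tt N15804 F226631) (tt N19249 (iv F233183)) (tt N19254 (iv F233214)) (tt N19070 (iv F232430)) (tt N15797 (iv D50736)))
theorem Q17968 : ∀ i, i < 17968 → P i := stepQ 17967 Q17967 (allL N17967 (tt N19217 (iv F232997)) (tt N15800 F226632) (tt N19946 D52716) (tt N15798 (iv D50737)) (tt N19828 (iv F235293)) (tt N17967 F226633) (tt N19250 (iv F233189)) (tt N19073 (iv F232448)) (tt N19067 (iv F232409)) (tt N19947 D52717))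
theorem Q17969 : ∀ i, i < 17969 → P i := stepQ 17968 Q17968 (allL N17968 (tt N19255 (iv F233216)) (tt N15801 F226634) (tt N17968 F226635) (tt N19947 (iv F235649)) (tt N15799 F226636) (tt N17968 F226637) (tt N19251 (iv F233196)) (tt N19237 (iv F233110)) (tt N19072 (iv F232442)) (tt N15798 (iv D50738)))
theorem Q17970 : ∀ i, i < 17970 → P i := stepQ 17969 Q17969 (allL N17969 (tt N19259 (iv F233238)) (tt N19067 (iv F232406)) (tt N19941 (iv F235631)) (tt N15805 F226638) (tt N19833 (iv F235305)) (tt N17969 F226639) (tt N19252 (iv F233202)) (tt N19071 (iv F232434)) (tt N15800 (iv D50739)) (tt N19948 D52718))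
theorem Q17971 : ∀ i, i < 17971 → P i := stepQ 17970 Q17970 (allL N17970 (tt N19226 (iv F233038)) (tt N19947 (iv F235648)) (tt N19942 (iv F235634)) (tt N15801 F226640) (tt N19834 (iv F235307)) (tt N17970 F226641) (tt N19253 (iv F233207)) (tt N19945 (iv F235645)) (tt N19949 D52719) (tt N15800 (iv D50740)))
theorem Q17972 : ∀ i, i < 17972 → P i := stepQ 17971 Q17971 (allL N17971 (tt N15803 F226642) (tt N19229 (iv F233054)) (tt N17971 F226643) (tt N19842 (iv F235326)) (tt N17971 F226644) (tt N19254 (iv F233212)) (tt N17971 F226645) (tt N15804 F226646) (tt N15958 F226647) (tt N15802 (iv D50741)))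
theorem Q17973 : ∀ i, i < 17973 → P i := stepQ 17972 Q17972 (allL N17972 (tt N19258 (iv F233231)) (tt N19068 (iv F232411)) (tt N17972 F226648) (tt N19948 (iv F235651)) (tt N15806 F226649) (tt N17972 F226650) (tt N19254 (iv F233213)) (tt N19072 (iv F232441)) (tt N19237 (iv F233111)) (tt N15805 (iv D50742)))
theorem Q17974 : ∀ i, i < 17974 → P i := stepQ 17973 Q17973 (allL N17973 (tt N19098 (iv F232538)) (tt N18341 (iv F228810)) (tt N19021 (iv F232195)) (tt N19866 (iv F235408)) (tt N15809 F226651) (tt N15807 (iv D50743)) (tt N19385 (iv F233828)) (tt N19880 (iv F235451)) (tt N19041 (iv F232289)) (tt N19928 (iv F235578)))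
theorem Q17975 : ∀ i, i < 17975 → P i := stepQ 17974 Q17974 (allL N17974 (tt N19105 (iv F232565)) (tt N15914 F226652) (tt N19024 (iv F232209)) (tt N15911 F226653) (tt N19880 (iv F235450)) (tt N15808 (iv D50744)) (tt N19950 D52720) (tt N15809 F226654) (tt N19046 (iv F232311)) (tt N19929 (iv F235582)))
theorem Q17976 : ∀ i, i < 17976 → P i := stepQ 17975 Q17975 (allL N17975 (tt N15817 F226655) (tt N18514 (iv F229784)) (tt N17975 F226656) (tt N19558 (iv F234522)) (tt N15810 (iv D50745)) (tt N19549 (iv F234492)) (tt N18117 (iv F227396)) (tt N15836 F226657) (tt N18116 F227390) (tt N17975 F226658))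
theorem Q17977 : ∀ i, i < 17977 → P i := stepQ 17976 Q17976 (allL N17976 (tt N18080 (iv F227102)) (tt N15822 F226659) (tt N18493 (iv F229625)) (tt N15813 (iv D50746)) (tt N17976 F226660) (tt N15830 F226661) (tt N17976 F226662) (tt N15884 F226663) (tt N17976 F226664) (tt N17976 F226665))
theorem Q17978 : ∀ i, i < 17978 → P i := stepQ 17977 Q17977 (allL N17977 (tt N15816 F226666) (tt N18494 (iv F229633)) (tt N18495 (iv F229643)) (tt N15815 (iv D50747)) (tt N18530 (iv F229872)) (tt N17977 F226667) (tt N18121 (iv F227430)) (tt N15863 F226668) (tt N18120 F227423) (tt N17977 F226669))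
theorem Q17979 : ∀ i, i < 17979 → P i := stepQ 17978 Q17978 (allL N17978 (tt N18495 (iv F229641)) (tt N17978 F226670) (tt N15816 (iv D50748)) (tt N15829 F226671) (tt N18532 (iv F229885)) (tt N17978 F226672) (tt N18079 (iv F227098)) (tt N15864 F226673) (tt N18078 F227092) (tt N17978 F226674))
theorem Q17980 : ∀ i, i < 17980 → P i := stepQ 17979 Q17979 (allL N17979 (tt N18530 (iv F229869)) (tt N15817 F226675) (tt N18532 (iv F229883)) (tt N19574 (iv F234565)) (tt N15816 (iv D50749)) (tt N18561 (iv F230050)) (tt N18131 (iv F227504)) (tt N15865 F226676) (tt N18130 F227498) (tt N17979 F226677))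
theorem Q17981 : ∀ i, i < 17981 → P i := stepQ 17980 Q17980 (allL N17980 (tt N19549 (iv F234488)) (tt N18561 (iv F230047)) (tt N17980 F226678) (tt N19575 (iv F234568)) (tt N17980 F226679) (tt N15817 (iv D50750)) (tt N18562 (iv F230058)) (tt N15866 F226680) (tt N18560 F230045) (tt N17980 F226681))
theorem Q17982 : ∀ i, i < 17982 → P i := stepQ 17981 Q17981 (allL N17981 (tt N17981 F226682) (tt N18085 F227155) (tt N17981 F226683) (tt N15818 (iv D50751)) (tt N17981 F226684) (tt N15824 F226685) (tt N18086 (iv F227161)) (tt N15821 F226686) (tt N17981 F226687) (tt N17981 F226688))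
theorem Q17983 : ∀ i, i < 17983 → P i := stepQ 17982 Q17982 (allL N17982 (tt N18493 (iv F229623)) (tt N15821 F226689) (tt N18080 (iv F227104)) (tt N15819 (iv D50752)) (tt N17982 F226690) (tt N15826 F226691) (tt N17982 F226692) (tt N18085 (iv F227152)) (tt N17982 F226693) (tt N17982 F226694))
theorem Q17984 : ∀ i, i < 17984 → P i := stepQ 17983 Q17983 (allL N17983 (tt N15883 F226695) (tt N15824 F226696) (tt N15882 F226697) (tt N15823 (iv D50753)) (tt N15881 F226698) (tt N18085 (iv F227150)) (tt N15875 F226699) (tt N15826 F226700) (tt N17983 F226701) (tt N17983 F226702))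
theorem Q17985 : ∀ i, i < 17985 → P i := stepQ 17984 Q17984 (allL N17984 (tt N15826 F226703) (tt N17984 F226704) (tt N15830 (iv F226709)) (tt N15825 (iv D50754)) (tt N15829 (iv F226710)) (tt N18493 (iv F229627)) (tt N15828 F226705) (tt N15883 F226706) (tt N17984 F226707) (tt N17984 F226708))
theorem Q17986 : ∀ i, i < 17986 → P i := stepQ 17985 Q17985 (allL N17985 (tt N15830 F226711) (tt N17985 F226712) (tt N15826 (iv D50755)) (tt N18079 F227101) (tt N15828 (iv F226717)) (tt N18080 (iv F227106)) (tt N15829 F226713) (tt N15882 F226714) (tt N17985 F226715) (tt N17985 F226716))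
theorem Q17987 : ∀ i, i < 17987 → P i := stepQ 17986 Q17986 (allL N17986 (tt N15829 F226718) (tt N15827 F226719) (tt N15828 F226720) (tt N18495 F229649) (tt N15826 (iv D50756)) (tt N17986 F226721) (tt N15830 F226722) (tt N15881 F226723) (tt N17986 F226724) (tt N17986 F226725))
theorem Q17988 : ∀ i, i < 17988 → P i := stepQ 17987 Q17987 (allL N17987 (tt N15862 F226726) (tt N18643 (iv F230496)) (tt N17987 F226727) (tt N19644 (iv F234788)) (tt N15833 (iv D50757)) (tt N19951 D52721) (tt N15836 F226728) (tt N18163 (iv F227702)) (tt N18161 F227690) (tt N17987 F226729))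
theorem Q17989 : ∀ i, i < 17989 → P i := stepQ 17988 Q17988 (allL N17988 (tt N18717 (iv F230829)) (tt N15840 F226730) (tt N17988 F226731) (tt N19685 (iv F234883)) (tt N18308 (iv F228615)) (tt N15838 F226732) (tt N18648 (iv F230528)) (tt N18173 (iv F227774)) (tt N18802 (iv F231223)) (tt N15837 (iv D50758)))
theorem Q17990 : ∀ i, i < 17990 → P i := stepQ 17989 Q17989 (allL N17989 (tt N18165 (iv F227709)) (tt N18648 (iv F230525)) (tt N15841 F226733) (tt N19688 (iv F234892)) (tt N18338 (iv F228794)) (tt N15849 F226734) (tt N15840 F226735) (tt N18134 (iv F227525)) (tt N18189 (iv F227893)) (tt N15839 (iv D50759)))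
theorem Q17991 : ∀ i, i < 17991 → P i := stepQ 17990 Q17990 (allL N17990 (tt N15846 F226736) (tt N18168 (iv F227732)) (tt N17990 F226737) (tt N18659 (iv F230566)) (tt N17990 F226738) (tt N15844 F226739) (tt N18616 (iv F230352)) (tt N18501 (iv F229696)) (tt N18539 (iv F229932)) (tt N15843 (iv D50760)))
theorem Q17992 : ∀ i, i < 17992 → P i := stepQ 17991 Q17991 (allL N17991 (tt N15847 F226740) (tt N18508 (iv F229743)) (tt N17991 F226741) (tt N18681 (iv F230647)) (tt N15845 F226742) (tt N18539 (iv F229929)) (tt N18609 (iv F230313)) (tt N18498 (iv F229673)) (tt N15844 (iv D50761)) (tt N18496 (iv F229658)))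
theorem Q17993 : ∀ i, i < 17993 → P i := stepQ 17992 Q17992 (allL N17992 (tt N18681 (iv F230645)) (tt N15851 F226743) (tt N18658 (iv F230561)) (tt N15847 (iv D50762)) (tt N18680 (iv F230643)) (tt N18565 (iv F230074)) (tt N19322 (iv F233529)) (tt N18564 (iv F230069)) (tt N19697 (iv F234914)) (tt N18137 (iv F227547)))
theorem Q17994 : ∀ i, i < 17994 → P i := stepQ 17993 Q17993 (allL N17993 (tt N18634 (iv F230444)) (tt N18680 (iv F230641)) (tt N18139 (iv F227560)) (tt N15852 F226744) (tt N15851 (iv D50763)) (tt N18744 (iv F230963)) (tt N18870 (iv F231465)) (tt N18586 (iv F230171)) (tt N19701 (iv F234921)) (tt N18138 (iv F227557)))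
theorem Q17995 : ∀ i, i < 17995 → P i := stepQ 17994 Q17994 (allL N17994 (tt N18978 (iv F231995)) (tt N15857 F226745) (tt N18997 (iv F232089)) (tt N15854 F226746) (tt N18313 (iv F228643)) (tt N19707 (iv F234941)) (tt N17994 F226747) (tt N18316 (iv F228665)) (tt N19952 D52722) (tt N15853 (iv D50764)))
theorem Q17996 : ∀ i, i < 17996 → P i := stepQ 17995 Q17995 (allL N17995 (tt N18989 (iv F232044)) (tt N15858 F226748) (tt N15871 F226749) (tt N19953 D52723) (tt N15855 F226750) (tt N19708 (iv F234945)) (tt N17995 F226751) (tt N18321 (iv F228696)) (tt N15854 (iv D50765)) (tt N17995 F226752))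
theorem Q17997 : ∀ i, i < 17997 → P i := stepQ 17996 Q17996 (allL N17996 (tt N18385 (iv F229050)) (tt N19008 (iv F232130)) (tt N15955 F226753) (tt N17996 F226754) (tt N18330 (iv F228745)) (tt N19710 (iv F234952)) (tt N17996 F226755) (tt N18333 (iv F228768)) (tt N19954 D52724) (tt N15856 (iv D50766)))
theorem Q17998 : ∀ i, i < 17998 → P i := stepQ 17997 Q17997 (allL N17997 (tt N18424 (iv F229243)) (tt N19952 (iv F235660)) (tt N15956 F226756) (tt N19955 D52725) (tt N18346 (iv F228838)) (tt N19711 (iv F234954)) (tt N17997 F226757) (tt N18350 (iv F228862)) (tt N15857 (iv D50767)) (tt N19954 (iv F235667)))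
theorem Q17999 : ∀ i, i < 17999 → P i := stepQ 17998 Q17998 (allL N17998 (tt N18451 (iv F229383)) (tt N19953 (iv F235662)) (tt N19543 (iv F234461)) (tt N15858 (iv D50768)) (tt N19208 (iv F232939)) (tt N19712 (iv F234955)) (tt N17998 F226758) (tt N18359 (iv F228918)) (tt N19955 (iv F235669)) (tt N17998 F226759))
theorem Q18000 : ∀ i, i < 18000 → P i := stepQ 17999 Q17999 (allL N17999 (tt N15861 F226760) (tt N18602 (iv F230262)) (tt N18603 (iv F230272)) (tt N15860 (iv D50769)) (tt N18703 (iv F230754)) (tt N18363 (iv F228942)) (tt N15863 F226761) (tt N18187 (iv F227877)) (tt N18186 F227869) (tt N17999 F226762))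
theorem Q18001 : ∀ i, i < 18001 → P i := stepQ 18000 Q18000 (allL N18000 (tt N18603 (iv F230270)) (tt N18000 F226763) (tt N15861 (iv D50770)) (tt N15878 F226764) (tt N18710 (iv F230793)) (tt N18095 (iv F227229)) (tt N15864 F226765) (tt N18084 (iv F227144)) (tt N18083 F227137) (tt N18000 F226766))
theorem Q18002 : ∀ i, i < 18002 → P i := stepQ 18001 Q18001 (allL N18001 (tt N18703 (iv F230751)) (tt N15862 F226767) (tt N18710 (iv F230791)) (tt N19717 (iv F234968)) (tt N15861 (iv D50771)) (tt N19956 D52726) (tt N15865 F226768) (tt N18224 (iv F228102)) (tt N18223 F228096) (tt N18001 F226769))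
theorem Q18003 : ∀ i, i < 18003 → P i := stepQ 18002 Q18002 (allL N18002 (tt N19951 (iv F235657)) (tt N19956 (iv F235670)) (tt N18002 F226770) (tt N19718 (iv F234971)) (tt N19203 (iv F232925)) (tt N15862 (iv D50772)) (tt N19957 D52727) (tt N18877 (iv F231491)) (tt N18876 F231486) (tt N18002 F226771))
theorem Q18004 : ∀ i, i < 18004 → P i := stepQ 18003 Q18003 (allL N18003 (tt N19590 (iv F234632)) (tt N18789 (iv F231155)) (tt N18003 F226772) (tt N19719 (iv F234973)) (tt N18003 F226773) (tt N19957 (iv F235673)) (tt N15866 (iv D50773)) (tt N18791 (iv F231171)) (tt N18788 F231153) (tt N18003 F226774))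
theorem Q18005 : ∀ i, i < 18005 → P i := stepQ 18004 Q18004 (allL N18004 (tt N18907 (iv F231643)) (tt N15868 F226775) (tt N18096 (iv F227236)) (tt N15867 (iv D50774)) (tt N19326 (iv F233546)) (tt N15875 F226776) (tt N18097 (iv F227245)) (tt N15872 F226777) (tt N18004 F226778) (tt N18004 F226779))
theorem Q18006 : ∀ i, i < 18006 → P i := stepQ 18005 Q18005 (allL N18005 (tt N15871 F226780) (tt N18005 F226781) (tt N18989 (iv F232046)) (tt N19362 (iv F233727)) (tt N15870 F226782) (tt N19721 (iv F234983)) (tt N18005 F226783) (tt N18906 (iv F231641)) (tt N15869 (iv D50775)) (tt N18005 F226784))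
theorem Q18007 : ∀ i, i < 18007 → P i := stepQ 18006 Q18006 (allL N18006 (tt N15872 F226785) (tt N18006 F226786) (tt N19958 D52728) (tt N15870 (iv D50776)) (tt N19959 D52729) (tt N15877 F226787) (tt N18006 F226788) (tt N18907 (iv F231648)) (tt N18006 F226789) (tt N18006 F226790))
theorem Q18008 : ∀ i, i < 18008 → P i := stepQ 18007 Q18007 (allL N18007 (tt N19958 (iv F235675)) (tt N18007 F226791) (tt N15872 (iv D50777)) (tt N18095 F227233) (tt N19960 D52730) (tt N15878 F226792) (tt N18007 F226793) (tt N18096 (iv F227239)) (tt N18007 F226794) (tt N18007 F226795))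
theorem Q18009 : ∀ i, i < 18009 → P i := stepQ 18008 Q18008 (allL N18008 (tt N19959 (iv F235682)) (tt N15873 F226796) (tt N19960 (iv F235688)) (tt N18101 F227283) (tt N15872 (iv D50778)) (tt N18106 (iv F227315)) (tt N18008 F226797) (tt N19326 (iv F233548)) (tt N18008 F226798) (tt N18008 F226799))
theorem Q18010 : ∀ i, i < 18010 → P i := stepQ 18009 Q18009 (allL N18009 (tt N15875 F226800) (tt N18009 F226801) (tt N15879 (iv F226806)) (tt N15874 (iv D50779)) (tt N15878 (iv F226807)) (tt N18907 (iv F231646)) (tt N15883 F226802) (tt N15877 F226803) (tt N18009 F226804) (tt N18009 F226805))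
theorem Q18011 : ∀ i, i < 18011 → P i := stepQ 18010 Q18010 (allL N18010 (tt N15879 F226808) (tt N18010 F226809) (tt N15875 (iv D50780)) (tt N18084 F227146) (tt N15877 (iv F226814)) (tt N18096 (iv F227237)) (tt N15882 F226810) (tt N15878 F226811) (tt N18010 F226812) (tt N18010 F226813))
theorem Q18012 : ∀ i, i < 18012 → P i := stepQ 18011 Q18011 (allL N18011 (tt N15878 F226815) (tt N15876 F226816) (tt N15877 F226817) (tt N18603 F230277) (tt N15875 (iv D50781)) (tt N19958 (iv F235676)) (tt N15881 F226818) (tt N15879 F226819) (tt N18011 F226820) (tt N18011 F226821))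
theorem Q18013 : ∀ i, i < 18013 → P i := stepQ 18012 Q18012 (allL N18012 (tt N18012 F226822) (tt N19958 F235681) (tt N18012 F226823) (tt N18489 (iv F229590)) (tt N18104 F227306) (tt N15876 (iv D50782)) (tt N18012 F226824) (tt N15880 F226825) (tt N18012 F226826) (tt N18012 F226827))
theorem Q18014 : ∀ i, i < 18014 → P i := stepQ 18013 Q18013 (allL N18013 (tt N18096 (iv F227234)) (tt N15880 F226828) (tt N18907 (iv F231645)) (tt N18088 F227180) (tt N18106 (iv F227314)) (tt N15879 (iv D50783)) (tt N18089 (iv F227186)) (tt N19958 (iv F235678)) (tt N18013 F226829) (tt N18013 F226830))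
theorem Q18015 : ∀ i, i < 18015 → P i := stepQ 18014 Q18014 (allL N18014 (tt N15887 F226831) (tt N15906 F226832) (tt N18102 (iv F227286)) (tt N15899 F226833) (tt N18472 (iv F229494)) (tt N15892 F226834) (tt N18014 F226835) (tt N15907 F226836) (tt N19961 D52731) (tt N15886 (iv D50784)))
theorem Q18016 : ∀ i, i < 18016 → P i := stepQ 18015 Q18015 (allL N18015 (tt N19961 (iv F235692)) (tt N15888 F226837) (tt N18103 (iv F227293)) (tt N19962 D52732) (tt N18473 (iv F229499)) (tt N15893 F226838) (tt N18015 F226839) (tt N18099 (iv F227266)) (tt N15887 (iv D50785)) (tt N18015 F226840))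
theorem Q18017 : ∀ i, i < 18017 → P i := stepQ 18016 Q18016 (allL N18016 (tt N15920 F226841) (tt N19962 (iv F235700)) (tt N18016 F226842) (tt N15888 (iv D50786)) (tt N19963 D52733) (tt N15894 F226843) (tt N18016 F226844) (tt N15932 F226845) (tt N15905 F226846) (tt N18016 F226847))
theorem Q18018 : ∀ i, i < 18018 → P i := stepQ 18017 Q18017 (allL N18017 (tt N15890 F226848) (tt N15905 F226849) (tt N18100 (iv F227270)) (tt N15902 F226850) (tt N19354 (iv F233686)) (tt N15907 F226851) (tt N18017 F226852) (tt N15892 F226853) (tt N19962 (iv F235704)) (tt N15889 (iv D50787)))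
theorem Q18019 : ∀ i, i < 18019 → P i := stepQ 18018 Q18018 (allL N18018 (tt N19962 (iv F235699)) (tt N15891 F226854) (tt N18101 (iv F227277)) (tt N19961 (iv F235694)) (tt N19355 (iv F233691)) (tt N18099 (iv F227264)) (tt N18018 F226855) (tt N15893 F226856) (tt N15890 (iv D50788)) (tt N18018 F226857))
theorem Q18020 : ∀ i, i < 18020 → P i := stepQ 18019 Q18019 (allL N18019 (tt N15913 F226858) (tt N19961 (iv F235693)) (tt N18019 F226859) (tt N15891 (iv D50789)) (tt N19964 D52734) (tt N15932 F226860) (tt N18019 F226861) (tt N15894 F226862) (tt N15906 F226863) (tt N18019 F226864))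
theorem Q18021 : ∀ i, i < 18021 → P i := stepQ 18020 Q18020 (allL N18020 (tt N15893 F226865) (tt N15932 F226866) (tt N19325 (iv F233541)) (tt N18099 (iv F227262)) (tt N19357 (iv F233703)) (tt N19961 (iv F235695)) (tt N15895 F226867) (tt N19962 (iv F235703)) (tt N15892 (iv D50790)) (tt N18020 F226868))
theorem Q18022 : ∀ i, i < 18022 → P i := stepQ 18021 Q18021 (allL N18021 (tt N18099 (iv F227259)) (tt N15894 F226869) (tt N18105 (iv F227309)) (tt N15893 (iv D50791)) (tt N18475 (iv F229510)) (tt N19962 (iv F235701)) (tt N15896 F226870) (tt N19961 (iv F235697)) (tt N15907 F226871) (tt N18021 F226872))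
theorem Q18023 : ∀ i, i < 18023 → P i := stepQ 18022 Q18022 (allL N18022 (tt N15940 F226873) (tt N18475 (iv F229508)) (tt N18022 F226874) (tt N19359 (iv F233711)) (tt N15894 (iv D50792)) (tt N19965 D52735) (tt N15897 F226875) (tt N19964 (iv F235715)) (tt N15908 F226876) (tt N18022 F226877))
theorem Q18024 : ∀ i, i < 18024 → P i := stepQ 18023 Q18023 (allL N18023 (tt N19104 (iv F232560)) (tt N15904 F226878) (tt N19162 (iv F232771)) (tt N15901 F226879) (tt N18420 (iv F229224)) (tt N19805 (iv F235233)) (tt N18023 F226880) (tt N18427 (iv F229268)) (tt N19966 D52736) (tt N15900 (iv D50793)))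
theorem Q18025 : ∀ i, i < 18025 → P i := stepQ 18024 Q18024 (allL N18024 (tt N15955 F226881) (tt N19160 (iv F232762)) (tt N18385 (iv F229052)) (tt N15958 F226882) (tt N18383 (iv F229041)) (tt N19806 (iv F235236)) (tt N18024 F226883) (tt N18389 (iv F229080)) (tt N19967 D52737) (tt N15903 (iv D50794)))
theorem Q18026 : ∀ i, i < 18026 → P i := stepQ 18025 Q18025 (allL N18025 (tt N15956 F226884) (tt N19966 (iv F235722)) (tt N18424 (iv F229245)) (tt N19902 (iv F235499)) (tt N18421 (iv F229229)) (tt N19807 (iv F235238)) (tt N18025 F226885) (tt N18431 (iv F229288)) (tt N15904 (iv D50795)) (tt N19967 (iv F235726)))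
theorem Q18027 : ∀ i, i < 18027 → P i := stepQ 18026 Q18026 (allL N18026 (tt N15926 F226886) (tt N19354 (iv F233684)) (tt N18026 F226887) (tt N19901 (iv F235494)) (tt N15905 (iv D50796)) (tt N19968 D52738) (tt N18026 F226888) (tt N15931 F226889) (tt N19963 (iv F235710)) (tt N15924 F226890))
theorem Q18028 : ∀ i, i < 18028 → P i := stepQ 18027 Q18027 (allL N18027 (tt N15912 F226891) (tt N18472 (iv F229492)) (tt N18027 F226892) (tt N19106 (iv F232572)) (tt N15906 (iv D50797)) (tt N19969 D52739) (tt N18027 F226893) (tt N15908 F226894) (tt N19964 (iv F235716)) (tt N15910 F226895))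
theorem Q18029 : ∀ i, i < 18029 → P i := stepQ 18028 Q18028 (allL N18028 (tt N15957 F226896) (tt N18464 (iv F229449)) (tt N18028 F226897) (tt N19113 (iv F232604)) (tt N19968 (iv F235729)) (tt N15908 (iv D50798)) (tt N19415 (iv F233966)) (tt N19969 (iv F235735)) (tt N19965 (iv F235720)) (tt N15959 F226898))
theorem Q18030 : ∀ i, i < 18030 → P i := stepQ 18029 Q18029 (allL N18029 (tt N15911 F226899) (tt N18460 (iv F229423)) (tt N18029 F226900) (tt N19105 (iv F232567)) (tt N15930 F226901) (tt N15910 (iv D50799)) (tt N19931 (iv F235591)) (tt N15959 F226902) (tt N18029 F226903) (tt N19969 (iv F235736)))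
theorem Q18031 : ∀ i, i < 18031 → P i := stepQ 18030 Q18030 (allL N18030 (tt N19931 (iv F235587)) (tt N15917 F226904) (tt N18030 F226905) (tt N19950 (iv F235655)) (tt N15933 F226906) (tt N18030 F226907) (tt N15911 (iv D50800)) (tt N19407 (iv F233918)) (tt N18030 F226908) (tt N19970 D52740))
theorem Q18032 : ∀ i, i < 18032 → P i := stepQ 18031 Q18031 (allL N18031 (tt N19969 (iv F235732)) (tt N15918 F226909) (tt N18031 F226910) (tt N19929 (iv F235580)) (tt N15934 F226911) (tt N15912 F226912) (tt N19970 (iv F235741)) (tt N15957 F226913) (tt N19971 D52741) (tt N15911 (iv D50801)))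
theorem Q18033 : ∀ i, i < 18033 → P i := stepQ 18032 Q18032 (allL N18032 (tt N19964 (iv F235712)) (tt N15919 F226914) (tt N18032 F226915) (tt N19972 D52742) (tt N15913 F226916) (tt N19971 (iv F235745)) (tt N18032 F226917) (tt N15940 F226918) (tt N15912 (iv D50802)) (tt N18032 F226919))
theorem Q18034 : ∀ i, i < 18034 → P i := stepQ 18033 Q18033 (allL N18033 (tt N18281 (iv F228425)) (tt N19950 (iv F235654)) (tt N18337 (iv F228788)) (tt N15917 F226920) (tt N19886 (iv F235468)) (tt N18033 F226921) (tt N15914 (iv D50803)) (tt N19376 (iv F233796)) (tt N19973 D52743) (tt N19974 D52744))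
theorem Q18035 : ∀ i, i < 18035 → P i := stepQ 18034 Q18034 (allL N18034 (tt N18373 (iv F228996)) (tt N19046 (iv F232307)) (tt N18325 F228722) (tt N18034 F226922) (tt N19887 (iv F235469)) (tt N15915 F226923) (tt N19973 (iv F235755)) (tt N18327 (iv F228733)) (tt N15914 (iv D50804)) (tt N19975 D52745))
theorem Q18036 : ∀ i, i < 18036 → P i := stepQ 18035 Q18035 (allL N18035 (tt N18405 (iv F229157)) (tt N19929 (iv F235579)) (tt N18340 (iv F228805)) (tt N15918 F226924) (tt N19888 (iv F235472)) (tt N15916 F226925) (tt N19974 (iv F235758)) (tt N18342 (iv F228822)) (tt N19976 D52746) (tt N15914 (iv D50805)))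
theorem Q18037 : ∀ i, i < 18037 → P i := stepQ 18036 Q18036 (allL N18036 (tt N18383 (iv F229038)) (tt N19047 (iv F232313)) (tt N18330 (iv F228743)) (tt N18036 F226926) (tt N15955 F226927) (tt N19975 (iv F235760)) (tt N18036 F226928) (tt N18331 (iv F228754)) (tt N19977 D52747) (tt N15915 (iv D50806)))
theorem Q18038 : ∀ i, i < 18038 → P i := stepQ 18037 Q18037 (allL N18037 (tt N18421 (iv F229227)) (tt N19907 (iv F235516)) (tt N18346 (iv F228836)) (tt N19978 D52748) (tt N15956 F226929) (tt N19976 (iv F235761)) (tt N18037 F226930) (tt N18347 (iv F228846)) (tt N15916 (iv D50807)) (tt N19977 (iv F235764)))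
theorem Q18039 : ∀ i, i < 18039 → P i := stepQ 18038 Q18038 (allL N18038 (tt N18282 (iv F228430)) (tt N19970 (iv F235737)) (tt N15921 F226931) (tt N19974 (iv F235756)) (tt N15937 F226932) (tt N18038 F226933) (tt N15918 F226934) (tt N19408 (iv F233925)) (tt N19979 D52749) (tt N15917 (iv D50808)))
theorem Q18040 : ∀ i, i < 18040 → P i := stepQ 18039 Q18039 (allL N18039 (tt N18462 (iv F229435)) (tt N19971 (iv F235742)) (tt N15922 F226935) (tt N19980 D52750) (tt N15938 F226936) (tt N15919 F226937) (tt N19979 (iv F235770)) (tt N18364 (iv F228952)) (tt N15918 (iv D50809)) (tt N18039 F226938))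
theorem Q18041 : ∀ i, i < 18041 → P i := stepQ 18040 Q18040 (allL N18040 (tt N18474 (iv F229503)) (tt N19972 (iv F235748)) (tt N19981 D52751) (tt N15919 (iv D50810)) (tt N19982 D52752) (tt N19980 (iv F235772)) (tt N18040 F226939) (tt N18365 (iv F228959)) (tt N19978 (iv F235766)) (tt N18040 F226940))
theorem Q18042 : ∀ i, i < 18042 → P i := stepQ 18041 Q18041 (allL N18041 (tt N19963 (iv F235706)) (tt N15928 F226941) (tt N18041 F226942) (tt N19982 (iv F235779)) (tt N15920 (iv D50811)) (tt N19983 D52753) (tt N18041 F226943) (tt N15935 F226944) (tt N15926 F226945) (tt N18041 F226946))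
theorem Q18043 : ∀ i, i < 18043 → P i := stepQ 18042 Q18042 (allL N18042 (tt N18284 (iv F228441)) (tt N18042 F226947) (tt N19979 (iv F235767)) (tt N19414 (iv F233956)) (tt N15942 F226948) (tt N18042 F226949) (tt N15922 F226950) (tt N19409 (iv F233932)) (tt N15921 (iv D50812)) (tt N18042 F226951))
theorem Q18044 : ∀ i, i < 18044 → P i := stepQ 18043 Q18043 (allL N18043 (tt N18278 (iv F228404)) (tt N18043 F226952) (tt N19984 D52754) (tt N15922 (iv D50813)) (tt N19409 (iv F233929)) (tt N15923 F226953) (tt N19414 (iv F233959)) (tt N15942 F226954) (tt N15941 F226955) (tt N18043 F226956))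
theorem Q18045 : ∀ i, i < 18045 → P i := stepQ 18044 Q18044 (allL N18044 (tt N18285 (iv F228449)) (tt N19985 D52755) (tt N15923 (iv D50814)) (tt N19981 (iv F235774)) (tt N18044 F226957) (tt N19984 (iv F235789)) (tt N18044 F226958) (tt N15951 F226959) (tt N15950 F226960) (tt N18044 F226961))
theorem Q18046 : ∀ i, i < 18046 → P i := stepQ 18045 Q18045 (allL N18045 (tt N15925 F226962) (tt N18463 (iv F229442)) (tt N18045 F226963) (tt N19900 (iv F235491)) (tt N15959 F226964) (tt N15924 (iv D50815)) (tt N19238 (iv F233116)) (tt N15930 F226965) (tt N18045 F226966) (tt N19968 (iv F235731)))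
theorem Q18047 : ∀ i, i < 18047 → P i := stepQ 18046 Q18046 (allL N18046 (tt N19968 (iv F235727)) (tt N15927 F226967) (tt N18046 F226968) (tt N19903 (iv F235503)) (tt N15957 F226969) (tt N15926 F226970) (tt N19417 (iv F233974)) (tt N15934 F226971) (tt N19983 (iv F235787)) (tt N15925 (iv D50816)))
theorem Q18048 : ∀ i, i < 18048 → P i := stepQ 18047 Q18047 (allL N18047 (tt N18470 (iv F229481)) (tt N19983 (iv F235783)) (tt N15929 F226972) (tt N19986 D52756) (tt N18364 (iv F228949)) (tt N15928 F226973) (tt N19420 (iv F233989)) (tt N15938 F226974) (tt N15927 (iv D50817)) (tt N18047 F226975))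
theorem Q18049 : ∀ i, i < 18049 → P i := stepQ 18048 Q18048 (allL N18048 (tt N19356 (iv F233695)) (tt N19982 (iv F235778)) (tt N19424 (iv F234008)) (tt N15928 (iv D50818)) (tt N19972 (iv F235749)) (tt N19986 (iv F235800)) (tt N18048 F226976) (tt N15939 F226977) (tt N19906 (iv F235515)) (tt N18048 F226978))
theorem Q18050 : ∀ i, i < 18050 → P i := stepQ 18049 Q18049 (allL N18049 (tt N15934 F226979) (tt N19351 (iv F233671)) (tt N18049 F226980) (tt N19910 (iv F235527)) (tt N19969 (iv F235734)) (tt N15931 F226981) (tt N19932 (iv F235598)) (tt N19968 (iv F235730)) (tt N19987 D52757) (tt N15930 (iv D50819)))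
theorem Q18051 : ∀ i, i < 18051 → P i := stepQ 18050 Q18050 (allL N18050 (tt N15935 F226982) (tt N19357 (iv F233701)) (tt N18050 F226983) (tt N18477 (iv F229517)) (tt N15932 F226984) (tt N19987 (iv F235805)) (tt N15945 F226985) (tt N19963 (iv F235709)) (tt N15931 (iv D50820)) (tt N18050 F226986))
theorem Q18052 : ∀ i, i < 18052 → P i := stepQ 18051 Q18051 (allL N18051 (tt N19932 (iv F235594)) (tt N15937 F226987) (tt N18051 F226988) (tt N19912 (iv F235533)) (tt N19970 (iv F235739)) (tt N15947 F226989) (tt N15934 F226990) (tt N19937 (iv F235620)) (tt N19988 D52758) (tt N15933 (iv D50821)))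
theorem Q18053 : ∀ i, i < 18053 → P i := stepQ 18052 Q18052 (allL N18052 (tt N19987 (iv F235803)) (tt N15938 F226991) (tt N18052 F226992) (tt N19989 D52759) (tt N19971 (iv F235744)) (tt N15935 F226993) (tt N19988 (iv F235810)) (tt N19983 (iv F235786)) (tt N15934 (iv D50822)) (tt N18052 F226994))
theorem Q18054 : ∀ i, i < 18054 → P i := stepQ 18053 Q18053 (allL N18053 (tt N18477 (iv F229516)) (tt N15939 F226995) (tt N19990 D52760) (tt N15935 (iv D50823)) (tt N18365 (iv F228957)) (tt N19989 (iv F235813)) (tt N15949 F226996) (tt N19982 (iv F235781)) (tt N19914 (iv F235540)) (tt N18053 F226997))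
theorem Q18055 : ∀ i, i < 18055 → P i := stepQ 18054 Q18054 (allL N18054 (tt N18277 (iv F228397)) (tt N19937 (iv F235617)) (tt N15941 F226998) (tt N19915 (iv F235542)) (tt N19408 (iv F233922)) (tt N15950 F226999) (tt N19412 (iv F233947)) (tt N15937 F227000) (tt N19984 (iv F235791)) (tt N15936 (iv D50824)))
theorem Q18056 : ∀ i, i < 18056 → P i := stepQ 18055 Q18055 (allL N18055 (tt N18283 (iv F228436)) (tt N19988 (iv F235807)) (tt N15942 F227001) (tt N19991 D52761) (tt N19979 (iv F235768)) (tt N15951 F227002) (tt N15938 F227003) (tt N19984 (iv F235790)) (tt N15937 (iv D50825)) (tt N18055 F227004))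
theorem Q18057 : ∀ i, i < 18057 → P i := stepQ 18056 Q18056 (allL N18056 (tt N19353 (iv F233679)) (tt N19989 (iv F235812)) (tt N19421 (iv F233992)) (tt N15938 (iv D50826)) (tt N19992 D52762) (tt N15939 F227005) (tt N19991 (iv F235820)) (tt N19986 (iv F235801)) (tt N19917 (iv F235549)) (tt N18056 F227006))
theorem Q18058 : ∀ i, i < 18058 → P i := stepQ 18057 Q18057 (allL N18057 (tt N19359 (iv F233709)) (tt N18365 (iv F228955)) (tt N19427 (iv F234022)) (tt N15940 F227007) (tt N15939 (iv D50827)) (tt N19993 D52763) (tt N15953 F227008) (tt N19972 (iv F235751)) (tt N19918 (iv F235552)) (tt N18057 F227009))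
theorem Q18059 : ∀ i, i < 18059 → P i := stepQ 18058 Q18058 (allL N18058 (tt N19965 (iv F235718)) (tt N18364 (iv F228947)) (tt N18058 F227010) (tt N19993 (iv F235823)) (tt N19983 (iv F235785)) (tt N15940 (iv D50828)) (tt N19418 (iv F233978)) (tt N19971 (iv F235746)) (tt N15957 F227011) (tt N18058 F227012))
theorem Q18060 : ∀ i, i < 18060 → P i := stepQ 18059 Q18059 (allL N18059 (tt N15947 F227013) (tt N15973 F227014) (tt N18059 F227015) (tt N19454 (iv F234139)) (tt N18059 F227016) (tt N19932 (iv F235597)) (tt N15944 F227017) (tt N15975 F227018) (tt N19994 D52764) (tt N15943 (iv D50829)))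
theorem Q18061 : ∀ i, i < 18061 → P i := stepQ 18060 Q18060 (allL N18060 (tt N15948 F227019) (tt N18288 (iv F228468)) (tt N18060 F227020) (tt N18479 (iv F229529)) (tt N18060 F227021) (tt N15945 F227022) (tt N19994 (iv F235829)) (tt N18060 F227023) (tt N15944 (iv D50830)) (tt N18060 F227024))
theorem Q18062 : ∀ i, i < 18062 → P i := stepQ 18061 Q18061 (allL N18061 (tt N15975 F227025) (tt N15950 F227026) (tt N18061 F227027) (tt N19921 (iv F235558)) (tt N18061 F227028) (tt N19937 (iv F235619)) (tt N18061 F227029) (tt N15947 F227030) (tt N19985 (iv F235798)) (tt N15946 (iv D50831)))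
theorem Q18063 : ∀ i, i < 18063 → P i := stepQ 18062 Q18062 (allL N18062 (tt N19994 (iv F235825)) (tt N15951 F227031) (tt N18062 F227032) (tt N19995 D52765) (tt N18062 F227033) (tt N19988 (iv F235809)) (tt N15948 F227034) (tt N19985 (iv F235797)) (tt N15947 (iv D50832)) (tt N18062 F227035))
theorem Q18064 : ∀ i, i < 18064 → P i := stepQ 18063 Q18063 (allL N18063 (tt N18479 (iv F229527)) (tt N15952 F227036) (tt N19428 (iv F234027)) (tt N15948 (iv D50833)) (tt N19210 (iv F232951)) (tt N15949 F227037) (tt N19995 (iv F235833)) (tt N18063 F227038) (tt N19923 (iv F235566)) (tt N18063 F227039))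
theorem Q18065 : ∀ i, i < 18065 → P i := stepQ 18064 Q18064 (allL N18064 (tt N18290 (iv F228483)) (tt N19210 (iv F232948)) (tt N15949 (iv D50834)) (tt N18064 F227040) (tt N15952 F227041) (tt N19428 (iv F234029)) (tt N19990 (iv F235817)) (tt N18064 F227042) (tt N19924 (iv F235569)) (tt N18064 F227043))
theorem Q18066 : ∀ i, i < 18066 → P i := stepQ 18065 Q18065 (allL N18065 (tt N18287 (iv F228463)) (tt N19995 (iv F235832)) (tt N18365 (iv F228956)) (tt N15951 (iv D50835)) (tt N19990 (iv F235816)) (tt N19991 (iv F235819)) (tt N15952 F227044) (tt N19981 (iv F235776)) (tt N19926 (iv F235574)) (tt N18065 F227045))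
theorem Q18067 : ∀ i, i < 18067 → P i := stepQ 18066 Q18066 (allL N18066 (tt N19967 (iv F235724)) (tt N19048 (iv F232320)) (tt N19954 (iv F235665)) (tt N19844 (iv F235336)) (tt N19977 (iv F235762)) (tt N19927 (iv F235575)) (tt N18066 F227046) (tt N19052 (iv F232340)) (tt N15955 (iv D50836)) (tt N15956 F227047))
theorem Q18068 : ∀ i, i < 18068 → P i := stepQ 18067 Q18067 (allL N18067 (tt N19735 (iv F235020)) (tt N19373 (iv F233777)) (tt N18970 (iv F231958)) (tt N15965 F227048) (tt N18968 (iv F231950)) (tt N19728 (iv F235003)) (tt N18067 F227049) (tt N18973 (iv F231981)) (tt N15960 (iv D50837)) (tt N19367 (iv F233756)))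
theorem Q18069 : ∀ i, i < 18069 → P i := stepQ 18068 Q18068 (allL N18068 (tt N15964 F227050) (tt N18257 (iv F228285)) (tt N15962 F227051) (tt N15971 F227052) (tt N19372 (iv F233773)) (tt N19777 (iv F235150)) (tt N18068 F227053) (tt N18261 (iv F228311)) (tt N19996 D52766) (tt N15961 (iv D50838)))
theorem Q18070 : ∀ i, i < 18070 → P i := stepQ 18069 Q18069 (allL N18069 (tt N15965 F227054) (tt N18968 (iv F231947)) (tt N19996 (iv F235836)) (tt N19735 (iv F235022)) (tt N19373 (iv F233779)) (tt N19779 (iv F235155)) (tt N18069 F227055) (tt N18971 (iv F231967)) (tt N15962 (iv D50839)) (tt N19398 (iv F233882)))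
theorem Q18071 : ∀ i, i < 18071 → P i := stepQ 18070 Q18070 (allL N18070 (tt N19921 (iv F235556)) (tt N15964 F227056) (tt N19843 (iv F235330)) (tt N15975 F227057) (tt N19451 (iv F234121)) (tt N19810 (iv F235246)) (tt N18070 F227058) (tt N19454 (iv F234142)) (tt N19997 D52767) (tt N15963 (iv D50840)))
theorem Q18072 : ∀ i, i < 18072 → P i := stepQ 18071 Q18071 (allL N18071 (tt N19996 (iv F235835)) (tt N19997 (iv F235838)) (tt N15965 F227059) (tt N19998 D52768) (tt N19452 (iv F234125)) (tt N19813 (iv F235252)) (tt N18071 F227060) (tt N19457 (iv F234154)) (tt N15964 (iv D50841)) (tt N19501 (iv F234305)))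
theorem Q18073 : ∀ i, i < 18073 → P i := stepQ 18072 Q18072 (allL N18072 (tt N18232 (iv F228144)) (tt N19076 (iv F232460)) (tt N18072 F227061) (tt N19853 (iv F235369)) (tt N18372 (iv F228992)) (tt N15968 F227062) (tt N18367 (iv F228970)) (tt N15967 F227063) (tt N18326 (iv F228727)) (tt N15966 (iv D50842)))
theorem Q18074 : ∀ i, i < 18074 → P i := stepQ 18073 Q18073 (allL N18073 (tt N15970 F227064) (tt N18296 (iv F228528)) (tt N18930 (iv F231769)) (tt N15972 F227065) (tt N18601 (iv F230256)) (tt N18702 (iv F230748)) (tt N18073 F227066) (tt N18297 (iv F228539)) (tt N15969 (iv D50843)) (tt N18073 F227067))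
theorem Q18075 : ∀ i, i < 18075 → P i := stepQ 18074 Q18074 (allL N18074 (tt N15976 F227068) (tt N18285 (iv F228450)) (tt N15972 F227069) (tt N19999 D52769) (tt N18074 F227070) (tt N19930 (iv F235585)) (tt N18074 F227071) (tt N18286 (iv F228461)) (tt N15971 (iv D50844)) (tt N18074 F227072))
theorem Q18076 : ∀ i, i < 18076 → P i := stepQ 18075 Q18075 (allL N18075 (tt N18286 (iv F228456)) (tt N19994 (iv F235826)) (tt N15974 F227073) (tt N18988 (iv F232039)) (tt N18075 F227074) (tt N19935 (iv F235608)) (tt N18288 (iv F228472)) (tt N15976 F227075) (tt N15973 (iv D50845)) (tt N18075 F227076))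
theorem Q18077 : ∀ i, i < 18077 → P i := stepQ 18076 Q18076 (allL N18076 (tt N19985 (iv F235793)) (tt N15976 F227077) (tt N18076 F227078) (tt N20000 D52770) (tt N18076 F227079) (tt N19940 (iv F235629)) (tt N18076 F227080) (tt N19994 (iv F235830)) (tt N15975 (iv D50846)) (tt N18076 F227081))
theorem Q18078 : ∀ i, i < 18078 → P i := stepQ 18077 Q18077 (allL N18077 (tt N19999 (iv F235842)) (tt N20000 (iv F235845)) (tt N18984 (iv F232022)) (tt N15976 (iv D50847)) (tt N19202 (iv F232920)) (tt N19944 (iv F235641)) (tt N18077 F227082) (tt N18988 (iv F232042)) (tt N19998 (iv F235841)) (tt N18077 F227083))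
theorem Q18079 : ∀ i, i < 18079 → P i := stepQ 18078 Q18078 (allL N18078 (tt N16403 F227084) (tt N18078 F227085) (tt N16056 F227086) (tt N18078 F227087) (tt N16457 F227088) (tt N18078 F227089) (tt N15978 F227090) (tt N16558 F227091) (tt N17978 (iv F227092)) (tt N15977 (iv D50848)))
theorem Q18080 : ∀ i, i < 18080 → P i := stepQ 18079 Q18079 (allL N18079 (tt N17546 F227093) (tt N18079 F227094) (tt N16057 F227095) (tt N17985 (iv F227101)) (tt N17528 F227096) (tt N15979 F227097) (tt N17978 F227098) (tt N15988 F227099) (tt N15978 (iv D50849)) (tt N18079 F227100))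
theorem Q18081 : ∀ i, i < 18081 → P i := stepQ 18080 Q18080 (allL N18080 (tt N17976 F227102) (tt N18080 F227103) (tt N17982 F227104) (tt N15979 (iv D50850)) (tt N18080 F227105) (tt N17985 F227106) (tt N18080 F227107) (tt N15989 F227108) (tt N18080 F227109) (tt N18080 F227110))
theorem Q18082 : ∀ i, i < 18082 → P i := stepQ 18081 Q18081 (allL N18081 (tt N15987 F227111) (tt N16554 F227112) (tt N16117 F227113) (tt N18081 F227114) (tt N16669 F227115) (tt N15993 F227116) (tt N15981 F227117) (tt N16556 F227118) (tt N17721 (iv F227119)) (tt N15980 (iv D50851)))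
theorem Q18083 : ∀ i, i < 18083 → P i := stepQ 18082 Q18082 (allL N18082 (tt N16669 F227120) (tt N18082 F227121) (tt N16150 F227122) (tt N17283 F227123) (tt N15987 F227124) (tt N17628 F227125) (tt N15984 F227126) (tt N16670 F227127) (tt N17719 (iv F227128)) (tt N15983 (iv D50852)))
theorem Q18084 : ∀ i, i < 18084 → P i := stepQ 18083 Q18083 (allL N18083 (tt N16556 F227129) (tt N18083 F227130) (tt N16153 F227131) (tt N18083 F227132) (tt N16670 F227133) (tt N16002 F227134) (tt N16558 F227135) (tt N15987 F227136) (tt N18000 (iv F227137)) (tt N15986 (iv D50853)))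
theorem Q18085 : ∀ i, i < 18085 → P i := stepQ 18084 Q18084 (allL N18084 (tt N17721 F227138) (tt N18084 F227139) (tt N16154 F227140) (tt N18010 (iv F227146)) (tt N17719 F227141) (tt N16003 F227142) (tt N15988 F227143) (tt N18000 F227144) (tt N15987 (iv D50854)) (tt N18084 F227145))
theorem Q18086 : ∀ i, i < 18086 → P i := stepQ 18085 Q18085 (allL N18085 (tt N16544 F227147) (tt N17981 (iv F227155)) (tt N15989 (iv D50855)) (tt N16106 F227148) (tt N18085 F227149) (tt N17983 F227150) (tt N16005 F227151) (tt N17982 F227152) (tt N18085 F227153) (tt N18085 F227154))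
theorem Q18087 : ∀ i, i < 18087 → P i := stepQ 18086 Q18086 (allL N18086 (tt N18086 F227156) (tt N16005 F227157) (tt N18086 F227158) (tt N15990 (iv D50856)) (tt N18086 F227159) (tt N17289 F227160) (tt N17981 F227161) (tt N18086 F227162) (tt N18086 F227163) (tt N18086 F227164))
theorem Q18088 : ∀ i, i < 18088 → P i := stepQ 18087 Q18087 (allL N18087 (tt N16002 F227165) (tt N16551 F227166) (tt N16280 F227167) (tt N18087 F227168) (tt N17154 F227169) (tt N16556 F227170) (tt N18087 F227171) (tt N15993 F227172) (tt N20001 D52771) (tt N15992 (iv D50857)))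
theorem Q18089 : ∀ i, i < 18089 → P i := stepQ 18088 Q18088 (allL N18088 (tt N16003 F227173) (tt N16392 F227174) (tt N16281 F227175) (tt N18013 (iv F227180)) (tt N16391 F227176) (tt N17721 F227177) (tt N15994 F227178) (tt N20001 (iv F235854)) (tt N15993 (iv D50858)) (tt N18088 F227179))
theorem Q18090 : ∀ i, i < 18090 → P i := stepQ 18089 Q18089 (allL N18089 (tt N16004 F227181) (tt N16020 F227182) (tt N16853 F227183) (tt N15994 (iv D50859)) (tt N16019 F227184) (tt N15995 F227185) (tt N18013 F227186) (tt N18089 F227187) (tt N18089 F227188) (tt N18089 F227189))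
theorem Q18091 : ∀ i, i < 18091 → P i := stepQ 18090 Q18090 (allL N18090 (tt N16664 F227190) (tt N18090 F227191) (tt N16350 F227192) (tt N17005 F227193) (tt N16663 F227194) (tt N15999 F227195) (tt N16733 F227196) (tt N15996 (iv D50860)) (tt N18090 F227197) (tt N20002 D52772))
theorem Q18092 : ∀ i, i < 18092 → P i := stepQ 18091 Q18091 (allL N18091 (tt N17152 F227198) (tt N18091 F227199) (tt N16351 F227200) (tt N17150 F227201) (tt N17628 F227202) (tt N16000 F227203) (tt N15997 F227204) (tt N20002 (iv F235864)) (tt N20003 D52773) (tt N15996 (iv D50861)))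
theorem Q18093 : ∀ i, i < 18093 → P i := stepQ 18092 Q18092 (allL N18092 (tt N17508 F227205) (tt N18092 F227206) (tt N16352 F227207) (tt N17506 F227208) (tt N17629 F227209) (tt N15998 F227210) (tt N20003 (iv F235871)) (tt N17631 F227211) (tt N15997 (iv D50862)) (tt N18092 F227212))
theorem Q18094 : ∀ i, i < 18094 → P i := stepQ 18093 Q18093 (allL N18093 (tt N17154 F227213) (tt N18093 F227214) (tt N16354 F227215) (tt N17153 F227216) (tt N16002 F227217) (tt N20002 (iv F235862)) (tt N18093 F227218) (tt N16000 F227219) (tt N20004 D52774) (tt N15999 (iv D50863)))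
theorem Q18095 : ∀ i, i < 18095 → P i := stepQ 18094 Q18094 (allL N18094 (tt N16391 F227220) (tt N18094 F227221) (tt N16355 F227222) (tt N16390 F227223) (tt N16003 F227224) (tt N20003 (iv F235870)) (tt N16001 F227225) (tt N20004 (iv F235879)) (tt N16000 (iv D50864)) (tt N18094 F227226))
theorem Q18096 : ∀ i, i < 18096 → P i := stepQ 18095 Q18095 (allL N18095 (tt N20001 (iv F235848)) (tt N18095 F227227) (tt N16358 F227228) (tt N18007 (iv F227233)) (tt N20004 (iv F235877)) (tt N18000 F227229) (tt N18095 F227230) (tt N16003 F227231) (tt N16002 (iv D50865)) (tt N18095 F227232))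
theorem Q18097 : ∀ i, i < 18097 → P i := stepQ 18096 Q18096 (allL N18096 (tt N18013 F227234) (tt N18096 F227235) (tt N18004 F227236) (tt N16003 (iv D50866)) (tt N20005 D52775) (tt N18010 F227237) (tt N16004 F227238) (tt N18007 F227239) (tt N18096 F227240) (tt N18096 F227241))
theorem Q18098 : ∀ i, i < 18098 → P i := stepQ 18097 Q18097 (allL N18097 (tt N16853 F227242) (tt N17289 (iv F227249)) (tt N16004 (iv D50867)) (tt N16244 F227243) (tt N17288 F227250) (tt N16005 F227244) (tt N18004 F227245) (tt N18097 F227246) (tt N18097 F227247) (tt N18097 F227248))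
theorem Q18099 : ∀ i, i < 18099 → P i := stepQ 18098 Q18098 (allL N18098 (tt N16019 F227251) (tt N18098 F227252) (tt N17288 F227253) (tt N16018 F227254) (tt N16004 (iv D50868)) (tt N18098 F227255) (tt N20005 (iv F235886)) (tt N18098 F227256) (tt N18098 F227257) (tt N18098 F227258))
theorem Q18100 : ∀ i, i < 18100 → P i := stepQ 18099 Q18099 (allL N18099 (tt N18021 F227259) (tt N16007 F227260) (tt N16016 F227261) (tt N18020 F227262) (tt N16373 F227263) (tt N18018 F227264) (tt N16008 F227265) (tt N18015 F227266) (tt N16006 (iv D50869)) (tt N18099 F227267))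
theorem Q18101 : ∀ i, i < 18101 → P i := stepQ 18100 Q18100 (allL N18100 (tt N16010 F227268) (tt N18100 F227269) (tt N18017 F227270) (tt N18100 F227271) (tt N17329 F227272) (tt N16015 F227273) (tt N18100 F227274) (tt N17284 F227275) (tt N20006 D52776) (tt N16009 (iv D50870)))
theorem Q18102 : ∀ i, i < 18102 → P i := stepQ 18101 Q18101 (allL N18101 (tt N20006 (iv F235890)) (tt N16011 F227276) (tt N18018 F227277) (tt N18008 (iv F227283)) (tt N17330 F227278) (tt N16016 F227279) (tt N18101 F227280) (tt N17285 F227281) (tt N16010 (iv D50871)) (tt N18101 F227282))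
theorem Q18103 : ∀ i, i < 18103 → P i := stepQ 18102 Q18102 (allL N18102 (tt N16013 F227284) (tt N18102 F227285) (tt N18014 F227286) (tt N18102 F227287) (tt N16387 F227288) (tt N17284 F227289) (tt N18102 F227290) (tt N16015 F227291) (tt N20007 D52777) (tt N16012 (iv D50872)))
theorem Q18104 : ∀ i, i < 18104 → P i := stepQ 18103 Q18103 (allL N18103 (tt N20007 (iv F235899)) (tt N16014 F227292) (tt N18015 F227293) (tt N20008 D52778) (tt N16388 F227294) (tt N17285 F227295) (tt N18103 F227296) (tt N16016 F227297) (tt N16013 (iv D50873)) (tt N18103 F227298))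
theorem Q18105 : ∀ i, i < 18105 → P i := stepQ 18104 Q18104 (allL N18104 (tt N18104 F227299) (tt N20008 (iv F235909)) (tt N18104 F227300) (tt N16014 (iv D50874)) (tt N18012 (iv F227306)) (tt N17286 F227301) (tt N18104 F227302) (tt N16017 F227303) (tt N18104 F227304) (tt N18104 F227305))
theorem Q18106 : ∀ i, i < 18106 → P i := stepQ 18105 Q18105 (allL N18105 (tt N16016 F227307) (tt N18105 F227308) (tt N18021 F227309) (tt N20005 (iv F235884)) (tt N16390 F227310) (tt N20006 (iv F235894)) (tt N16018 F227311) (tt N20007 (iv F235905)) (tt N16015 (iv D50875)) (tt N18105 F227312))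
theorem Q18107 : ∀ i, i < 18107 → P i := stepQ 18106 Q18106 (allL N18106 (tt N20005 (iv F235881)) (tt N16017 F227313) (tt N20009 D52779) (tt N16016 (iv D50876)) (tt N18013 F227314) (tt N18008 F227315) (tt N16019 F227316) (tt N20008 (iv F235914)) (tt N18106 F227317) (tt N18106 F227318))
theorem Q18108 : ∀ i, i < 18108 → P i := stepQ 18107 Q18107 (allL N18107 (tt N17288 F227319) (tt N18107 F227320) (tt N16019 (iv D50877)) (tt N17287 F227321) (tt N16853 F227322) (tt N18107 F227323) (tt N20009 (iv F235922)) (tt N18107 F227324) (tt N18107 F227325) (tt N18107 F227326))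
theorem Q18109 : ∀ i, i < 18109 → P i := stepQ 18108 Q18108 (allL N18108 (tt N16504 F227327) (tt N16435 F227328) (tt N16520 F227329) (tt N18108 F227330) (tt N16021 (iv D50878)) (tt N16469 F227331) (tt N16517 F227332) (tt N16063 F227333) (tt N16027 F227334) (tt N20010 D52780))
theorem Q18110 : ∀ i, i < 18110 → P i := stepQ 18109 Q18109 (allL N18109 (tt N17202 F227335) (tt N16436 F227336) (tt N17543 F227337) (tt N16022 F227338) (tt N20010 (iv F235930)) (tt N17196 F227339) (tt N17540 F227340) (tt N16064 F227341) (tt N20011 D52781) (tt N16021 (iv D50879)))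
theorem Q18111 : ∀ i, i < 18111 → P i := stepQ 18110 Q18110 (allL N18110 (tt N16520 F227342) (tt N16420 F227343) (tt N16504 F227344) (tt N16030 F227345) (tt N16024 (iv D50880)) (tt N16502 F227346) (tt N16027 F227347) (tt N16587 F227348) (tt N16517 F227349) (tt N20012 D52782))
theorem Q18112 : ∀ i, i < 18112 → P i := stepQ 18111 Q18111 (allL N18111 (tt N17543 F227350) (tt N16442 F227351) (tt N17202 F227352) (tt N16025 F227353) (tt N20012 (iv F235946)) (tt N17203 F227354) (tt N16028 F227355) (tt N17221 F227356) (tt N20013 D52783) (tt N16024 (iv D50881)))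
theorem Q18113 : ∀ i, i < 18113 → P i := stepQ 18112 Q18112 (allL N18112 (tt N16517 F227357) (tt N16507 F227358) (tt N16027 F227359) (tt N18112 F227360) (tt N16026 (iv D50882)) (tt N16480 F227361) (tt N16504 F227362) (tt N16075 F227363) (tt N16520 F227364) (tt N20014 D52784))
theorem Q18114 : ∀ i, i < 18114 → P i := stepQ 18113 Q18113 (allL N18113 (tt N17540 F227365) (tt N16508 F227366) (tt N16028 F227367) (tt N16034 F227368) (tt N20014 (iv F235962)) (tt N16047 F227369) (tt N17202 F227370) (tt N16076 F227371) (tt N20015 D52785) (tt N16026 (iv D50883)))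
theorem Q18115 : ∀ i, i < 18115 → P i := stepQ 18114 Q18114 (allL N18114 (tt N16521 F227372) (tt N16446 F227373) (tt N20014 (iv F235960)) (tt N16032 F227374) (tt N16028 F227375) (tt N16482 F227376) (tt N20012 (iv F235948)) (tt N16077 F227377) (tt N20016 D52786) (tt N16027 (iv D50884)))
theorem Q18116 : ∀ i, i < 18116 → P i := stepQ 18115 Q18115 (allL N18115 (tt N17544 F227378) (tt N16447 F227379) (tt N20015 (iv F235968)) (tt N16051 F227380) (tt N20016 (iv F235976)) (tt N17197 F227381) (tt N20013 (iv F235955)) (tt N16078 F227382) (tt N16028 (iv D50885)) (tt N20011 (iv F235941)))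
theorem Q18117 : ∀ i, i < 18117 → P i := stepQ 18116 Q18116 (allL N18116 (tt N16525 F227383) (tt N16430 F227384) (tt N18116 F227385) (tt N20012 (iv F235945)) (tt N16031 F227386) (tt N17514 F227387) (tt N16032 F227388) (tt N16601 F227389) (tt N17975 (iv F227390)) (tt N16030 (iv D50886)))
theorem Q18118 : ∀ i, i < 18118 → P i := stepQ 18117 Q18117 (allL N18117 (tt N16526 F227391) (tt N16451 F227392) (tt N18117 F227393) (tt N20017 D52787) (tt N16033 F227394) (tt N16487 F227395) (tt N17975 F227396) (tt N16084 F227397) (tt N16032 (iv D50887)) (tt N18117 F227398))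
theorem Q18119 : ∀ i, i < 18119 → P i := stepQ 18118 Q18118 (allL N18118 (tt N16464 F227399) (tt N16038 F227400) (tt N17530 F227401) (tt N16036 F227402) (tt N17535 F227403) (tt N17198 F227404) (tt N17538 F227405) (tt N16103 F227406) (tt N20018 D52788) (tt N16035 (iv D50888)))
theorem Q18120 : ∀ i, i < 18120 → P i := stepQ 18119 Q18119 (allL N18119 (tt N16051 F227407) (tt N20018 (iv F235987)) (tt N17201 F227408) (tt N17544 F227409) (tt N17536 F227410) (tt N17200 F227411) (tt N17541 F227412) (tt N16112 F227413) (tt N16038 (iv D50889)) (tt N17209 F227414))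
theorem Q18121 : ∀ i, i < 18121 → P i := stepQ 18120 Q18120 (allL N18120 (tt N16056 F227415) (tt N16399 F227416) (tt N16403 F227417) (tt N16410 F227418) (tt N16455 F227419) (tt N18120 F227420) (tt N16040 F227421) (tt N16548 F227422) (tt N17977 (iv F227423)) (tt N16039 (iv D50890)))
theorem Q18122 : ∀ i, i < 18122 → P i := stepQ 18121 Q18121 (allL N18121 (tt N16057 F227424) (tt N16425 F227425) (tt N17546 F227426) (tt N16452 F227427) (tt N17545 F227428) (tt N16041 F227429) (tt N17977 F227430) (tt N16118 F227431) (tt N16040 (iv D50891)) (tt N18121 F227432))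
theorem Q18123 : ∀ i, i < 18123 → P i := stepQ 18122 Q18122 (allL N18122 (tt N17203 F227433) (tt N16500 F227434) (tt N17196 F227435) (tt N16044 F227436) (tt N17523 F227437) (tt N17543 F227438) (tt N16046 F227439) (tt N17215 F227440) (tt N20019 D52789) (tt N16043 (iv D50892)))
theorem Q18124 : ∀ i, i < 18124 → P i := stepQ 18123 Q18123 (allL N18123 (tt N17208 F227441) (tt N16505 F227442) (tt N17199 F227443) (tt N18123 F227444) (tt N16046 F227445) (tt N17533 F227446) (tt N17523 F227447) (tt N16127 F227448) (tt N20020 D52790) (tt N16045 (iv D50893)))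
theorem Q18125 : ∀ i, i < 18125 → P i := stepQ 18124 Q18124 (allL N18124 (tt N17209 F227449) (tt N16506 F227450) (tt N17200 F227451) (tt N20011 (iv F235937)) (tt N20020 (iv F236007)) (tt N17201 F227452) (tt N20019 (iv F236001)) (tt N16128 F227453) (tt N16046 (iv D50894)) (tt N16051 F227454))
theorem Q18126 : ∀ i, i < 18126 → P i := stepQ 18125 Q18125 (allL N18125 (tt N17541 F227455) (tt N16513 F227456) (tt N17197 F227457) (tt N20013 (iv F235953)) (tt N17527 F227458) (tt N20015 (iv F235970)) (tt N16051 F227459) (tt N17220 F227460) (tt N16047 (iv D50895)) (tt N20019 (iv F236003)))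
theorem Q18127 : ∀ i, i < 18127 → P i := stepQ 18126 Q18126 (allL N18126 (tt N17201 F227461) (tt N17518 F227462) (tt N16051 F227463) (tt N17204 F227464) (tt N17526 F227465) (tt N17209 F227466) (tt N17197 F227467) (tt N16142 F227468) (tt N16048 (iv D50896)) (tt N17200 F227469))
theorem Q18128 : ∀ i, i < 18128 → P i := stepQ 18127 Q18127 (allL N18127 (tt N16443 F227470) (tt N16520 F227471) (tt N16472 F227472) (tt N16052 F227473) (tt N16494 F227474) (tt N16476 F227475) (tt N16049 (iv D50897)) (tt N16630 (iv F227477)) (tt N16507 F227476) (tt N20021 D52791))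
theorem Q18129 : ∀ i, i < 18129 → P i := stepQ 18128 Q18128 (allL N18128 (tt N17532 F227478) (tt N16521 F227479) (tt N17525 F227480) (tt N16053 F227481) (tt N17210 F227482) (tt N16050 F227483) (tt N20021 (iv F236018)) (tt N16144 F227484) (tt N20022 D52792) (tt N16049 (iv D50898)))
theorem Q18130 : ∀ i, i < 18130 → P i := stepQ 18129 Q18129 (allL N18129 (tt N17536 F227485) (tt N16522 F227486) (tt N17526 F227487) (tt N20023 D52793) (tt N16051 F227488) (tt N20022 (iv F236024)) (tt N17527 F227489) (tt N16145 F227490) (tt N16050 (iv D50899)) (tt N20020 (iv F236011)))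
theorem Q18131 : ∀ i, i < 18131 → P i := stepQ 18130 Q18130 (allL N18130 (tt N16455 F227491) (tt N16525 F227492) (tt N16457 F227493) (tt N20021 (iv F236015)) (tt N16056 F227494) (tt N16489 F227495) (tt N16053 F227496) (tt N16658 F227497) (tt N17979 (iv F227498)) (tt N16052 (iv D50900)))
theorem Q18132 : ∀ i, i < 18132 → P i := stepQ 18131 Q18131 (allL N18131 (tt N17545 F227499) (tt N16526 F227500) (tt N17528 F227501) (tt N20024 D52794) (tt N16057 F227502) (tt N16054 F227503) (tt N17979 F227504) (tt N16151 F227505) (tt N16053 (iv D50901)) (tt N18131 F227506))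
theorem Q18133 : ∀ i, i < 18133 → P i := stepQ 18132 Q18132 (allL N18132 (tt N17548 F227507) (tt N16527 F227508) (tt N20025 D52795) (tt N16054 (iv D50902)) (tt N20017 (iv F235981)) (tt N20024 (iv F236036)) (tt N17529 F227509) (tt N16152 F227510) (tt N20023 (iv F236031)) (tt N18132 F227511))
theorem Q18134 : ∀ i, i < 18134 → P i := stepQ 18133 Q18133 (allL N18133 (tt N17241 F227512) (tt N16605 F227513) (tt N17675 F227514) (tt N16059 (iv D50903)) (tt N20026 D52796) (tt N16060 F227515) (tt N17212 F227516) (tt N17671 F227517) (tt N16067 F227518) (tt N20027 D52797))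
theorem Q18135 : ∀ i, i < 18135 → P i := stepQ 18134 Q18134 (allL N18134 (tt N17242 F227519) (tt N16606 F227520) (tt N17233 F227521) (tt N20027 (iv F236056)) (tt N17349 F227522) (tt N16061 F227523) (tt N17213 F227524) (tt N17989 F227525) (tt N16121 F227526) (tt N16059 (iv D50904)))
theorem Q18136 : ∀ i, i < 18136 → P i := stepQ 18135 Q18135 (allL N18135 (tt N16769 F227527) (tt N16610 F227528) (tt N16804 F227529) (tt N18135 F227530) (tt N16060 (iv D50905)) (tt N20028 D52798) (tt N16063 F227531) (tt N16800 F227532) (tt N16072 F227533) (tt N20029 D52799))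
theorem Q18137 : ∀ i, i < 18137 → P i := stepQ 18136 Q18136 (allL N18136 (tt N17280 F227534) (tt N16611 F227535) (tt N17687 F227536) (tt N16061 F227537) (tt N20029 (iv F236071)) (tt N20027 (iv F236057)) (tt N16064 F227538) (tt N17683 F227539) (tt N20030 D52800) (tt N16060 (iv D50906)))
theorem Q18138 : ∀ i, i < 18138 → P i := stepQ 18137 Q18137 (allL N18137 (tt N16631 F227540) (tt N16062 (iv D50907)) (tt N16612 F227541) (tt N16493 F227542) (tt N16630 (iv F227548)) (tt N16496 F227543) (tt N17269 F227544) (tt N16494 F227545) (tt N16074 F227546) (tt N17992 F227547))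
theorem Q18139 : ∀ i, i < 18139 → P i := stepQ 18138 Q18138 (allL N18138 (tt N16587 F227549) (tt N16630 F227550) (tt N16063 F227551) (tt N16524 F227552) (tt N16062 (iv D50908)) (tt N16700 F227553) (tt N16804 F227554) (tt N16520 F227555) (tt N16075 F227556) (tt N17993 F227557))
theorem Q18140 : ∀ i, i < 18140 → P i := stepQ 18139 Q18139 (allL N18139 (tt N16770 F227558) (tt N16616 F227559) (tt N17993 F227560) (tt N18139 F227561) (tt N16064 F227562) (tt N16702 F227563) (tt N20029 (iv F236072)) (tt N20010 (iv F235933)) (tt N20031 D52801) (tt N16063 (iv D50909)))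
theorem Q18141 : ∀ i, i < 18141 → P i := stepQ 18140 Q18140 (allL N18140 (tt N17268 F227564) (tt N16617 F227565) (tt N17685 F227566) (tt N16128 F227567) (tt N20031 (iv F236084)) (tt N17216 F227568) (tt N20030 (iv F236078)) (tt N20011 (iv F235940)) (tt N16064 (iv D50910)) (tt N16078 F227569))
theorem Q18142 : ∀ i, i < 18142 → P i := stepQ 18141 Q18141 (allL N18141 (tt N17675 F227570) (tt N16619 F227571) (tt N17241 F227572) (tt N16066 (iv D50911)) (tt N20032 D52802) (tt N16069 F227573) (tt N17243 F227574) (tt N16067 F227575) (tt N17671 F227576) (tt N20033 D52803))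
theorem Q18143 : ∀ i, i < 18143 → P i := stepQ 18142 Q18142 (allL N18142 (tt N17689 F227577) (tt N16620 F227578) (tt N16085 F227579) (tt N20033 (iv F236097)) (tt N16172 F227580) (tt N16070 F227581) (tt N17274 F227582) (tt N16068 F227583) (tt N16130 F227584) (tt N16066 (iv D50912)))
theorem Q18144 : ∀ i, i < 18144 → P i := stepQ 18143 Q18143 (allL N18143 (tt N17671 F227585) (tt N16772 (iv F227591)) (tt N16067 (iv D50913)) (tt N16086 F227586) (tt N20034 D52804) (tt N16071 F227587) (tt N16129 F227588) (tt N17241 F227589) (tt N17675 F227590) (tt N20035 D52805))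
theorem Q18145 : ∀ i, i < 18145 → P i := stepQ 18144 Q18144 (allL N18144 (tt N17662 F227592) (tt N16622 F227593) (tt N20034 (iv F236103)) (tt N16174 F227594) (tt N16067 (iv D50914)) (tt N20036 D52806) (tt N17217 F227595) (tt N20032 (iv F236092)) (tt N20026 (iv F236052)) (tt N20037 D52807))
theorem Q18146 : ∀ i, i < 18146 → P i := stepQ 18145 Q18145 (allL N18145 (tt N17676 F227596) (tt N16623 F227597) (tt N20035 (iv F236110)) (tt N16068 F227598) (tt N20037 (iv F236123)) (tt N16073 F227599) (tt N17218 F227600) (tt N20033 (iv F236100)) (tt N20038 D52808) (tt N16067 (iv D50915)))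
theorem Q18147 : ∀ i, i < 18147 → P i := stepQ 18146 Q18146 (allL N18146 (tt N16804 F227601) (tt N16584 F227602) (tt N16769 F227603) (tt N16079 F227604) (tt N16069 (iv D50916)) (tt N20039 D52809) (tt N16587 F227605) (tt N16072 F227606) (tt N16800 F227607) (tt N20040 D52810))
theorem Q18148 : ∀ i, i < 18148 → P i := stepQ 18147 Q18147 (allL N18147 (tt N17687 F227608) (tt N16624 F227609) (tt N17280 F227610) (tt N16070 F227611) (tt N20040 (iv F236141)) (tt N20033 (iv F236098)) (tt N17221 F227612) (tt N16073 F227613) (tt N20041 D52811) (tt N16069 (iv D50917)))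
theorem Q18149 : ∀ i, i < 18149 → P i := stepQ 18148 Q18148 (allL N18148 (tt N20042 D52812) (tt N16071 (iv D50918)) (tt N16625 F227614) (tt N16088 F227615) (tt N20043 D52813) (tt N16772 F227616) (tt N16074 F227617) (tt N17238 F227618) (tt N17269 F227619) (tt N20044 D52814))
theorem Q18150 : ∀ i, i < 18150 → P i := stepQ 18149 Q18149 (allL N18149 (tt N16800 F227620) (tt N20043 (iv F236160)) (tt N16072 F227621) (tt N18149 F227622) (tt N16071 (iv D50919)) (tt N20045 D52815) (tt N16075 F227623) (tt N16769 F227624) (tt N16804 F227625) (tt N20046 D52816))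
theorem Q18151 : ∀ i, i < 18151 → P i := stepQ 18150 Q18150 (allL N18150 (tt N17683 F227626) (tt N20044 (iv F236166)) (tt N16073 F227627) (tt N16089 F227628) (tt N20046 (iv F236181)) (tt N20035 (iv F236112)) (tt N16076 F227629) (tt N17280 F227630) (tt N20047 D52817) (tt N16071 (iv D50920)))
theorem Q18152 : ∀ i, i < 18152 → P i := stepQ 18151 Q18151 (allL N18151 (tt N16794 F227631) (tt N16627 F227632) (tt N20045 (iv F236173)) (tt N16081 F227633) (tt N20036 (iv F236118)) (tt N16072 (iv D50921)) (tt N16716 F227634) (tt N20039 (iv F236135)) (tt N20028 (iv F236066)) (tt N20048 D52818))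
theorem Q18153 : ∀ i, i < 18153 → P i := stepQ 18152 Q18152 (allL N18152 (tt N16805 F227635) (tt N16628 F227636) (tt N20046 (iv F236179)) (tt N16082 F227637) (tt N16073 F227638) (tt N20048 (iv F236193)) (tt N16077 F227639) (tt N20040 (iv F236143)) (tt N20049 D52819) (tt N16072 (iv D50922)))
theorem Q18154 : ∀ i, i < 18154 → P i := stepQ 18153 Q18153 (allL N18153 (tt N17688 F227640) (tt N16629 F227641) (tt N20047 (iv F236185)) (tt N16138 F227642) (tt N20049 (iv F236197)) (tt N20038 (iv F236128)) (tt N16078 F227643) (tt N20041 (iv F236149)) (tt N16073 (iv D50923)) (tt N20030 (iv F236080)))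
theorem Q18155 : ∀ i, i < 18155 → P i := stepQ 18154 Q18154 (allL N18154 (tt N16074 (iv D50924)) (tt N16613 F227644) (tt N16630 F227645) (tt N16090 F227646) (tt N16612 (iv F227650)) (tt N16474 F227647) (tt N20042 (iv F236155)) (tt N16472 F227648) (tt N16631 F227649) (tt N20050 D52820))
theorem Q18156 : ∀ i, i < 18156 → P i := stepQ 18155 Q18155 (allL N18155 (tt N16612 F227651) (tt N16075 F227652) (tt N16631 F227653) (tt N18155 F227654) (tt N16074 (iv D50925)) (tt N16720 F227655) (tt N20043 (iv F236163)) (tt N16507 F227656) (tt N16630 F227657) (tt N20051 D52821))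
theorem Q18157 : ∀ i, i < 18157 → P i := stepQ 18156 Q18156 (allL N18156 (tt N20050 (iv F236199)) (tt N16076 F227658) (tt N16632 F227659) (tt N16091 F227660) (tt N20051 (iv F236210)) (tt N16509 F227661) (tt N20044 (iv F236170)) (tt N16508 F227662) (tt N20052 D52822) (tt N16074 (iv D50926)))
theorem Q18158 : ∀ i, i < 18158 → P i := stepQ 18157 Q18157 (allL N18157 (tt N16801 F227663) (tt N20051 (iv F236207)) (tt N16077 F227664) (tt N18157 F227665) (tt N16076 F227666) (tt N16722 F227667) (tt N20046 (iv F236182)) (tt N20014 (iv F235965)) (tt N20053 D52823) (tt N16075 (iv D50927)))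
theorem Q18159 : ∀ i, i < 18159 → P i := stepQ 18158 Q18158 (allL N18158 (tt N17684 F227668) (tt N20052 (iv F236213)) (tt N16078 F227669) (tt N17645 F227670) (tt N20053 (iv F236221)) (tt N17220 F227671) (tt N20047 (iv F236187)) (tt N20015 (iv F235972)) (tt N16076 (iv D50928)) (tt N17685 F227672))
theorem Q18160 : ∀ i, i < 18160 → P i := stepQ 18159 Q18159 (allL N18159 (tt N16806 F227673) (tt N16638 F227674) (tt N20053 (iv F236220)) (tt N20054 D52824) (tt N16078 F227675) (tt N16724 F227676) (tt N20049 (iv F236198)) (tt N20016 (iv F235978)) (tt N16077 (iv D50929)) (tt N20031 (iv F236086)))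
theorem Q18161 : ∀ i, i < 18161 → P i := stepQ 18160 Q18160 (allL N18160 (tt N16810 F227677) (tt N16597 F227678) (tt N18160 F227679) (tt N20039 (iv F236133)) (tt N16189 F227680) (tt N16079 (iv D50930)) (tt N17566 F227681) (tt N16081 F227682) (tt N18160 F227683) (tt N20055 D52825))
theorem Q18162 : ∀ i, i < 18162 → P i := stepQ 18161 Q18161 (allL N18161 (tt N16814 F227684) (tt N16599 F227685) (tt N18161 F227686) (tt N20040 (iv F236140)) (tt N16080 F227687) (tt N20055 (iv F236234)) (tt N16601 F227688) (tt N16082 F227689) (tt N17987 (iv F227690)) (tt N16079 (iv D50931)))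
theorem Q18163 : ∀ i, i < 18163 → P i := stepQ 18162 Q18162 (allL N18162 (tt N16811 F227691) (tt N16641 F227692) (tt N18162 F227693) (tt N20048 (iv F236192)) (tt N16192 F227694) (tt N16082 F227695) (tt N16728 F227696) (tt N20055 (iv F236236)) (tt N20056 D52826) (tt N16081 (iv D50932)))
theorem Q18164 : ∀ i, i < 18164 → P i := stepQ 18163 Q18163 (allL N18163 (tt N16815 F227697) (tt N16642 F227698) (tt N18163 F227699) (tt N20057 D52827) (tt N16083 F227700) (tt N20056 (iv F236242)) (tt N16084 F227701) (tt N17987 F227702) (tt N16082 (iv D50933)) (tt N18163 F227703))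
theorem Q18165 : ∀ i, i < 18165 → P i := stepQ 18164 Q18164 (allL N18164 (tt N16816 F227704) (tt N16645 F227705) (tt N20058 D52828) (tt N16084 (iv D50934)) (tt N16152 F227706) (tt N16730 F227707) (tt N20057 (iv F236249)) (tt N20017 (iv F235984)) (tt N20054 (iv F236229)) (tt N18164 F227708))
theorem Q18166 : ∀ i, i < 18166 → P i := stepQ 18165 Q18165 (allL N18165 (tt N17989 F227709) (tt N16773 F227710) (tt N16087 F227711) (tt N20035 (iv F236111)) (tt N16312 F227712) (tt N16089 F227713) (tt N16130 F227714) (tt N17242 F227715) (tt N17274 F227716) (tt N16086 (iv D50935)))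
theorem Q18167 : ∀ i, i < 18167 → P i := stepQ 18166 Q18166 (allL N18166 (tt N16088 (iv D50936)) (tt N16572 F227717) (tt N16093 F227718) (tt N20042 (iv F236153)) (tt N18166 F227719) (tt N16704 F227720) (tt N16090 F227721) (tt N16561 F227722) (tt N16471 F227723) (tt N20059 D52829))
theorem Q18168 : ∀ i, i < 18168 → P i := stepQ 18167 Q18167 (allL N18167 (tt N20059 (iv F236258)) (tt N16089 F227724) (tt N16094 F227725) (tt N20044 (iv F236168)) (tt N18167 F227726) (tt N16773 F227727) (tt N16091 F227728) (tt N17279 F227729) (tt N17278 F227730) (tt N16088 (iv D50937)))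
theorem Q18169 : ∀ i, i < 18169 → P i := stepQ 18168 Q18168 (allL N18168 (tt N16091 F227731) (tt N17990 F227732) (tt N16095 F227733) (tt N20050 (iv F236202)) (tt N18168 F227734) (tt N16475 F227735) (tt N20059 (iv F236263)) (tt N16473 F227736) (tt N20060 D52830) (tt N16090 (iv D50938)))
theorem Q18170 : ∀ i, i < 18170 → P i := stepQ 18169 Q18169 (allL N18169 (tt N20060 (iv F236266)) (tt N16092 F227737) (tt N16096 F227738) (tt N17643 (iv F227744)) (tt N18169 F227739) (tt N16441 F227740) (tt N17278 F227741) (tt N16439 F227742) (tt N16091 (iv D50939)) (tt N16437 F227743))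
theorem Q18171 : ∀ i, i < 18171 → P i := stepQ 18170 Q18170 (allL N18170 (tt N16094 F227745) (tt N18170 F227746) (tt N20059 (iv F236260)) (tt N16670 F227747) (tt N18170 F227748) (tt N16731 F227749) (tt N16095 F227750) (tt N17283 F227751) (tt N17282 F227752) (tt N16093 (iv D50940)))
theorem Q18172 : ∀ i, i < 18172 → P i := stepQ 18171 Q18171 (allL N18171 (tt N16096 F227753) (tt N18171 F227754) (tt N20060 (iv F236268)) (tt N16541 F227760) (tt N18171 F227755) (tt N16429 F227756) (tt N17282 F227757) (tt N16428 F227758) (tt N16095 (iv D50941)) (tt N16427 F227759))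
theorem Q18173 : ∀ i, i < 18173 → P i := stepQ 18172 Q18172 (allL N18172 (tt N16680 F227761) (tt N16107 F227762) (tt N17636 F227767) (tt N16099 (iv D50942)) (tt N20061 D52831) (tt N16100 F227763) (tt N17222 F227764) (tt N17668 F227765) (tt N17246 F227766) (tt N20062 D52832))
theorem Q18174 : ∀ i, i < 18174 → P i := stepQ 18173 Q18173 (allL N18173 (tt N16681 F227768) (tt N16108 F227769) (tt N18173 F227770) (tt N20062 (iv F236286)) (tt N16232 F227771) (tt N16101 F227772) (tt N17223 F227773) (tt N17988 F227774) (tt N17272 F227775) (tt N16099 (iv D50943)))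
theorem Q18175 : ∀ i, i < 18175 → P i := stepQ 18174 Q18174 (allL N18174 (tt N16685 F227776) (tt N16109 F227777) (tt N17641 F227778) (tt N16101 F227779) (tt N17665 F227780) (tt N20062 (iv F236287)) (tt N16103 F227781) (tt N17669 F227782) (tt N20063 D52833) (tt N16100 (iv D50944)))
theorem Q18176 : ∀ i, i < 18176 → P i := stepQ 18175 Q18175 (allL N18175 (tt N16637 F227783) (tt N16111 F227784) (tt N17643 F227785) (tt N16104 F227786) (tt N16103 F227787) (tt N16589 F227788) (tt N17665 F227789) (tt N17535 F227790) (tt N20064 D52834) (tt N16102 (iv D50945)))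
theorem Q18177 : ∀ i, i < 18177 → P i := stepQ 18176 Q18176 (allL N18176 (tt N16688 F227791) (tt N16112 F227792) (tt N17644 F227793) (tt N17271 F227794) (tt N20064 (iv F236301)) (tt N17225 F227795) (tt N20063 (iv F236295)) (tt N20018 (iv F235993)) (tt N16103 (iv D50946)) (tt N17264 F227796))
theorem Q18178 : ∀ i, i < 18178 → P i := stepQ 18177 Q18177 (allL N18177 (tt N16644 F227797) (tt N16115 F227798) (tt N16673 F227799) (tt N20065 D52835) (tt N16105 F227800) (tt N16594 F227801) (tt N17702 F227802) (tt N17547 F227803) (tt N16104 (iv D50947)) (tt N18177 F227804))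
theorem Q18179 : ∀ i, i < 18179 → P i := stepQ 18178 Q18178 (allL N18178 (tt N16132 F227805) (tt N20061 (iv F236276)) (tt N17235 F227806) (tt N16262 F227807) (tt N16107 (iv D50948)) (tt N17651 F227808) (tt N17226 F227809) (tt N17659 F227810) (tt N17247 F227811) (tt N20066 D52836))
theorem Q18180 : ∀ i, i < 18180 → P i := stepQ 18179 Q18179 (allL N18179 (tt N16133 F227812) (tt N20062 (iv F236284)) (tt N17236 F227813) (tt N16108 F227814) (tt N20066 (iv F236317)) (tt N16109 F227815) (tt N17227 F227816) (tt N17672 F227817) (tt N20067 D52837) (tt N16107 (iv D50949)))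
theorem Q18181 : ∀ i, i < 18181 → P i := stepQ 18180 Q18180 (allL N18180 (tt N16138 F227818) (tt N20063 (iv F236291)) (tt N17237 F227819) (tt N17688 F227820) (tt N17666 F227821) (tt N20067 (iv F236324)) (tt N16112 F227822) (tt N17673 F227823) (tt N16109 (iv D50950)) (tt N17259 F227824))
theorem Q18182 : ∀ i, i < 18182 → P i := stepQ 18181 Q18181 (allL N18181 (tt N16143 F227825) (tt N16585 F227826) (tt N17238 F227827) (tt N16113 F227828) (tt N16566 F227829) (tt N17647 F227830) (tt N16110 (iv D50951)) (tt N16625 F227831) (tt N17265 F227832) (tt N20068 D52838))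
theorem Q18183 : ∀ i, i < 18183 → P i := stepQ 18182 Q18182 (allL N18182 (tt N16144 F227833) (tt N16589 F227834) (tt N17239 F227835) (tt N16114 F227836) (tt N16568 F227837) (tt N16111 F227838) (tt N20068 (iv F236334)) (tt N17532 F227839) (tt N20069 D52839) (tt N16110 (iv D50952)))
theorem Q18184 : ∀ i, i < 18184 → P i := stepQ 18183 Q18183 (allL N18183 (tt N16145 F227840) (tt N20064 (iv F236299)) (tt N17240 F227841) (tt N20070 D52840) (tt N16112 F227842) (tt N20069 (iv F236341)) (tt N17666 F227843) (tt N17536 F227844) (tt N16111 (iv D50953)) (tt N17267 F227845))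
theorem Q18185 : ∀ i, i < 18185 → P i := stepQ 18184 Q18184 (allL N18184 (tt N16150 F227846) (tt N16592 F227847) (tt N16669 F227848) (tt N20068 (iv F236331)) (tt N16117 F227849) (tt N17690 F227850) (tt N16114 F227851) (tt N16656 F227852) (tt N17720 (iv F227853)) (tt N16113 (iv D50954)))
theorem Q18186 : ∀ i, i < 18186 → P i := stepQ 18185 Q18185 (allL N18185 (tt N16152 F227854) (tt N20065 (iv F236307)) (tt N16834 F227855) (tt N16115 (iv D50955)) (tt N16816 F227856) (tt N17708 F227857) (tt N17703 F227858) (tt N17548 F227859) (tt N20070 (iv F236350)) (tt N18185 F227860))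
theorem Q18187 : ∀ i, i < 18187 → P i := stepQ 18186 Q18186 (allL N18186 (tt N16153 F227861) (tt N16546 F227862) (tt N16556 F227863) (tt N16569 F227864) (tt N16656 F227865) (tt N16280 F227866) (tt N16548 F227867) (tt N16117 F227868) (tt N17999 (iv F227869)) (tt N16116 (iv D50956)))
theorem Q18188 : ∀ i, i < 18188 → P i := stepQ 18187 Q18187 (allL N18187 (tt N16154 F227870) (tt N16593 F227871) (tt N17721 F227872) (tt N16646 F227873) (tt N17720 F227874) (tt N16281 F227875) (tt N16118 F227876) (tt N17999 F227877) (tt N16117 (iv D50957)) (tt N18187 F227878))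
theorem Q18189 : ∀ i, i < 18189 → P i := stepQ 18188 Q18188 (allL N18188 (tt N17243 F227879) (tt N16752 F227880) (tt N17212 F227881) (tt N16119 (iv D50958)) (tt N20071 D52841) (tt N16122 F227882) (tt N17675 F227883) (tt N16120 F227884) (tt N16129 F227885) (tt N20072 D52842))
theorem Q18190 : ∀ i, i < 18190 → P i := stepQ 18189 Q18189 (allL N18189 (tt N17274 F227886) (tt N16753 F227887) (tt N17234 F227888) (tt N20072 (iv F236363)) (tt N17938 F227889) (tt N16123 F227890) (tt N17689 F227891) (tt N16121 F227892) (tt N17989 F227893) (tt N16119 (iv D50959)))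
theorem Q18191 : ∀ i, i < 18191 → P i := stepQ 18190 Q18190 (allL N18190 (tt N17247 F227894) (tt N16755 F227895) (tt N17226 F227896) (tt N17883 F227897) (tt N16120 (iv D50960)) (tt N20073 D52843) (tt N17235 F227898) (tt N20071 (iv F236358)) (tt N16132 F227899) (tt N20074 D52844))
theorem Q18192 : ∀ i, i < 18192 → P i := stepQ 18191 Q18191 (allL N18191 (tt N17248 F227900) (tt N16756 F227901) (tt N17227 F227902) (tt N16121 F227903) (tt N20074 (iv F236379)) (tt N16125 F227904) (tt N17236 F227905) (tt N20072 (iv F236366)) (tt N20075 D52845) (tt N16120 (iv D50961)))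
theorem Q18193 : ∀ i, i < 18193 → P i := stepQ 18192 Q18192 (allL N18192 (tt N17253 F227906) (tt N16759 F227907) (tt N17214 F227908) (tt N16123 F227909) (tt N17611 F227910) (tt N20072 (iv F236364)) (tt N17215 F227911) (tt N16125 F227912) (tt N20076 D52846) (tt N16122 (iv D50962)))
theorem Q18194 : ∀ i, i < 18194 → P i := stepQ 18193 Q18193 (allL N18193 (tt N17257 F227913) (tt N16763 F227914) (tt N17228 F227915) (tt N18193 F227916) (tt N20073 (iv F236371)) (tt N16124 (iv D50963)) (tt N20077 D52847) (tt N17608 F227917) (tt N16136 F227918) (tt N20078 D52848))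
theorem Q18195 : ∀ i, i < 18195 → P i := stepQ 18194 Q18194 (allL N18194 (tt N17258 F227919) (tt N16764 F227920) (tt N17229 F227921) (tt N18194 F227922) (tt N16125 F227923) (tt N20078 (iv F236406)) (tt N16127 F227924) (tt N17611 F227925) (tt N20079 D52849) (tt N16124 (iv D50964)))
theorem Q18196 : ∀ i, i < 18196 → P i := stepQ 18195 Q18195 (allL N18195 (tt N17259 F227926) (tt N16765 F227927) (tt N17230 F227928) (tt N20030 (iv F236077)) (tt N20079 (iv F236411)) (tt N20075 (iv F236384)) (tt N16128 F227929) (tt N20076 (iv F236393)) (tt N16125 (iv D50965)) (tt N16138 F227930))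
theorem Q18197 : ∀ i, i < 18197 → P i := stepQ 18196 Q18196 (allL N18196 (tt N17265 F227931) (tt N16769 F227932) (tt N16566 F227933) (tt N18196 F227934) (tt N17238 F227935) (tt N20077 (iv F236400)) (tt N16126 (iv D50966)) (tt N20043 (iv F236164)) (tt N16143 F227936) (tt N20080 D52850))
theorem Q18198 : ∀ i, i < 18198 → P i := stepQ 18197 Q18197 (allL N18197 (tt N17266 F227937) (tt N16770 F227938) (tt N16568 F227939) (tt N18197 F227940) (tt N17239 F227941) (tt N16127 F227942) (tt N20080 (iv F236420)) (tt N17533 F227943) (tt N20081 D52851) (tt N16126 (iv D50967)))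
theorem Q18199 : ∀ i, i < 18199 → P i := stepQ 18198 Q18198 (allL N18198 (tt N17267 F227944) (tt N16771 F227945) (tt N17231 F227946) (tt N20082 D52852) (tt N16128 F227947) (tt N20081 (iv F236425)) (tt N20079 (iv F236412)) (tt N20020 (iv F236010)) (tt N16127 (iv D50968)) (tt N16145 F227948))
theorem Q18200 : ∀ i, i < 18200 → P i := stepQ 18199 Q18199 (allL N18199 (tt N17659 F227949) (tt N16775 F227950) (tt N17217 F227951) (tt N16314 F227952) (tt N16129 (iv D50969)) (tt N17619 F227953) (tt N20034 (iv F236105)) (tt N16132 F227954) (tt N20071 (iv F236359)) (tt N20083 D52853))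
theorem Q18201 : ∀ i, i < 18201 → P i := stepQ 18200 Q18200 (allL N18200 (tt N17672 F227955) (tt N16776 F227956) (tt N17218 F227957) (tt N16130 F227958) (tt N20083 (iv F236437)) (tt N16134 F227959) (tt N20035 (iv F236113)) (tt N16133 F227960) (tt N20084 D52854) (tt N16129 (iv D50970)))
theorem Q18202 : ∀ i, i < 18202 → P i := stepQ 18201 Q18201 (allL N18201 (tt N17235 F227961) (tt N17582 F227962) (tt N16132 F227963) (tt N17298 F227964) (tt N16131 (iv D50971)) (tt N17617 F227965) (tt N17247 F227966) (tt N17217 F227967) (tt N17226 F227968) (tt N20085 D52855))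
theorem Q18203 : ∀ i, i < 18203 → P i := stepQ 18202 Q18202 (allL N18202 (tt N17236 F227969) (tt N17583 F227970) (tt N16133 F227971) (tt N16155 F227972) (tt N20085 (iv F236449)) (tt N16135 F227973) (tt N17248 F227974) (tt N17218 F227975) (tt N20086 D52856) (tt N16131 (iv D50972)))
theorem Q18204 : ∀ i, i < 18204 → P i := stepQ 18203 Q18203 (allL N18203 (tt N17651 F227976) (tt N16780 F227977) (tt N17617 F227978) (tt N16319 F227979) (tt N16136 F227980) (tt N16132 (iv D50973)) (tt N20087 D52857) (tt N17619 F227981) (tt N20073 (iv F236374)) (tt N20088 D52858))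
theorem Q18205 : ∀ i, i < 18205 → P i := stepQ 18204 Q18204 (allL N18204 (tt N20066 (iv F236314)) (tt N16781 F227982) (tt N20085 (iv F236447)) (tt N16320 F227983) (tt N16133 F227984) (tt N20088 (iv F236473)) (tt N17250 F227985) (tt N20083 (iv F236439)) (tt N20089 D52859) (tt N16132 (iv D50974)))
theorem Q18206 : ∀ i, i < 18206 → P i := stepQ 18205 Q18205 (allL N18205 (tt N20067 (iv F236321)) (tt N16782 F227986) (tt N20086 (iv F236455)) (tt N20038 (iv F236127)) (tt N20089 (iv F236476)) (tt N16138 F227987) (tt N17251 F227988) (tt N20084 (iv F236444)) (tt N16133 (iv D50975)) (tt N20075 (iv F236386)))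
theorem Q18207 : ∀ i, i < 18207 → P i := stepQ 18206 Q18206 (allL N18206 (tt N17673 F227989) (tt N16787 F227990) (tt N17219 F227991) (tt N20041 (iv F236147)) (tt N17624 F227992) (tt N20084 (iv F236443)) (tt N17220 F227993) (tt N16138 F227994) (tt N16134 (iv D50976)) (tt N20076 (iv F236394)))
theorem Q18208 : ∀ i, i < 18208 → P i := stepQ 18207 Q18207 (allL N18207 (tt N17237 F227995) (tt N17589 F227996) (tt N16138 F227997) (tt N17254 F227998) (tt N17623 F227999) (tt N20086 (iv F236457)) (tt N16142 F228000) (tt N17219 F228001) (tt N16135 (iv D50977)) (tt N17230 F228002))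
theorem Q18209 : ∀ i, i < 18209 → P i := stepQ 18208 Q18208 (allL N18208 (tt N17647 F228003) (tt N16794 F228004) (tt N17615 F228005) (tt N16146 F228006) (tt N20087 (iv F236465)) (tt N16143 F228007) (tt N16136 (iv D50978)) (tt N20090 D52860) (tt N20077 (iv F236401)) (tt N20091 D52861))
theorem Q18210 : ∀ i, i < 18210 → P i := stepQ 18209 Q18209 (allL N18209 (tt N17652 F228008) (tt N16795 F228009) (tt N17618 F228010) (tt N16147 F228011) (tt N20088 (iv F236472)) (tt N16137 F228012) (tt N20091 (iv F236489)) (tt N17620 F228013) (tt N20092 D52862) (tt N16136 (iv D50979)))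
theorem Q18211 : ∀ i, i < 18211 → P i := stepQ 18210 Q18210 (allL N18210 (tt N17666 F228014) (tt N16796 F228015) (tt N17623 F228016) (tt N20093 D52863) (tt N16138 F228017) (tt N20092 (iv F236493)) (tt N16145 F228018) (tt N17624 F228019) (tt N16137 (iv D50980)) (tt N20079 (iv F236414)))
theorem Q18212 : ∀ i, i < 18212 → P i := stepQ 18211 Q18211 (allL N18211 (tt N17581 F228020) (tt N16142 F228021) (tt N16799 F228022) (tt N17240 F228023) (tt N17556 F228024) (tt N17264 F228025) (tt N17589 F228026) (tt N17518 F228027) (tt N16139 (iv D50981)) (tt N17225 F228028))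
theorem Q18213 : ∀ i, i < 18213 → P i := stepQ 18212 Q18212 (allL N18212 (tt N17238 F228029) (tt N16573 F228030) (tt N16143 F228031) (tt N16561 F228032) (tt N17265 F228033) (tt N17615 F228034) (tt N16140 (iv D50982)) (tt N20042 (iv F236156)) (tt N16566 F228035) (tt N20094 D52864))
theorem Q18214 : ∀ i, i < 18214 → P i := stepQ 18213 Q18213 (allL N18213 (tt N17239 F228036) (tt N16577 F228037) (tt N16144 F228038) (tt N16562 F228039) (tt N17266 F228040) (tt N16141 F228041) (tt N20094 (iv F236506)) (tt N17525 F228042) (tt N20095 D52865) (tt N16140 (iv D50983)))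
theorem Q18215 : ∀ i, i < 18215 → P i := stepQ 18214 Q18214 (allL N18214 (tt N17240 F228043) (tt N17556 F228044) (tt N16145 F228045) (tt N17581 F228046) (tt N16142 F228047) (tt N20095 (iv F236512)) (tt N17623 F228048) (tt N17526 F228049) (tt N16141 (iv D50984)) (tt N17231 F228050))
theorem Q18216 : ∀ i, i < 18216 → P i := stepQ 18215 Q18215 (allL N18215 (tt N16625 F228051) (tt N16804 F228052) (tt N20042 (iv F236152)) (tt N16149 F228053) (tt N17269 F228054) (tt N20090 (iv F236482)) (tt N16630 F228055) (tt N16143 (iv D50985)) (tt N20043 (iv F236165)) (tt N20096 D52866))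
theorem Q18217 : ∀ i, i < 18217 → P i := stepQ 18216 Q18216 (allL N18216 (tt N20068 (iv F236328)) (tt N16805 F228056) (tt N20094 (iv F236502)) (tt N16150 F228057) (tt N17270 F228058) (tt N20091 (iv F236488)) (tt N16144 F228059) (tt N20096 (iv F236520)) (tt N20097 D52867) (tt N16143 (iv D50986)))
theorem Q18218 : ∀ i, i < 18218 → P i := stepQ 18217 Q18217 (allL N18217 (tt N20069 (iv F236336)) (tt N16806 F228060) (tt N20095 (iv F236509)) (tt N20098 D52868) (tt N17271 F228061) (tt N16145 F228062) (tt N20097 (iv F236523)) (tt N20022 (iv F236025)) (tt N16144 (iv D50987)) (tt N20081 (iv F236427)))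
theorem Q18219 : ∀ i, i < 18219 → P i := stepQ 18218 Q18218 (allL N18218 (tt N20070 (iv F236344)) (tt N16807 F228063) (tt N20099 D52869) (tt N16145 (iv D50988)) (tt N20054 (iv F236227)) (tt N20098 (iv F236527)) (tt N20093 (iv F236497)) (tt N20023 (iv F236030)) (tt N16152 F228064) (tt N20082 (iv F236432)))
theorem Q18220 : ∀ i, i < 18220 → P i := stepQ 18219 Q18219 (allL N18219 (tt N16650 F228065) (tt N16810 F228066) (tt N16663 F228067) (tt N20090 (iv F236481)) (tt N16350 F228068) (tt N16149 F228069) (tt N16732 F228070) (tt N16146 (iv D50989)) (tt N18219 F228071) (tt N20100 D52870))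
theorem Q18221 : ∀ i, i < 18221 → P i := stepQ 18220 Q18220 (allL N18220 (tt N17690 F228072) (tt N16811 F228073) (tt N17628 F228074) (tt N20091 (iv F236487)) (tt N16351 F228075) (tt N16150 F228076) (tt N16147 F228077) (tt N20100 (iv F236540)) (tt N20101 D52871) (tt N16146 (iv D50990)))
theorem Q18222 : ∀ i, i < 18222 → P i := stepQ 18221 Q18221 (allL N18221 (tt N17693 F228078) (tt N16812 F228079) (tt N17629 F228080) (tt N20102 D52872) (tt N16352 F228081) (tt N16148 F228082) (tt N20101 (iv F236547)) (tt N17630 F228083) (tt N16147 (iv D50991)) (tt N18221 F228084))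
theorem Q18223 : ∀ i, i < 18223 → P i := stepQ 18222 Q18222 (allL N18222 (tt N17703 F228085) (tt N16813 F228086) (tt N20103 D52873) (tt N16148 (iv D50992)) (tt N20057 (iv F236248)) (tt N20102 (iv F236552)) (tt N16152 F228087) (tt N17632 F228088) (tt N20093 (iv F236499)) (tt N18222 F228089))
theorem Q18224 : ∀ i, i < 18224 → P i := stepQ 18223 Q18223 (allL N18223 (tt N16656 F228090) (tt N16814 F228091) (tt N16670 F228092) (tt N20096 (iv F236517)) (tt N16153 F228093) (tt N20100 (iv F236538)) (tt N16658 F228094) (tt N16150 F228095) (tt N18001 (iv F228096)) (tt N16149 (iv D50993)))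
theorem Q18225 : ∀ i, i < 18225 → P i := stepQ 18224 Q18224 (allL N18224 (tt N17720 F228097) (tt N16815 F228098) (tt N17719 F228099) (tt N20104 D52874) (tt N16154 F228100) (tt N20101 (iv F236546)) (tt N16151 F228101) (tt N18001 F228102) (tt N16150 (iv D50994)) (tt N18224 F228103))
theorem Q18226 : ∀ i, i < 18226 → P i := stepQ 18225 Q18225 (allL N18225 (tt N17708 F228104) (tt N16816 F228105) (tt N17707 F228106) (tt N16151 (iv D50995)) (tt N20065 (iv F236309)) (tt N16152 F228107) (tt N20104 (iv F236564)) (tt N20024 (iv F236038)) (tt N20098 (iv F236528)) (tt N18225 F228108))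
theorem Q18227 : ∀ i, i < 18227 → P i := stepQ 18226 Q18226 (allL N18226 (tt N16834 F228109) (tt N20105 D52875) (tt N16152 (iv D50996)) (tt N16833 F228110) (tt N20058 (iv F236255)) (tt N17707 F228111) (tt N20103 (iv F236557)) (tt N20025 (iv F236044)) (tt N20099 (iv F236532)) (tt N18226 F228112))
theorem Q18228 : ∀ i, i < 18228 → P i := stepQ 18227 Q18227 (allL N18227 (tt N16290 F228113) (tt N16880 F228114) (tt N18227 F228115) (tt N20106 D52876) (tt N16159 F228116) (tt N18227 F228117) (tt N16247 F228118) (tt N16157 F228119) (tt N16156 (iv D50997)) (tt N20107 D52877))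
theorem Q18229 : ∀ i, i < 18229 → P i := stepQ 18228 Q18228 (allL N18228 (tt N17401 F228120) (tt N16881 F228121) (tt N20108 D52878) (tt N16157 (iv D50998)) (tt N20109 D52879) (tt N18228 F228122) (tt N17290 F228123) (tt N20106 (iv F236577)) (tt N17348 F228124) (tt N20110 D52880))
theorem Q18230 : ∀ i, i < 18230 → P i := stepQ 18229 Q18229 (allL N18229 (tt N17402 F228125) (tt N16882 F228126) (tt N18229 F228127) (tt N20110 (iv F236601)) (tt N16161 F228128) (tt N18229 F228129) (tt N17291 F228130) (tt N20107 (iv F236586)) (tt N16289 F228131) (tt N16157 (iv D50999)))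
theorem Q18231 : ∀ i, i < 18231 → P i := stepQ 18230 Q18230 (allL N18230 (tt N16287 F228132) (tt N16883 F228133) (tt N18230 F228134) (tt N20111 D52881) (tt N16247 F228135) (tt N18230 F228136) (tt N16159 F228137) (tt N16246 F228138) (tt N16158 (iv D51000)) (tt N20112 D52882))
theorem Q18232 : ∀ i, i < 18232 → P i := stepQ 18231 Q18231 (allL N18231 (tt N17861 F228139) (tt N16884 F228140) (tt N20113 D52883) (tt N16159 (iv D51001)) (tt N20114 D52884) (tt N16162 F228141) (tt N20111 (iv F236607)) (tt N16160 F228142) (tt N16171 F228143) (tt N20115 D52885))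
theorem Q18233 : ∀ i, i < 18233 → P i := stepQ 18232 Q18232 (allL N18232 (tt N18072 F228144) (tt N16885 F228145) (tt N18232 F228146) (tt N20115 (iv F236632)) (tt N20107 (iv F236583)) (tt N16163 F228147) (tt N20112 (iv F236616)) (tt N16161 F228148) (tt N16292 F228149) (tt N16159 (iv D51002)))
theorem Q18234 : ∀ i, i < 18234 → P i := stepQ 18233 Q18233 (allL N18233 (tt N17858 F228150) (tt N17366 F228151) (tt N16160 (iv D51003)) (tt N18233 F228152) (tt N20116 D52886) (tt N16164 F228153) (tt N17195 F228154) (tt N20113 (iv F236624)) (tt N16173 F228155) (tt N20117 D52887))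
theorem Q18235 : ∀ i, i < 18235 → P i := stepQ 18234 Q18234 (allL N18234 (tt N17845 F228156) (tt N16886 F228157) (tt N20116 (iv F236637)) (tt N20109 (iv F236596)) (tt N16160 (iv D51004)) (tt N20118 D52888) (tt N17294 F228158) (tt N20114 (iv F236628)) (tt N16174 F228159) (tt N20119 D52889))
theorem Q18236 : ∀ i, i < 18236 → P i := stepQ 18235 Q18235 (allL N18235 (tt N17862 F228160) (tt N16887 F228161) (tt N20117 (iv F236643)) (tt N16161 F228162) (tt N20119 (iv F236655)) (tt N16166 F228163) (tt N17295 F228164) (tt N20115 (iv F236634)) (tt N20120 D52890) (tt N16160 (iv D51005)))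
theorem Q18237 : ∀ i, i < 18237 → P i := stepQ 18236 Q18236 (allL N18236 (tt N17866 F228165) (tt N17360 F228166) (tt N16162 (iv D51006)) (tt N18236 F228167) (tt N17359 (iv F228171)) (tt N20113 (iv F236622)) (tt N18236 F228168) (tt N16164 F228169) (tt N16176 F228170) (tt N20121 D52891))
theorem Q18238 : ∀ i, i < 18238 → P i := stepQ 18237 Q18237 (allL N18237 (tt N17050 F228172) (tt N16888 F228173) (tt N17359 F228174) (tt N18237 F228175) (tt N16162 (iv D51007)) (tt N20122 D52892) (tt N18237 F228176) (tt N16165 F228177) (tt N16177 F228178) (tt N20123 D52893))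
theorem Q18239 : ∀ i, i < 18239 → P i := stepQ 18238 Q18238 (allL N18238 (tt N17870 F228179) (tt N16889 F228180) (tt N20121 (iv F236665)) (tt N16163 F228181) (tt N20123 (iv F236680)) (tt N20115 (iv F236633)) (tt N18238 F228182) (tt N16166 F228183) (tt N20124 D52894) (tt N16162 (iv D51008)))
theorem Q18240 : ∀ i, i < 18240 → P i := stepQ 18239 Q18239 (allL N18239 (tt N17867 F228184) (tt N17367 F228185) (tt N16166 F228186) (tt N18239 F228187) (tt N17365 F228188) (tt N20117 (iv F236645)) (tt N16167 F228189) (tt N20121 (iv F236669)) (tt N20125 D52895) (tt N16164 (iv D51009)))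
theorem Q18241 : ∀ i, i < 18241 → P i := stepQ 18240 Q18240 (allL N18240 (tt N17043 F228190) (tt N16890 F228191) (tt N17353 F228192) (tt N18240 F228193) (tt N20118 (iv F236650)) (tt N16165 (iv D51010)) (tt N16969 F228194) (tt N20122 (iv F236674)) (tt N16182 F228195) (tt N20126 D52896))
theorem Q18242 : ∀ i, i < 18242 → P i := stepQ 18241 Q18241 (allL N18241 (tt N17051 F228196) (tt N16891 F228197) (tt N17365 F228198) (tt N18241 F228199) (tt N16166 F228200) (tt N20126 (iv F236699)) (tt N16168 F228201) (tt N20123 (iv F236682)) (tt N20127 D52897) (tt N16165 (iv D51011)))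
theorem Q18243 : ∀ i, i < 18243 → P i := stepQ 18242 Q18242 (allL N18242 (tt N17871 F228202) (tt N16892 F228203) (tt N20125 (iv F236691)) (tt N16304 F228204) (tt N20127 (iv F236704)) (tt N20120 (iv F236660)) (tt N16169 F228205) (tt N20124 (iv F236687)) (tt N16166 (iv D51012)) (tt N16184 F228206))
theorem Q18244 : ∀ i, i < 18244 → P i := stepQ 18243 Q18243 (allL N18243 (tt N17868 F228207) (tt N17372 F228208) (tt N16169 F228209) (tt N20128 D52898) (tt N17371 F228210) (tt N17103 F228211) (tt N20125 (iv F236693)) (tt N18243 F228212) (tt N16167 (iv D51013)) (tt N16187 F228213))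
theorem Q18245 : ∀ i, i < 18245 → P i := stepQ 18244 Q18244 (allL N18244 (tt N17052 F228214) (tt N16893 F228215) (tt N17371 F228216) (tt N20129 D52899) (tt N16169 F228217) (tt N16972 F228218) (tt N20127 (iv F236705)) (tt N18244 F228219) (tt N16168 (iv D51014)) (tt N16188 F228220))
theorem Q18246 : ∀ i, i < 18246 → P i := stepQ 18245 Q18245 (allL N18245 (tt N17911 F228221) (tt N16894 F228222) (tt N17486 F228223) (tt N16170 (iv D51015)) (tt N20130 D52900) (tt N18245 F228224) (tt N16171 F228225) (tt N17276 F228226) (tt N20111 (iv F236609)) (tt N20131 D52901))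
theorem Q18247 : ∀ i, i < 18247 → P i := stepQ 18246 Q18246 (allL N18246 (tt N17938 F228227) (tt N16895 F228228) (tt N16195 F228229) (tt N20131 (iv F236731)) (tt N17274 F228230) (tt N18246 F228231) (tt N16172 F228232) (tt N17277 F228233) (tt N16312 F228234) (tt N16170 (iv D51016)))
theorem Q18248 : ∀ i, i < 18248 → P i := stepQ 18247 Q18247 (allL N18247 (tt N17921 F228235) (tt N17787 F228236) (tt N16171 (iv D51017)) (tt N16196 F228237) (tt N20132 D52902) (tt N16176 F228238) (tt N17486 F228239) (tt N16173 F228240) (tt N20113 (iv F236625)) (tt N20133 D52903))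
theorem Q18249 : ∀ i, i < 18249 → P i := stepQ 18248 Q18248 (allL N18248 (tt N17899 F228241) (tt N16897 F228242) (tt N20132 (iv F236737)) (tt N20032 (iv F236090)) (tt N16171 (iv D51018)) (tt N20134 D52904) (tt N20130 (iv F236725)) (tt N16174 F228243) (tt N20114 (iv F236629)) (tt N20135 D52905))
theorem Q18250 : ∀ i, i < 18250 → P i := stepQ 18249 Q18249 (allL N18249 (tt N17926 F228244) (tt N16898 F228245) (tt N20133 (iv F236743)) (tt N16172 F228246) (tt N20135 (iv F236754)) (tt N16178 F228247) (tt N20131 (iv F236733)) (tt N16175 F228248) (tt N20136 D52906) (tt N16171 (iv D51019)))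
theorem Q18251 : ∀ i, i < 18251 → P i := stepQ 18250 Q18250 (allL N18250 (tt N17417 (iv F228255)) (tt N16173 (iv D51020)) (tt N16899 F228249) (tt N16198 F228250) (tt N20137 D52907) (tt N16179 F228251) (tt N17300 F228252) (tt N17787 F228253) (tt N17366 F228254) (tt N20138 D52908))
theorem Q18252 : ∀ i, i < 18252 → P i := stepQ 18251 Q18251 (allL N18251 (tt N17895 F228256) (tt N20137 (iv F236762)) (tt N16174 F228257) (tt N20139 D52909) (tt N16173 (iv D51021)) (tt N20140 D52910) (tt N17301 F228258) (tt N20132 (iv F236740)) (tt N20116 (iv F236640)) (tt N20141 D52911))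
theorem Q18253 : ∀ i, i < 18253 → P i := stepQ 18252 Q18252 (allL N18252 (tt N17922 F228259) (tt N20138 (iv F236769)) (tt N16175 F228260) (tt N16200 F228261) (tt N20141 (iv F236788)) (tt N16181 F228262) (tt N17302 F228263) (tt N20133 (iv F236747)) (tt N20142 D52912) (tt N16173 (iv D51022)))
theorem Q18254 : ∀ i, i < 18254 → P i := stepQ 18253 Q18253 (allL N18253 (tt N17070 F228264) (tt N16902 F228265) (tt N20140 (iv F236782)) (tt N20036 (iv F236117)) (tt N16182 F228266) (tt N16174 (iv D51023)) (tt N16981 F228267) (tt N20134 (iv F236751)) (tt N20118 (iv F236652)) (tt N20143 D52913))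
theorem Q18255 : ∀ i, i < 18255 → P i := stepQ 18254 Q18254 (allL N18254 (tt N17900 F228268) (tt N16903 F228269) (tt N20141 (iv F236787)) (tt N20037 (iv F236122)) (tt N16175 F228270) (tt N20143 (iv F236797)) (tt N17303 F228271) (tt N20135 (iv F236755)) (tt N20144 D52914) (tt N16174 (iv D51024)))
theorem Q18256 : ∀ i, i < 18256 → P i := stepQ 18255 Q18255 (allL N18255 (tt N17927 F228272) (tt N16904 F228273) (tt N20142 (iv F236791)) (tt N16321 F228274) (tt N20144 (iv F236801)) (tt N16184 F228275) (tt N17304 F228276) (tt N20136 (iv F236760)) (tt N16175 (iv D51025)) (tt N20120 (iv F236662)))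
theorem Q18257 : ∀ i, i < 18257 → P i := stepQ 18256 Q18256 (allL N18256 (tt N17099 F228277) (tt N17343 F228278) (tt N16177 F228279) (tt N18256 F228280) (tt N16176 (iv D51026)) (tt N20145 D52915) (tt N18256 F228281) (tt N16180 F228282) (tt N17359 F228283) (tt N20146 D52916))
theorem Q18258 : ∀ i, i < 18258 → P i := stepQ 18257 Q18257 (allL N18257 (tt N17933 F228284) (tt N18068 F228285) (tt N16178 F228286) (tt N16203 F228287) (tt N20146 (iv F236813)) (tt N20133 (iv F236745)) (tt N18257 F228288) (tt N16181 F228289) (tt N20147 D52917) (tt N16176 (iv D51027)))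
theorem Q18259 : ∀ i, i < 18259 → P i := stepQ 18258 Q18258 (allL N18258 (tt N17090 F228290) (tt N16906 F228291) (tt N20145 (iv F236805)) (tt N16189 F228292) (tt N20134 (iv F236750)) (tt N16177 (iv D51028)) (tt N20148 D52918) (tt N16182 F228293) (tt N20122 (iv F236675)) (tt N20149 D52919))
theorem Q18260 : ∀ i, i < 18260 → P i := stepQ 18259 Q18259 (allL N18259 (tt N17104 F228294) (tt N16907 F228295) (tt N20146 (iv F236811)) (tt N16190 F228296) (tt N16178 F228297) (tt N20149 (iv F236829)) (tt N18259 F228298) (tt N16183 F228299) (tt N20150 D52920) (tt N16177 (iv D51029)))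
theorem Q18261 : ∀ i, i < 18261 → P i := stepQ 18260 Q18260 (allL N18260 (tt N17937 F228300) (tt N16908 F228301) (tt N20147 (iv F236818)) (tt N16326 F228302) (tt N20150 (iv F236833)) (tt N20136 (iv F236759)) (tt N18260 F228303) (tt N16184 F228304) (tt N16178 (iv D51030)) (tt N20124 (iv F236688)))
theorem Q18262 : ∀ i, i < 18262 → P i := stepQ 18261 Q18261 (allL N18261 (tt N17418 F228305) (tt N16181 F228306) (tt N16909 F228307) (tt N16205 F228308) (tt N17345 F228309) (tt N20138 (iv F236772)) (tt N16185 F228310) (tt N18068 F228311) (tt N20151 D52921) (tt N16179 (iv D51031)))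
theorem Q18263 : ∀ i, i < 18263 → P i := stepQ 18262 Q18262 (allL N18262 (tt N17086 F228312) (tt N17340 F228313) (tt N16182 F228314) (tt N18262 F228315) (tt N20140 (iv F236783)) (tt N16180 (iv D51032)) (tt N16990 F228316) (tt N20145 (iv F236807)) (tt N17353 F228317) (tt N20152 D52922))
theorem Q18264 : ∀ i, i < 18264 → P i := stepQ 18263 Q18263 (allL N18263 (tt N17100 F228318) (tt N17345 F228319) (tt N16183 F228320) (tt N18263 F228321) (tt N16181 F228322) (tt N20152 (iv F236847)) (tt N16186 F228323) (tt N20146 (iv F236815)) (tt N20153 D52923) (tt N16180 (iv D51033)))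
theorem Q18265 : ∀ i, i < 18265 → P i := stepQ 18264 Q18264 (allL N18264 (tt N17934 F228324) (tt N20151 (iv F236837)) (tt N16184 F228325) (tt N20154 D52924) (tt N20153 (iv F236852)) (tt N20142 (iv F236792)) (tt N16187 F228326) (tt N20147 (iv F236820)) (tt N16181 (iv D51034)) (tt N20125 (iv F236694)))
theorem Q18266 : ∀ i, i < 18266 → P i := stepQ 18265 Q18265 (allL N18265 (tt N17091 F228327) (tt N16914 F228328) (tt N20152 (iv F236845)) (tt N16192 F228329) (tt N20143 (iv F236796)) (tt N16183 F228330) (tt N16993 F228331) (tt N20149 (iv F236830)) (tt N20155 D52925) (tt N16182 (iv D51035)))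
theorem Q18267 : ∀ i, i < 18267 → P i := stepQ 18266 Q18266 (allL N18266 (tt N17105 F228332) (tt N16915 F228333) (tt N20153 (iv F236851)) (tt N20156 D52926) (tt N16184 F228334) (tt N20155 (iv F236861)) (tt N16188 F228335) (tt N20150 (iv F236835)) (tt N16183 (iv D51036)) (tt N20127 (iv F236706)))
theorem Q18268 : ∀ i, i < 18268 → P i := stepQ 18267 Q18267 (allL N18267 (tt N17425 F228336) (tt N16187 F228337) (tt N16916 F228338) (tt N20157 D52927) (tt N17347 F228339) (tt N17312 F228340) (tt N20151 (iv F236840)) (tt N18267 F228341) (tt N16185 (iv D51037)) (tt N17372 F228342))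
theorem Q18269 : ∀ i, i < 18269 → P i := stepQ 18268 Q18268 (allL N18268 (tt N17101 F228343) (tt N17347 F228344) (tt N16188 F228345) (tt N20158 D52928) (tt N16187 F228346) (tt N16996 F228347) (tt N20153 (iv F236853)) (tt N18268 F228348) (tt N16186 (iv D51038)) (tt N17371 F228349))
theorem Q18270 : ∀ i, i < 18270 → P i := stepQ 18269 Q18269 (allL N18269 (tt N17935 F228350) (tt N20157 (iv F236869)) (tt N16342 F228351) (tt N16187 (iv D51039)) (tt N20159 D52929) (tt N17313 F228352) (tt N20154 (iv F236857)) (tt N18269 F228353) (tt N16209 F228354) (tt N20128 (iv F236713)))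
theorem Q18271 : ∀ i, i < 18271 → P i := stepQ 18270 Q18270 (allL N18270 (tt N17106 F228355) (tt N16921 F228356) (tt N20160 D52930) (tt N16188 (iv D51040)) (tt N16346 F228357) (tt N16997 F228358) (tt N20156 (iv F236866)) (tt N18270 F228359) (tt N16194 F228360) (tt N20129 (iv F236720)))
theorem Q18272 : ∀ i, i < 18272 → P i := stepQ 18271 Q18271 (allL N18271 (tt N17108 F228361) (tt N16922 F228362) (tt N18271 F228363) (tt N20148 (iv F236823)) (tt N17566 F228364) (tt N18271 F228365) (tt N16189 (iv D51041)) (tt N16998 F228366) (tt N18271 F228367) (tt N20161 D52931))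
theorem Q18273 : ∀ i, i < 18273 → P i := stepQ 18272 Q18272 (allL N18272 (tt N17112 F228368) (tt N16923 F228369) (tt N18272 F228370) (tt N20149 (iv F236828)) (tt N20055 (iv F236233)) (tt N16190 F228371) (tt N20161 (iv F236897)) (tt N16192 F228372) (tt N20162 D52932) (tt N16189 (iv D51042)))
theorem Q18274 : ∀ i, i < 18274 → P i := stepQ 18273 Q18273 (allL N18273 (tt N17116 F228373) (tt N16924 F228374) (tt N18273 F228375) (tt N20163 D52933) (tt N16191 F228376) (tt N20162 (iv F236903)) (tt N18273 F228377) (tt N16193 F228378) (tt N16190 (iv D51043)) (tt N18273 F228379))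
theorem Q18275 : ∀ i, i < 18275 → P i := stepQ 18274 Q18274 (allL N18274 (tt N17113 F228380) (tt N16927 F228381) (tt N18274 F228382) (tt N20164 D52934) (tt N20056 (iv F236241)) (tt N16193 F228383) (tt N17001 F228384) (tt N20162 (iv F236904)) (tt N16192 (iv D51044)) (tt N18274 F228385))
theorem Q18276 : ∀ i, i < 18276 → P i := stepQ 18275 Q18275 (allL N18275 (tt N17117 F228386) (tt N16928 F228387) (tt N20165 D52935) (tt N16193 (iv D51045)) (tt N16353 F228388) (tt N20164 (iv F236914)) (tt N16194 F228389) (tt N20163 (iv F236910)) (tt N20156 (iv F236867)) (tt N18275 F228390))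
theorem Q18277 : ∀ i, i < 18277 → P i := stepQ 18276 Q18276 (allL N18276 (tt N17118 F228391) (tt N20166 D52936) (tt N16194 (iv D51046)) (tt N18276 F228392) (tt N16357 F228393) (tt N17003 F228394) (tt N20165 (iv F236920)) (tt N18276 F228395) (tt N20160 (iv F236891)) (tt N18276 F228396))
theorem Q18278 : ∀ i, i < 18278 → P i := stepQ 18277 Q18277 (allL N18277 (tt N18054 F228397) (tt N17947 F228398) (tt N16197 F228399) (tt N20133 (iv F236744)) (tt N17483 F228400) (tt N16203 F228401) (tt N17487 F228402) (tt N16200 F228403) (tt N20167 D52937) (tt N16196 (iv D51047)))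
theorem Q18279 : ∀ i, i < 18279 → P i := stepQ 18278 Q18278 (allL N18278 (tt N18043 F228404) (tt N16211 F228405) (tt N20167 (iv F236931)) (tt N16361 F228406) (tt N17484 F228407) (tt N16204 F228408) (tt N17489 F228409) (tt N16202 F228410) (tt N16197 (iv D51048)) (tt N18278 F228411))
theorem Q18280 : ∀ i, i < 18280 → P i := stepQ 18279 Q18279 (allL N18279 (tt N17951 F228412) (tt N16199 F228413) (tt N16212 F228414) (tt N20168 D52938) (tt N16198 (iv D51049)) (tt N18279 F228415) (tt N16359 F228416) (tt N17191 F228417) (tt N18279 F228418) (tt N20169 D52939))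
theorem Q18281 : ∀ i, i < 18281 → P i := stepQ 18280 Q18280 (allL N18280 (tt N17952 F228419) (tt N16200 F228420) (tt N16213 F228421) (tt N20138 (iv F236771)) (tt N20169 (iv F236946)) (tt N16205 F228422) (tt N17315 F228423) (tt N17947 F228424) (tt N20170 D52940) (tt N16198 (iv D51050)))
theorem Q18282 : ∀ i, i < 18282 → P i := stepQ 18281 Q18281 (allL N18281 (tt N18033 F228425) (tt N20168 (iv F236938)) (tt N16311 F228426) (tt N16199 (iv D51051)) (tt N20139 (iv F236777)) (tt N18281 F228427) (tt N16313 F228428) (tt N17430 F228429) (tt N20171 D52941) (tt N20172 D52942))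
theorem Q18283 : ∀ i, i < 18283 → P i := stepQ 18282 Q18282 (allL N18282 (tt N18038 F228430) (tt N20169 (iv F236944)) (tt N16201 F228431) (tt N20172 (iv F236965)) (tt N16200 F228432) (tt N18282 F228433) (tt N16360 F228434) (tt N17483 F228435) (tt N20173 D52943) (tt N16199 (iv D51052)))
theorem Q18284 : ∀ i, i < 18284 → P i := stepQ 18283 Q18283 (allL N18283 (tt N18055 F228436) (tt N20170 (iv F236951)) (tt N16202 F228437) (tt N20174 D52944) (tt N20173 (iv F236971)) (tt N16206 F228438) (tt N17316 F228439) (tt N20167 (iv F236935)) (tt N16200 (iv D51053)) (tt N18283 F228440))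
theorem Q18285 : ∀ i, i < 18285 → P i := stepQ 18284 Q18284 (allL N18284 (tt N18042 F228441) (tt N16216 F228442) (tt N20173 (iv F236970)) (tt N17489 F228443) (tt N16202 F228444) (tt N18284 F228445) (tt N16361 F228446) (tt N17484 F228447) (tt N16201 (iv D51054)) (tt N18284 F228448))
theorem Q18286 : ∀ i, i < 18286 → P i := stepQ 18285 Q18285 (allL N18285 (tt N18044 F228449) (tt N18074 F228450) (tt N16204 F228451) (tt N20175 D52945) (tt N18285 F228452) (tt N20167 (iv F236933)) (tt N18285 F228453) (tt N16206 F228454) (tt N16203 (iv D51055)) (tt N18285 F228455))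
theorem Q18287 : ∀ i, i < 18287 → P i := stepQ 18286 Q18286 (allL N18286 (tt N18075 F228456) (tt N16206 F228457) (tt N16218 F228458) (tt N20176 D52946) (tt N18286 F228459) (tt N20170 (iv F236953)) (tt N16208 F228460) (tt N18074 F228461) (tt N16205 (iv D51056)) (tt N18286 F228462))
theorem Q18288 : ∀ i, i < 18288 → P i := stepQ 18287 Q18287 (allL N18287 (tt N18065 F228463) (tt N20176 (iv F236988)) (tt N16374 F228464) (tt N16206 (iv D51057)) (tt N20177 D52947) (tt N20174 (iv F236978)) (tt N16209 F228465) (tt N20175 (iv F236985)) (tt N20154 (iv F236858)) (tt N18287 F228466))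
theorem Q18289 : ∀ i, i < 18289 → P i := stepQ 18288 Q18288 (allL N18288 (tt N16208 F228467) (tt N18060 F228468) (tt N16220 F228469) (tt N16932 (iv F228475)) (tt N18288 F228470) (tt N17323 F228471) (tt N18075 F228472) (tt N18288 F228473) (tt N16207 (iv D51058)) (tt N18288 F228474))
theorem Q18290 : ∀ i, i < 18290 → P i := stepQ 18289 Q18289 (allL N18289 (tt N16932 F228476) (tt N16209 F228477) (tt N16878 F228478) (tt N16208 (iv D51059)) (tt N17003 (iv F228482)) (tt N17324 F228479) (tt N20176 (iv F236990)) (tt N18289 F228480) (tt N20157 (iv F236873)) (tt N18289 F228481))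
theorem Q18291 : ∀ i, i < 18291 → P i := stepQ 18290 Q18290 (allL N18290 (tt N18064 F228483) (tt N17003 F228484) (tt N16377 F228485) (tt N18290 F228486) (tt N16209 (iv D51060)) (tt N20166 (iv F236926)) (tt N20177 (iv F236998)) (tt N18290 F228487) (tt N20159 (iv F236886)) (tt N18290 F228488))
theorem Q18292 : ∀ i, i < 18292 → P i := stepQ 18291 Q18291 (allL N18291 (tt N18291 F228489) (tt N17948 F228490) (tt N16211 F228491) (tt N16668 F228492) (tt N16842 F228493) (tt N16217 F228494) (tt N17505 F228495) (tt N16215 F228496) (tt N16210 (iv D51061)) (tt N18291 F228497))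
theorem Q18293 : ∀ i, i < 18293 → P i := stepQ 18292 Q18292 (allL N18292 (tt N17953 F228498) (tt N16214 F228499) (tt N20169 (iv F236945)) (tt N17131 F228500) (tt N16213 F228501) (tt N18292 F228502) (tt N16379 F228503) (tt N17141 F228504) (tt N20178 D52948) (tt N16212 (iv D51062)))
theorem Q18294 : ∀ i, i < 18294 → P i := stepQ 18293 Q18293 (allL N18293 (tt N17954 F228505) (tt N16215 F228506) (tt N20170 (iv F236952)) (tt N20179 D52949) (tt N20178 (iv F237003)) (tt N16218 F228507) (tt N17327 F228508) (tt N17948 F228509) (tt N16213 (iv D51063)) (tt N18293 F228510))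
theorem Q18295 : ∀ i, i < 18295 → P i := stepQ 18294 Q18294 (allL N18294 (tt N18294 F228511) (tt N20178 (iv F237001)) (tt N16216 F228512) (tt N16836 F228513) (tt N16215 F228514) (tt N18294 F228515) (tt N16380 F228516) (tt N16842 F228517) (tt N16214 (iv D51064)) (tt N18294 F228518))
theorem Q18296 : ∀ i, i < 18296 → P i := stepQ 18295 Q18295 (allL N18295 (tt N18295 F228519) (tt N20179 (iv F237009)) (tt N16386 F228520) (tt N16215 (iv D51065)) (tt N16662 F228521) (tt N16219 F228522) (tt N17328 F228523) (tt N16668 F228524) (tt N16661 F228525) (tt N18295 F228526))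
theorem Q18297 : ∀ i, i < 18297 → P i := stepQ 18296 Q18296 (allL N18296 (tt N18296 F228527) (tt N18073 F228528) (tt N16389 F228529) (tt N16217 (iv D51066)) (tt N16553 (iv F228535)) (tt N16668 F228530) (tt N18296 F228531) (tt N16219 F228532) (tt N16552 F228533) (tt N18296 F228534))
theorem Q18298 : ∀ i, i < 18298 → P i := stepQ 18297 Q18297 (allL N18297 (tt N16849 F228536) (tt N16219 F228537) (tt N16877 (iv F228542)) (tt N16218 (iv D51067)) (tt N16845 (iv F228543)) (tt N20179 (iv F237011)) (tt N16221 F228538) (tt N18073 F228539) (tt N16844 F228540) (tt N18297 F228541))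
theorem Q18299 : ∀ i, i < 18299 → P i := stepQ 18298 Q18298 (allL N18298 (tt N18298 F228544) (tt N16845 F228545) (tt N16392 F228546) (tt N18298 F228547) (tt N16219 (iv D51068)) (tt N16555 F228548) (tt N16222 F228549) (tt N16553 F228550) (tt N16550 F228551) (tt N18298 F228552))
theorem Q18300 : ∀ i, i < 18300 → P i := stepQ 18299 Q18299 (allL N18299 (tt N16941 F228553) (tt N16247 F228554) (tt N17155 F228555) (tt N20180 D52950) (tt N16883 F228556) (tt N16225 F228557) (tt N16880 F228558) (tt N16224 F228559) (tt N16223 (iv D51069)) (tt N20181 D52951))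
theorem Q18301 : ∀ i, i < 18301 → P i := stepQ 18300 Q18300 (allL N18300 (tt N16942 F228560) (tt N16248 F228561) (tt N16913 F228562) (tt N16224 (iv D51070)) (tt N20182 D52952) (tt N16226 F228563) (tt N16910 F228564) (tt N20180 (iv F237022)) (tt N16231 F228565) (tt N20183 D52953))
theorem Q18302 : ∀ i, i < 18302 → P i := stepQ 18301 Q18301 (allL N18301 (tt N16943 F228566) (tt N16249 F228567) (tt N17785 F228568) (tt N20183 (iv F237042)) (tt N17732 F228569) (tt N16227 F228570) (tt N17333 F228571) (tt N20181 (iv F237030)) (tt N17780 F228572) (tt N16224 (iv D51071)))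
theorem Q18303 : ∀ i, i < 18303 → P i := stepQ 18302 Q18302 (allL N18302 (tt N16944 F228573) (tt N16250 F228574) (tt N16918 F228575) (tt N16225 (iv D51072)) (tt N16954 (iv F228579)) (tt N20180 (iv F237020)) (tt N18302 F228576) (tt N16226 F228577) (tt N16233 F228578) (tt N20184 D52954))
theorem Q18304 : ∀ i, i < 18304 → P i := stepQ 18303 Q18303 (allL N18303 (tt N16945 F228580) (tt N16251 F228581) (tt N17786 F228582) (tt N20184 (iv F237048)) (tt N18303 F228583) (tt N20181 (iv F237028)) (tt N18303 F228584) (tt N16227 F228585) (tt N17784 F228586) (tt N16225 (iv D51073)))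
theorem Q18305 : ∀ i, i < 18305 → P i := stepQ 18304 Q18304 (allL N18304 (tt N16946 F228587) (tt N16254 F228588) (tt N16919 F228589) (tt N16227 F228590) (tt N16956 F228591) (tt N20183 (iv F237043)) (tt N16228 F228592) (tt N20184 (iv F237051)) (tt N20185 D52955) (tt N16226 (iv D51074)))
theorem Q18306 : ∀ i, i < 18306 → P i := stepQ 18305 Q18305 (allL N18305 (tt N16947 F228593) (tt N16257 F228594) (tt N16920 F228595) (tt N17429 F228596) (tt N16958 F228597) (tt N16917 F228598) (tt N20185 (iv F237057)) (tt N18305 F228599) (tt N16228 (iv D51075)) (tt N16240 F228600))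
theorem Q18307 : ∀ i, i < 18307 → P i := stepQ 18306 Q18306 (allL N18306 (tt N16948 F228601) (tt N16258 F228602) (tt N18306 F228603) (tt N20186 D52956) (tt N16604 F228604) (tt N18306 F228605) (tt N16230 F228606) (tt N16603 F228607) (tt N16229 (iv D51076)) (tt N20187 D52957))
theorem Q18308 : ∀ i, i < 18308 → P i := stepQ 18307 Q18307 (allL N18307 (tt N16949 F228608) (tt N16259 F228609) (tt N20188 D52958) (tt N16230 (iv D51077)) (tt N20189 D52959) (tt N16233 F228610) (tt N20186 (iv F237062)) (tt N16231 F228611) (tt N20180 (iv F237023)) (tt N20190 D52960))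
theorem Q18309 : ∀ i, i < 18309 → P i := stepQ 18308 Q18308 (allL N18308 (tt N16950 F228612) (tt N16260 F228613) (tt N18308 F228614) (tt N20190 (iv F237086)) (tt N17988 F228615) (tt N16234 F228616) (tt N20187 (iv F237070)) (tt N16232 F228617) (tt N17482 F228618) (tt N16230 (iv D51078)))
theorem Q18310 : ∀ i, i < 18310 → P i := stepQ 18309 Q18309 (allL N18309 (tt N16951 F228619) (tt N16969 F228620) (tt N16231 (iv D51079)) (tt N18309 F228621) (tt N20191 D52961) (tt N16235 F228622) (tt N16890 F228623) (tt N20188 (iv F237077)) (tt N16913 F228624) (tt N20192 D52962))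
theorem Q18311 : ∀ i, i < 18311 → P i := stepQ 18310 Q18310 (allL N18310 (tt N16952 F228625) (tt N16262 F228626) (tt N20191 (iv F237091)) (tt N20061 (iv F236278)) (tt N16231 (iv D51080)) (tt N20193 D52963) (tt N17336 F228627) (tt N20189 (iv F237083)) (tt N20182 (iv F237038)) (tt N20194 D52964))
theorem Q18312 : ∀ i, i < 18312 → P i := stepQ 18311 Q18311 (allL N18311 (tt N16953 F228628) (tt N16263 F228629) (tt N20192 (iv F237097)) (tt N16232 F228630) (tt N20194 (iv F237111)) (tt N16237 F228631) (tt N17337 F228632) (tt N20190 (iv F237088)) (tt N20195 D52965) (tt N16231 (iv D51081)))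
theorem Q18313 : ∀ i, i < 18313 → P i := stepQ 18312 Q18312 (allL N18312 (tt N16954 F228633) (tt N16967 F228634) (tt N16233 (iv D51082)) (tt N18312 F228635) (tt N16944 F228636) (tt N20188 (iv F237076)) (tt N18312 F228637) (tt N16235 F228638) (tt N16918 F228639) (tt N20196 D52966))
theorem Q18314 : ∀ i, i < 18314 → P i := stepQ 18313 Q18313 (allL N18313 (tt N16955 F228640) (tt N16264 F228641) (tt N20196 (iv F237120)) (tt N16234 F228642) (tt N17994 F228643) (tt N20190 (iv F237087)) (tt N18313 F228644) (tt N16237 F228645) (tt N20197 D52967) (tt N16233 (iv D51083)))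
theorem Q18315 : ∀ i, i < 18315 → P i := stepQ 18314 Q18314 (allL N18314 (tt N16956 F228646) (tt N16970 F228647) (tt N16237 F228648) (tt N18314 F228649) (tt N16946 F228650) (tt N20192 (iv F237099)) (tt N16238 F228651) (tt N20196 (iv F237124)) (tt N20198 D52968) (tt N16235 (iv D51084)))
theorem Q18316 : ∀ i, i < 18316 → P i := stepQ 18315 Q18315 (allL N18315 (tt N16913 F228652) (tt N16266 F228653) (tt N16942 F228654) (tt N16241 F228655) (tt N20193 (iv F237105)) (tt N16236 (iv D51085)) (tt N16870 F228656) (tt N17695 F228657) (tt N16951 F228658) (tt N20199 D52969))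
theorem Q18317 : ∀ i, i < 18317 → P i := stepQ 18316 Q18316 (allL N18316 (tt N16919 F228659) (tt N16267 F228660) (tt N16946 F228661) (tt N16242 F228662) (tt N16237 F228663) (tt N20199 (iv F237141)) (tt N16239 F228664) (tt N17994 F228665) (tt N20200 D52970) (tt N16236 (iv D51086)))
theorem Q18318 : ∀ i, i < 18318 → P i := stepQ 18317 Q18317 (allL N18317 (tt N16957 F228666) (tt N16268 F228667) (tt N20198 (iv F237133)) (tt N17481 F228668) (tt N20200 (iv F237147)) (tt N20195 (iv F237116)) (tt N16240 F228669) (tt N20197 (iv F237130)) (tt N16237 (iv D51087)) (tt N20185 (iv F237058)))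
theorem Q18319 : ∀ i, i < 18319 → P i := stepQ 18318 Q18318 (allL N18318 (tt N16958 F228670) (tt N16972 F228671) (tt N16240 F228672) (tt N20201 D52971) (tt N16947 F228673) (tt N16893 F228674) (tt N20198 (iv F237135)) (tt N18318 F228675) (tt N16238 (iv D51088)) (tt N16920 F228676))
theorem Q18320 : ∀ i, i < 18320 → P i := stepQ 18319 Q18319 (allL N18319 (tt N16920 F228677) (tt N16272 F228678) (tt N16947 F228679) (tt N20202 D52972) (tt N16240 F228680) (tt N16873 F228681) (tt N20200 (iv F237148)) (tt N18319 F228682) (tt N16239 (iv D51089)) (tt N16958 F228683))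
theorem Q18321 : ∀ i, i < 18321 → P i := stepQ 18320 Q18320 (allL N18320 (tt N16926 F228684) (tt N16274 F228685) (tt N17712 F228686) (tt N20199 (iv F237140)) (tt N17692 F228687) (tt N16242 F228688) (tt N16876 F228689) (tt N17696 F228690) (tt N20203 D52973) (tt N16241 (iv D51090)))
theorem Q18322 : ∀ i, i < 18322 → P i := stepQ 18321 Q18321 (allL N18321 (tt N16930 F228691) (tt N16275 F228692) (tt N17332 F228693) (tt N20204 D52974) (tt N16243 F228694) (tt N20203 (iv F237171)) (tt N16245 F228695) (tt N17995 F228696) (tt N16242 (iv D51091)) (tt N18321 F228697))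
theorem Q18323 : ∀ i, i < 18323 → P i := stepQ 18322 Q18322 (allL N18322 (tt N16931 F228698) (tt N16279 F228699) (tt N17324 F228700) (tt N16245 (iv D51092)) (tt N16356 F228701) (tt N16878 F228702) (tt N20204 (iv F237179)) (tt N18322 F228703) (tt N20202 (iv F237165)) (tt N18322 F228704))
theorem Q18324 : ∀ i, i < 18324 → P i := stepQ 18323 Q18323 (allL N18323 (tt N16288 F228705) (tt N17731 F228706) (tt N17494 (iv F228710)) (tt N16246 (iv D51093)) (tt N20205 D52975) (tt N18323 F228707) (tt N17292 F228708) (tt N20111 (iv F236608)) (tt N17276 F228709) (tt N20206 D52976))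
theorem Q18325 : ∀ i, i < 18325 → P i := stepQ 18324 Q18324 (allL N18324 (tt N16289 F228711) (tt N17732 F228712) (tt N18324 F228713) (tt N20206 (iv F237191)) (tt N16249 F228714) (tt N18324 F228715) (tt N17293 F228716) (tt N20112 (iv F236617)) (tt N17402 F228717) (tt N16246 (iv D51094)))
theorem Q18326 : ∀ i, i < 18326 → P i := stepQ 18325 Q18325 (allL N18325 (tt N16291 F228718) (tt N20180 (iv F237018)) (tt N18034 (iv F228722)) (tt N16247 (iv D51095)) (tt N20207 D52977) (tt N16250 F228719) (tt N20106 (iv F236576)) (tt N16248 F228720) (tt N16259 F228721) (tt N20208 D52978))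
theorem Q18327 : ∀ i, i < 18327 → P i := stepQ 18326 Q18326 (allL N18326 (tt N16292 F228723) (tt N20181 (iv F237025)) (tt N18326 F228724) (tt N20208 (iv F237201)) (tt N20112 (iv F236614)) (tt N16251 F228725) (tt N20107 (iv F236585)) (tt N16249 F228726) (tt N18072 F228727) (tt N16247 (iv D51096)))
theorem Q18328 : ∀ i, i < 18328 → P i := stepQ 18327 Q18327 (allL N18327 (tt N16293 F228728) (tt N16990 F228729) (tt N16248 (iv D51097)) (tt N18327 F228730) (tt N20209 D52979) (tt N16252 F228731) (tt N17340 F228732) (tt N18034 F228733) (tt N16261 F228734) (tt N20210 D52980))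
theorem Q18329 : ∀ i, i < 18329 → P i := stepQ 18328 Q18328 (allL N18328 (tt N16294 F228735) (tt N20182 (iv F237033)) (tt N20209 (iv F237206)) (tt N20205 (iv F237185)) (tt N16248 (iv D51098)) (tt N20211 D52981) (tt N17341 F228736) (tt N20207 (iv F237197)) (tt N16262 F228737) (tt N20212 D52982))
theorem Q18330 : ∀ i, i < 18330 → P i := stepQ 18329 Q18329 (allL N18329 (tt N16295 F228738) (tt N20183 (iv F237040)) (tt N20210 (iv F237213)) (tt N16249 F228739) (tt N20212 (iv F237226)) (tt N16254 F228740) (tt N17342 F228741) (tt N20208 (iv F237203)) (tt N20213 D52983) (tt N16248 (iv D51099)))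

end Cfsg.Agent.Helper17.Fi23TC
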